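import Cfsg.Prelude.Def_Amalgam

set_option autoImplicit false

namespace Cfsg.Agent.Helper14

open Cfsg

section Basic

variable {G : Type*} [Group G] (p : ℕ)

theorem pCore_isPGroup : IsPGroup p ↥(pCore p G) :=
  Sylow.sSup_of_normal _ (fun _ h => h.2) (fun _ h => h.1)

instance pCore_normal : (pCore p G).Normal :=
  Subgroup.sSup_normal _ (fun _ h => h.1)

theorem le_pCore {N : Subgroup G} (hN : N.Normal) (hp : IsPGroup p ↥N) : N ≤ pCore p G :=
  le_sSup ⟨hN, hp⟩

theorem pCore_le_sylow (P : Sylow p G) : pCore p G ≤ (P : Subgroup G) :=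
  (pCore_isPGroup (G := G) p).le_sylow_of_normal P

theorem pCore_map_equiv {H : Type*} [Group H] (e : G ≃* H) :
    (pCore p G).map e.toMonoidHom = pCore p H := by
  apply le_antisymm
  · apply le_pCore
    · exact Subgroup.Normal.map (pCore_normal p) _ e.surjective
    · exact (pCore_isPGroup p).map _
  · have h1 : (pCore p H).map e.symm.toMonoidHom ≤ pCore p G := by
      apply le_pCore
      · exact Subgroup.Normal.map (pCore_normal p) _ e.symm.surjective
      · exact (pCore_isPGroup p).map _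
    intro x hx
    refine ⟨e.symm x, h1 ⟨x, hx, rfl⟩, ?_⟩
    simp

instance pCore_characteristic : (pCore p G).Characteristic := by
  rw [Subgroup.characteristic_iff_map_eq]
  intro ϕ
  exact pCore_map_equiv p ϕ

end Basic

section Ambient

variable {X : Type*} [Group X] (p : ℕ)

theorem pCoreOf_le (H : Subgroup X) : pCoreOf p H ≤ H := by
  rintro _ ⟨x, _, rfl⟩
  exact x.2

theorem pCoreOf_isPGroup (H : Subgroup X) : IsPGroup p ↥(pCoreOf p H) :=
  (pCore_isPGroup (G := H) p).map _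

theorem le_normalizer_pCoreOf (H : Subgroup X) :
    H ≤ Subgroup.normalizer (pCoreOf p H : Set X) := by
  intro h hh
  rw [Subgroup.mem_normalizer_iff]
  intro x
  constructor
  · rintro ⟨y, hy, rfl⟩
    refine ⟨⟨h, hh⟩ * y * ⟨h, hh⟩⁻¹, (pCore_normal (G := H) p).conj_mem y hy ⟨h, hh⟩, rfl⟩
  · rintro ⟨y, hy, hyx⟩
    have hy' := (pCore_normal (G := H) p).conj_mem y hy ⟨h, hh⟩⁻¹
    refine ⟨⟨h, hh⟩⁻¹ * y * ⟨h, hh⟩⁻¹⁻¹, hy', ?_⟩
    have : (H.subtype y : X) = h * x * h⁻¹ := hyx
    simp only [inv_inv, Subgroup.subtype_apply, Subgroup.coe_mul, Subgroup.coe_inv] at this ⊢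
    rw [this]
    group

theorem le_pCoreOf {H N : Subgroup X} (hNH : N ≤ H) (hnorm : H ≤ Subgroup.normalizer (N : Set X))
    (hp : IsPGroup p ↥N) : N ≤ pCoreOf p H := by
  have h1 : N.subgroupOf H ≤ pCore p ↥H := by
    apply le_pCore
    · exact (Subgroup.normal_subgroupOf_iff_le_normalizer hNH).2 hnorm
    · exact hp.comap_subtype
  intro x hx
  exact ⟨⟨x, hNH hx⟩, h1 (by simpa [Subgroup.mem_subgroupOf] using hx), rfl⟩

theorem map_conj_le_normalizer {H N : Subgroup X} (y : X)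
    (h : H ≤ Subgroup.normalizer (N : Set X)) :
    H.map (MulAut.conj y).toMonoidHom ≤
      Subgroup.normalizer ((N.map (MulAut.conj y).toMonoidHom : Subgroup X) : Set X) := by
  rintro _ ⟨g, hg, rfl⟩
  have hg' := h hg
  rw [Subgroup.mem_normalizer_iff] at hg' ⊢
  intro x
  constructor
  · rintro ⟨n, hn, rfl⟩
    refine ⟨g * n * g⁻¹, (hg' n).1 hn, ?_⟩
    simp only [MulEquiv.coe_toMonoidHom, MulAut.conj_apply]
    group
  · rintro ⟨n, hn, hnx⟩
    refine ⟨g⁻¹ * n * g, ?_, ?_⟩
    · have := (hg' (g⁻¹ * n * g)).2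
      apply this
      have e : g * (g⁻¹ * n * g) * g⁻¹ = n := by group
      rw [e]; exact hn
    · simp only [MulEquiv.coe_toMonoidHom, MulAut.conj_apply] at hnx ⊢
      have : x = (y * g * y⁻¹)⁻¹ * (y * n * y⁻¹) * (y * g * y⁻¹) := by rw [hnx]; group
      rw [this]; group

theorem pCoreOf_map_conj (H : Subgroup X) (y : X) :
    pCoreOf p (H.map (MulAut.conj y).toMonoidHom) =
      (pCoreOf p H).map (MulAut.conj y).toMonoidHom := by
  have key : ∀ (K : Subgroup X) (z : X), (pCoreOf p K).map (MulAut.conj z).toMonoidHom ≤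
      pCoreOf p (K.map (MulAut.conj z).toMonoidHom) := by
    intro K z
    apply le_pCoreOf
    · exact Subgroup.map_mono (pCoreOf_le p K)
    · exact map_conj_le_normalizer z (le_normalizer_pCoreOf p K)
    · exact (pCoreOf_isPGroup p K).map _
  apply le_antisymm _ (key H y)
  have h2 := key (H.map (MulAut.conj y).toMonoidHom) y⁻¹
  have e : ∀ K : Subgroup X, (K.map (MulAut.conj y).toMonoidHom).map (MulAut.conj y⁻¹).toMonoidHom = K := by
    intro K
    ext x
    constructor
    · rintro ⟨_, ⟨k, hk, rfl⟩, rfl⟩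
      simpa [mul_assoc] using hk
    · intro hx
      exact ⟨y * x * y⁻¹, ⟨x, hx, rfl⟩, by simp [mul_assoc]⟩
  rw [e] at h2
  intro x hx
  have := h2 ⟨x, hx, rfl⟩
  refine ⟨y⁻¹ * x * y, by simpa using this, ?_⟩
  simp [mul_assoc]

end Ambient

end Cfsg.Agent.Helper14
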