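import Cfsg.Agent.Helper14.Subnormal
import Cfsg.Prelude.Def_BaumannBlocks

set_option autoImplicit false
set_option linter.unusedSectionVars false

namespace Cfsg.Agent.Helper14

open Cfsg
open scoped commutatorElement Pointwise

section

variable {H : Type*} [Group H] {p : ℕ}

/-- `O^p(B)` viewed in the ambient group is generated by the `p'`-elements of `B` -/
theorem pResidualOf_eq_closure (B : Subgroup H) :
    (pResidual p ↥B).map B.subtype =
      Subgroup.closure {b : H | b ∈ B ∧ Nat.Coprime (orderOf b) p} := by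
  unfold pResidual
  rw [MonoidHom.map_closure]
  congr 1
  ext b
  constructor
  · rintro ⟨x, hx, rfl⟩
    have hx' : Nat.Coprime (orderOf x) p := hx
    refine ⟨x.2, ?_⟩
    rw [Subgroup.subtype_apply, Subgroup.orderOf_coe]
    exact hx'
  · rintro ⟨hb, hcop⟩
    refine ⟨⟨b, hb⟩, ?_, rfl⟩
    show Nat.Coprime (orderOf (⟨b, hb⟩ : ↥B)) p
    rw [← Subgroup.orderOf_coe]
    exact hcop

theorem pResidualOf_mono {B K : Subgroup H} (h : B ≤ K) :
    (pResidual p ↥B).map B.subtype ≤ (pResidual p ↥K).map K.subtype := by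
  rw [pResidualOf_eq_closure, pResidualOf_eq_closure]
  apply Subgroup.closure_mono
  rintro b ⟨hb, hcop⟩
  exact ⟨h hb, hcop⟩

/-- a `p'`-element of `N D` (`D` a `p`-group normalizing `N`) lies in `N` -/
theorem mem_of_coprime_of_mem_sup' [Fact p.Prime] (N D : Subgroup H)
    (hDN : D ≤ Subgroup.normalizer (N : Set H))
    (hD : IsPGroup p ↥D) {g : H} (hg : g ∈ N ⊔ D) (hcop : Nat.Coprime (orderOf g) p) : g ∈ N := by
  set M := Subgroup.normalizer (N : Set H) with hM
  have hNM : N ≤ M := Subgroup.le_normalizer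
  have hgM : g ∈ M := (sup_le hNM hDN) hg
  have hn : (N.subgroupOf M).Normal := Subgroup.normal_in_normalizer
  have h1 : (⟨g, hgM⟩ : ↥M) ∈ N.subgroupOf M ⊔ D.subgroupOf M := by
    rw [← Subgroup.subgroupOf_sup hNM hDN, Subgroup.mem_subgroupOf]
    exact hg
  have h2 : Nat.Coprime (orderOf (⟨g, hgM⟩ : ↥M)) p := by
    rw [← Subgroup.orderOf_coe]; exact hcop
  have := mem_of_coprime_of_mem_sup (N.subgroupOf M) (D.subgroupOf M) hD.comap_subtype h1 h2
  exact Subgroup.mem_subgroupOf.1 this

end

section Main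

variable {H : Type*} [Group H] [Finite H] {p : ℕ} [Fact p.Prime]

/-- `O_p(K) ≤ O_p(H)` for subnormal `K` -/
theorem pCoreOf_le_pCore_of_isSubnormal {K : Subgroup H} (hK : K.IsSubnormal) :
    pCoreOf p K ≤ pCore p H := by
  induction hK with
  | top =>
    apply le_pCore p _ (pCoreOf_isPGroup p _)
    rw [← Subgroup.normalizer_eq_top_iff, eq_top_iff]
    exact le_normalizer_pCoreOf p ⊤
  | step B K hBK hK hN ih =>
    refine le_trans ?_ ih
    apply le_pCoreOf p ((pCoreOf_le p B).trans hBK) _ (pCoreOf_isPGroup p B)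
    have hKB : K ≤ Subgroup.normalizer (B : Set H) :=
      (Subgroup.normal_subgroupOf_iff_le_normalizer hBK).1 hN
    apply le_normalizer_of_map_cj_le
    intro k hk
    exact (map_cj_map_subtype_of_characteristic B (pCore p ↥B) (hKB hk)).le

/-- a subnormal `p`-subgroup lies in `O_p(H)` -/
theorem le_pCore_of_isSubnormal {A : Subgroup H} (hA : A.IsSubnormal) (hAp : IsPGroup p ↥A) :
    A ≤ pCore p H :=
  (le_pCoreOf p le_rfl Subgroup.le_normalizer hAp).trans (pCoreOf_le_pCore_of_isSubnormal hA)

/-- `O_p(H)` normalizes `O^p(K)` for every subnormal `K` -/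
theorem pCore_le_normalizer_pResidualOf {K : Subgroup H} (hK : K.IsSubnormal) :
    pCore p H ≤ Subgroup.normalizer (((pResidual p ↥K).map K.subtype : Subgroup H) : Set H) := by
  induction hK with
  | top =>
    have hn : ((pResidual p ↥(⊤ : Subgroup H)).map (⊤ : Subgroup H).subtype).Normal := inferInstance
    rw [Subgroup.normalizer_eq_top_iff.2 hn]
    exact le_top
  | step B K hBK hK hN ih =>
    set P := pCore p H with hP
    set K' := (pResidual p ↥K).map K.subtype with hK'
    set B' := (pResidual p ↥B).map B.subtype with hB'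
    have hKB : K ≤ Subgroup.normalizer (B : Set H) :=
      (Subgroup.normal_subgroupOf_iff_le_normalizer hBK).1 hN
    have hKB' : K ≤ Subgroup.normalizer (B' : Set H) := by
      apply le_normalizer_of_map_cj_le
      intro k hk
      exact (map_cj_map_subtype_of_characteristic B (pResidual p ↥B) (hKB hk)).le
    have hB'K' : B' ≤ K' := pResidualOf_mono hBK
    have hK'K : K' ≤ K := map_subtype_le _
    have hPn : P.Normal := pCore_normal p
    apply le_normalizer_of_map_cj_le
    intro x hx
    rw [hB', pResidualOf_eq_closure, MonoidHom.map_closure, Subgroup.closure_le]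
    rintro _ ⟨b, ⟨hbB, hcop⟩, rfl⟩
    rw [SetLike.mem_coe, ← pResidualOf_eq_closure]
    show cj x b ∈ B'
    have hbB' : b ∈ B' := by
      rw [hB', pResidualOf_eq_closure]
      exact Subgroup.subset_closure ⟨hbB, hcop⟩
    have hxbK' : cj x b ∈ K' := by
      have := mem_normalizer_iff_map_cj.1 (ih hx)
      rw [← this]
      exact ⟨b, hB'K' hbB', rfl⟩
    set D := P ⊓ K' with hD
    have hDp : IsPGroup p ↥D := (pCore_isPGroup (G := H) p).to_le inf_le_left
    have hDN : D ≤ Subgroup.normalizer (B' : Set H) := (inf_le_right.trans hK'K).trans hKB'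
    have hc : ⁅x, b⁆ ∈ D := by
      constructor
      · have : ⁅x, b⁆ = x * (b * x⁻¹ * b⁻¹) := by rw [commutatorElement_def]; group
        rw [this]
        exact P.mul_mem hx (hPn.conj_mem x⁻¹ (P.inv_mem hx) b)
      · have : ⁅x, b⁆ = cj x b * b⁻¹ := by rw [commutatorElement_def, cj_apply]
        rw [this]
        exact K'.mul_mem hxbK' (K'.inv_mem (hB'K' hbB'))
    have hmem : cj x b ∈ B' ⊔ D := by
      have : cj x b = ⁅x, b⁆ * b := by rw [cj_apply, commutatorElement_def]; group
      rw [this]
      exact Subgroup.mul_mem _ (Subgroup.mem_sup_right hc) (Subgroup.mem_sup_left hbB')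
    have hord : orderOf (cj x b) = orderOf b := orderOf_injective (cj x) (cj_injective x) b
    exact mem_of_coprime_of_mem_sup' B' D hDN hDp hmem (hord ▸ hcop)

/-- S2820 -/
theorem subnormal_pGroup_normalizes (A B : Subgroup H) (hA : A.IsSubnormal) (hB : B.IsSubnormal)
    (hAp : IsPGroup p ↥A) (hBres : (pResidual p ↥B).map B.subtype = B) :
    A ≤ Subgroup.normalizer (B : Set H) ∧
      (pResidual p ↥(A ⊔ B)).map (A ⊔ B).subtype = B := by
  have h1 : A ≤ Subgroup.normalizer (B : Set H) := by
    have := pCore_le_normalizer_pResidualOf (p := p) hB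
    rw [hBres] at this
    exact (le_pCore_of_isSubnormal hA hAp).trans this
  refine ⟨h1, ?_⟩
  apply le_antisymm
  · rw [pResidualOf_eq_closure, Subgroup.closure_le]
    rintro g ⟨hg, hcop⟩
    rw [sup_comm] at hg
    exact mem_of_coprime_of_mem_sup' B A h1 hAp hg hcop
  · conv_lhs => rw [← hBres]
    exact pResidualOf_mono le_sup_right

end Main

end Cfsg.Agent.Helper14
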