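import Cfsg.Prelude.Def_Amalgam

set_option autoImplicit false

namespace Cfsg.Agent.Helper14

open Cfsg

variable {X : Type*} [Group X]

/-- conjugation as an explicit monoid hom (abbreviation used in this library) -/
abbrev cj (g : X) : X →* X := (MulAut.conj g).toMonoidHom

theorem cj_apply (g x : X) : cj g x = g * x * g⁻¹ := rfl

theorem cj_injective (g : X) : Function.Injective (cj g) := (MulAut.conj g).injective

theorem mem_map_cj {H : Subgroup X} (g x : X) : x ∈ H.map (cj g) ↔ g⁻¹ * x * g ∈ H := by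
  constructor
  · rintro ⟨h, hh, rfl⟩
    simpa [mul_assoc] using hh
  · intro h
    exact ⟨g⁻¹ * x * g, h, by simp [mul_assoc]⟩

theorem map_cj_map_cj_inv (H : Subgroup X) (g : X) : (H.map (cj g)).map (cj g⁻¹) = H := by
  ext x
  rw [mem_map_cj, mem_map_cj]
  simp [mul_assoc]

theorem map_cj_inv_map_cj (H : Subgroup X) (g : X) : (H.map (cj g⁻¹)).map (cj g) = H := by
  ext x
  rw [mem_map_cj, mem_map_cj]
  simp [mul_assoc]

theorem map_cj_mul (H : Subgroup X) (g h : X) : (H.map (cj h)).map (cj g) = H.map (cj (g * h)) := by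
  ext x
  rw [mem_map_cj, mem_map_cj, mem_map_cj]
  simp [mul_assoc]

theorem map_cj_one (H : Subgroup X) : H.map (cj (1 : X)) = H := by
  ext x
  rw [mem_map_cj]
  simp

theorem map_cj_le_iff (H K : Subgroup X) (g : X) : H.map (cj g) ≤ K ↔ H ≤ K.map (cj g⁻¹) := by
  constructor
  · intro h x hx
    rw [mem_map_cj]
    apply h
    rw [mem_map_cj]
    simpa [mul_assoc] using hx
  · intro h x hx
    rw [mem_map_cj] at hx
    have := h hx
    rw [mem_map_cj] at this
    simpa [mul_assoc] using this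

theorem map_cj_eq_self_of_mem {H : Subgroup X} {g : X} (hg : g ∈ H) : H.map (cj g) = H := by
  ext x
  rw [mem_map_cj]
  constructor
  · intro h
    have := H.mul_mem (H.mul_mem hg h) (H.inv_mem hg)
    simpa [mul_assoc] using this
  · intro h
    exact H.mul_mem (H.mul_mem (H.inv_mem hg) h) hg

theorem mem_normalizer_iff_map_cj {H : Subgroup X} {g : X} :
    g ∈ Subgroup.normalizer (H : Set X) ↔ H.map (cj g) = H :=
  Subgroup.mem_normalizer_iff_map_conj_eq

theorem le_normalizer_of_map_cj_le {H K : Subgroup X} (h : ∀ g ∈ H, K.map (cj g) ≤ K) :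
    H ≤ Subgroup.normalizer (K : Set X) := by
  intro g hg
  rw [Subgroup.mem_normalizer_iff]
  intro x
  constructor
  · intro hx
    exact h g hg ⟨x, hx, rfl⟩
  · intro hx
    have := h g⁻¹ (H.inv_mem hg) ⟨_, hx, rfl⟩
    simpa [cj_apply, mul_assoc] using this

theorem map_cj_centralizer (K : Subgroup X) (g : X) :
    (Subgroup.centralizer (K : Set X)).map (cj g) =
      Subgroup.centralizer ((K.map (cj g) : Subgroup X) : Set X) := by
  ext x
  rw [mem_map_cj, Subgroup.mem_centralizer_iff, Subgroup.mem_centralizer_iff]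
  constructor
  · intro h y hy
    have hy' : y ∈ K.map (cj g) := hy
    rw [mem_map_cj] at hy'
    have := h _ hy'
    have e1 : y * x = g * ((g⁻¹ * y * g) * (g⁻¹ * x * g)) * g⁻¹ := by group
    have e2 : x * y = g * ((g⁻¹ * x * g) * (g⁻¹ * y * g)) * g⁻¹ := by group
    rw [e1, e2, this]
  · intro h y hy
    have hy' : g * y * g⁻¹ ∈ ((K.map (cj g) : Subgroup X) : Set X) := ⟨y, hy, rfl⟩
    have := h _ hy'
    have e1 : y * (g⁻¹ * x * g) = g⁻¹ * ((g * y * g⁻¹) * x) * g := by group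
    have e2 : (g⁻¹ * x * g) * y = g⁻¹ * (x * (g * y * g⁻¹)) * g := by group
    rw [e1, e2, this]

theorem map_cj_normalizer (K : Subgroup X) (g : X) :
    (Subgroup.normalizer (K : Set X)).map (cj g) =
      Subgroup.normalizer ((K.map (cj g) : Subgroup X) : Set X) := by
  ext x
  rw [mem_map_cj, mem_normalizer_iff_map_cj, mem_normalizer_iff_map_cj]
  constructor
  · intro h
    have : (K.map (cj g)).map (cj x) = (K.map (cj (g⁻¹ * x * g))).map (cj g) := by
      rw [map_cj_mul, map_cj_mul]; congr 2; group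
    rw [this, h]
  · intro h
    have : K.map (cj (g⁻¹ * x * g)) = ((K.map (cj g)).map (cj x)).map (cj g⁻¹) := by
      rw [map_cj_mul, map_cj_mul]
    rw [this, h, map_cj_map_cj_inv]

theorem map_cj_omegaOne (p : ℕ) (K : Subgroup X) (g : X) :
    (omegaOne p K).map (cj g) = omegaOne p (K.map (cj g)) := by
  unfold omegaOne
  rw [MonoidHom.map_closure]
  congr 1
  ext x
  constructor
  · rintro ⟨y, ⟨hyK, hyp⟩, rfl⟩
    refine ⟨⟨y, hyK, rfl⟩, ?_⟩
    rw [← map_pow, hyp, map_one]
  · rintro ⟨hx, hxp⟩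
    have hx' : x ∈ K.map (cj g) := hx
    rw [mem_map_cj] at hx'
    refine ⟨g⁻¹ * x * g, ⟨hx', ?_⟩, by simp [mul_assoc]⟩
    have : g⁻¹ * x * g = cj g⁻¹ x := by simp
    rw [this, ← map_pow, hxp, map_one]

theorem omegaOne_le (p : ℕ) (K : Subgroup X) : omegaOne p K ≤ K := by
  unfold omegaOne
  rw [Subgroup.closure_le]
  intro x hx
  exact hx.1

theorem omegaOne_mono (p : ℕ) {K L : Subgroup X} (h : K ≤ L) : omegaOne p K ≤ omegaOne p L := by
  unfold omegaOne
  apply Subgroup.closure_mono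
  intro x hx
  exact ⟨h hx.1, hx.2⟩

theorem map_cj_inf (H K : Subgroup X) (g : X) : (H ⊓ K).map (cj g) = H.map (cj g) ⊓ K.map (cj g) :=
  Subgroup.map_inf H K (cj g) (cj_injective g)

theorem mem_sylow_smul {G : Type*} [Group G] {p : ℕ} (S : Sylow p G) (h y : G) :
    y ∈ (h • S : Sylow p G) ↔ h⁻¹ * y * h ∈ S := by
  have : y ∈ ((h • S : Sylow p G) : Subgroup G) ↔ h⁻¹ * y * h ∈ (S : Subgroup G) := by
    rw [Sylow.coe_subgroup_smul, Subgroup.mem_pointwise_smul_iff_inv_smul_mem]
    simp [MulAut.smul_def]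
  exact this

/-- the image in `X` of the conjugate Sylow subgroup -/
theorem sylow_smul_map {p : ℕ} (H : Subgroup X) (S : Sylow p ↥H) (h : ↥H) :
    ((h • S : Sylow p ↥H) : Subgroup ↥H).map H.subtype =
      ((S : Subgroup ↥H).map H.subtype).map (cj (h : X)) := by
  ext x
  rw [mem_map_cj]
  constructor
  · rintro ⟨y, hy, rfl⟩
    have hy' : y ∈ (h • S : Sylow p ↥H) := hy
    rw [mem_sylow_smul] at hy'
    exact ⟨h⁻¹ * y * h, hy', by simp⟩
  · rintro ⟨s, hs, hsx⟩
    have hsx' : (s : X) = (h : X)⁻¹ * x * (h : X) := hsx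
    have hxe : x = (h : X) * (s : X) * (h : X)⁻¹ := by rw [hsx']; group
    have hxH : x ∈ H := by
      rw [hxe]; exact (h * s * h⁻¹).2
    refine ⟨⟨x, hxH⟩, ?_, rfl⟩
    show (⟨x, hxH⟩ : ↥H) ∈ (h • S : Sylow p ↥H)
    rw [mem_sylow_smul]
    have : h⁻¹ * (⟨x, hxH⟩ : ↥H) * h = s := by
      apply Subtype.ext
      simp only [Subgroup.coe_mul, Subgroup.coe_inv]
      exact hsx'.symm
    rw [this]; exact hs

end Cfsg.Agent.Helper14
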