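import Cfsg.Agent.Helper14.Conj

set_option autoImplicit false

namespace Cfsg.Agent.Helper14

open Cfsg

variable {X : Type*} [Group X] (p : ℕ)

/-- `U` is (the image in `X` of) a Sylow `p`-subgroup of the subgroup `H`. -/
def IsSylowIn (U H : Subgroup X) : Prop :=
  U ≤ H ∧ IsPGroup p ↥U ∧ ∀ Q : Subgroup X, Q ≤ H → IsPGroup p ↥Q → U ≤ Q → Q = U

variable {p}

theorem map_subtype_subgroupOf {U H : Subgroup X} (h : U ≤ H) :
    (U.subgroupOf H).map H.subtype = U := by
  rw [Subgroup.subgroupOf_map_subtype]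
  exact inf_eq_left.2 h

theorem subgroupOf_map_subtype' {H : Subgroup X} (Q : Subgroup ↥H) :
    (Q.map H.subtype).subgroupOf H = Q := by
  ext x
  rw [Subgroup.mem_subgroupOf]
  constructor
  · rintro ⟨y, hy, hyx⟩
    have : y = x := Subtype.ext hyx
    rwa [← this]
  · intro hx
    exact ⟨x, hx, rfl⟩

theorem map_subtype_le {H : Subgroup X} (Q : Subgroup ↥H) : Q.map H.subtype ≤ H := by
  rintro _ ⟨x, _, rfl⟩
  exact x.2

theorem isSylowIn_of_sylow {H : Subgroup X} (P : Sylow p ↥H) :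
    IsSylowIn p ((P : Subgroup ↥H).map H.subtype) H := by
  refine ⟨map_subtype_le _, P.isPGroup'.map _, ?_⟩
  intro Q hQH hQp hle
  have h1 : (P : Subgroup ↥H) ≤ Q.subgroupOf H := by
    intro x hx
    rw [Subgroup.mem_subgroupOf]
    exact hle ⟨x, hx, rfl⟩
  have h2 : Q.subgroupOf H = (P : Subgroup ↥H) := P.is_maximal' (hQp.comap_subtype (K := H)) h1
  rw [← h2, map_subtype_subgroupOf hQH]

/-- the Sylow subgroup of `H` attached to `U` -/
def IsSylowIn.toSylow {U H : Subgroup X} (h : IsSylowIn p U H) : Sylow p ↥H where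
  toSubgroup := U.subgroupOf H
  isPGroup' := h.2.1.comap_subtype
  is_maximal' := by
    intro Q hQ hle
    have h1 : U ≤ Q.map H.subtype := by
      intro x hx
      exact ⟨⟨x, h.1 hx⟩, hle (by simpa [Subgroup.mem_subgroupOf] using hx), rfl⟩
    have h2 := h.2.2 (Q.map H.subtype) (map_subtype_le Q) (hQ.map _) h1
    rw [← h2, subgroupOf_map_subtype']

theorem IsSylowIn.toSylow_map {U H : Subgroup X} (h : IsSylowIn p U H) :
    ((h.toSylow : Sylow p ↥H) : Subgroup ↥H).map H.subtype = U :=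
  map_subtype_subgroupOf h.1

theorem isSylowIn_iff {U H : Subgroup X} :
    IsSylowIn p U H ↔ ∃ P : Sylow p ↥H, (P : Subgroup ↥H).map H.subtype = U := by
  constructor
  · intro h
    exact ⟨h.toSylow, h.toSylow_map⟩
  · rintro ⟨P, rfl⟩
    exact isSylowIn_of_sylow P

theorem IsSylowIn.map_cj {U H : Subgroup X} (h : IsSylowIn p U H) (y : X) :
    IsSylowIn p (U.map (cj y)) (H.map (cj y)) := by
  refine ⟨Subgroup.map_mono h.1, h.2.1.map _, ?_⟩
  intro Q hQH hQp hle
  have h1 : Q.map (cj y⁻¹) ≤ H := by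
    rw [map_cj_le_iff, inv_inv]; exact hQH
  have h2 : U ≤ Q.map (cj y⁻¹) := by
    rw [← map_cj_le_iff]; exact hle
  have h3 := h.2.2 _ h1 (hQp.map _) h2
  rw [← h3, map_cj_inv_map_cj]

/-- Sylow subgroups of a finite subgroup are conjugate -/
theorem IsSylowIn.exists_conj {U U' H : Subgroup X} [Finite ↥H] [Fact p.Prime]
    (h : IsSylowIn p U H) (h' : IsSylowIn p U' H) : ∃ g ∈ H, U' = U.map (cj g) := by
  obtain ⟨g, hg⟩ := MulAction.exists_smul_eq ↥H h.toSylow h'.toSylow
  refine ⟨g, g.2, ?_⟩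
  have := sylow_smul_map H h.toSylow g
  rw [hg, h.toSylow_map, h'.toSylow_map] at this
  exact this

/-- every `p`-subgroup of a subgroup `H` lies in a Sylow `p`-subgroup of `H` -/
theorem exists_isSylowIn_ge {Q H : Subgroup X} (hQH : Q ≤ H) (hQ : IsPGroup p ↥Q) :
    ∃ U, IsSylowIn p U H ∧ Q ≤ U := by
  obtain ⟨P, hP⟩ := (hQ.comap_subtype (K := H)).exists_le_sylow
  refine ⟨_, isSylowIn_of_sylow P, ?_⟩
  intro x hx
  exact ⟨⟨x, hQH hx⟩, hP (by simpa [Subgroup.mem_subgroupOf] using hx), rfl⟩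

theorem exists_isSylowIn (H : Subgroup X) : ∃ U, IsSylowIn p U H := by
  obtain ⟨P⟩ : Nonempty (Sylow p ↥H) := inferInstance
  exact ⟨_, isSylowIn_of_sylow P⟩

theorem card_map_subtype {H : Subgroup X} (Q : Subgroup ↥H) :
    Nat.card ↥(Q.map H.subtype) = Nat.card ↥Q :=
  Nat.card_congr (Q.equivMapOfInjective _ H.subtype_injective).symm.toEquiv

/-- If Sylow subgroups of `K ≤ M` have the order of those of the finite `M`, they are Sylow in `M`. -/
theorem isSylowIn_of_card {M K U : Subgroup X} [Finite ↥M] (hKM : K ≤ M)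
    (h : ∀ S : Sylow p ↥K, ∀ P : Sylow p ↥M, Nat.card S = Nat.card P)
    (hU : IsSylowIn p U K) : IsSylowIn p U M := by
  obtain ⟨V, hV, hUV⟩ := exists_isSylowIn_ge (hU.1.trans hKM) hU.2.1
  have hc1 : Nat.card ↥U = Nat.card ↥((hU.toSylow : Sylow p ↥K) : Subgroup ↥K) := by
    conv_lhs => rw [← hU.toSylow_map]
    exact card_map_subtype _
  have hc2 : Nat.card ↥V = Nat.card ↥((hV.toSylow : Sylow p ↥M) : Subgroup ↥M) := by
    conv_lhs => rw [← hV.toSylow_map]
    exact card_map_subtype _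
  have hc : Nat.card ↥U = Nat.card ↥V := by
    rw [hc1, hc2]; exact h _ _
  have : Finite ↥V := Finite.of_injective (fun v : ↥V => (⟨v.1, hV.1 v.2⟩ : ↥M))
    (fun a b hab => Subtype.ext (by simpa using congrArg Subtype.val hab))
  have hEq : U = V := Subgroup.eq_of_le_of_card_ge hUV hc.ge
  rw [hEq]; exact hV

end Cfsg.Agent.Helper14
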