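import Cfsg.Agent.Helper5.TDDefs
import Cfsg.Agent.Helper24.Codegree
import Cfsg.Agent.S4456

set_option autoImplicit false

/-! S4460 piece DFIT2: in a minimal counterexample the prime `p` of the Fitting subgroup does not
divide both nonlinear degrees (Thompson's normal `p`-complement theorem). -/

namespace Cfsg.Agent.Helper14.TD

open Cfsg Cfsg.Agent.Helper24 Cfsg.Agent.Helper29.TwoDeg Cfsg.Agent.Helper5.TD
open scoped ComplexConjugate commutatorElement

universe u
variable {G : Type u} [Group G] [Finite G]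

theorem not_both_dvd {m n p : ℕ} (td : ThreeDeg G m n) (hp : p.Prime)
    (M : Subgroup G) (hM : M ≠ ⊥)
    (hmin : ∀ N : Subgroup G, N.Normal → N ≠ ⊥ → M ≤ N)
    (P : Subgroup G) [P.Normal] (hPp : IsPGroup p P) (hP : P ≠ ⊥)
    (hnn : ¬ Group.IsNilpotent G) : ¬ (p ∣ m ∧ p ∣ n) := by
  rintro ⟨hpm, hpn⟩
  haveI : Fact p.Prime := ⟨hp⟩
  have hdeg : ∀ χ : Cfsg.IrrCharacter G, Cfsg.charDegree (χ : G → ℂ) ≠ 1 →
      p ∣ Cfsg.charDegree (χ : G → ℂ) := by
    intro χ hχ
    rw [charDegree_irr] at hχ ⊢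
    rcases td.cases χ with h | h | h
    · exact absurd h hχ
    · rw [h]; exact hpm
    · rw [h]; exact hpn
  obtain ⟨N, hNn, hNcop, k, hk⟩ := Cfsg.Agent.S4456.result p hp hdeg
  by_cases hN : N = ⊥
  · -- `G` is a `p`-group
    apply hnn
    have hcard : Nat.card G = p ^ k := by
      rw [← hk, hN, Subgroup.index_bot]
    have hG : IsPGroup p G := IsPGroup.of_card hcard
    exact hG.isNilpotent
  · apply hM
    have h1 : M ≤ N := hmin N hNn hN
    have h2 : M ≤ P := hmin P inferInstance hP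
    rw [eq_bot_iff]
    intro x hx
    rw [Subgroup.mem_bot]
    have hxN := h1 hx
    have hxP := h2 hx
    obtain ⟨j, hj⟩ := hPp ⟨x, hxP⟩
    have hj' : x ^ p ^ j = 1 := by simpa using congrArg Subtype.val hj
    have h3 : orderOf x ∣ p ^ j := orderOf_dvd_of_pow_eq_one hj'
    have h4 : orderOf x ∣ Nat.card N := by
      have := orderOf_dvd_natCard (⟨x, hxN⟩ : N)
      rwa [Subgroup.orderOf_mk] at this
    have h5 : Nat.Coprime (Nat.card N) (p ^ j) := Nat.Coprime.pow_right j hNcop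
    have h6 := Nat.dvd_gcd h4 h3
    rw [Nat.Coprime.gcd_eq_one h5] at h6
    exact orderOf_eq_one_iff.mp (Nat.dvd_one.mp h6)

end Cfsg.Agent.Helper14.TD
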