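import Cfsg.Agent.Helper5.TDDefs

set_option autoImplicit false

/-! S4460 piece DX1: if the normal `p`-subgroup `P` has index prime to `p` and `p` does not divide
both nonlinear degrees, then `P` has at most two character degrees. -/

namespace Cfsg.Agent.Helper14.TD

open Cfsg Cfsg.Agent.Helper24 Cfsg.Agent.Helper29.TwoDeg Cfsg.Agent.Helper5.TD
open scoped ComplexConjugate commutatorElement

universe u
variable {G : Type u} [Group G] [Finite G]

theorem factorization_mul_pow {p : ℕ} (hp : p.Prime) {e : ℕ} (he0 : e ≠ 0) (he : ¬ p ∣ e)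
    (j : ℕ) : (e * p ^ j).factorization p = j := by
  rw [Nat.factorization_mul he0 (pow_ne_zero j hp.ne_zero), Finsupp.add_apply,
    Nat.factorization_eq_zero_of_not_dvd he, hp.factorization_pow, Finsupp.single_eq_same,
    zero_add]

theorem caseX_two_degrees {m n p : ℕ} (td : ThreeDeg G m n) (hp : p.Prime)
    (P : Subgroup G) [P.Normal] (hPp : IsPGroup p P)
    (hnot : ¬ (p ∣ m ∧ p ∣ n)) (hidx : ¬ p ∣ P.index) :
    ∃ d : ℕ, ∀ θ : IrrCharacter P, irrDeg θ = 1 ∨ irrDeg θ = d := by
  classical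
  have : Fintype P := Fintype.ofFinite _
  have : Fintype G := Fintype.ofFinite _
  have : Fact p.Prime := ⟨hp⟩
  obtain ⟨a, ha⟩ := IsPGroup.iff_card.mp hPp
  -- the degree of `θ` is the `p`-part of the degree of a character above it
  have key : ∀ θ : IrrCharacter P, ∃ χ : IrrCharacter G,
      irrDeg θ = p ^ ((irrDeg χ).factorization p) := by
    intro θ
    obtain ⟨χ, hχ⟩ := exists_irr_over P θ
    obtain ⟨e, he, hdvd⟩ := irrDeg_dvd_of_over P χ θ hχ
    refine ⟨χ, ?_⟩
    have h1 : irrDeg θ ∣ p ^ a := by rw [← ha]; exact Cfsg.Agent.Helper29.TwoDeg.irrDeg_dvd_card θ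
    obtain ⟨j, -, hj⟩ := (Nat.dvd_prime_pow hp).mp h1
    have he0 : e ≠ 0 := by
      rintro rfl
      rw [zero_mul] at he
      exact (irrDeg_pos χ).ne' he
    have hpe : ¬ p ∣ e := fun h => hidx (h.trans hdvd)
    rw [he, hj, factorization_mul_pow hp he0 hpe]
  by_cases hpm : p ∣ m
  · have hpn : ¬ p ∣ n := fun h => hnot ⟨hpm, h⟩
    refine ⟨p ^ (m.factorization p), fun θ => ?_⟩
    obtain ⟨χ, hχ⟩ := key θ
    rcases td.cases χ with h | h | h
    · left; rw [hχ, h]; simp
    · right; rw [hχ, h]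
    · left; rw [hχ, h, Nat.factorization_eq_zero_of_not_dvd hpn, pow_zero]
  · refine ⟨p ^ (n.factorization p), fun θ => ?_⟩
    obtain ⟨χ, hχ⟩ := key θ
    rcases td.cases χ with h | h | h
    · left; rw [hχ, h]; simp
    · left; rw [hχ, h, Nat.factorization_eq_zero_of_not_dvd hpm, pow_zero]
    · right; rw [hχ, h]

end Cfsg.Agent.Helper14.TD
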