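import Cfsg.Agent.Helper14.Quadratic

set_option autoImplicit false
set_option linter.unusedSectionVars false

namespace Cfsg.Agent.Helper14

open Cfsg
open scoped commutatorElement Pointwise

/-- If `P/K` is elementary abelian (all commutators and `p`-th powers lie in `K`) then `Φ(P) ≤ K`. -/
theorem frattini_le_of_elemAb {P : Type*} [Group P] [Finite P] (p : ℕ) [hp : Fact p.Prime]
    (K : Subgroup P) (hcomm : ∀ a b : P, ⁅a, b⁆ ∈ K) (hpow : ∀ a : P, a ^ p ∈ K) :
    frattini P ≤ K := by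
  intro x hxF
  by_contra hxK
  obtain ⟨M, hKM, hMmax⟩ := Finite.exists_le_maximal (p := fun M : Subgroup P => K ≤ M ∧ x ∉ M)
    (a := K) ⟨le_rfl, hxK⟩
  have hKM' : K ≤ M := hMmax.prop.1
  have hxM : x ∉ M := hMmax.prop.2
  have hMn : M.Normal := by
    constructor
    intro m hm g
    have : g * m * g⁻¹ = ⁅g, m⁆ * m := by rw [commutatorElement_def]; group
    rw [this]
    exact M.mul_mem (hKM' (hcomm g m)) hm
  have hco : IsCoatom M := by
    refine ⟨fun h => hxM (h ▸ Subgroup.mem_top x), ?_⟩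
    intro M' hlt
    have hxM' : x ∈ M' := by
      by_contra hx'
      exact absurd (hMmax.le_of_ge ⟨hKM'.trans hlt.le, hx'⟩ hlt.le) (not_le_of_gt hlt)
    rw [eq_top_iff]
    intro y _
    by_cases hy : y ∈ M
    · exact hlt.le hy
    · have hlt2 : M < M ⊔ Subgroup.zpowers y := by
        apply lt_of_le_of_ne le_sup_left
        intro h
        apply hy
        rw [h]
        exact le_sup_right (a := M) (Subgroup.mem_zpowers y)
      have hx2 : x ∈ M ⊔ Subgroup.zpowers y := by
        by_contra hx'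
        exact absurd (hMmax.le_of_ge ⟨hKM'.trans hlt2.le, hx'⟩ hlt2.le) (not_le_of_gt hlt2)
      have hx3 : x ∈ ((M ⊔ Subgroup.zpowers y : Subgroup P) : Set P) := hx2
      rw [Subgroup.normal_mul] at hx3
      obtain ⟨m, hm, z, hz, hmz⟩ := hx3
      obtain ⟨k, rfl⟩ := Subgroup.mem_zpowers_iff.1 hz
      have hyk : y ^ k ∈ M' := by
        have : y ^ k = m⁻¹ * x := by rw [← hmz]; group
        rw [this]
        exact M'.mul_mem (M'.inv_mem (hlt.le hm)) hxM'
      have hyp : y ^ (p : ℤ) ∈ M' := by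
        rw [zpow_natCast]
        exact hlt.le (hKM' (hpow y))
      have hndvd : ¬ (p : ℤ) ∣ k := by
        rintro ⟨t, rfl⟩
        apply hxM
        rw [← hmz]
        refine M.mul_mem hm ?_
        rw [zpow_mul, zpow_natCast]
        exact M.zpow_mem (hKM' (hpow y)) t
      have hcop : IsCoprime k (p : ℤ) := by
        have hpp : Prime (p : ℤ) := Nat.prime_iff_prime_int.1 hp.out
        exact ((hpp.coprime_iff_not_dvd).2 hndvd).symm
      obtain ⟨a, b, hab⟩ := hcop
      have : y = (y ^ k) ^ a * (y ^ (p : ℤ)) ^ b := by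
        rw [← zpow_mul, ← zpow_mul, ← zpow_add, mul_comm k a, mul_comm (p : ℤ) b, hab, zpow_one]
      rw [this]
      exact M'.mul_mem (M'.zpow_mem hyk a) (M'.zpow_mem hyp b)
  exact hxM (frattini_le_coatom hco hxF)


theorem commutator_mul_central {G : Type*} [Group G] (u v a b : G) (c1 : Commute u a)
    (c2 : Commute u b) (c3 : Commute v a) (c4 : Commute v b) (c5 : Commute u v) :
    ⁅u * a, v * b⁆ = ⁅a, b⁆ := by
  rw [commutatorElement_def, commutatorElement_def]
  have hU : Commute u (a * v * b * a⁻¹) :=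
    (((c1.mul_right c5).mul_right c2).mul_right c1.inv_right)
  have hV : Commute v (a * b * a⁻¹ * b⁻¹) :=
    ((c3.mul_right c4).mul_right c3.inv_right).mul_right c4.inv_right
  calc u * a * (v * b) * (u * a)⁻¹ * (v * b)⁻¹
      = u * (a * v * b * a⁻¹) * u⁻¹ * b⁻¹ * v⁻¹ := by group
    _ = (a * v * b * a⁻¹) * b⁻¹ * v⁻¹ := by rw [hU.eq, mul_inv_cancel_right]
    _ = (a * v) * (b * a⁻¹ * b⁻¹) * v⁻¹ := by group
    _ = (v * a) * (b * a⁻¹ * b⁻¹) * v⁻¹ := by rw [c3.eq]
    _ = v * (a * b * a⁻¹ * b⁻¹) * v⁻¹ := by group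
    _ = a * b * a⁻¹ * b⁻¹ := by rw [hV.eq, mul_inv_cancel_right]

/-- in an abelian subgroup `Z`, every element of `Ω₁(Z)` has order dividing `p` -/
theorem pow_eq_one_of_mem_omegaOne {G : Type*} [Group G] (p : ℕ) (Z : Subgroup G)
    (hZ : ∀ a ∈ Z, ∀ b ∈ Z, a * b = b * a) {e : G} (he : e ∈ omegaOne p Z) : e ^ p = 1 := by
  unfold omegaOne at he
  induction he using Subgroup.closure_induction with
  | mem x hx => exact hx.2
  | one => exact one_pow p
  | mul x y hx hy ihx ihy =>
    have hx' : x ∈ Z := omegaOne_le p Z hx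
    have hy' : y ∈ Z := omegaOne_le p Z hy
    have hc : Commute x y := hZ x hx' y hy'
    rw [hc.mul_pow, ihx, ihy, one_mul]
  | inv x hx ih => rw [inv_pow, ih, inv_one]

/-- S2818: `[P,H] ≤ Ω₁(Z(P))` implies `H` centralizes `Φ(P)` -/
theorem frattini_centralized {G : Type*} [Group G] [Finite G] {p : ℕ} [Fact p.Prime]
    (P H : Subgroup G)
    (h : ⁅P, H⁆ ≤ omegaOne p (P ⊓ Subgroup.centralizer (P : Set G))) :
    ⁅(frattini ↥P).map P.subtype, H⁆ = ⊥ := by
  rw [eq_bot_iff, Subgroup.commutator_le]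
  rintro _ ⟨x, hx, rfl⟩ g hg
  rw [Subgroup.mem_bot]
  set Z : Subgroup G := P ⊓ Subgroup.centralizer (P : Set G) with hZdef
  have hZab : ∀ a ∈ Z, ∀ b ∈ Z, a * b = b * a := by
    intro a ha b hb
    exact (Subgroup.mem_centralizer_iff.1 hb.2 a ha.1)
  -- φ(a) = ⁅g, a⁆
  have hphi : ∀ a ∈ P, ⁅g, a⁆ ∈ omegaOne p Z := by
    intro a ha
    apply h
    rw [Subgroup.commutator_comm]
    exact Subgroup.commutator_mem_commutator hg ha
  have hphiZ : ∀ a ∈ P, ⁅g, a⁆ ∈ Z := fun a ha => omegaOne_le p Z (hphi a ha)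
  have hphip : ∀ a ∈ P, ⁅g, a⁆ ^ p = 1 := fun a ha => pow_eq_one_of_mem_omegaOne p Z hZab (hphi a ha)
  have hconj : ∀ a : G, g * a * g⁻¹ = ⁅g, a⁆ * a := by
    intro a; rw [commutatorElement_def]; group
  have hcen : ∀ a ∈ P, ∀ b ∈ P, Commute ⁅g, a⁆ b := by
    intro a ha b hb
    exact ((Subgroup.mem_centralizer_iff.1 (hphiZ a ha).2) b hb).symm
  let K : Subgroup ↥P := (Subgroup.centralizer ({g} : Set G)).subgroupOf P
  have hmemK : ∀ a : ↥P, a ∈ K ↔ g * (a : G) * g⁻¹ = (a : G) := by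
    intro a
    show (a : G) ∈ Subgroup.centralizer ({g} : Set G) ↔ _
    rw [Subgroup.mem_centralizer_iff]
    constructor
    · intro h1
      have := h1 g rfl
      rw [this]; group
    · intro h1 y hy
      rw [Set.mem_singleton_iff] at hy
      subst hy
      calc y * (a : G) = (y * (a : G) * y⁻¹) * y := by group
        _ = (a : G) * y := by rw [h1]
  have hF : frattini ↥P ≤ K := by
    apply frattini_le_of_elemAb p K
    · intro a b
      rw [hmemK]
      have ha := a.2
      have hb := b.2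
      have e1 : g * ((⁅a, b⁆ : ↥P) : G) * g⁻¹ = ⁅g * (a : G) * g⁻¹, g * (b : G) * g⁻¹⁆ := by
        simp only [commutatorElement_def, Subgroup.coe_mul, Subgroup.coe_inv]; group
      rw [e1, hconj, hconj]
      rw [commutator_mul_central _ _ _ _ (hcen a ha a ha) (hcen a ha b hb) (hcen b hb a ha)
        (hcen b hb b hb) (hcen a ha _ (hphiZ b hb).1)]
      simp [commutatorElement_def]
    · intro a
      rw [hmemK]
      have ha := a.2
      have e1 : g * ((a ^ p : ↥P) : G) * g⁻¹ = (g * (a : G) * g⁻¹) ^ p := by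
        rw [conj_pow]; simp
      rw [e1, hconj, (hcen a ha a ha).mul_pow, hphip a ha, one_mul]
      simp
  have h1 := (hmemK x).1 (hF hx)
  rw [commutatorElement_def]
  show (x : G) * g * (x : G)⁻¹ * g⁻¹ = 1
  calc (x : G) * g * (x : G)⁻¹ * g⁻¹ = (x : G) * (g * (x : G) * g⁻¹)⁻¹ := by group
    _ = 1 := by rw [h1]; group

end Cfsg.Agent.Helper14
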