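import Cfsg.Agent.Helper14.Amalgam5

set_option autoImplicit false
set_option linter.unusedSectionVars false

namespace Cfsg.Agent.Helper14

open Cfsg

section General

variable {X : Type*} [Group X] {p : ℕ} [Fact p.Prime]

/-- Frattini argument in ambient form -/
theorem frattini_ambient {T N G : Subgroup X} [Finite ↥N] (hNG : N ≤ G)
    (hGN : G ≤ Subgroup.normalizer (N : Set X)) (hT : IsSylowIn p T N) :
    G ≤ N ⊔ (G ⊓ Subgroup.normalizer (T : Set X)) := by
  intro g hg
  have hgN : N.map (cj g) = N := mem_normalizer_iff_map_cj.1 (hGN hg)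
  have hT' : IsSylowIn p (T.map (cj g)) N := by
    have := hT.map_cj g
    rwa [hgN] at this
  obtain ⟨l, hl, hlT⟩ := hT.exists_conj hT'
  -- l⁻¹ g normalizes T
  have hn : l⁻¹ * g ∈ Subgroup.normalizer (T : Set X) := by
    rw [mem_normalizer_iff_map_cj, ← map_cj_mul, hlT, map_cj_mul, inv_mul_cancel, map_cj_one]
  have : g = l * (l⁻¹ * g) := by group
  rw [this]
  refine Subgroup.mul_mem _ (Subgroup.mem_sup_left hl) (Subgroup.mem_sup_right ⟨?_, hn⟩)
  exact G.mul_mem (G.inv_mem (hNG hl)) hg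

theorem le_normalizer_iSup_of_forall {ι : Sort*} {L : Subgroup X} (F : ι → Subgroup X)
    (h : ∀ i, L ≤ Subgroup.normalizer (F i : Set X)) :
    L ≤ Subgroup.normalizer ((⨆ i, F i : Subgroup X) : Set X) := by
  apply le_normalizer_of_map_cj_le
  intro g hg
  rw [Subgroup.map_iSup]
  apply iSup_le
  intro i
  rw [mem_normalizer_iff_map_cj.1 (h i hg)]
  exact le_iSup F i

end General

section Edge

variable {X : Type*} [Group X] {p : ℕ} [Fact p.Prime] (M₁ M₂ : Subgroup X)

theorem spe_normalizer_eq (h : IsSpeAmalgamPair p M₁ M₂) (δ μ : CosetVertex M₁ M₂)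
    (hadj : (cosetGraph M₁ M₂).Adj δ μ) (T : Subgroup X)
    (hT : IsSylowIn p T (edgeStabilizer δ μ)) :
    MulAction.stabilizer X δ ⊓ Subgroup.normalizer (T : Set X) =
      MulAction.stabilizer X μ ⊓ Subgroup.normalizer (T : Set X) := by
  obtain ⟨y, hy, hy'⟩ := edgeStab_conj M₁ M₂ δ μ hadj
  have hT₀ : IsSylowIn p (T.map (cj y⁻¹)) (M₁ ⊓ M₂) := by
    have := hT.map_cj y⁻¹
    rwa [hy, map_cj_map_cj_inv] at this
  have hs := (h.2.1 hT₀.toSylow).1
  rw [hT₀.toSylow_map] at hs
  have key : M₁.map (cj y) ⊓ Subgroup.normalizer (T : Set X) =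
      M₂.map (cj y) ⊓ Subgroup.normalizer (T : Set X) := by
    have := congrArg (Subgroup.map (cj y)) hs
    rwa [map_cj_inf, map_cj_inf, map_cj_normalizer, map_cj_inv_map_cj] at this
  rcases hy' with ⟨h1, h2⟩ | ⟨h1, h2⟩
  · rw [h1, h2]; exact key
  · rw [h1, h2]; exact key.symm

theorem spe_no_common_normal (h : IsSpeAmalgamPair p M₁ M₂) (δ μ : CosetVertex M₁ M₂)
    (hadj : (cosetGraph M₁ M₂).Adj δ μ) (T : Subgroup X)
    (hT : IsSylowIn p T (edgeStabilizer δ μ)) (U : Subgroup X) (hUT : U ≤ T)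
    (hU1 : pElementClosure p (MulAction.stabilizer X δ) ≤ Subgroup.normalizer (U : Set X))
    (hU2 : pElementClosure p (MulAction.stabilizer X μ) ≤ Subgroup.normalizer (U : Set X)) :
    U = ⊥ := by
  have hc := h.1
  obtain ⟨hTδ, hTμ⟩ := isSylowIn_stab_of_edge M₁ M₂ hc δ μ hadj T hT
  set B := MulAction.stabilizer X δ ⊓ Subgroup.normalizer (T : Set X) with hB
  have hB' : B = MulAction.stabilizer X μ ⊓ Subgroup.normalizer (T : Set X) :=
    spe_normalizer_eq M₁ M₂ h δ μ hadj T hT
  set Us : Subgroup X := ⨆ b : ↥B, U.map (cj (b : X)) with hUs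
  -- general step for a vertex
  have step : ∀ ν : CosetVertex M₁ M₂, IsSylowIn p T (MulAction.stabilizer X ν) →
      B = MulAction.stabilizer X ν ⊓ Subgroup.normalizer (T : Set X) →
      pElementClosure p (MulAction.stabilizer X ν) ≤ Subgroup.normalizer (U : Set X) →
      MulAction.stabilizer X ν ≤ Subgroup.normalizer (Us : Set X) := by
    intro ν hTν hBν hUν
    set Gν := MulAction.stabilizer X ν
    set Lν := pElementClosure p Gν
    have hLG : Lν ≤ Gν := pElementClosure_le p Gν
    have hGL : Gν ≤ Subgroup.normalizer (Lν : Set X) := le_normalizer_pElementClosure p Gν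
    have hTL : T ≤ Lν := le_pElementClosure_of_isPGroup p hTν.1 hTν.2.1
    have hTL' : IsSylowIn p T Lν := isSylowIn_of_le_of_isSylowIn hTL hLG hTν
    have := finite_stab M₁ M₂ hc ν
    have : Finite ↥Lν := Finite.of_injective (fun v : ↥Lν => (⟨v.1, hLG v.2⟩ : ↥Gν))
      (fun a b hab => Subtype.ext (by simpa using congrArg Subtype.val hab))
    have hfr := frattini_ambient hLG hGL hTL'
    rw [← hBν] at hfr
    refine hfr.trans (sup_le ?_ ?_)
    · -- Lν normalizes each conjugate of U by b ∈ B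
      apply le_normalizer_iSup_of_forall
      intro b
      apply le_normalizer_of_map_cj_le
      intro l hl
      have hbG : (b : X) ∈ Gν := by
        have hb2 : (b : X) ∈ B := b.2
        have hb3 : (b : X) ∈ Gν ⊓ Subgroup.normalizer (T : Set X) := hBν ▸ hb2
        exact hb3.1
      have hl' : (b : X)⁻¹ * l * (b : X) ∈ Lν := by
        have hn := hGL (Gν.inv_mem hbG)
        rw [mem_normalizer_iff_map_cj] at hn
        have : (b : X)⁻¹ * l * (b : X) ∈ Lν.map (cj (b : X)⁻¹) := ⟨l, hl, by simp [mul_assoc]⟩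
        rwa [hn] at this
      have hn2 := hUν hl'
      rw [mem_normalizer_iff_map_cj] at hn2
      rw [map_cj_mul]
      have e : l * (b : X) = (b : X) * ((b : X)⁻¹ * l * (b : X)) := by group
      rw [e, ← map_cj_mul, hn2]
    · -- B permutes the conjugates
      apply le_normalizer_of_map_cj_le
      intro g hg
      rw [hUs, Subgroup.map_iSup]
      apply iSup_le
      intro b
      rw [map_cj_mul]
      exact le_iSup (fun b : ↥B => U.map (cj (b : X))) ⟨g * b, B.mul_mem hg b.2⟩
  have h1 := step δ hTδ hB hU1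
  have h2 := step μ hTμ hB' hU2
  have hUsT : Us ≤ T := by
    apply iSup_le
    intro b
    have hbn : (b : X) ∈ Subgroup.normalizer (T : Set X) := b.2.2
    rw [mem_normalizer_iff_map_cj] at hbn
    rw [← hbn]
    exact Subgroup.map_mono hUT
  have hbot : Us = ⊥ := edge_normal_trivial M₁ M₂ hc.1 δ μ hadj Us (hUsT.trans hT.1) h1 h2
  rw [eq_bot_iff, ← hbot]
  have := le_iSup (fun b : ↥B => U.map (cj (b : X))) (1 : ↥B)
  simp only [OneMemClass.coe_one, map_cj_one] at this
  exact this

end Edge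

end Cfsg.Agent.Helper14
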