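import Cfsg.Agent.Helper14.CharP
import Cfsg.Agent.Helper14.Amalgam6
import Cfsg.Prelude.Def_LocalStructure

set_option autoImplicit false
set_option linter.unusedSectionVars false

namespace Cfsg.Agent.Helper14

open Cfsg
open scoped commutatorElement

section

variable {H : Type*} [Group H] {p : ℕ} [Fact p.Prime]

/-- a group with one normal Sylow `p`-subgroup is `p`-closed -/
theorem isPClosed_of_normal_sylow [Finite (Sylow p H)] (P : Sylow p H)
    (hP : (P : Subgroup H).Normal) : IsPClosed p H := by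
  intro Q
  have := Sylow.unique_of_normal P hP
  have e : Q = P := Subsingleton.elim Q P
  rw [e]; exact hP

/-- a subgroup containing the commutator subgroup is normal -/
theorem normal_of_commutator_mem (P : Subgroup H) (h : ∀ n x : H, x ∈ P → ⁅n, x⁆ ∈ P) :
    P.Normal := by
  constructor
  intro x hx n
  have : n * x * n⁻¹ = ⁅n, x⁆ * x := by rw [commutatorElement_def]; group
  rw [this]
  exact P.mul_mem (h n x hx) hx

/-- S2829 -/
theorem isPIrreducible_of_strongly [Finite H] (hH : IsStronglyPIrreducible p H) :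
    IsPIrreducible p H := by
  refine ⟨hH.1, ?_⟩
  intro N hN hNcl
  apply hH.2 N hN
  intro hle
  apply hNcl
  intro P
  -- D = O_p(H) ∩ N as a subgroup of N is a normal p-subgroup, so lies in P
  have hDn : ((pCore p H).subgroupOf N).Normal := by
    have := pCore_normal (G := H) p
    infer_instance
  have hDp : IsPGroup p ↥((pCore p H).subgroupOf N) :=
    (pCore_isPGroup (G := H) p).comap_subtype
  have hDP : (pCore p H).subgroupOf N ≤ (P : Subgroup ↥N) := hDp.le_sylow_of_normal P
  apply normal_of_commutator_mem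
  intro n x _
  apply hDP
  rw [Subgroup.mem_subgroupOf]
  apply hle
  have : ((⁅n, x⁆ : ↥N) : H) = ⁅(n : H), (x : H)⁆ := by
    simp [commutatorElement_def]
  rw [this]
  exact Subgroup.commutator_mem_commutator n.2 (Subgroup.mem_top _)

end

section Minimal

variable {H : Type*} [Group H] [Finite H] {p : ℕ} [Fact p.Prime]

/-- for `N` normal, `T ∩ N` is a Sylow `p`-subgroup of `N` -/
theorem sylow_inf_normal_isSylowIn (T : Sylow p H) (N : Subgroup H) [hN : N.Normal] :
    IsSylowIn p ((T : Subgroup H) ⊓ N) N := by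
  obtain ⟨U, hU⟩ := exists_isSylowIn (p := p) N
  obtain ⟨T', hT'⟩ := hU.2.1.exists_le_sylow
  obtain ⟨g, hg⟩ := MulAction.exists_smul_eq H T' T
  have hNg : N.map (cj g) = N :=
    mem_normalizer_iff_map_cj.1 (by rw [Subgroup.normalizer_eq_top]; trivial)
  have hU' : IsSylowIn p (U.map (cj g)) N := by
    have := hU.map_cj g
    rwa [hNg] at this
  have hUT : U.map (cj g) ≤ (T : Subgroup H) := by
    rintro _ ⟨x, hx, rfl⟩
    have : cj g x ∈ (g • T' : Sylow p H) := by
      rw [mem_sylow_smul, cj_apply]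
      have : g⁻¹ * (g * x * g⁻¹) * g = x := by group
      rw [this]
      exact hT' hx
    rw [hg] at this
    exact this
  have := hU'.2.2 ((T : Subgroup H) ⊓ N) inf_le_right (T.isPGroup'.to_le inf_le_left)
    (le_inf hUT hU'.1)
  rw [this]
  exact hU'

theorem exists_coatom_ge_of_ne_top {K : Subgroup H} (hK : K ≠ ⊤) :
    ∃ M : Subgroup H, IsCoatom M ∧ K ≤ M := by
  rcases IsCoatomic.eq_top_or_exists_le_coatom K with h | h
  · exact absurd h hK
  · exact h

/-- in a `T`-minimal group, a normal subgroup `N` with `NT ≠ H` lies in the unique maximal subgroup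
over `T`, and is `p`-closed -/
theorem minimalOver_dichotomy (T : Sylow p H) (hmin : IsMinimalOver (T : Subgroup H))
    (N : Subgroup H) [hN : N.Normal] (hNT : N ⊔ (T : Subgroup H) ≠ ⊤) : IsPClosed p ↥N := by
  obtain ⟨_, M, ⟨hM, hTM⟩, huniq⟩ := hmin
  obtain ⟨M1, hM1, hle1⟩ := exists_coatom_ge_of_ne_top hNT
  have e1 : M1 = M := huniq M1 ⟨hM1, le_sup_right.trans hle1⟩
  have hNM : N ≤ M := e1 ▸ (le_sup_left.trans hle1)
  set P := (T : Subgroup H) ⊓ N with hPdef
  have hP : IsSylowIn p P N := sylow_inf_normal_isSylowIn T N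
  have hTn : (T : Subgroup H) ≤ Subgroup.normalizer (P : Set H) := by
    apply le_normalizer_of_map_cj_le
    intro t ht
    rw [hPdef, map_cj_inf, map_cj_eq_self_of_mem ht]
    have : N.map (cj t) = N :=
      mem_normalizer_iff_map_cj.1 (by rw [Subgroup.normalizer_eq_top]; trivial)
    rw [this]
  have hfr := frattini_ambient (G := (⊤ : Subgroup H)) le_top
    (by rw [Subgroup.normalizer_eq_top]) hP
  rw [top_inf_eq] at hfr
  have hnorm : Subgroup.normalizer (P : Set H) = ⊤ := by
    by_contra hne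
    obtain ⟨M2, hM2, hle2⟩ := exists_coatom_ge_of_ne_top hne
    have e2 : M2 = M := huniq M2 ⟨hM2, hTn.trans hle2⟩
    have : (⊤ : Subgroup H) ≤ M := hfr.trans (sup_le hNM (e2 ▸ hle2))
    exact hM.1 (top_le_iff.1 this)
  have hPn : P.Normal := Subgroup.normalizer_eq_top_iff.1 hnorm
  apply isPClosed_of_normal_sylow hP.toSylow
  show (P.subgroupOf N).Normal
  infer_instance

/-- if `NT = H` then `H/N` is a `p`-group -/
theorem isPGroup_quotient_of_sup_sylow (T : Sylow p H) (N : Subgroup H) [hN : N.Normal]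
    (hNT : N ⊔ (T : Subgroup H) = ⊤) : IsPGroup p (H ⧸ N) := by
  have hsurj : Function.Surjective ((QuotientGroup.mk' N).comp (T : Subgroup H).subtype) := by
    intro q
    obtain ⟨h, rfl⟩ := QuotientGroup.mk'_surjective N q
    have hh : h ∈ ((N ⊔ (T : Subgroup H) : Subgroup H) : Set H) := by rw [hNT]; trivial
    rw [Subgroup.normal_mul] at hh
    obtain ⟨n, hn, t, ht, rfl⟩ := hh
    refine ⟨⟨t, ht⟩, ?_⟩
    simp only [MonoidHom.comp_apply, Subgroup.subtype_apply, QuotientGroup.mk'_apply]
    symm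
    rw [QuotientGroup.eq]
    have : (n * t)⁻¹ * t = t⁻¹ * n⁻¹ * t := by group
    rw [this]
    have := hN.conj_mem n⁻¹ (N.inv_mem hn) t⁻¹
    simpa using this
  exact T.isPGroup'.of_surjective _ hsurj

/-- if `H/N` is a `p`-group then `O^p(H) ≤ N` -/
theorem pResidual_le_of_isPGroup_quotient (N : Subgroup H) [hN : N.Normal]
    (hq : IsPGroup p (H ⧸ N)) : pResidual p H ≤ N := by
  unfold pResidual
  rw [Subgroup.closure_le]
  intro g hg
  have hg' : Nat.Coprime (orderOf g) p := hg
  obtain ⟨k, hk⟩ := hq (QuotientGroup.mk' N g)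
  have h1 : (QuotientGroup.mk' N g) ^ (orderOf g) = 1 := by
    rw [← map_pow, pow_orderOf_eq_one, map_one]
  have h2 : orderOf (QuotientGroup.mk' N g) ∣ Nat.gcd (orderOf g) (p ^ k) :=
    Nat.dvd_gcd (orderOf_dvd_of_pow_eq_one h1) (orderOf_dvd_of_pow_eq_one hk)
  have h3 : Nat.gcd (orderOf g) (p ^ k) = 1 := Nat.Coprime.pow_right k hg'
  rw [h3, Nat.dvd_one, orderOf_eq_one_iff] at h2
  exact (QuotientGroup.eq_one_iff g).1 h2

/-- S2831 -/
theorem isPIrreducible_of_minimalOver (T : Sylow p H) (hmin : IsMinimalOver (T : Subgroup H)) :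
    IsPIrreducible p H := by
  constructor
  · intro hcl
    obtain ⟨hnc, M, ⟨hM, hTM⟩, _⟩ := hmin
    have := hcl T
    rw [Subgroup.normalClosure_eq_self] at hnc
    rw [hnc] at hTM
    exact hM.1 (top_le_iff.1 hTM)
  · intro N hN hNcl
    by_cases hNT : N ⊔ (T : Subgroup H) = ⊤
    · exact pResidual_le_of_isPGroup_quotient N (isPGroup_quotient_of_sup_sylow T N hNT)
    · exact absurd (minimalOver_dichotomy T hmin N hNT) hNcl

/-- S2832 -/
theorem minimalOver_quotient (T : Sylow p H) (hmin : IsMinimalOver (T : Subgroup H))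
    (N : Subgroup H) [hN : N.Normal] :
    IsPGroup p (H ⧸ N) ∨ IsMinimalOver ((T : Subgroup H).map (QuotientGroup.mk' N)) := by
  by_cases hNT : N ⊔ (T : Subgroup H) = ⊤
  · exact Or.inl (isPGroup_quotient_of_sup_sylow T N hNT)
  right
  obtain ⟨hnc, M, ⟨hM, hTM⟩, huniq⟩ := hmin
  obtain ⟨M1, hM1, hle1⟩ := exists_coatom_ge_of_ne_top hNT
  have e1 : M1 = M := huniq M1 ⟨hM1, le_sup_right.trans hle1⟩
  have hNM : N ≤ M := e1 ▸ (le_sup_left.trans hle1)
  have hsurj := QuotientGroup.mk'_surjective N
  have hcm : (M.map (QuotientGroup.mk' N)).comap (QuotientGroup.mk' N) = M := by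
    rw [Subgroup.comap_map_eq, QuotientGroup.ker_mk']
    exact sup_eq_left.2 hNM
  constructor
  · have := Subgroup.map_normalClosure ((T : Subgroup H) : Set H) (QuotientGroup.mk' N) hsurj
    rw [hnc, Subgroup.map_top_of_surjective _ hsurj] at this
    rw [this]
    congr 1
  · refine ⟨M.map (QuotientGroup.mk' N), ⟨⟨?_, ?_⟩, Subgroup.map_mono hTM⟩, ?_⟩
    · intro h
      rw [h, Subgroup.comap_top] at hcm
      exact hM.1 hcm.symm
    · intro L hL
      have h1 : M ≤ L.comap (QuotientGroup.mk' N) := by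
        rw [← hcm]; exact Subgroup.comap_mono hL.le
      have h2 : M ≠ L.comap (QuotientGroup.mk' N) := by
        intro h
        have := Subgroup.map_comap_eq_self_of_surjective hsurj L
        rw [← h] at this
        exact hL.ne this
      have h3 := hM.2 _ (lt_of_le_of_ne h1 h2)
      have := Subgroup.map_comap_eq_self_of_surjective hsurj L
      rw [h3, Subgroup.map_top_of_surjective _ hsurj] at this
      exact this.symm
    · rintro K ⟨hK, hTK⟩
      have h1 := Subgroup.isCoatom_comap_of_surjective hsurj hK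
      have h2 : (T : Subgroup H) ≤ K.comap (QuotientGroup.mk' N) :=
        Subgroup.map_le_iff_le_comap.1 hTK
      have h3 := huniq _ ⟨h1, h2⟩
      have := Subgroup.map_comap_eq_self_of_surjective hsurj K
      rw [h3] at this
      exact this.symm

end Minimal

end Cfsg.Agent.Helper14
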