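import Cfsg.Agent.Helper14.Amalgam5
import Cfsg.Agent.Helper14.Irreducible

set_option autoImplicit false
set_option linter.unusedSectionVars false

namespace Cfsg.Agent.Helper14

open Cfsg
open scoped commutatorElement Pointwise

section

variable {H : Type*} [Group H]

theorem isLarge_map_cj {Q : Subgroup H} (hL : IsLarge Q) (g : H) : IsLarge (Q.map (cj g)) := by
  constructor
  · rw [← map_cj_centralizer]
    exact Subgroup.map_mono hL.1
  · intro U hU hU1
    have hU' : U.map (cj g⁻¹) ≤ Subgroup.centralizer (Q : Set H) := by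
      have := Subgroup.map_mono (f := cj g⁻¹) hU
      rwa [map_cj_centralizer, map_cj_map_cj_inv] at this
    have hU1' : U.map (cj g⁻¹) ≠ ⊥ := by
      intro h
      exact hU1 ((Subgroup.map_eq_bot_iff_of_injective U (cj_injective g⁻¹)).1 h)
    have h1 := hL.2 _ hU' hU1'
    have h2 := Subgroup.map_mono (f := cj g) h1
    rwa [map_cj_normalizer, map_cj_normalizer, map_cj_inv_map_cj] at h2

/-- the centre of a nontrivial finite `p`-subgroup is nontrivial (ambient form) -/
theorem inf_centralizer_ne_bot {p : ℕ} [Fact p.Prime] {S : Subgroup H} [Finite ↥S]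
    (hS : IsPGroup p ↥S) (hS1 : S ≠ ⊥) : S ⊓ Subgroup.centralizer (S : Set H) ≠ ⊥ := by
  have : Nontrivial ↥S := (Subgroup.nontrivial_iff_ne_bot S).2 hS1
  have h1 := hS.bot_lt_center
  rw [← center_map_subtype]
  intro h
  rw [Subgroup.map_eq_bot_iff_of_injective _ S.subtype_injective] at h
  exact h1.ne h.symm

/-- `N(S) ≤ N(Z(S))` -/
theorem normalizer_le_normalizer_center (S : Subgroup H) :
    Subgroup.normalizer (S : Set H) ≤
      Subgroup.normalizer ((S ⊓ Subgroup.centralizer (S : Set H) : Subgroup H) : Set H) := by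
  intro m hm
  have e := mem_normalizer_iff_map_cj.1 hm
  rw [mem_normalizer_iff_map_cj, map_cj_inf, map_cj_centralizer, e]

variable [Finite H] {p : ℕ} [Fact p.Prime]

/-- a Sylow subgroup of `H` contained in `K` is Sylow in `K` -/
theorem isSylowIn_of_sylow_le (S : Sylow p H) {K : Subgroup H} (hSK : (S : Subgroup H) ≤ K) :
    IsSylowIn p (S : Subgroup H) K :=
  ⟨hSK, S.isPGroup', fun Q _ hQ hle => S.is_maximal' hQ hle⟩

/-- a nontrivial large `p`-subgroup is weakly closed: a conjugate lying with it in a common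
`p`-subgroup is equal to it -/
theorem large_weakly_closed {Q : Subgroup H} (hQ1 : Q ≠ ⊥) (hL : IsLarge Q)
    (g : H) (R : Subgroup H) (hR : IsPGroup p ↥R) (hQR : Q ≤ R) (hQgR : Q.map (cj g) ≤ R) :
    Q.map (cj g) = Q := by
  obtain ⟨S, hRS⟩ := hR.exists_le_sylow
  have hQS : Q ≤ (S : Subgroup H) := hQR.trans hRS
  have hQgS : Q.map (cj g) ≤ (S : Subgroup H) := hQgR.trans hRS
  have hLg := isLarge_map_cj hL g
  have hS1 : (S : Subgroup H) ≠ ⊥ := by
    intro h
    rw [h, le_bot_iff] at hQS
    exact hQ1 hQS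
  set Z := (S : Subgroup H) ⊓ Subgroup.centralizer ((S : Subgroup H) : Set H) with hZ
  have hZ1 : Z ≠ ⊥ := inf_centralizer_ne_bot S.isPGroup' hS1
  have hZQ : Z ≤ Subgroup.centralizer (Q : Set H) :=
    inf_le_right.trans (Subgroup.centralizer_le hQS)
  have hZQg : Z ≤ Subgroup.centralizer ((Q.map (cj g) : Subgroup H) : Set H) :=
    inf_le_right.trans (Subgroup.centralizer_le hQgS)
  have hNZQ := hL.2 Z hZQ hZ1
  have hNZQg := hLg.2 Z hZQg hZ1
  have hSNZ : (S : Subgroup H) ≤ Subgroup.normalizer (Z : Set H) :=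
    Subgroup.le_normalizer.trans (normalizer_le_normalizer_center _)
  set K := Subgroup.normalizer ((Q.map (cj g) : Subgroup H) : Set H) with hK
  have hSK : (S : Subgroup H) ≤ K := hSNZ.trans hNZQg
  -- S^g ≤ K as well
  have hSgK : (S : Subgroup H).map (cj g) ≤ K := by
    have h1 : (S : Subgroup H) ≤ Subgroup.normalizer (Q : Set H) := hSNZ.trans hNZQ
    have h2 := Subgroup.map_mono (f := cj g) h1
    rwa [map_cj_normalizer] at h2
  have hSy1 : IsSylowIn p (S : Subgroup H) K := isSylowIn_of_sylow_le S hSK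
  have hSy2 : IsSylowIn p ((S : Subgroup H).map (cj g)) K := by
    have := isSylowIn_of_sylow_le (g • S) (K := K) (by
      intro x hx
      apply hSgK
      rw [mem_map_cj]
      exact (mem_sylow_smul S g x).1 hx)
    have e : ((g • S : Sylow p H) : Subgroup H) = (S : Subgroup H).map (cj g) := by
      ext x
      rw [mem_map_cj]
      exact mem_sylow_smul S g x
    rwa [e] at this
  obtain ⟨n, hnK, hn⟩ := hSy1.exists_conj hSy2
  -- m = n⁻¹ g normalizes S
  have hm : n⁻¹ * g ∈ Subgroup.normalizer ((S : Subgroup H) : Set H) := by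
    rw [mem_normalizer_iff_map_cj, ← map_cj_mul, hn, map_cj_map_cj_inv]
  have hmQ : Q.map (cj (n⁻¹ * g)) = Q :=
    mem_normalizer_iff_map_cj.1 (hNZQ (normalizer_le_normalizer_center _ hm))
  have e1 : Q.map (cj g) = Q.map (cj n) := by
    have : g = n * (n⁻¹ * g) := by group
    conv_lhs => rw [this, ← map_cj_mul, hmQ]
  have e2 : (Q.map (cj g)).map (cj n⁻¹) = Q.map (cj g) :=
    mem_normalizer_iff_map_cj.1 (Subgroup.inv_mem _ hnK)
  rw [← e2, e1, map_cj_map_cj_inv]

/-- S2844 -/
theorem large_bullet (Q : Subgroup H) (hQp : IsPGroup p ↥Q) (hQ1 : Q ≠ ⊥) (hL : IsLarge Q)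
    (Qb : Subgroup H) (hQb : Qb = largeBullet p Q) :
    (∀ g : H, g ∉ Subgroup.normalizer (Q : Set H) →
      Subgroup.centralizer (Q : Set H) ⊓
        Subgroup.centralizer ((Q.map (cj g) : Subgroup H) : Set H) = ⊥ ∧
      Subgroup.centralizer (Qb : Set H) ⊓
        Subgroup.centralizer ((Qb.map (cj g) : Subgroup H) : Set H) = ⊥ ∧
      (Q ⊓ Subgroup.centralizer (Q : Set H)) ⊓
        (Q.map (cj g) ⊓ Subgroup.centralizer ((Q.map (cj g) : Subgroup H) : Set H)) = ⊥ ∧
      (Qb ⊓ Subgroup.centralizer (Qb : Set H)) ⊓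
        (Qb.map (cj g) ⊓ Subgroup.centralizer ((Qb.map (cj g) : Subgroup H) : Set H)) = ⊥) ∧
    Subgroup.normalizer (Q : Set H) = Subgroup.normalizer (Qb : Set H) ∧ IsLarge Qb := by
  have hQQb : Q ≤ Qb := by
    rw [hQb]
    exact le_pCoreOf p Subgroup.le_normalizer le_rfl hQp
  have hQbp : IsPGroup p ↥Qb := by rw [hQb]; exact pCoreOf_isPGroup p _
  have hQb1 : Qb ≠ ⊥ := by
    intro h
    rw [h, le_bot_iff] at hQQb
    exact hQ1 hQQb
  have hCb : Subgroup.centralizer (Qb : Set H) ≤ Subgroup.centralizer (Q : Set H) :=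
    Subgroup.centralizer_le hQQb
  -- (a)
  have ha : ∀ g : H, g ∉ Subgroup.normalizer (Q : Set H) →
      Subgroup.centralizer (Q : Set H) ⊓
        Subgroup.centralizer ((Q.map (cj g) : Subgroup H) : Set H) = ⊥ := by
    intro g hg
    by_contra hU1
    set U := Subgroup.centralizer (Q : Set H) ⊓
        Subgroup.centralizer ((Q.map (cj g) : Subgroup H) : Set H) with hU
    have hLg := isLarge_map_cj hL g
    have h1 := hL.2 U inf_le_left hU1
    have h2 := hLg.2 U inf_le_right hU1
    have hQU : Q ≤ Subgroup.normalizer (U : Set H) := by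
      have : U ≤ Subgroup.centralizer (Q : Set H) := inf_le_left
      rw [Subgroup.le_centralizer_iff] at this
      exact this.trans (Subgroup.centralizer_le_normalizer _)
    have hQgU : Q.map (cj g) ≤ Subgroup.normalizer (U : Set H) := by
      have : U ≤ Subgroup.centralizer ((Q.map (cj g) : Subgroup H) : Set H) := inf_le_right
      rw [Subgroup.le_centralizer_iff] at this
      exact this.trans (Subgroup.centralizer_le_normalizer _)
    have hR : IsPGroup p ↥(Q ⊔ Q.map (cj g) : Subgroup H) :=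
      IsPGroup.to_sup_of_normal_right' hQp (hQp.map _) (hQU.trans h2)
    have := large_weakly_closed hQ1 hL g _ hR le_sup_left le_sup_right
    exact hg (mem_normalizer_iff_map_cj.2 this)
  -- (e)
  have he : Subgroup.normalizer (Q : Set H) = Subgroup.normalizer (Qb : Set H) := by
    apply le_antisymm
    · rw [hQb]; exact le_normalizer_pCoreOf p _
    · have hZ1 : Qb ⊓ Subgroup.centralizer (Qb : Set H) ≠ ⊥ := inf_centralizer_ne_bot hQbp hQb1
      have := hL.2 _ (inf_le_right.trans hCb) hZ1
      exact (normalizer_le_normalizer_center Qb).trans this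
  -- (f)
  have hf : IsLarge Qb := by
    constructor
    · exact (hCb.trans hL.1).trans hQQb
    · intro U hU hU1
      rw [← he]
      exact hL.2 U (hU.trans hCb) hU1
  refine ⟨?_, he, hf⟩
  intro g hg
  have h1 := ha g hg
  have hCbg : Subgroup.centralizer ((Qb.map (cj g) : Subgroup H) : Set H) ≤
      Subgroup.centralizer ((Q.map (cj g) : Subgroup H) : Set H) :=
    Subgroup.centralizer_le (Subgroup.map_mono hQQb)
  have h2 : Subgroup.centralizer (Qb : Set H) ⊓
        Subgroup.centralizer ((Qb.map (cj g) : Subgroup H) : Set H) = ⊥ := by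
    rw [eq_bot_iff, ← h1]
    exact inf_le_inf hCb hCbg
  refine ⟨h1, h2, ?_, ?_⟩
  · rw [eq_bot_iff, ← h1]
    exact inf_le_inf inf_le_right inf_le_right
  · rw [eq_bot_iff, ← h2]
    exact inf_le_inf inf_le_right inf_le_right

end

end Cfsg.Agent.Helper14
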