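import Cfsg.Agent.Helper14.PReduced3
import Cfsg.Agent.Helper14.Large

set_option autoImplicit false
set_option linter.unusedSectionVars false

namespace Cfsg.Agent.Helper14

open Cfsg

variable {H : Type*} [Group H] {p : ℕ} [Fact p.Prime]

/-- if `T` is Sylow in `K` and `K` normalizes `N ≤ K`, then `T ∩ N` is Sylow in `N` -/
theorem sylow_inf_isSylowIn {T K N : Subgroup H} [Finite ↥K] (hT : IsSylowIn p T K)
    (hNK : N ≤ K) (hKN : K ≤ Subgroup.normalizer (N : Set H)) : IsSylowIn p (T ⊓ N) N := by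
  obtain ⟨U, hU⟩ := exists_isSylowIn (p := p) N
  obtain ⟨T', hT', hUT'⟩ := exists_isSylowIn_ge (hU.1.trans hNK) hU.2.1
  obtain ⟨g, hgK, rfl⟩ := hT.exists_conj hT'
  have hNg : N.map (cj g⁻¹) = N := mem_normalizer_iff_map_cj.1 (hKN (K.inv_mem hgK))
  have hU' : IsSylowIn p (U.map (cj g⁻¹)) N := by
    have := hU.map_cj g⁻¹
    rwa [hNg] at this
  have hUT : U.map (cj g⁻¹) ≤ T := by
    rw [map_cj_le_iff, inv_inv]; exact hUT'
  have := hU'.2.2 (T ⊓ N) inf_le_right (hT.2.1.to_le inf_le_left) (le_inf hUT hU'.1)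
  rw [this]
  exact hU'

/-- if `D / N` is a `p`-group and `P` is Sylow in `D`, then `D = P N` -/
theorem le_sylow_sup_of_pQuotient {P D N : Subgroup H} [Finite ↥D] (hP : IsSylowIn p P D)
    (hND : N ≤ D) (hDN : D ≤ Subgroup.normalizer (N : Set H))
    (hq : ∀ d ∈ D, ∃ k : ℕ, d ^ (p ^ k) ∈ N) : D ≤ P ⊔ N := by
  have hp : p.Prime := Fact.out
  have hNn : (N.subgroupOf D).Normal := (Subgroup.normal_subgroupOf_iff_le_normalizer hND).2 hDN
  have hpq : IsPGroup p (↥D ⧸ N.subgroupOf D) := by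
    intro q
    obtain ⟨d, rfl⟩ := QuotientGroup.mk'_surjective _ q
    obtain ⟨k, hk⟩ := hq d.1 d.2
    refine ⟨k, ?_⟩
    rw [← map_pow, QuotientGroup.mk'_apply, QuotientGroup.eq_one_iff, Subgroup.mem_subgroupOf]
    simpa using hk
  obtain ⟨j, hj⟩ := IsPGroup.iff_card.1 hpq
  have h1 : (N.subgroupOf D).index = p ^ j := by rw [Subgroup.index_eq_card]; exact hj
  have h2 : ((P ⊔ N).subgroupOf D).index ∣ p ^ j := by
    rw [← h1]
    apply Subgroup.index_dvd_of_le
    intro x hx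
    rw [Subgroup.mem_subgroupOf] at hx ⊢
    exact Subgroup.mem_sup_right hx
  have h3 : ((P ⊔ N).subgroupOf D).index ∣ (hP.toSylow : Subgroup ↥D).index := by
    apply Subgroup.index_dvd_of_le
    intro x hx
    have hx' : (x : H) ∈ P := Subgroup.mem_subgroupOf.1 hx
    rw [Subgroup.mem_subgroupOf]
    exact Subgroup.mem_sup_left hx'
  have h4 : ¬ p ∣ (hP.toSylow : Subgroup ↥D).index := Sylow.not_dvd_index _
  obtain ⟨i, -, hi⟩ := (Nat.dvd_prime_pow hp).1 h2
  have hi0 : i = 0 := by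
    by_contra hne
    apply h4
    refine Dvd.dvd.trans ?_ h3
    rw [hi]
    exact dvd_pow_self p hne
  rw [hi0, pow_zero, Subgroup.index_eq_one, Subgroup.subgroupOf_eq_top] at hi
  exact hi

theorem isElementaryAbelian_ozc (Q : Subgroup H) : IsElementaryAbelian p (ozc p Q) := by
  have hcomm : ∀ a ∈ Q ⊓ Subgroup.centralizer (Q : Set H),
      ∀ b ∈ Q ⊓ Subgroup.centralizer (Q : Set H), a * b = b * a := by
    intro a ha b hb
    exact (Subgroup.mem_centralizer_iff.1 hb.2 a ha.1)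
  refine ⟨⟨⟨?_⟩⟩, ?_⟩
  · rintro ⟨a, ha⟩ ⟨b, hb⟩
    apply Subtype.ext
    exact hcomm a (omegaOne_le p _ ha) b (omegaOne_le p _ hb)
  · let W : Subgroup H :=
      { carrier := {a | a ∈ Q ⊓ Subgroup.centralizer (Q : Set H) ∧ a ^ p = 1}
        one_mem' := ⟨Subgroup.one_mem _, one_pow _⟩
        mul_mem' := by
          rintro a b ⟨ha, hap⟩ ⟨hb, hbp⟩
          refine ⟨Subgroup.mul_mem _ ha hb, ?_⟩
          have hc : Commute a b := hcomm a ha b hb
          rw [hc.mul_pow, hap, hbp, one_mul]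
        inv_mem' := by
          rintro a ⟨ha, hap⟩
          exact ⟨Subgroup.inv_mem _ ha, by rw [inv_pow, hap, inv_one]⟩ }
    have hW : ozc p Q ≤ W := by
      unfold ozc omegaOne
      rw [Subgroup.closure_le]
      intro x hx
      exact hx
    intro a ha
    exact (hW ha).2

theorem isElementaryAbelian_of_le {V W : Subgroup H} (hVW : V ≤ W)
    (hW : IsElementaryAbelian p W) : IsElementaryAbelian p V := by
  obtain ⟨⟨⟨hc⟩⟩, he⟩ := hW
  refine ⟨⟨⟨?_⟩⟩, fun a ha => he a (hVW ha)⟩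
  rintro ⟨a, ha⟩ ⟨b, hb⟩
  apply Subtype.ext
  have h2 : a * b = b * a := congrArg Subtype.val (hc ⟨a, hVW ha⟩ ⟨b, hVW hb⟩)
  exact h2

theorem ozc_le_ozc_pCoreOf {U L : Subgroup H} [Finite ↥L] (hU : IsSylowIn p U L)
    (hchar : L ⊓ Subgroup.centralizer (pCoreOf p L : Set H) ≤ pCoreOf p L) :
    ozc p U ≤ ozc p (pCoreOf p L) := by
  have hQU : pCoreOf p L ≤ U := pCoreOf_le_of_isSylowIn hU
  apply omegaOne_mono
  have h1 : U ⊓ Subgroup.centralizer (U : Set H) ≤ Subgroup.centralizer (pCoreOf p L : Set H) :=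
    inf_le_right.trans (Subgroup.centralizer_le hQU)
  exact le_inf ((le_inf (inf_le_left.trans hU.1) h1).trans hchar) h1

theorem sylowCenterClosure_le_ozc_pCoreOf {L : Subgroup H} [Finite ↥L]
    (hchar : L ⊓ Subgroup.centralizer (pCoreOf p L : Set H) ≤ pCoreOf p L) :
    sylowCenterClosure p L ≤ ozc p (pCoreOf p L) := by
  rw [sylowCenterClosure_eq]
  refine iSup_le fun S => ?_
  exact ozc_le_ozc_pCoreOf (isSylowIn_of_sylow S) hchar

theorem le_centralizer_ozc (T : Subgroup H) : T ≤ Subgroup.centralizer (ozc p T : Set H) := by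
  rw [Subgroup.le_centralizer_iff]
  exact (omegaOne_le p _).trans inf_le_right

/-- `Z_L` is `p`-reduced in a group `L` of characteristic `p` -/
theorem isPReducedIn_sylowCenterClosure {L : Subgroup H} [Finite ↥L]
    (hchar : L ⊓ Subgroup.centralizer (pCoreOf p L : Set H) ≤ pCoreOf p L) :
    IsPReducedIn p (sylowCenterClosure p L) L := by
  refine ⟨sylowCenterClosure_le p L, le_normalizer_sylowCenterClosure p L,
    isElementaryAbelian_of_le (sylowCenterClosure_le_ozc_pCoreOf hchar) (isElementaryAbelian_ozc _),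
    ?_⟩
  intro D hDL hLD hDp
  set Z := sylowCenterClosure p L with hZ
  set C := Subgroup.centralizer (Z : Set H) with hC
  have hLC : L ≤ Subgroup.normalizer (C : Set H) :=
    (le_normalizer_sylowCenterClosure p L).trans (normalizer_le_normalizer_centralizer' Z)
  have : Finite ↥D := Finite.of_injective (fun d : ↥D => (⟨d.1, hDL d.2⟩ : ↥L))
    (fun a b hab => Subtype.ext (by simpa using congrArg Subtype.val hab))
  obtain ⟨T, hT⟩ := exists_isSylowIn (p := p) L
  have hP : IsSylowIn p (T ⊓ D) D := sylow_inf_isSylowIn hT hDL hLD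
  have hDN : D ≤ Subgroup.normalizer ((D ⊓ C : Subgroup H) : Set H) :=
    le_normalizer_inf Subgroup.le_normalizer (hDL.trans hLC)
  have hq : ∀ d ∈ D, ∃ k : ℕ, d ^ (p ^ k) ∈ D ⊓ C := by
    intro d hd
    obtain ⟨k, hk⟩ := hDp d hd
    exact ⟨k, D.pow_mem hd _, hk⟩
  have h1 : D ≤ (T ⊓ D) ⊔ (D ⊓ C) := le_sylow_sup_of_pQuotient hP inf_le_left hDN hq
  have h2 : D ≤ Subgroup.centralizer (ozc p T : Set H) := by
    refine h1.trans (sup_le (inf_le_left.trans (le_centralizer_ozc T)) (inf_le_right.trans ?_))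
    exact Subgroup.centralizer_le (ozc_le_sylowCenterClosure' hT)
  rw [hC, Subgroup.le_centralizer_iff, hZ, sylowCenterClosure_eq]
  refine iSup_le fun S => ?_
  obtain ⟨l, hl, hlU⟩ := hT.exists_conj (isSylowIn_of_sylow S)
  rw [hlU, ← map_cj_ozc, ← Subgroup.le_centralizer_iff]
  have h3 := Subgroup.map_mono (f := cj l) h2
  rw [mem_normalizer_iff_map_cj.1 (hLD hl), map_cj_centralizer] at h3
  exact h3

end Cfsg.Agent.Helper14
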