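import Cfsg.Agent.Helper14.Stability2

set_option autoImplicit false
set_option linter.unusedSectionVars false

namespace Cfsg.Agent.Helper14

open Cfsg
open scoped commutatorElement

variable {H : Type*} [Group H]

/-- `K` normalizes `[K, Y]` -/
theorem le_normalizer_commutator_left (K Y : Subgroup H) :
    K ≤ Subgroup.normalizer ((⁅K, Y⁆ : Subgroup H) : Set H) := by
  apply le_normalizer_of_map_cj_le
  intro g hg
  rw [Subgroup.map_le_iff_le_comap, Subgroup.commutator_le]
  intro k hk y hy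
  rw [Subgroup.mem_comap]
  have e : cj g ⁅k, y⁆ = ⁅g * k, y⁆ * ⁅g, y⁆⁻¹ := by
    simp only [cj_apply, commutatorElement_def]; group
  rw [e]
  exact Subgroup.mul_mem _ (Subgroup.commutator_mem_commutator (K.mul_mem hg hk) hy)
    (Subgroup.inv_mem _ (Subgroup.commutator_mem_commutator hg hy))

/-- `Y` normalizes `[K, Y]` -/
theorem le_normalizer_commutator_right (K Y : Subgroup H) :
    Y ≤ Subgroup.normalizer ((⁅K, Y⁆ : Subgroup H) : Set H) := by
  rw [Subgroup.commutator_comm]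
  exact le_normalizer_commutator_left Y K

theorem le_centralizer_of_commutator_eq_bot {A Y : Subgroup H} (h : ⁅A, Y⁆ = ⊥) :
    Y ≤ Subgroup.centralizer (A : Set H) := by
  rw [Subgroup.commutator_comm] at h
  exact Subgroup.commutator_eq_bot_iff_le_centralizer.1 h

/-- quadratic action `[K,Y,Y] = 1` with `Y` normalizing `K` makes `[K,Y]` abelian -/
theorem commutator_abelian_of_quadratic (K Y : Subgroup H)
    (hYK : Y ≤ Subgroup.normalizer (K : Set H)) (hq : ⁅⁅K, Y⁆, Y⁆ = ⊥) :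
    ⁅⁅K, Y⁆, ⁅K, Y⁆⁆ = ⊥ := by
  set A := ⁅K, Y⁆ with hA
  have hAK : A ≤ K := commutator_le_left_of_le_normalizer hYK
  apply Subgroup.commutator_commutator_eq_bot_of_rotate (H₁ := K) (H₂ := Y) (H₃ := A)
  · rw [Subgroup.commutator_comm Y A, hq, Subgroup.commutator_bot_left]
  · rw [eq_bot_iff, ← hq]
    apply Subgroup.commutator_mono _ le_rfl
    exact commutator_le_left_of_le_normalizer (le_normalizer_commutator_left K Y)

theorem commutator_isPGroup_of_quadratic {p : ℕ} [Fact p.Prime] (K Y : Subgroup H)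
    (hY : IsPGroup p ↥Y) (hYK : Y ≤ Subgroup.normalizer (K : Set H)) (hq : ⁅⁅K, Y⁆, Y⁆ = ⊥) :
    IsPGroup p ↥(⁅K, Y⁆ : Subgroup H) := by
  have hab := commutator_abelian_of_quadratic K Y hYK hq
  have hcomm : ∀ a ∈ ⁅K, Y⁆, ∀ b ∈ ⁅K, Y⁆, Commute a b := by
    intro a ha b hb
    have := Subgroup.commutator_eq_bot_iff_le_centralizer.1 hab
    exact ((Subgroup.mem_centralizer_iff.1 (this ha)) b hb).symm
  have hYc := le_centralizer_of_commutator_eq_bot hq
  have key : ∀ a ∈ ⁅K, Y⁆, ∃ m : ℕ, a ^ (p ^ m) = 1 := by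
    intro a ha
    rw [Subgroup.commutator_def] at ha
    induction ha using Subgroup.closure_induction with
    | mem x hx =>
      obtain ⟨k, hk, y, hy, rfl⟩ := hx
      obtain ⟨m, hm⟩ := hY ⟨y, hy⟩
      have hm' : y ^ (p ^ m) = 1 := by
        have := congrArg Subtype.val hm
        simpa using this
      refine ⟨m, ?_⟩
      have hc : ⁅k, y⁆ ∈ ⁅K, Y⁆ := Subgroup.commutator_mem_commutator hk hy
      have hcy : Commute ⁅k, y⁆ y := (Subgroup.mem_centralizer_iff.1 (hYc hy)) _ hc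
      have e1 : k * y * k⁻¹ = ⁅k, y⁆ * y := by rw [commutatorElement_def]; group
      have e2 : (k * y * k⁻¹) ^ (p ^ m) = 1 := by
        rw [conj_pow, hm']; group
      rw [e1, hcy.mul_pow, hm', mul_one] at e2
      exact e2
    | one => exact ⟨0, by simp⟩
    | mul x y hx hy ihx ihy =>
      obtain ⟨m, hm⟩ := ihx
      obtain ⟨n, hn⟩ := ihy
      rw [← Subgroup.commutator_def] at hx hy
      refine ⟨m + n, ?_⟩
      rw [(hcomm x hx y hy).mul_pow, pow_add, pow_mul, hm, one_pow, mul_comm (p ^ m), pow_mul,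
        hn, one_pow, one_mul]
    | inv x hx ih =>
      obtain ⟨m, hm⟩ := ih
      exact ⟨m, by rw [inv_pow, hm, inv_one]⟩
  intro a
  obtain ⟨m, hm⟩ := key a a.2
  exact ⟨m, Subtype.ext (by simpa using hm)⟩

theorem commutator_eq_bot_of_quadratic {p : ℕ} [Fact p.Prime] (K : Subgroup H)
    (hO : pCore p ↥K = ⊥) (Y : Subgroup H) (hY : IsPGroup p ↥Y)
    (hYK : Y ≤ Subgroup.normalizer (K : Set H)) (hq : ⁅⁅K, Y⁆, Y⁆ = ⊥) : ⁅K, Y⁆ = ⊥ := by
  have hAK : ⁅K, Y⁆ ≤ K := commutator_le_left_of_le_normalizer hYK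
  have h1 := le_pCoreOf p hAK (le_normalizer_commutator_left K Y)
    (commutator_isPGroup_of_quadratic K Y hY hYK hq)
  have h2 : pCoreOf p K = ⊥ := by
    unfold pCoreOf
    rw [hO, Subgroup.map_bot]
  rw [h2] at h1
  exact eq_bot_iff.2 h1

end Cfsg.Agent.Helper14
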