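import Cfsg.Agent.Helper14.FrakM
import Cfsg.Agent.Helper14.Quadratic

set_option autoImplicit false
set_option linter.unusedSectionVars false

namespace Cfsg.Agent.Helper14

open Cfsg

variable {G : Type*} [Group G] {p : ℕ} [Fact p.Prime]

/-- a join of pairwise commuting elementary abelian subgroups is elementary abelian -/
theorem isElementaryAbelian_iSup {ι : Sort*} (F : ι → Subgroup G)
    (hF : ∀ i, IsElementaryAbelian p (F i))
    (hc : ∀ i j, F i ≤ Subgroup.centralizer (F j : Set G)) :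
    IsElementaryAbelian p (⨆ i, F i) := by
  set E := ⨆ i, F i with hE
  have hEc : E ≤ Subgroup.centralizer (E : Set G) := by
    rw [hE]
    refine iSup_le fun i => ?_
    rw [Subgroup.le_centralizer_iff]
    refine iSup_le fun j => ?_
    exact hc j i
  refine ⟨⟨⟨?_⟩⟩, ?_⟩
  · rintro ⟨a, ha⟩ ⟨b, hb⟩
    apply Subtype.ext
    exact (Subgroup.mem_centralizer_iff.1 (hEc hb) a ha)
  · let W : Subgroup G :=
      { carrier := {a | a ∈ E ∧ a ^ p = 1}
        one_mem' := ⟨Subgroup.one_mem _, one_pow _⟩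
        mul_mem' := by
          rintro a b ⟨ha, hap⟩ ⟨hb, hbp⟩
          refine ⟨Subgroup.mul_mem _ ha hb, ?_⟩
          have hcomm : Commute a b := (Subgroup.mem_centralizer_iff.1 (hEc hb) a ha)
          rw [hcomm.mul_pow, hap, hbp, one_mul]
        inv_mem' := by
          rintro a ⟨ha, hap⟩
          exact ⟨Subgroup.inv_mem _ ha, by rw [inv_pow, hap, inv_one]⟩ }
    have hW : E ≤ W := by
      rw [hE]
      refine iSup_le fun i a ha => ?_
      exact ⟨le_iSup F i ha, (hF i).2 a ha⟩
    intro a ha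
    exact (hW ha).2

theorem isElementaryAbelian_map_cj {Y : Subgroup G} (hY : IsElementaryAbelian p Y) (g : G) :
    IsElementaryAbelian p (Y.map (cj g)) := by
  obtain ⟨⟨⟨hc⟩⟩, he⟩ := hY
  refine ⟨⟨⟨?_⟩⟩, ?_⟩
  · rintro ⟨_, a, ha, rfl⟩ ⟨_, b, hb, rfl⟩
    apply Subtype.ext
    have h2 : a * b = b * a := congrArg Subtype.val (hc ⟨a, ha⟩ ⟨b, hb⟩)
    show cj g a * cj g b = cj g b * cj g a
    rw [← map_mul, ← map_mul, h2]
  · rintro _ ⟨a, ha, rfl⟩
    rw [← map_pow, he a ha, map_one]

/-- the key step of S2849: for asymmetric `Y`, normalized by `K ≥ R ≥ Y`, the `N(R)`-conjugates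
of `Y` commute pairwise -/
theorem asymmetric_conj_commute {Y R K : Subgroup G} (hasym : ¬ IsSymmetricIn Y)
    (hYR : Y ≤ R) (hRK : R ≤ K) (hKY : K ≤ Subgroup.normalizer (Y : Set G))
    (g : G) (hg : g ∈ Subgroup.normalizer (R : Set G)) :
    Y.map (cj g) ≤ Subgroup.centralizer (Y : Set G) := by
  have hRg : R.map (cj g) = R := mem_normalizer_iff_map_cj.1 hg
  have hRg' : R.map (cj g⁻¹) = R :=
    mem_normalizer_iff_map_cj.1 (Subgroup.inv_mem _ hg)
  have h1 : Y.map (cj g) ≤ Subgroup.normalizer (Y : Set G) := by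
    refine le_trans ?_ (hRK.trans hKY)
    rw [← hRg]; exact Subgroup.map_mono hYR
  have h2 : Y ≤ Subgroup.normalizer ((Y.map (cj g) : Subgroup G) : Set G) := by
    have h3 : Y.map (cj g⁻¹) ≤ Subgroup.normalizer (Y : Set G) := by
      refine le_trans ?_ (hRK.trans hKY)
      rw [← hRg']; exact Subgroup.map_mono hYR
    rw [map_cj_le_iff, inv_inv, map_cj_normalizer] at h3
    exact h3
  have h4 : ⁅Y, Y.map (cj g)⁆ ≤ Y ⊓ Y.map (cj g) :=
    le_inf (commutator_le_left_of_le_normalizer h1) (commutator_le_right_of_le_normalizer h2)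
  have h5 : ⁅Y, Y.map (cj g)⁆ = ⊥ := by
    by_contra hne
    exact hasym ⟨g, hne, h4⟩
  exact le_centralizer_of_commutator_eq_bot h5

theorem asymmetric_normalClosure_elementaryAbelian {Y R K : Subgroup G}
    (hYe : IsElementaryAbelian p Y) (hasym : ¬ IsSymmetricIn Y)
    (hYR : Y ≤ R) (hRK : R ≤ K) (hKY : K ≤ Subgroup.normalizer (Y : Set G)) :
    IsElementaryAbelian p ((Subgroup.normalClosure
      ((Y.subgroupOf (Subgroup.normalizer (R : Set G)) :
        Subgroup ↥(Subgroup.normalizer (R : Set G))) :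
        Set ↥(Subgroup.normalizer (R : Set G)))).map
      (Subgroup.normalizer (R : Set G)).subtype) := by
  set N := Subgroup.normalizer (R : Set G) with hN
  set E : Subgroup G := ⨆ g : ↥N, Y.map (cj (g : G)) with hE
  have hEe : IsElementaryAbelian p E := by
    apply isElementaryAbelian_iSup
    · intro g; exact isElementaryAbelian_map_cj hYe _
    · intro g h
      have h1 := asymmetric_conj_commute hasym hYR hRK hKY ((h : G)⁻¹ * (g : G))
        (N.mul_mem (N.inv_mem h.2) g.2)
      have h2 := Subgroup.map_mono (f := cj (h : G)) h1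
      rw [map_cj_mul, map_cj_centralizer] at h2
      have : (h : G) * ((h : G)⁻¹ * (g : G)) = g := by group
      rwa [this] at h2
  have hEN : E ≤ N := by
    rw [hE]
    refine iSup_le fun g => ?_
    have h1 : Y.map (cj (g : G)) ≤ R.map (cj (g : G)) := Subgroup.map_mono hYR
    rw [mem_normalizer_iff_map_cj.1 g.2] at h1
    exact h1.trans Subgroup.le_normalizer
  have hNE : N ≤ Subgroup.normalizer (E : Set G) := by
    apply le_normalizer_of_map_cj_le
    intro n hn
    rw [hE, Subgroup.map_iSup]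
    refine iSup_le fun g => ?_
    rw [map_cj_mul]
    exact le_iSup (fun g : ↥N => Y.map (cj (g : G))) ⟨n * g, N.mul_mem hn g.2⟩
  have hEn : (E.subgroupOf N).Normal := (Subgroup.normal_subgroupOf_iff_le_normalizer hEN).2 hNE
  have hYE : Y ≤ E := by
    have := le_iSup (fun g : ↥N => Y.map (cj (g : G))) (1 : ↥N)
    simp only [OneMemClass.coe_one, map_cj_one] at this
    exact this
  have h1 : Subgroup.normalClosure ((Y.subgroupOf N : Subgroup ↥N) : Set ↥N) ≤ E.subgroupOf N := by
    apply Subgroup.normalClosure_le_normal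
    intro x hx
    have hx' : (x : G) ∈ Y := Subgroup.mem_subgroupOf.1 hx
    exact Subgroup.mem_subgroupOf.2 (hYE hx')
  refine isElementaryAbelian_of_le ?_ hEe
  rintro _ ⟨x, hx, rfl⟩
  exact Subgroup.mem_subgroupOf.1 (h1 hx)

end Cfsg.Agent.Helper14
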