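import Cfsg.Agent.Helper14.Amalgam4

set_option autoImplicit false
set_option linter.unusedSectionVars false

namespace Cfsg.Agent.Helper14

open Cfsg

section General

variable {X : Type*} [Group X] {p : ℕ} [Fact p.Prime]

theorem center_map_subtype (H : Subgroup X) :
    (Subgroup.center ↥H).map H.subtype = H ⊓ Subgroup.centralizer (H : Set X) := by
  ext x
  rw [Subgroup.mem_inf, Subgroup.mem_map]
  constructor
  · rintro ⟨y, hy, rfl⟩
    refine ⟨y.2, ?_⟩
    rw [Subgroup.mem_centralizer_iff]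
    intro z hz
    have := (Subgroup.mem_center_iff.1 hy) ⟨z, hz⟩
    exact congrArg Subtype.val this
  · rintro ⟨hxH, hxc⟩
    refine ⟨⟨x, hxH⟩, ?_, rfl⟩
    rw [Subgroup.mem_center_iff]
    intro z
    apply Subtype.ext
    exact (Subgroup.mem_centralizer_iff.1 hxc) z z.2

theorem pCoreOf_le_of_isSylowIn {U H : Subgroup X} (h : IsSylowIn p U H) : pCoreOf p H ≤ U := by
  rw [← h.toSylow_map]
  exact Subgroup.map_mono (pCore_le_sylow p h.toSylow)

theorem eq_bot_of_omegaOne_eq_bot {C : Subgroup X} (hC : IsPGroup p ↥C)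
    (h : omegaOne p C = ⊥) : C = ⊥ := by
  rw [eq_bot_iff]
  intro x hx
  rw [Subgroup.mem_bot]
  by_contra hne
  obtain ⟨k, hk⟩ := (IsPGroup.iff_orderOf.1 hC) ⟨x, hx⟩
  have hk' : orderOf x = p ^ k := by rw [← hk]; exact (Subgroup.orderOf_coe (⟨x, hx⟩ : ↥C))
  have hk0 : k ≠ 0 := by
    rintro rfl
    rw [pow_zero, orderOf_eq_one_iff] at hk'
    exact hne hk'
  obtain ⟨j, rfl⟩ := Nat.exists_eq_succ_of_ne_zero hk0
  have hy : x ^ (p ^ j) ∈ omegaOne p C := by
    apply Subgroup.subset_closure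
    refine ⟨C.pow_mem hx _, ?_⟩
    rw [← pow_mul, ← pow_succ, ← hk', pow_orderOf_eq_one]
  rw [h, Subgroup.mem_bot] at hy
  have hp : (Fact.out : p.Prime).one_lt = (Fact.out : p.Prime).one_lt := rfl
  have hlt : p ^ j < orderOf x := by
    rw [hk']; exact Nat.pow_lt_pow_right (Fact.out : p.Prime).one_lt (Nat.lt_succ_self j)
  exact pow_ne_one_of_lt_orderOf (pow_ne_zero _ (Fact.out : p.Prime).ne_zero) hlt hy

theorem isSylowIn_of_le_of_isSylowIn {U E H : Subgroup X} (hUE : U ≤ E) (hEH : E ≤ H)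
    (h : IsSylowIn p U H) : IsSylowIn p U E :=
  ⟨hUE, h.2.1, fun Q hQE hQ hUQ => h.2.2 Q (hQE.trans hEH) hQ hUQ⟩

end General

section Edge

variable {X : Type*} [Group X] {p : ℕ} [Fact p.Prime] (M₁ M₂ : Subgroup X)

theorem isSylowIn_stab_of_edge (h : IsCharPAmalgamPair p M₁ M₂) (α β : CosetVertex M₁ M₂)
    (hadj : (cosetGraph M₁ M₂).Adj α β) (T : Subgroup X)
    (hT : IsSylowIn p T (edgeStabilizer α β)) :
    IsSylowIn p T (MulAction.stabilizer X α) ∧ IsSylowIn p T (MulAction.stabilizer X β) := by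
  obtain ⟨U, hU1, hU2⟩ := edge_exists_common_sylow M₁ M₂ h α β hadj
  have hUE : U ≤ edgeStabilizer α β := le_inf hU1.1 hU2.1
  have hUE' : IsSylowIn p U (edgeStabilizer α β) :=
    isSylowIn_of_le_of_isSylowIn hUE inf_le_left hU1
  have := finite_stab M₁ M₂ h α
  have : Finite ↥(edgeStabilizer α β) :=
    Finite.of_injective (fun v : ↥(edgeStabilizer α β) =>
      (⟨v.1, (inf_le_left : edgeStabilizer α β ≤ _) v.2⟩ : ↥(MulAction.stabilizer X α)))
      (fun a b hab => Subtype.ext (by simpa using congrArg Subtype.val hab))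
  obtain ⟨g, hg, rfl⟩ := hUE'.exists_conj hT
  have h1 := hU1.map_cj g
  have h2 := hU2.map_cj g
  rw [map_cj_eq_self_of_mem (inf_le_left (a := MulAction.stabilizer X α) hg)] at h1
  rw [map_cj_eq_self_of_mem (inf_le_right (a := MulAction.stabilizer X α) hg)] at h2
  exact ⟨h1, h2⟩

theorem center_pElementClosure_eq_bot (h : IsCharPAmalgamPair p M₁ M₂) (α β : CosetVertex M₁ M₂)
    (hadj : (cosetGraph M₁ M₂).Adj α β) (T : Subgroup X)
    (hT : IsSylowIn p T (edgeStabilizer α β)) (L : Subgroup X)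
    (hL : L ≤ MulAction.stabilizer X β)
    (hLc : L ≤ Subgroup.centralizer (ozc p T : Set X))
    (hLt : ∀ ν ν' : CosetVertex M₁ M₂, (cosetGraph M₁ M₂).Adj β ν → (cosetGraph M₁ M₂).Adj β ν' →
      ∃ g ∈ L, g • ν = ν') :
    Subgroup.center ↥(pElementClosure p (MulAction.stabilizer X α)) = ⊥ := by
  set Gα := MulAction.stabilizer X α with hGα
  set Lα := pElementClosure p Gα with hLα
  set C := Lα ⊓ Subgroup.centralizer (Lα : Set X) with hC
  have hTα : IsSylowIn p T Gα := (isSylowIn_stab_of_edge M₁ M₂ h α β hadj T hT).1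
  have hQT : pCoreOf p Gα ≤ T := pCoreOf_le_of_isSylowIn hTα
  have hTL : T ≤ Lα := le_pElementClosure_of_isPGroup p hTα.1 hTα.2.1
  have hQL : pCoreOf p Gα ≤ Lα := hQT.trans hTL
  have hLG : Lα ≤ Gα := pElementClosure_le p Gα
  have hCQ : C ≤ pCoreOf p Gα := by
    refine le_trans ?_ (charP_stab M₁ M₂ h α)
    refine le_inf (inf_le_left.trans hLG) ?_
    exact inf_le_right.trans (Subgroup.centralizer_le hQL)
  have hCT : C ≤ T ⊓ Subgroup.centralizer (T : Set X) :=
    le_inf (hCQ.trans hQT) (inf_le_right.trans (Subgroup.centralizer_le hTL))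
  set V := omegaOne p C with hV
  have hVT : V ≤ ozc p T := omegaOne_mono p hCT
  have hLN : L ≤ Subgroup.normalizer (V : Set X) :=
    (hLc.trans (Subgroup.centralizer_le hVT)).trans (Subgroup.centralizer_le_normalizer _)
  have hGN : Gα ≤ Subgroup.normalizer (V : Set X) := by
    apply le_normalizer_of_map_cj_le
    intro g hg
    have e1 : Lα.map (cj g) = Lα := by
      rw [hLα, map_cj_pElementClosure, map_cj_eq_self_of_mem hg]
    rw [hV, map_cj_omegaOne, hC, map_cj_inf, map_cj_centralizer, e1]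
  have htop : Subgroup.normalizer (V : Set X) = ⊤ := by
    rw [eq_top_iff, ← stab_sup_transitive_eq_top M₁ M₂ h.1.1 α β hadj L hL hLt]
    exact sup_le hGN hLN
  have hVbot : V = ⊥ := by
    apply edge_normal_trivial M₁ M₂ h.1 α β hadj V
    · exact ((omegaOne_le p C).trans (hCT.trans inf_le_left)).trans hT.1
    · rw [htop]; exact le_top
    · rw [htop]; exact le_top
  have hCbot : C = ⊥ :=
    eq_bot_of_omegaOne_eq_bot ((pCoreOf_isPGroup p Gα).to_le hCQ) hVbot
  have := center_map_subtype Lα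
  rw [← hC, hCbot] at this
  exact (Subgroup.map_eq_bot_iff_of_injective _ Lα.subtype_injective).1 this

end Edge

end Cfsg.Agent.Helper14
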