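import Cfsg.Agent.Helper14.PReduced2
import Cfsg.Agent.Helper14.Amalgam5

set_option autoImplicit false
set_option linter.unusedSectionVars false

namespace Cfsg.Agent.Helper14

open Cfsg

variable {H : Type*} [Group H] {p : ℕ} [Fact p.Prime]

/-- if `d` normalizes `C` and `c ∈ C`, then `(d c)^n ∈ d^n C` -/
theorem pow_mul_mem_of_mem_normalizer {C : Subgroup H} {d c : H}
    (hd : d ∈ Subgroup.normalizer (C : Set H)) (hc : c ∈ C) (n : ℕ) :
    (d ^ n)⁻¹ * (d * c) ^ n ∈ C := by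
  induction n with
  | zero => simp
  | succ n ih =>
    have h1 : (d ^ (n + 1))⁻¹ * (d * c) ^ (n + 1) =
        (d⁻¹ * ((d ^ n)⁻¹ * (d * c) ^ n) * d⁻¹⁻¹) * c := by
      rw [pow_succ, pow_succ]; group
    rw [h1]
    refine C.mul_mem ?_ hc
    exact (Subgroup.mem_normalizer_iff.1 (Subgroup.inv_mem _ hd) _).1 ih

theorem exists_pow_mem_of_mem_sup {D C : Subgroup H}
    (hDC : D ≤ Subgroup.normalizer (C : Set H))
    (hDp : ∀ d ∈ D, ∃ k : ℕ, d ^ (p ^ k) ∈ C) :
    ∀ e ∈ D ⊔ C, ∃ k : ℕ, e ^ (p ^ k) ∈ C := by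
  intro e he
  have h1 : e ∈ ((D ⊔ C : Subgroup H) : Set H) := he
  rw [Subgroup.coe_mul_of_left_le_normalizer_right D C hDC] at h1
  obtain ⟨d, hd, c, hc, rfl⟩ := h1
  obtain ⟨k, hk⟩ := hDp d hd
  refine ⟨k, ?_⟩
  have h2 := pow_mul_mem_of_mem_normalizer (hDC hd) hc (p ^ k)
  have h3 : (d * c) ^ (p ^ k) = d ^ (p ^ k) * ((d ^ (p ^ k))⁻¹ * (d * c) ^ (p ^ k)) := by group
  rw [h3]
  exact C.mul_mem hk h2

theorem le_normalizer_inf {A B K : Subgroup H} (hA : K ≤ Subgroup.normalizer (A : Set H))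
    (hB : K ≤ Subgroup.normalizer (B : Set H)) :
    K ≤ Subgroup.normalizer ((A ⊓ B : Subgroup H) : Set H) := by
  intro g hg
  rw [mem_normalizer_iff_map_cj, map_cj_inf, mem_normalizer_iff_map_cj.1 (hA hg),
    mem_normalizer_iff_map_cj.1 (hB hg)]

theorem le_normalizer_sup {A B K : Subgroup H} (hA : K ≤ Subgroup.normalizer (A : Set H))
    (hB : K ≤ Subgroup.normalizer (B : Set H)) :
    K ≤ Subgroup.normalizer ((A ⊔ B : Subgroup H) : Set H) := by
  intro g hg
  rw [mem_normalizer_iff_map_cj, Subgroup.map_sup, mem_normalizer_iff_map_cj.1 (hA hg),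
    mem_normalizer_iff_map_cj.1 (hB hg)]

theorem normalizer_le_normalizer_centralizer' (P : Subgroup H) :
    Subgroup.normalizer (P : Set H) ≤
      Subgroup.normalizer ((Subgroup.centralizer (P : Set H) : Subgroup H) : Set H) := by
  intro g hg
  rw [mem_normalizer_iff_map_cj, map_cj_centralizer, mem_normalizer_iff_map_cj.1 hg]

/-- `Y_M` is `p`-reduced in `L` whenever `L C(Y) = M C(Y)` -/
theorem isPReducedIn_of_sup_centralizer_eq {Y L M : Subgroup H} (hY : IsPReducedIn p Y M)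
    (hYL : Y ≤ L)
    (hsup : L ⊔ Subgroup.centralizer (Y : Set H) = M ⊔ Subgroup.centralizer (Y : Set H)) :
    IsPReducedIn p Y L := by
  obtain ⟨hYM, hMN, he, hM3⟩ := hY
  set C := Subgroup.centralizer (Y : Set H) with hC
  have hCN : C ≤ Subgroup.normalizer (Y : Set H) := Subgroup.centralizer_le_normalizer _
  have hNC : Subgroup.normalizer (Y : Set H) ≤ Subgroup.normalizer (C : Set H) :=
    normalizer_le_normalizer_centralizer' Y
  have hLN : L ≤ Subgroup.normalizer (Y : Set H) := by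
    have h0 : L ≤ L ⊔ C := le_sup_left
    rw [hsup] at h0
    exact h0.trans (sup_le hMN hCN)
  refine ⟨hYL, hLN, he, ?_⟩
  intro D hDL hLD hDp
  have hDC : D ≤ Subgroup.normalizer (C : Set H) := hDL.trans (hLN.trans hNC)
  have hLDC : L ⊔ C ≤ Subgroup.normalizer ((D ⊔ C : Subgroup H) : Set H) := by
    refine sup_le (le_normalizer_sup hLD (hLN.trans hNC)) ?_
    exact le_sup_right.trans Subgroup.le_normalizer
  have hME : M ≤ Subgroup.normalizer (((D ⊔ C) ⊓ M : Subgroup H) : Set H) := by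
    refine le_normalizer_inf ?_ Subgroup.le_normalizer
    have h0 : M ≤ M ⊔ C := le_sup_left
    rw [← hsup] at h0
    exact h0.trans hLDC
  have hEC : (D ⊔ C) ⊓ M ≤ C := by
    refine hM3 _ inf_le_right hME ?_
    intro e he'
    exact exists_pow_mem_of_mem_sup hDC hDp e he'.1
  intro d hd
  have h1 : d ∈ ((M ⊔ C : Subgroup H) : Set H) := by
    rw [← hsup]; exact le_sup_left (a := L) (hDL hd)
  rw [Subgroup.coe_mul_of_left_le_normalizer_right M C (hMN.trans hNC)] at h1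
  obtain ⟨m, hm, c, hc, hmc⟩ := h1
  have hm2 : m ∈ D ⊔ C := by
    have : m = d * c⁻¹ := by rw [← hmc]; group
    rw [this]
    exact Subgroup.mul_mem _ (Subgroup.mem_sup_left hd) (Subgroup.mem_sup_right (C.inv_mem hc))
  have hm3 : m ∈ C := hEC ⟨hm2, hm⟩
  rw [← hmc]
  exact C.mul_mem hm3 hc

end Cfsg.Agent.Helper14
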