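import Cfsg.Agent.Helper14.PReducedSub
import Cfsg.Agent.Helper14.PReduced3
import Cfsg.Agent.Helper14.FrakM2
import Cfsg.Agent.Lead.CoprimeAbelian
import Cfsg.Agent.Lead.PiHall2
import Cfsg.Agent.Helper23.PGroup

set_option autoImplicit false
set_option linter.unusedSectionVars false

namespace Cfsg.Agent.Helper14

open Cfsg
open scoped commutatorElement

section
variable {G : Type*} [Group G] {p : ℕ} [Fact p.Prime]

/-- some `p`-power power of an element of a finite group is a `p'`-element -/
theorem exists_pow_coprime_order [Finite G] (d : G) :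
    ∃ n : ℕ, Nat.Coprime (orderOf (d ^ (p ^ n))) p := by
  have hp : p.Prime := Fact.out
  obtain ⟨n, m, hm, hnm⟩ := Nat.exists_eq_pow_mul_and_not_dvd (orderOf_pos d).ne' p hp.ne_one
  refine ⟨n, ?_⟩
  have : orderOf (d ^ (p ^ n)) = m := by
    rw [orderOf_pow' d (pow_ne_zero n hp.ne_zero), hnm, Nat.gcd_eq_right (Dvd.intro _ rfl),
      Nat.mul_div_cancel_left m (pow_pos hp.pos n)]
  rw [this]
  exact ((Nat.Prime.coprime_iff_not_dvd hp).2 hm).symm

theorem IsPReducedIn.map_cj {V L : Subgroup G} (h : IsPReducedIn p V L) (g : G) :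
    IsPReducedIn p (V.map (cj g)) (L.map (cj g)) := by
  obtain ⟨hVL, hLV, hVe, hred⟩ := h
  refine ⟨Subgroup.map_mono hVL, ?_, isElementaryAbelian_map_cj hVe g, ?_⟩
  · rw [← map_cj_normalizer]
    exact Subgroup.map_mono hLV
  · intro D hDL hLD hDp
    have h1 : D.map (cj g⁻¹) ≤ L := by
      rw [map_cj_le_iff, inv_inv]; exact hDL
    have h2 : L ≤ Subgroup.normalizer ((D.map (cj g⁻¹) : Subgroup G) : Set G) := by
      rw [← map_cj_normalizer, ← map_cj_le_iff]
      exact hLD
    have h3 : ∀ d ∈ D.map (cj g⁻¹), ∃ k : ℕ, d ^ (p ^ k) ∈ Subgroup.centralizer (V : Set G) := by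
      rintro _ ⟨d, hd, rfl⟩
      obtain ⟨k, hk⟩ := hDp d hd
      refine ⟨k, ?_⟩
      rw [← map_pow]
      have : cj g⁻¹ (d ^ p ^ k) ∈
          (Subgroup.centralizer ((V.map (cj g) : Subgroup G) : Set G)).map (cj g⁻¹) :=
        ⟨_, hk, rfl⟩
      rwa [map_cj_centralizer, map_cj_map_cj_inv] at this
    have h4 := hred _ h1 h2 h3
    have h5 := Subgroup.map_mono (f := cj g) h4
    rwa [map_cj_inv_map_cj, map_cj_centralizer] at h5

theorem le_normalizer_largestPReducedOf (L : Subgroup G) :
    Subgroup.normalizer (L : Set G) ≤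
      Subgroup.normalizer ((largestPReducedOf p L : Subgroup G) : Set G) := by
  apply le_normalizer_of_map_cj_le
  intro g hg
  have h := (largestPReducedOf_isPReducedIn (p := p) L).map_cj g
  rw [mem_normalizer_iff_map_cj.1 hg] at h
  exact le_largestPReducedOf h

theorem isPReducedIn_top_iff {V : Subgroup G} :
    IsPReducedIn p V ⊤ ↔ IsPReducedNormal p V := by
  rw [isPReducedNormal_iff]
  constructor
  · rintro ⟨-, hn, he, hred⟩
    refine ⟨Subgroup.normalizer_eq_top_iff.1 (top_le_iff.1 hn), he, ?_⟩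
    intro D hD hDp
    exact hred D le_top (by rw [Subgroup.normalizer_eq_top_iff.2 hD]) hDp
  · rintro ⟨hn, he, hred⟩
    refine ⟨le_top, by rw [Subgroup.normalizer_eq_top_iff.2 hn], he, ?_⟩
    intro D _ hD hDp
    exact hred D (Subgroup.normalizer_eq_top_iff.1 (top_le_iff.1 hD)) hDp

theorem largestPReducedOf_top : largestPReducedOf p (⊤ : Subgroup G) = largestPReduced p G := by
  apply le_antisymm
  · exact le_pReducedJoin (isPReducedIn_top_iff.1 (largestPReducedOf_isPReducedIn ⊤))
  · exact le_largestPReducedOf (isPReducedIn_top_iff.2 pReducedJoin_isPReducedNormal)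


/-- **Key lemma** (`P × Q`-type): if `X` is `p`-reduced for `L ⊴ M`, and `P ⊴ M` acts as a `p`-group
on `X`, then `C_L(C_X(P)) = C_L(X)`. -/
theorem inf_centralizer_fixed_le [Finite G] {L M X P : Subgroup G}
    (hLM : L ≤ M) (hML : M ≤ Subgroup.normalizer (L : Set G))
    (hX : IsPReducedIn p X L) (hMX : M ≤ Subgroup.normalizer (X : Set G))
    (hPM : P ≤ M) (hMP : M ≤ Subgroup.normalizer (P : Set G))
    (hPX : ∀ g ∈ P, ∃ k : ℕ, g ^ (p ^ k) ∈ Subgroup.centralizer (X : Set G)) :
    L ⊓ Subgroup.centralizer ((X ⊓ Subgroup.centralizer (P : Set G) : Subgroup G) : Set G) ≤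
      Subgroup.centralizer (X : Set G) := by
  have hp : p.Prime := Fact.out
  obtain ⟨hXL, hLX, hXe, hXred⟩ := hX
  set C := Subgroup.centralizer (X : Set G) with hC
  set X₁ := X ⊓ Subgroup.centralizer (P : Set G) with hX₁
  set K := L ⊓ Subgroup.centralizer (X₁ : Set G) with hK
  have hMC : M ≤ Subgroup.normalizer (C : Set G) :=
    hMX.trans (normalizer_le_normalizer_centralizer' X)
  have hMX₁ : M ≤ Subgroup.normalizer (X₁ : Set G) :=
    le_normalizer_inf hMX (hMP.trans (normalizer_le_normalizer_centralizer' P))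
  have hMK : M ≤ Subgroup.normalizer (K : Set G) :=
    le_normalizer_inf hML (hMX₁.trans (normalizer_le_normalizer_centralizer' X₁))
  have hPL : P ⊓ L ≤ C := by
    apply hXred (P ⊓ L) inf_le_right (le_normalizer_inf (hLM.trans hMP) (hLM.trans hML))
    intro d hd; exact hPX d hd.1
  have hXp : IsPGroup p ↥X := isPGroup_of_isElementaryAbelian hXe
  have : IsMulCommutative ↥X := hXe.1
  -- the key claim on `p'`-elements
  have key : ∀ a ∈ K, Nat.Coprime (orderOf a) p → a ∈ C := by
    intro a haK hcop
    have haL : a ∈ L := haK.1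
    have haM : a ∈ M := hLM haL
    have haX₁ : a ∈ Subgroup.centralizer (X₁ : Set G) := haK.2
    set Za := Subgroup.zpowers a with hZa
    have hZaM : Za ≤ M := Subgroup.zpowers_le.2 haM
    set A := Za ⊔ C with hA
    -- `[X, A] ≤ [X, ⟨a⟩]`
    have hYle : ⁅X, A⁆ ≤ ⁅X, Za⁆ := by
      rw [Subgroup.commutator_le]
      intro x hx b hb
      have hb' : b ∈ ((Za ⊔ C : Subgroup G) : Set G) := hb
      rw [Subgroup.coe_mul_of_left_le_normalizer_right Za C (hZaM.trans hMC)] at hb'
      obtain ⟨y, hy, c, hc, rfl⟩ := Set.mem_mul.1 hb'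
      have hcx : c * x⁻¹ = x⁻¹ * c := by
        have hc' : c ∈ Subgroup.centralizer (X : Set G) := hc
        rw [Subgroup.mem_centralizer_iff] at hc'
        exact (hc' x⁻¹ (X.inv_mem hx)).symm
      have : ⁅x, y * c⁆ = ⁅x, y⁆ := by
        rw [commutatorElement_def, commutatorElement_def]
        calc x * (y * c) * x⁻¹ * (y * c)⁻¹ = x * y * (c * x⁻¹) * c⁻¹ * y⁻¹ := by group
          _ = x * y * (x⁻¹ * c) * c⁻¹ * y⁻¹ := by rw [hcx]
          _ = x * y * x⁻¹ * y⁻¹ := by group
      rw [this]
      exact Subgroup.commutator_mem_commutator hx hy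
    -- `P` normalizes `A`
    have hPA : P ≤ Subgroup.normalizer (A : Set G) := by
      apply le_normalizer_of_map_cj_le
      intro g hg
      have hgM : g ∈ M := hPM hg
      rw [hA, Subgroup.map_sup, hZa, MonoidHom.map_zpowers, ← hZa,
        mem_normalizer_iff_map_cj.1 (hMC hgM)]
      apply sup_le _ le_sup_right
      rw [Subgroup.zpowers_le]
      have he : g * a * g⁻¹ * a⁻¹ ∈ P ⊓ L := by
        constructor
        · have h1 : a * g⁻¹ * a⁻¹ ∈ P := by
            have := (Subgroup.mem_normalizer_iff.1 (hMP haM) g⁻¹).1 (P.inv_mem hg)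
            exact this
          have : g * a * g⁻¹ * a⁻¹ = g * (a * g⁻¹ * a⁻¹) := by group
          rw [this]
          exact P.mul_mem hg h1
        · have h1 : g * a * g⁻¹ ∈ L := (Subgroup.mem_normalizer_iff.1 (hML hgM) a).1 haL
          exact L.mul_mem h1 (L.inv_mem haL)
      have : cj g a = (g * a * g⁻¹ * a⁻¹) * a := by rw [cj_apply]; group
      rw [this]
      exact Subgroup.mul_mem _ (Subgroup.mem_sup_right (hPL he))
        (Subgroup.mem_sup_left (Subgroup.mem_zpowers a))
    set Y := ⁅X, A⁆ with hY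
    have hYX : Y ≤ X := by
      refine hYle.trans ?_
      exact commutator_le_left_of_le_normalizer (hZaM.trans hMX)
    have hPY : P ≤ Subgroup.normalizer (Y : Set G) := le_normalizer_commutator (hPM.trans hMX) hPA
    by_cases hYbot : Y = ⊥
    · have h1 : ⁅X, Za⁆ = ⊥ := by
        rw [eq_bot_iff, ← hYbot]
        exact Subgroup.commutator_mono le_rfl le_sup_left
      rw [Subgroup.commutator_eq_bot_iff_le_centralizer] at h1
      show a ∈ Subgroup.centralizer (X : Set G)
      rw [Subgroup.mem_centralizer_iff]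
      intro x hx
      have := h1 hx
      rw [Subgroup.mem_centralizer_iff] at this
      exact (this a (Subgroup.mem_zpowers a)).symm
    · exfalso
      obtain ⟨P₀, hP₀⟩ := exists_isSylowIn (p := p) P
      have hP₀P : P₀ ≤ P := hP₀.1
      have hYp : IsPGroup p ↥Y := hXp.to_le hYX
      have hNp : IsPGroup p ↥(Y ⊔ P₀) :=
        IsPGroup.to_sup_of_normal_left' hYp hP₀.2.1 (hP₀P.trans hPY)
      set N := Y ⊔ P₀ with hN
      have hYN : Y ≤ N := le_sup_left
      have hNY : N ≤ Subgroup.normalizer (Y : Set G) :=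
        sup_le Subgroup.le_normalizer (hP₀P.trans hPY)
      have : (Y.subgroupOf N).Normal := (Subgroup.normal_subgroupOf_iff_le_normalizer hYN).2 hNY
      have hne : Y.subgroupOf N ≠ ⊥ := by
        intro h
        apply hYbot
        rw [eq_bot_iff]
        intro y hy
        have : (⟨y, hYN hy⟩ : ↥N) ∈ Y.subgroupOf N := by
          rw [Subgroup.mem_subgroupOf]; exact hy
        rw [h, Subgroup.mem_bot] at this
        rw [Subgroup.mem_bot]
        exact congrArg Subtype.val this
      obtain ⟨b, hbY, hbZ, hb1⟩ := Cfsg.Agent.Helper23.exists_mem_inf_center_ne_one hNp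
        (Y.subgroupOf N) hne
      rw [Subgroup.mem_subgroupOf] at hbY
      rw [Subgroup.mem_center_iff] at hbZ
      have hbX : (b : G) ∈ X := hYX hbY
      -- `b` commutes with `P₀`
      have hbP₀ : P₀ ≤ Subgroup.centralizer ({(b : G)} : Set G) := by
        intro g hg
        rw [Subgroup.mem_centralizer_iff]
        intro y hy
        rw [Set.mem_singleton_iff] at hy
        subst hy
        have := hbZ ⟨g, Subgroup.mem_sup_right hg⟩
        exact (congrArg Subtype.val this).symm
      have hbC : C ⊓ P ≤ Subgroup.centralizer ({(b : G)} : Set G) := by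
        intro c hc
        rw [Subgroup.mem_centralizer_iff]
        intro y hy
        rw [Set.mem_singleton_iff] at hy
        subst hy
        have hc' : c ∈ Subgroup.centralizer (X : Set G) := hc.1
        rw [Subgroup.mem_centralizer_iff] at hc'
        exact hc' _ hbX
      have hPsup : P ≤ P₀ ⊔ (C ⊓ P) := by
        apply le_sylow_sup_of_pQuotient hP₀ inf_le_right
          (le_normalizer_inf (hPM.trans hMC) Subgroup.le_normalizer)
        intro d hd
        obtain ⟨k, hk⟩ := hPX d hd
        exact ⟨k, hk, P.pow_mem hd _⟩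
      have hbP : (b : G) ∈ Subgroup.centralizer (P : Set G) := by
        rw [Subgroup.mem_centralizer_iff]
        intro g hg
        have := (hPsup.trans (sup_le hbP₀ hbC)) hg
        rw [Subgroup.mem_centralizer_iff] at this
        exact (this _ rfl).symm
      have hbX₁ : (b : G) ∈ X₁ := ⟨hbX, hbP⟩
      have hab : (b : G) ∈ Subgroup.centralizer (Za : Set G) := by
        have h1 : Za ≤ Subgroup.centralizer ({(b : G)} : Set G) := by
          rw [Subgroup.zpowers_le, Subgroup.mem_centralizer_iff]
          intro y hy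
          rw [Set.mem_singleton_iff] at hy
          subst hy
          rw [Subgroup.mem_centralizer_iff] at haX₁
          exact haX₁ _ hbX₁
        rw [Subgroup.mem_centralizer_iff]
        intro y hy
        have := h1 hy
        rw [Subgroup.mem_centralizer_iff] at this
        exact (this _ rfl).symm
      have hcopc : (Nat.card ↥Za).Coprime (Nat.card ↥X) := by
        rw [hZa, Nat.card_zpowers]
        obtain ⟨k, hk⟩ := IsPGroup.iff_card.1 hXp
        rw [hk]
        exact Nat.Coprime.pow_right k hcop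
      have hinf := Cfsg.Agent.Lead.coprime_abelian_inf Za X (hZaM.trans hMX) hcopc
      have hbmem : (b : G) ∈ (X ⊓ Subgroup.centralizer (Za : Set G)) ⊓ ⁅X, Za⁆ :=
        ⟨⟨hbX, hab⟩, hYle hbY⟩
      rw [hinf, Subgroup.mem_bot] at hbmem
      apply hb1
      exact Subtype.ext hbmem
  apply hXred K inf_le_left (hLM.trans hMK)
  intro d hd
  obtain ⟨n, hn⟩ := exists_pow_coprime_order (p := p) d
  exact ⟨n, key _ (K.pow_mem hd _) hn⟩


/-- descent: a `p`-reduced `X` for `L ⊴ M` (normalized by `M`) contains a `p`-reduced subgroup for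
`M` with the same centralizer in `L` -/
theorem exists_isPReducedIn_sub [Finite G] {L M : Subgroup G}
    (hLM : L ≤ M) (hML : M ≤ Subgroup.normalizer (L : Set G)) :
    ∀ n : ℕ, ∀ X : Subgroup G, Nat.card ↥X = n → IsPReducedIn p X L →
      M ≤ Subgroup.normalizer (X : Set G) →
      ∃ X' : Subgroup G, X' ≤ X ∧ IsPReducedIn p X' M ∧
        L ⊓ Subgroup.centralizer (X' : Set G) ≤ Subgroup.centralizer (X : Set G) := by
  intro n
  induction n using Nat.strong_induction_on with
  | _ n ih =>
  intro X hn hX hMX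
  by_cases h : ∀ D : Subgroup G, D ≤ M → M ≤ Subgroup.normalizer (D : Set G) →
      (∀ d ∈ D, ∃ k : ℕ, d ^ (p ^ k) ∈ Subgroup.centralizer (X : Set G)) →
      D ≤ Subgroup.centralizer (X : Set G)
  · exact ⟨X, le_rfl, ⟨hX.1.trans hLM, hMX, hX.2.2.1, h⟩, inf_le_right⟩
  · push Not at h
    obtain ⟨D, hDM, hMD, hDp, hDC⟩ := h
    set X₁ := X ⊓ Subgroup.centralizer (D : Set G) with hX₁
    have hT := inf_centralizer_fixed_le hLM hML hX hMX hDM hMD hDp
    rw [← hX₁] at hT
    have hlt : X₁ < X := by
      refine lt_of_le_of_ne inf_le_left ?_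
      intro heq
      apply hDC
      have : X ≤ Subgroup.centralizer (D : Set G) := by
        rw [← heq]; exact inf_le_right
      exact Subgroup.le_centralizer_iff.1 this
    have hcard : Nat.card ↥X₁ < n := by
      rw [← hn]
      exact Cfsg.Agent.Lead.card_lt_card_of_lt hlt
    have hMX₁ : M ≤ Subgroup.normalizer (X₁ : Set G) :=
      le_normalizer_inf hMX (hMD.trans (normalizer_le_normalizer_centralizer' D))
    have hX₁red : IsPReducedIn p X₁ L := by
      refine ⟨inf_le_left.trans hX.1, hLM.trans hMX₁, isElementaryAbelian_of_le inf_le_left hX.2.2.1,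
        ?_⟩
      intro D' hD'L hLD' hD'p
      have h1 : D' ≤ Subgroup.centralizer (X : Set G) := by
        apply hX.2.2.2 D' hD'L hLD'
        intro d hd
        obtain ⟨k, hk⟩ := hD'p d hd
        exact ⟨k, hT ⟨L.pow_mem (hD'L hd) _, hk⟩⟩
      exact h1.trans (Subgroup.centralizer_le inf_le_left)
    obtain ⟨X', hX'X₁, hX'red, hX'C⟩ := ih _ hcard X₁ rfl hX₁red hMX₁
    refine ⟨X', hX'X₁.trans inf_le_left, hX'red, ?_⟩
    intro x hx
    exact hT ⟨hx.1, hX'C hx⟩

/-- relative normal case: `C_L(Y_M) ≤ C_L(Y_L)` for `L ⊴ M` -/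
theorem inf_centralizer_largestPReducedOf_le [Finite G] {L M : Subgroup G}
    (hLM : L ≤ M) (hML : M ≤ Subgroup.normalizer (L : Set G)) :
    L ⊓ Subgroup.centralizer ((largestPReducedOf p M : Subgroup G) : Set G) ≤
      Subgroup.centralizer ((largestPReducedOf p L : Subgroup G) : Set G) := by
  obtain ⟨X', -, hX'red, hX'C⟩ := exists_isPReducedIn_sub hLM hML _ (largestPReducedOf p L) rfl
    (largestPReducedOf_isPReducedIn L) (hML.trans (le_normalizer_largestPReducedOf L))
  have h1 : X' ≤ largestPReducedOf p M := le_largestPReducedOf hX'red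
  intro x hx
  exact hX'C ⟨hx.1, Subgroup.centralizer_le h1 hx.2⟩

/-- `C_L(Y_H) ≤ C_L(Y_L)` for subnormal `L` -/
theorem inf_centralizer_largestPReduced_le [Finite G] {L : Subgroup G} (hL : L.IsSubnormal) :
    L ⊓ Subgroup.centralizer (largestPReduced p G : Set G) ≤
      Subgroup.centralizer ((largestPReducedOf p L : Subgroup G) : Set G) := by
  induction hL with
  | top =>
    rw [largestPReducedOf_top]
    exact inf_le_right
  | step B K hBK hK hN ih =>
    have hKB : K ≤ Subgroup.normalizer (B : Set G) :=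
      (Subgroup.normal_subgroupOf_iff_le_normalizer hBK).1 hN
    intro x hx
    exact inf_centralizer_largestPReducedOf_le hBK hKB ⟨hx.1, ih ⟨hBK hx.1, hx.2⟩⟩

/-- core of S2804/S2825: a normal subgroup `D` of the subnormal `K` acting as a `p`-group on some
`U` between `[V, O^p(K)]` and `V` centralizes the `p`-reduced normal subgroup `V` -/
theorem le_centralizer_of_pAction_sub [Finite G] {V : Subgroup G} (hV : IsPReducedNormal p V)
    {K : Subgroup G} (hK : K.IsSubnormal) {U : Subgroup G} (_hUV : U ≤ V)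
    (hU : ⁅V, (pResidual p ↥K).map K.subtype⁆ ≤ U) {D : Subgroup G} (hDK : D ≤ K)
    (hKD : K ≤ Subgroup.normalizer (D : Set G))
    (hDp : ∀ d ∈ D, ∃ k : ℕ, d ^ (p ^ k) ∈ Subgroup.centralizer (U : Set G)) :
    D ≤ Subgroup.centralizer (V : Set G) := by
  have hVn : V.Normal := hV.1
  have hVe : IsElementaryAbelian p V := hV.2.1
  set R := (pResidual p ↥K).map K.subtype with hR
  have hDsub : D.IsSubnormal := by
    apply Subgroup.IsSubnormal.trans hDK _ hK
    exact ((Subgroup.normal_subgroupOf_iff_le_normalizer hDK).2 hKD).isSubnormal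
  have hp' : ∀ d ∈ D, Nat.Coprime (orderOf d) p → d ∈ Subgroup.centralizer (V : Set G) := by
    intro d hd hcop
    have hdR : d ∈ R := by
      rw [hR, pResidualOf_eq_closure]
      exact Subgroup.subset_closure ⟨hDK hd, hcop⟩
    have hdU : d ∈ Subgroup.centralizer (U : Set G) := by
      obtain ⟨k, hk⟩ := hDp d hd
      have hc : Nat.Coprime (p ^ k) (orderOf d) := (Nat.Coprime.pow_right k hcop).symm
      obtain ⟨m, hm⟩ := exists_pow_eq_self_of_coprime hc
      rw [← hm]
      exact Subgroup.pow_mem _ hk m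
    have hdp : d ^ p ∈ Subgroup.centralizer (V : Set G) := by
      apply pow_mem_centralizer_of_quadratic hVn hVe
      intro v hv
      have hw : d * v * d⁻¹ * v⁻¹ ∈ U := by
        apply hU
        have h1 : ⁅d, v⁆ ∈ ⁅R, V⁆ := Subgroup.commutator_mem_commutator hdR hv
        rw [Subgroup.commutator_comm] at h1
        rw [commutatorElement_def] at h1
        exact h1
      rw [Subgroup.mem_centralizer_iff] at hdU
      exact (hdU _ hw).symm
    have hc : Nat.Coprime p (orderOf d) := hcop.symm
    obtain ⟨m, hm⟩ := exists_pow_eq_self_of_coprime hc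
    rw [← hm]
    exact Subgroup.pow_mem _ hdp m
  apply le_centralizer_of_subnormal_pAction hV hDsub
  intro d hd
  obtain ⟨n, hn⟩ := exists_pow_coprime_order (p := p) d
  exact ⟨n, hp' _ (D.pow_mem hd _) hn⟩

/-- `[V, O^p(K)] ≤ V ⊓ K` for `V` a `p`-reduced normal subgroup and `K` subnormal -/
theorem commutator_pResidualOf_le_inf [Finite G] {V : Subgroup G} (hV : IsPReducedNormal p V)
    {K : Subgroup G} (hK : K.IsSubnormal) :
    ⁅V, (pResidual p ↥K).map K.subtype⁆ ≤ V ⊓ K := by
  have hVn : V.Normal := hV.1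
  have hVcore : V ≤ pCore p G := le_pCore p hVn (isPGroup_of_isElementaryAbelian hV.2.1)
  have hVR : V ≤ Subgroup.normalizer (((pResidual p ↥K).map K.subtype : Subgroup G) : Set G) :=
    hVcore.trans (pCore_le_normalizer_pResidualOf hK)
  exact le_inf (Subgroup.commutator_le_left V _)
    ((commutator_le_right_of_le_normalizer hVR).trans (map_subtype_le _))

/-- `V ∩ K` is `p`-reduced in the subnormal subgroup `K` -/
theorem inf_isPReducedIn [Finite G] {V : Subgroup G} (hV : IsPReducedNormal p V)
    {K : Subgroup G} (hK : K.IsSubnormal) : IsPReducedIn p (V ⊓ K) K := by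
  have hVn : V.Normal := hV.1
  have hKV : K ≤ Subgroup.normalizer (V : Set G) := by
    rw [Subgroup.normalizer_eq_top_iff.2 hVn]; exact le_top
  refine ⟨inf_le_right, le_normalizer_inf hKV Subgroup.le_normalizer,
    isElementaryAbelian_of_le inf_le_left hV.2.1, ?_⟩
  intro D hDK hKD hDp
  exact (le_centralizer_of_pAction_sub hV hK inf_le_left (commutator_pResidualOf_le_inf hV hK)
    hDK hKD hDp).trans (Subgroup.centralizer_le inf_le_left)

/-- `C_K(V ∩ K) ≤ C(V)` -/
theorem inf_centralizer_inf_le [Finite G] {V : Subgroup G} (hV : IsPReducedNormal p V)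
    {K : Subgroup G} (hK : K.IsSubnormal) :
    K ⊓ Subgroup.centralizer ((V ⊓ K : Subgroup G) : Set G) ≤ Subgroup.centralizer (V : Set G) := by
  have hVn : V.Normal := hV.1
  have hKV : K ≤ Subgroup.normalizer (V : Set G) := by
    rw [Subgroup.normalizer_eq_top_iff.2 hVn]; exact le_top
  have hKU : K ≤ Subgroup.normalizer ((V ⊓ K : Subgroup G) : Set G) :=
    le_normalizer_inf hKV Subgroup.le_normalizer
  apply le_centralizer_of_pAction_sub hV hK (U := V ⊓ K) inf_le_left
    (commutator_pResidualOf_le_inf hV hK) inf_le_left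
    (le_normalizer_inf Subgroup.le_normalizer
      (hKU.trans (normalizer_le_normalizer_centralizer' _)))
  intro d hd
  exact ⟨0, by simpa using hd.2⟩

end

end Cfsg.Agent.Helper14
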