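import Cfsg.Agent.Helper14.Subnormal2
import Cfsg.Agent.Helper14.PReducedSub2
import Cfsg.Agent.Lead.CoprimeFrattini
import Cfsg.Agent.Helper1.PGroup

set_option autoImplicit false
set_option linter.unusedSectionVars false
set_option linter.style.haveILetI false

namespace Cfsg.Agent.Helper14

open Cfsg

section FratStab

variable {L : Type*} [Group L]

/-- image of the Frattini subgroup of a normal subgroup is normal -/
theorem frattini_map_normal (A : Subgroup L) [hA : A.Normal] :
    ((frattini ↥A).map A.subtype).Normal := by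
  rw [← Subgroup.normalizer_eq_top_iff, eq_top_iff]
  have h1 : Subgroup.normalizer (A : Set L) = ⊤ := Subgroup.normalizer_eq_top_iff.2 hA
  rw [← h1]
  exact Lead.normalizer_le_normalizer_map_of_characteristic A (frattini ↥A)

/-- The subgroup of elements acting trivially on `A/Φ(A)`. -/
def fratStab (A : Subgroup L) [hA : A.Normal] : Subgroup L where
  carrier := {g | ∀ a ∈ A, g * a * g⁻¹ * a⁻¹ ∈ (frattini ↥A).map A.subtype}
  one_mem' := by
    intro a _
    have : (1 : L) * a * 1⁻¹ * a⁻¹ = 1 := by group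
    rw [this]; exact Subgroup.one_mem _
  mul_mem' := by
    intro g h hg hh a ha
    haveI := frattini_map_normal A
    have : g * h * a * (g * h)⁻¹ * a⁻¹ = g * (h * a * h⁻¹ * a⁻¹) * g⁻¹ * (g * a * g⁻¹ * a⁻¹) := by
      group
    rw [this]
    exact Subgroup.mul_mem _ (‹((frattini ↥A).map A.subtype).Normal›.conj_mem _ (hh a ha) g)
      (hg a ha)
  inv_mem' := by
    intro g hg a ha
    haveI := frattini_map_normal A
    have : g⁻¹ * a * g⁻¹⁻¹ * a⁻¹ = g⁻¹ * (g * a * g⁻¹ * a⁻¹)⁻¹ * g⁻¹⁻¹ := by group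
    rw [this]
    exact ‹((frattini ↥A).map A.subtype).Normal›.conj_mem _ (Subgroup.inv_mem _ (hg a ha)) g⁻¹

theorem mem_fratStab (A : Subgroup L) [hA : A.Normal] (g : L) :
    g ∈ fratStab A ↔ ∀ a ∈ A, g * a * g⁻¹ * a⁻¹ ∈ (frattini ↥A).map A.subtype := Iff.rfl

instance fratStab_normal (A : Subgroup L) [hA : A.Normal] : (fratStab A).Normal := ⟨by
  intro g hg x a ha
  haveI := frattini_map_normal A
  have ha' : x⁻¹ * a * x ∈ A := by
    have := hA.conj_mem a ha x⁻¹
    rwa [inv_inv] at this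
  have : x * g * x⁻¹ * a * (x * g * x⁻¹)⁻¹ * a⁻¹ =
      x * (g * (x⁻¹ * a * x) * g⁻¹ * (x⁻¹ * a * x)⁻¹) * x⁻¹ := by group
  rw [this]
  exact ‹((frattini ↥A).map A.subtype).Normal›.conj_mem _ (hg _ ha') x⟩

theorem centralizer_le_fratStab (A : Subgroup L) [hA : A.Normal] :
    Subgroup.centralizer (A : Set L) ≤ fratStab A := by
  intro g hg a ha
  have h1 : a * g = g * a := (Subgroup.mem_centralizer_iff.1 hg) a ha
  have : g * a * g⁻¹ * a⁻¹ = 1 := by
    rw [← h1]; group
  rw [this]; exact Subgroup.one_mem _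

variable [Finite L] {p : ℕ} [Fact p.Prime]

/-- Burnside: the stabilizer of `A/Φ(A)` modulo `C(A)` is a `p`-group. -/
theorem exists_pow_mem_centralizer_of_mem_fratStab (A : Subgroup L) [hA : A.Normal]
    (hAp : IsPGroup p ↥A) (d : L) (hd : d ∈ fratStab A) :
    ∃ n : ℕ, d ^ (p ^ n) ∈ Subgroup.centralizer (A : Set L) := by
  have hp : p.Prime := Fact.out
  obtain ⟨n, hn⟩ := exists_pow_coprime_order (p := p) d
  refine ⟨n, ?_⟩
  set e := d ^ (p ^ n) with he
  have heD : e ∈ fratStab A := Subgroup.pow_mem _ hd _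
  have hB : Subgroup.zpowers e ≤ fratStab A := by
    rw [Subgroup.zpowers_le]; exact heD
  have hcard : Nat.card (Subgroup.zpowers e) = orderOf e := Nat.card_zpowers e
  have hfr : IsPGroup p ↥(frattini ↥A) := hAp.to_subgroup _
  obtain ⟨k, hk⟩ := IsPGroup.iff_card.1 hfr
  have hcop : (Nat.card (Subgroup.zpowers e)).Coprime (Nat.card (frattini ↥A)) := by
    rw [hcard, hk]
    exact Nat.Coprime.pow_right k hn
  have hnorm : Subgroup.zpowers e ≤ Subgroup.normalizer (A : Set L) := by
    rw [Subgroup.normalizer_eq_top_iff.2 hA]; exact le_top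
  have := Lead.centralizes_of_trivial_on_frattini_quotient (Subgroup.zpowers e) A hnorm hcop
    (fun a ha k hk => hB ha k hk)
  exact this (Subgroup.mem_zpowers e)

/-- Subgroups between `C(A)` and `fratStab A` are subnormal. -/
theorem isSubnormal_of_le_fratStab (A : Subgroup L) [hA : A.Normal]
    (hAp : IsPGroup p ↥A) (D₀ : Subgroup L) (h1 : Subgroup.centralizer (A : Set L) ≤ D₀)
    (h2 : D₀ ≤ fratStab A) : D₀.IsSubnormal := by
  set D := fratStab A with hD
  set K := Subgroup.centralizer (A : Set L) with hK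
  haveI hKn : K.Normal := Subgroup.normal_centralizer
  haveI hK'n : (K.subgroupOf D).Normal := hKn.subgroupOf D
  have hquot : IsPGroup p (↥D ⧸ K.subgroupOf D) := by
    intro x
    obtain ⟨d, rfl⟩ := QuotientGroup.mk_surjective x
    obtain ⟨n, hn⟩ := exists_pow_mem_centralizer_of_mem_fratStab (p := p) A hAp d.1 d.2
    refine ⟨n, ?_⟩
    rw [← QuotientGroup.mk_pow, QuotientGroup.eq_one_iff, Subgroup.mem_subgroupOf]
    simpa using hn
  have hsn1 : ((D₀.subgroupOf D).map (QuotientGroup.mk' (K.subgroupOf D))).IsSubnormal :=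
    isSubnormal_of_isPGroup hquot _
  have hsn2 := hsn1.comap (QuotientGroup.mk' (K.subgroupOf D))
  have hcomap : ((D₀.subgroupOf D).map (QuotientGroup.mk' (K.subgroupOf D))).comap
      (QuotientGroup.mk' (K.subgroupOf D)) = D₀.subgroupOf D := by
    rw [Subgroup.comap_map_eq, QuotientGroup.ker_mk']
    apply sup_of_le_left
    intro x hx
    exact Subgroup.mem_subgroupOf.2 (h1 (Subgroup.mem_subgroupOf.1 hx))
  rw [hcomap] at hsn2
  exact Subgroup.IsSubnormal.trans h2 hsn2 (fratStab_normal A).isSubnormal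

end FratStab

end Cfsg.Agent.Helper14
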