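import Cfsg.Agent.Helper14.Irreducible

set_option autoImplicit false
set_option linter.unusedSectionVars false

namespace Cfsg.Agent.Helper14

open Cfsg
open scoped commutatorElement Pointwise

section

variable {H : Type*} [Group H] {p : ℕ}

/-- `O^p(H)` is normal -/
instance pResidual_normal : (pResidual p H).Normal := by
  constructor
  intro n hn g
  have : (pResidual p H).map (cj g) ≤ pResidual p H := by
    unfold pResidual
    rw [MonoidHom.map_closure, Subgroup.closure_le]
    rintro _ ⟨x, hx, rfl⟩
    apply Subgroup.subset_closure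
    show Nat.Coprime (orderOf (cj g x)) p
    have : orderOf (cj g x) = orderOf x :=
      orderOf_injective (cj g) (cj_injective g) x
    rw [this]; exact hx
  exact this ⟨n, hn, rfl⟩

variable [Finite H] [Fact p.Prime]

theorem isPGroup_quotient_pResidual : IsPGroup p (H ⧸ pResidual p H) := by
  intro q
  obtain ⟨h, rfl⟩ := QuotientGroup.mk'_surjective (pResidual p H) q
  obtain ⟨n, hn⟩ := exists_pow_mem_pResidual (p := p) h
  refine ⟨n, ?_⟩
  rw [← map_pow]
  exact (QuotientGroup.eq_one_iff _).2 hn

/-- `O^p(H) T = H` for a Sylow `p`-subgroup `T` -/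
theorem pResidual_sup_sylow (T : Sylow p H) : pResidual p H ⊔ (T : Subgroup H) = ⊤ := by
  have hp : p.Prime := Fact.out
  set R := pResidual p H with hR
  obtain ⟨k, hk⟩ := IsPGroup.iff_card.1 (isPGroup_quotient_pResidual (H := H) (p := p))
  have h1 : (R ⊔ (T : Subgroup H)).index ∣ p ^ k := by
    rw [← hk, ← Subgroup.index_eq_card]
    exact Subgroup.index_dvd_of_le le_sup_left
  have h2 : (R ⊔ (T : Subgroup H)).index ∣ (T : Subgroup H).index :=
    Subgroup.index_dvd_of_le le_sup_right
  obtain ⟨j, _, hj⟩ := (Nat.dvd_prime_pow hp).1 h1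
  rw [← Subgroup.index_eq_one, hj]
  rcases Nat.eq_zero_or_pos j with h0 | h0
  · rw [h0, pow_zero]
  · exfalso
    apply T.not_dvd_index
    refine dvd_trans ?_ h2
    rw [hj]
    exact dvd_pow_self p h0.ne'

/-- if the normal subgroup `N` is `p`-closed then `T ∩ N` is normal in `H` -/
theorem normal_sylow_inf_of_isPClosed (T : Sylow p H) (N : Subgroup H) [hN : N.Normal]
    (hcl : IsPClosed p ↥N) : ((T : Subgroup H) ⊓ N).Normal := by
  have hP := sylow_inf_normal_isSylowIn T N
  have h1 : (hP.toSylow : Subgroup ↥N).Normal := hcl hP.toSylow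
  have h2 : (hP.toSylow : Subgroup ↥N).Characteristic := Sylow.characteristic_of_normal _ h1
  have h3 : ((hP.toSylow : Subgroup ↥N).map N.subtype).Normal := inferInstance
  rwa [hP.toSylow_map] at h3

/-- S2827 -/
theorem pIrreducible_structure (hH : IsPIrreducible p H) (T : Sylow p H) :
    Subgroup.normalClosure ((T : Subgroup H) : Set H) = ⊤ ∧
    _root_.commutator H ⊔ (T : Subgroup H) = ⊤ ∧
    pResidual p H ≤ _root_.commutator H ∧
    ∀ Y : Subgroup H, Y ≤ (T : Subgroup H) → (T : Subgroup H) ≤ Subgroup.normalizer (Y : Set H) →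
      ¬ Y ≤ pCore p H →
      ⁅pResidual p H, Y⁆ = pResidual p H ∧ pResidual p H ≤ Subgroup.normalClosure (Y : Set H) := by
  set R := pResidual p H with hR
  have hRT : R ⊔ (T : Subgroup H) = ⊤ := pResidual_sup_sylow T
  have h1 : Subgroup.normalClosure ((T : Subgroup H) : Set H) = ⊤ := by
    set N := Subgroup.normalClosure ((T : Subgroup H) : Set H) with hN
    have hTN : (T : Subgroup H) ≤ N := Subgroup.le_normalClosure
    have hNcl : ¬ IsPClosed p ↥N := by
      intro hcl
      have := normal_sylow_inf_of_isPClosed T N hcl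
      rw [inf_eq_left.2 hTN] at this
      exact hH.1 (isPClosed_of_normal_sylow T this)
    have hRN : R ≤ N := hH.2 N inferInstance hNcl
    rw [eq_top_iff, ← hRT]
    exact sup_le hRN hTN
  have h2 : _root_.commutator H ⊔ (T : Subgroup H) = ⊤ := by
    have hn : (_root_.commutator H ⊔ (T : Subgroup H)).Normal :=
      Subgroup.Normal.of_commutator_le H le_sup_left
    rw [eq_top_iff, ← h1]
    exact Subgroup.normalClosure_le_normal (le_sup_right (a := _root_.commutator H))
  have h3 : R ≤ _root_.commutator H :=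
    pResidual_le_of_isPGroup_quotient _ (isPGroup_quotient_of_sup_sylow T _ h2)
  refine ⟨h1, h2, h3, ?_⟩
  intro Y hYT hTY hYO
  have hYp : IsPGroup p ↥Y := T.isPGroup'.to_le hYT
  -- (4b)
  have h4b : R ≤ Subgroup.normalClosure (Y : Set H) := by
    set N := Subgroup.normalClosure (Y : Set H) with hN
    apply hH.2 N inferInstance
    intro hcl
    have hn := normal_sylow_inf_of_isPClosed T N hcl
    apply hYO
    refine le_trans (le_inf hYT Subgroup.le_normalClosure) ?_
    exact le_pCore p hn (T.isPGroup'.to_le inf_le_left)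
  refine ⟨?_, h4b⟩
  -- (4a)
  set K := ⁅R, Y⁆ with hK
  have hKR : K ≤ R := Subgroup.commutator_le_left R Y
  have hTR : ∀ t : H, R.map (cj t) = R := by
    intro t
    exact mem_normalizer_iff_map_cj.1 (by rw [Subgroup.normalizer_eq_top]; trivial)
  have hKn : K.Normal := by
    rw [← Subgroup.normalizer_eq_top_iff, eq_top_iff, ← hRT]
    apply sup_le (le_normalizer_commutator_left R Y)
    apply le_normalizer_of_map_cj_le
    intro t ht
    rw [Subgroup.map_commutator, hTR t, mem_normalizer_iff_map_cj.1 (hTY ht)]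
  have hKYn : (K ⊔ Y).Normal := by
    rw [← Subgroup.normalizer_eq_top_iff, eq_top_iff, ← hRT]
    apply sup_le
    · apply le_normalizer_of_map_cj_le
      intro r hr
      rw [Subgroup.map_sup]
      apply sup_le
      · rw [mem_normalizer_iff_map_cj.1 (le_normalizer_commutator_left R Y hr)]
        exact le_sup_left
      · rintro _ ⟨y, hy, rfl⟩
        have : cj r y = ⁅r, y⁆ * y := by rw [cj_apply, commutatorElement_def]; group
        rw [this]
        exact Subgroup.mul_mem _
          (Subgroup.mem_sup_left (Subgroup.commutator_mem_commutator hr hy))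
          (Subgroup.mem_sup_right hy)
    · apply le_normalizer_of_map_cj_le
      intro t ht
      rw [Subgroup.map_sup]
      apply sup_le
      · have := hKn.conj_mem
        rintro _ ⟨k, hk, rfl⟩
        exact Subgroup.mem_sup_left (hKn.conj_mem k hk t)
      · rw [mem_normalizer_iff_map_cj.1 (hTY ht)]
        exact le_sup_right
  have hRKY : R ≤ K ⊔ Y :=
    h4b.trans (Subgroup.normalClosure_le_normal (le_sup_right (a := K)))
  apply le_antisymm hKR
  show pResidual p H ≤ K
  unfold pResidual
  rw [Subgroup.closure_le]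
  intro g hg
  have hg' : Nat.Coprime (orderOf g) p := hg
  have hgR : g ∈ R := Subgroup.subset_closure hg
  have hgKY : g ∈ ((K ⊔ Y : Subgroup H) : Set H) := hRKY hgR
  rw [Subgroup.normal_mul] at hgKY
  obtain ⟨k, hk, y, hy, rfl⟩ := hgKY
  obtain ⟨m, hm⟩ := hYp ⟨y, hy⟩
  have hm' : y ^ (p ^ m) = 1 := by
    have := congrArg Subtype.val hm
    simpa using this
  have e1 : QuotientGroup.mk' K (k * y) = QuotientGroup.mk' K y := by
    have hk1 : QuotientGroup.mk' K k = 1 := (QuotientGroup.eq_one_iff k).2 hk
    rw [map_mul, hk1, one_mul]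
  have e2 : (QuotientGroup.mk' K (k * y)) ^ (p ^ m) = 1 := by
    rw [e1, ← map_pow, hm', map_one]
  have e3 : (QuotientGroup.mk' K (k * y)) ^ (orderOf (k * y)) = 1 := by
    rw [← map_pow, pow_orderOf_eq_one, map_one]
  have e4 : orderOf (QuotientGroup.mk' K (k * y)) ∣ Nat.gcd (orderOf (k * y)) (p ^ m) :=
    Nat.dvd_gcd (orderOf_dvd_of_pow_eq_one e3) (orderOf_dvd_of_pow_eq_one e2)
  have e5 : Nat.gcd (orderOf (k * y)) (p ^ m) = 1 := Nat.Coprime.pow_right m hg'
  rw [e5, Nat.dvd_one, orderOf_eq_one_iff] at e4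
  exact (QuotientGroup.eq_one_iff _).1 e4

end

end Cfsg.Agent.Helper14
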