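import Cfsg.Agent.Helper14.Asym7
import Cfsg.Agent.Helper14.Subnormal2
import Cfsg.Agent.Helper14.Irreducible2

set_option autoImplicit false
set_option linter.unusedSectionVars false
set_option linter.style.haveILetI false

namespace Cfsg.Agent.Helper14

open Cfsg

section AsymH

variable {G : Type*} [Group G] {p : ℕ} [Fact p.Prime]

/-- a subgroup containing `O^p(L)` is subnormal -/
theorem isSubnormal_of_pResidual_le {L : Type*} [Group L] [Finite L] (B : Subgroup L)
    (hB : pResidual p L ≤ B) : B.IsSubnormal := by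
  haveI : (pResidual p L).Normal := pResidual_normal
  have h1 : (B.map (QuotientGroup.mk' (pResidual p L))).IsSubnormal :=
    isSubnormal_of_isPGroup (p := p) isPGroup_quotient_pResidual _
  have h2 := h1.comap (QuotientGroup.mk' (pResidual p L))
  rw [Subgroup.comap_map_eq_self] at h2
  · exact h2
  · rw [QuotientGroup.ker_mk']; exact hB

/-- `O_p` of a subnormal subgroup (ambient form) -/
theorem pCoreOf_le_pCoreOf_of_isSubnormal [Finite G] {K₁ H : Subgroup G} (hKH : K₁ ≤ H)
    (hsn : (K₁.subgroupOf H).IsSubnormal) : pCoreOf p K₁ ≤ pCoreOf p H := by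
  set A := (pCoreOf p K₁).subgroupOf H with hA
  have hAK : A ≤ K₁.subgroupOf H := by
    intro x hx
    rw [Subgroup.mem_subgroupOf] at hx ⊢
    exact pCoreOf_le p K₁ hx
  have hAn : (A.subgroupOf (K₁.subgroupOf H)).Normal := by
    rw [Subgroup.normal_subgroupOf_iff_le_normalizer hAK]
    intro x hx
    exact mem_normalizer_subgroupOf (le_normalizer_pCoreOf p K₁ (Subgroup.mem_subgroupOf.1 hx))
  have hAsn : A.IsSubnormal := Subgroup.IsSubnormal.trans hAK hAn.isSubnormal hsn
  have hAp : IsPGroup p ↥A := (pCoreOf_isPGroup p K₁).comap_subtype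
  have h1 : A ≤ pCore p ↥H := le_pCore_of_isSubnormal hAsn hAp
  intro x hx
  have hxH : x ∈ H := hKH (pCoreOf_le p K₁ hx)
  exact ⟨⟨x, hxH⟩, h1 (Subgroup.mem_subgroupOf.2 hx), rfl⟩

/-- `O_p` of a normal subgroup (ambient form) -/
theorem pCoreOf_le_pCoreOf_of_normal [Finite G] {N H : Subgroup G} (hNH : N ≤ H)
    (hHN : H ≤ Subgroup.normalizer (N : Set G)) : pCoreOf p N ≤ pCoreOf p H :=
  le_pCoreOf p ((pCoreOf_le p N).trans hNH) (hHN.trans (normalizer_le_normalizer_pCoreOf N))
    (pCoreOf_isPGroup p N)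

/-- the normal closure in `H` of `A ≤ H`, in the ambient group -/
theorem map_normalClosure_subgroupOf {A H : Subgroup G} (hAH : A ≤ H) :
    (Subgroup.normalClosure ((A.subgroupOf H : Subgroup ↥H) : Set ↥H)).map H.subtype =
      ⨆ x : ↥H, A.map (cj (x : G)) := by
  set W := ⨆ x : ↥H, A.map (cj (x : G)) with hW
  have hWH : W ≤ H := by
    refine iSup_le fun x => ?_
    rintro _ ⟨a, ha, rfl⟩
    rw [cj_apply]
    exact H.mul_mem (H.mul_mem x.2 (hAH ha)) (H.inv_mem x.2)
  have hHW : H ≤ Subgroup.normalizer (W : Set G) := by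
    apply le_normalizer_of_map_cj_le
    intro g hg
    rw [hW, Subgroup.map_iSup]
    refine iSup_le fun x => ?_
    rw [map_cj_mul]
    exact le_iSup (fun x : ↥H => A.map (cj (x : G))) (⟨g, hg⟩ * x)
  apply le_antisymm
  · haveI hn : (W.subgroupOf H).Normal :=
      (Subgroup.normal_subgroupOf_iff_le_normalizer hWH).2 hHW
    have h1 : Subgroup.normalClosure ((A.subgroupOf H : Subgroup ↥H) : Set ↥H) ≤ W.subgroupOf H := by
      apply Subgroup.normalClosure_le_normal
      intro x hx
      have hx' : (x : G) ∈ A := Subgroup.mem_subgroupOf.1 hx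
      show x ∈ W.subgroupOf H
      rw [Subgroup.mem_subgroupOf]
      have h2 := le_iSup (fun x : ↥H => A.map (cj (x : G))) 1
      have h3 : A.map (cj ((1 : ↥H) : G)) = A := by
        rw [Subgroup.coe_one]; exact map_cj_one A
      rw [h3] at h2
      exact h2 hx'
    rintro _ ⟨x, hx, rfl⟩
    exact Subgroup.mem_subgroupOf.1 (h1 hx)
  · refine iSup_le fun x => ?_
    rintro _ ⟨a, ha, rfl⟩
    have ha' : (⟨a, hAH ha⟩ : ↥H) ∈ Subgroup.normalClosure ((A.subgroupOf H : Subgroup ↥H) : Set ↥H) :=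
      Subgroup.subset_normalClosure (Subgroup.mem_subgroupOf.2 ha)
    have h2 := (Subgroup.normalClosure_normal (s := ((A.subgroupOf H : Subgroup ↥H) : Set ↥H))).conj_mem
      _ ha' x
    refine ⟨_, h2, ?_⟩
    rw [cj_apply]
    rfl

/-- `[R, Y]` is normalized by `Y` when `Y` normalizes `R` -/
theorem le_normalizer_commutator_of_le_normalizer {R Y : Subgroup G}
    (hYR : Y ≤ Subgroup.normalizer (R : Set G)) :
    Y ≤ Subgroup.normalizer ((⁅R, Y⁆ : Subgroup G) : Set G) := by
  intro y hy
  rw [mem_normalizer_iff_map_cj]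
  show (⁅R, Y⁆ : Subgroup G).map (cj y) = ⁅R, Y⁆
  rw [Subgroup.map_commutator]
  have h1 : R.map (cj y) = R := mem_normalizer_iff_map_cj.1 (hYR hy)
  have h2 : Y.map (cj y) = Y := mem_normalizer_iff_map_cj.1 (Subgroup.le_normalizer hy)
  rw [h1, h2]

end AsymH

end Cfsg.Agent.Helper14
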