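import Cfsg.Agent.Helper14.PCore
import Cfsg.Prelude.Def_LocalEven

set_option autoImplicit false
set_option linter.unusedSectionVars false

namespace Cfsg.Agent.Helper14

open Cfsg

variable {L : Type*} [Group L] {p : ℕ} [Fact p.Prime]

theorem isPGroup_of_isElementaryAbelian {V : Subgroup L} (h : IsElementaryAbelian p V) :
    IsPGroup p ↥V := by
  intro a
  refine ⟨1, ?_⟩
  rw [pow_one]
  exact Subtype.ext (by simpa using h.2 a.1 a.2)

/-- `O_p(L)` centralizes every `p`-reduced normal subgroup -/
theorem pCore_le_centralizer_of_isPReducedNormal {V : Subgroup L} (h : IsPReducedNormal p V) :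
    pCore p L ≤ Subgroup.centralizer (V : Set L) := by
  obtain ⟨_, _, hn, hcore⟩ := h
  have h1 : ((pCore p L).map (QuotientGroup.mk' (Subgroup.centralizer (V : Set L)))).Normal :=
    (pCore_normal p).map _ (QuotientGroup.mk'_surjective _)
  have h2 := le_pCore p h1 ((pCore_isPGroup p).map _)
  rw [hcore, le_bot_iff, Subgroup.map_eq_bot_iff, QuotientGroup.ker_mk'] at h2
  exact h2

theorem le_pCore_of_isPReducedNormal {V : Subgroup L} (h : IsPReducedNormal p V) :
    V ≤ pCore p L :=
  le_pCore p h.1 (isPGroup_of_isElementaryAbelian h.2.1)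

/-- the join of all `p`-reduced normal subgroups -/
def pReducedJoin (p : ℕ) (L : Type*) [Group L] : Subgroup L :=
  sSup {V : Subgroup L | IsPReducedNormal p V}

theorem le_pReducedJoin {V : Subgroup L} (h : IsPReducedNormal p V) : V ≤ pReducedJoin p L :=
  le_sSup h

theorem pReducedJoin_le_pCore : pReducedJoin p L ≤ pCore p L :=
  sSup_le fun _ hV => le_pCore_of_isPReducedNormal hV

theorem pCore_le_centralizer_pReducedJoin :
    pCore p L ≤ Subgroup.centralizer (pReducedJoin p L : Set L) := by
  rw [Subgroup.le_centralizer_iff]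
  refine sSup_le fun V hV => ?_
  rw [← Subgroup.le_centralizer_iff]
  exact pCore_le_centralizer_of_isPReducedNormal hV

theorem pReducedJoin_le_centralizer :
    pReducedJoin p L ≤ Subgroup.centralizer (pReducedJoin p L : Set L) :=
  pReducedJoin_le_pCore.trans pCore_le_centralizer_pReducedJoin

theorem pReducedJoin_pow_eq_one : ∀ a ∈ pReducedJoin p L, a ^ p = 1 := by
  -- the subgroup of elements of `Y` with `a ^ p = 1`
  let W : Subgroup L :=
    { carrier := {a | a ∈ pReducedJoin p L ∧ a ^ p = 1}
      one_mem' := ⟨Subgroup.one_mem _, one_pow _⟩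
      mul_mem' := by
        rintro a b ⟨ha, hap⟩ ⟨hb, hbp⟩
        refine ⟨Subgroup.mul_mem _ ha hb, ?_⟩
        have hc : Commute a b := by
          have := pReducedJoin_le_centralizer (p := p) hb
          rw [Subgroup.mem_centralizer_iff] at this
          exact this a ha
        rw [hc.mul_pow, hap, hbp, one_mul]
      inv_mem' := by
        rintro a ⟨ha, hap⟩
        exact ⟨Subgroup.inv_mem _ ha, by rw [inv_pow, hap, inv_one]⟩ }
  have hW : pReducedJoin p L ≤ W := by
    refine sSup_le fun V hV a ha => ?_
    exact ⟨le_pReducedJoin hV ha, hV.2.1.2 a ha⟩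
  intro a ha
  exact (hW ha).2

instance pReducedJoin_normal : (pReducedJoin p L).Normal :=
  Subgroup.sSup_normal _ (fun _ h => h.1)

theorem pReducedJoin_isPReducedNormal : IsPReducedNormal p (pReducedJoin p L) := by
  refine ⟨inferInstance, ⟨?_, pReducedJoin_pow_eq_one⟩, inferInstance, ?_⟩
  · constructor
    constructor
    rintro ⟨a, ha⟩ ⟨b, hb⟩
    have := pReducedJoin_le_centralizer (p := p) hb
    rw [Subgroup.mem_centralizer_iff] at this
    exact Subtype.ext (this a ha)
  · set C := Subgroup.centralizer (pReducedJoin p L : Set L) with hC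
    set D := (pCore p (L ⧸ C)).comap (QuotientGroup.mk' C) with hD
    have hDn : D.Normal := (pCore_normal p).comap _
    have hDC : D ≤ C := by
      rw [hC, Subgroup.le_centralizer_iff]
      refine sSup_le fun V hV => ?_
      rw [← Subgroup.le_centralizer_iff]
      obtain ⟨hVn, hVe, hn, hcore⟩ := hV
      have hCV : C ≤ Subgroup.centralizer (V : Set L) :=
        Subgroup.centralizer_le (le_pReducedJoin ⟨hVn, hVe, hn, hcore⟩)
      have h1 : (D.map (QuotientGroup.mk' (Subgroup.centralizer (V : Set L)))).Normal :=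
        hDn.map _ (QuotientGroup.mk'_surjective _)
      have h2 : IsPGroup p ↥(D.map (QuotientGroup.mk' (Subgroup.centralizer (V : Set L)))) := by
        rintro ⟨_, d, hd, rfl⟩
        have hd' : QuotientGroup.mk' C d ∈ pCore p (L ⧸ C) := hd
        obtain ⟨k, hk⟩ := (pCore_isPGroup p) ⟨_, hd'⟩
        refine ⟨k, ?_⟩
        have hk' : (QuotientGroup.mk' C d) ^ (p ^ k) = 1 := by
          simpa using congrArg Subtype.val hk
        rw [← map_pow, QuotientGroup.mk'_apply, QuotientGroup.eq_one_iff] at hk'
        apply Subtype.ext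
        show (QuotientGroup.mk' (Subgroup.centralizer (V : Set L)) d) ^ (p ^ k) = 1
        rw [← map_pow, QuotientGroup.mk'_apply, QuotientGroup.eq_one_iff]
        exact hCV hk'
      have h3 := le_pCore p h1 h2
      rw [hcore, le_bot_iff, Subgroup.map_eq_bot_iff, QuotientGroup.ker_mk'] at h3
      exact h3
    have h4 : pCore p (L ⧸ C) = D.map (QuotientGroup.mk' C) :=
      (Subgroup.map_comap_eq_self_of_surjective (QuotientGroup.mk'_surjective C) _).symm
    rw [h4, Subgroup.map_eq_bot_iff, QuotientGroup.ker_mk']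
    exact hDC

end Cfsg.Agent.Helper14
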