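import Cfsg.Agent.Helper14.Quadratic

set_option autoImplicit false
set_option linter.unusedSectionVars false

namespace Cfsg.Agent.Helper14

open Cfsg
open scoped commutatorElement Pointwise

variable {G : Type*} [Group G]

/-- `⁅A ⊔ B, Y⁆ ≤ J` when `J` is normalized by `A ⊔ B` and contains `⁅A,Y⁆`, `⁅B,Y⁆` -/
theorem commutator_sup_le {A B Y J : Subgroup G}
    (hJ : A ⊔ B ≤ Subgroup.normalizer (J : Set G)) (h1 : ⁅A, Y⁆ ≤ J) (h2 : ⁅B, Y⁆ ≤ J) :
    ⁅A ⊔ B, Y⁆ ≤ J := by
  have e : A ⊔ B = Subgroup.closure ((A : Set G) ∪ (B : Set G)) := by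
    rw [Subgroup.closure_union, Subgroup.closure_eq, Subgroup.closure_eq]
  have hconj : ∀ g ∈ A ⊔ B, ∀ w ∈ J, g * w * g⁻¹ ∈ J := by
    intro g hg w hw
    exact ((Subgroup.mem_normalizer_iff.1 (hJ hg)) w).1 hw
  rw [Subgroup.commutator_le]
  intro g hg
  rw [e] at hg
  induction hg using Subgroup.closure_induction with
  | mem s hs =>
    intro y hy
    rcases hs with hs | hs
    · exact h1 (Subgroup.commutator_mem_commutator hs hy)
    · exact h2 (Subgroup.commutator_mem_commutator hs hy)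
  | one => intro y _; simp
  | mul a b ha hb iha ihb =>
    intro y hy
    have : ⁅a * b, y⁆ = a * ⁅b, y⁆ * a⁻¹ * ⁅a, y⁆ := by
      simp only [commutatorElement_def]; group
    rw [this]
    rw [← e] at ha
    exact J.mul_mem (hconj a ha _ (ihb y hy)) (iha y hy)
  | inv a ha iha =>
    intro y hy
    have : ⁅a⁻¹, y⁆ = a⁻¹ * (⁅a, y⁆)⁻¹ * (a⁻¹)⁻¹ := by
      simp only [commutatorElement_def]; group
    rw [this]
    rw [← e] at ha
    exact hconj a⁻¹ (Subgroup.inv_mem _ ha) _ (J.inv_mem (iha y hy))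

/-- for `K ≤ V`, conjugating `K` by `a ∈ A` lands in `⁅V, A⁆ ⊔ K` -/
theorem map_cj_le_commutator_sup {V A K : Subgroup G} (hK : K ≤ V) {a : G} (ha : a ∈ A) :
    K.map (cj a) ≤ ⁅V, A⁆ ⊔ K := by
  rintro _ ⟨c, hc, rfl⟩
  have : cj a c = (⁅c, a⁆)⁻¹ * c := by
    rw [cj_apply, commutatorElement_def]; group
  rw [this]
  exact Subgroup.mul_mem _
    (Subgroup.mem_sup_left (Subgroup.inv_mem _ (Subgroup.commutator_mem_commutator (hK hc) ha)))
    (Subgroup.mem_sup_right hc)

theorem le_centralizer_sup {A B : Subgroup G} {v : G}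
    (hA : v ∈ Subgroup.centralizer (A : Set G)) (hB : v ∈ Subgroup.centralizer (B : Set G)) :
    v ∈ Subgroup.centralizer ((A ⊔ B : Subgroup G) : Set G) := by
  have h1 : A ≤ Subgroup.centralizer ((Subgroup.zpowers v : Subgroup G) : Set G) := by
    rw [Subgroup.le_centralizer_iff, Subgroup.zpowers_le]; exact hA
  have h2 : B ≤ Subgroup.centralizer ((Subgroup.zpowers v : Subgroup G) : Set G) := by
    rw [Subgroup.le_centralizer_iff, Subgroup.zpowers_le]; exact hB
  have h3 := sup_le h1 h2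
  rw [Subgroup.le_centralizer_iff, Subgroup.zpowers_le] at h3
  exact h3

/-- S2833 -/
theorem quadratic_pair (V L : Subgroup G) (hLV : L ≤ Subgroup.normalizer (V : Set G))
    (X : Subgroup G) (g : G) (hg : g ∈ L) (hq : ⁅⁅V, X⁆, X⁆ = ⊥)
    (hgen : X ⊔ X.map (cj g) = L) (W : Subgroup G) (hW : W = ⁅V, L⁆) :
    ⁅V, X⁆ ⊔ ⁅V, X.map (cj g)⁆ = W ∧
      W ⊓ Subgroup.centralizer (X : Set G) = ⁅V, X⁆ ∧
      W ⊓ Subgroup.centralizer (L : Set G) = ⁅V, X⁆ ⊓ ⁅V, X.map (cj g)⁆ := by
  set B := X.map (cj g) with hB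
  have hXL : X ≤ L := hgen ▸ le_sup_left
  have hBL : B ≤ L := hgen ▸ le_sup_right
  have hVg : V.map (cj g) = V := mem_normalizer_iff_map_cj.1 (hLV hg)
  have hVB : ⁅V, B⁆ = (⁅V, X⁆).map (cj g) := by
    rw [Subgroup.map_commutator, hVg]
  have hqB : ⁅⁅V, B⁆, B⁆ = ⊥ := by
    rw [hVB, hB, ← Subgroup.map_commutator, hq, Subgroup.map_bot]
  have hVXV : ⁅V, X⁆ ≤ V := commutator_le_left_of_le_normalizer (hXL.trans hLV)
  have hVBV : ⁅V, B⁆ ≤ V := commutator_le_left_of_le_normalizer (hBL.trans hLV)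
  have hXc : ⁅V, X⁆ ≤ Subgroup.centralizer (X : Set G) :=
    Subgroup.commutator_eq_bot_iff_le_centralizer.1 hq
  have hBc : ⁅V, B⁆ ≤ Subgroup.centralizer (B : Set G) :=
    Subgroup.commutator_eq_bot_iff_le_centralizer.1 hqB
  -- part 1
  have hJnorm : X ⊔ B ≤ Subgroup.normalizer ((⁅V, X⁆ ⊔ ⁅V, B⁆ : Subgroup G) : Set G) := by
    apply sup_le
    · apply le_normalizer_of_map_cj_le
      intro a ha
      rw [Subgroup.map_sup]
      apply sup_le
      · have := mem_normalizer_iff_map_cj.1 (le_normalizer_commutator_right V X ha)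
        rw [this]; exact le_sup_left
      · exact map_cj_le_commutator_sup hVBV ha
    · apply le_normalizer_of_map_cj_le
      intro a ha
      rw [Subgroup.map_sup]
      apply sup_le
      · have := map_cj_le_commutator_sup (A := B) hVXV ha
        rwa [sup_comm] at this
      · have := mem_normalizer_iff_map_cj.1 (le_normalizer_commutator_right V B ha)
        rw [this]; exact le_sup_right
  have h1 : ⁅V, X⁆ ⊔ ⁅V, B⁆ = W := by
    rw [hW]
    apply le_antisymm
    · exact sup_le (Subgroup.commutator_mono le_rfl hXL) (Subgroup.commutator_mono le_rfl hBL)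
    · rw [← hgen, Subgroup.commutator_comm]
      apply commutator_sup_le hJnorm
      · rw [Subgroup.commutator_comm]; exact le_sup_left
      · rw [Subgroup.commutator_comm]; exact le_sup_right
  -- part 2
  have h2 : W ⊓ Subgroup.centralizer (X : Set G) = ⁅V, X⁆ := by
    apply le_antisymm
    · rintro w ⟨hwW, hwc⟩
      rw [← h1] at hwW
      have hwW' : w ∈ ((⁅V, X⁆ ⊔ ⁅V, B⁆ : Subgroup G) : Set G) := hwW
      rw [Subgroup.coe_mul_of_right_le_normalizer_left _ _
        (hVBV.trans (le_normalizer_commutator_left V X))] at hwW'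
      obtain ⟨u, hu, v, hv, rfl⟩ := hwW'
      have hvX : v ∈ Subgroup.centralizer (X : Set G) := by
        have : v = u⁻¹ * (u * v) := by group
        rw [this]
        exact Subgroup.mul_mem _ (Subgroup.inv_mem _ (hXc hu)) hwc
      have hvL : v ∈ Subgroup.centralizer (L : Set G) := by
        rw [← hgen]; exact le_centralizer_sup hvX (hBc hv)
      have hgv : g * v = v * g := (Subgroup.mem_centralizer_iff.1 hvL g hg)
      have hv' : v ∈ ⁅V, X⁆ := by
        rw [hVB] at hv
        obtain ⟨c, hc, hcv⟩ := hv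
        have : c = v := by
          have h4 : g * c * g⁻¹ = v := hcv
          have h3 : c = g⁻¹ * (v * g) := by rw [← h4]; group
          rw [h3, ← hgv]; group
        rwa [← this]
      exact Subgroup.mul_mem _ hu hv'
    · exact le_inf (h1 ▸ le_sup_left) hXc
  refine ⟨h1, h2, ?_⟩
  apply le_antisymm
  · rintro w ⟨hwW, hwc⟩
    have hwX : w ∈ ⁅V, X⁆ := by
      rw [← h2]
      exact ⟨hwW, Subgroup.centralizer_le (show (X : Set G) ⊆ L from hXL) hwc⟩
    refine ⟨hwX, ?_⟩
    rw [hVB]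
    refine ⟨w, hwX, ?_⟩
    have hgw : g * w = w * g := (Subgroup.mem_centralizer_iff.1 hwc g hg)
    rw [cj_apply, hgw]; group
  · rintro w ⟨hwX, hwB⟩
    refine ⟨h1 ▸ (Subgroup.mem_sup_left hwX), ?_⟩
    rw [← hgen]
    exact le_centralizer_sup (hXc hwX) (hBc hwB)

end Cfsg.Agent.Helper14
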