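import Cfsg.Agent.Helper14.Irreducible2
import Cfsg.Agent.Helper14.QuadPair

set_option autoImplicit false
set_option linter.unusedSectionVars false

namespace Cfsg.Agent.Helper14

open Cfsg
open scoped commutatorElement Pointwise

section

variable {L : Type*} [Group L] [Finite L] {p : ℕ} [Fact p.Prime]

/-- normalizers grow in `p`-subgroups (ambient form) -/
theorem lt_inf_normalizer_of_lt {P D : Subgroup L} (hP : IsPGroup p ↥P) (hDP : D < P) :
    D < P ⊓ Subgroup.normalizer (D : Set L) := by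
  have hle : D ≤ P ⊓ Subgroup.normalizer (D : Set L) := le_inf hDP.le Subgroup.le_normalizer
  refine lt_of_le_of_ne hle ?_
  intro heq
  have : Group.IsNilpotent ↥P := hP.isNilpotent
  have hnc : NormalizerCondition ↥P := Group.normalizerCondition_of_isNilpotent
  have hlt : D.subgroupOf P < ⊤ := by
    refine lt_of_le_of_ne le_top ?_
    intro h
    rw [Subgroup.subgroupOf_eq_top] at h
    exact absurd (le_antisymm hDP.le h) hDP.ne
  have h2 := hnc _ hlt
  rw [← Subgroup.subgroupOf_normalizer_eq hDP.le] at h2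
  obtain ⟨x, hx1, hx2⟩ := SetLike.exists_of_lt h2
  rw [Subgroup.mem_subgroupOf] at hx1 hx2
  apply hx2
  rw [heq]
  exact ⟨x.2, hx1⟩

/-- S2835 -/
theorem minimalOver_maximal_structure (L₀ : Subgroup L) (hL₀ : IsCoatom L₀) (T : Sylow p ↥L₀)
    (Y : Subgroup L) (hYT : Y ≤ (T : Subgroup ↥L₀).map L₀.subtype) (hmin : IsMinimalOver Y) :
    Subgroup.normalizer (((T : Subgroup ↥L₀).map L₀.subtype : Subgroup L) : Set L) ≤ L₀ ∧
    pCore p L ≤ L₀ ∧
    (∃ P : Sylow p L, (P : Subgroup L) = (T : Subgroup ↥L₀).map L₀.subtype) ∧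
    Subgroup.normalizer (L₀ : Set L) = L₀ ∧
    (∀ g : L, g ∉ L₀ → Y ⊔ Y.map (MulAut.conj g).toMonoidHom = ⊤) ∧
    (IsMulCommutative ↥Y → ∀ g : L, g ∉ L₀ →
      Y ⊓ Y.map (MulAut.conj g).toMonoidHom = Y ⊓ Subgroup.center L) := by
  set TT : Subgroup L := (T : Subgroup ↥L₀).map L₀.subtype with hTT
  have hTTL : TT ≤ L₀ := map_subtype_le _
  have hYL : Y ≤ L₀ := hYT.trans hTTL
  obtain ⟨hnc, M, ⟨hM, hYM⟩, huniq⟩ := hmin
  have hML : M = L₀ := (huniq L₀ ⟨hL₀, hYL⟩).symm
  have hU : ∀ X : Subgroup L, Y ≤ X → X ≠ ⊤ → X ≤ L₀ := by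
    intro X hYX hX
    obtain ⟨M1, hM1, hle⟩ := exists_coatom_ge_of_ne_top hX
    have := huniq M1 ⟨hM1, hYX.trans hle⟩
    rw [this, hML] at hle
    exact hle
  have hV : ∀ X : Subgroup L, X.Normal → Y ≤ X → X = ⊤ := by
    intro X hX hYX
    rw [eq_top_iff, ← hnc]
    exact Subgroup.normalClosure_le_normal hYX
  have hTTp : IsPGroup p ↥TT := T.isPGroup'.map _
  -- (1)
  have h1 : Subgroup.normalizer (TT : Set L) ≤ L₀ := by
    apply hU _ (hYT.trans Subgroup.le_normalizer)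
    intro h
    have hn : TT.Normal := Subgroup.normalizer_eq_top_iff.1 h
    have := hV TT hn hYT
    rw [this] at hTTL
    exact hL₀.1 (top_le_iff.1 hTTL)
  -- (3)
  have h3 : ∃ P : Sylow p L, (P : Subgroup L) = TT := by
    obtain ⟨P, hP⟩ := hTTp.exists_le_sylow
    refine ⟨P, ?_⟩
    by_contra hne
    have hlt : TT < (P : Subgroup L) := lt_of_le_of_ne hP (Ne.symm hne)
    have hgrow := lt_inf_normalizer_of_lt P.isPGroup' hlt
    have hS : IsSylowIn p TT L₀ := isSylowIn_of_sylow T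
    have := hS.2.2 ((P : Subgroup L) ⊓ Subgroup.normalizer (TT : Set L))
      (inf_le_right.trans h1) (P.isPGroup'.to_le inf_le_left) hgrow.le
    exact hgrow.ne this.symm
  -- (2)
  have h2 : pCore p L ≤ L₀ := by
    obtain ⟨P, hP⟩ := h3
    exact ((pCore_le_sylow p P).trans hP.le).trans hTTL
  -- (4)
  have h4 : Subgroup.normalizer (L₀ : Set L) = L₀ := by
    by_contra hne
    have hlt : L₀ < Subgroup.normalizer (L₀ : Set L) :=
      lt_of_le_of_ne Subgroup.le_normalizer (Ne.symm hne)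
    have := hL₀.2 _ hlt
    have hn : L₀.Normal := Subgroup.normalizer_eq_top_iff.1 this
    exact hL₀.1 (hV L₀ hn hYL)
  -- (5)
  have h5 : ∀ g : L, g ∉ L₀ → Y ⊔ Y.map (cj g) = ⊤ := by
    intro g hg
    by_contra hne
    have hle := hU _ le_sup_left hne
    have hYg : Y.map (cj g) ≤ L₀ := le_sup_right.trans hle
    rw [map_cj_le_iff] at hYg
    have hco : IsCoatom (L₀.map (cj g⁻¹)) :=
      (OrderIso.isCoatom_iff ((MulAut.conj g⁻¹).mapSubgroup) L₀).2 hL₀
    have h6 := huniq _ ⟨hco, hYg⟩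
    rw [hML] at h6
    have h7 : g⁻¹ ∈ Subgroup.normalizer (L₀ : Set L) := mem_normalizer_iff_map_cj.2 h6
    rw [h4] at h7
    exact hg (by simpa using L₀.inv_mem h7)
  refine ⟨h1, h2, h3, h4, h5, ?_⟩
  intro hYc g hg
  have hYcomm : ∀ a ∈ Y, ∀ b ∈ Y, a * b = b * a := by
    intro a ha b hb
    have := mul_comm' (⟨a, ha⟩ : ↥Y) ⟨b, hb⟩
    exact congrArg Subtype.val this
  apply le_antisymm
  · rintro x ⟨hxY, hxg⟩
    refine ⟨hxY, ?_⟩
    have hx1 : x ∈ Subgroup.centralizer (Y : Set L) := by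
      rw [Subgroup.mem_centralizer_iff]
      intro y hy
      exact hYcomm y hy x hxY
    have hx2 : x ∈ Subgroup.centralizer ((Y.map (cj g) : Subgroup L) : Set L) := by
      rw [← map_cj_centralizer]
      obtain ⟨x', hx', hxx'⟩ := hxg
      refine ⟨x', ?_, hxx'⟩
      show x' ∈ Subgroup.centralizer (Y : Set L)
      rw [Subgroup.mem_centralizer_iff]
      intro y hy
      exact hYcomm y hy x' hx'
    have hx3 := le_centralizer_sup hx1 hx2
    rw [h5 g hg] at hx3
    show x ∈ Subgroup.center L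
    rw [Subgroup.mem_center_iff]
    intro l
    exact Subgroup.mem_centralizer_iff.1 hx3 l (Subgroup.mem_top l)
  · rintro x ⟨hxY, hxZ⟩
    refine ⟨hxY, x, hxY, ?_⟩
    have := Subgroup.mem_center_iff.1 hxZ g
    show g * x * g⁻¹ = x
    rw [this]; group

end

end Cfsg.Agent.Helper14
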