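import Cfsg.Agent.Helper14.Large
import Cfsg.Agent.Helper14.MinimalOver2

set_option autoImplicit false
set_option linter.unusedSectionVars false

namespace Cfsg.Agent.Helper14

open Cfsg
open scoped commutatorElement Pointwise

section

variable {H : Type*} [Group H]

theorem sylow_smul_coe {p : ℕ} (S : Sylow p H) (g : H) :
    ((g • S : Sylow p H) : Subgroup H) = (S : Subgroup H).map (cj g) := by
  ext x
  rw [mem_map_cj]
  exact mem_sylow_smul S g x

theorem wc_map_cj {Q P : Subgroup H} (h : IsWeaklyClosed Q P) (x : H) :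
    IsWeaklyClosed (Q.map (cj x)) (P.map (cj x)) := by
  refine ⟨Subgroup.map_mono h.1, ?_⟩
  intro g hg
  show (Q.map (cj x)).map (cj g) = Q.map (cj x)
  have hg' : (Q.map (cj x)).map (cj g) ≤ P.map (cj x) := hg
  have h1 := Subgroup.map_mono (f := cj x⁻¹) hg'
  rw [map_cj_map_cj_inv, map_cj_mul, map_cj_mul] at h1
  have h2 : Q.map (cj (x⁻¹ * g * x)) = Q := h.2 _ h1
  have e : g * x = x * (x⁻¹ * g * x) := by group
  rw [map_cj_mul, e, ← map_cj_mul, h2]

theorem wc_of_le {Q P R : Subgroup H} (h : IsWeaklyClosed Q P) (hQR : Q ≤ R)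
    (hRP : R ≤ P) : IsWeaklyClosed Q R :=
  ⟨hQR, fun g hg => h.2 g (hg.trans hRP)⟩

/-- weakly closed in `P` implies `N(P) ≤ N(Q)` -/
theorem wc_normalizer_le {Q P : Subgroup H} (h : IsWeaklyClosed Q P) :
    Subgroup.normalizer (P : Set H) ≤ Subgroup.normalizer (Q : Set H) := by
  intro n hn
  rw [mem_normalizer_iff_map_cj]
  apply h.2 n
  have := Subgroup.map_mono (f := cj n) h.1
  rwa [mem_normalizer_iff_map_cj.1 hn] at this

theorem wc_le_normalizer {Q P : Subgroup H} (h : IsWeaklyClosed Q P) :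
    P ≤ Subgroup.normalizer (Q : Set H) :=
  Subgroup.le_normalizer.trans (wc_normalizer_le h)

variable [Finite H] {p : ℕ} [Fact p.Prime]

/-- a weakly closed subgroup is weakly closed in every Sylow subgroup containing it -/
theorem wcs_of_le_sylow {Q : Subgroup H} (h : IsWeaklyClosedSubgroup p Q)
    (T' : Sylow p H) (hQT' : Q ≤ (T' : Subgroup H)) : IsWeaklyClosed Q (T' : Subgroup H) := by
  obtain ⟨T, hT⟩ := h
  obtain ⟨x, hx⟩ := MulAction.exists_smul_eq H T T'
  have e : (T' : Subgroup H) = (T : Subgroup H).map (cj x) := by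
    rw [← hx]; exact sylow_smul_coe T x
  have h1 : Q.map (cj x⁻¹) ≤ (T : Subgroup H) := by
    rw [map_cj_le_iff, inv_inv, ← e]; exact hQT'
  have h2 : Q.map (cj x⁻¹) = Q := hT.2 _ h1
  have h3 : Q.map (cj x) = Q := by
    conv_lhs => rw [← h2]
    exact map_cj_inv_map_cj Q x
  have := wc_map_cj hT x
  rwa [h3, ← e] at this

/-- a weakly closed subgroup is weakly closed in every `p`-subgroup containing it -/
theorem wcs_of_le_pGroup {Q : Subgroup H} (h : IsWeaklyClosedSubgroup p Q)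
    {R : Subgroup H} (hR : IsPGroup p ↥R) (hQR : Q ≤ R) : IsWeaklyClosed Q R := by
  obtain ⟨T', hT'⟩ := hR.exists_le_sylow
  exact wc_of_le (wcs_of_le_sylow h T' (hQR.trans hT')) hQR hT'

theorem wcs_map_cj {Q : Subgroup H} (h : IsWeaklyClosedSubgroup p Q) (x : H) :
    IsWeaklyClosedSubgroup p (Q.map (cj x)) := by
  obtain ⟨T, hT⟩ := h
  refine ⟨x • T, ?_⟩
  rw [sylow_smul_coe]
  exact wc_map_cj hT x

/-- (a) ⟹ (b) -/
theorem wcs_eq_of_commutator_le {Q : Subgroup H} (hQp : IsPGroup p ↥Q)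
    (h : IsWeaklyClosedSubgroup p Q) (g : H)
    (hg : ⁅Q, Q.map (cj g)⁆ ≤ Q ⊓ Q.map (cj g)) : Q.map (cj g) = Q := by
  have h1 : Q ≤ Subgroup.normalizer ((Q.map (cj g) : Subgroup H) : Set H) := by
    apply le_normalizer_of_map_cj_le
    intro q hq
    rintro _ ⟨x, hx, rfl⟩
    have : cj q x = ⁅q, x⁆ * x := by rw [cj_apply, commutatorElement_def]; group
    rw [this]
    exact Subgroup.mul_mem _ (hg (Subgroup.commutator_mem_commutator hq hx)).2 hx
  have hR : IsPGroup p ↥(Q ⊔ Q.map (cj g) : Subgroup H) :=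
    IsPGroup.to_sup_of_normal_right' hQp (hQp.map _) h1
  exact (wcs_of_le_pGroup h hR le_sup_left).2 g le_sup_right

/-- (b) ⟹ `Q` normal in every `p`-overgroup -/
theorem le_normalizer_of_commutator_property {Q : Subgroup H}
    (hb : ∀ g : H, ⁅Q, Q.map (cj g)⁆ ≤ Q ⊓ Q.map (cj g) → Q.map (cj g) = Q)
    {R : Subgroup H} (hR : IsPGroup p ↥R) (hQR : Q ≤ R) :
    R ≤ Subgroup.normalizer (Q : Set H) := by
  by_contra hcon
  set M := R ⊓ Subgroup.normalizer (Q : Set H) with hM
  have hMR : M < R := by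
    refine lt_of_le_of_ne inf_le_left ?_
    intro h
    apply hcon
    rw [← h]; exact inf_le_right
  have hgrow := lt_inf_normalizer_of_lt hR hMR
  obtain ⟨x, hx1, hx2⟩ := SetLike.exists_of_lt hgrow
  have hxM : M.map (cj x) = M := mem_normalizer_iff_map_cj.1 hx1.2
  have hQM : Q ≤ M := le_inf hQR Subgroup.le_normalizer
  have hMNQ : M ≤ Subgroup.normalizer (Q : Set H) := inf_le_right
  have hPM : Q.map (cj x) ≤ M := by
    rw [← hxM]; exact Subgroup.map_mono hQM
  have hMNP : M ≤ Subgroup.normalizer ((Q.map (cj x) : Subgroup H) : Set H) := by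
    have := Subgroup.map_mono (f := cj x) hMNQ
    rwa [hxM, map_cj_normalizer] at this
  have := hb x (le_inf (commutator_le_left_of_le_normalizer (hPM.trans hMNQ))
    (commutator_le_right_of_le_normalizer (hQM.trans hMNP)))
  exact hx2 ⟨hx1.1, mem_normalizer_iff_map_cj.2 this⟩

/-- (b) ⟹ (a) -/
theorem isWeaklyClosedSubgroup_of_commutator_property {Q : Subgroup H} (hQp : IsPGroup p ↥Q)
    (hb : ∀ g : H, ⁅Q, Q.map (cj g)⁆ ≤ Q ⊓ Q.map (cj g) → Q.map (cj g) = Q) :
    IsWeaklyClosedSubgroup p Q := by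
  obtain ⟨T, hT⟩ := hQp.exists_le_sylow
  refine ⟨T, hT, ?_⟩
  intro g hg
  have hg' : Q.map (cj g) ≤ (T : Subgroup H) := hg
  have h1 : (T : Subgroup H) ≤ Subgroup.normalizer (Q : Set H) :=
    le_normalizer_of_commutator_property hb T.isPGroup' hT
  have h2 : (T : Subgroup H) ≤ Subgroup.normalizer ((Q.map (cj g) : Subgroup H) : Set H) := by
    have hQ' : Q ≤ (T : Subgroup H).map (cj g⁻¹) := (map_cj_le_iff Q _ g).1 hg'
    have := le_normalizer_of_commutator_property hb (T.isPGroup'.map (cj g⁻¹)) hQ'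
    have h3 := Subgroup.map_mono (f := cj g) this
    rwa [map_cj_inv_map_cj, map_cj_normalizer] at h3
  exact hb g (le_inf (commutator_le_left_of_le_normalizer (hg'.trans h1))
    (commutator_le_right_of_le_normalizer (hT.trans h2)))

/-- Burnside's fusion argument -/
theorem burnside_fusion (S : Sylow p H) (Q : Subgroup H) (g : H)
    (h1 : (S : Subgroup H) ≤ Subgroup.normalizer (Q : Set H))
    (h2 : (S : Subgroup H) ≤ Subgroup.normalizer ((Q.map (cj g) : Subgroup H) : Set H))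
    (h3 : Subgroup.normalizer ((S : Subgroup H) : Set H) ≤ Subgroup.normalizer (Q : Set H)) :
    Q.map (cj g) = Q := by
  set K := Subgroup.normalizer ((Q.map (cj g) : Subgroup H) : Set H) with hK
  have hSgK : (S : Subgroup H).map (cj g) ≤ K := by
    have := Subgroup.map_mono (f := cj g) h1
    rwa [map_cj_normalizer] at this
  have hSy1 : IsSylowIn p (S : Subgroup H) K := isSylowIn_of_sylow_le S h2
  have hSy2 : IsSylowIn p ((S : Subgroup H).map (cj g)) K := by
    have := isSylowIn_of_sylow_le (g • S) (K := K) (by rw [sylow_smul_coe]; exact hSgK)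
    rwa [sylow_smul_coe] at this
  obtain ⟨n, hnK, hn⟩ := hSy1.exists_conj hSy2
  have hm : n⁻¹ * g ∈ Subgroup.normalizer ((S : Subgroup H) : Set H) := by
    rw [mem_normalizer_iff_map_cj, ← map_cj_mul, hn, map_cj_map_cj_inv]
  have hmQ : Q.map (cj (n⁻¹ * g)) = Q := mem_normalizer_iff_map_cj.1 (h3 hm)
  have e1 : Q.map (cj g) = Q.map (cj n) := by
    have : g = n * (n⁻¹ * g) := by group
    conv_lhs => rw [this, ← map_cj_mul, hmQ]
  have e2 : (Q.map (cj g)).map (cj n⁻¹) = Q.map (cj g) :=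
    mem_normalizer_iff_map_cj.1 (Subgroup.inv_mem _ hnK)
  rw [← e2, e1, map_cj_map_cj_inv]

/-- (c) ⟹ (a) -/
theorem isWeaklyClosedSubgroup_of_normalizer_property {Q : Subgroup H} (hQp : IsPGroup p ↥Q)
    (hc : ∀ R : Subgroup H, IsPGroup p ↥R → Q ≤ R →
      Subgroup.normalizer (R : Set H) ≤ Subgroup.normalizer (Q : Set H)) :
    IsWeaklyClosedSubgroup p Q := by
  obtain ⟨T, hT⟩ := hQp.exists_le_sylow
  refine ⟨T, hT, ?_⟩
  intro g hg
  have hg' : Q.map (cj g) ≤ (T : Subgroup H) := hg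
  have h3 := hc T T.isPGroup' hT
  have h1 : (T : Subgroup H) ≤ Subgroup.normalizer (Q : Set H) := Subgroup.le_normalizer.trans h3
  have h2 : (T : Subgroup H) ≤ Subgroup.normalizer ((Q.map (cj g) : Subgroup H) : Set H) := by
    have hQ' : Q ≤ (T : Subgroup H).map (cj g⁻¹) := (map_cj_le_iff Q _ g).1 hg'
    have := hc _ (T.isPGroup'.map (cj g⁻¹)) hQ'
    have h4 := Subgroup.map_mono (f := cj g) this
    rw [map_cj_normalizer, map_cj_normalizer, map_cj_inv_map_cj] at h4
    exact Subgroup.le_normalizer.trans h4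
  exact burnside_fusion T Q g h1 h2 h3

/-- S2838 -/
theorem weaklyClosed_tfae (Q : Subgroup H) (hQp : IsPGroup p ↥Q) :
    (IsWeaklyClosedSubgroup p Q ↔
      ∀ g : H, ⁅Q, Q.map (cj g)⁆ ≤ Q ⊓ Q.map (cj g) → Q.map (cj g) = Q) ∧
    (IsWeaklyClosedSubgroup p Q ↔
      ∀ R : Subgroup H, IsPGroup p ↥R → Q ≤ R →
        Subgroup.normalizer (R : Set H) ≤ Subgroup.normalizer (Q : Set H)) := by
  constructor
  · exact ⟨fun h g hg => wcs_eq_of_commutator_le hQp h g hg,
      isWeaklyClosedSubgroup_of_commutator_property hQp⟩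
  · exact ⟨fun h R hR hQR => wc_normalizer_le (wcs_of_le_pGroup h hR hQR),
      isWeaklyClosedSubgroup_of_normalizer_property hQp⟩

end

end Cfsg.Agent.Helper14
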