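import Cfsg.Agent.Helper14.Irreducible3

set_option autoImplicit false
set_option linter.unusedSectionVars false

namespace Cfsg.Agent.Helper14

open Cfsg
open scoped commutatorElement

section

variable {H : Type*} [Group H] [Finite H] {p : ℕ} [Fact p.Prime]

/-- a normal subgroup `N` is `p`-closed iff its Sylow subgroup `T ∩ N` is normal in `H` -/
theorem isPClosed_normal_iff (T : Sylow p H) (N : Subgroup H) [hN : N.Normal] :
    IsPClosed p ↥N ↔ ((T : Subgroup H) ⊓ N).Normal := by
  constructor
  · exact normal_sylow_inf_of_isPClosed T N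
  · intro hn
    have hP := sylow_inf_normal_isSylowIn T N
    have h1 : (hP.toSylow : Subgroup ↥N).Normal := by
      show (((T : Subgroup H) ⊓ N).subgroupOf N).Normal
      infer_instance
    exact isPClosed_of_normal_sylow hP.toSylow h1

theorem isPClosed_iff_sylow_normal (T : Sylow p H) :
    IsPClosed p H ↔ (T : Subgroup H).Normal :=
  ⟨fun h => h T, fun h => isPClosed_of_normal_sylow T h⟩

variable (D : Subgroup H) [hDn : D.Normal]

theorem comap_map_mk_of_le {X : Subgroup H} (hDX : D ≤ X) :
    (X.map (QuotientGroup.mk' D)).comap (QuotientGroup.mk' D) = X := by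
  rw [Subgroup.comap_map_eq, QuotientGroup.ker_mk', sup_eq_left.2 hDX]

theorem map_mk_inf_of_le {T : Subgroup H} (hDT : D ≤ T) (N : Subgroup H) :
    T.map (QuotientGroup.mk' D) ⊓ N.map (QuotientGroup.mk' D) =
      (T ⊓ N).map (QuotientGroup.mk' D) := by
  apply le_antisymm
  · rintro _ ⟨⟨t, ht, rfl⟩, ⟨n, hn, hnt⟩⟩
    have h1 : t⁻¹ * n ∈ D := by
      rw [← QuotientGroup.eq_one_iff, QuotientGroup.mk_mul, QuotientGroup.mk_inv]
      have : (QuotientGroup.mk n : H ⧸ D) = QuotientGroup.mk t := hnt
      rw [this, inv_mul_cancel]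
    have h2 : n ∈ T := by
      have : n = t * (t⁻¹ * n) := by group
      rw [this]
      exact T.mul_mem ht (hDT h1)
    exact ⟨n, ⟨h2, hn⟩, hnt⟩
  · exact le_inf (Subgroup.map_mono inf_le_left) (Subgroup.map_mono inf_le_right)

theorem normal_map_mk_iff {X : Subgroup H} (hDX : D ≤ X) :
    (X.map (QuotientGroup.mk' D)).Normal ↔ X.Normal := by
  constructor
  · intro h
    have := h.comap (QuotientGroup.mk' D)
    rwa [comap_map_mk_of_le D hDX] at this
  · intro h
    exact h.map _ (QuotientGroup.mk'_surjective D)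

variable (hD : IsPGroup p ↥D)
include hD

theorem isPClosed_quotient_iff : IsPClosed p (H ⧸ D) ↔ IsPClosed p H := by
  obtain ⟨T⟩ : Nonempty (Sylow p H) := inferInstance
  have hDT : D ≤ (T : Subgroup H) := hD.le_sylow_of_normal T
  rw [isPClosed_iff_sylow_normal T,
    isPClosed_iff_sylow_normal (T.mapSurjective (QuotientGroup.mk'_surjective D)),
    Sylow.coe_mapSurjective]
  exact normal_map_mk_iff D hDT

theorem isPClosed_map_mk_iff (N : Subgroup H) [hN : N.Normal] :
    IsPClosed p ↥(N.map (QuotientGroup.mk' D)) ↔ IsPClosed p ↥N := by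
  obtain ⟨T⟩ : Nonempty (Sylow p H) := inferInstance
  have hDT : D ≤ (T : Subgroup H) := hD.le_sylow_of_normal T
  have hNn : (N.map (QuotientGroup.mk' D)).Normal := hN.map _ (QuotientGroup.mk'_surjective D)
  rw [isPClosed_normal_iff T N,
    isPClosed_normal_iff (T.mapSurjective (QuotientGroup.mk'_surjective D)),
    Sylow.coe_mapSurjective, map_mk_inf_of_le D hDT]
  constructor
  · intro h
    have h1 := h.comap (QuotientGroup.mk' D)
    rw [Subgroup.comap_map_eq, QuotientGroup.ker_mk'] at h1
    have h2 : (T : Subgroup H) ⊓ N = ((T : Subgroup H) ⊓ N ⊔ D) ⊓ N := by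
      apply le_antisymm
      · exact le_inf le_sup_left inf_le_right
      · exact le_inf (inf_le_left.trans (sup_le inf_le_left hDT)) inf_le_right
    rw [h2]
    infer_instance
  · intro h
    exact h.map _ (QuotientGroup.mk'_surjective D)

omit hD in
theorem pResidual_quotient : pResidual p (H ⧸ D) = (pResidual p H).map (QuotientGroup.mk' D) := by
  apply le_antisymm
  · have hn : ((pResidual p H).map (QuotientGroup.mk' D)).Normal :=
      (pResidual_normal (p := p) (H := H)).map _ (QuotientGroup.mk'_surjective D)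
    apply pResidual_le_of_isPGroup_quotient
    intro q
    obtain ⟨hbar, rfl⟩ := QuotientGroup.mk'_surjective _ q
    obtain ⟨h, rfl⟩ := QuotientGroup.mk'_surjective D hbar
    obtain ⟨n, hn⟩ := exists_pow_mem_pResidual (p := p) h
    refine ⟨n, ?_⟩
    rw [← map_pow, ← map_pow, QuotientGroup.mk'_apply, QuotientGroup.eq_one_iff]
    exact ⟨_, hn, rfl⟩
  · unfold pResidual
    rw [MonoidHom.map_closure]
    apply Subgroup.closure_mono
    rintro _ ⟨g, hg, rfl⟩
    exact Nat.Coprime.coprime_dvd_left (orderOf_map_dvd _ g) hg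

theorem pCore_quotient : pCore p (H ⧸ D) = (pCore p H).map (QuotientGroup.mk' D) := by
  apply le_antisymm
  · set E := (pCore p (H ⧸ D)).comap (QuotientGroup.mk' D) with hE
    have hEn : E.Normal := (pCore_normal p).comap _
    have hEp : IsPGroup p ↥E := by
      rintro ⟨e, he⟩
      have he' : QuotientGroup.mk' D e ∈ pCore p (H ⧸ D) := he
      obtain ⟨k, hk⟩ := (pCore_isPGroup p) ⟨_, he'⟩
      have hk' : (QuotientGroup.mk' D e) ^ (p ^ k) = 1 := by
        simpa using congrArg Subtype.val hk
      rw [← map_pow, QuotientGroup.mk'_apply, QuotientGroup.eq_one_iff] at hk'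
      obtain ⟨j, hj⟩ := hD ⟨_, hk'⟩
      have hj' : (e ^ (p ^ k)) ^ (p ^ j) = 1 := by simpa using congrArg Subtype.val hj
      refine ⟨k + j, ?_⟩
      apply Subtype.ext
      show e ^ (p ^ (k + j)) = 1
      rw [pow_add, pow_mul]
      exact hj'
    have h1 : E ≤ pCore p H := le_pCore p hEn hEp
    have h2 : pCore p (H ⧸ D) = E.map (QuotientGroup.mk' D) :=
      (Subgroup.map_comap_eq_self_of_surjective (QuotientGroup.mk'_surjective D) _).symm
    rw [h2]
    exact Subgroup.map_mono h1
  · exact le_pCore p ((pCore_normal p).map _ (QuotientGroup.mk'_surjective D))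
      ((pCore_isPGroup p).map _)

/-- `p'`-elements of `ND` lie in `N` -/
theorem mem_of_coprime_of_mem_sup_pGroup (N : Subgroup H) [hN : N.Normal] (x : H)
    (hx : x ∈ N ⊔ D) (hc : (orderOf x).Coprime p) : x ∈ N := by
  have h1 : QuotientGroup.mk' N x ∈ (N ⊔ D).map (QuotientGroup.mk' N) := ⟨x, hx, rfl⟩
  have h2 : (N ⊔ D).map (QuotientGroup.mk' N) = D.map (QuotientGroup.mk' N) := by
    rw [Subgroup.map_sup]
    have : N.map (QuotientGroup.mk' N) = ⊥ := by
      rw [Subgroup.map_eq_bot_iff, QuotientGroup.ker_mk']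
    rw [this, bot_sup_eq]
  rw [h2] at h1
  obtain ⟨k, hk⟩ := (hD.map (QuotientGroup.mk' N)) ⟨_, h1⟩
  have hk' : (QuotientGroup.mk' N x) ^ (p ^ k) = 1 := by simpa using congrArg Subtype.val hk
  have h3 : orderOf (QuotientGroup.mk' N x) ∣ p ^ k := orderOf_dvd_of_pow_eq_one hk'
  have h4 : orderOf (QuotientGroup.mk' N x) ∣ orderOf x := orderOf_map_dvd _ x
  have h5 : (orderOf (QuotientGroup.mk' N x)).Coprime (p ^ k) :=
    Nat.Coprime.pow_right k (Nat.Coprime.coprime_dvd_left h4 hc)
  have h6 : orderOf (QuotientGroup.mk' N x) = 1 := Nat.Coprime.eq_one_of_dvd h5 h3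
  rw [orderOf_eq_one_iff, QuotientGroup.mk'_apply, QuotientGroup.eq_one_iff] at h6
  exact h6

theorem pResidual_le_of_le_sup_pGroup (N : Subgroup H) [hN : N.Normal]
    (h : pResidual p H ≤ N ⊔ D) : pResidual p H ≤ N := by
  have h0 := h
  unfold pResidual at h ⊢
  rw [Subgroup.closure_le] at h ⊢
  intro g hg
  exact mem_of_coprime_of_mem_sup_pGroup D hD N g (h hg) hg

theorem pResidual_le_of_map_le (N : Subgroup H) [hN : N.Normal]
    (h : pResidual p (H ⧸ D) ≤ N.map (QuotientGroup.mk' D)) : pResidual p H ≤ N := by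
  apply pResidual_le_of_le_sup_pGroup D hD
  rw [pResidual_quotient, Subgroup.map_le_map_iff, QuotientGroup.ker_mk'] at h
  exact h

/-- S2828, first part -/
theorem isPIrreducible_quotient_iff : IsPIrreducible p H ↔ IsPIrreducible p (H ⧸ D) := by
  constructor
  · intro h
    refine ⟨fun hc => h.1 ((isPClosed_quotient_iff D hD).1 hc), ?_⟩
    intro Nbar hNbar hncl
    set N := Nbar.comap (QuotientGroup.mk' D) with hN
    have hNn : N.Normal := hNbar.comap _
    have hmap : N.map (QuotientGroup.mk' D) = Nbar :=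
      Subgroup.map_comap_eq_self_of_surjective (QuotientGroup.mk'_surjective D) _
    have hncl' : ¬ IsPClosed p ↥N := by
      intro hc
      apply hncl
      have := (isPClosed_map_mk_iff D hD N).2 hc
      rwa [hmap] at this
    have h1 := h.2 N hNn hncl'
    rw [pResidual_quotient, ← hmap]
    exact Subgroup.map_mono h1
  · intro h
    refine ⟨fun hc => h.1 ((isPClosed_quotient_iff D hD).2 hc), ?_⟩
    intro N hN hncl
    have hNn : (N.map (QuotientGroup.mk' D)).Normal := hN.map _ (QuotientGroup.mk'_surjective D)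
    have hncl' : ¬ IsPClosed p ↥(N.map (QuotientGroup.mk' D)) :=
      fun hc => hncl ((isPClosed_map_mk_iff D hD N).1 hc)
    exact pResidual_le_of_map_le D hD N (h.2 _ hNn hncl')

/-- S2828, second part -/
theorem isStronglyPIrreducible_quotient_iff :
    IsStronglyPIrreducible p H ↔ IsStronglyPIrreducible p (H ⧸ D) := by
  have hDcore : D ≤ pCore p H := le_pCore p hDn hD
  have htop : (⊤ : Subgroup H).map (QuotientGroup.mk' D) = ⊤ :=
    Subgroup.map_top_of_surjective _ (QuotientGroup.mk'_surjective D)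
  constructor
  · intro h
    refine ⟨fun hc => h.1 ((isPClosed_quotient_iff D hD).1 hc), ?_⟩
    intro Nbar hNbar hncl
    set N := Nbar.comap (QuotientGroup.mk' D) with hN
    have hNn : N.Normal := hNbar.comap _
    have hmap : N.map (QuotientGroup.mk' D) = Nbar :=
      Subgroup.map_comap_eq_self_of_surjective (QuotientGroup.mk'_surjective D) _
    have hncl' : ¬ ⁅N, (⊤ : Subgroup H)⁆ ≤ pCore p H := by
      intro hc
      apply hncl
      have := Subgroup.map_mono (f := QuotientGroup.mk' D) hc
      rw [Subgroup.map_commutator, hmap, htop, ← pCore_quotient D hD] at this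
      exact this
    have h1 := h.2 N hNn hncl'
    rw [pResidual_quotient, ← hmap]
    exact Subgroup.map_mono h1
  · intro h
    refine ⟨fun hc => h.1 ((isPClosed_quotient_iff D hD).2 hc), ?_⟩
    intro N hN hncl
    have hNn : (N.map (QuotientGroup.mk' D)).Normal := hN.map _ (QuotientGroup.mk'_surjective D)
    have hncl' : ¬ ⁅N.map (QuotientGroup.mk' D), (⊤ : Subgroup (H ⧸ D))⁆ ≤ pCore p (H ⧸ D) := by
      intro hc
      apply hncl
      rw [← htop, ← Subgroup.map_commutator, pCore_quotient D hD, Subgroup.map_le_map_iff,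
        QuotientGroup.ker_mk', sup_eq_left.2 hDcore] at hc
      exact hc
    exact pResidual_le_of_map_le D hD N (h.2 _ hNn hncl')

end

end Cfsg.Agent.Helper14
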