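import Cfsg.Agent.Helper14.StrongEmb2
import Cfsg.Agent.Helper14.PCore

set_option autoImplicit false
set_option linter.unusedSectionVars false

namespace Cfsg.Agent.Helper14

open Cfsg

section Abstract

variable {T : Type*} [Group T] [Finite T] {p : ℕ} [Fact p.Prime]

/-- if `x ^ p = 1` has at most `p` solutions, they are the powers of any element of order `p` -/
theorem mem_zpowers_of_ncard_le (h : Set.ncard {a : T | a ^ p = 1} ≤ p) (y : T)
    (hy : orderOf y = p) (x : T) (hx : x ^ p = 1) : x ∈ Subgroup.zpowers y := by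
  have hsub : ((Subgroup.zpowers y : Subgroup T) : Set T) ⊆ {a : T | a ^ p = 1} := by
    intro a ha
    obtain ⟨n, rfl⟩ := Subgroup.mem_zpowers_iff.1 ha
    show (y ^ n) ^ p = 1
    rw [← zpow_natCast, ← zpow_mul, mul_comm, zpow_mul, zpow_natCast, ← hy, pow_orderOf_eq_one,
      one_zpow]
  have hcard : Set.ncard ((Subgroup.zpowers y : Subgroup T) : Set T) = p := by
    rw [← hy, ← Nat.card_zpowers]
    rfl
  have := Set.eq_of_subset_of_ncard_le hsub (by rw [hcard]; exact h) (Set.toFinite _)
  have hx' : x ∈ {a : T | a ^ p = 1} := hx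
  rw [← this] at hx'
  exact hx'

theorem ncard_pow_eq_one_le_of_isCyclic [IsCyclic T] :
    Set.ncard {a : T | a ^ p = 1} ≤ p := by
  classical
  have : Fintype T := Fintype.ofFinite T
  have h := IsCyclic.card_pow_eq_one_le (α := T) (n := p) (Fact.out : p.Prime).pos
  rw [Set.ncard_eq_toFinset_card']
  convert h using 2
  ext a
  simp

theorem QuaternionGroup.ncard_sq_eq_one_le (n : ℕ) [NeZero n] :
    Set.ncard {g : QuaternionGroup n | g ^ 2 = 1} ≤ 2 := by
  have hsub : {g : QuaternionGroup n | g ^ 2 = 1} ⊆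
      {QuaternionGroup.a 0, QuaternionGroup.a (n : ZMod (2 * n))} := by
    rintro (i | i) hg
    · have h1 : QuaternionGroup.a (i + i) = (QuaternionGroup.a 0 : QuaternionGroup n) := by
        have : (QuaternionGroup.a i : QuaternionGroup n) ^ 2 = 1 := hg
        rwa [sq, QuaternionGroup.a_mul_a, QuaternionGroup.one_def] at this
      have h2 : i + i = 0 := by
        injection h1
      -- i = 0 or i = n in ZMod (2n)
      have h3 : ((2 * n : ℕ) : ℤ) ∣ ((i.val + i.val : ℕ) : ℤ) := by
        have h4 : ((i.val + i.val : ℕ) : ZMod (2 * n)) = 0 := by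
          push_cast
          rw [ZMod.natCast_zmod_val]
          exact h2
        exact_mod_cast (ZMod.natCast_eq_zero_iff _ _).1 h4
      have hlt : i.val < 2 * n := ZMod.val_lt i
      have h5 : (2 * n) ∣ (i.val + i.val) := by exact_mod_cast h3
      obtain ⟨c, hc⟩ := h5
      have hn : 0 < n := Nat.pos_of_ne_zero (NeZero.ne n)
      have hc2 : c < 2 := by
        by_contra hcon
        push Not at hcon
        have : 2 * n * 2 ≤ 2 * n * c := Nat.mul_le_mul_left _ hcon
        omega
      interval_cases c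
      · left
        have : i.val = 0 := by omega
        have : i = 0 := (ZMod.val_eq_zero i).1 this
        rw [this]
      · right
        have h6 : i.val = n := by omega
        have : i = (n : ZMod (2 * n)) := by
          have h7 := ZMod.natCast_zmod_val i
          rw [h6] at h7
          exact h7.symm
        rw [Set.mem_singleton_iff, this]
    · exfalso
      have h1 : (QuaternionGroup.xa i : QuaternionGroup n) ^ 2 = 1 := hg
      rw [QuaternionGroup.xa_sq, QuaternionGroup.one_def] at h1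
      have h2 : (n : ZMod (2 * n)) = 0 := by injection h1
      have h3 := (ZMod.natCast_eq_zero_iff _ _).1 h2
      have hn : 0 < n := Nat.pos_of_ne_zero (NeZero.ne n)
      have := Nat.le_of_dvd hn h3
      omega
  calc Set.ncard {g : QuaternionGroup n | g ^ 2 = 1}
      ≤ Set.ncard ({QuaternionGroup.a 0, QuaternionGroup.a (n : ZMod (2 * n))} :
          Set (QuaternionGroup n)) := Set.ncard_le_ncard hsub (Set.toFinite _)
    _ ≤ 2 := by
        refine (Set.ncard_insert_le _ _).trans ?_
        rw [Set.ncard_singleton]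

end Abstract

end Cfsg.Agent.Helper14

namespace Cfsg.Agent.Helper14

open Cfsg

section Main

variable {G : Type*} [Group G] [Finite G] {p : ℕ} [Fact p.Prime]

/-- every nontrivial subgroup of `T` contains all solutions of `x ^ p = 1` in `T` -/
def UniqueOmega (p : ℕ) (T : Subgroup G) : Prop :=
  ∀ x ∈ T, x ^ p = 1 → ∀ Q : Subgroup G, Q ≤ T → Q ≠ ⊥ → x ∈ Q

theorem exists_orderOf_eq_of_ne_bot {Q : Subgroup G} (hQ : IsPGroup p ↥Q) (hQ1 : Q ≠ ⊥) :
    ∃ y ∈ Q, orderOf y = p := by
  have := dvd_card_of_pGroup_ne_bot hQ hQ1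
  obtain ⟨y, hy⟩ := exists_prime_orderOf_dvd_card' p this
  exact ⟨y.1, y.2, by rw [← hy]; exact (Subgroup.orderOf_coe y)⟩

theorem uniqueOmega_of_ncard_le (T : Subgroup G) (hT : IsPGroup p ↥T)
    (h : Set.ncard {a : ↥T | a ^ p = 1} ≤ p) : UniqueOmega p T := by
  intro x hx hxp Q hQT hQ1
  obtain ⟨y, hyQ, hy⟩ := exists_orderOf_eq_of_ne_bot (hT.to_le hQT) hQ1
  have h1 := mem_zpowers_of_ncard_le h ⟨y, hQT hyQ⟩
    (by rw [← hy]; exact Subgroup.orderOf_mk y (hQT hyQ)) ⟨x, hx⟩
    (Subtype.ext (by simpa using hxp))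
  obtain ⟨n, hn⟩ := Subgroup.mem_zpowers_iff.1 h1
  have : y ^ n = x := by simpa using congrArg Subtype.val hn
  rw [← this]; exact Q.zpow_mem hyQ n

theorem omegaOne_eq_of_uniqueOmega {T Q : Subgroup G} (hU : UniqueOmega p T) (hQT : Q ≤ T)
    (hQ1 : Q ≠ ⊥) : omegaOne p Q = omegaOne p T := by
  refine le_antisymm (omegaOne_mono p hQT) ?_
  unfold omegaOne
  rw [Subgroup.closure_le]
  rintro x ⟨hxT, hxp⟩
  exact Subgroup.subset_closure ⟨hU x hxT hxp Q hQT hQ1, hxp⟩

theorem normalizer_le_normalizer_omegaOne (Q : Subgroup G) :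
    Subgroup.normalizer (Q : Set G) ≤ Subgroup.normalizer ((omegaOne p Q : Subgroup G) : Set G) := by
  intro g hg
  rw [mem_normalizer_iff_map_cj] at hg ⊢
  rw [map_cj_omegaOne, hg]

theorem isStronglyPEmbedded_normalizer_omegaOne (hO : pCore p G = ⊥) (T : Sylow p G)
    (hT1 : (T : Subgroup G) ≠ ⊥) (hU : UniqueOmega p (T : Subgroup G)) :
    IsStronglyPEmbedded p (Subgroup.normalizer (omegaOne p (T : Subgroup G) : Set G)) := by
  refine ⟨(dvd_card_of_pGroup_ne_bot T.isPGroup' hT1).trans (Subgroup.card_subgroup_dvd_card _),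
    ?_, T, ?_⟩
  · intro htop
    have hnorm : (omegaOne p (T : Subgroup G)).Normal := Subgroup.normalizer_eq_top_iff.1 htop
    have hle : omegaOne p (T : Subgroup G) ≤ pCore p G :=
      le_pCore p hnorm (T.isPGroup'.to_le (omegaOne_le p _))
    rw [hO] at hle
    obtain ⟨y, hyT, hy⟩ := exists_orderOf_eq_of_ne_bot T.isPGroup' hT1
    have hy1 : y ∈ omegaOne p (T : Subgroup G) :=
      Subgroup.subset_closure ⟨hyT, by rw [← hy]; exact pow_orderOf_eq_one y⟩
    have hy2 : y = 1 := (Subgroup.mem_bot).1 (hle hy1)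
    rw [hy2, orderOf_one] at hy
    exact (Fact.out : p.Prime).one_lt.ne hy
  · unfold kGeneratedCore
    refine iSup_le ?_
    rintro ⟨Q, hQT, hQ⟩
    have hQ1 : Q ≠ ⊥ := ne_bot_of_not_pRankLE_zero hQ
    show Subgroup.normalizer (Q : Set G) ≤ _
    rw [← omegaOne_eq_of_uniqueOmega hU hQT hQ1]
    exact normalizer_le_normalizer_omegaOne Q

theorem uniqueOmega_of_isCyclic (T : Subgroup G) (hT : IsPGroup p ↥T) [IsCyclic ↥T] :
    UniqueOmega p T :=
  uniqueOmega_of_ncard_le T hT ncard_pow_eq_one_le_of_isCyclic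

theorem uniqueOmega_of_quaternion (T : Subgroup G) (hT : IsPGroup p ↥T) (n : ℕ)
    (e : ↥T ≃* QuaternionGroup n) : UniqueOmega p T := by
  have hn : NeZero n := by
    constructor
    rintro rfl
    have : Infinite (QuaternionGroup 0) := by
      have hinj : Function.Injective (fun i : ℤ => (QuaternionGroup.a (i : ZMod (2 * 0)) :
          QuaternionGroup 0)) := by
        intro i j hij
        have h1 : ((i : ZMod (2 * 0))) = (j : ZMod (2 * 0)) := by injection hij
        have h2 : ∀ k : ℤ, ((k : ZMod (2 * 0)) : ℤ) = k := fun k => Int.cast_id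
        calc i = ((i : ZMod (2 * 0)) : ℤ) := (h2 i).symm
          _ = ((j : ZMod (2 * 0)) : ℤ) := by rw [h1]
          _ = j := h2 j
      exact Infinite.of_injective _ hinj
    have : Finite (QuaternionGroup 0) := Finite.of_equiv _ e.toEquiv
    exact not_finite (QuaternionGroup 0)
  -- p = 2
  have hcard : Nat.card ↥T = 4 * n := by
    rw [Nat.card_congr e.toEquiv, Nat.card_eq_fintype_card, QuaternionGroup.card]
  obtain ⟨k, hk⟩ := IsPGroup.iff_card.1 hT
  have hp2 : p = 2 := by
    have h1 : 2 ∣ p ^ k := by rw [← hk, hcard]; exact ⟨2 * n, by ring⟩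
    have h2 := Nat.Prime.dvd_of_dvd_pow Nat.prime_two h1
    exact ((Nat.prime_dvd_prime_iff_eq Nat.prime_two (Fact.out : p.Prime)).1 h2).symm
  subst hp2
  refine uniqueOmega_of_ncard_le T hT ?_
  refine le_trans ?_ (QuaternionGroup.ncard_sq_eq_one_le n)
  refine Set.ncard_le_ncard_of_injOn (fun a => e a) ?_ (e.injective.injOn) (Set.toFinite _)
  intro a ha
  show (e a) ^ 2 = 1
  have ha' : a ^ 2 = 1 := ha
  rw [← map_pow, ha', map_one]

end Main

end Cfsg.Agent.Helper14
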