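import Cfsg.Agent.Helper14.MinimalOver3

set_option autoImplicit false
set_option linter.unusedSectionVars false
set_option linter.style.haveILetI false

namespace Cfsg.Agent.Helper14

open Cfsg

section MinimalOverD

variable {L : Type*} [Group L] [Finite L] {p : ℕ} [Fact p.Prime]

/-- preimage of a coatom under a quotient map is a coatom -/
theorem isCoatom_comap_mk (O : Subgroup L) [O.Normal] (X : Subgroup (L ⧸ O)) (hX : IsCoatom X) :
    IsCoatom (X.comap (QuotientGroup.mk' O)) := by
  have hsurj : Function.Surjective (QuotientGroup.mk' O) := QuotientGroup.mk'_surjective O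
  constructor
  · intro e
    apply hX.1
    have := congrArg (Subgroup.map (QuotientGroup.mk' O)) e
    rw [Subgroup.map_comap_eq_self_of_surjective hsurj, ← MonoidHom.range_eq_map,
      MonoidHom.range_eq_top.2 hsurj] at this
    exact this
  · intro Z hZ
    have hOZ : O ≤ Z := by
      refine le_trans ?_ hZ.le
      intro x hx
      rw [Subgroup.mem_comap]
      have : QuotientGroup.mk' O x = 1 := (QuotientGroup.eq_one_iff x).2 hx
      rw [this]; exact X.one_mem
    have h1 : X ≤ Z.map (QuotientGroup.mk' O) := by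
      have := Subgroup.map_mono (f := QuotientGroup.mk' O) hZ.le
      rwa [Subgroup.map_comap_eq_self_of_surjective hsurj] at this
    have h2 : X ≠ Z.map (QuotientGroup.mk' O) := by
      intro e
      have := comap_map_mk_of_le O hOZ
      rw [← e] at this
      exact hZ.ne this
    have h3 := hX.2 _ (lt_of_le_of_ne h1 h2)
    have h4 := comap_map_mk_of_le O hOZ
    rw [h3, Subgroup.comap_top] at h4
    exact h4.symm

/-- image of a coatom containing the kernel is a coatom -/
theorem isCoatom_map_mk (O : Subgroup L) [O.Normal] (X : Subgroup L) (hX : IsCoatom X)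
    (hOX : O ≤ X) : IsCoatom (X.map (QuotientGroup.mk' O)) := by
  have hsurj : Function.Surjective (QuotientGroup.mk' O) := QuotientGroup.mk'_surjective O
  constructor
  · intro e
    apply hX.1
    have := comap_map_mk_of_le O hOX
    rw [e, Subgroup.comap_top] at this
    exact this.symm
  · intro Z hZ
    have h1 : X ≤ Z.comap (QuotientGroup.mk' O) := by
      have := Subgroup.comap_mono (f := QuotientGroup.mk' O) hZ.le
      rwa [comap_map_mk_of_le O hOX] at this
    have h2 : X ≠ Z.comap (QuotientGroup.mk' O) := by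
      intro e
      have := Subgroup.map_comap_eq_self_of_surjective hsurj Z
      rw [← e] at this
      exact hZ.ne this
    have h3 := hX.2 _ (lt_of_le_of_ne h1 h2)
    have h4 := Subgroup.map_comap_eq_self_of_surjective hsurj Z
    rw [h3, ← MonoidHom.range_eq_map, MonoidHom.range_eq_top.2 hsurj] at h4
    exact h4.symm

namespace YMinData

variable {L₀ Y : Subgroup L} {P : Sylow p L} (h : YMinData p L₀ Y P)

include h

theorem map_normalCore_eq_frattini :
    (L₀.normalCore).map (QuotientGroup.mk' (pCore p L)) = frattini (L ⧸ pCore p L) := by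
  have hOL : pCore p L ≤ L₀ := (pCore_le_sylow p P).trans h.hPL
  apply le_antisymm
  · rintro _ ⟨x, hx, rfl⟩
    unfold frattini Order.radical
    rw [Subgroup.mem_iInf]
    intro X
    rw [Subgroup.mem_iInf]
    intro hX
    have hXc := isCoatom_comap_mk (pCore p L) X hX
    have hOX : pCore p L ≤ X.comap (QuotientGroup.mk' (pCore p L)) := by
      intro y hy
      rw [Subgroup.mem_comap]
      have : QuotientGroup.mk' (pCore p L) y = 1 := (QuotientGroup.eq_one_iff y).2 hy
      rw [this]; exact X.one_mem
    exact h.normalCore_le_coatom _ hXc hOX hx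
  · intro z hz
    obtain ⟨g, rfl⟩ := QuotientGroup.mk'_surjective (pCore p L) z
    refine ⟨g, ?_, rfl⟩
    have hco := isCoatom_map_mk (pCore p L) L₀ h.coatom hOL
    have hfn : (frattini (L ⧸ pCore p L)).Normal := inferInstance
    intro b
    have h1 : QuotientGroup.mk' (pCore p L) (b * g * b⁻¹) ∈ frattini (L ⧸ pCore p L) := by
      rw [map_mul, map_mul, map_inv]
      exact hfn.conj_mem _ hz _
    have h2 := frattini_le_coatom hco h1
    have h3 : b * g * b⁻¹ ∈ (L₀.map (QuotientGroup.mk' (pCore p L))).comap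
        (QuotientGroup.mk' (pCore p L)) := h2
    rwa [comap_map_mk_of_le (pCore p L) hOL] at h3

theorem isNilpotent_quotient (N : Subgroup L) [hN : N.Normal] (hNL : N ≤ L₀) :
    Group.IsNilpotent (↥N ⧸ pCore p ↥N) := by
  have hND : N ≤ L₀.normalCore := (Subgroup.normal_le_normalCore).2 hNL
  -- the hom N → frattini (L/O)
  let ψ : ↥N →* ↥(frattini (L ⧸ pCore p L)) :=
    ((QuotientGroup.mk' (pCore p L)).comp N.subtype).codRestrict _ (fun n => by
      rw [← h.map_normalCore_eq_frattini]
      exact ⟨n.1, hND n.2, rfl⟩)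
  have hker : ψ.ker = pCore p ↥N := by
    rw [h.pCore_subgroup N hNL, ← h.pCore_inf N hNL]
    ext n
    rw [MonoidHom.mem_ker, Subgroup.mem_subgroupOf]
    constructor
    · intro hn
      have h1 : QuotientGroup.mk' (pCore p L) (n : L) = 1 := congrArg Subtype.val hn
      exact ⟨(QuotientGroup.eq_one_iff _).1 h1, n.2⟩
    · intro hn
      apply Subtype.ext
      exact (QuotientGroup.eq_one_iff _).2 hn.1
  haveI : Group.IsNilpotent ↥(frattini (L ⧸ pCore p L)) := frattini_nilpotent
  have h1 : Group.IsNilpotent (↥N ⧸ ψ.ker) :=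
    Lead.isNilpotent_of_injective (QuotientGroup.kerLift ψ) (QuotientGroup.kerLift_injective ψ)
  exact Group.nilpotent_of_mulEquiv (QuotientGroup.quotientMulEquivOfEq hker)

end YMinData

/-- S2836 -/
theorem minimalOver_core_structure (L₀ : Subgroup L) (hL₀ : IsCoatom L₀) (T : Sylow p ↥L₀)
    (Y : Subgroup L) (hYT : Y ≤ (T : Subgroup ↥L₀).map L₀.subtype) (hmin : IsMinimalOver Y) :
    (pCore p L ≤ L₀.normalCore ∧
      (L₀.normalCore).map (QuotientGroup.mk' (pCore p L)) = frattini (L ⧸ pCore p L) ∧
      IsPClosed p ↥(L₀.normalCore)) ∧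
    ∀ (N : Subgroup L) [N.Normal], N ≤ L₀ → IsPClosed p ↥N ∧
      Group.IsNilpotent (↥N ⧸ pCore p ↥N) ∧ (Nat.card (↥N ⧸ pCore p ↥N)).Coprime p := by
  obtain ⟨P, h⟩ := exists_yMinData L₀ hL₀ T Y hYT hmin
  refine ⟨⟨h.pCore_le_normalCore, h.map_normalCore_eq_frattini,
    h.isPClosed _ (Subgroup.normalCore_le L₀)⟩, ?_⟩
  intro N hN hNL
  exact ⟨h.isPClosed N hNL, h.isNilpotent_quotient N hNL, h.coprime_card_quotient N hNL⟩

end MinimalOverD

end Cfsg.Agent.Helper14
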