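import Cfsg.Agent.Helper14.BasicProp1
import Cfsg.Agent.Lead.SylowNumber3
import Cfsg.Agent.Helper14.MinimalOver4

set_option autoImplicit false
set_option linter.unusedSectionVars false
set_option linter.style.haveILetI false

namespace Cfsg.Agent.Helper14

open Cfsg

section BasicPropB

variable {G : Type*} [Group G] [Finite G] {p : ℕ} [Fact p.Prime]

theorem isPClosed_of_isSylowIn_normal {T₀ D : Subgroup G} (h : IsSylowIn p T₀ D)
    (hn : D ≤ Subgroup.normalizer (T₀ : Set G)) : IsPClosed p ↥D := by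
  intro P
  haveI hnorm : (h.toSylow : Subgroup ↥D).Normal := by
    show (T₀.subgroupOf D).Normal
    exact (Subgroup.normal_subgroupOf_iff_le_normalizer h.1).2 hn
  obtain ⟨g, hg⟩ := MulAction.exists_smul_eq ↥D h.toSylow P
  rw [Sylow.smul_eq_of_normal] at hg
  rw [← hg]
  exact hnorm

theorem isSylowIn_of_not_dvd_relIndex {U K M : Subgroup G} (hU : IsSylowIn p U K) (hKM : K ≤ M)
    (h : ¬ p ∣ K.relIndex M) : IsSylowIn p U M := by
  have hp : p.Prime := Fact.out
  have h1 : ¬ p ∣ U.relIndex K := by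
    have := Sylow.not_dvd_index hU.toSylow
    exact this
  have h2 : ¬ p ∣ (U.subgroupOf M).index := by
    show ¬ p ∣ U.relIndex M
    rw [← Subgroup.relIndex_mul_relIndex U K M hU.1 hKM]
    intro hd
    rcases (Nat.Prime.dvd_mul hp).1 hd with hd | hd
    · exact h1 hd
    · exact h hd
  have hUp : IsPGroup p ↥(U.subgroupOf M) := hU.2.1.comap_subtype
  have h3 := isSylowIn_of_sylow (hUp.toSylow h2)
  rw [IsPGroup.toSylow_coe, map_subtype_subgroupOf (hU.1.trans hKM)] at h3
  exact h3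

/-- If `M` is minimal subject to `T ≤ M` and `M D = ` constant (for `D ⊴ M`), then `D` is
`p`-closed. -/
theorem isPClosed_of_min_supplement {T M D : Subgroup G} (hT : IsSylowIn p T M) (hDM : D ≤ M)
    (hMD : M ≤ Subgroup.normalizer (D : Set G))
    (hmin : ∀ M₁ : Subgroup G, M₁ ≤ M → T ≤ M₁ → M ≤ M₁ ⊔ D → M ≤ M₁) :
    M ≤ Subgroup.normalizer ((T ⊓ D : Subgroup G) : Set G) ∧ IsPClosed p ↥D := by
  have hT₀ : IsSylowIn p (T ⊓ D) D := sylow_inf_isSylowIn hT hDM hMD
  have hfr : M ≤ D ⊔ (M ⊓ Subgroup.normalizer ((T ⊓ D : Subgroup G) : Set G)) :=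
    frattini_ambient hDM hMD hT₀
  have hTN : T ≤ Subgroup.normalizer ((T ⊓ D : Subgroup G) : Set G) :=
    le_normalizer_inf Subgroup.le_normalizer (hT.1.trans hMD)
  have h1 := hmin (M ⊓ Subgroup.normalizer ((T ⊓ D : Subgroup G) : Set G)) inf_le_left
    (le_inf hT.1 hTN) (by rw [sup_comm]; exact hfr)
  have h2 : M ≤ Subgroup.normalizer ((T ⊓ D : Subgroup G) : Set G) := h1.trans inf_le_right
  exact ⟨h2, isPClosed_of_isSylowIn_normal hT₀ (hDM.trans h2)⟩

/-- ... and every subgroup `K ⊇ O_p(M)` of `M` with `K D = M` equals `M`. -/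
theorem eq_of_min_supplement {T M D K : Subgroup G} (hT : IsSylowIn p T M) (hDM : D ≤ M)
    (hMD : M ≤ Subgroup.normalizer (D : Set G))
    (hmin : ∀ M₁ : Subgroup G, M₁ ≤ M → T ≤ M₁ → M ≤ M₁ ⊔ D → M ≤ M₁)
    (hKM : K ≤ M) (hOK : pCoreOf p M ≤ K) (hKD : M ≤ K ⊔ D) : M ≤ K := by
  obtain ⟨hMT₀, -⟩ := isPClosed_of_min_supplement hT hDM hMD hmin
  have hT₀ : IsSylowIn p (T ⊓ D) D := sylow_inf_isSylowIn hT hDM hMD
  have hT₀K : T ⊓ D ≤ K :=
    (le_pCoreOf p (inf_le_right.trans hDM) hMT₀ (hT.2.1.to_le inf_le_left)).trans hOK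
  -- the index of `K` in `M` is prime to `p`
  have hsup : K ⊔ D = M := le_antisymm (sup_le hKM hDM) hKD
  have h1 : K.relIndex M = K.relIndex D := by
    rw [← hsup]
    exact Lead.relIndex_sup_of_le_normalizer K D (hKM.trans hMD)
  have h2 : K.relIndex D ∣ (T ⊓ D).relIndex D := by
    rw [← Subgroup.inf_relIndex_right]
    exact Subgroup.relIndex_dvd_of_le_left D (le_inf hT₀K inf_le_right)
  have h3 : ¬ p ∣ (T ⊓ D).relIndex D := Sylow.not_dvd_index hT₀.toSylow
  have h4 : ¬ p ∣ K.relIndex M := by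
    rw [h1]
    intro hd
    exact h3 (hd.trans h2)
  obtain ⟨U, hU⟩ := exists_isSylowIn (p := p) K
  have hUM : IsSylowIn p U M := isSylowIn_of_not_dvd_relIndex hU hKM h4
  obtain ⟨m, hm, hmT⟩ := hUM.exists_conj hT
  have hMm : M.map (cj m) = M := mem_normalizer_iff_map_cj.1 (Subgroup.le_normalizer hm)
  have hDm : D.map (cj m) = D := mem_normalizer_iff_map_cj.1 (hMD hm)
  have h5 : M ≤ K.map (cj m) := by
    apply hmin
    · rw [← hMm]; exact Subgroup.map_mono hKM
    · rw [hmT]; exact Subgroup.map_mono hU.1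
    · have := Subgroup.map_mono (f := cj m) hKD
      rw [hMm, Subgroup.map_sup, hDm] at this
      exact this
  have h6 : M.map (cj m) ≤ K.map (cj m) := by rw [hMm]; exact h5
  intro x hx
  have : cj m x ∈ K.map (cj m) := h6 ⟨x, hx, rfl⟩
  obtain ⟨k, hk, hkx⟩ := this
  have : k = x := (MulAut.conj m).injective hkx
  rw [← this]; exact hk

/-- the Frattini containment for a minimal supplement -/
theorem map_le_frattini_of_min_supplement {T M D : Subgroup G} (hT : IsSylowIn p T M)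
    (hDM : D ≤ M) (hMD : M ≤ Subgroup.normalizer (D : Set G))
    (hmin : ∀ M₁ : Subgroup G, M₁ ≤ M → T ≤ M₁ → M ≤ M₁ ⊔ D → M ≤ M₁) :
    (D.subgroupOf M).map (QuotientGroup.mk' (pCore p ↥M)) ≤ frattini (↥M ⧸ pCore p ↥M) := by
  haveI hDn : (D.subgroupOf M).Normal := (Subgroup.normal_subgroupOf_iff_le_normalizer hDM).2 hMD
  unfold frattini Order.radical
  refine le_iInf fun Kb => le_iInf fun hKb => ?_
  rw [Subgroup.map_le_iff_le_comap]
  set K := Kb.comap (QuotientGroup.mk' (pCore p ↥M)) with hK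
  have hKco : IsCoatom K := isCoatom_comap_mk _ Kb hKb
  have hOK : pCore p ↥M ≤ K := by
    intro x hx
    show QuotientGroup.mk' (pCore p ↥M) x ∈ Kb
    have : QuotientGroup.mk' (pCore p ↥M) x = 1 := by
      rw [QuotientGroup.mk'_apply, QuotientGroup.eq_one_iff]; exact hx
    rw [this]; exact Subgroup.one_mem _
  by_contra hnot
  have htop : K ⊔ D.subgroupOf M = ⊤ := by
    by_contra hne
    have hlt : K < K ⊔ D.subgroupOf M := by
      refine lt_of_le_of_ne le_sup_left ?_
      intro heq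
      apply hnot
      rw [heq]; exact le_sup_right
    exact hne (hKco.2 _ hlt)
  set KG := K.map M.subtype with hKG
  have hKGM : KG ≤ M := map_subtype_le _
  have h1 : M ≤ KG ⊔ D := by
    intro x hx
    have hx' : (⟨x, hx⟩ : ↥M) ∈ K ⊔ D.subgroupOf M := by rw [htop]; trivial
    have h2 := Subgroup.mem_map_of_mem M.subtype hx'
    rw [Subgroup.map_sup, map_subtype_subgroupOf hDM] at h2
    exact h2
  have h2 : pCoreOf p M ≤ KG := Subgroup.map_mono hOK
  have h3 : M ≤ KG := eq_of_min_supplement hT hDM hMD hmin hKGM h2 h1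
  apply hKco.1
  rw [eq_top_iff]
  intro x _
  have hx := h3 x.2
  obtain ⟨k, hk, hkx⟩ := hx
  have : k = x := Subtype.ext hkx
  rw [← this]; exact hk

end BasicPropB

end Cfsg.Agent.Helper14
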