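import Mathlib

set_option autoImplicit false

namespace Cfsg.Agent.Helper14

open Equiv Equiv.Perm

/-- A permutation `σ` with `σ^(2^k) = 1`, `σ^(2^(k-1))` fixed-point-free, on a set with
`2^k * m` points, `m` odd, is an odd permutation. -/
theorem sign_eq_neg_one_of_semiregular {X : Type*} [Fintype X] [DecidableEq X] (σ : Perm X)
    (k m : ℕ) (hk : 1 ≤ k) (hσ : σ ^ (2 ^ k) = 1) (hfpf : ∀ x : X, (σ ^ (2 ^ (k - 1))) x ≠ x)
    (hm : Odd m) (hX : Fintype.card X = 2 ^ k * m) : Perm.sign σ = -1 := by
  have hall : ∀ n ∈ σ.cycleType, n = 2 ^ k := by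
    intro n hn
    rw [Equiv.Perm.mem_cycleType_iff] at hn
    obtain ⟨c, τ, hστ, hdisj, hc, hcn⟩ := hn
    have hpow : ∀ i : ℕ, ∀ x ∈ c.support, (σ ^ i) x = (c ^ i) x := by
      intro i x hx
      rw [hστ, hdisj.commute.mul_pow, Perm.mul_apply]
      have hτx : τ x = x := by
        rcases hdisj x with h | h
        · exact absurd h (Perm.mem_support.1 hx)
        · exact h
      rw [Perm.pow_apply_eq_self_of_apply_eq_self hτx]
    have hc1 : c ^ (2 ^ k) = 1 := by
      ext y
      by_cases hy : y ∈ c.support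
      · rw [← hpow _ y hy, hσ]
      · have : c y = y := Perm.notMem_support.1 hy
        rw [Perm.pow_apply_eq_self_of_apply_eq_self this]
        rfl
    have hord : orderOf c = n := by rw [hc.orderOf, hcn]
    have hdvd : n ∣ 2 ^ k := by rw [← hord]; exact orderOf_dvd_of_pow_eq_one hc1
    obtain ⟨j, hj, hnj⟩ := (Nat.dvd_prime_pow Nat.prime_two).1 hdvd
    by_contra hne
    have hjk : j ≤ k - 1 := by
      rcases Nat.lt_or_ge j k with h | h
      · omega
      · exfalso; apply hne; rw [hnj]; congr 1; omega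
    have hdvd2 : n ∣ 2 ^ (k - 1) := by rw [hnj]; exact pow_dvd_pow 2 hjk
    have hc2 : c ^ (2 ^ (k - 1)) = 1 := by
      rw [← hord] at hdvd2
      exact orderOf_dvd_iff_pow_eq_one.1 hdvd2
    obtain ⟨x, hx⟩ := hc.nonempty_support
    apply hfpf x
    rw [hpow _ x hx, hc2]
    rfl
  have hrep : σ.cycleType = Multiset.replicate (Multiset.card σ.cycleType) (2 ^ k) :=
    Multiset.eq_replicate_card.2 hall
  have hsupp : σ.support = Finset.univ := by
    ext x
    simp only [Finset.mem_univ, iff_true, Perm.mem_support]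
    intro hx
    exact hfpf x (Perm.pow_apply_eq_self_of_apply_eq_self hx _)
  have hsum : σ.cycleType.sum = 2 ^ k * m := by
    rw [Perm.sum_cycleType, hsupp, Finset.card_univ, hX]
  have hcard : Multiset.card σ.cycleType = m := by
    rw [hrep, Multiset.sum_replicate, smul_eq_mul] at hsum
    have h2 : 0 < 2 ^ k := by positivity
    have : Multiset.card σ.cycleType * 2 ^ k = m * 2 ^ k := by rw [hsum, mul_comm]
    exact Nat.eq_of_mul_eq_mul_right h2 this
  rw [Perm.sign_of_cycleType, hsum, hcard]
  apply Odd.neg_one_pow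
  have he : Even (2 ^ k * m) := by
    apply Even.mul_right
    exact (Nat.even_pow' (by omega)).2 even_two
  exact he.add_odd hm

end Cfsg.Agent.Helper14
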