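import Mathlib
import Cfsg.Prelude.Def_Transfer
import Cfsg.Agent.Helper14.SignSemireg
import Cfsg.Agent.Helper10.PResidual

set_option autoImplicit false

namespace Cfsg.Agent.Helper14

open Cfsg

/-- Lemma A: a `2`-element acting semiregularly on the cosets of a subgroup of index `2^k * odd`
is mapped to `-1` by some homomorphism to `ℤˣ`. -/
theorem exists_hom_neg_one {G : Type*} [Group G] [Finite G] (M : Subgroup G) (u : G) (k m : ℕ)
    (hk : 1 ≤ k) (hu : u ^ (2 ^ k) = 1) (hfpf : ∀ g : G, g⁻¹ * u ^ (2 ^ (k - 1)) * g ∉ M)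
    (hm : Odd m) (hM : M.index = 2 ^ k * m) : ∃ f : G →* ℤˣ, f u = -1 := by
  classical
  have := Fintype.ofFinite (G ⧸ M)
  refine ⟨(Equiv.Perm.sign).comp (MulAction.toPermHom G (G ⧸ M)), ?_⟩
  rw [MonoidHom.comp_apply]
  apply sign_eq_neg_one_of_semiregular _ k m hk
  · rw [← map_pow, hu, map_one]
  · intro q
    obtain ⟨g, rfl⟩ := QuotientGroup.mk_surjective q
    rw [← map_pow]
    intro h
    have h1 : (u ^ (2 ^ (k - 1))) • (g : G ⧸ M) = (g : G ⧸ M) := h
    rw [MulAction.Quotient.smul_mk] at h1
    have h2 := QuotientGroup.eq.1 h1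
    apply hfpf g
    have h3 := M.inv_mem h2
    have e : (((u ^ 2 ^ (k - 1)) • g)⁻¹ * g)⁻¹ = g⁻¹ * u ^ (2 ^ (k - 1)) * g := by
      rw [smul_eq_mul]; group
    rwa [e] at h3
  · exact hm
  · rw [← hM, Subgroup.index_eq_card, Nat.card_eq_fintype_card]

/-- Lemma B: homomorphisms to `ℤˣ` kill `O^2`. -/
theorem hom_pResidual_eq_one {G : Type*} [Group G] [Finite G] (f : G →* ℤˣ) {g : G}
    (hg : g ∈ pResidual 2 G) : f g = 1 := by
  unfold pResidual at hg
  induction hg using Subgroup.closure_induction with
  | mem x hx =>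
    have hx : Nat.Coprime (orderOf x) 2 := hx
    have h1 : (f x) ^ orderOf x = 1 := by rw [← map_pow, pow_orderOf_eq_one, map_one]
    have h2 : (f x) ^ 2 = 1 := Int.units_sq (f x)
    have h3 : orderOf (f x) ∣ Nat.gcd (orderOf x) 2 :=
      Nat.dvd_gcd (orderOf_dvd_of_pow_eq_one h1) (orderOf_dvd_of_pow_eq_one h2)
    rw [hx.gcd_eq_one, Nat.dvd_one] at h3
    exact orderOf_eq_one_iff.1 h3
  | one => exact map_one f
  | mul x y _ _ hx hy => rw [map_mul, hx, hy, one_mul]
  | inv x _ hx => rw [map_inv, hx, inv_one]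

/-- In a dihedral group, the elements outside a cyclic subgroup of index two are involutions. -/
theorem orderOf_eq_two_of_not_mem_cyclic {D : Type*} [Group D] [Finite D] (n : ℕ) (hn : 2 ≤ n)
    (e : D ≃* DihedralGroup n) (C : Subgroup D) [hC : IsCyclic ↥C] (hCi : C.index = 2)
    (x : D) (hx : x ∉ C) : orderOf x = 2 := by
  have hn0 : NeZero n := ⟨by omega⟩
  obtain ⟨g, hg⟩ := hC.exists_generator
  have hcardD : Nat.card D = 2 * n := by
    rw [Nat.card_congr e.toEquiv, DihedralGroup.nat_card]
  have hcardC : Nat.card ↥C = n := by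
    have := C.card_mul_index
    rw [hCi, hcardD] at this
    omega
  have hordg : orderOf (g : D) = n := by
    rw [Subgroup.orderOf_coe, orderOf_eq_card_of_forall_mem_zpowers hg, hcardC]
  have hordeg : orderOf (e (g : D)) = n := by rw [MulEquiv.orderOf_eq, hordg]
  have hCmem : ∀ y : D, y ∈ Subgroup.zpowers (g : D) → y ∈ C := by
    intro y hy
    obtain ⟨z, rfl⟩ := Subgroup.mem_zpowers_iff.1 hy
    exact C.zpow_mem g.2 z
  have hxo : orderOf x = orderOf (e x) := (MulEquiv.orderOf_eq e x).symm
  rw [hxo]
  rcases hex : e x with i | i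
  · -- rotation
    rcases heg : e (g : D) with j | j
    · -- generator is a rotation: all rotations lie in C
      exfalso
      apply hx
      apply hCmem
      -- zpowers (r j) = zpowers (r 1)
      have hle : Subgroup.zpowers (DihedralGroup.r j : DihedralGroup n) ≤
          Subgroup.zpowers (DihedralGroup.r 1 : DihedralGroup n) := by
        rw [Subgroup.zpowers_le]
        rw [Subgroup.mem_zpowers_iff]
        refine ⟨(j.val : ℤ), ?_⟩
        rw [zpow_natCast, DihedralGroup.r_one_pow, ZMod.natCast_zmod_val]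
      have hcard : Nat.card (Subgroup.zpowers (DihedralGroup.r 1 : DihedralGroup n)) ≤
          Nat.card (Subgroup.zpowers (DihedralGroup.r j : DihedralGroup n)) := by
        rw [Nat.card_zpowers, Nat.card_zpowers, DihedralGroup.orderOf_r_one, ← heg, hordeg]
      have heq := Subgroup.eq_of_le_of_card_ge hle hcard
      have hri : (DihedralGroup.r i : DihedralGroup n) ∈
          Subgroup.zpowers (DihedralGroup.r j : DihedralGroup n) := by
        rw [heq, Subgroup.mem_zpowers_iff]
        refine ⟨(i.val : ℤ), ?_⟩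
        rw [zpow_natCast, DihedralGroup.r_one_pow, ZMod.natCast_zmod_val]
      obtain ⟨z, hz⟩ := Subgroup.mem_zpowers_iff.1 hri
      rw [Subgroup.mem_zpowers_iff]
      refine ⟨z, ?_⟩
      apply e.injective
      rw [map_zpow, heg, hz, hex]
    · -- generator is a reflection: n = 2
      have h2 : n = 2 := by
        rw [← hordeg, heg, DihedralGroup.orderOf_sr]
      subst h2
      have hi : i = 0 ∨ i = 1 := by
        fin_cases i
        · left; rfl
        · right; rfl
      rcases hi with rfl | rfl
      · exfalso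
        apply hx
        have : e x = 1 := by rw [hex]; rfl
        have : x = 1 := by
          apply e.injective; rw [this, map_one]
        rw [this]; exact C.one_mem
      · exact DihedralGroup.orderOf_r_one
  · exact DihedralGroup.orderOf_sr i

end Cfsg.Agent.Helper14
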