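import Mathlib
import Cfsg.Prelude.Def_Transfer
import Cfsg.Agent.Helper14.ThompsonDih
import Cfsg.Agent.Helper10.PResidual
import Cfsg.Agent.Helper10.NPCentral

set_option autoImplicit false
set_option maxHeartbeats 800000

namespace Cfsg.Agent.Helper14

open Cfsg

theorem card_eq_card_mul_relIndex {G : Type*} [Group G] {A B : Subgroup G} (h : A ≤ B) :
    Nat.card ↥B = Nat.card ↥A * A.relIndex B := by
  have h1 := (A.subgroupOf B).card_mul_index
  rw [Nat.card_congr (Subgroup.subgroupOfEquivOfLe h).toEquiv] at h1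
  exact h1.symm

theorem card_mul_card_le_card_sup {G : Type*} [Group G] [Finite G] (A B : Subgroup G)
    (h : A ⊓ B = ⊥) : Nat.card ↥A * Nat.card ↥B ≤ Nat.card ↥(A ⊔ B) := by
  rw [← Nat.card_prod]
  let f : ↥A × ↥B → ↥(A ⊔ B) := fun p =>
    ⟨(p.1 : G) * (p.2 : G), mul_mem (le_sup_left (a := A) (b := B) p.1.2) (le_sup_right (a := A) (b := B) p.2.2)⟩
  apply Nat.card_le_card_of_injective f
  rintro ⟨⟨a, ha⟩, ⟨b, hb⟩⟩ ⟨⟨a', ha'⟩, ⟨b', hb'⟩⟩ hab
  have hab' : a * b = a' * b' := congrArg Subtype.val hab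
  have hx : a'⁻¹ * a = b' * b⁻¹ := by
    have : a'⁻¹ * (a * b) * b⁻¹ = a'⁻¹ * (a' * b') * b⁻¹ := by rw [hab']
    calc a'⁻¹ * a = a'⁻¹ * (a * b) * b⁻¹ := by group
      _ = a'⁻¹ * (a' * b') * b⁻¹ := this
      _ = b' * b⁻¹ := by group
  have hmem : a'⁻¹ * a ∈ A ⊓ B :=
    ⟨A.mul_mem (A.inv_mem ha') ha, by rw [hx]; exact B.mul_mem hb' (B.inv_mem hb)⟩
  rw [h, Subgroup.mem_bot] at hmem
  have haa : a = a' := by
    calc a = a' * (a'⁻¹ * a) := by group
      _ = a' := by rw [hmem, mul_one]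
  have hbb : b = b' := by
    rw [haa] at hab'
    exact mul_left_cancel hab'
  subst haa; subst hbb; rfl

theorem thompson_dihedral {G : Type*} [Group G] [Finite G] (L T S D C : Subgroup G)
    (hL : Cfsg.pResidual 2 ↥L = ⊤)
    (hTL : T ≤ L) (hT2 : IsPGroup 2 T) (hTsyl : ¬ 2 ∣ T.relIndex L)
    (hS2 : IsPGroup 2 S) (hSsyl : ¬ 2 ∣ S.index) (hTS : T ≤ S)
    (hDS : D ≤ S) (hDih : ∃ n : ℕ, 2 ≤ n ∧ Nonempty (↥D ≃* DihedralGroup n)) (hDT : D ⊓ T = ⊥)
    (hTD : T ⊔ D = S) (hTDc : Nat.card T * Nat.card D = Nat.card S)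
    (hCD : C ≤ D) (hC : IsCyclic ↥C) (hCi : C.relIndex D = 2)
    (h1 : ∀ x ∈ D, x ∉ C → orderOf x = 2 → ∀ g : G, g * x * g⁻¹ ∈ T ⊔ C → False)
    (h2 : ∀ c ∈ C, orderOf c = 2 → ∀ g : G, g * c * g⁻¹ ∈ T → False) :
    ∃ K : Subgroup G, K.Normal ∧ K ⊔ D = ⊤ ∧
      ∀ T' : Subgroup G, T' ≤ L → IsPGroup 2 T' → ¬ 2 ∣ T'.relIndex L →
        T' ≤ K ∧ ¬ 2 ∣ T'.relIndex K := by
  classical
  haveI : Fact (Nat.Prime 2) := ⟨Nat.prime_two⟩
  set H := pResidual 2 G with hH
  have hHn : H.Normal := Helper10.pResidual_normal 2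
  have hLH : L ≤ H := by
    intro l hl
    have hmem : (⟨l, hl⟩ : ↥L) ∈ pResidual 2 ↥L := by rw [hL]; exact Subgroup.mem_top _
    have key : ∀ y : ↥L, y ∈ pResidual 2 ↥L → (y : G) ∈ H := by
      intro y hy
      unfold pResidual at hy
      induction hy using Subgroup.closure_induction with
      | mem x hx =>
        apply Subgroup.subset_closure
        show Nat.Coprime (orderOf (x : G)) 2
        rw [Subgroup.orderOf_coe]; exact hx
      | one => exact H.one_mem
      | mul x y _ _ hx hy => exact H.mul_mem hx hy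
      | inv x _ hx => exact H.inv_mem hx
    exact key _ hmem
  have hTH : T ≤ H := hTL.trans hLH
  have hSH : S ⊔ H = ⊤ := by
    have := Helper10.sylow_sup_pResidual (hS2.toSylow hSsyl)
    rwa [IsPGroup.toSylow_coe] at this
  have hHD : H ⊔ D = ⊤ := by
    rw [← hTD] at hSH
    rw [eq_top_iff, ← hSH]
    exact sup_le (sup_le (hTH.trans le_sup_left) le_sup_right) le_sup_left
  have hSodd : Odd S.index := by
    rw [Nat.odd_iff]; omega
  -- general index computations
  have hDgen : Nat.card ↥D = Nat.card ↥(H ⊓ D) * H.index := by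
    have h3 : H.index = (H ⊓ D).relIndex D := by
      rw [Subgroup.inf_relIndex_right, ← Subgroup.relIndex_sup_left (K := H) (H := D), hHD,
        Subgroup.relIndex_top_right]
    rw [h3]
    exact card_eq_card_mul_relIndex inf_le_right
  have hgen : T.relIndex H * H.index = Nat.card ↥D * S.index := by
    have hTpos : 0 < Nat.card ↥T := Nat.card_pos
    apply Nat.eq_of_mul_eq_mul_left hTpos
    calc Nat.card ↥T * (T.relIndex H * H.index) = Nat.card ↥H * H.index := by
          rw [← mul_assoc, ← card_eq_card_mul_relIndex hTH]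
      _ = Nat.card G := H.card_mul_index
      _ = Nat.card ↥S * S.index := S.card_mul_index.symm
      _ = Nat.card ↥T * (Nat.card ↥D * S.index) := by rw [← hTDc, mul_assoc]
  have hHpos : 0 < H.index := Nat.pos_of_ne_zero Subgroup.index_ne_zero_of_finite
  obtain ⟨n, hn, ⟨e⟩⟩ := hDih
  have hord2 : ∀ x ∈ D, x ∉ C → orderOf x = 2 := by
    intro x hxD hxC
    haveI : IsCyclic ↥(C.subgroupOf D) :=
      isCyclic_of_surjective (Subgroup.subgroupOfEquivOfLe hCD).symm.toMonoidHom
        (Subgroup.subgroupOfEquivOfLe hCD).symm.surjective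
    have h := orderOf_eq_two_of_not_mem_cyclic n hn e (C.subgroupOf D) hCi ⟨x, hxD⟩
      (by rw [Subgroup.mem_subgroupOf]; exact hxC)
    have h' := Subgroup.orderOf_coe (⟨x, hxD⟩ : ↥D)
    rw [h] at h'
    exact h'
  have hDcard : Nat.card ↥D = Nat.card ↥C * 2 := by
    rw [card_eq_card_mul_relIndex hCD, hCi]
  -- Step A
  have hA : ∀ x ∈ H, x ∈ D → x ∈ C := by
    intro x hxH hxD
    by_contra hxC
    have hx2 := hord2 x hxD hxC
    have hxS0 : x ∉ T ⊔ C := by
      intro h
      apply h1 x hxD hxC hx2 1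
      simpa using h
    have hS0S : T ⊔ C ≤ S := sup_le hTS (hCD.trans hDS)
    have hTC : T ⊓ C = ⊥ := by
      rw [eq_bot_iff, ← hDT]; exact le_inf (inf_le_right.trans hCD) inf_le_left
    have hge : Nat.card ↥T * Nat.card ↥C ≤ Nat.card ↥(T ⊔ C) := card_mul_card_le_card_sup T C hTC
    have hlt : T ⊔ C ≠ S := fun h => hxS0 (h ▸ hDS hxD)
    have hrel : (T ⊔ C).relIndex S = 2 := by
      have h3 := card_eq_card_mul_relIndex hS0S
      have hne1 : (T ⊔ C).relIndex S ≠ 1 := by
        intro h; apply hlt; exact le_antisymm hS0S (Subgroup.relIndex_eq_one.1 h)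
      have hpos : 0 < Nat.card ↥(T ⊔ C) := Nat.card_pos
      have hSpos : 0 < Nat.card ↥S := Nat.card_pos
      have hne0 : (T ⊔ C).relIndex S ≠ 0 := by
        intro h; rw [h, mul_zero] at h3; omega
      have hle : Nat.card ↥(T ⊔ C) * (T ⊔ C).relIndex S ≤ Nat.card ↥(T ⊔ C) * 2 := by
        rw [← h3, ← hTDc, hDcard, ← mul_assoc]
        exact Nat.mul_le_mul_right 2 hge
      have := Nat.le_of_mul_le_mul_left hle hpos
      omega
    have hidx : (T ⊔ C).index = 2 ^ 1 * S.index := by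
      rw [← Subgroup.relIndex_mul_index hS0S, hrel, pow_one]
    obtain ⟨f, hf⟩ := exists_hom_neg_one (T ⊔ C) x 1 S.index le_rfl
      (by rw [pow_one, ← hx2]; exact pow_orderOf_eq_one x)
      (by
        intro g hg
        apply h1 x hxD hxC hx2 g⁻¹
        simpa using hg) hSodd hidx
    have := hom_pResidual_eq_one f hxH
    rw [hf] at this
    exact absurd this (by decide)
  -- Step B
  have hB : H ⊓ D = ⊥ := by
    by_contra hne
    have hC'C : H ⊓ D ≤ C := fun x hx => hA x hx.1 hx.2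
    haveI : IsCyclic ↥(H ⊓ D) := Subgroup.isCyclic_of_le hC'C
    obtain ⟨u0, hu0⟩ := IsCyclic.exists_generator (α := ↥(H ⊓ D))
    have hC'2 : IsPGroup 2 ↥(H ⊓ D) := hS2.to_le (inf_le_right.trans hDS)
    obtain ⟨k, hk⟩ := IsPGroup.iff_card.1 hC'2
    have hk1 : 1 ≤ k := by
      by_contra h
      have : k = 0 := by omega
      rw [this, pow_zero] at hk
      exact hne (Subgroup.card_eq_one.1 hk)
    have hordu : orderOf (u0 : G) = 2 ^ k := by
      rw [Subgroup.orderOf_coe, orderOf_eq_card_of_forall_mem_zpowers hu0, hk]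
    have hc2 : orderOf ((u0 : G) ^ (2 ^ (k - 1))) = 2 := by
      apply orderOf_eq_prime
      · rw [← pow_mul, ← pow_succ, Nat.sub_add_cancel hk1, ← hordu]; exact pow_orderOf_eq_one _
      · intro h
        have h3 : orderOf (u0 : G) ∣ 2 ^ (k - 1) := orderOf_dvd_of_pow_eq_one h
        rw [hordu] at h3
        have h4 := Nat.le_of_dvd (by positivity) h3
        have h5 : 2 ^ (k - 1) < 2 ^ k := Nat.pow_lt_pow_right (by omega) (by omega)
        omega
    have huC' : (u0 : G) ∈ H ⊓ D := u0.2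
    have hcC : (u0 : G) ^ (2 ^ (k - 1)) ∈ C := hC'C ((H ⊓ D).pow_mem huC' _)
    have hidx : (T.subgroupOf H).index = 2 ^ k * S.index := by
      have h3 : T.relIndex H * H.index = 2 ^ k * S.index * H.index := by
        rw [hgen, hDgen, hk]; ring
      exact Nat.eq_of_mul_eq_mul_right hHpos h3
    have huH : (u0 : G) ∈ H := huC'.1
    obtain ⟨f, hf⟩ := exists_hom_neg_one (G := ↥H) (T.subgroupOf H) ⟨(u0 : G), huH⟩ k S.index hk1
      (by
        apply Subtype.ext
        rw [Subgroup.coe_pow, Subgroup.coe_one, ← hordu]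
        exact pow_orderOf_eq_one _)
      (by
        intro g hg
        rw [Subgroup.mem_subgroupOf] at hg
        apply h2 _ hcC hc2 (g : G)⁻¹
        simpa using hg) hSodd hidx
    have h := hom_pResidual_eq_one f (g := ⟨(u0 : G), huH⟩)
      (by rw [Helper10.pResidual_pResidual_eq_top]; exact Subgroup.mem_top _)
    rw [hf] at h
    exact absurd h (by decide)
  -- conclusion
  have hTrel : T.relIndex H = S.index := by
    have h3 : T.relIndex H * H.index = S.index * H.index := by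
      rw [hgen, hDgen, hB, Subgroup.card_bot]; ring
    exact Nat.eq_of_mul_eq_mul_right hHpos h3
  refine ⟨H, hHn, hHD, ?_⟩
  intro T' hT'L hT'2 hT'syl
  refine ⟨hT'L.trans hLH, ?_⟩
  have hcardTT' : Nat.card ↥T' = Nat.card ↥T := by
    obtain ⟨a, ha⟩ := IsPGroup.iff_card.1 hT2
    obtain ⟨b, hb⟩ := IsPGroup.iff_card.1 hT'2
    have e1 := card_eq_card_mul_relIndex hTL
    have e2 := card_eq_card_mul_relIndex hT'L
    rw [ha] at e1
    rw [hb] at e2
    have hc1 : Nat.Coprime (2 ^ a) (T'.relIndex L) :=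
      Nat.Coprime.pow_left a ((Nat.Prime.coprime_iff_not_dvd Nat.prime_two).2 hT'syl)
    have hc2 : Nat.Coprime (2 ^ b) (T.relIndex L) :=
      Nat.Coprime.pow_left b ((Nat.Prime.coprime_iff_not_dvd Nat.prime_two).2 hTsyl)
    have hd1 : 2 ^ a ∣ 2 ^ b := by
      apply hc1.dvd_of_dvd_mul_right
      rw [← e2, e1]; exact Dvd.intro _ rfl
    have hd2 : 2 ^ b ∣ 2 ^ a := by
      apply hc2.dvd_of_dvd_mul_right
      rw [← e1, e2]; exact Dvd.intro _ rfl
    rw [ha, hb]
    exact Nat.dvd_antisymm hd2 hd1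
  have hT'rel : T'.relIndex H = S.index := by
    have e1 := card_eq_card_mul_relIndex hTH
    have e2 := card_eq_card_mul_relIndex (hT'L.trans hLH)
    rw [hcardTT', e1, hTrel] at e2
    have hTpos : 0 < Nat.card ↥T := Nat.card_pos
    exact (Nat.eq_of_mul_eq_mul_left hTpos e2).symm
  rw [hT'rel]
  exact hSsyl

end Cfsg.Agent.Helper14
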