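import Cfsg.Agent.Helper14.WeaklyClosed4
import Cfsg.Agent.Lead.ThompsonPQ

set_option autoImplicit false
set_option linter.unusedSectionVars false

namespace Cfsg.Agent.Helper14

open Cfsg
open scoped commutatorElement Pointwise

section

variable {H : Type*} [Group H] [Finite H] {p : ℕ} [Fact p.Prime]

/-- a `p`-group `Q` normalizing a nontrivial `p`-group `P` has nontrivial fixed points on `P` -/
theorem exists_ne_one_mem_inf_centralizer {Q P : Subgroup H} (hQ : IsPGroup p ↥Q)
    (hP : IsPGroup p ↥P) (hQP : Q ≤ Subgroup.normalizer (P : Set H)) (hP1 : P ≠ ⊥) :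
    ∃ y ∈ P ⊓ Subgroup.centralizer (Q : Set H), y ≠ 1 := by
  let _ : MulAction ↥Q ↥P := MulAction.compHom ↥P (Subgroup.inclusion hQP)
  have h1 : (1 : ↥P) ∈ MulAction.fixedPoints ↥Q ↥P := by
    intro g
    show (Subgroup.inclusion hQP g) • (1 : ↥P) = 1
    exact smul_one _
  have dvd : p ∣ Nat.card ↥P := by
    have : Nontrivial ↥P := (Subgroup.nontrivial_iff_ne_bot P).2 hP1
    obtain ⟨n, hn0, hn⟩ := hP.nontrivial_iff_card.mp inferInstance
    exact hn.symm ▸ dvd_pow_self _ (ne_of_gt hn0)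
  obtain ⟨b, hb, hb1⟩ := hQ.exists_fixed_point_of_prime_dvd_card_of_fixed_point ↥P dvd h1
  refine ⟨b, ⟨b.2, ?_⟩, ?_⟩
  · show (b : H) ∈ Subgroup.centralizer (Q : Set H)
    rw [Subgroup.mem_centralizer_iff]
    intro q hq
    have h2 := hb ⟨q, hq⟩
    have h3 : q * (b : H) * q⁻¹ = b := congrArg Subtype.val h2
    calc q * (b : H) = q * b * q⁻¹ * q := by group
      _ = b * q := by rw [h3]
  · intro h
    exact hb1 (Subtype.ext h.symm)

/-- a nontrivial large `p`-subgroup is a weakly closed subgroup -/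
theorem isWeaklyClosedSubgroup_of_isLarge {Q : Subgroup H} (hQp : IsPGroup p ↥Q) (hQ1 : Q ≠ ⊥)
    (hL : IsLarge Q) : IsWeaklyClosedSubgroup p Q := by
  obtain ⟨T, hT⟩ := hQp.exists_le_sylow
  exact ⟨T, hT, fun g hg => large_weakly_closed hQ1 hL g _ T.isPGroup' hT hg⟩

/-- `N(D) ≤ N(O_p(D))` -/
theorem normalizer_le_normalizer_pCoreOf (D : Subgroup H) :
    Subgroup.normalizer (D : Set H) ≤ Subgroup.normalizer ((pCoreOf p D : Subgroup H) : Set H) := by
  intro g hg
  rw [mem_normalizer_iff_map_cj]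
  have := pCoreOf_map_conj p D g
  have e : D.map (cj g) = D := mem_normalizer_iff_map_cj.1 hg
  rw [← this]
  show pCoreOf p (D.map (cj g)) = _
  rw [e]

/-- `N(P) ≤ N(C(P))` -/
theorem normalizer_le_normalizer_centralizer (P : Subgroup H) :
    Subgroup.normalizer (P : Set H) ≤
      Subgroup.normalizer ((Subgroup.centralizer (P : Set H) : Subgroup H) : Set H) := by
  intro g hg
  rw [mem_normalizer_iff_map_cj, map_cj_centralizer, mem_normalizer_iff_map_cj.1 hg]

/-- key step: for `Q` large and `Q ≤ L` with `O_p(L) ≠ 1`, `C_H(O_p(L))` is a `p`-group -/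
theorem large_centralizer_pCoreOf_isPGroup {Q : Subgroup H} (hQp : IsPGroup p ↥Q) (hQ1 : Q ≠ ⊥)
    (hL : IsLarge Q) (L : Subgroup H) (hQL : Q ≤ L) (hP1 : pCoreOf p L ≠ ⊥) :
    IsPGroup p ↥(Subgroup.centralizer ((pCoreOf p L : Subgroup H) : Set H)) := by
  have hp : p.Prime := Fact.out
  set P := pCoreOf p L with hP
  set D := Subgroup.centralizer (P : Set H) with hD
  have hPp : IsPGroup p ↥P := pCoreOf_isPGroup p L
  have hLP : L ≤ Subgroup.normalizer (P : Set H) := le_normalizer_pCoreOf p L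
  have hwc := isWeaklyClosedSubgroup_of_isLarge hQp hQ1 hL
  -- P normalizes Q
  have hPQ : P ≤ Subgroup.normalizer (Q : Set H) := by
    have hR : IsPGroup p ↥(Q ⊔ P : Subgroup H) :=
      IsPGroup.to_sup_of_normal_right' hQp hPp (hQL.trans hLP)
    exact le_sup_right.trans (wc_le_normalizer (wcs_of_le_pGroup hwc hR le_sup_left))
  -- D normalizes Q
  obtain ⟨y, hy, hy1⟩ := exists_ne_one_mem_inf_centralizer hQp hPp (hQL.trans hLP) hP1
  have hDQ : D ≤ Subgroup.normalizer (Q : Set H) := by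
    have hU : Subgroup.zpowers y ≤ Subgroup.centralizer (Q : Set H) :=
      Subgroup.zpowers_le.2 hy.2
    have hU1 : Subgroup.zpowers y ≠ ⊥ := by
      intro h
      exact hy1 (Subgroup.zpowers_eq_bot.1 h)
    have h1 := hL.2 _ hU hU1
    have h2 : D ≤ Subgroup.centralizer ((Subgroup.zpowers y : Subgroup H) : Set H) :=
      Subgroup.centralizer_le (Subgroup.zpowers_le.2 hy.1)
    exact (h2.trans (Subgroup.centralizer_le_normalizer _)).trans h1
  -- Q ∩ D ≤ P
  have hLD : L ≤ Subgroup.normalizer (D : Set H) :=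
    hLP.trans (normalizer_le_normalizer_centralizer P)
  have hQD : Q ⊓ D ≤ P := by
    have h1 : Q ⊓ D ≤ pCoreOf p D := by
      apply le_pCoreOf p inf_le_right _ (hQp.to_le inf_le_left)
      apply le_normalizer_of_map_cj_le
      intro d hd
      rw [map_cj_inf, mem_normalizer_iff_map_cj.1 (hDQ hd), map_cj_eq_self_of_mem hd]
    have h2 : pCoreOf p D ⊓ L ≤ P := by
      apply le_pCoreOf p inf_le_right _ ((pCoreOf_isPGroup p D).to_le inf_le_left)
      apply le_normalizer_of_map_cj_le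
      intro l hl
      rw [map_cj_inf, map_cj_eq_self_of_mem hl,
        mem_normalizer_iff_map_cj.1 (normalizer_le_normalizer_pCoreOf D (hLD hl))]
    exact (le_inf h1 (inf_le_left.trans hQL)).trans h2
  -- p'-subgroups of D are trivial
  have key : ∀ A : Subgroup H, A ≤ D → (Nat.card ↥A).Coprime p → A ≤ Q := by
    intro A hAD hA
    have hPA : P ≤ Subgroup.centralizer (A : Set H) := Subgroup.le_centralizer_iff.1 hAD
    have := Cfsg.Agent.Lead.thompson_PQ p P A Q hPp hA hQp hPA hPQ (hAD.trans hDQ)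
      (hQD.trans hPA)
    exact this.trans hL.1
  intro d
  obtain ⟨k, m, hm, hkm⟩ := Nat.exists_eq_pow_mul_and_not_dvd (orderOf_pos (d : H)).ne' p hp.ne_one
  refine ⟨k, ?_⟩
  apply Subtype.ext
  rw [Subgroup.coe_pow, Subgroup.coe_one]
  set a := (d : H) ^ (p ^ k) with ha
  have hao : orderOf a = m := by
    rw [ha, orderOf_pow' (d : H) (pow_ne_zero k hp.ne_zero), hkm,
      Nat.gcd_eq_right (Dvd.intro _ rfl), Nat.mul_div_cancel_left m (pow_pos hp.pos k)]
  have hcop : Nat.Coprime m p := ((Nat.Prime.coprime_iff_not_dvd hp).2 hm).symm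
  have hA : Subgroup.zpowers a ≤ Q := by
    apply key
    · exact Subgroup.zpowers_le.2 (D.pow_mem d.2 _)
    · rw [Nat.card_zpowers, hao]; exact hcop
  have haQ : a ∈ Q := hA (Subgroup.mem_zpowers a)
  obtain ⟨j, hj⟩ := hQp ⟨a, haQ⟩
  have hj' : a ^ (p ^ j) = 1 := by
    have := congrArg Subtype.val hj
    simpa using this
  have h1 : orderOf a ∣ p ^ j := orderOf_dvd_of_pow_eq_one hj'
  rw [hao] at h1
  have h2 : m = 1 := (Nat.Coprime.pow_right j hcop).eq_one_of_dvd h1
  rw [h2, orderOf_eq_one_iff] at hao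
  exact hao

theorem pCoreOf_ne_bot {L : Subgroup H} (h : pCore p ↥L ≠ ⊥) : pCoreOf p L ≠ ⊥ := by
  intro h'
  unfold pCoreOf at h'
  exact h ((Subgroup.map_eq_bot_iff_of_injective _ L.subtype_injective).1 h')

/-- weak closure dichotomy for large subgroups -/
theorem large_weakClosure_dichotomy {Q : Subgroup H} (hQp : IsPGroup p ↥Q) (hQ1 : Q ≠ ⊥)
    (hL : IsLarge Q) (L : Subgroup H) (hQL : Q ≤ L) :
    weakClosure Q L = Q ∨
      Subgroup.centralizer ((weakClosure Q L : Subgroup H) : Set H) = ⊥ := by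
  by_cases hU1 : Subgroup.centralizer ((weakClosure Q L : Subgroup H) : Set H) = ⊥
  · exact Or.inr hU1
  left
  set W := weakClosure Q L with hW
  set U := Subgroup.centralizer (W : Set H) with hU
  have hQW : Q ≤ W := by
    have hmem : Q.map (MulAut.conj (1 : H)).toMonoidHom ≤ L := by
      have : Q.map (cj (1 : H)) = Q := map_cj_one Q
      exact this.le.trans hQL
    have := le_iSup (fun g : {g : H // Q.map (MulAut.conj g).toMonoidHom ≤ L} =>
      Q.map (MulAut.conj (g : H)).toMonoidHom) ⟨1, hmem⟩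
    have e : Q.map (MulAut.conj (1 : H)).toMonoidHom = Q := map_cj_one Q
    rw [e] at this
    exact this
  have h1 : U ≤ Subgroup.centralizer (Q : Set H) := Subgroup.centralizer_le hQW
  have h2 := hL.2 U h1 hU1
  have hWU : W ≤ Subgroup.normalizer (U : Set H) :=
    (Subgroup.le_centralizer_iff.1 le_rfl).trans (Subgroup.centralizer_le_normalizer _)
  have hWQ : W ≤ Subgroup.normalizer (Q : Set H) := hWU.trans h2
  apply le_antisymm _ hQW
  rw [hW]
  unfold weakClosure
  apply iSup_le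
  rintro ⟨g, hg⟩
  show Q.map (cj g) ≤ Q
  have hQgW : Q.map (cj g) ≤ W :=
    le_iSup (fun g : {g : H // Q.map (MulAut.conj g).toMonoidHom ≤ L} =>
      Q.map (MulAut.conj (g : H)).toMonoidHom) ⟨g, hg⟩
  have hR : IsPGroup p ↥(Q.map (cj g) ⊔ Q : Subgroup H) :=
    IsPGroup.to_sup_of_normal_right' (hQp.map _) hQp (hQgW.trans hWQ)
  exact (large_weakly_closed hQ1 hL g _ hR le_sup_right le_sup_left).le

/-- parabolic subgroups with nontrivial `O_p` in a group with a large subgroup -/
theorem large_parabolic_charP {Q : Subgroup H} (hQp : IsPGroup p ↥Q) (hQ1 : Q ≠ ⊥)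
    (hL : IsLarge Q) (R : Subgroup H) (hR : IsParabolic p R) (hR1 : pCore p ↥R ≠ ⊥) :
    Subgroup.centralizer ((pCoreOf p R : Subgroup H) : Set H) ≤ pCoreOf p R := by
  obtain ⟨T, hTR⟩ := hR
  obtain ⟨T', hQT'⟩ := hQp.exists_le_sylow
  obtain ⟨g, hg⟩ := MulAction.exists_smul_eq H T' T
  have hQ'T : Q.map (cj g) ≤ (T : Subgroup H) := by
    rw [← hg, sylow_smul_coe]
    exact Subgroup.map_mono hQT'
  have hQ'1 : Q.map (cj g) ≠ ⊥ := by
    intro h
    exact hQ1 ((Subgroup.map_eq_bot_iff_of_injective Q (cj_injective g)).1 h)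
  have hD := large_centralizer_pCoreOf_isPGroup (hQp.map (cj g)) hQ'1 (isLarge_map_cj hL g) R
    (hQ'T.trans hTR) (pCoreOf_ne_bot hR1)
  set P := pCoreOf p R with hP
  set D := Subgroup.centralizer (P : Set H) with hDdef
  have hRD : R ≤ Subgroup.normalizer (D : Set H) :=
    (le_normalizer_pCoreOf p R).trans (normalizer_le_normalizer_centralizer P)
  have hDT : D ≤ (T : Subgroup H) := by
    have hDTp : IsPGroup p ↥(D ⊔ (T : Subgroup H) : Subgroup H) :=
      IsPGroup.to_sup_of_normal_left' hD T.isPGroup' (hTR.trans hRD)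
    have := T.is_maximal' hDTp le_sup_right
    rw [← this]
    exact le_sup_left
  apply le_pCoreOf p (hDT.trans hTR) hRD hD

/-- S2845 -/
theorem large_local_structure (Q : Subgroup H) (hQp : IsPGroup p ↥Q) (hQ1 : Q ≠ ⊥)
    (hL : IsLarge Q) :
    (∀ L : Subgroup H, Q ≤ L → pCore p ↥L ≠ ⊥ →
      IsPGroup p ↥(Subgroup.centralizer ((pCoreOf p L : Subgroup H) : Set H)) ∧
      Subgroup.centralizer (pCore p ↥L : Set ↥L) ≤ pCore p ↥L ∧
      (weakClosure Q L = Q ∨
        Subgroup.centralizer ((weakClosure Q L : Subgroup H) : Set H) = ⊥)) ∧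
    (∀ R : Subgroup H, IsParabolic p R → pCore p ↥R ≠ ⊥ →
      Subgroup.centralizer ((pCoreOf p R : Subgroup H) : Set H) ≤ pCoreOf p R) ∧
    IsOfParabolicCharacteristic p H := by
  refine ⟨?_, fun R hR hR1 => large_parabolic_charP hQp hQ1 hL R hR hR1, ?_⟩
  · intro L hQL hL1
    have h1 := large_centralizer_pCoreOf_isPGroup hQp hQ1 hL L hQL (pCoreOf_ne_bot hL1)
    refine ⟨h1, ?_, large_weakClosure_dichotomy hQp hQ1 hL L hQL⟩
    apply charP_of_ambient
    apply charP_of_isPGroup
    exact h1.to_le inf_le_right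
  · intro R hRp hR1 hpar
    apply charP_of_ambient
    have hne : pCore p ↥(Subgroup.normalizer (R : Set H)) ≠ ⊥ := by
      intro h
      have h2 : R ≤ pCoreOf p (Subgroup.normalizer (R : Set H)) :=
        le_pCoreOf p Subgroup.le_normalizer le_rfl hRp
      unfold pCoreOf at h2
      rw [h, Subgroup.map_bot, le_bot_iff] at h2
      exact hR1 h2
    exact inf_le_right.trans (large_parabolic_charP hQp hQ1 hL _ hpar hne)

end

end Cfsg.Agent.Helper14
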