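import Mathlib
import Cfsg.Agent.Helper25.QPSwap
import Cfsg.Agent.Helper18.SL2Ext5
import Cfsg.Agent.Helper19.QPFIT

set_option autoImplicit false
set_option linter.unusedVariables false

/-! Board `qppieces`, piece VANU: `VAN_unit`, `FIT_invpoly`, `VAN_prime`. -/

noncomputable section

namespace Cfsg.Agent.QPP

open Cfsg Cfsg.Agent.Helper25.QP Cfsg.Agent.Helper25.QuadPair Polynomial

variable {k : Type*} [Field k] {M : Type*} [AddCommGroup M] [Module k M]

local notation "GLkM" => LinearMap.GeneralLinearGroup k M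

/-- a `z`-invariant submodule is invariant under every polynomial in `z` -/
theorem VANU_aux_inv (z : Module.End k M) (W : Submodule k M) (hW : ∀ m ∈ W, z m ∈ W)
    (f : k[X]) : ∀ m ∈ W, aeval z f m ∈ W := by
  induction f using Polynomial.induction_on' with
  | add p q hp hq =>
    intro m hm
    simp only [map_add, LinearMap.add_apply]
    exact W.add_mem (hp m hm) (hq m hm)
  | monomial n c =>
    intro m hm
    have hpow : ∀ n : ℕ, ∀ m ∈ W, (z ^ n) m ∈ W := by
      intro n
      induction n with
      | zero => intro m hm; simpa using hm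
      | succ n ih =>
        intro m hm
        rw [pow_succ', Module.End.mul_apply]
        exact hW _ (ih m hm)
    simp only [aeval_monomial, Module.End.mul_apply, Module.algebraMap_end_apply]
    exact W.smul_mem _ (hpow n m hm)

/-- the ideal `Van z W` contains a nonzero polynomial -/
theorem VANU_aux_ne_bot [FiniteDimensional k M] (z : Module.End k M) (W : Submodule k M) :
    ∃ f : k[X], f ≠ 0 ∧ f ∈ Van z W := by
  refine ⟨minpoly k z, minpoly.ne_zero (Algebra.IsIntegral.isIntegral z), ?_⟩
  intro m _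
  rw [minpoly.aeval]
  simp

theorem VAN_unit [FiniteDimensional k M] (z : Module.End k M) (W : Submodule k M)
    (hW : ∀ m ∈ W, z m ∈ W) (q : k[X]) (hq : ∀ m ∈ W, aeval z q m = 0 → m = 0) :
    ∃ v : k[X], q * v - 1 ∈ Van z W := by
  classical
  -- generator of the ideal
  have hprin : (Van z W).IsPrincipal := IsPrincipalIdealRing.principal _
  obtain ⟨μ, hμ⟩ := hprin.principal
  have hμmem : μ ∈ Van z W := by rw [hμ]; exact Ideal.mem_span_singleton_self μ
  have hμ0 : μ ≠ 0 := by
    obtain ⟨f, hf0, hf⟩ := VANU_aux_ne_bot z W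
    rintro rfl
    rw [hμ] at hf
    simp at hf
    exact hf0 hf
  -- every common divisor of `q` and `μ` is a unit
  have key : ∀ g q' μ' : k[X], q = g * q' → μ = g * μ' → IsUnit g := by
    intro g q' μ' hq' hμ'
    have hμ'mem : μ' ∈ Van z W := by
      intro m hm
      apply hq _ (VANU_aux_inv z W hW μ' m hm)
      have h1 : q * μ' = q' * μ := by
        rw [hq']
        conv_rhs => rw [hμ']
        ring
      have h2 : aeval z q (aeval z μ' m) = aeval z (q * μ') m := by
        simp [map_mul, Module.End.mul_apply]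
      rw [h2, h1]
      simp only [map_mul, Module.End.mul_apply]
      rw [hμmem m hm, map_zero]
    have hdvd : μ ∣ μ' := by
      rw [hμ] at hμ'mem
      exact Ideal.mem_span_singleton.mp hμ'mem
    obtain ⟨c, hc⟩ := hdvd
    have h3 : μ * 1 = μ * (g * c) := by
      calc μ * 1 = μ := mul_one _
        _ = g * μ' := hμ'
        _ = g * (μ * c) := by rw [← hc]
        _ = μ * (g * c) := by ring
    have h4 := mul_left_cancel₀ hμ0 h3
    exact IsUnit.of_mul_eq_one _ h4.symm
  obtain ⟨q', hq'⟩ := EuclideanDomain.gcd_dvd_left q μ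
  obtain ⟨μ', hμ'⟩ := EuclideanDomain.gcd_dvd_right q μ
  have hunit : IsUnit (EuclideanDomain.gcd q μ) := key _ q' μ' hq' hμ'
  have hcop : IsCoprime q μ := EuclideanDomain.gcd_isUnit_iff.mp hunit
  obtain ⟨a, b, hab⟩ := hcop
  refine ⟨a, ?_⟩
  have h5 : q * a - 1 = -b * μ := by
    rw [← hab]; ring
  rw [h5]
  exact (Van z W).mul_mem_left _ hμmem

theorem FIT_invpoly [FiniteDimensional k M] (z : Module.End k M) :
    ∃ u : k[X], X * u - 1 ∈ Van z (F1 z) := by
  apply VAN_unit z (F1 z) (FIT_inv1 z z (Commute.refl z)) X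
  intro m hm h
  rw [aeval_X] at h
  exact FIT_inj z m hm h

/-- if `Van z W ≤ (p)` with `p` irreducible then `p(z)` kills a nonzero vector of any invariant
`W' ≤ W` on which `Van z W` is faithful -/
theorem VAN_prime [FiniteDimensional k M] (z : Module.End k M) (W W' : Submodule k M)
    (hW' : ∀ m ∈ W', z m ∈ W') (hWW' : W' ≤ W)
    (hf : ∀ q : k[X], (∀ m ∈ W', aeval z q m = 0) → q ∈ Van z W)
    (p : k[X]) (hp : Irreducible p) (hle : Van z W ≤ Ideal.span {p}) :
    ∃ m ∈ W', m ≠ 0 ∧ aeval z p m = 0 := by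
  by_contra hcon
  push Not at hcon
  have hinj : ∀ m ∈ W', aeval z p m = 0 → m = 0 := by
    intro m hm h
    by_contra hne
    exact hcon m hm hne h
  obtain ⟨v, hv⟩ := VAN_unit z W' hW' p hinj
  have hv' : p * v - 1 ∈ Van z W := hf _ hv
  have h1 : p ∣ p * v - 1 := Ideal.mem_span_singleton.mp (hle hv')
  have h2 : p ∣ 1 := by
    have h3 : p ∣ p * v := dvd_mul_right p v
    have h4 := dvd_sub h3 h1
    simpa using h4
  exact hp.not_isUnit (isUnit_of_dvd_one h2)

end Cfsg.Agent.QPP
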