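import Mathlib
import Cfsg.Agent.Helper25.QPDefs2
import Cfsg.Agent.Helper25.QPAct
import Cfsg.Agent.Helper18.SL2Ext5
import Cfsg.Agent.Helper7.QPS5060R
import Cfsg.Agent.Helper14.QPVANU
import Cfsg.Agent.Helper11.QPTHMB

set_option autoImplicit false
set_option linter.style.haveILetI false

/-! Board `qppieces`, second batch, piece SURJ. -/

noncomputable section

universe u v

namespace Cfsg.Agent.QPP

open Cfsg Cfsg.Agent.Helper25.QP Cfsg.Agent.Helper25.QuadPair Polynomial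

variable {k : Type u} [Field k] {M : Type v} [AddCommGroup M] [Module k M]

local notation "GLkM" => LinearMap.GeneralLinearGroup k M

/-- `aeval (mk X) f = mk f` in the quotient `k[X] ⧸ I` -/
theorem SURJ_aux_aeval (I : Ideal k[X]) (f : k[X]) :
    aeval (Ideal.Quotient.mk I X) f = Ideal.Quotient.mk I f := by
  have h := Polynomial.aeval_algHom_apply (Ideal.Quotient.mkₐ k I) (X : k[X]) f
  rw [aeval_X_left_apply] at h
  exact h

theorem SURJ [FiniteDimensional k M] (hk2 : ringChar k ≠ 2) (hk3 : Nat.card k ≠ 3)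
    {G : Subgroup GLkM} {d : ℕ} {a b : Module.End k M} (hp : QPair G d a b)
    (hnu : ¬ UnipPair a b) (g : Matrix.SpecialLinearGroup (Fin 2) (k[X] ⧸ Van1 a b)) :
    ∃ x ∈ Hpair a b hp.qa.1.1 hp.qb.1.1,
      Matrix.SpecialLinearGroup.map (Ideal.Quotient.mk (Van1 a b)) x.2 = g := by
  classical
  have hfield : IsField (k[X] ⧸ Van1 a b) := THMB hk2 hk3 hp hnu
  haveI hmax : (Van1 a b).IsMaximal := Ideal.Quotient.maximal_of_isField _ hfield
  letI : Field (k[X] ⧸ Van1 a b) := Ideal.Quotient.field (Van1 a b)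
  set lam : k[X] ⧸ Van1 a b := Ideal.Quotient.mk (Van1 a b) X with hlam
  -- `lam` is algebraic
  have halg : IsAlgebraic k lam := by
    obtain ⟨f, hf0, hf⟩ := VANU_aux_ne_bot (zz a b) (M1 a b)
    refine ⟨f, hf0, ?_⟩
    rw [hlam, SURJ_aux_aeval]
    exact Ideal.Quotient.eq_zero_iff_mem.mpr hf
  -- `lam ≠ 0`
  have h0 : lam ≠ 0 := by
    intro h
    have hX : (X : k[X]) ∈ Van1 a b := Ideal.Quotient.eq_zero_iff_mem.mp h
    obtain ⟨u, hu⟩ := FIT_invpoly (zz a b)
    have h1 : (1 : k[X]) ∈ Van1 a b := by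
      have h2 : X * u ∈ Van1 a b := (Van1 a b).mul_mem_right u hX
      have h3 : X * u - (X * u - 1) ∈ Van1 a b := (Van1 a b).sub_mem h2 hu
      simpa using h3
    exact hmax.ne_top ((Ideal.eq_top_iff_one _).mpr h1)
  -- `k(lam)` is everything
  have htop : IntermediateField.adjoin k ({lam} : Set (k[X] ⧸ Van1 a b)) = ⊤ := by
    rw [eq_top_iff]
    intro y _
    obtain ⟨f, rfl⟩ := Ideal.Quotient.mk_surjective y
    rw [← SURJ_aux_aeval, ← hlam]
    exact IntermediateField.algebra_adjoin_le_adjoin k _ (Polynomial.aeval_mem_adjoin_singleton k lam)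
  have hHtop : Hmat k lam = ⊤ := Hmat_top hk2 hk3 lam halg h0 htop
  have hmap := Hmat_map (k := k) (Ideal.Quotient.mkₐ k (Van1 a b)) (X : k[X])
  have hg : g ∈ (Hmat k (X : k[X])).map (Matrix.SpecialLinearGroup.map
      ((Ideal.Quotient.mkₐ k (Van1 a b) : k[X] →ₐ[k] k[X] ⧸ Van1 a b) : k[X] →+* k[X] ⧸ Van1 a b)) := by
    rw [hmap]
    have : (Ideal.Quotient.mkₐ k (Van1 a b)) X = lam := rfl
    rw [this, hHtop]
    exact Subgroup.mem_top g
  obtain ⟨h, hh, hhg⟩ := Subgroup.mem_map.mp hg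
  have hsnd := map_snd_Hpair a b hp.qa.1.1 hp.qb.1.1
  have hh' : h ∈ (Hpair a b hp.qa.1.1 hp.qb.1.1).map
      (MonoidHom.snd GLkM (Matrix.SpecialLinearGroup (Fin 2) k[X])) := by
    rw [hsnd]; exact hh
  obtain ⟨x, hx, hxh⟩ := Subgroup.mem_map.mp hh'
  refine ⟨x, hx, ?_⟩
  have hx2 : x.2 = h := hxh
  rw [hx2]
  exact hhg

end Cfsg.Agent.QPP
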