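import Mathlib
import Cfsg.Prelude.Def_KGroupFacts

/-!
# Bounding the automorphism group of a finite group generated by two elements

Abstract lemmas used for the outer automorphism group of the third Janko group.
-/

set_option autoImplicit false

namespace Cfsg.Agent.Helper14.J3Out

open scoped Pointwise commutatorElement

/-- conjugation by a power -/
theorem conj_pow_eq {J : Type*} [Group J] {n : J} {r : ℕ} (t : J)
    (ht : n * t * n⁻¹ = t ^ r) (j : ℕ) : n ^ j * t * (n ^ j)⁻¹ = t ^ (r ^ j) := by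
  induction j with
  | zero => simp
  | succ j ih =>
    have e : n ^ (j + 1) * t * (n ^ (j + 1))⁻¹ = n * (n ^ j * t * (n ^ j)⁻¹) * n⁻¹ := by
      rw [pow_succ']; group
    rw [e, ih]
    have e2 : n * t ^ r ^ j * n⁻¹ = (n * t * n⁻¹) ^ r ^ j := by
      rw [conj_pow]
    rw [e2, ht, ← pow_mul, pow_succ, mul_comm]

/-- the size of a conjugacy class of an element centralised by a subgroup of order `p` -/
theorem card_class_le {J : Type*} [Group J] [Finite J] (p m : ℕ) (hp : 0 < p)
    (hcard : Nat.card J = p * m) (t : J) (P : Subgroup J) (hP : Nat.card P = p)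
    (hPt : P ≤ Subgroup.centralizer ({t} : Set J)) :
    Nat.card (Set.range fun g : J => g * t * g⁻¹) ≤ m := by
  classical
  let C : Subgroup J := Subgroup.centralizer {t}
  let f : J ⧸ C → J := Quotient.lift (fun g : J => g * t * g⁻¹) (by
    intro a b hab
    have hab' : a⁻¹ * b ∈ C := QuotientGroup.leftRel_apply.1 hab
    have h2 := (Subgroup.mem_centralizer_iff.1 hab') t (Set.mem_singleton t)
    show a * t * a⁻¹ = b * t * b⁻¹
    have e : b = a * (a⁻¹ * b) := by group
    rw [e]
    calc a * t * a⁻¹ = a * (t * (a⁻¹ * b)) * (a⁻¹ * b)⁻¹ * a⁻¹ := by group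
      _ = a * ((a⁻¹ * b) * t) * (a⁻¹ * b)⁻¹ * a⁻¹ := by rw [h2]
      _ = a * (a⁻¹ * b) * t * (a * (a⁻¹ * b))⁻¹ := by group)
  have hsurj : Set.range (fun g : J => g * t * g⁻¹) ⊆ Set.range f := by
    rintro _ ⟨g, rfl⟩
    exact ⟨Quotient.mk _ g, rfl⟩
  have h1 : Nat.card (Set.range fun g : J => g * t * g⁻¹) ≤ Nat.card (J ⧸ C) := by
    calc Nat.card (Set.range fun g : J => g * t * g⁻¹)
        ≤ Nat.card (Set.range f) := Nat.card_mono (Set.toFinite _) hsurj
      _ ≤ Nat.card (J ⧸ C) := Finite.card_range_le f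
  have h2 := Subgroup.card_eq_card_quotient_mul_card_subgroup C
  have h3 : p ∣ Nat.card C := by
    rw [← hP]; exact Subgroup.card_dvd_of_le hPt
  obtain ⟨c, hc⟩ := h3
  rw [hcard, hc] at h2
  have hc0 : 0 < c := by
    rcases Nat.eq_zero_or_pos c with h | h
    · rw [h, mul_zero] at hc
      have := Nat.card_pos (α := C)
      omega
    · exact h
  have h4 : m = Nat.card (J ⧸ C) * c := by
    have : p * m = p * (Nat.card (J ⧸ C) * c) := by rw [h2]; ring
    exact Nat.eq_of_mul_eq_mul_left hp this
  calc Nat.card (Set.range fun g : J => g * t * g⁻¹) ≤ Nat.card (J ⧸ C) := h1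
    _ ≤ Nat.card (J ⧸ C) * c := Nat.le_mul_of_pos_right _ hc0
    _ = m := h4.symm

/-- in a group whose order is divisible by `p` only once, an element of order `p` is conjugate to
a power of any given element of order `p` -/
theorem exists_conj_pow {J : Type*} [Group J] [Finite J] (p m : ℕ) [hp : Fact p.Prime]
    (hcard : Nat.card J = p * m) (hpm : ¬ p ∣ m) (u v : J) (hu : orderOf u = p)
    (hv : orderOf v = p) : ∃ g : J, ∃ k : ℕ, 0 < k ∧ k < p ∧ v = g * u ^ k * g⁻¹ := by
  classical
  have hfac : (Nat.card J).factorization p = 1 := by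
    rw [hcard, Nat.factorization_mul hp.out.ne_zero (by rintro rfl; simp at hpm),
      Finsupp.add_apply, hp.out.factorization_self, Nat.factorization_eq_zero_of_not_dvd hpm]
  have hz : ∀ w : J, orderOf w = p → ∃ Q : Sylow p J, (Q : Subgroup J) = Subgroup.zpowers w := by
    intro w hw
    have hpg : IsPGroup p (Subgroup.zpowers w) := by
      apply IsPGroup.of_card (n := 1)
      rw [Nat.card_zpowers, hw, pow_one]
    obtain ⟨Q, hQ⟩ := hpg.exists_le_sylow
    refine ⟨Q, ?_⟩
    symm
    apply Subgroup.eq_of_le_of_card_ge hQ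
    rw [Q.card_eq_multiplicity, hfac, pow_one, Nat.card_zpowers, hw]
  obtain ⟨Q, hQ⟩ := hz u hu
  obtain ⟨Q', hQ'⟩ := hz v hv
  obtain ⟨g, hg⟩ := MulAction.exists_smul_eq J Q Q'
  have hvQ : v ∈ (Q' : Subgroup J) := by rw [hQ']; exact Subgroup.mem_zpowers v
  rw [← hg, Sylow.coe_subgroup_smul, Subgroup.mem_pointwise_smul_iff_inv_smul_mem, hQ] at hvQ
  have hfin : IsOfFinOrder u := isOfFinOrder_of_finite u
  rw [← mem_powers_iff_mem_zpowers, mem_powers_iff_mem_range_orderOf, Finset.mem_image] at hvQ
  obtain ⟨k, hk, hke⟩ := hvQ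
  rw [Finset.mem_range, hu] at hk
  have hconj : (MulAut.conj g)⁻¹ • v = g⁻¹ * v * g := by
    rw [MulAut.smul_def, ← map_inv, MulAut.conj_apply, inv_inv]
  rw [hconj] at hke
  have hv' : v = g * u ^ k * g⁻¹ := by rw [hke]; group
  refine ⟨g, k, ?_, hk, hv'⟩
  rcases Nat.eq_zero_or_pos k with h | h
  · exfalso
    rw [h, pow_zero, mul_one, mul_inv_cancel] at hv'
    rw [hv', orderOf_one] at hv
    exact hp.out.one_lt.ne hv
  · exact h

/-- the bound for the automorphism group of a group generated by an element `x` and an element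
`u` of prime order `p`, when `p` divides the order only once, the powers of `u` fall into at most
two classes, and at most `p` images of `x` are possible under automorphisms fixing `u` -/
theorem card_mulAut_le {J : Type*} [Group J] [Finite J] (p m : ℕ) [hp : Fact p.Prime]
    (hcard : Nat.card J = p * m) (hpm : ¬ p ∣ m)
    (x u n : J) (hgen : Subgroup.closure {x, u} = ⊤) (hu : orderOf u = p)
    (r : ℕ) (hn : n * u * n⁻¹ = u ^ r)
    (hr : ∀ k, 0 < k → k < p → ∃ j, k % p = r ^ j % p ∨ k % p = (2 * r ^ j) % p)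
    (S : Finset J) (hS : S.card ≤ p)
    (hstab : ∀ φ : MulAut J, φ u = u → φ x ∈ S) :
    Nat.card (MulAut J) ≤ 2 * Nat.card J := by
  classical
  have hn2 : n * u ^ 2 * n⁻¹ = (u ^ 2) ^ r := by
    rw [← conj_pow, hn, ← pow_mul, ← pow_mul, mul_comm]
  -- elements of order p
  have hO : ∀ v : J, orderOf v = p → v ∈ (Set.range fun g : J => g * u * g⁻¹) ∪
      (Set.range fun g : J => g * u ^ 2 * g⁻¹) := by
    intro v hv
    obtain ⟨g, k, hk0, hkp, rfl⟩ := exists_conj_pow p m hcard hpm u v hu hv
    obtain ⟨j, hj | hj⟩ := hr k hk0 hkp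
    · left
      refine ⟨g * n ^ j, ?_⟩
      have e : u ^ k = u ^ (r ^ j) := by
        calc u ^ k = u ^ (k % orderOf u) := (pow_mod_orderOf u k).symm
          _ = u ^ (r ^ j % orderOf u) := by rw [hu, hj]
          _ = u ^ (r ^ j) := pow_mod_orderOf u _
      show g * n ^ j * u * (g * n ^ j)⁻¹ = g * u ^ k * g⁻¹
      rw [e, ← conj_pow_eq u hn j]
      group
    · right
      refine ⟨g * n ^ j, ?_⟩
      have e : u ^ k = (u ^ 2) ^ (r ^ j) := by
        calc u ^ k = u ^ (k % orderOf u) := (pow_mod_orderOf u k).symm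
          _ = u ^ (2 * r ^ j % orderOf u) := by rw [hu, hj]
          _ = u ^ (2 * r ^ j) := pow_mod_orderOf u _
          _ = (u ^ 2) ^ (r ^ j) := pow_mul u 2 _
      show g * n ^ j * u ^ 2 * (g * n ^ j)⁻¹ = g * u ^ k * g⁻¹
      rw [e, ← conj_pow_eq (u ^ 2) hn2 j]
      group
  have hP : Nat.card (Subgroup.zpowers u) = p := by rw [Nat.card_zpowers, hu]
  have hc1 : Nat.card (Set.range fun g : J => g * u * g⁻¹) ≤ m := by
    apply card_class_le p m hp.out.pos hcard u (Subgroup.zpowers u) hP
    rw [Subgroup.zpowers_le, Subgroup.mem_centralizer_iff]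
    intro y hy
    rw [Set.mem_singleton_iff] at hy
    rw [hy]
  have hc2 : Nat.card (Set.range fun g : J => g * u ^ 2 * g⁻¹) ≤ m := by
    apply card_class_le p m hp.out.pos hcard (u ^ 2) (Subgroup.zpowers u) hP
    rw [Subgroup.zpowers_le, Subgroup.mem_centralizer_iff]
    intro y hy
    rw [Set.mem_singleton_iff] at hy
    rw [hy, ← pow_succ, ← pow_succ']
  have horb : Nat.card (MulAction.orbit (MulAut J) u) ≤ 2 * m := by
    have hsub : MulAction.orbit (MulAut J) u ⊆ (Set.range fun g : J => g * u * g⁻¹) ∪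
        (Set.range fun g : J => g * u ^ 2 * g⁻¹) := by
      rintro _ ⟨φ, rfl⟩
      apply hO
      show orderOf (φ u) = p
      rw [MulEquiv.orderOf_eq, hu]
    calc Nat.card (MulAction.orbit (MulAut J) u)
        ≤ Nat.card ((Set.range fun g : J => g * u * g⁻¹) ∪
            (Set.range fun g : J => g * u ^ 2 * g⁻¹) : Set J) :=
          Nat.card_mono (Set.toFinite _) hsub
      _ ≤ Nat.card (Set.range fun g : J => g * u * g⁻¹) +
            Nat.card (Set.range fun g : J => g * u ^ 2 * g⁻¹) := by
          rw [Nat.card_coe_set_eq, Nat.card_coe_set_eq, Nat.card_coe_set_eq]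
          exact Set.ncard_union_le _ _
      _ ≤ 2 * m := by omega
  have hst : Nat.card (MulAction.stabilizer (MulAut J) u) ≤ p := by
    let f : MulAction.stabilizer (MulAut J) u → S := fun φ =>
      ⟨φ.1 x, hstab φ.1 (MulAction.mem_stabilizer_iff.1 φ.2)⟩
    have hf : Function.Injective f := by
      intro φ ψ h
      have h1 : φ.1 x = ψ.1 x := congrArg Subtype.val h
      have h2 : φ.1 u = u := MulAction.mem_stabilizer_iff.1 φ.2
      have h3 : ψ.1 u = u := MulAction.mem_stabilizer_iff.1 ψ.2
      apply Subtype.ext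
      apply MulEquiv.toMonoidHom_injective
      apply MonoidHom.eq_of_eqOn_dense hgen
      intro y hy
      rcases hy with rfl | hy
      · exact h1
      · rw [Set.mem_singleton_iff] at hy
        subst hy
        show φ.1 y = ψ.1 y
        rw [h2, h3]
    calc Nat.card (MulAction.stabilizer (MulAut J) u) ≤ Nat.card S :=
          Nat.card_le_card_of_injective f hf
      _ = S.card := by rw [Nat.card_eq_fintype_card, Fintype.card_coe]
      _ ≤ p := hS
  have hprod : Nat.card (MulAut J) = Nat.card (MulAction.orbit (MulAut J) u) *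
      Nat.card (MulAction.stabilizer (MulAut J) u) := by
    rw [← Nat.card_prod]
    exact (Nat.card_congr (MulAction.orbitProdStabilizerEquivGroup (MulAut J) u)).symm
  rw [hprod, hcard]
  calc Nat.card (MulAction.orbit (MulAut J) u) * Nat.card (MulAction.stabilizer (MulAut J) u)
      ≤ (2 * m) * p := Nat.mul_le_mul horb hst
    _ = 2 * (p * m) := by ring

/-- the outer automorphism group has order two, given the bound and one outer automorphism -/
theorem card_out_eq_two {J : Type*} [Group J] [Finite J] (hZ : Subgroup.center J = ⊥)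
    (hle : Nat.card (MulAut J) ≤ 2 * Nat.card J) (τ : MulAut J) (hτ : τ ∉ Cfsg.Inn J) :
    Nat.card (Cfsg.Out J) = 2 := by
  have hinj : Function.Injective (MulAut.conj : J →* MulAut J) := by
    rw [injective_iff_map_eq_one]
    intro g hg
    have : g ∈ Subgroup.center J := by
      rw [Subgroup.mem_center_iff]
      intro k
      have h1 : (MulAut.conj g) k = k := by rw [hg]; rfl
      rw [MulAut.conj_apply] at h1
      calc k * g = (g * k * g⁻¹) * g := by rw [h1]
        _ = g * k := by group
    rw [hZ] at this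
    exact Subgroup.mem_bot.1 this
  have hInn : Nat.card (Cfsg.Inn J) = Nat.card J :=
    Nat.card_congr (MonoidHom.ofInjective hinj).symm.toEquiv
  have hidx : (Cfsg.Inn J).index * Nat.card (Cfsg.Inn J) = Nat.card (MulAut J) := by
    rw [mul_comm]; exact (Cfsg.Inn J).card_mul_index
  have hpos : 0 < Nat.card J := Nat.card_pos
  have h2 : (Cfsg.Inn J).index ≤ 2 := by
    rw [hInn] at hidx
    by_contra hcon
    rw [not_le] at hcon
    have : 3 * Nat.card J ≤ (Cfsg.Inn J).index * Nat.card J :=
      Nat.mul_le_mul_right _ hcon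
    omega
  have h1 : (Cfsg.Inn J).index ≠ 1 := by
    intro h
    rw [Subgroup.index_eq_one] at h
    apply hτ
    rw [h]
    exact Subgroup.mem_top _
  have h0 : (Cfsg.Inn J).index ≠ 0 := Subgroup.index_ne_zero_of_finite
  show Nat.card (MulAut J ⧸ Cfsg.Inn J) = 2
  have : Nat.card (MulAut J ⧸ Cfsg.Inn J) = (Cfsg.Inn J).index := rfl
  omega

/-- central factors do not change a commutator -/
theorem comm_central {T : Type*} [Group T] (a b za zb : T) (ha : ∀ y : T, y * za = za * y)
    (hb : ∀ y : T, y * zb = zb * y) : ⁅a * za, b * zb⁆ = ⁅a, b⁆ := by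
  have h1 : ∀ y : T, (a * za) * y * (a * za)⁻¹ = a * y * a⁻¹ := by
    intro y
    calc (a * za) * y * (a * za)⁻¹ = a * (za * y) * za⁻¹ * a⁻¹ := by group
      _ = a * (y * za) * za⁻¹ * a⁻¹ := by rw [ha y]
      _ = a * y * a⁻¹ := by group
  rw [commutatorElement_def, commutatorElement_def, h1]
  calc a * (b * zb) * a⁻¹ * (b * zb)⁻¹ = a * b * (zb * a⁻¹) * zb⁻¹ * b⁻¹ := by group
    _ = a * b * (a⁻¹ * zb) * zb⁻¹ * b⁻¹ := by rw [hb a⁻¹]
    _ = a * b * a⁻¹ * b⁻¹ := by group

/-- an automorphism of a perfect group that moves a central element induces a non-inner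
automorphism of the central quotient -/
theorem not_inner_of_center {T : Type*} [Group T] (hperf : commutator T = ⊤) (α : T ≃* T)
    (z : T) (hz : z ∈ Subgroup.center T) (hαz : α z ≠ z)
    (h : (Subgroup.center T).map (α : T →* T) = Subgroup.center T) :
    QuotientGroup.congr (Subgroup.center T) (Subgroup.center T) α h ∉
      Cfsg.Inn (T ⧸ Subgroup.center T) := by
  rintro ⟨gbar, hg⟩
  obtain ⟨g, rfl⟩ := QuotientGroup.mk_surjective gbar
  -- `β t = g⁻¹ (α t) g` induces the identity on the quotient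
  have key : ∀ t : T, t⁻¹ * (g⁻¹ * α t * g) ∈ Subgroup.center T := by
    intro t
    have h1 : (MulAut.conj (g : T ⧸ Subgroup.center T)) (t : T ⧸ Subgroup.center T) =
        QuotientGroup.congr (Subgroup.center T) (Subgroup.center T) α h t := by
      rw [hg]
    rw [MulAut.conj_apply, QuotientGroup.congr_mk] at h1
    have h2 : ((g * t * g⁻¹ : T) : T ⧸ Subgroup.center T) = ((α t : T) : T ⧸ Subgroup.center T) := by
      rw [← h1]; rfl
    rw [QuotientGroup.eq] at h2
    -- (g t g⁻¹)⁻¹ * α t ∈ center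
    have h3 : g⁻¹ * ((g * t * g⁻¹)⁻¹ * α t) * g ∈ Subgroup.center T := by
      have := (Subgroup.center T).normal_of_characteristic.conj_mem _ h2 g⁻¹
      simpa using this
    have e : t⁻¹ * (g⁻¹ * α t * g) = g⁻¹ * ((g * t * g⁻¹)⁻¹ * α t) * g := by group
    rw [e]; exact h3
  -- hence `β` fixes all commutators
  have hcomm : ∀ a b : T, g⁻¹ * α ⁅a, b⁆ * g = ⁅a, b⁆ := by
    intro a b
    have ha := key a
    have hb := key b
    have e1 : g⁻¹ * α ⁅a, b⁆ * g = ⁅g⁻¹ * α a * g, g⁻¹ * α b * g⁆ := by
      rw [commutatorElement_def, commutatorElement_def, map_mul, map_mul, map_mul, map_inv, map_inv]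
      group
    have ea : g⁻¹ * α a * g = a * (a⁻¹ * (g⁻¹ * α a * g)) := by group
    have eb : g⁻¹ * α b * g = b * (b⁻¹ * (g⁻¹ * α b * g)) := by group
    rw [e1, ea, eb]
    exact comm_central a b _ _ (Subgroup.mem_center_iff.1 ha) (Subgroup.mem_center_iff.1 hb)
  -- so `β` is the identity
  have hall : ∀ t : T, g⁻¹ * α t * g = t := by
    intro t
    have ht : t ∈ commutator T := by rw [hperf]; exact Subgroup.mem_top _
    rw [commutator_eq_closure] at ht
    induction ht using Subgroup.closure_induction with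
    | mem y hy =>
      obtain ⟨a, b, rfl⟩ := hy
      exact hcomm a b
    | one => simp
    | mul a b _ _ iha ihb =>
      calc g⁻¹ * α (a * b) * g = (g⁻¹ * α a * g) * (g⁻¹ * α b * g) := by rw [map_mul]; group
        _ = a * b := by rw [iha, ihb]
    | inv a _ iha =>
      calc g⁻¹ * α a⁻¹ * g = (g⁻¹ * α a * g)⁻¹ := by rw [map_inv]; group
        _ = a⁻¹ := by rw [iha]
  apply hαz
  have := hall z
  rw [Subgroup.mem_center_iff] at hz
  calc α z = g * (g⁻¹ * α z * g) * g⁻¹ := by group
    _ = g * z * g⁻¹ := by rw [this]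
    _ = z * g * g⁻¹ := by rw [hz g]
    _ = z := by group

end Cfsg.Agent.Helper14.J3Out
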