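import Mathlib
import Cfsg.Prelude.Def_Classical
import Cfsg.Agent.Helper13.S2496Defs
import Cfsg.Agent.Helper2.UnitaryCenter

/-! S2496 piece CENTER: the centre of `SU_n(q)` consists of its scalar matrices. -/

set_option autoImplicit false

namespace Cfsg.Agent.S2496P

section unitary

variable {F : Type*} [Field F] [Fintype F] {q : ℕ}

/-- CENTER: the centre of `SU_n(q)` is the set of its scalar matrices -/
theorem mem_center_SU_iff (hF : Fintype.card F = q ^ 2) {n : ℕ} (hn : 2 ≤ n) (z : Cfsg.SU n F q) :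
    z ∈ Subgroup.center (Cfsg.SU n F q) ↔
      ∃ c : F, ((z : Matrix.SpecialLinearGroup (Fin n) F) : Matrix (Fin n) (Fin n) F) = c • 1 := by
  constructor
  · intro hz
    rw [Subgroup.mem_center_iff] at hz
    have hg : ∀ h ∈ Cfsg.SU n F q, h * (z : Matrix.SpecialLinearGroup (Fin n) F) =
        (z : Matrix.SpecialLinearGroup (Fin n) F) * h := by
      intro h hh
      have := hz ⟨h, hh⟩
      exact congrArg Subtype.val this
    have hoff := Cfsg.Agent.Helper2.Herm.central_offdiag hF z.1 hg
    have hdiag := Cfsg.Agent.Helper2.Herm.central_diag hF z.1 hg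
    refine ⟨z.1.1 ⟨0, by omega⟩ ⟨0, by omega⟩, ?_⟩
    ext i j
    rw [Matrix.smul_apply, Matrix.one_apply, smul_eq_mul]
    by_cases hij : i = j
    · subst hij
      rw [if_pos rfl, mul_one]
      exact hdiag i _
    · rw [if_neg hij, mul_zero]
      exact hoff i j hij
  · rintro ⟨c, hc⟩
    rw [Subgroup.mem_center_iff]
    intro h
    apply Subtype.ext
    apply Subtype.ext
    show (h.1.1 * z.1.1 : Matrix (Fin n) (Fin n) F) = z.1.1 * h.1.1
    rw [hc, Matrix.mul_smul, Matrix.smul_mul, Matrix.mul_one, Matrix.one_mul]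

end unitary

end Cfsg.Agent.S2496P
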