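import Cfsg.Agent.Helper14.Amalgam2
import Cfsg.Agent.Helper14.SylowIn

set_option autoImplicit false

namespace Cfsg.Agent.Helper14

open Cfsg

variable {X : Type*} [Group X] {p : ℕ} [Fact p.Prime] (M₁ M₂ : Subgroup X)

theorem ozc_le_sylowCenterClosure' {U H : Subgroup X} (h : IsSylowIn p U H) :
    ozc p U ≤ sylowCenterClosure p H := by
  have := ozc_le_sylowCenterClosure p H h.toSylow
  rwa [h.toSylow_map] at this

theorem charP_exists_common_sylow (h : IsCharPAmalgamPair p M₁ M₂) :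
    ∃ U, IsSylowIn p U M₁ ∧ IsSylowIn p U M₂ := by
  obtain ⟨_, hf1, hf2, _, _, hsyl, _, _⟩ := h
  obtain ⟨P₁⟩ : Nonempty (Sylow p ↥M₁) := inferInstance
  obtain ⟨P₂⟩ : Nonempty (Sylow p ↥M₂) := inferInstance
  obtain ⟨U, hU⟩ := exists_isSylowIn (p := p) (M₁ ⊓ M₂)
  exact ⟨U, isSylowIn_of_card inf_le_left (fun S P => (hsyl S P P₂).1) hU,
    isSylowIn_of_card inf_le_right (fun S P => (hsyl S P₁ P).2) hU⟩

theorem finite_stab (h : IsCharPAmalgamPair p M₁ M₂) (δ : CosetVertex M₁ M₂) :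
    Finite ↥(MulAction.stabilizer X δ) := by
  obtain ⟨_, hf1, hf2, _⟩ := h
  rcases δ with a | a
  · obtain ⟨x, rfl⟩ := exists_rep_inl M₁ a
    rw [stab_inl]
    exact Finite.of_equiv _ (M₁.equivMapOfInjective _ (cj_injective x)).toEquiv
  · obtain ⟨x, rfl⟩ := exists_rep_inr M₂ a
    rw [stab_inr]
    exact Finite.of_equiv _ (M₂.equivMapOfInjective _ (cj_injective x)).toEquiv

theorem edge_exists_common_sylow (h : IsCharPAmalgamPair p M₁ M₂) (α β : CosetVertex M₁ M₂)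
    (hadj : (cosetGraph M₁ M₂).Adj α β) :
    ∃ U, IsSylowIn p U (MulAction.stabilizer X α) ∧ IsSylowIn p U (MulAction.stabilizer X β) := by
  obtain ⟨U, h1, h2⟩ := charP_exists_common_sylow M₁ M₂ h
  rw [adj_iff] at hadj
  rcases hadj with ⟨y, rfl, rfl⟩ | ⟨y, rfl, rfl⟩
  · refine ⟨U.map (cj y), ?_, ?_⟩
    · rw [stab_inl]; exact h1.map_cj y
    · rw [stab_inr]; exact h2.map_cj y
  · refine ⟨U.map (cj y), ?_, ?_⟩
    · rw [stab_inr]; exact h2.map_cj y
    · rw [stab_inl]; exact h1.map_cj y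

/-- if `Z_α = Ω₁Z(T)` for one Sylow `T` of `G_α`, then `Z_α ≤ Z_β` for every neighbour `β`. -/
theorem vertexZ_le_of_eq_ozc (h : IsCharPAmalgamPair p M₁ M₂) (α β : CosetVertex M₁ M₂)
    (hadj : (cosetGraph M₁ M₂).Adj α β) (T : Subgroup X)
    (hT : IsSylowIn p T (MulAction.stabilizer X α)) (hZ : vertexZ p α = ozc p T) :
    vertexZ p α ≤ vertexZ p β := by
  obtain ⟨U, hU1, hU2⟩ := edge_exists_common_sylow M₁ M₂ h α β hadj
  haveI := finite_stab M₁ M₂ h α
  obtain ⟨g, hg, rfl⟩ := hT.exists_conj hU1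
  have hn : g ∈ Subgroup.normalizer (vertexZ p α : Set X) :=
    le_normalizer_sylowCenterClosure p _ hg
  rw [mem_normalizer_iff_map_cj] at hn
  have : ozc p (T.map (cj g)) = vertexZ p α := by
    rw [← map_cj_ozc, ← hZ, hn]
  rw [← this]
  exact ozc_le_sylowCenterClosure' hU2

theorem critical_pair_Z_ne (h : IsCharPAmalgamPair p M₁ M₂) (α α' : CosetVertex M₁ M₂)
    (hc : IsCriticalPair p α α') (T : Subgroup X)
    (hT : IsSylowIn p T (MulAction.stabilizer X α)) : vertexZ p α ≠ ozc p T := by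
  intro hZ
  have hgen := h.1.1
  have hconn := cosetGraph_connected M₁ M₂ hgen
  have key := fun β hadj => vertexZ_le_of_eq_ozc M₁ M₂ h α β hadj T hT hZ
  apply hc.1
  by_cases hne : α = α'
  · subst hne
    unfold neighbourKernel
    refine le_inf (sylowCenterClosure_le p _) (le_iInf₂ fun μ hμ => ?_)
    exact (key μ hμ).trans (sylowCenterClosure_le p _)
  · obtain ⟨β, hadj, hlt⟩ := exists_adj_dist_lt _ hconn hne
    rw [hc.2] at hlt
    exact (key β hadj).trans (vertexZ_le_of_dist_lt M₁ M₂ β α' hlt)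

end Cfsg.Agent.Helper14
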