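import Cfsg.Prelude.Def_Amalgam

set_option autoImplicit false

namespace Cfsg.Agent.Helper14

open Cfsg

variable {X : Type*} [Group X] (M₁ M₂ : Subgroup X)

theorem mem_stab_mk {H : Subgroup X} (x g : X) :
    g ∈ MulAction.stabilizer X ((x : X ⧸ H)) ↔ x⁻¹ * g * x ∈ H := by
  rw [MulAction.mem_stabilizer_iff]
  change ((g * x : X) : X ⧸ H) = (x : X ⧸ H) ↔ _
  rw [QuotientGroup.eq]
  constructor
  · intro h
    have := H.inv_mem h
    simpa [mul_assoc] using this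
  · intro h
    have := H.inv_mem h
    simpa [mul_assoc] using this

theorem mem_map_conj {H : Subgroup X} (x g : X) :
    g ∈ H.map (MulAut.conj x).toMonoidHom ↔ x⁻¹ * g * x ∈ H := by
  constructor
  · rintro ⟨h, hh, rfl⟩
    simpa [mul_assoc] using hh
  · intro h
    refine ⟨x⁻¹ * g * x, h, ?_⟩
    simp [mul_assoc]

theorem stab_inl (x : X) :
    MulAction.stabilizer X (Sum.inl (x : X ⧸ M₁) : CosetVertex M₁ M₂) =
      M₁.map (MulAut.conj x).toMonoidHom := by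
  ext g
  rw [mem_map_conj, ← mem_stab_mk, MulAction.mem_stabilizer_iff, MulAction.mem_stabilizer_iff]
  change Sum.inl (g • (x : X ⧸ M₁)) = Sum.inl _ ↔ _
  exact Sum.inl_injective.eq_iff

theorem stab_inr (x : X) :
    MulAction.stabilizer X (Sum.inr (x : X ⧸ M₂) : CosetVertex M₁ M₂) =
      M₂.map (MulAut.conj x).toMonoidHom := by
  ext g
  rw [mem_map_conj, ← mem_stab_mk, MulAction.mem_stabilizer_iff, MulAction.mem_stabilizer_iff]
  change Sum.inr (g • (x : X ⧸ M₂)) = Sum.inr _ ↔ _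
  exact Sum.inr_injective.eq_iff

theorem edgeStab_eq (x : X) :
    edgeStabilizer (Sum.inl (x : X ⧸ M₁) : CosetVertex M₁ M₂) (Sum.inr (x : X ⧸ M₂)) =
      (M₁ ⊓ M₂).map (MulAut.conj x).toMonoidHom := by
  ext g
  rw [edgeStabilizer, Subgroup.mem_inf, stab_inl, stab_inr, mem_map_conj, mem_map_conj,
    mem_map_conj, Subgroup.mem_inf]


theorem smul_inl (g x : X) :
    g • (Sum.inl (x : X ⧸ M₁) : CosetVertex M₁ M₂) = Sum.inl ((g * x : X) : X ⧸ M₁) := rfl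

theorem smul_inr (g x : X) :
    g • (Sum.inr (x : X ⧸ M₂) : CosetVertex M₁ M₂) = Sum.inr ((g * x : X) : X ⧸ M₂) := rfl

theorem adj_iff (a b : CosetVertex M₁ M₂) :
    (cosetGraph M₁ M₂).Adj a b ↔
      (∃ x : X, a = Sum.inl (x : X ⧸ M₁) ∧ b = Sum.inr (x : X ⧸ M₂)) ∨
      (∃ x : X, b = Sum.inl (x : X ⧸ M₁) ∧ a = Sum.inr (x : X ⧸ M₂)) := by
  unfold cosetGraph
  rw [SimpleGraph.fromRel_adj]
  constructor
  · rintro ⟨_, h⟩
    exact h
  · intro h
    refine ⟨?_, h⟩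
    rcases h with ⟨x, rfl, rfl⟩ | ⟨x, rfl, rfl⟩
    · exact Sum.inl_ne_inr
    · exact Sum.inr_ne_inl

theorem adj_inl_inr (x : X) :
    (cosetGraph M₁ M₂).Adj (Sum.inl (x : X ⧸ M₁)) (Sum.inr (x : X ⧸ M₂)) :=
  (adj_iff M₁ M₂ _ _).2 (Or.inl ⟨x, rfl, rfl⟩)

theorem adj_smul {a b : CosetVertex M₁ M₂} (g : X) (h : (cosetGraph M₁ M₂).Adj a b) :
    (cosetGraph M₁ M₂).Adj (g • a) (g • b) := by
  rw [adj_iff] at h ⊢
  rcases h with ⟨x, rfl, rfl⟩ | ⟨x, rfl, rfl⟩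
  · exact Or.inl ⟨g * x, rfl, rfl⟩
  · exact Or.inr ⟨g * x, rfl, rfl⟩

theorem adj_smul_iff {a b : CosetVertex M₁ M₂} (g : X) :
    (cosetGraph M₁ M₂).Adj (g • a) (g • b) ↔ (cosetGraph M₁ M₂).Adj a b := by
  constructor
  · intro h
    have := adj_smul M₁ M₂ g⁻¹ h
    simpa using this
  · exact adj_smul M₁ M₂ g

theorem reachable_smul {a b : CosetVertex M₁ M₂} (g : X)
    (h : (cosetGraph M₁ M₂).Reachable a b) : (cosetGraph M₁ M₂).Reachable (g • a) (g • b) := by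
  obtain ⟨w⟩ := h
  induction w with
  | nil => exact SimpleGraph.Reachable.refl _
  | cons hadj _ ih => exact (adj_smul M₁ M₂ g hadj).reachable.trans ih

/-- neighbours of an `inl` vertex -/
theorem adj_inl_iff (x : X) (b : CosetVertex M₁ M₂) :
    (cosetGraph M₁ M₂).Adj (Sum.inl (x : X ⧸ M₁)) b ↔
      ∃ m ∈ M₁, b = Sum.inr ((x * m : X) : X ⧸ M₂) := by
  rw [adj_iff]
  constructor
  · rintro (⟨y, h1, rfl⟩ | ⟨y, _, h2⟩)
    · have h1' : (x : X ⧸ M₁) = (y : X ⧸ M₁) := Sum.inl_injective h1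
      rw [QuotientGroup.eq] at h1'
      exact ⟨x⁻¹ * y, h1', by simp⟩
    · exact absurd h2 Sum.inl_ne_inr
  · rintro ⟨m, hm, rfl⟩
    refine Or.inl ⟨x * m, ?_, rfl⟩
    congr 1
    rw [QuotientGroup.eq]
    simpa using hm

theorem adj_inr_iff (x : X) (b : CosetVertex M₁ M₂) :
    (cosetGraph M₁ M₂).Adj (Sum.inr (x : X ⧸ M₂)) b ↔
      ∃ m ∈ M₂, b = Sum.inl ((x * m : X) : X ⧸ M₁) := by
  rw [adj_iff]
  constructor
  · rintro (⟨y, h1, _⟩ | ⟨y, rfl, h2⟩)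
    · exact absurd h1 Sum.inr_ne_inl
    · have h1' : (x : X ⧸ M₂) = (y : X ⧸ M₂) := Sum.inr_injective h2
      rw [QuotientGroup.eq] at h1'
      exact ⟨x⁻¹ * y, h1', by simp⟩
  · rintro ⟨m, hm, rfl⟩
    refine Or.inr ⟨x * m, rfl, ?_⟩
    congr 1
    rw [QuotientGroup.eq]
    simpa using hm

theorem exists_rep_inl (a : X ⧸ M₁) : ∃ x : X, a = (x : X ⧸ M₁) := by
  obtain ⟨x, rfl⟩ := QuotientGroup.mk_surjective a
  exact ⟨x, rfl⟩

theorem exists_rep_inr (a : X ⧸ M₂) : ∃ x : X, a = (x : X ⧸ M₂) := by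
  obtain ⟨x, rfl⟩ := QuotientGroup.mk_surjective a
  exact ⟨x, rfl⟩

/-- the vertex stabilizer acts transitively on neighbours -/
theorem neighbours_transitive (δ μ μ' : CosetVertex M₁ M₂)
    (hμ : (cosetGraph M₁ M₂).Adj δ μ) (hμ' : (cosetGraph M₁ M₂).Adj δ μ') :
    ∃ g ∈ MulAction.stabilizer X δ, g • μ = μ' := by
  rcases δ with a | a
  · obtain ⟨x, rfl⟩ := exists_rep_inl M₁ a
    obtain ⟨m, hm, rfl⟩ := (adj_inl_iff M₁ M₂ x μ).1 hμ
    obtain ⟨m', hm', rfl⟩ := (adj_inl_iff M₁ M₂ x μ').1 hμ'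
    refine ⟨x * (m' * m⁻¹) * x⁻¹, ?_, ?_⟩
    · rw [stab_inl, mem_map_conj]
      have : x⁻¹ * (x * (m' * m⁻¹) * x⁻¹) * x = m' * m⁻¹ := by group
      rw [this]
      exact M₁.mul_mem hm' (M₁.inv_mem hm)
    · rw [smul_inr]
      congr 2
      group
  · obtain ⟨x, rfl⟩ := exists_rep_inr M₂ a
    obtain ⟨m, hm, rfl⟩ := (adj_inr_iff M₁ M₂ x μ).1 hμ
    obtain ⟨m', hm', rfl⟩ := (adj_inr_iff M₁ M₂ x μ').1 hμ'
    refine ⟨x * (m' * m⁻¹) * x⁻¹, ?_, ?_⟩
    · rw [stab_inr, mem_map_conj]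
      have : x⁻¹ * (x * (m' * m⁻¹) * x⁻¹) * x = m' * m⁻¹ := by group
      rw [this]
      exact M₂.mul_mem hm' (M₂.inv_mem hm)
    · rw [smul_inl]
      congr 2
      group

/-- the subgroup of elements moving the base vertex within its connected component -/
def reachSubgroup : Subgroup X where
  carrier := {g | (cosetGraph M₁ M₂).Reachable (Sum.inl ((1 : X) : X ⧸ M₁))
    (g • (Sum.inl ((1 : X) : X ⧸ M₁) : CosetVertex M₁ M₂))}
  one_mem' := by
    show (cosetGraph M₁ M₂).Reachable _ _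
    rw [one_smul]
  mul_mem' := by
    intro a b ha hb
    show (cosetGraph M₁ M₂).Reachable _ _
    have h1 := reachable_smul M₁ M₂ a hb
    rw [← mul_smul] at h1
    exact ha.trans h1
  inv_mem' := by
    intro a ha
    show (cosetGraph M₁ M₂).Reachable _ _
    have h1 := reachable_smul M₁ M₂ a⁻¹ ha
    rw [← mul_smul, inv_mul_cancel, one_smul] at h1
    exact h1.symm

theorem reachSubgroup_eq_top (hgen : M₁ ⊔ M₂ = ⊤) : reachSubgroup M₁ M₂ = ⊤ := by
  rw [eq_top_iff, ← hgen, sup_le_iff]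
  constructor
  · intro m hm
    show (cosetGraph M₁ M₂).Reachable _ _
    rw [smul_inl]
    have : ((m * 1 : X) : X ⧸ M₁) = ((1 : X) : X ⧸ M₁) := by
      rw [QuotientGroup.eq]; simpa using hm
    rw [this]
  · intro m hm
    show (cosetGraph M₁ M₂).Reachable _ _
    have h0 := adj_inl_inr M₁ M₂ (1 : X)
    have h1 := adj_smul M₁ M₂ m h0
    rw [smul_inr] at h1
    have : ((m * 1 : X) : X ⧸ M₂) = ((1 : X) : X ⧸ M₂) := by
      rw [QuotientGroup.eq]; simpa using hm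
    rw [this] at h1
    exact h0.reachable.trans h1.reachable.symm

theorem cosetGraph_connected (hgen : M₁ ⊔ M₂ = ⊤) : (cosetGraph M₁ M₂).Connected := by
  have key : ∀ v : CosetVertex M₁ M₂,
      (cosetGraph M₁ M₂).Reachable (Sum.inl ((1 : X) : X ⧸ M₁)) v := by
    have hl : ∀ x : X, (cosetGraph M₁ M₂).Reachable (Sum.inl ((1 : X) : X ⧸ M₁))
        (Sum.inl ((x : X) : X ⧸ M₁)) := by
      intro x
      have hx : x ∈ reachSubgroup M₁ M₂ := by rw [reachSubgroup_eq_top M₁ M₂ hgen]; trivial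
      have hx' : (cosetGraph M₁ M₂).Reachable (Sum.inl ((1 : X) : X ⧸ M₁))
        (x • (Sum.inl ((1 : X) : X ⧸ M₁) : CosetVertex M₁ M₂)) := hx
      rw [smul_inl, mul_one] at hx'
      exact hx'
    intro v
    rcases v with a | a
    · obtain ⟨x, rfl⟩ := exists_rep_inl M₁ a
      exact hl x
    · obtain ⟨x, rfl⟩ := exists_rep_inr M₂ a
      exact (hl x).trans (adj_inl_inr M₁ M₂ x).reachable
  refine ⟨fun u v => (key u).symm.trans (key v)⟩

theorem toPermHom_injective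
    (h : ∀ N : Subgroup X, N ≤ M₁ ⊓ M₂ → N.Normal → N = ⊥) :
    Function.Injective (MulAction.toPermHom X (CosetVertex M₁ M₂)) := by
  rw [← MonoidHom.ker_eq_bot_iff]
  apply h
  · intro g hg
    rw [MonoidHom.mem_ker] at hg
    have h1 : g • (Sum.inl ((1 : X) : X ⧸ M₁) : CosetVertex M₁ M₂) = Sum.inl ((1 : X) : X ⧸ M₁) := by
      have := congrArg (fun f : Equiv.Perm (CosetVertex M₁ M₂) => f (Sum.inl ((1 : X) : X ⧸ M₁))) hg
      simpa using this
    have h2 : g • (Sum.inr ((1 : X) : X ⧸ M₂) : CosetVertex M₁ M₂) = Sum.inr ((1 : X) : X ⧸ M₂) := by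
      have := congrArg (fun f : Equiv.Perm (CosetVertex M₁ M₂) => f (Sum.inr ((1 : X) : X ⧸ M₂))) hg
      simpa using this
    have h1' : g ∈ MulAction.stabilizer X (Sum.inl ((1 : X) : X ⧸ M₁) : CosetVertex M₁ M₂) := h1
    have h2' : g ∈ MulAction.stabilizer X (Sum.inr ((1 : X) : X ⧸ M₂) : CosetVertex M₁ M₂) := h2
    rw [stab_inl, mem_map_conj] at h1'
    rw [stab_inr, mem_map_conj] at h2'
    exact ⟨by simpa using h1', by simpa using h2'⟩
  · exact MonoidHom.normal_ker _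

end Cfsg.Agent.Helper14
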