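import Cfsg.Agent.Helper14.Amalgam3

set_option autoImplicit false
set_option linter.unusedSectionVars false

namespace Cfsg.Agent.Helper14

open Cfsg

section PElem

variable {X : Type*} [Group X] (p : ℕ)

theorem pElementClosure_le (H : Subgroup X) : pElementClosure p H ≤ H := by
  unfold pElementClosure
  rw [Subgroup.closure_le]
  intro x hx
  exact hx.1

theorem le_pElementClosure_of_isPGroup [Fact p.Prime] {Q H : Subgroup X} (hQH : Q ≤ H)
    (hQ : IsPGroup p ↥Q) : Q ≤ pElementClosure p H := by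
  intro x hx
  apply Subgroup.subset_closure
  refine ⟨hQH hx, ?_⟩
  obtain ⟨k, hk⟩ := (IsPGroup.iff_orderOf.1 hQ) ⟨x, hx⟩
  refine ⟨k, ?_⟩
  rw [← hk]
  exact (Subgroup.orderOf_coe (⟨x, hx⟩ : ↥Q)).symm ▸ rfl

theorem map_cj_pElementClosure (H : Subgroup X) (g : X) :
    (pElementClosure p H).map (cj g) = pElementClosure p (H.map (cj g)) := by
  unfold pElementClosure
  rw [MonoidHom.map_closure]
  congr 1
  ext x
  constructor
  · rintro ⟨y, ⟨hyH, k, hk⟩, rfl⟩
    refine ⟨⟨y, hyH, rfl⟩, k, ?_⟩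
    rw [← hk]
    exact orderOf_injective (cj g) (cj_injective g) y
  · rintro ⟨hx, k, hk⟩
    have hx' : x ∈ H.map (cj g) := hx
    rw [mem_map_cj] at hx'
    refine ⟨g⁻¹ * x * g, ⟨hx', k, ?_⟩, by simp [mul_assoc]⟩
    rw [← hk]
    have : g⁻¹ * x * g = cj g⁻¹ x := by simp
    rw [this]
    exact orderOf_injective (cj g⁻¹) (cj_injective g⁻¹) x

theorem le_normalizer_pElementClosure (H : Subgroup X) :
    H ≤ Subgroup.normalizer (pElementClosure p H : Set X) := by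
  apply le_normalizer_of_map_cj_le
  intro g hg
  rw [map_cj_pElementClosure, map_cj_eq_self_of_mem hg]

end PElem

section CharP

variable {X : Type*} [Group X] (p : ℕ)

/-- ambient form of `C_H(O_p(H)) ≤ O_p(H)` -/
theorem charP_ambient {H : Subgroup X}
    (h : Subgroup.centralizer (pCore p ↥H : Set ↥H) ≤ pCore p ↥H) :
    H ⊓ Subgroup.centralizer (pCoreOf p H : Set X) ≤ pCoreOf p H := by
  rintro x ⟨hxH, hxc⟩
  refine ⟨⟨x, hxH⟩, h ?_, rfl⟩
  rw [Subgroup.mem_centralizer_iff]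
  intro y hy
  apply Subtype.ext
  have := (Subgroup.mem_centralizer_iff.1 hxc) (y : X) ⟨y, hy, rfl⟩
  simpa using this

theorem charP_ambient_map_cj {H : Subgroup X} (y : X)
    (h : H ⊓ Subgroup.centralizer (pCoreOf p H : Set X) ≤ pCoreOf p H) :
    H.map (cj y) ⊓ Subgroup.centralizer (pCoreOf p (H.map (cj y)) : Set X) ≤
      pCoreOf p (H.map (cj y)) := by
  have e : pCoreOf p (H.map (cj y)) = (pCoreOf p H).map (cj y) := pCoreOf_map_conj p H y
  rw [e, ← map_cj_centralizer, ← map_cj_inf]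
  exact Subgroup.map_mono h

end CharP

section Edge

variable {X : Type*} [Group X] {p : ℕ} [Fact p.Prime] (M₁ M₂ : Subgroup X)

theorem stab_sup_stab_eq_top (hgen : M₁ ⊔ M₂ = ⊤) (δ μ : CosetVertex M₁ M₂)
    (hadj : (cosetGraph M₁ M₂).Adj δ μ) :
    MulAction.stabilizer X δ ⊔ MulAction.stabilizer X μ = ⊤ := by
  have key : ∀ y : X, M₁.map (cj y) ⊔ M₂.map (cj y) = ⊤ := by
    intro y
    rw [← Subgroup.map_sup, hgen]
    rw [eq_top_iff]
    intro x _
    rw [mem_map_cj]; trivial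
  rw [adj_iff] at hadj
  rcases hadj with ⟨y, rfl, rfl⟩ | ⟨y, rfl, rfl⟩
  · rw [stab_inl, stab_inr]; exact key y
  · rw [stab_inl, stab_inr, sup_comm]; exact key y

theorem edgeStab_conj (δ μ : CosetVertex M₁ M₂) (hadj : (cosetGraph M₁ M₂).Adj δ μ) :
    ∃ y : X, edgeStabilizer δ μ = (M₁ ⊓ M₂).map (cj y) ∧
      ((MulAction.stabilizer X δ = M₁.map (cj y) ∧ MulAction.stabilizer X μ = M₂.map (cj y)) ∨
       (MulAction.stabilizer X δ = M₂.map (cj y) ∧ MulAction.stabilizer X μ = M₁.map (cj y))) := by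
  rw [adj_iff] at hadj
  rcases hadj with ⟨y, rfl, rfl⟩ | ⟨y, rfl, rfl⟩
  · exact ⟨y, edgeStab_eq M₁ M₂ y, Or.inl ⟨stab_inl M₁ M₂ y, stab_inr M₁ M₂ y⟩⟩
  · refine ⟨y, ?_, Or.inr ⟨stab_inr M₁ M₂ y, stab_inl M₁ M₂ y⟩⟩
    unfold edgeStabilizer
    rw [inf_comm]
    exact edgeStab_eq M₁ M₂ y

theorem edge_normal_trivial (h : IsAmalgamPair M₁ M₂) (δ μ : CosetVertex M₁ M₂)
    (hadj : (cosetGraph M₁ M₂).Adj δ μ) (V : Subgroup X) (hV : V ≤ edgeStabilizer δ μ)
    (h1 : MulAction.stabilizer X δ ≤ Subgroup.normalizer (V : Set X))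
    (h2 : MulAction.stabilizer X μ ≤ Subgroup.normalizer (V : Set X)) : V = ⊥ := by
  obtain ⟨hgen, _, _, hcore⟩ := h
  have htop : Subgroup.normalizer (V : Set X) = ⊤ := by
    rw [eq_top_iff, ← stab_sup_stab_eq_top M₁ M₂ hgen δ μ hadj]
    exact sup_le h1 h2
  have hVn : V.Normal := Subgroup.normalizer_eq_top_iff.1 htop
  obtain ⟨y, hy, _⟩ := edgeStab_conj M₁ M₂ δ μ hadj
  apply hcore V _ hVn
  have hyn : y⁻¹ ∈ Subgroup.normalizer (V : Set X) := by rw [htop]; trivial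
  rw [mem_normalizer_iff_map_cj] at hyn
  rw [← hyn, map_cj_le_iff, inv_inv, ← hy]
  exact hV

theorem charP_stab (h : IsCharPAmalgamPair p M₁ M₂) (δ : CosetVertex M₁ M₂) :
    MulAction.stabilizer X δ ⊓ Subgroup.centralizer (pCoreOf p (MulAction.stabilizer X δ) : Set X) ≤
      pCoreOf p (MulAction.stabilizer X δ) := by
  obtain ⟨_, _, _, _, _, _, hc1, hc2⟩ := h
  rcases δ with a | a
  · obtain ⟨x, rfl⟩ := exists_rep_inl M₁ a
    rw [stab_inl]
    exact charP_ambient_map_cj p x (charP_ambient p hc1)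
  · obtain ⟨x, rfl⟩ := exists_rep_inr M₂ a
    rw [stab_inr]
    exact charP_ambient_map_cj p x (charP_ambient p hc2)

/-- a subgroup of `G_β` transitive on the neighbours of `β`, together with `G_α`, generates `X` -/
theorem stab_sup_transitive_eq_top (hgen : M₁ ⊔ M₂ = ⊤) (α β : CosetVertex M₁ M₂)
    (hadj : (cosetGraph M₁ M₂).Adj α β) (L : Subgroup X)
    (hL : L ≤ MulAction.stabilizer X β)
    (hLt : ∀ ν ν' : CosetVertex M₁ M₂, (cosetGraph M₁ M₂).Adj β ν → (cosetGraph M₁ M₂).Adj β ν' →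
      ∃ g ∈ L, g • ν = ν') :
    MulAction.stabilizer X α ⊔ L = ⊤ := by
  rw [eq_top_iff, ← stab_sup_stab_eq_top M₁ M₂ hgen α β hadj]
  refine sup_le le_sup_left ?_
  intro g hg
  rw [MulAction.mem_stabilizer_iff] at hg
  have hadj' : (cosetGraph M₁ M₂).Adj β (g • α) := by
    have := adj_smul M₁ M₂ g hadj.symm
    rwa [hg] at this
  obtain ⟨l, hl, hlα⟩ := hLt _ _ hadj' hadj.symm
  -- l * g fixes α
  have h1 : l * g ∈ MulAction.stabilizer X α := by
    rw [MulAction.mem_stabilizer_iff, mul_smul, hlα]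
  have : g = l⁻¹ * (l * g) := by group
  rw [this]
  exact Subgroup.mul_mem _ (Subgroup.mem_sup_right (L.inv_mem hl)) (Subgroup.mem_sup_left h1)

end Edge

end Cfsg.Agent.Helper14
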