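import Mathlib
import Cfsg.Agent.Helper12.S2999Basic
import Cfsg.Agent.Helper20.S2999OPP
import Cfsg.Agent.Helper6.S2999QUAD
import Cfsg.Agent.Helper26.Replacement

/-! Board `s2999pieces`, piece SPLIT (blueprint section 4, SPLIT): core lemma, with the piece STRONG taken as an explicit
hypothesis (OPP, MOVE, QUAD are the real modules). `|Y|·|V₀| = |Y ∩ U(A)|²` for a `P`-invariant `V₀ ≤ Y ≤ V₁`. -/

set_option autoImplicit false

namespace Cfsg.Agent.S2999P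

open Cfsg.Agent.S2789P
open scoped commutatorElement

variable {G : Type*} [Group G] [Finite G] {p : ℕ} [Fact p.Prime] {V P Mg Tg R A : Subgroup G}

theorem SPLIT_aux_core (S : Setup p V P Mg Tg R A)
    (hSTRONG : ∀ {g h c v : G}, g ∈ P → h ∈ P → g⁻¹ * h ∉ Mg → c ∈ cjs g A → c ∉ cjs h Mg →
      v ∈ V1 V P A → ⁅c, v⁆ ∈ fixV V P → v ∈ fixV V (cjs g A))
    (Y : Subgroup G) (hYP : P ≤ Subgroup.normalizer (Y : Set G))
    (hY0 : fixV V P ≤ Y) (hY1 : Y ≤ V1 V P A) :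
    Nat.card ↥Y * Nat.card ↥(fixV V P) = Nat.card ↥(Y ⊓ fixV V A : Subgroup G) ^ 2 := by
  obtain ⟨x, hxP, hxM⟩ := S.hMne
  have h1x : (1 : G)⁻¹ * x ∉ Mg := by simpa using hxM
  obtain ⟨a, haA', ham⟩ := MOVE S P.one_mem hxP h1x
  have haA : a ∈ A := by rwa [cj_one] at haA'
  have haP : a ∈ P := S.hAP haA
  have hQ := QUAD S
  have hYV : Y ≤ V := hY1.trans (V1_le V P A)
  -- upper bound: one injection
  have hle : Nat.card ↥Y * Nat.card ↥(fixV V P) ≤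
      Nat.card ↥(Y ⊓ fixV V A : Subgroup G) * Nat.card ↥(Y ⊓ fixV V A : Subgroup G) := by
    apply Cfsg.Agent.Helper26.card_mul_card_le_of_fiber' (inf_le_left : Y ⊓ fixV V A ≤ Y)
      (le_inf hY0 (S.V0_le_fix S.hAP)) (fun y => ⁅a, y⁆)
    · intro y hy
      refine Subgroup.mem_inf.mpr ⟨?_, ?_⟩
      · have h1 : a * y * a⁻¹ ∈ Y := (Subgroup.mem_normalizer_iff.mp (hYP haP) y).mp hy
        rw [commutatorElement_def]
        exact Y.mul_mem h1 (Y.inv_mem hy)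
      · apply hQ
        rw [Subgroup.commutator_comm]
        exact Subgroup.commutator_mem_commutator haA (hYV hy)
    · intro y hy y' hy' hk
      have hv : y⁻¹ * y' ∈ Y := Y.mul_mem (Y.inv_mem hy) hy'
      have hyV : y ∈ V := hYV hy
      have hy'V : y' ∈ V := hYV hy'
      have huV : a * y⁻¹ * a⁻¹ ∈ V := S.conj_mem_V (V.inv_mem hyV) haP
      have hwV : a * y' * a⁻¹ ∈ V := S.conj_mem_V hy'V haP
      have hzV : (a * y⁻¹ * a⁻¹) * (a * y' * a⁻¹) * y'⁻¹ ∈ V :=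
        V.mul_mem (V.mul_mem huV hwV) (V.inv_mem hy'V)
      have e : ⁅a, y⁻¹ * y'⁆ = ⁅a, y⁆⁻¹ * ⁅a, y'⁆ := by
        have e1 : ⁅a, y⁻¹ * y'⁆ = ((a * y⁻¹ * a⁻¹) * (a * y' * a⁻¹) * y'⁻¹) * y := by
          rw [commutatorElement_def]; group
        have e2 : ⁅a, y⁆⁻¹ * ⁅a, y'⁆ = y * ((a * y⁻¹ * a⁻¹) * (a * y' * a⁻¹) * y'⁻¹) := by
          rw [commutatorElement_def, commutatorElement_def]; group
        rw [e1, e2]
        exact S.V_comm hzV hyV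
      have hk' : ⁅a, y⁻¹ * y'⁆ ∈ fixV V P := by rw [e]; exact hk
      have h3 := hSTRONG (g := 1) (h := x) P.one_mem hxP h1x haA' ham (hY1 hv) hk'
      rw [cj_one] at h3
      exact Subgroup.mem_inf.mpr ⟨hv, h3⟩
  -- lower bound: the two opposite pieces
  have hcjY : cjs x Y = Y := cj_norm (hYP hxP)
  have hYx : cjs x (Y ⊓ fixV V A) = Y ⊓ fixV V (cjs x A) := by
    rw [cj_inf, hcjY, S.cjfix A hxP]
  have hcardx : Nat.card ↥(Y ⊓ fixV V (cjs x A) : Subgroup G) = Nat.card ↥(Y ⊓ fixV V A : Subgroup G) := by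
    rw [← hYx, cj_card]
  have hopp := (OPP S P.one_mem hxP h1x).2
  rw [cj_one] at hopp
  have hinf : (Y ⊓ fixV V A) ⊓ (Y ⊓ fixV V (cjs x A)) = fixV V P := by
    have : (Y ⊓ fixV V A) ⊓ (Y ⊓ fixV V (cjs x A)) = Y ⊓ (fixV V A ⊓ fixV V (cjs x A)) := by
      rw [inf_inf_inf_comm, inf_idem]
    rw [this, hopp]
    exact inf_of_le_right hY0
  have hsup : (Y ⊓ fixV V A) ⊔ (Y ⊓ fixV V (cjs x A)) ≤ Y := sup_le inf_le_left inf_le_left
  have hcs := S.card_sup (E := Y ⊓ fixV V A) (F := Y ⊓ fixV V (cjs x A))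
    (inf_le_left.trans hYV) (inf_le_left.trans hYV)
  have hge : Nat.card ↥(Y ⊓ fixV V A : Subgroup G) * Nat.card ↥(Y ⊓ fixV V A : Subgroup G) ≤
      Nat.card ↥Y * Nat.card ↥(fixV V P) := by
    calc Nat.card ↥(Y ⊓ fixV V A : Subgroup G) * Nat.card ↥(Y ⊓ fixV V A : Subgroup G)
        = Nat.card ↥(Y ⊓ fixV V A : Subgroup G) * Nat.card ↥(Y ⊓ fixV V (cjs x A) : Subgroup G) := by
          rw [hcardx]
      _ = Nat.card ↥((Y ⊓ fixV V A) ⊔ (Y ⊓ fixV V (cjs x A)) : Subgroup G) *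
            Nat.card ↥((Y ⊓ fixV V A) ⊓ (Y ⊓ fixV V (cjs x A)) : Subgroup G) := hcs.symm
      _ ≤ Nat.card ↥Y * Nat.card ↥(fixV V P) := by
          rw [hinf]
          exact Nat.mul_le_mul_right _ (Subgroup.card_le_of_le hsup)
  rw [sq]
  exact le_antisymm hle hge

end Cfsg.Agent.S2999P
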