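import Mathlib
import Cfsg.Agent.Helper14.S2999SPLITCore
import Cfsg.Agent.Helper23.S2999STRONGcore
import Cfsg.Agent.Helper10.S2999V1EQ

/-! Board `s2999pieces`, piece SPLIT (blueprint section 4, SPLIT), verbatim: `SPLIT_aux_core` fed with STRONG obtained
from `STRONG_core` + the real OPP and V1EQ. -/

set_option autoImplicit false

namespace Cfsg.Agent.S2999P

open Cfsg.Agent.S2789P
open scoped commutatorElement

variable {G : Type*} [Group G] [Finite G] {p : ℕ} [Fact p.Prime] {V P Mg Tg R A : Subgroup G}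

/-- SPLIT (L): blueprint §4 SPLIT, in cardinalities: `|Y|·|V₀| = |Y ∩ U(A)|²`. -/
theorem SPLIT (S : Setup p V P Mg Tg R A) (Y : Subgroup G) (hYP : P ≤ Subgroup.normalizer (Y : Set G))
    (hY0 : fixV V P ≤ Y) (hY1 : Y ≤ V1 V P A) :
    Nat.card ↥Y * Nat.card ↥(fixV V P) = Nat.card ↥(Y ⊓ fixV V A : Subgroup G) ^ 2 :=
  SPLIT_aux_core S
    (fun {_ _ _ _} hg hh hgh hc hcm hv hcv =>
      STRONG_core S (fun hg hh hgh => OPP S hg hh hgh) (fun hg hh hgh => V1EQ S hg hh hgh)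
        hg hh hgh hc hcm hv hcv)
    Y hYP hY0 hY1

end Cfsg.Agent.S2999P
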