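import Cfsg.Agent.Helper14.StrongEmb2
import Cfsg.Agent.Helper14.Irreducible
import Cfsg.Prelude.Def_LocalEven

set_option autoImplicit false
set_option linter.unusedSectionVars false

namespace Cfsg.Agent.Helper14

open Cfsg

section Transport

variable {A B : Type*} [Group A] [Group B] {p : ℕ}

theorem isPMinimal_of_mulEquiv (e : A ≃* B) (h : IsPMinimal p A) : IsPMinimal p B := by
  intro Q
  have hr : (Q : Subgroup B) ≤ e.toMonoidHom.range := fun x _ => ⟨e.symm x, by simp⟩
  let P : Sylow p A := Q.comapOfInjective e.toMonoidHom e.injective hr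
  have h1 : (P : Subgroup A) = (Q : Subgroup B).comap e.toMonoidHom :=
    Sylow.coe_comapOfInjective _ _ _ _
  have h2 : ((P : Subgroup A).map e.toMonoidHom) = Q := by
    rw [h1]; exact Subgroup.map_comap_eq_self_of_surjective e.surjective _
  obtain ⟨hn, M, ⟨hM, hPM⟩, huniq⟩ := h P
  refine ⟨?_, M.map e.toMonoidHom, ⟨?_, ?_⟩, ?_⟩
  · intro hQ
    apply hn
    rw [h1]
    exact hQ.comap _
  · exact (OrderIso.isCoatom_iff e.mapSubgroup M).2 hM
  · rw [← h2]; exact Subgroup.map_mono hPM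
  · rintro M' ⟨hM', hQM'⟩
    have h3 : IsCoatom (M'.comap e.toMonoidHom) := by
      have := (OrderIso.isCoatom_iff e.symm.mapSubgroup M').2 hM'
      rw [Subgroup.comap_equiv_eq_map_symm']
      exact this
    have h4 := huniq _ ⟨h3, by rw [h1]; exact Subgroup.comap_mono hQM'⟩
    rw [← h4, Subgroup.map_comap_eq_self_of_surjective e.surjective]

end Transport

section TypeLevel

variable {H : Type*} [Group H] [Finite H] {p : ℕ} [Fact p.Prime]

/-- in a finite group, `p`-minimality can be checked on one Sylow subgroup -/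
theorem isPMinimal_of_sylow (S : Sylow p H) (hn : ¬ (S : Subgroup H).Normal)
    (hu : ∃! M : Subgroup H, IsCoatom M ∧ (S : Subgroup H) ≤ M) : IsPMinimal p H := by
  intro S'
  obtain ⟨h, rfl⟩ := MulAction.exists_smul_eq H S S'
  obtain ⟨M, ⟨hM, hSM⟩, huniq⟩ := hu
  refine ⟨?_, M.map (cj h), ⟨?_, ?_⟩, ?_⟩
  · intro hS'
    have := Sylow.unique_of_normal _ hS'
    have heq : S = h • S := Subsingleton.elim _ _
    apply hn
    rw [heq]; exact hS'
  · exact (OrderIso.isCoatom_iff ((MulAut.conj h).mapSubgroup) M).2 hM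
  · rw [sylow_smul_coe]; exact Subgroup.map_mono hSM
  · rintro M' ⟨hM', hSM'⟩
    have h3 : IsCoatom (M'.map (cj h⁻¹)) :=
      (OrderIso.isCoatom_iff ((MulAut.conj h⁻¹).mapSubgroup) M').2 hM'
    have h4 : (S : Subgroup H) ≤ M'.map (cj h⁻¹) := by
      rw [sylow_smul_coe, map_cj_le_iff] at hSM'
      exact hSM'
    have h5 := huniq _ ⟨h3, h4⟩
    rw [← h5, map_cj_inv_map_cj]

instance pElementClosure_top_normal : (pElementClosure p (⊤ : Subgroup H)).Normal := by
  have := le_normalizer_pElementClosure p (⊤ : Subgroup H)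
  exact Subgroup.normalizer_eq_top_iff.1 (top_le_iff.1 this)

/-- Frattini: `G = O^{p'}(G) N_G(S)` -/
theorem top_le_pElementClosure_sup_normalizer (S : Sylow p H) :
    (⊤ : Subgroup H) ≤ pElementClosure p (⊤ : Subgroup H) ⊔
      Subgroup.normalizer ((S : Subgroup H) : Set H) := by
  have hSR : (S : Subgroup H) ≤ pElementClosure p (⊤ : Subgroup H) :=
    le_pElementClosure_of_isPGroup p le_top S.isPGroup'
  have h := frattini_ambient (p := p) (T := (S : Subgroup H))
    (N := pElementClosure p (⊤ : Subgroup H)) (G := ⊤) le_top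
    (by rw [Subgroup.normalizer_eq_top]) (isSylowIn_of_sylow_le S hSR)
  rwa [top_inf_eq] at h

theorem pElementClosure_top_of_isPMinimal (h : IsPMinimal p H) :
    pElementClosure p (⊤ : Subgroup H) = ⊤ := by
  obtain ⟨S⟩ : Nonempty (Sylow p H) := inferInstance
  obtain ⟨hn, M, ⟨hM, hSM⟩, huniq⟩ := h S
  by_contra hne
  have hSR : (S : Subgroup H) ≤ pElementClosure p (⊤ : Subgroup H) :=
    le_pElementClosure_of_isPGroup p le_top S.isPGroup'
  obtain ⟨M1, hM1, hle1⟩ := exists_coatom_ge_of_ne_top hne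
  have e1 : M1 = M := huniq M1 ⟨hM1, hSR.trans hle1⟩
  have hN : Subgroup.normalizer ((S : Subgroup H) : Set H) ≠ ⊤ := by
    intro htop
    exact hn (Subgroup.normalizer_eq_top_iff.1 htop)
  obtain ⟨M2, hM2, hle2⟩ := exists_coatom_ge_of_ne_top hN
  have e2 : M2 = M := huniq M2 ⟨hM2, Subgroup.le_normalizer.trans hle2⟩
  have := top_le_pElementClosure_sup_normalizer S
  rw [e1] at hle1
  rw [e2] at hle2
  exact hM.1 (top_le_iff.1 (this.trans (sup_le hle1 hle2)))

end TypeLevel

end Cfsg.Agent.Helper14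

namespace Cfsg.Agent.Helper14

open Cfsg

section Ambient

variable {G : Type*} [Group G] [Finite G] {p : ℕ} [Fact p.Prime]

/-- a `p`-minimal subgroup is generated by its `p`-elements -/
theorem le_pElementClosure_of_isPMinimal {P : Subgroup G} (h : IsPMinimal p ↥P) :
    P ≤ pElementClosure p (⊤ : Subgroup G) := by
  have h1 := pElementClosure_top_of_isPMinimal h
  intro x hx
  have h2 : (⟨x, hx⟩ : ↥P) ∈ pElementClosure p (⊤ : Subgroup ↥P) := by rw [h1]; trivial
  have h3 : (pElementClosure p (⊤ : Subgroup ↥P)).map P.subtype ≤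
      pElementClosure p (⊤ : Subgroup G) := by
    unfold pElementClosure
    rw [MonoidHom.map_closure]
    apply Subgroup.closure_mono
    rintro _ ⟨y, ⟨-, k, hk⟩, rfl⟩
    exact ⟨trivial, k, by rw [← hk]; exact Subgroup.orderOf_coe y⟩
  exact h3 ⟨_, h2, rfl⟩

/-- the subgroup generated by `S` and the `p`-minimal subgroups over `S` -/
def pMinJoin (p : ℕ) (S : Subgroup G) : Subgroup G :=
  S ⊔ ⨆ P : {P : Subgroup G // S ≤ P ∧ IsPMinimal p ↥P}, (P : Subgroup G)

theorem pMinJoin_le (S : Sylow p G) :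
    pMinJoin p (S : Subgroup G) ≤ pElementClosure p (⊤ : Subgroup G) :=
  sup_le (le_pElementClosure_of_isPGroup p le_top S.isPGroup')
    (iSup_le fun P => le_pElementClosure_of_isPMinimal P.2.2)

theorem le_pMinJoin_sup_normalizer (S : Sylow p G) : ∀ H : Subgroup G, (S : Subgroup G) ≤ H →
    H ≤ pMinJoin p (S : Subgroup G) ⊔ Subgroup.normalizer ((S : Subgroup G) : Set G) := by
  intro H
  induction' hn : Nat.card ↥H using Nat.strong_induction_on with n ih generalizing H
  intro hSH
  by_cases hHN : H ≤ Subgroup.normalizer ((S : Subgroup G) : Set G)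
  · exact hHN.trans le_sup_right
  have hSyl : IsSylowIn p (S : Subgroup G) H := isSylowIn_of_sylow_le S hSH
  set S₀ : Sylow p ↥H := hSyl.toSylow with hS₀
  have hS₀c : (S₀ : Subgroup ↥H) = (S : Subgroup G).subgroupOf H := rfl
  have hS₀n : ¬ (S₀ : Subgroup ↥H).Normal := by
    intro hnorm
    rw [hS₀c, Subgroup.normal_subgroupOf_iff_le_normalizer hSH] at hnorm
    exact hHN hnorm
  have hS₀top : (S₀ : Subgroup ↥H) ≠ ⊤ := by
    intro htop; apply hS₀n; rw [htop]; infer_instance
  obtain ⟨M1, hM1, hle1⟩ := exists_coatom_ge_of_ne_top hS₀top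
  by_cases hu : ∀ M2 : Subgroup ↥H, IsCoatom M2 → (S₀ : Subgroup ↥H) ≤ M2 → M2 = M1
  · have hmin : IsPMinimal p ↥H :=
      isPMinimal_of_sylow S₀ hS₀n ⟨M1, ⟨hM1, hle1⟩, fun M2 h => hu M2 h.1 h.2⟩
    exact (le_iSup (fun P : {P : Subgroup G // (S : Subgroup G) ≤ P ∧ IsPMinimal p ↥P} =>
      (P : Subgroup G)) ⟨H, hSH, hmin⟩).trans (le_sup_right.trans le_sup_left)
  · push Not at hu
    obtain ⟨M2, hM2, hle2, hne⟩ := hu
    have hsup : M1 ⊔ M2 = ⊤ := by
      by_contra hcon
      have h1 : M1 = M1 ⊔ M2 := by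
        by_contra hne1
        exact hcon (hM1.2 _ (lt_of_le_of_ne le_sup_left hne1))
      have h2 : M2 = M1 ⊔ M2 := by
        by_contra hne2
        exact hcon (hM2.2 _ (lt_of_le_of_ne le_sup_right hne2))
      exact hne (h2.trans h1.symm)
    have hK : ∀ M : Subgroup ↥H, IsCoatom M → (S₀ : Subgroup ↥H) ≤ M →
        M.map H.subtype ≤
          pMinJoin p (S : Subgroup G) ⊔ Subgroup.normalizer ((S : Subgroup G) : Set G) := by
      intro M hM hle
      have hlt : Nat.card ↥(M.map H.subtype) < Nat.card ↥H := by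
        rw [card_map_subtype]
        by_contra hge
        push Not at hge
        exact hM.1 (Subgroup.eq_top_of_le_card M hge)
      refine ih _ (hn ▸ hlt) _ rfl ?_
      intro s hs
      exact ⟨⟨s, hSH hs⟩, hle (by rw [hS₀c, Subgroup.mem_subgroupOf]; exact hs), rfl⟩
    have hH : H = (M1 ⊔ M2).map H.subtype := by
      rw [hsup, ← MonoidHom.range_eq_map, Subgroup.range_subtype]
    rw [hH, Subgroup.map_sup]
    exact sup_le (hK M1 hM1 hle1) (hK M2 hM2 hle2)

theorem normalizer_le_normalizer_pMinJoin (S : Subgroup G) :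
    Subgroup.normalizer (S : Set G) ≤ Subgroup.normalizer (pMinJoin p S : Set G) := by
  apply le_normalizer_of_map_cj_le
  intro n hn
  have hS : S.map (cj n) = S := mem_normalizer_iff_map_cj.1 hn
  unfold pMinJoin
  rw [Subgroup.map_sup, Subgroup.map_iSup, hS]
  refine sup_le le_sup_left (iSup_le ?_)
  rintro ⟨P, hSP, hP⟩
  have h1 : S ≤ P.map (cj n) := by
    rw [← hS]; exact Subgroup.map_mono hSP
  have h2 : IsPMinimal p ↥(P.map (cj n)) :=
    isPMinimal_of_mulEquiv (P.equivMapOfInjective (cj n) (cj_injective n)) hP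
  exact (le_iSup (fun P : {P : Subgroup G // S ≤ P ∧ IsPMinimal p ↥P} =>
      (P : Subgroup G)) ⟨_, h1, h2⟩).trans le_sup_right

theorem pMinJoin_normal (S : Sylow p G) : (pMinJoin p (S : Subgroup G)).Normal := by
  have h1 := le_pMinJoin_sup_normalizer S ⊤ le_top
  have h2 : pMinJoin p (S : Subgroup G) ⊔ Subgroup.normalizer ((S : Subgroup G) : Set G) ≤
      Subgroup.normalizer (pMinJoin p (S : Subgroup G) : Set G) :=
    sup_le Subgroup.le_normalizer (normalizer_le_normalizer_pMinJoin _)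
  exact Subgroup.normalizer_eq_top_iff.1 (top_le_iff.1 (h1.trans h2))

theorem pElementClosure_le_pMinJoin (S : Sylow p G) :
    pElementClosure p (⊤ : Subgroup G) ≤ pMinJoin p (S : Subgroup G) := by
  have hnorm := pMinJoin_normal S
  unfold pElementClosure
  rw [Subgroup.closure_le]
  rintro x ⟨-, k, hk⟩
  have hx : IsPGroup p ↥(Subgroup.zpowers x) := by
    rw [IsPGroup.iff_card, Nat.card_zpowers]
    exact ⟨k, hk⟩
  obtain ⟨Q, hQ⟩ := hx.exists_le_sylow
  obtain ⟨g, rfl⟩ := MulAction.exists_smul_eq G S Q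
  rw [sylow_smul_coe] at hQ
  have h1 : ((S : Subgroup G).map (cj g)) ≤ (pMinJoin p (S : Subgroup G)).map (cj g) :=
    Subgroup.map_mono le_sup_left
  have h2 : (pMinJoin p (S : Subgroup G)).map (cj g) = pMinJoin p (S : Subgroup G) :=
    mem_normalizer_iff_map_cj.1 (by rw [Subgroup.normalizer_eq_top]; trivial)
  rw [h2] at h1
  exact h1 (hQ (Subgroup.mem_zpowers x))

/-- S2790 -/
theorem mcbride (S : Sylow p G) :
    (S : Subgroup G) ⊔ (⨆ P : {P : Subgroup G // (S : Subgroup G) ≤ P ∧ IsPMinimal p ↥P},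
      (P : Subgroup G)) = pElementClosure p (⊤ : Subgroup G) ∧
    (∀ g : G, ∃ x ∈ pElementClosure p (⊤ : Subgroup G),
      ∃ y ∈ Subgroup.normalizer ((S : Subgroup G) : Set G), g = x * y) := by
  refine ⟨le_antisymm (pMinJoin_le S) (pElementClosure_le_pMinJoin S), ?_⟩
  intro g
  have h := top_le_pElementClosure_sup_normalizer S (Subgroup.mem_top g)
  rw [Subgroup.mem_sup_of_normal_left] at h
  obtain ⟨x, hx, y, hy, hxy⟩ := h
  exact ⟨x, hx, y, hy, hxy.symm⟩

end Ambient

end Cfsg.Agent.Helper14
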