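import Mathlib
import Cfsg.Agent.Helper27.S2834Defs

/-!
# S2834 (L-Lemma), piece MIN: minimal valid pairs (blueprint `departures/helper27_S2834_blueprint.md`, Lemma MIN)
-/

set_option autoImplicit false

namespace Cfsg.Agent.S2834P

open Cfsg

universe u v

variable {H : Type u} [Group H] {Ω : Type v} [MulAction H Ω] {p : ℕ} [Fact p.Prime]

/-- The orbit `L • v` has order prime to `p` (it is `≡ 1` mod `p`, as `A` has exactly one fixed point on it). -/
theorem MIN_aux_not_dvd [Finite H] {A L : Subgroup H} {v : Ω} (hA : IsPGroup p A) (hV : Valid A L v) :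
    ¬ p ∣ Nat.card ↥(MulAction.orbit ↥L v) := by
  obtain ⟨hAL, hfix, -, hone⟩ := hV
  have hfin : Finite ↥(MulAction.orbit ↥L v) := by
    have : Finite ↥L := inferInstance
    exact Set.finite_range _
  have hA' : IsPGroup p ↥(A.subgroupOf L) := hA.comap_subtype
  have hmod := hA'.card_modEq_card_fixedPoints ↥(MulAction.orbit ↥L v)
  have huniq : Nat.card ↥(MulAction.fixedPoints ↥(A.subgroupOf L) ↥(MulAction.orbit ↥L v)) = 1 := by
    rw [Nat.card_eq_one_iff_unique]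
    refine ⟨⟨?_⟩, ⟨⟨⟨v, MulAction.mem_orbit_self v⟩, ?_⟩⟩⟩
    · rintro ⟨⟨y, hy⟩, hyf⟩ ⟨⟨y', hy'⟩, hyf'⟩
      have key : ∀ z : ↥(MulAction.orbit ↥L v),
          z ∈ MulAction.fixedPoints ↥(A.subgroupOf L) ↥(MulAction.orbit ↥L v) → (z : Ω) = v := by
        rintro ⟨z, hz⟩ hzf
        obtain ⟨l, rfl⟩ := hz
        show l • v = v
        apply hone l.1 l.2
        intro a ha
        have := hzf ⟨⟨a, hAL ha⟩, by simpa [Subgroup.mem_subgroupOf] using ha⟩
        have h2 := congrArg (fun w : ↥(MulAction.orbit ↥L v) => (w : Ω)) this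
        exact h2
      have e1 : y = v := key ⟨y, hy⟩ hyf
      have e2 : y' = v := key ⟨y', hy'⟩ hyf'
      subst e1
      subst e2
      rfl
    · intro a
      apply Subtype.ext
      show ((a : ↥L) : H) • v = v
      apply hfix
      exact Subgroup.mem_subgroupOf.mp a.2
  rw [huniq] at hmod
  intro hdvd
  have h0 : Nat.card ↥(MulAction.orbit ↥L v) ≡ 0 [MOD p] := (Nat.modEq_zero_iff_dvd).mpr hdvd
  have h10 : 1 ≡ 0 [MOD p] := hmod.symm.trans h0
  have : p ∣ 1 := (Nat.modEq_zero_iff_dvd).mp h10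
  exact (Fact.out : p.Prime).one_lt.ne' (Nat.dvd_one.mp this)

/-- Every `p`-subgroup of `L` fixes a point of the orbit `L • v`. -/
theorem MIN_aux_fix [Finite H] {A L : Subgroup H} {v : Ω} (hA : IsPGroup p A) (hV : Valid A L v)
    {P : Subgroup H} (hP : IsPGroup p P) (hPL : P ≤ L) :
    ∃ l ∈ L, ∀ x ∈ P, x • l • v = l • v := by
  have hnd := MIN_aux_not_dvd hA hV
  have hP' : IsPGroup p ↥(P.subgroupOf L) := hP.comap_subtype
  obtain ⟨⟨z, hz⟩, hzf⟩ := hP'.nonempty_fixed_point_of_prime_not_dvd_card ↥(MulAction.orbit ↥L v) hnd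
  obtain ⟨l, rfl⟩ := hz
  refine ⟨l.1, l.2, ?_⟩
  intro x hx
  have := hzf ⟨⟨x, hPL hx⟩, by simpa [Subgroup.mem_subgroupOf] using hx⟩
  have h2 := congrArg (fun w : ↥(MulAction.orbit ↥L v) => (w : Ω)) this
  exact h2

theorem MIN_core [Finite H] {A L : Subgroup H} {v : Ω} (hA : IsPGroup p A) (hV : Valid A L v) :
    ∀ q ∈ pCoreOf p L, ∀ l ∈ L, q • l • v = l • v := by
  have hQL : pCoreOf p L ≤ L := Cfsg.Agent.Helper14.pCoreOf_le p L
  have hQp : IsPGroup p ↥(pCoreOf p L) := Cfsg.Agent.Helper14.pCoreOf_isPGroup p L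
  obtain ⟨l₀, hl₀, hfix⟩ := MIN_aux_fix hA hV hQp hQL
  intro q hq l hl
  -- conjugate `q` back by `l * l₀⁻¹`
  have hnorm : ∀ g ∈ L, ∀ q ∈ pCoreOf p L, g⁻¹ * q * g ∈ pCoreOf p L := by
    intro g hg q hq
    obtain ⟨q', hq', rfl⟩ := hq
    have hn : (Cfsg.pCore p ↥L).Normal := Cfsg.Agent.Helper14.pCore_normal p
    have := hn.conj_mem q' hq' (⟨g, hg⟩ : ↥L)⁻¹
    refine ⟨(⟨g, hg⟩ : ↥L)⁻¹ * q' * (⟨g, hg⟩ : ↥L)⁻¹⁻¹, this, ?_⟩
    simp
  set g : H := l * l₀⁻¹ with hg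
  have hgL : g ∈ L := L.mul_mem hl (L.inv_mem hl₀)
  have h1 := hfix (g⁻¹ * q * g) (hnorm g hgL q hq)
  have h2 : l • v = g • l₀ • v := by
    rw [hg, ← mul_smul, inv_mul_cancel_right]
  rw [h2, ← mul_smul]
  have h3 : q * g = g * (g⁻¹ * q * g) := by group
  rw [h3, mul_smul, h1]

theorem MIN_pgroup [Finite H] {A L : Subgroup H} {v : Ω} (hA : IsPGroup p A) (hV : Valid A L v)
    {P : Subgroup H} (hP : IsPGroup p P) (hAP : A ≤ P) (hPL : P ≤ L) : ∀ x ∈ P, x • v = v := by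
  obtain ⟨l₀, hl₀, hfix⟩ := MIN_aux_fix hA hV hP hPL
  have hv : l₀ • v = v := hV.2.2.2 l₀ hl₀ (fun a ha => hfix a (hAP ha))
  intro x hx
  have := hfix x hx
  rwa [hv] at this

theorem MIN_max {A L : Subgroup H} {v : Ω} (hV : Valid A L v)
    (hmin : ∀ X : Subgroup H, X < L → ¬ Valid A X v) {X : Subgroup H} (hAX : A ≤ X) (hXL : X < L) :
    ∀ x ∈ X, x • v = v := by
  by_contra hcon
  push Not at hcon
  obtain ⟨x, hx, hxv⟩ := hcon
  apply hmin X hXL
  exact ⟨hAX, hV.2.1, ⟨x, hx, hxv⟩, fun l hl h => hV.2.2.2 l (hXL.le hl) h⟩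

set_option linter.unusedSectionVars false in
set_option linter.unusedVariables false in
theorem MIN_gen [Finite H] {A L : Subgroup H} {v : Ω} (hA : IsPGroup p A) (hV : Valid A L v)
    (hmin : ∀ X : Subgroup H, X < L → ¬ Valid A X v) {x : H} (hx : x ∈ L) (hxv : x • v ≠ v) :
    (A ⊔ A.map (MulAut.conj x).toMonoidHom) ⊔ pCoreOf p L = L := by
  have hQL : pCoreOf p L ≤ L := by
    intro q hq
    obtain ⟨q', -, rfl⟩ := hq
    exact q'.2
  have hAxL : A.map (MulAut.conj x).toMonoidHom ≤ L := by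
    rintro _ ⟨a, ha, rfl⟩
    show x * a * x⁻¹ ∈ L
    exact L.mul_mem (L.mul_mem hx (hV.1 ha)) (L.inv_mem hx)
  have hle : (A ⊔ A.map (MulAut.conj x).toMonoidHom) ⊔ pCoreOf p L ≤ L :=
    sup_le (sup_le hV.1 hAxL) hQL
  by_contra hne
  have hlt : (A ⊔ A.map (MulAut.conj x).toMonoidHom) ⊔ pCoreOf p L < L := lt_of_le_of_ne hle hne
  have hAY : A ≤ (A ⊔ A.map (MulAut.conj x).toMonoidHom) ⊔ pCoreOf p L :=
    le_trans le_sup_left le_sup_left
  have hYfix := MIN_max hV hmin hAY hlt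
  apply hxv
  -- `A` fixes `x⁻¹ • v`
  have h1 : x⁻¹ • v = v := by
    apply hV.2.2.2 x⁻¹ (L.inv_mem hx)
    intro a ha
    have hmem : x * a * x⁻¹ ∈ (A ⊔ A.map (MulAut.conj x).toMonoidHom) ⊔ pCoreOf p L := by
      apply le_sup_left (a := A ⊔ A.map (MulAut.conj x).toMonoidHom)
      apply le_sup_right (a := A)
      exact ⟨a, ha, rfl⟩
    have h2 := hYfix _ hmem
    -- (x a x⁻¹) • v = v  ⇒  a • x⁻¹ • v = x⁻¹ • v
    have h3 : a • x⁻¹ • v = x⁻¹ • ((x * a * x⁻¹) • v) := by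
      rw [← mul_smul, ← mul_smul]
      congr 1
      group
    rw [h3, h2]
  calc x • v = x • x⁻¹ • v := by rw [h1]
    _ = v := by rw [smul_inv_smul]

theorem MIN_inC [Finite H] {A L : Subgroup H} {v : Ω} (hA : IsPGroup p A) (hV : Valid A L v)
    (hmin : ∀ X : Subgroup H, X < L → ¬ Valid A X v) : InC p ↥L v := by
  have hA' : IsPGroup p ↥(A.subgroupOf L) := hA.comap_subtype
  obtain ⟨T, hT⟩ := hA'.exists_le_sylow
  refine ⟨T, ?_, ?_, ?_, ?_⟩
  · obtain ⟨l, hl, hlv⟩ := hV.2.2.1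
    exact ⟨⟨l, hl⟩, hlv⟩
  · -- `T` fixes `v`
    have hP : IsPGroup p ↥((T : Subgroup ↥L).map L.subtype) := T.2.map _
    have hAP : A ≤ (T : Subgroup ↥L).map L.subtype := by
      intro a ha
      exact ⟨⟨a, hV.1 ha⟩, hT (by simpa [Subgroup.mem_subgroupOf] using ha), rfl⟩
    have hPL : (T : Subgroup ↥L).map L.subtype ≤ L := by
      rintro _ ⟨t, -, rfl⟩
      exact t.2
    intro t ht
    exact MIN_pgroup hA hV hP hAP hPL (t : H) ⟨t, ht, rfl⟩
  · intro h hfix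
    apply hV.2.2.2 h.1 h.2
    intro a ha
    exact hfix ⟨a, hV.1 ha⟩ (hT (by simpa [Subgroup.mem_subgroupOf] using ha))
  · intro X hTX hXtop x hx
    have hAX : A ≤ X.map L.subtype := by
      intro a ha
      exact ⟨⟨a, hV.1 ha⟩, hTX (hT (by simpa [Subgroup.mem_subgroupOf] using ha)), rfl⟩
    have hXL : X.map L.subtype < L := by
      refine lt_of_le_of_ne ?_ ?_
      · rintro _ ⟨t, -, rfl⟩
        exact t.2
      · intro heq
        apply hXtop
        rw [eq_top_iff]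
        intro y _
        have hy : (y : H) ∈ X.map L.subtype := by rw [heq]; exact y.2
        obtain ⟨y', hy', hyy⟩ := hy
        have : y' = y := Subtype.ext hyy
        rwa [this] at hy'
    exact MIN_max hV hmin hAX hXL (x : H) ⟨x, hx, rfl⟩

end Cfsg.Agent.S2834P
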