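import Mathlib
import Cfsg.Agent.Helper28.S3000Defs

/-! S3000 board `s3000pieces`, piece TKD3 (`Tool.Rc`, `Tool.Ri`), stub-free core: the coprime-action lemma COPR is taken as a
hypothesis `hCOPR` (the wrappers are in `Helper14/S3000TKD3.lean`). -/

set_option autoImplicit false
set_option linter.unusedSectionVars false

namespace Cfsg.Agent.S3000P

open Cfsg.Agent.S2789P Cfsg.Agent.S2999P
open scoped commutatorElement

variable {G : Type*} [Group G]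

/-- `|HK| = |H||K|` for commuting subgroups with trivial intersection -/
theorem TKD3_aux_card_sup (H K : Subgroup G)
    (hcomm : ∀ h ∈ H, ∀ k ∈ K, h * k = k * h) (hdisj : H ⊓ K = ⊥) :
    Nat.card (H ⊔ K : Subgroup G) = Nat.card H * Nat.card K := by
  have hc : ∀ (h : H) (k : K), Commute (H.subtype h) (K.subtype k) :=
    fun h k => hcomm h h.2 k k.2
  have h1 := MonoidHom.noncommCoprod_range H.subtype K.subtype hc
  rw [Subgroup.range_subtype, Subgroup.range_subtype] at h1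
  have hinj : Function.Injective (MonoidHom.noncommCoprod H.subtype K.subtype hc) := by
    rw [MonoidHom.noncommCoprod_injective]
    refine ⟨H.subtype_injective, K.subtype_injective, ?_⟩
    rw [Subgroup.range_subtype, Subgroup.range_subtype, disjoint_iff]
    exact hdisj
  rw [← h1, ← Nat.card_prod]
  exact (Nat.card_congr (Equiv.ofInjective _ hinj)).symm

/-- elements of `HK` are products, for commuting subgroups -/
theorem TKD3_aux_mem_sup (H K : Subgroup G)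
    (hcomm : ∀ h ∈ H, ∀ k ∈ K, h * k = k * h) {x : G} (hx : x ∈ H ⊔ K) :
    ∃ y ∈ H, ∃ z ∈ K, y * z = x := by
  have hc : ∀ (h : H) (k : K), Commute (H.subtype h) (K.subtype k) :=
    fun h k => hcomm h h.2 k k.2
  have h1 := MonoidHom.noncommCoprod_range H.subtype K.subtype hc
  rw [Subgroup.range_subtype, Subgroup.range_subtype] at h1
  rw [← h1] at hx
  obtain ⟨⟨a, b⟩, rfl⟩ := hx
  exact ⟨a, a.2, b, b.2, by simp [MonoidHom.noncommCoprod_apply]⟩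

/-- `[U,H] ≤ U` when `H` normalises `U` -/
theorem TKD3_aux_comm_le {U H : Subgroup G} (hn : ∀ h ∈ H, cjs h U = U) : ⁅U, H⁆ ≤ U := by
  rw [Subgroup.commutator_le]
  intro u hu h hh
  have h1 : h * u⁻¹ * h⁻¹ ∈ U := by
    have : h * u⁻¹ * h⁻¹ ∈ cjs h U := cj_mem_conj.mpr (U.inv_mem hu)
    rwa [hn h hh] at this
  have e : ⁅u, h⁆ = u * (h * u⁻¹ * h⁻¹) := by
    rw [commutatorElement_def]; group
  rw [e]
  exact U.mul_mem hu h1

variable [Finite G] {p : ℕ} [Fact p.Prime] {V P : Subgroup G} {T : Sylow p ↥P} {M : Subgroup ↥P} {q : ℕ}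
variable {A E H : Subgroup G} {w : G}

theorem TKD3_aux_Vcomm (Hy : Hyp p V P T M) {v w : G} (hv : v ∈ V) (hw : w ∈ V) : v * w = w * v := by
  have := Hy.hV.1.is_comm.comm ⟨v, hv⟩ ⟨w, hw⟩
  exact congrArg Subtype.val this

/-- `C_V(H) = C_V(E)` -/
theorem TKD3_aux_fixH (K : Tool p V P q A E H w) : fixV V H = fixV V E := by
  apply le_antisymm
  · obtain ⟨h₁, hh₁, -, -, hne, -, -⟩ := K.hsum
    intro v hv
    rw [mem_fix] at hv
    apply K.hfixH h₁ hh₁ hne v hv.1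
    rw [hv.2 h₁ hh₁]; group
  · exact fix_anti K.hHE

/-- `H ≤ N(V)` -/
theorem TKD3_aux_HV (Hy : Hyp p V P T M) (K : Tool p V P q A E H w) {h : G} (hh : h ∈ H) :
    h ∈ Subgroup.normalizer (V : Set G) := Hy.hPV (K.hEP (K.hHE hh))

/-- `H` normalises `C_V(A)` -/
theorem TKD3_aux_normA (Hy : Hyp p V P T M) (K : Tool p V P q A E H w) :
    ∀ h ∈ H, cjs h (fixV V A) = fixV V A := by
  intro h hh
  rw [← cj_fix A (TKD3_aux_HV Hy K hh), K.hHA h hh]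

/-- `H` normalises `ʷA` -/
theorem TKD3_aux_HwA (K : Tool p V P q A E H w) : ∀ h ∈ H, cjs h (cjs w A) = cjs w A := by
  intro h hh
  have h1 : w⁻¹ * h * w ∈ H := by
    have : h ∈ cjs w H := by rw [K.hwH]; exact hh
    exact cj_mem.mp this
  have h2 : cjs (w⁻¹ * h * w) A = A := K.hHA _ h1
  have e : h * w = w * (w⁻¹ * h * w) := by group
  rw [cj_mul, e, ← cj_mul, h2]

/-- `H` normalises `C_V(ʷA)` -/
theorem TKD3_aux_normwA (Hy : Hyp p V P T M) (K : Tool p V P q A E H w) :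
    ∀ h ∈ H, cjs h (fixV V (cjs w A)) = fixV V (cjs w A) := by
  intro h hh
  rw [← cj_fix (cjs w A) (TKD3_aux_HV Hy K hh), TKD3_aux_HwA K h hh]

/-- the coprime splitting of an `H`-invariant subgroup `U` of `V` containing `C = C_V(E)` -/
theorem TKD3_aux_split (Hy : Hyp p V P T M) (K : Tool p V P q A E H w)
    (hCOPR : ∀ {X H : Subgroup G}, (∀ x ∈ X, ∀ y ∈ X, x * y = y * x) → (∀ h ∈ H, cjs h X = X) →
      (Nat.card ↥H).Coprime (Nat.card ↥X) → ⁅X, H⁆ ⊔ fixV X H = X ∧ ⁅X, H⁆ ⊓ fixV X H = ⊥)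
    {U : Subgroup G} (hUV : U ≤ V) (hCU : fixV V E ≤ U) (hn : ∀ h ∈ H, cjs h U = U) :
    ⁅U, H⁆ ⊔ fixV V E = U ∧ ⁅U, H⁆ ⊓ fixV V E = ⊥ ∧
      Nat.card ↥U = Nat.card ↥⁅U, H⁆ * Nat.card ↥(fixV V E) := by
  have hUp : IsPGroup p ↥U := F2_aux_isPGroup (F2_aux_elab_of_le Hy.hV hUV)
  obtain ⟨n, hn'⟩ := hUp.exists_card_eq
  have hcop : (Nat.card ↥H).Coprime (Nat.card ↥U) := by
    rw [hn']; exact Nat.Coprime.pow_right n K.hHp
  have hfix : fixV U H = fixV V E := by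
    rw [← TKD3_aux_fixH K]
    apply le_antisymm
    · intro v hv
      rw [mem_fix] at hv ⊢
      exact ⟨hUV hv.1, hv.2⟩
    · intro v hv
      have hv' : v ∈ fixV V E := by rw [← TKD3_aux_fixH K]; exact hv
      rw [mem_fix] at hv ⊢
      exact ⟨hCU hv', hv.2⟩
  obtain ⟨h1, h2⟩ := hCOPR (X := U) (H := H)
    (fun x hx y hy => TKD3_aux_Vcomm Hy (hUV hx) (hUV hy)) hn hcop
  rw [hfix] at h1 h2
  refine ⟨h1, h2, ?_⟩
  have hle : ⁅U, H⁆ ≤ U := TKD3_aux_comm_le hn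
  have h3 := TKD3_aux_card_sup ⁅U, H⁆ (fixV V E)
    (fun x hx y hy => TKD3_aux_Vcomm Hy (hUV (hle hx)) (fix_le V E hy)) h2
  rw [h1] at h3
  exact h3

/-- `|C_V(A)| = q |C|` -/
theorem TKD3_aux_cardUA (Hy : Hyp p V P T M) (K : Tool p V P q A E H w) :
    Nat.card ↥(fixV V A) = q * Nat.card ↥(fixV V E) := by
  have h1 := F3_card Hy K.hA.le K.hA.so
  rw [K.hA.card, K.hcardC] at h1
  have hq : 0 < q := by
    rw [← K.hA.card]; exact Nat.card_pos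
  have h2 : q * Nat.card ↥(fixV V A) = q * (q * Nat.card ↥(fixV V E)) := by
    rw [h1]; ring
  exact Nat.eq_of_mul_eq_mul_left hq h2

/-- TKD3 (first half), core: `C_V(A) = Ř_A × C`, `Ř_A ≤ [V,A]`, `|Ř_A| = q`. -/
theorem Tool.Rc_core (Hy : Hyp p V P T M) (K : Tool p V P q A E H w)
    (hCOPR : ∀ {X H : Subgroup G}, (∀ x ∈ X, ∀ y ∈ X, x * y = y * x) → (∀ h ∈ H, cjs h X = X) →
      (Nat.card ↥H).Coprime (Nat.card ↥X) → ⁅X, H⁆ ⊔ fixV X H = X ∧ ⁅X, H⁆ ⊓ fixV X H = ⊥) :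
    ⁅fixV V A, H⁆ ⊔ fixV V E = fixV V A ∧ ⁅fixV V A, H⁆ ⊓ fixV V E = ⊥ ∧ ⁅fixV V A, H⁆ ≤ ⁅V, A⁆ ∧
      Nat.card ↥⁅fixV V A, H⁆ = q := by
  obtain ⟨h1, h2, h3⟩ := TKD3_aux_split Hy K hCOPR (fix_le V A) (fix_anti K.hAE) (TKD3_aux_normA Hy K)
  refine ⟨h1, h2, ?_, ?_⟩
  · rw [Subgroup.commutator_le]
    intro u hu h hh
    rw [K.hUA] at hu
    have hVA : ⁅V, A⁆ ≤ V := (F3_quad Hy K.hA.le K.hA.so).trans (fix_le V A)
    obtain ⟨r, hr, c, hc, rfl⟩ := TKD3_aux_mem_sup ⁅V, A⁆ (fixV V E)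
      (fun x hx y hy => TKD3_aux_Vcomm Hy (hVA hx) (fix_le V E hy)) hu
    have hch : h * c = c * h := (mem_fix.mp hc).2 h (K.hHE hh)
    have e : ⁅r * c, h⁆ = r * (h * r * h⁻¹)⁻¹ := by
      rw [commutatorElement_def]
      have : r * c * h * (r * c)⁻¹ * h⁻¹ = r * (c * h) * c⁻¹ * r⁻¹ * h⁻¹ := by group
      rw [this, ← hch]; group
    rw [e]
    apply Subgroup.mul_mem _ hr (Subgroup.inv_mem _ _)
    have h5 : h * r * h⁻¹ ∈ cjs h ⁅V, A⁆ := cj_mem_conj.mpr hr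
    rwa [cj_comm, cj_norm (TKD3_aux_HV Hy K hh), K.hHA h hh] at h5
  · have hC : 0 < Nat.card ↥(fixV V E) := Nat.card_pos
    rw [TKD3_aux_cardUA Hy K] at h3
    exact (Nat.eq_of_mul_eq_mul_right hC h3).symm

/-- TKD3 (second half), core: the same for `ʷA`, and `V = C_V(A) × Ř_∞`. -/
theorem Tool.Ri_core (Hy : Hyp p V P T M) (K : Tool p V P q A E H w)
    (hCOPR : ∀ {X H : Subgroup G}, (∀ x ∈ X, ∀ y ∈ X, x * y = y * x) → (∀ h ∈ H, cjs h X = X) →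
      (Nat.card ↥H).Coprime (Nat.card ↥X) → ⁅X, H⁆ ⊔ fixV X H = X ∧ ⁅X, H⁆ ⊓ fixV X H = ⊥) :
    ⁅fixV V (cjs w A), H⁆ ⊔ fixV V E = fixV V (cjs w A) ∧ ⁅fixV V (cjs w A), H⁆ ⊓ fixV V A = ⊥ ∧
      fixV V A ⊔ ⁅fixV V (cjs w A), H⁆ = V ∧ Nat.card ↥⁅fixV V (cjs w A), H⁆ = q ∧
      ∀ h ∈ H, cjs h ⁅fixV V (cjs w A), H⁆ = ⁅fixV V (cjs w A), H⁆ := by
  have hwE : cjs w A ≤ E := cj_le_of_mem K.hwE K.hAE
  have hwV : w ∈ Subgroup.normalizer (V : Set G) := Hy.hPV (K.hEP K.hwE)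
  obtain ⟨h1, h2, h3⟩ := TKD3_aux_split Hy K hCOPR (fix_le V (cjs w A)) (fix_anti hwE) (TKD3_aux_normwA Hy K)
  have hle : ⁅fixV V (cjs w A), H⁆ ≤ fixV V (cjs w A) := TKD3_aux_comm_le (TKD3_aux_normwA Hy K)
  have hC : 0 < Nat.card ↥(fixV V E) := Nat.card_pos
  have hcardw : Nat.card ↥(fixV V (cjs w A)) = q * Nat.card ↥(fixV V E) := by
    rw [cj_fix A hwV, cj_card, TKD3_aux_cardUA Hy K]
  have hq : Nat.card ↥⁅fixV V (cjs w A), H⁆ = q := by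
    rw [hcardw] at h3
    exact (Nat.eq_of_mul_eq_mul_right hC h3).symm
  have hdisj : ⁅fixV V (cjs w A), H⁆ ⊓ fixV V A = ⊥ := by
    rw [eq_bot_iff, ← h2]
    intro x hx
    rw [Subgroup.mem_inf] at hx ⊢
    exact ⟨hx.1, K.hmeet w K.hwE K.hwA (Subgroup.mem_inf.mpr ⟨hx.2, hle hx.1⟩)⟩
  refine ⟨h1, hdisj, ?_, hq, ?_⟩
  · have hsupV : fixV V A ⊔ ⁅fixV V (cjs w A), H⁆ ≤ V :=
      sup_le (fix_le V A) (hle.trans (fix_le V _))
    apply Subgroup.eq_of_le_of_card_ge hsupV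
    have h5 := TKD3_aux_card_sup (fixV V A) ⁅fixV V (cjs w A), H⁆
      (fun x hx y hy => TKD3_aux_Vcomm Hy (fix_le V A hx) (fix_le V _ (hle hy)))
      (by rw [inf_comm]; exact hdisj)
    rw [h5, hq, TKD3_aux_cardUA Hy K, K.hcardC]
    apply le_of_eq; ring
  · intro h hh
    rw [cj_comm, TKD3_aux_normwA Hy K h hh, cj_self hh]

end Cfsg.Agent.S3000P
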