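import Mathlib
import Cfsg.Agent.Helper14.S3000TKD3core
import Cfsg.Agent.Helper19.S3000COPR

/-! S3000 board `s3000pieces`, piece TKD3: `Tool.Rc`, `Tool.Ri` (wrappers of the cores with COPR). -/

set_option autoImplicit false
set_option linter.unusedSectionVars false

namespace Cfsg.Agent.S3000P

open Cfsg.Agent.S2789P Cfsg.Agent.S2999P
open scoped commutatorElement

variable {G : Type*} [Group G] [Finite G] {p : ℕ} [Fact p.Prime] {V P : Subgroup G} {T : Sylow p ↥P} {M : Subgroup ↥P} {q : ℕ}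
variable {A E H : Subgroup G} {w : G}

/-- TKD5 (M): `C_V(A) = Ř_A × C`, `Ř_A ≤ [V,A]`, `|Ř_A| = q`. -/
theorem Tool.Rc (Hy : Hyp p V P T M) (K : Tool p V P q A E H w) :
    ⁅fixV V A, H⁆ ⊔ fixV V E = fixV V A ∧ ⁅fixV V A, H⁆ ⊓ fixV V E = ⊥ ∧ ⁅fixV V A, H⁆ ≤ ⁅V, A⁆ ∧
      Nat.card ↥⁅fixV V A, H⁆ = q :=
  Tool.Rc_core Hy K (fun hX hn hcop => COPR hX hn hcop)

/-- TKD6 (M): the same for `ʷA`, and `V = C_V(A) × Ř_∞`. -/
theorem Tool.Ri (Hy : Hyp p V P T M) (K : Tool p V P q A E H w) :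
    ⁅fixV V (cjs w A), H⁆ ⊔ fixV V E = fixV V (cjs w A) ∧ ⁅fixV V (cjs w A), H⁆ ⊓ fixV V A = ⊥ ∧
      fixV V A ⊔ ⁅fixV V (cjs w A), H⁆ = V ∧ Nat.card ↥⁅fixV V (cjs w A), H⁆ = q ∧
      ∀ h ∈ H, cjs h ⁅fixV V (cjs w A), H⁆ = ⁅fixV V (cjs w A), H⁆ :=
  Tool.Ri_core Hy K (fun hX hn hcop => COPR hX hn hcop)

end Cfsg.Agent.S3000P
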