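import Cfsg.Agent.Helper14.Frattini
import Cfsg.Prelude.Def_Transfer

set_option autoImplicit false
set_option linter.unusedSectionVars false

namespace Cfsg.Agent.Helper14

open Cfsg
open scoped commutatorElement Pointwise

variable {G : Type*} [Group G]

/-- characteristic subgroups of `P` are normalized by `N_G(P)` -/
theorem map_cj_map_subtype_of_characteristic (P : Subgroup G) (C : Subgroup ↥P)
    [hC : C.Characteristic] {g : G} (hg : g ∈ Subgroup.normalizer (P : Set G)) :
    (C.map P.subtype).map (cj g) = C.map P.subtype := by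
  let φ : MulAut ↥P := P.normalizerMonoidHom ⟨g, hg⟩
  have h1 : (cj g).comp P.subtype = P.subtype.comp φ.toMonoidHom := by
    ext x
    rfl
  rw [Subgroup.map_map, h1, ← Subgroup.map_map, Subgroup.characteristic_iff_map_eq.1 hC φ]

theorem commutator_closure_le' {S : Set G} {Y J : Subgroup G}
    (hS : Subgroup.closure S ≤ Subgroup.normalizer (J : Set G))
    (h : ∀ s ∈ S, ∀ y ∈ Y, ⁅s, y⁆ ∈ J) : ⁅Subgroup.closure S, Y⁆ ≤ J := by
  have hconj : ∀ g ∈ Subgroup.closure S, ∀ w ∈ J, g * w * g⁻¹ ∈ J := by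
    intro g hg w hw
    exact ((Subgroup.mem_normalizer_iff.1 (hS hg)) w).1 hw
  rw [Subgroup.commutator_le]
  intro g hg
  induction hg using Subgroup.closure_induction with
  | mem s hs => exact h s hs
  | one => intro y _; simp
  | mul a b ha hb iha ihb =>
    intro y hy
    have : ⁅a * b, y⁆ = a * ⁅b, y⁆ * a⁻¹ * ⁅a, y⁆ := by
      simp only [commutatorElement_def]; group
    rw [this]
    exact J.mul_mem (hconj a ha _ (ihb y hy)) (iha y hy)
  | inv a ha iha =>
    intro y hy
    have : ⁅a⁻¹, y⁆ = a⁻¹ * (⁅a, y⁆)⁻¹ * (a⁻¹)⁻¹ := by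
      simp only [commutatorElement_def]; group
    rw [this]
    exact hconj a⁻¹ (Subgroup.inv_mem _ ha) _ (J.inv_mem (iha y hy))

/-- `N_G(P)` normalizes `[P,P]` -/
theorem normalizer_le_normalizer_derived (P : Subgroup G) :
    Subgroup.normalizer (P : Set G) ≤ Subgroup.normalizer ((⁅P, P⁆ : Subgroup G) : Set G) := by
  intro g hg
  rw [mem_normalizer_iff_map_cj, Subgroup.map_commutator, mem_normalizer_iff_map_cj.1 hg]

/-- If `Y` normalizes `P`, centralizes `P'` and `[P,Y]` has exponent `p`, then `[Y, Φ(P)] ≤ P'`. -/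
theorem commutator_frattini_le_derived [Finite G] {p : ℕ} [Fact p.Prime] (P Y : Subgroup G)
    (hYP : Y ≤ Subgroup.normalizer (P : Set G))
    (hYc : Y ≤ Subgroup.centralizer ((⁅P, P⁆ : Subgroup G) : Set G))
    (hel : ∀ c ∈ ⁅P, Y⁆, c ^ p = 1) :
    ⁅Y, (frattini ↥P).map P.subtype⁆ ≤ ⁅P, P⁆ := by
  set D := ⁅P, P⁆ with hD
  have hPD : P ≤ Subgroup.normalizer (D : Set G) := le_normalizer_commutator_left P P
  have hconj : ∀ g ∈ P, ∀ w ∈ D, g * w * g⁻¹ ∈ D := by
    intro g hg w hw
    exact ((Subgroup.mem_normalizer_iff.1 (hPD hg)) w).1 hw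
  have hWP : ⁅P, Y⁆ ≤ P := commutator_le_left_of_le_normalizer hYP
  -- the subgroup of P of elements with [x, Y] ⊆ D
  let K : Subgroup ↥P :=
    { carrier := {x | ∀ y ∈ Y, ⁅(x : G), y⁆ ∈ D}
      one_mem' := by
        intro y _
        simp
      mul_mem' := by
        intro a b ha hb y hy
        have : ⁅((a * b : ↥P) : G), y⁆ = (a : G) * ⁅(b : G), y⁆ * (a : G)⁻¹ * ⁅(a : G), y⁆ := by
          simp only [commutatorElement_def, Subgroup.coe_mul]; group
        rw [this]
        exact D.mul_mem (hconj _ a.2 _ (hb y hy)) (ha y hy)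
      inv_mem' := by
        intro a ha y hy
        have : ⁅((a⁻¹ : ↥P) : G), y⁆ = (a : G)⁻¹ * (⁅(a : G), y⁆)⁻¹ * ((a : G)⁻¹)⁻¹ := by
          simp only [commutatorElement_def, Subgroup.coe_inv]; group
        rw [this]
        exact hconj _ (P.inv_mem a.2) _ (D.inv_mem (ha y hy)) }
  have hF : frattini ↥P ≤ K := by
    apply frattini_le_of_elemAb p K
    · intro a b y hy
      have h1 : ((⁅a, b⁆ : ↥P) : G) ∈ D := by
        have : ((⁅a, b⁆ : ↥P) : G) = ⁅(a : G), (b : G)⁆ := by
          simp [commutatorElement_def]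
        rw [this]
        exact Subgroup.commutator_mem_commutator a.2 b.2
      have h2 := Subgroup.mem_centralizer_iff.1 (hYc hy) _ h1
      have : ⁅((⁅a, b⁆ : ↥P) : G), y⁆ = 1 := by
        rw [commutatorElement_def, h2]; group
      rw [this]; exact D.one_mem
    · intro a y hy
      set c : G := ⁅(a : G), y⁆ with hc
      have hcW : c ∈ ⁅P, Y⁆ := Subgroup.commutator_mem_commutator a.2 hy
      have hcp : c ^ p = 1 := hel c hcW
      let c' : ↥P := ⟨c, hWP hcW⟩
      have e1 : y * (a : G) * y⁻¹ = c⁻¹ * (a : G) := by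
        rw [hc, commutatorElement_def]; group
      have e2 : y * ((a : G) ^ p) * y⁻¹ = (c⁻¹ * (a : G)) ^ p := by
        rw [← e1, conj_pow]
      have e3 : ⁅((a ^ p : ↥P) : G), y⁆ = (a : G) ^ p * ((c⁻¹ * (a : G)) ^ p)⁻¹ := by
        rw [← e2, commutatorElement_def, Subgroup.coe_pow]; group
      rw [e3]
      -- compute in the abelianization of P
      have h4 : a ^ p * ((c'⁻¹ * a) ^ p)⁻¹ ∈ _root_.commutator ↥P := by
        rw [← Abelianization.ker_of, MonoidHom.mem_ker]
        have hc'p : c' ^ p = 1 := Subtype.ext (by simpa using hcp)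
        have hc'' : (Abelianization.of c') ^ p = 1 := by
          rw [← map_pow, hc'p, map_one]
        simp only [map_mul, map_inv, map_pow]
        rw [mul_pow, inv_pow, hc'']
        simp
      have h5 : ((a ^ p * ((c'⁻¹ * a) ^ p)⁻¹ : ↥P) : G) ∈ D := by
        rw [hD, ← Subgroup.map_subtype_commutator]
        exact ⟨_, h4, rfl⟩
      simpa using h5
  rw [Subgroup.commutator_comm, Subgroup.commutator_le]
  rintro _ ⟨x, hx, rfl⟩ y hy
  exact hF hx y hy

/-- if `N` centralizes `D` and `[N, F] ≤ D` with `D, F ≤ P` a finite `p`-group, then every `p'`-element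
of `N` centralizes `F`. -/
theorem mem_centralizer_of_stabilizes_chain {p : ℕ} [Fact p.Prime] (P D F N : Subgroup G)
    [Finite ↥P] (hP : IsPGroup p ↥P) (hD : D ≤ P) (hF : F ≤ P)
    (h1 : N ≤ Subgroup.centralizer (D : Set G)) (h2 : ⁅N, F⁆ ≤ D)
    {a : G} (ha : a ∈ N) (hcop : Nat.Coprime (orderOf a) p) :
    a ∈ Subgroup.centralizer (F : Set G) := by
  obtain ⟨k, hk⟩ := IsPGroup.iff_card.1 hP
  let C : ℕ → Subgroup G := fun i => if i = 0 then ⊥ else if i = 1 then D else F
  have key := stab_chain a (Nat.card ↥P) 2 C (by simp [C])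
    (by
      intro i hi u hu j
      have haj : a ^ j ∈ N := N.pow_mem ha j
      interval_cases i
      · have hu' : u ∈ D := by simpa [C] using hu
        have := Subgroup.mem_centralizer_iff.1 (h1 haj) u hu'
        show _ ∈ (⊥ : Subgroup G)
        rw [Subgroup.mem_bot, this]; group
      · have hu' : u ∈ F := by simpa [C] using hu
        show _ ∈ D
        have h3 := Subgroup.commutator_mem_commutator haj hu'
        have h4 := D.inv_mem (h2 h3)
        have : (⁅a ^ j, u⁆)⁻¹ = u * a ^ j * u⁻¹ * (a ^ j)⁻¹ := by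
          rw [commutatorElement_def]; group
        rwa [this] at h4)
    (by
      intro i hi c hc
      have hcP : c ∈ P := by
        interval_cases i
        · have : c = 1 := by simpa [C] using hc
          rw [this]; exact P.one_mem
        · exact hD (by simpa [C] using hc)
        · exact hF (by simpa [C] using hc)
      exact card_pow_eq_one_of_mem hcP)
  have hcomm : ∀ u ∈ F, Commute (a ^ ((Nat.card ↥P) ^ 2)) u := by
    intro u hu
    exact key 2 le_rfl u (by simpa [C] using hu)
  have hcop2 : Nat.Coprime ((Nat.card ↥P) ^ 2) (orderOf a) := by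
    rw [hk]
    exact (Nat.Coprime.pow_right _ (Nat.Coprime.pow_right _ hcop)).symm
  obtain ⟨m, hm⟩ := exists_pow_eq_self_of_coprime hcop2
  rw [Subgroup.mem_centralizer_iff]
  intro u hu
  have := ((hcomm u hu).pow_left m)
  rw [hm] at this
  exact this.eq.symm

/-- S2819 -/
theorem pResidual_normalClosure_centralizes_frattini [Finite G] {p : ℕ} [Fact p.Prime]
    (P : Subgroup G) (hP : IsPGroup p ↥P) (H : Subgroup G)
    (hH : H ≤ Subgroup.normalizer (P : Set G)) (Y : Subgroup G) (hYH : Y ≤ H)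
    (hYc : Y ≤ Subgroup.centralizer ((⁅P, P⁆ : Subgroup G) : Set G))
    (hel : IsElementaryAbelian p ⁅P, Y⁆) (NY : Subgroup G)
    (hNY : NY = (Subgroup.normalClosure ((Y.subgroupOf H : Subgroup ↥H) : Set ↥H)).map H.subtype) :
    (pResidual p ↥NY).map NY.subtype ≤
      Subgroup.centralizer (((frattini ↥P).map P.subtype : Subgroup G) : Set G) := by
  set D := ⁅P, P⁆ with hD
  set F := (frattini ↥P).map P.subtype with hF
  have hDP : D ≤ P := Subgroup.commutator_le_self P
  have hFP : F ≤ P := by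
    rintro _ ⟨x, _, rfl⟩; exact x.2
  have hND : Subgroup.normalizer (P : Set G) ≤ Subgroup.normalizer (D : Set G) :=
    normalizer_le_normalizer_derived P
  have hstep1 : ⁅Y, F⁆ ≤ D :=
    commutator_frattini_le_derived P Y (hYH.trans hH) hYc hel.2
  set S : Set G := H.subtype '' (Group.conjugatesOfSet ((Y.subgroupOf H : Subgroup ↥H) : Set ↥H))
    with hS
  have hNY' : NY = Subgroup.closure S := by
    rw [hNY, Subgroup.normalClosure, MonoidHom.map_closure]
  have hSmem : ∀ s ∈ S, ∃ h ∈ H, ∃ y ∈ Y, s = cj h y := by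
    rintro _ ⟨x, hx, rfl⟩
    obtain ⟨a, ha, hax⟩ := Group.mem_conjugatesOfSet_iff.1 hx
    obtain ⟨c, hc⟩ := isConj_iff.1 hax
    refine ⟨c, c.2, a, ?_, ?_⟩
    · exact Subgroup.mem_subgroupOf.1 ha
    · rw [← hc]; simp
  have hSH : Subgroup.closure S ≤ H := by
    rw [Subgroup.closure_le]
    rintro _ ⟨x, _, rfl⟩
    exact x.2
  have ha : Subgroup.closure S ≤ Subgroup.centralizer (D : Set G) := by
    rw [Subgroup.closure_le]
    intro s hs
    obtain ⟨h, hh, y, hy, rfl⟩ := hSmem s hs
    have e : D.map (cj h) = D := mem_normalizer_iff_map_cj.1 (hND (hH hh))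
    have := map_cj_centralizer D h
    rw [e] at this
    rw [SetLike.mem_coe, ← this]
    exact ⟨y, hYc hy, rfl⟩
  have hb : ⁅Subgroup.closure S, F⁆ ≤ D := by
    apply commutator_closure_le' (hSH.trans (hH.trans hND))
    intro s hs x hx
    obtain ⟨h, hh, y, hy, rfl⟩ := hSmem s hs
    have hhN : h⁻¹ ∈ Subgroup.normalizer (P : Set G) := Subgroup.inv_mem _ (hH hh)
    have eF : F.map (cj h⁻¹) = F := map_cj_map_subtype_of_characteristic P (frattini ↥P) hhN
    have hx' : cj h⁻¹ x ∈ F := by rw [← eF]; exact ⟨x, hx, rfl⟩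
    have h1 : ⁅y, cj h⁻¹ x⁆ ∈ D := hstep1 (Subgroup.commutator_mem_commutator hy hx')
    have e : D.map (cj h) = D := mem_normalizer_iff_map_cj.1 (hND (hH hh))
    have h2 : cj h ⁅y, cj h⁻¹ x⁆ ∈ D := by rw [← e]; exact ⟨_, h1, rfl⟩
    have : cj h ⁅y, cj h⁻¹ x⁆ = ⁅cj h y, x⁆ := by
      simp only [cj_apply, commutatorElement_def]; group
    rwa [this] at h2
  have : Finite ↥P := inferInstance
  rw [Subgroup.map_le_iff_le_comap]
  unfold pResidual
  rw [Subgroup.closure_le]
  intro a hacop
  have hacop' : Nat.Coprime (orderOf a) p := hacop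
  rw [SetLike.mem_coe, Subgroup.mem_comap]
  have haN : (a : G) ∈ Subgroup.closure S := hNY' ▸ a.2
  apply mem_centralizer_of_stabilizes_chain P D F (Subgroup.closure S) hP hDP hFP ha hb haN
  rw [Subgroup.orderOf_coe]
  exact hacop'

end Cfsg.Agent.Helper14
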