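import Cfsg.Agent.Helper11.S3786Defs

/-! # Board `s3786pieces`: row Y_swap (helper14) -/

set_option autoImplicit false

namespace Cfsg.Agent.S3786P

open Subgroup

section Y

variable {p : ℕ} [Fact p.Prime] {Γ : Type*} [Group Γ] {M : Type*} [AddCommGroup M] [DistribMulAction Γ M] {Z : Type*}
  [AddCommGroup Z] {B : Subgroup Γ} {w z : Γ} {N : ℕ} {β : M → M → Z}

/-- Y2a. Interchanging the two sums: `b w^k b⁻¹ = w^k · ((w^k)⁻¹ b w^k b⁻¹)`. -/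
theorem Y_swap (S : YSet p B w z N β) [Fintype ↥B] (m : M) :
    ∑ b : ↥B, (b : Γ) • ∑ k ∈ Finset.range N, w ^ k • ((b : Γ)⁻¹ • m) =
      ∑ k ∈ Finset.range N, w ^ k • ∑ b : ↥B, ((w ^ k)⁻¹ * (b : Γ) * w ^ k * (b : Γ)⁻¹) • m := by
  have h1 : ∀ b : ↥B, (b : Γ) • ∑ k ∈ Finset.range N, w ^ k • ((b : Γ)⁻¹ • m) =
      ∑ k ∈ Finset.range N, ((b : Γ) * w ^ k * (b : Γ)⁻¹) • m := by
    intro b
    rw [Finset.smul_sum]
    apply Finset.sum_congr rfl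
    intro k _
    rw [mul_smul, mul_smul]
  have h2 : ∀ k : ℕ, w ^ k • ∑ b : ↥B, ((w ^ k)⁻¹ * (b : Γ) * w ^ k * (b : Γ)⁻¹) • m =
      ∑ b : ↥B, ((b : Γ) * w ^ k * (b : Γ)⁻¹) • m := by
    intro k
    rw [Finset.smul_sum]
    apply Finset.sum_congr rfl
    intro b _
    rw [← mul_smul]
    congr 1
    group
  rw [Finset.sum_congr rfl (fun b _ => h1 b), Finset.sum_congr rfl (fun k _ => h2 k)]
  exact Finset.sum_comm

end Y

end Cfsg.Agent.S3786P
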