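import Cfsg.Agent.Helper14.Asym9

set_option autoImplicit false
set_option linter.unusedSectionVars false
set_option linter.style.haveILetI false

namespace Cfsg.Agent.Helper14

open Cfsg
open scoped commutatorElement

section AsymJ

variable {G : Type*} [Group G] {p : ℕ} [Fact p.Prime]

/-- the elements normalizing `B` and centralizing `N` modulo `B` -/
def commCent (N B : Subgroup G) : Subgroup G where
  carrier := {x | x ∈ Subgroup.normalizer (B : Set G) ∧ ∀ n ∈ N, ⁅n, x⁆ ∈ B}
  one_mem' := by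
    refine ⟨Subgroup.one_mem _, fun n _ => ?_⟩
    rw [commutatorElement_def]
    simp
  mul_mem' := by
    rintro x y ⟨hx, hx'⟩ ⟨hy, hy'⟩
    refine ⟨Subgroup.mul_mem _ hx hy, fun n hn => ?_⟩
    have e : ⁅n, x * y⁆ = ⁅n, x⁆ * (x * ⁅n, y⁆ * x⁻¹) := by
      rw [commutatorElement_def, commutatorElement_def, commutatorElement_def]
      group
    rw [e]
    exact B.mul_mem (hx' n hn) (((Subgroup.mem_normalizer_iff.1 hx) _).1 (hy' n hn))
  inv_mem' := by
    rintro x ⟨hx, hx'⟩
    refine ⟨Subgroup.inv_mem _ hx, fun n hn => ?_⟩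
    have e : ⁅n, x⁻¹⁆ = x⁻¹ * (⁅n, x⁆)⁻¹ * x⁻¹⁻¹ := by
      rw [commutatorElement_def, commutatorElement_def]
      group
    rw [e]
    exact ((Subgroup.mem_normalizer_iff.1 (Subgroup.inv_mem _ hx)) _).1 (B.inv_mem (hx' n hn))

theorem mem_commCent {N B : Subgroup G} {x : G} :
    x ∈ commCent N B ↔ x ∈ Subgroup.normalizer (B : Set G) ∧ ∀ n ∈ N, ⁅n, x⁆ ∈ B := Iff.rfl

theorem le_commCent {N B K : Subgroup G} (hKB : K ≤ Subgroup.normalizer (B : Set G))
    (hc : ⁅N, K⁆ ≤ B) : K ≤ commCent N B := by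
  intro x hx
  exact ⟨hKB hx, fun n hn => hc (Subgroup.commutator_mem_commutator hn hx)⟩

/-- If all `p'`-elements centralize the group modulo a normal `p`-subgroup, the group is
`p`-closed. -/
theorem isPClosed_of_commutator_mem {N : Type*} [Group N] [Finite N] (B : Subgroup N) [B.Normal]
    (hB : IsPGroup p ↥B)
    (hc : ∀ x : N, Nat.Coprime (orderOf x) p → ∀ t : N, ⁅t, x⁆ ∈ B) : IsPClosed p N := by
  intro P
  have hBP : B ≤ (P : Subgroup N) := hB.le_sylow_of_normal P
  have h1 : pResidual p N ≤ Subgroup.normalizer ((P : Subgroup N) : Set N) := by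
    unfold pResidual
    rw [Subgroup.closure_le]
    intro x hx
    have key : ∀ y : N, (∀ t : N, ⁅t, y⁆ ∈ B) → ∀ t ∈ (P : Subgroup N), y * t * y⁻¹ ∈ (P : Subgroup N) := by
      intro y hy t ht
      have h2 : ⁅t⁻¹, y⁆ ∈ (P : Subgroup N) := hBP (hy t⁻¹)
      have e : y * t * y⁻¹ = t * ⁅t⁻¹, y⁆ := by
        rw [commutatorElement_def]; group
      rw [e]
      exact Subgroup.mul_mem _ ht h2
    have hxc : ∀ t : N, ⁅t, x⁆ ∈ B := hc x hx
    have hxc' : ∀ t : N, ⁅t, x⁻¹⁆ ∈ B := by
      intro t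
      have e : ⁅t, x⁻¹⁆ = x⁻¹ * (⁅t, x⁆)⁻¹ * x⁻¹⁻¹ := by
        rw [commutatorElement_def, commutatorElement_def]
        group
      rw [e]
      exact (inferInstance : B.Normal).conj_mem _ (B.inv_mem (hxc t)) _
    show x ∈ Subgroup.normalizer ((P : Subgroup N) : Set N)
    rw [Subgroup.mem_normalizer_iff]
    intro t
    constructor
    · exact key x hxc t
    · intro ht
      have := key x⁻¹ hxc' _ ht
      simpa [mul_assoc] using this
  have h2 : (⊤ : Subgroup N) ≤ Subgroup.normalizer ((P : Subgroup N) : Set N) := by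
    rw [← pResidual_sup_sylow P]
    exact sup_le h1 Subgroup.le_normalizer
  exact Subgroup.normalizer_eq_top_iff.1 (top_le_iff.1 h2)

end AsymJ

end Cfsg.Agent.Helper14
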