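import Cfsg.Agent.Helper14.ModTransfer2

set_option autoImplicit false
set_option linter.unusedSectionVars false

namespace Cfsg.Agent.Helper14

open Cfsg
open scoped commutatorElement

variable {G : Type*} [Group G] [Finite G] {p : ℕ} [Fact p.Prime]

/-- `L = O^p(L) U` elementwise, for `U` a Sylow subgroup of `L` -/
theorem exists_mul_of_pResidualOf_sylow {L U : Subgroup G} (hU : IsSylowIn p U L) {l : G}
    (hl : l ∈ L) : ∃ r ∈ (pResidual p ↥L).map L.subtype, ∃ t ∈ U, l = r * t := by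
  have h1 := pResidual_sup_sylow (p := p) (H := ↥L) hU.toSylow
  have h2 : (⟨l, hl⟩ : ↥L) ∈ pResidual p ↥L ⊔ (hU.toSylow : Subgroup ↥L) := by
    rw [h1]; trivial
  rw [Subgroup.mem_sup_of_normal_left] at h2
  obtain ⟨r, hr, t, ht, hrt⟩ := h2
  refine ⟨r.1, ⟨r, hr, rfl⟩, t.1, Subgroup.mem_subgroupOf.1 ht, ?_⟩
  have := congrArg Subtype.val hrt
  exact this.symm

/-- S2823 -/
theorem sylowCenterClosure_structure (T : Sylow p G) (L : Subgroup G)
    (hTL : (T : Subgroup G) ≤ L)
    (hchar : L ⊓ Subgroup.centralizer (pCoreOf p L : Set G) ≤ pCoreOf p L) :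
    sylowCenterClosure p L = (omegaOne p (L ⊓ Subgroup.centralizer ((L : Subgroup G) : Set G))) ⊔
      ⁅sylowCenterClosure p L, (pResidual p ↥L).map L.subtype⁆ ∧
    ⁅sylowCenterClosure p L, L⁆ =
      ⁅sylowCenterClosure p L, (pResidual p ↥L).map L.subtype⁆ := by
  set Z := sylowCenterClosure p L with hZ
  set R := (pResidual p ↥L).map L.subtype with hR
  set W := ⁅Z, R⁆ with hW
  have hZL : Z ≤ L := sylowCenterClosure_le p L
  have hLZ : L ≤ Subgroup.normalizer (Z : Set G) := le_normalizer_sylowCenterClosure p L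
  have hRL : R ≤ L := pResidualOf_le L
  have hLR : L ≤ Subgroup.normalizer (R : Set G) := le_normalizer_pResidualOf L
  have hZe : IsElementaryAbelian p Z := (isPReducedIn_sylowCenterClosure hchar).2.2.1
  have hWZ : W ≤ Z := commutator_le_left_of_le_normalizer (hRL.trans hLZ)
  have hLW : L ≤ Subgroup.normalizer (W : Set G) := le_normalizer_commutator hLZ hLR
  have hTS : IsSylowIn p (T : Subgroup G) L := isSylowIn_of_sylow_le T hTL
  -- Z ⊓ C(L) ≤ Ω₁Z(L)
  have h1 : Z ⊓ Subgroup.centralizer (L : Set G) ≤ ozc p L := by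
    rintro z ⟨hzZ, hzC⟩
    exact Subgroup.subset_closure ⟨⟨hZL hzZ, hzC⟩, hZe.2 z hzZ⟩
  -- each Ω₁Z(U) lies in C_Z(L) W
  have h2 : ∀ U : Subgroup G, IsSylowIn p U L →
      ozc p U ≤ (Z ⊓ Subgroup.centralizer (L : Set G)) ⊔ W := by
    intro U hU z₀ hz₀
    have hz₀Z : z₀ ∈ Z := ozc_le_sylowCenterClosure' hU hz₀
    have hUc := le_centralizer_ozc (p := p) U
    apply transfer_fixed_point hZe hLZ hU hz₀Z
    · intro t ht
      exact (Subgroup.mem_centralizer_iff.1 (hUc ht) z₀ hz₀).symm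
    · intro l hl
      obtain ⟨r, hr, t, ht, rfl⟩ := exists_mul_of_pResidualOf_sylow hU hl
      have htz : z₀ * t = t * z₀ := Subgroup.mem_centralizer_iff.1 (hUc ht) z₀ hz₀
      have e1 : r * t * z₀ * (r * t)⁻¹ * z₀⁻¹ = r * (t * z₀) * t⁻¹ * r⁻¹ * z₀⁻¹ := by group
      have e2 : r * (z₀ * t) * t⁻¹ * r⁻¹ * z₀⁻¹ = ⁅r, z₀⁆ := by
        rw [commutatorElement_def]; group
      rw [e1, ← htz, e2, hW, Subgroup.commutator_comm]
      exact Subgroup.commutator_mem_commutator hr hz₀Z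
  have h3 : Z ≤ ozc p L ⊔ W := by
    rw [hZ, sylowCenterClosure_eq]
    refine iSup_le fun S => ?_
    exact (h2 _ (isSylowIn_of_sylow S)).trans (sup_le_sup_right h1 W)
  -- Ω₁Z(L) ≤ Z
  have h4 : ozc p L ≤ Z := by
    refine le_trans ?_ (ozc_le_sylowCenterClosure' hTS)
    apply omegaOne_mono
    have hQT : pCoreOf p L ≤ (T : Subgroup G) := pCoreOf_le_of_isSylowIn hTS
    have h5 : L ⊓ Subgroup.centralizer (L : Set G) ≤ (T : Subgroup G) := by
      refine le_trans ?_ (hchar.trans hQT)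
      exact inf_le_inf_left _ (Subgroup.centralizer_le (pCoreOf_le p L))
    exact le_inf h5 (inf_le_right.trans (Subgroup.centralizer_le hTL))
  have hclaim1 : Z = ozc p L ⊔ W := le_antisymm h3 (sup_le h4 hWZ)
  refine ⟨hclaim1, le_antisymm ?_ (Subgroup.commutator_mono le_rfl hRL)⟩
  have h6 : ⁅ozc p L ⊔ W, L⁆ ≤ W := by
    apply commutator_sup_le
    · rw [← hclaim1]; exact hZL.trans hLW
    · have : ⁅ozc p L, L⁆ = ⊥ := by
        rw [Subgroup.commutator_comm (ozc p L) L, Subgroup.commutator_eq_bot_iff_le_centralizer,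
          Subgroup.le_centralizer_iff]
        exact (omegaOne_le p (L ⊓ Subgroup.centralizer (L : Set G))).trans inf_le_right
      rw [this]; exact bot_le
    · exact commutator_le_left_of_le_normalizer hLW
  rw [← hclaim1] at h6
  exact h6

end Cfsg.Agent.Helper14
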