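import Cfsg.Agent.Helper14.WeaklyClosed4
import Cfsg.Agent.Helper14.ModTransfer3
import Cfsg.Agent.Helper14.Subnormal2
import Cfsg.Agent.Helper14.Asym10
import Cfsg.Agent.Helper21.ThreeSubgroups

set_option autoImplicit false
set_option linter.unusedSectionVars false

namespace Cfsg.Agent.Helper14

open Cfsg
open scoped commutatorElement Pointwise

section

variable {H : Type*} [Group H]

/-- three subgroups lemma modulo a subgroup normalized by the three subgroups -/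
theorem three_subgroups_rel (N A B C : Subgroup H)
    (hA : A ≤ Subgroup.normalizer (N : Set H)) (hB : B ≤ Subgroup.normalizer (N : Set H))
    (hC : C ≤ Subgroup.normalizer (N : Set H))
    (h1 : ⁅⁅B, C⁆, A⁆ ≤ N) (h2 : ⁅⁅C, A⁆, B⁆ ≤ N) : ⁅⁅A, B⁆, C⁆ ≤ N := by
  set M := Subgroup.normalizer (N : Set H) with hM
  have hNM : N ≤ M := Subgroup.le_normalizer
  have hn : (N.subgroupOf M).Normal := Subgroup.normal_in_normalizer
  have key : ∀ X Y Z : Subgroup H, X ≤ M → Y ≤ M → Z ≤ M →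
      (⁅⁅X, Y⁆, Z⁆ ≤ N ↔
        ⁅⁅X.subgroupOf M, Y.subgroupOf M⁆, Z.subgroupOf M⁆ ≤ N.subgroupOf M) := by
    intro X Y Z hX hY hZ
    have e : (⁅⁅X.subgroupOf M, Y.subgroupOf M⁆, Z.subgroupOf M⁆).map M.subtype
        = ⁅⁅X, Y⁆, Z⁆ := by
      rw [Subgroup.map_commutator, Subgroup.map_commutator, Subgroup.map_subgroupOf_eq_of_le hX,
        Subgroup.map_subgroupOf_eq_of_le hY, Subgroup.map_subgroupOf_eq_of_le hZ]
    rw [← e, Subgroup.map_le_iff_le_comap]
    rfl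
  rw [key A B C hA hB hC]
  rw [key B C A hB hC hA] at h1
  rw [key C A B hC hA hB] at h2
  exact Helper21.three_subgroups_mod _ _ _ _ h1 h2

end

section

variable {H : Type*} [Group H] [Finite H] {p : ℕ} [Fact p.Prime]

/-- `O^p(B) ≤ N` when `B ≤ N D` for a `p`-group `D` normalizing `N` -/
theorem pResidualOf_le_of_le_sup (N D B : Subgroup H)
    (hDN : D ≤ Subgroup.normalizer (N : Set H)) (hD : IsPGroup p ↥D) (hB : B ≤ N ⊔ D) :
    (pResidual p ↥B).map B.subtype ≤ N := by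
  rw [pResidualOf_eq_closure, Subgroup.closure_le]
  rintro b ⟨hb, hcop⟩
  exact mem_of_coprime_of_mem_sup' N D hDN hD (hB hb) hcop

theorem pResidualOf_map_cj (B : Subgroup H) (g : H) :
    ((pResidual p ↥B).map B.subtype).map (cj g) =
      (pResidual p ↥(B.map (cj g))).map (B.map (cj g)).subtype := by
  rw [pResidualOf_eq_closure, pResidualOf_eq_closure, MonoidHom.map_closure]
  congr 1
  ext x
  constructor
  · rintro ⟨b, ⟨hb, hcop⟩, rfl⟩
    refine ⟨⟨b, hb, rfl⟩, ?_⟩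
    rw [orderOf_injective (cj g) (cj_injective g)]
    exact hcop
  · rintro ⟨⟨b, hb, rfl⟩, hcop⟩
    rw [orderOf_injective (cj g) (cj_injective g)] at hcop
    exact ⟨b, ⟨hb, hcop⟩, rfl⟩

theorem normalizer_le_normalizer_pResidualOf (B : Subgroup H) :
    Subgroup.normalizer (B : Set H) ≤
      Subgroup.normalizer ((((pResidual p ↥B).map B.subtype : Subgroup H)) : Set H) := by
  intro g hg
  rw [mem_normalizer_iff_map_cj] at hg ⊢
  rw [pResidualOf_map_cj]
  rw [hg]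

/-- structure of the weak closure `W` of a weakly closed `Q` in `L` and of `K = O^p(W)` -/
theorem wcs_closure_structure {Q : Subgroup H} (hQp : IsPGroup p ↥Q)
    (hwc : IsWeaklyClosedSubgroup p Q) {L : Subgroup H} (hQL : Q ≤ L) (W K : Subgroup H)
    (hW : W = weakClosure Q L) (hK : K = (pResidual p ↥W).map W.subtype) :
    Q ≤ W ∧ W ≤ L ∧ L ≤ Subgroup.normalizer (W : Set H) ∧
    L ≤ Subgroup.normalizer (K : Set H) ∧ K ≤ W ∧
    (∀ l ∈ L, ∃ r ∈ K, Q.map (cj l) = Q.map (cj r)) ∧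
    W = K ⊔ Q ∧ ⁅K, Q⁆ = K := by
  have h1 : W = ⨆ k : ↥L, Q.map (cj (k : H)) := by
    rw [hW]; exact weakClosure_eq_iSup_conj hQp hwc hQL
  have hQW : Q ≤ W := by
    rw [h1]
    have := le_iSup (fun k : ↥L => Q.map (cj (k : H))) ⟨1, L.one_mem⟩
    have e : Q.map (cj ((⟨1, L.one_mem⟩ : ↥L) : H)) = Q := map_cj_one Q
    rw [e] at this
    exact this
  have hWL : W ≤ L := by
    rw [h1]
    apply iSup_le
    intro k
    have := Subgroup.map_mono (f := cj (k : H)) hQL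
    rwa [map_cj_eq_self_of_mem k.2] at this
  have hLW : L ≤ Subgroup.normalizer (W : Set H) := by
    apply le_normalizer_of_map_cj_le
    intro k' hk'
    rw [h1, Subgroup.map_iSup]
    apply iSup_le
    intro k
    rw [map_cj_mul]
    exact le_iSup (fun k : ↥L => Q.map (cj (k : H))) ⟨k' * k, L.mul_mem hk' k.2⟩
  have hLK : L ≤ Subgroup.normalizer (K : Set H) := by
    rw [hK]; exact hLW.trans (normalizer_le_normalizer_pResidualOf W)
  have hKW : K ≤ W := by rw [hK]; exact pResidualOf_le W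
  obtain ⟨T, hT, hQT⟩ := exists_isSylowIn_ge hQW hQp
  have hTN : T ≤ Subgroup.normalizer (Q : Set H) :=
    wc_le_normalizer (wcs_of_le_pGroup hwc hT.2.1 hQT)
  have hconj : ∀ l ∈ L, ∃ r ∈ K, Q.map (cj l) = Q.map (cj r) := by
    intro l hl
    have hlW : Q.map (cj l) ≤ W := by
      rw [h1]
      exact le_iSup (fun k : ↥L => Q.map (cj (k : H))) ⟨l, hl⟩
    obtain ⟨w, hw, hlw⟩ := wcs_conj_in_subgroup hQp hwc hQW l hlW
    obtain ⟨r, hr, t, ht, hrt⟩ := exists_mul_of_pResidualOf_sylow hT hw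
    refine ⟨r, hK ▸ hr, ?_⟩
    rw [hlw, hrt, ← map_cj_mul, mem_normalizer_iff_map_cj.1 (hTN ht)]
  have hWle : ∀ D : Subgroup H, Q ≤ D → K ≤ D → W ≤ D := by
    intro D hQD hKD
    rw [h1]
    apply iSup_le
    intro k
    obtain ⟨r, hr, hkr⟩ := hconj k k.2
    rw [hkr]
    have := Subgroup.map_mono (f := cj r) hQD
    rwa [map_cj_eq_self_of_mem (hKD hr)] at this
  have hWKQ : W = K ⊔ Q :=
    le_antisymm (hWle _ le_sup_right le_sup_left) (sup_le hKW hQW)
  refine ⟨hQW, hWL, hLW, hLK, hKW, hconj, hWKQ, ?_⟩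
  have hQK : Q ≤ Subgroup.normalizer (K : Set H) := hQL.trans hLK
  apply le_antisymm (commutator_le_left_of_le_normalizer hQK)
  set C := ⁅K, Q⁆ with hC
  have hKC : K ≤ Subgroup.normalizer (C : Set H) := le_normalizer_commutator_left K Q
  have hQC : Q ≤ Subgroup.normalizer (C : Set H) := le_normalizer_commutator_right K Q
  -- all conjugates of Q by elements of K lie in C ⊔ Q
  have hQr : ∀ r ∈ K, Q.map (cj r) ≤ C ⊔ Q := by
    rintro r hr _ ⟨q, hq, rfl⟩
    have e : cj r q = ⁅r, q⁆ * q := by rw [cj_apply, commutatorElement_def]; group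
    rw [e]
    exact Subgroup.mul_mem _
      (Subgroup.mem_sup_left (Subgroup.commutator_mem_commutator hr hq))
      (Subgroup.mem_sup_right hq)
  have hWCQ : W ≤ C ⊔ Q := by
    rw [h1]
    apply iSup_le
    intro k
    obtain ⟨r, hr, hkr⟩ := hconj k k.2
    rw [hkr]
    exact hQr r hr
  rw [hK]
  exact pResidualOf_le_of_le_sup C Q W hQC hQp hWCQ

/-- one half of the weak closure factorization lemma (S2859) -/
theorem wc_factor_half (Q : Subgroup H) (hQp : IsPGroup p ↥Q)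
    (hwc : IsWeaklyClosedSubgroup p Q)
    (Hc : Subgroup H) (hHc : Hc = weakClosure Q ⊤) (H₁ H₂ : Subgroup H)
    (hn₁ : H₁ ≤ Hc ∧ Hc ≤ Subgroup.normalizer (H₁ : Set H))
    (hn₂ : H₂ ≤ Hc ∧ Hc ≤ Subgroup.normalizer (H₂ : Set H))
    (hprod : H₁ ⊔ H₂ = Hc) (hcomm : ⁅H₁, H₂⁆ ≤ Subgroup.normalizer (Q : Set H))
    (K₁ : Subgroup H)
    (hK₁ : K₁ = (pResidual p ↥(weakClosure Q (H₁ ⊔ Q))).map (weakClosure Q (H₁ ⊔ Q)).subtype) :
    ⁅K₁, Q⁆ = K₁ ∧ ⁅K₁, H₁⁆ = K₁ ∧ K₁ ≤ ⁅H₁, H₁⁆ ∧ Hc ≤ Subgroup.normalizer (K₁ : Set H) ∧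
    ⁅K₁, H₂⁆ ≤ pCoreOf p Hc ∧ K₁ ≤ H₁ ∧
    (∀ h ∈ H₁, ∃ k ∈ K₁, ∃ n ∈ Subgroup.normalizer (Q : Set H), h = k * n) ∧
    K₁ ≤ (pResidual p ↥Hc).map Hc.subtype := by
  obtain ⟨hQHc, -, -, -, -, -, -, -⟩ :=
    wcs_closure_structure hQp hwc (le_top : Q ≤ ⊤) Hc _ hHc rfl
  have hHc1 : Hc = ⨆ k : ↥(⊤ : Subgroup H), Q.map (cj (k : H)) := by
    rw [hHc]; exact weakClosure_eq_iSup_conj hQp hwc le_top
  have hconjHc : ∀ g : H, ∃ k ∈ Hc, Q.map (cj g) = Q.map (cj k) := by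
    intro g
    have : Q.map (cj g) ≤ Hc := by
      rw [hHc1]
      exact le_iSup (fun k : ↥(⊤ : Subgroup H) => Q.map (cj (k : H))) ⟨g, trivial⟩
    exact wcs_conj_in_subgroup hQp hwc hQHc g this
  set R := ⁅H₁, H₂⁆ with hR
  have hRH₁ : R ≤ H₁ := commutator_le_left_of_le_normalizer (hn₂.1.trans hn₁.2)
  have hRH₂ : R ≤ H₂ := commutator_le_right_of_le_normalizer (hn₁.1.trans hn₂.2)
  have hHcR : Hc ≤ Subgroup.normalizer (R : Set H) := le_normalizer_commutator hn₁.2 hn₂.2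
  set P := pCoreOf p R with hP
  have hPR : P ≤ R := pCoreOf_le p R
  have hPp : IsPGroup p ↥P := pCoreOf_isPGroup p R
  have hHcP : Hc ≤ Subgroup.normalizer (P : Set H) := hHcR.trans (le_normalizer_pCoreOf' R)
  have hPHc : P ≤ pCoreOf p Hc := le_pCoreOf p (hPR.trans (hRH₁.trans hn₁.1)) hHcP hPp
  -- R is central in Hc modulo P
  have hcl1 : Hc ≤ commCent R P := by
    rw [hHc1]
    apply iSup_le
    intro g
    obtain ⟨k, hk, hgk⟩ := hconjHc (g : H)
    rw [hgk]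
    have hQkHc : Q.map (cj k) ≤ Hc := by
      have := Subgroup.map_mono (f := cj k) hQHc
      rwa [map_cj_eq_self_of_mem hk] at this
    apply le_commCent (hQkHc.trans hHcP)
    have hRQk : R ≤ Subgroup.normalizer ((Q.map (cj k) : Subgroup H) : Set H) := by
      have := Subgroup.map_mono (f := cj k) hcomm
      rw [mem_normalizer_iff_map_cj.1 (hHcR hk), map_cj_normalizer] at this
      exact this
    have h2 : ⁅R, Q.map (cj k)⁆ ≤ R ⊓ Q.map (cj k) :=
      le_inf (commutator_le_left_of_le_normalizer (hQkHc.trans hHcR))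
        (commutator_le_right_of_le_normalizer hRQk)
    refine h2.trans ?_
    apply le_pCoreOf p inf_le_left
    · exact le_normalizer_inf Subgroup.le_normalizer hRQk
    · exact (hQp.map (cj k)).to_le inf_le_right
  have hRHcP : ⁅R, Hc⁆ ≤ P := by
    rw [Subgroup.commutator_le]
    intro r hr x hx
    exact (mem_commCent.1 (hcl1 hx)).2 r hr
  have hRH₁P : ⁅R, H₁⁆ ≤ P := (Subgroup.commutator_mono le_rfl hn₁.1).trans hRHcP
  have h3 : ⁅⁅H₁, H₁⁆, H₂⁆ ≤ P := by
    apply three_subgroups_rel P H₁ H₁ H₂ (hn₁.1.trans hHcP) (hn₁.1.trans hHcP)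
      (hn₂.1.trans hHcP) hRH₁P
    rw [Subgroup.commutator_comm H₂ H₁]
    exact hRH₁P
  obtain ⟨hQW, hWL, hLW, hLK, hKW, hconj, hWKQ, hKQ⟩ :=
    wcs_closure_structure hQp hwc (le_sup_right : Q ≤ H₁ ⊔ Q) _ K₁ rfl hK₁
  have hQH₁ : Q ≤ Subgroup.normalizer (H₁ : Set H) := hQHc.trans hn₁.2
  have hK₁H₁ : K₁ ≤ H₁ := by
    rw [hK₁]; exact pResidualOf_le_of_le_sup H₁ Q _ hQH₁ hQp hWL
  have hK₁cl : K₁ = Subgroup.closure
      {b : H | b ∈ weakClosure Q (H₁ ⊔ Q) ∧ Nat.Coprime (orderOf b) p} := by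
    rw [hK₁, pResidualOf_eq_closure]
  have hgen : ∀ D : Subgroup H, (∀ b ∈ K₁, Nat.Coprime (orderOf b) p → b ∈ D) → K₁ ≤ D := by
    intro D hD
    refine le_trans (le_of_eq hK₁cl) ?_
    rw [Subgroup.closure_le]
    rintro b ⟨hb, hcop⟩
    refine hD b ?_ hcop
    rw [hK₁cl]
    exact Subgroup.subset_closure ⟨hb, hcop⟩
  -- decomposition of elements of Q
  have hdec : ∀ q ∈ Q, ∃ a ∈ H₁, ∃ b ∈ H₂, q = a * b := by
    intro q hq
    have hq' : q ∈ ((H₁ ⊔ H₂ : Subgroup H) : Set H) := by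
      rw [hprod]; exact hQHc hq
    rw [Subgroup.coe_mul_of_right_le_normalizer_left H₁ H₂ (hn₂.1.trans hn₁.2)] at hq'
    obtain ⟨a, ha, b, hb, rfl⟩ := hq'
    exact ⟨a, ha, b, hb, rfl⟩
  have h6 : K₁ ≤ ⁅H₁, H₁⁆ ⊔ R := by
    refine le_trans (le_of_eq hKQ.symm) ?_
    rw [Subgroup.commutator_le]
    intro x hx q hq
    obtain ⟨a, ha, b, hb, rfl⟩ := hdec q hq
    have e : ⁅x, a * b⁆ = ⁅x, a⁆ * (a * ⁅x, b⁆ * a⁻¹) := by
      simp only [commutatorElement_def]; group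
    rw [e]
    apply Subgroup.mul_mem
    · exact Subgroup.mem_sup_left (Subgroup.commutator_mem_commutator (hK₁H₁ hx) ha)
    · apply Subgroup.mem_sup_right
      exact ((Subgroup.mem_normalizer_iff.1 (hHcR (hn₁.1 ha))) _).1
        (Subgroup.commutator_mem_commutator (hK₁H₁ hx) hb)
  have h7a : ⁅H₁, H₁⁆ ≤ commCent H₂ P := by
    apply le_commCent
    · exact ((commutator_le_left_of_le_normalizer Subgroup.le_normalizer).trans hn₁.1).trans hHcP
    · rw [Subgroup.commutator_comm]; exact h3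
  have h7b : R ≤ commCent H₂ P := by
    apply le_commCent ((hRH₁.trans hn₁.1).trans hHcP)
    rw [Subgroup.commutator_comm]
    exact (Subgroup.commutator_mono le_rfl hn₂.1).trans hRHcP
  have h7 : K₁ ≤ commCent H₂ P := h6.trans (sup_le h7a h7b)
  have hK₁H₂' : ⁅H₂, K₁⁆ ≤ P := by
    rw [Subgroup.commutator_le]
    intro h hh k hk
    exact (mem_commCent.1 (h7 hk)).2 h hh
  have hK₁H₂ : ⁅K₁, H₂⁆ ≤ P := by rw [Subgroup.commutator_comm]; exact hK₁H₂'
  have hH₁K : H₁ ≤ Subgroup.normalizer (K₁ : Set H) := le_sup_left.trans hLK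
  have hQK : Q ≤ Subgroup.normalizer (K₁ : Set H) := le_sup_right.trans hLK
  have hPK : P ≤ Subgroup.normalizer (K₁ : Set H) := (hPR.trans hRH₁).trans hH₁K
  have hH₂K : H₂ ≤ Subgroup.normalizer (K₁ : Set H) := by
    apply le_normalizer_of_map_cj_le
    intro h hh
    rw [Subgroup.map_le_iff_le_comap]
    apply hgen
    intro b hbK hcop
    rw [Subgroup.mem_comap]
    have e : cj h b = ⁅h, b⁆ * b := by rw [cj_apply, commutatorElement_def]; group
    have hmem : cj h b ∈ K₁ ⊔ P := by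
      rw [e]
      exact Subgroup.mul_mem _
        (Subgroup.mem_sup_right (hK₁H₂' (Subgroup.commutator_mem_commutator hh hbK)))
        (Subgroup.mem_sup_left hbK)
    have hcop' : Nat.Coprime (orderOf (cj h b)) p := by
      rw [orderOf_injective (cj h) (cj_injective h)]; exact hcop
    exact mem_of_coprime_of_mem_sup' K₁ P hPK hPp hmem hcop'
  have hHcK : Hc ≤ Subgroup.normalizer (K₁ : Set H) := by
    rw [← hprod]; exact sup_le hH₁K hH₂K
  have h9 : ⁅K₁, H₁⁆ = K₁ := by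
    apply le_antisymm (commutator_le_left_of_le_normalizer hH₁K)
    have hPC' : P ≤ Subgroup.normalizer ((⁅K₁, H₁⁆ : Subgroup H) : Set H) :=
      le_normalizer_commutator hPK ((hPR.trans hRH₁).trans Subgroup.le_normalizer)
    have hK₁C'P : K₁ ≤ ⁅K₁, H₁⁆ ⊔ P := by
      refine le_trans (le_of_eq hKQ.symm) ?_
      rw [Subgroup.commutator_le]
      intro x hx q hq
      obtain ⟨a, ha, b, hb, rfl⟩ := hdec q hq
      have e : ⁅x, a * b⁆ = ⁅x, a⁆ * (a * ⁅x, b⁆ * a⁻¹) := by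
        simp only [commutatorElement_def]; group
      rw [e]
      apply Subgroup.mul_mem
      · exact Subgroup.mem_sup_left (Subgroup.commutator_mem_commutator hx ha)
      · apply Subgroup.mem_sup_right
        exact ((Subgroup.mem_normalizer_iff.1 (hHcP (hn₁.1 ha))) _).1
          (hK₁H₂ (Subgroup.commutator_mem_commutator hx hb))
    apply hgen
    intro b hbK hcop
    exact mem_of_coprime_of_mem_sup' _ P hPC' hPp (hK₁C'P hbK) hcop
  refine ⟨hKQ, h9, ?_, hHcK, hK₁H₂.trans hPHc, hK₁H₁, ?_, ?_⟩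
  · refine le_trans (le_of_eq h9.symm) ?_
    exact Subgroup.commutator_mono hK₁H₁ le_rfl
  · intro h hh
    obtain ⟨r, hr, hhr⟩ := hconj h (Subgroup.mem_sup_left hh)
    refine ⟨r, hr, r⁻¹ * h, mem_normalizer_iff_map_cj.2 ?_, by group⟩
    rw [← map_cj_mul, hhr, map_cj_map_cj_inv]
  · rw [hK₁]
    exact pResidualOf_mono (hWL.trans (sup_le hn₁.1 hQHc))

end

end Cfsg.Agent.Helper14
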