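import Cfsg.Agent.Helper14.Frattini
import Cfsg.Agent.Helper14.Amalgam4
import Cfsg.Prelude.Def_Transfer

set_option autoImplicit false
set_option linter.unusedSectionVars false

namespace Cfsg.Agent.Helper14

open Cfsg
open scoped commutatorElement

section

variable {G : Type*} [Group G] {p : ℕ} [Fact p.Prime]

/-- type-level form of `C_H(O_p(H)) ≤ O_p(H)` from the ambient form -/
theorem charP_of_ambient {H : Subgroup G}
    (h : H ⊓ Subgroup.centralizer (pCoreOf p H : Set G) ≤ pCoreOf p H) :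
    Subgroup.centralizer (pCore p ↥H : Set ↥H) ≤ pCore p ↥H := by
  intro x hx
  have hx' : (x : G) ∈ H ⊓ Subgroup.centralizer (pCoreOf p H : Set G) := by
    refine ⟨x.2, ?_⟩
    show (x : G) ∈ Subgroup.centralizer (pCoreOf p H : Set G)
    rw [Subgroup.mem_centralizer_iff]
    rintro _ ⟨y, hy, rfl⟩
    have := Subgroup.mem_centralizer_iff.1 hx y hy
    exact congrArg Subtype.val this
  obtain ⟨z, hz, hzx⟩ := h hx'
  have : z = x := Subtype.ext hzx
  rwa [← this]

/-- `H` normalizes `H ⊓ C(O_p(H))` -/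
theorem le_normalizer_inf_centralizer_pCoreOf (H : Subgroup G) :
    H ≤ Subgroup.normalizer ((H ⊓ Subgroup.centralizer (pCoreOf p H : Set G) : Subgroup G) : Set G) := by
  apply le_normalizer_of_map_cj_le
  intro g hg
  rw [map_cj_inf, map_cj_centralizer, map_cj_eq_self_of_mem hg]
  have : (pCoreOf p H).map (cj g) = pCoreOf p H := by
    have := pCoreOf_map_conj p H g
    rw [← this]
    congr 1
    exact map_cj_eq_self_of_mem hg
  rw [this]

/-- if `C_H(O_p(H))` is a `p`-group then it lies in `O_p(H)` -/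
theorem charP_of_isPGroup {H : Subgroup G}
    (h : IsPGroup p ↥(H ⊓ Subgroup.centralizer (pCoreOf p H : Set G) : Subgroup G)) :
    H ⊓ Subgroup.centralizer (pCoreOf p H : Set G) ≤ pCoreOf p H :=
  le_pCoreOf p inf_le_left (le_normalizer_inf_centralizer_pCoreOf H) h

/-- normal subgroups of a group of characteristic `p` have `C_H(O_p(H))` a `p`-group -/
theorem isPGroup_inf_centralizer_of_normal [Finite G]
    (hchar : Subgroup.centralizer (pCore p G : Set G) ≤ pCore p G) (H : Subgroup G) [hH : H.Normal] :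
    IsPGroup p ↥(H ⊓ Subgroup.centralizer (pCoreOf p H : Set G) : Subgroup G) := by
  set Q := pCore p G with hQ
  set R := pCoreOf p H with hR
  set L := H ⊓ Subgroup.centralizer (R : Set G) with hL
  have hQn : Q.Normal := pCore_normal p
  apply isPGroup_of_nilpotent_action Q (pCore_isPGroup p) hchar L
  · rw [Subgroup.normalizer_eq_top]; exact le_top
  · refine ⟨2, ?_⟩
    show ⁅⁅Q, L⁆, L⁆ = ⊥
    have h1 : ⁅Q, L⁆ ≤ R := by
      have h2 : ⁅Q, L⁆ ≤ Q ⊓ H :=
        le_inf (Subgroup.commutator_le_left Q L)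
          ((Subgroup.commutator_mono le_rfl inf_le_left).trans (Subgroup.commutator_le_right Q H))
      refine h2.trans ?_
      apply le_pCoreOf p inf_le_right
      · have : (Q ⊓ H).Normal := inferInstance
        rw [Subgroup.normalizer_eq_top]; exact le_top
      · exact (pCore_isPGroup (G := G) p).to_le inf_le_left
    rw [eq_bot_iff]
    refine (Subgroup.commutator_mono h1 le_rfl).trans ?_
    rw [Subgroup.commutator_comm, le_bot_iff, Subgroup.commutator_eq_bot_iff_le_centralizer]
    exact inf_le_right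

/-- `K ≤ H`, `H` normalizes `K`, `H/K` is a `p`-group and `K` has characteristic `p`:
then `C_H(O_p(H))` is a `p`-group -/
theorem isPGroup_inf_centralizer_of_pQuotient [Finite G] (K H : Subgroup G) (hKH : K ≤ H)
    (hnorm : H ≤ Subgroup.normalizer (K : Set G))
    (hquot : ∀ h ∈ H, ∃ n : ℕ, h ^ (p ^ n) ∈ K)
    (hK : K ⊓ Subgroup.centralizer (pCoreOf p K : Set G) ≤ pCoreOf p K) :
    IsPGroup p ↥(H ⊓ Subgroup.centralizer (pCoreOf p H : Set G) : Subgroup G) := by
  have h1 : pCoreOf p K ≤ pCoreOf p H := by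
    apply le_pCoreOf p ((pCoreOf_le p K).trans hKH)
    · apply le_normalizer_of_map_cj_le
      intro g hg
      have := pCoreOf_map_conj p K g
      have e : K.map (cj g) = K := mem_normalizer_iff_map_cj.1 (hnorm hg)
      show (pCoreOf p K).map (MulAut.conj g).toMonoidHom ≤ _
      rw [← this]
      show pCoreOf p (K.map (cj g)) ≤ _
      rw [e]
    · exact pCoreOf_isPGroup p K
  rintro ⟨c, hcH, hcC⟩
  obtain ⟨n, hn⟩ := hquot c hcH
  have h2 : c ^ (p ^ n) ∈ K ⊓ Subgroup.centralizer (pCoreOf p K : Set G) :=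
    ⟨hn, Subgroup.centralizer_le h1 (Subgroup.pow_mem _ hcC _)⟩
  obtain ⟨m, hm⟩ := (pCoreOf_isPGroup p K) ⟨_, hK h2⟩
  refine ⟨n + m, ?_⟩
  apply Subtype.ext
  have hm' : (c ^ (p ^ n)) ^ (p ^ m) = 1 := by
    have := congrArg Subtype.val hm
    simpa using this
  rw [Subgroup.coe_pow, Subgroup.coe_one]
  show c ^ (p ^ (n + m)) = 1
  rw [pow_add, pow_mul, hm']

/-- `H / O^p(H)` is a `p`-group, elementwise -/
theorem exists_pow_mem_pResidual {H : Type*} [Group H] [Finite H] (h : H) :
    ∃ n : ℕ, h ^ (p ^ n) ∈ pResidual p H := by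
  have hp : p.Prime := Fact.out
  obtain ⟨n, m, hm, hnm⟩ := Nat.exists_eq_pow_mul_and_not_dvd (orderOf_pos h).ne' p hp.ne_one
  refine ⟨n, ?_⟩
  apply Subgroup.subset_closure
  show Nat.Coprime (orderOf (h ^ (p ^ n))) p
  have : orderOf (h ^ (p ^ n)) = m := by
    rw [orderOf_pow' h (pow_ne_zero n hp.ne_zero), hnm, Nat.gcd_eq_right (Dvd.intro _ rfl),
      Nat.mul_div_cancel_left m (pow_pos hp.pos n)]
  rw [this]
  exact ((Nat.Prime.coprime_iff_not_dvd hp).2 hm).symm

/-- S2760 for general `p` -/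
theorem charP_of_normal_or_pResidual_normal [Finite G]
    (hchar : Subgroup.centralizer (pCore p G : Set G) ≤ pCore p G) (H : Subgroup G)
    (hH : H.Normal ∨ ((pResidual p ↥H).map H.subtype).Normal) :
    Subgroup.centralizer (pCore p ↥H : Set ↥H) ≤ pCore p ↥H := by
  apply charP_of_ambient
  apply charP_of_isPGroup
  rcases hH with hH | hH
  · exact isPGroup_inf_centralizer_of_normal hchar H
  · set K := (pResidual p ↥H).map H.subtype with hK
    have hKH : K ≤ H := by
      rintro _ ⟨x, _, rfl⟩; exact x.2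
    apply isPGroup_inf_centralizer_of_pQuotient K H hKH
    · rw [Subgroup.normalizer_eq_top]; exact le_top
    · intro h hh
      obtain ⟨n, hn⟩ := exists_pow_mem_pResidual (p := p) (⟨h, hh⟩ : ↥H)
      exact ⟨n, ⟨_, hn, rfl⟩⟩
    · exact charP_of_isPGroup (isPGroup_inf_centralizer_of_normal hchar K)

end

end Cfsg.Agent.Helper14
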