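import Cfsg.Agent.Helper14.Amalgam
import Cfsg.Agent.Helper14.Conj

set_option autoImplicit false

namespace Cfsg.Agent.Helper14

open Cfsg

section ZC

variable {X : Type*} [Group X] (p : ℕ)

/-- `Ω₁(Z(S))` for a subgroup `S` of `X`, in `X`. -/
abbrev ozc (S : Subgroup X) : Subgroup X :=
  omegaOne p (S ⊓ Subgroup.centralizer (S : Set X))

theorem ozc_le (S : Subgroup X) : ozc p S ≤ S := (omegaOne_le p _).trans inf_le_left

theorem map_cj_ozc (S : Subgroup X) (g : X) : (ozc p S).map (cj g) = ozc p (S.map (cj g)) := by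
  unfold ozc
  rw [map_cj_omegaOne, map_cj_inf, map_cj_centralizer]

theorem sylowCenterClosure_eq (H : Subgroup X) :
    sylowCenterClosure p H = ⨆ S : Sylow p ↥H, ozc p ((S : Subgroup ↥H).map H.subtype) := rfl

theorem sylowCenterClosure_le (H : Subgroup X) : sylowCenterClosure p H ≤ H := by
  rw [sylowCenterClosure_eq]
  apply iSup_le
  intro S
  refine (ozc_le p _).trans ?_
  rintro _ ⟨x, _, rfl⟩
  exact x.2

theorem le_normalizer_sylowCenterClosure (H : Subgroup X) :
    H ≤ Subgroup.normalizer (sylowCenterClosure p H : Set X) := by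
  apply le_normalizer_of_map_cj_le
  intro g hg
  rw [sylowCenterClosure_eq, Subgroup.map_iSup]
  apply iSup_le
  intro S
  rw [map_cj_ozc]
  have := sylow_smul_map H S ⟨g, hg⟩
  simp only at this
  rw [← this]
  exact le_iSup (fun S : Sylow p ↥H => ozc p ((S : Subgroup ↥H).map H.subtype)) _

theorem ozc_le_sylowCenterClosure (H : Subgroup X) (S : Sylow p ↥H) :
    ozc p ((S : Subgroup ↥H).map H.subtype) ≤ sylowCenterClosure p H :=
  le_iSup (fun S : Sylow p ↥H => ozc p ((S : Subgroup ↥H).map H.subtype)) S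

theorem commutator_le_left_of_le_normalizer {H K : Subgroup X}
    (h : K ≤ Subgroup.normalizer (H : Set X)) : ⁅H, K⁆ ≤ H := by
  rw [Subgroup.commutator_le]
  intro a ha b hb
  have hb' := h hb
  rw [Subgroup.mem_normalizer_iff] at hb'
  rw [commutatorElement_def]
  have : a * b * a⁻¹ * b⁻¹ = a * (b * a⁻¹ * b⁻¹) := by group
  rw [this]
  exact H.mul_mem ha ((hb' a⁻¹).1 (H.inv_mem ha))

theorem commutator_le_right_of_le_normalizer {H K : Subgroup X}
    (h : H ≤ Subgroup.normalizer (K : Set X)) : ⁅H, K⁆ ≤ K := by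
  rw [Subgroup.commutator_comm]
  exact commutator_le_left_of_le_normalizer h

end ZC

section Graph

theorem exists_adj_dist_lt {V : Type*} (G : SimpleGraph V) (hc : G.Connected) {u v : V}
    (h : u ≠ v) : ∃ w, G.Adj u w ∧ G.dist w v < G.dist u v := by
  obtain ⟨w, hw⟩ := hc.exists_walk_length_eq_dist u v
  cases w with
  | nil => exact absurd rfl h
  | cons hadj q =>
    refine ⟨_, hadj, ?_⟩
    rw [← hw, SimpleGraph.Walk.length_cons]
    exact Nat.lt_succ_of_le (SimpleGraph.dist_le q)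

end Graph

section Critical

variable {X : Type*} [Group X] {p : ℕ} [Fact p.Prime] (M₁ M₂ : Subgroup X)

theorem neighbourKernel_le_stab (δ μ : CosetVertex M₁ M₂) (h : (cosetGraph M₁ M₂).Adj δ μ) :
    neighbourKernel δ ≤ MulAction.stabilizer X μ := by
  unfold neighbourKernel
  refine inf_le_right.trans ?_
  exact iInf₂_le (f := fun μ (_ : μ ∈ (cosetGraph M₁ M₂).neighborSet δ) => MulAction.stabilizer X μ)
    μ h

theorem neighbourKernel_le_stab_self (δ : CosetVertex M₁ M₂) :
    neighbourKernel δ ≤ MulAction.stabilizer X δ := by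
  unfold neighbourKernel
  exact inf_le_left

/-- below the critical distance, `Z_δ ≤ G_μ^{(1)}` -/
theorem vertexZ_le_of_dist_lt (δ μ : CosetVertex M₁ M₂)
    (h : (cosetGraph M₁ M₂).dist δ μ < criticalDistance p M₁ M₂) :
    vertexZ p δ ≤ neighbourKernel μ := by
  by_contra hcon
  have : (cosetGraph M₁ M₂).dist δ μ ∈ {n : ℕ | ∃ δ μ : CosetVertex M₁ M₂,
      (cosetGraph M₁ M₂).dist δ μ = n ∧ ¬ vertexZ p δ ≤ neighbourKernel μ} := ⟨δ, μ, rfl, hcon⟩
  exact Nat.notMem_of_lt_sInf h this

/-- at most the critical distance, `Z_δ ≤ G_μ` -/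
theorem vertexZ_le_stab_of_dist_le (hgen : M₁ ⊔ M₂ = ⊤) (δ μ : CosetVertex M₁ M₂)
    (h : (cosetGraph M₁ M₂).dist δ μ ≤ criticalDistance p M₁ M₂) :
    vertexZ p δ ≤ MulAction.stabilizer X μ := by
  have hconn := cosetGraph_connected M₁ M₂ hgen
  by_cases hne : μ = δ
  · rw [hne]
    exact sylowCenterClosure_le p _
  · obtain ⟨w, hadj, hlt⟩ := exists_adj_dist_lt _ hconn hne
    have h2 : (cosetGraph M₁ M₂).dist δ w < criticalDistance p M₁ M₂ := by
      rw [SimpleGraph.dist_comm, SimpleGraph.dist_comm (u := μ)] at hlt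
      exact lt_of_lt_of_le hlt h
    exact (vertexZ_le_of_dist_lt M₁ M₂ δ w h2).trans (neighbourKernel_le_stab M₁ M₂ w μ hadj.symm)

theorem critical_pair_mutual (h : IsCharPAmalgamPair p M₁ M₂) (α α' : CosetVertex M₁ M₂)
    (hc : IsCriticalPair p α α') :
    vertexZ p α' ≤ MulAction.stabilizer X α ∧ vertexZ p α ≤ MulAction.stabilizer X α' ∧
      ⁅vertexZ p α, vertexZ p α'⁆ ≤ vertexZ p α ⊓ vertexZ p α' := by
  have hgen := h.1.1
  have h1 : vertexZ p α' ≤ MulAction.stabilizer X α := by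
    apply vertexZ_le_stab_of_dist_le M₁ M₂ hgen
    rw [SimpleGraph.dist_comm, hc.2]
  have h2 : vertexZ p α ≤ MulAction.stabilizer X α' := by
    apply vertexZ_le_stab_of_dist_le M₁ M₂ hgen
    rw [hc.2]
  refine ⟨h1, h2, le_inf ?_ ?_⟩
  · exact commutator_le_left_of_le_normalizer
      (h1.trans (le_normalizer_sylowCenterClosure p _))
  · exact commutator_le_right_of_le_normalizer
      (h2.trans (le_normalizer_sylowCenterClosure p _))

end Critical

end Cfsg.Agent.Helper14
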