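import Cfsg.Agent.Helper14.Stability
import Cfsg.Agent.Helper14.Amalgam2

set_option autoImplicit false
set_option linter.unusedSectionVars false

namespace Cfsg.Agent.Helper14

open Cfsg

variable {H : Type*} [Group H]

theorem iterCommutator_le (R L : Subgroup H) (hL : L ≤ Subgroup.normalizer (R : Set H)) (i : ℕ) :
    iterCommutator R L i ≤ R := by
  induction i with
  | zero => exact le_rfl
  | succ i ih =>
    show ⁅iterCommutator R L i, L⁆ ≤ R
    exact (Subgroup.commutator_mono ih le_rfl).trans (commutator_le_left_of_le_normalizer hL)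

/-- an element acting nilpotently on a finite `p`-group `R` has a `p`-power centralizing `R` -/
theorem pow_mem_centralizer_of_iterCommutator {p : ℕ} [Fact p.Prime] (R : Subgroup H) [Finite ↥R]
    (L : Subgroup H) (hL : L ≤ Subgroup.normalizer (R : Set H)) (n : ℕ)
    (hn : iterCommutator R L n = ⊥) (l : H) (hl : l ∈ L) :
    l ^ ((Nat.card ↥R) ^ n) ∈ Subgroup.centralizer (R : Set H) := by
  have key := stab_chain l (Nat.card ↥R) n (fun i => iterCommutator R L (n - i))
    (by simpa using hn)
    (by
      intro i hi u hu k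
      have e : n - i = (n - (i + 1)) + 1 := by omega
      show _ ∈ iterCommutator R L (n - i)
      rw [e]
      show _ ∈ ⁅iterCommutator R L (n - (i + 1)), L⁆
      have := Subgroup.commutator_mem_commutator hu (L.pow_mem hl k)
      rwa [commutatorElement_def] at this)
    (by
      intro i _ c hc
      exact card_pow_eq_one_of_mem (iterCommutator_le R L hL _ hc))
  rw [Subgroup.mem_centralizer_iff]
  intro u hu
  have hu' : u ∈ (fun i => iterCommutator R L (n - i)) n := by
    show u ∈ iterCommutator R L (n - n)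
    rw [Nat.sub_self]
    exact hu
  have := key n le_rfl u hu'
  exact this.eq.symm

theorem isPGroup_of_nilpotent_action [Finite H] {p : ℕ} [Fact p.Prime] (R : Subgroup H)
    (hR : IsPGroup p ↥R) (hC : Subgroup.centralizer (R : Set H) ≤ R) (L : Subgroup H)
    (hL : L ≤ Subgroup.normalizer (R : Set H)) (hnil : ∃ n : ℕ, iterCommutator R L n = ⊥) :
    IsPGroup p ↥L := by
  obtain ⟨n, hn⟩ := hnil
  obtain ⟨s, hs⟩ := IsPGroup.iff_card.1 hR
  intro l
  have h1 := pow_mem_centralizer_of_iterCommutator (p := p) R L hL n hn l l.2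
  have h2 := card_pow_eq_one_of_mem (hC h1)
  refine ⟨s * n + s, ?_⟩
  apply Subtype.ext
  rw [Subgroup.coe_pow, Subgroup.coe_one]
  rw [← pow_mul, hs] at h2
  rw [← h2]
  congr 1
  rw [← pow_mul, ← pow_add]


theorem le_pCore_of_centralizes_chain [Finite H] {p : ℕ} [Fact p.Prime]
    (hchar : Subgroup.centralizer (pCore p H : Set H) ≤ pCore p H) (L : Subgroup H) (n : ℕ)
    (A : Fin (n + 1) → Subgroup H) (h0 : A 0 = ⊥) (hn : A (Fin.last n) = pCore p H)
    (hmono : Monotone A) (hnorm : ∀ i, (A i).Normal)
    (hcent : ∀ i : Fin n, ⁅A i.succ, L⁆ ≤ A i.castSucc) : L ≤ pCore p H := by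
  set K : Subgroup H := ⨅ i : Fin n, @sectionKernel H _ (A i.succ) (A i.castSucc) (hnorm _) with hK
  have hKn : K.Normal := by
    apply Subgroup.normal_iInf_normal
    intro i
    have := hnorm i.castSucc
    have := hnorm i.succ
    exact sectionKernel_normal
  have hmemK : ∀ g : H, g ∈ K ↔ ∀ i : Fin n, ∀ u ∈ A i.succ, u * g * u⁻¹ * g⁻¹ ∈ A i.castSucc := by
    intro g
    rw [hK, Subgroup.mem_iInf]
    refine forall_congr' fun i => ?_
    have := hnorm i.castSucc
    exact mem_sectionKernel_iff g
  have hLK : L ≤ K := by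
    intro l hl
    rw [hmemK]
    intro i u hu
    have := Subgroup.commutator_mem_commutator hu hl
    rw [commutatorElement_def] at this
    exact hcent i this
  refine hLK.trans (le_pCore p hKn ?_)
  obtain ⟨s, hs⟩ := IsPGroup.iff_card.1 (pCore_isPGroup (G := H) p)
  intro g
  set C : ℕ → Subgroup H := fun j => if h : j < n + 1 then A ⟨j, h⟩ else A (Fin.last n) with hC
  have hCle : ∀ j, C j ≤ pCore p H := by
    intro j
    rw [← hn]
    by_cases h : j < n + 1
    · simp only [hC, dif_pos h]
      exact hmono (Fin.le_last _)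
    · simp only [hC, dif_neg h]
      exact le_rfl
  have key := stab_chain (g : H) (Nat.card ↥(pCore p H)) n C
    (by simp only [hC, dif_pos (Nat.succ_pos n)]; exact h0)
    (by
      intro i hi u hu k
      have hi1 : i + 1 < n + 1 := by omega
      have hi0 : i < n + 1 := by omega
      simp only [hC, dif_pos hi1] at hu
      simp only [hC, dif_pos hi0]
      have hgk : (g : H) ^ k ∈ K := K.pow_mem g.2 k
      exact (hmemK _).1 hgk ⟨i, hi⟩ u hu)
    (by
      intro i _ c hc
      exact card_pow_eq_one_of_mem (hCle i hc))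
  have h1 : (g : H) ^ ((Nat.card ↥(pCore p H)) ^ n) ∈ Subgroup.centralizer (pCore p H : Set H) := by
    rw [Subgroup.mem_centralizer_iff]
    intro u hu
    have hu' : u ∈ C n := by
      simp only [hC, dif_pos (Nat.lt_succ_self n)]
      have : (⟨n, Nat.lt_succ_self n⟩ : Fin (n + 1)) = Fin.last n := rfl
      rw [this, hn]; exact hu
    exact (key n le_rfl u hu').eq.symm
  have h2 := card_pow_eq_one_of_mem (hchar h1)
  refine ⟨s * n + s, ?_⟩
  apply Subtype.ext
  rw [Subgroup.coe_pow, Subgroup.coe_one]
  rw [← pow_mul, hs] at h2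
  rw [← h2]
  congr 1
  rw [← pow_mul, ← pow_add]

end Cfsg.Agent.Helper14
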