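import Cfsg.Agent.Helper14.ModTransfer
import Cfsg.Agent.Helper14.PReduced4
import Cfsg.Agent.Helper14.PReduced3
import Cfsg.Agent.Helper14.CharP
import Cfsg.Agent.Helper23.PGroup
import Cfsg.Agent.Helper23.Basic

set_option autoImplicit false
set_option linter.unusedSectionVars false
set_option linter.style.haveILetI false

namespace Cfsg.Agent.Helper14

open Cfsg

section
variable {G : Type*} [Group G] [Finite G] {p : ℕ} [Fact p.Prime]

/-- some `p`-power power of an element of a finite group is a `p'`-element -/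
theorem exists_pow_coprime_order' (d : G) :
    ∃ n : ℕ, Nat.Coprime (orderOf (d ^ (p ^ n))) p := by
  have hp : p.Prime := Fact.out
  obtain ⟨n, m, hm, hnm⟩ := Nat.exists_eq_pow_mul_and_not_dvd (orderOf_pos d).ne' p hp.ne_one
  refine ⟨n, ?_⟩
  have : orderOf (d ^ (p ^ n)) = m := by
    rw [orderOf_pow' d (pow_ne_zero n hp.ne_zero), hnm, Nat.gcd_eq_right (Dvd.intro _ rfl),
      Nat.mul_div_cancel_left m (pow_pos hp.pos n)]
  rw [this]
  exact ((Nat.Prime.coprime_iff_not_dvd hp).2 hm).symm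

/-- a `p`-group `T` acting on `B/A` (`A < B` `p`-groups) has a nontrivial fixed point -/
theorem exists_fixed_mod {A B T : Subgroup G} (hAB : A ≤ B) (hne : ¬ B ≤ A)
    (hBp : IsPGroup p ↥B) (hTp : IsPGroup p ↥T)
    (hTA : T ≤ Subgroup.normalizer (A : Set G)) (hTB : T ≤ Subgroup.normalizer (B : Set G))
    (hBA : B ≤ Subgroup.normalizer (A : Set G)) :
    ∃ u ∈ B, u ∉ A ∧ ∀ t ∈ T, u⁻¹ * (t * u * t⁻¹) ∈ A := by
  set N := B ⊔ T with hN
  have hNp : IsPGroup p ↥N := IsPGroup.to_sup_of_normal_left' hBp hTp hTB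
  have hBN : B ≤ N := le_sup_left
  have hTN : T ≤ N := le_sup_right
  have hAN : A ≤ N := hAB.trans hBN
  have hNA : N ≤ Subgroup.normalizer (A : Set G) := sup_le hBA hTA
  have hNB : N ≤ Subgroup.normalizer (B : Set G) := sup_le Subgroup.le_normalizer hTB
  haveI hA'n : (A.subgroupOf N).Normal := (Subgroup.normal_subgroupOf_iff_le_normalizer hAN).2 hNA
  haveI hB'n : (B.subgroupOf N).Normal := (Subgroup.normal_subgroupOf_iff_le_normalizer hBN).2 hNB
  set A' := A.subgroupOf N with hA'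
  set Q := ↥N ⧸ A'
  have hQp : IsPGroup p Q := hNp.to_quotient A'
  set B'' : Subgroup Q := (B.subgroupOf N).map (QuotientGroup.mk' A') with hB''
  haveI : B''.Normal := hB'n.map _ (QuotientGroup.mk'_surjective A')
  have hB''ne : B'' ≠ ⊥ := by
    intro h
    apply hne
    intro b hb
    have h1 : QuotientGroup.mk' A' ⟨b, hBN hb⟩ ∈ B'' :=
      ⟨⟨b, hBN hb⟩, Subgroup.mem_subgroupOf.2 hb, rfl⟩
    rw [h, Subgroup.mem_bot, QuotientGroup.mk'_apply, QuotientGroup.eq_one_iff] at h1
    exact Subgroup.mem_subgroupOf.1 h1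
  obtain ⟨x, hxB, hxZ, hx1⟩ := Cfsg.Agent.Helper23.exists_mem_inf_center_ne_one hQp B'' hB''ne
  obtain ⟨u, hu, rfl⟩ := hxB
  have huB : (u : G) ∈ B := Subgroup.mem_subgroupOf.1 hu
  refine ⟨u, huB, ?_, ?_⟩
  · intro huA
    apply hx1
    rw [QuotientGroup.mk'_apply, QuotientGroup.eq_one_iff]
    exact Subgroup.mem_subgroupOf.2 huA
  · intro t ht
    rw [Subgroup.mem_center_iff] at hxZ
    have h1 := hxZ (QuotientGroup.mk' A' ⟨t, hTN ht⟩)
    have h2 : QuotientGroup.mk' A' u =
        QuotientGroup.mk' A' (⟨t, hTN ht⟩ * u * ⟨t, hTN ht⟩⁻¹) := by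
      rw [map_mul, map_mul, h1, map_inv, mul_inv_cancel_right]
    rw [QuotientGroup.mk'_apply, QuotientGroup.mk'_apply, QuotientGroup.eq] at h2
    exact Subgroup.mem_subgroupOf.1 h2


/-- **Norm-map lemma.** `V` elementary abelian normalized by `D` and the `p`-group `T`; `T` normalizes
`D` and a Sylow `p`-subgroup `T₀` of `D`. If `D` centralizes `C_V(T)` then `D` centralizes `C_V(T₀)`. -/
theorem centralizer_fixed_of_sylow {V D T T₀ : Subgroup G} (hV : IsElementaryAbelian p V)
    (hDV : D ≤ Subgroup.normalizer (V : Set G)) (hTV : T ≤ Subgroup.normalizer (V : Set G))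
    (hTD : T ≤ Subgroup.normalizer (D : Set G)) (hTp : IsPGroup p ↥T)
    (hT₀ : IsSylowIn p T₀ D) (hTT₀ : T ≤ Subgroup.normalizer (T₀ : Set G))
    (h : V ⊓ Subgroup.centralizer (T : Set G) ≤ Subgroup.centralizer (D : Set G)) :
    V ⊓ Subgroup.centralizer (T₀ : Set G) ≤ Subgroup.centralizer (D : Set G) := by
  classical
  have hp : p.Prime := Fact.out
  have : IsMulCommutative ↥V := hV.1
  let _ : CommGroup ↥V := { (inferInstance : Group ↥V) with mul_comm := mul_comm' }
  let act : MulDistribMulAction ↥D ↥V :=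
    { smul := fun k z => ⟨k.1 * z.1 * k.1⁻¹, (Subgroup.mem_normalizer_iff.1 (hDV k.2) z.1).1 z.2⟩
      one_smul := fun z => Subtype.ext (by show (1 : G) * z.1 * (1 : G)⁻¹ = z.1; simp)
      mul_smul := fun a b z => Subtype.ext (by
        show (a.1 * b.1) * z.1 * (a.1 * b.1)⁻¹ = a.1 * (b.1 * z.1 * b.1⁻¹) * a.1⁻¹
        group)
      smul_mul := fun k a b => Subtype.ext (by
        show k.1 * (a.1 * b.1) * k.1⁻¹ = (k.1 * a.1 * k.1⁻¹) * (k.1 * b.1 * k.1⁻¹)
        group)
      smul_one := fun k => Subtype.ext (by show k.1 * (1 : G) * k.1⁻¹ = 1; simp) }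
  have hsmul : ∀ (k : ↥D) (z : ↥V), ((k • z : ↥V) : G) = k.1 * z.1 * k.1⁻¹ := fun _ _ => rfl
  by_contra hcon
  set U₁ := V ⊓ Subgroup.centralizer (T₀ : Set G) with hU₁
  set U₀ := V ⊓ Subgroup.centralizer (D : Set G) with hU₀
  have hU₀₁ : U₀ ≤ U₁ := inf_le_inf_left V (Subgroup.centralizer_le hT₀.1)
  have hne : ¬ U₁ ≤ U₀ := fun hle => hcon (hle.trans inf_le_right)
  have hVp : IsPGroup p ↥V := isPGroup_of_isElementaryAbelian hV
  have hTU₁ : T ≤ Subgroup.normalizer (U₁ : Set G) :=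
    le_normalizer_inf hTV (hTT₀.trans (normalizer_le_normalizer_centralizer' T₀))
  have hTU₀ : T ≤ Subgroup.normalizer (U₀ : Set G) :=
    le_normalizer_inf hTV (hTD.trans (normalizer_le_normalizer_centralizer' D))
  have hU₁U₀ : U₁ ≤ Subgroup.normalizer (U₀ : Set G) := by
    intro x hx
    rw [Subgroup.mem_normalizer_iff]
    intro y
    have hxV : x ∈ V := hx.1
    constructor
    · intro hy
      have : x * y * x⁻¹ = y := by
        have h1 : x * y = y * x := congrArg Subtype.val (mul_comm' (⟨x, hxV⟩ : ↥V) ⟨y, hy.1⟩)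
        rw [h1]; group
      rw [this]; exact hy
    · intro hy
      have hyV : x * y * x⁻¹ ∈ V := hy.1
      have hyV' : y ∈ V := by
        have : y = x⁻¹ * (x * y * x⁻¹) * x := by group
        rw [this]
        exact V.mul_mem (V.mul_mem (V.inv_mem hxV) hyV) hxV
      have : x * y * x⁻¹ = y := by
        have h1 : x * y = y * x := congrArg Subtype.val (mul_comm' (⟨x, hxV⟩ : ↥V) ⟨y, hyV'⟩)
        rw [h1]; group
      rw [this] at hy; exact hy
  obtain ⟨u, huU₁, huU₀, hfix⟩ := exists_fixed_mod hU₀₁ hne (hVp.to_le inf_le_left) hTp hTU₀ hTU₁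
    hU₁U₀
  have huV : u ∈ V := huU₁.1
  set u' : ↥V := ⟨u, huV⟩ with hu'
  -- orbit finsets and norm
  set Of : ↥V → Finset ↥V := fun z => (Set.toFinite (MulAction.orbit ↥D z)).toFinset with hOf
  have hmemO : ∀ z x : ↥V, x ∈ Of z ↔ x ∈ MulAction.orbit ↥D z := fun z x => by
    rw [hOf]; simp only [Set.Finite.mem_toFinset]
  set Nf : ↥V → ↥V := fun z => ∏ x ∈ Of z, x with hNf
  have hinv : ∀ (z : ↥V) (k : ↥D), k • Nf z = Nf z := by
    intro z k
    show k • (∏ x ∈ Of z, x) = ∏ x ∈ Of z, x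
    rw [Finset.smul_prod']
    refine Finset.prod_nbij' (fun x => k • x) (fun x => k⁻¹ • x) ?_ ?_ ?_ ?_ ?_
    · intro x hx
      rw [hmemO] at hx ⊢
      obtain ⟨g, rfl⟩ := hx
      exact ⟨k * g, mul_smul k g z⟩
    · intro x hx
      rw [hmemO] at hx ⊢
      obtain ⟨g, rfl⟩ := hx
      exact ⟨k⁻¹ * g, mul_smul k⁻¹ g z⟩
    · intro x _; simp
    · intro x _; simp
    · intro x _; rfl
  have hNfC : ∀ z : ↥V, ((Nf z : ↥V) : G) ∈ Subgroup.centralizer (D : Set G) := by
    intro z
    rw [Subgroup.mem_centralizer_iff]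
    intro k hk
    have := congrArg Subtype.val (hinv z ⟨k, hk⟩)
    rw [hsmul] at this
    calc k * ((Nf z : ↥V) : G) = (k * ((Nf z : ↥V) : G) * k⁻¹) * k := by group
      _ = ((Nf z : ↥V) : G) * k := by rw [this]
  set n := (Of u').card with hn
  -- `n` is prime to `p`
  have hcard : ¬ p ∣ n := by
    have h1 : n = (MulAction.orbit ↥D u').ncard := by
      rw [hn, hOf, Set.ncard_eq_toFinset_card _ (Set.toFinite _)]
    rw [h1, ← MulAction.index_stabilizer]
    have h2 : (hT₀.toSylow : Subgroup ↥D) ≤ MulAction.stabilizer ↥D u' := by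
      intro t ht
      have ht' : (t : G) ∈ T₀ := Subgroup.mem_subgroupOf.1 ht
      rw [MulAction.mem_stabilizer_iff]
      apply Subtype.ext
      rw [hsmul]
      show t.1 * u * t.1⁻¹ = u
      have := Subgroup.mem_centralizer_iff.1 huU₁.2 t.1 ht'
      rw [this]; group
    intro hdvd
    exact Sylow.not_dvd_index hT₀.toSylow (hdvd.trans (Subgroup.index_dvd_of_le h2))
  have hcop : Nat.Coprime n p := ((Nat.Prime.coprime_iff_not_dvd hp).2 hcard).symm
  -- the element `w`
  set w : ↥V := u' ^ n * (Nf u')⁻¹ with hw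
  -- `w` is `T`-fixed
  have hwT : (w : G) ∈ Subgroup.centralizer (T : Set G) := by
    rw [Subgroup.mem_centralizer_iff]
    intro t ht
    have htV := hTV ht
    have htD := hTD ht
    -- conjugation by `t` on `V`
    let φ : ↥V →* ↥V :=
      { toFun := fun z => ⟨t * z.1 * t⁻¹, (Subgroup.mem_normalizer_iff.1 htV z.1).1 z.2⟩
        map_one' := Subtype.ext (by show t * (1 : G) * t⁻¹ = 1; simp)
        map_mul' := fun a b => Subtype.ext (by
          show t * (a.1 * b.1) * t⁻¹ = (t * a.1 * t⁻¹) * (t * b.1 * t⁻¹)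
          group) }
    have hφ : ∀ z : ↥V, ((φ z : ↥V) : G) = t * z.1 * t⁻¹ := fun _ => rfl
    have hφinj : Function.Injective φ := by
      intro a b hab
      have := congrArg Subtype.val hab
      rw [hφ, hφ] at this
      apply Subtype.ext
      have h1 : a.1 = t⁻¹ * (t * a.1 * t⁻¹) * t := by group
      rw [h1, this]; group
    -- `c = u⁻¹ (t u t⁻¹) ∈ U₀`
    set c : ↥V := u'⁻¹ * φ u' with hc
    have hcU₀ : (c : G) ∈ U₀ := hfix t ht
    have hφu : φ u' = u' * c := by rw [hc]; group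
    -- `c` is fixed by `D`
    have hcD : ∀ k : ↥D, k • c = c := by
      intro k
      apply Subtype.ext
      rw [hsmul]
      have := Subgroup.mem_centralizer_iff.1 hcU₀.2 k.1 k.2
      rw [this]; group
    -- orbit of `u' * c`
    have hO1 : Of (u' * c) = (Of u').image (fun x => x * c) := by
      ext x
      rw [Finset.mem_image, hmemO]
      constructor
      · rintro ⟨k, rfl⟩
        refine ⟨k • u', (hmemO _ _).2 ⟨k, rfl⟩, ?_⟩
        show k • u' * c = k • (u' * c)
        rw [smul_mul', hcD k]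
      · rintro ⟨y, hy, rfl⟩
        rw [hmemO] at hy
        obtain ⟨k, rfl⟩ := hy
        refine ⟨k, ?_⟩
        show k • (u' * c) = k • u' * c
        rw [smul_mul', hcD k]
    -- orbit of `φ u'`
    have hO2 : Of (φ u') = (Of u').image φ := by
      ext x
      rw [Finset.mem_image, hmemO]
      constructor
      · rintro ⟨k, rfl⟩
        have hk' : t⁻¹ * k.1 * t ∈ D := by
          have := (Subgroup.mem_normalizer_iff.1 (Subgroup.inv_mem _ htD) k.1).1 k.2
          simpa using this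
        refine ⟨(⟨t⁻¹ * k.1 * t, hk'⟩ : ↥D) • u', (hmemO _ _).2 ⟨_, rfl⟩, ?_⟩
        apply Subtype.ext
        show t * (t⁻¹ * k.1 * t * u * (t⁻¹ * k.1 * t)⁻¹) * t⁻¹ = k.1 * (t * u * t⁻¹) * k.1⁻¹
        group
      · rintro ⟨y, hy, rfl⟩
        rw [hmemO] at hy
        obtain ⟨k, rfl⟩ := hy
        have hk' : t * k.1 * t⁻¹ ∈ D := (Subgroup.mem_normalizer_iff.1 htD k.1).1 k.2
        refine ⟨⟨t * k.1 * t⁻¹, hk'⟩, ?_⟩
        apply Subtype.ext
        show t * k.1 * t⁻¹ * (t * u * t⁻¹) * (t * k.1 * t⁻¹)⁻¹ = t * (k.1 * u * k.1⁻¹) * t⁻¹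
        group
    have hN1 : Nf (u' * c) = Nf u' * c ^ n := by
      show ∏ x ∈ Of (u' * c), x = (∏ x ∈ Of u', x) * c ^ n
      rw [hO1, Finset.prod_image (fun a _ b _ hab => mul_right_cancel hab),
        Finset.prod_mul_distrib, Finset.prod_const]
    have hN2 : Nf (φ u') = φ (Nf u') := by
      show ∏ x ∈ Of (φ u'), x = φ (∏ x ∈ Of u', x)
      rw [hO2, Finset.prod_image (fun a _ b _ hab => hφinj hab), map_prod]
    have hφw : φ w = w := by
      rw [hw, map_mul, map_pow, map_inv, ← hN2, hφu, hN1, mul_pow]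
      group
    have := congrArg Subtype.val hφw
    rw [hφ] at this
    calc t * (w : G) = (t * (w : G) * t⁻¹) * t := by group
      _ = (w : G) * t := by rw [this]
  -- hence `w`, and so `u ^ n`, is centralized by `D`
  have hwD : (w : G) ∈ Subgroup.centralizer (D : Set G) := h ⟨w.2, hwT⟩
  have hun : u ^ n ∈ Subgroup.centralizer (D : Set G) := by
    have h1 : (u' ^ n : ↥V) = w * Nf u' := by rw [hw]; group
    have h2 : u ^ n = (w : G) * ((Nf u' : ↥V) : G) := by
      have := congrArg Subtype.val h1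
      simpa [hu'] using this
    rw [h2]
    exact Subgroup.mul_mem _ hwD (hNfC u')
  have hup : u ^ p = 1 := hV.2 u huV
  obtain ⟨j, hj⟩ := exists_pow_eq_self_of_coprime
    (hcop.coprime_dvd_right (orderOf_dvd_of_pow_eq_one hup))
  apply huU₀
  refine ⟨huV, ?_⟩
  rw [← hj]
  exact Subgroup.pow_mem _ hun j


theorem le_normalizer_pCoreOf' (B : Subgroup G) :
    Subgroup.normalizer (B : Set G) ≤ Subgroup.normalizer ((pCoreOf p B : Subgroup G) : Set G) := by
  intro g hg
  rw [mem_normalizer_iff_map_cj]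
  have := pCoreOf_map_conj p B g
  rw [show B.map (MulAut.conj g).toMonoidHom = B from mem_normalizer_iff_map_cj.1 hg] at this
  exact this.symm

theorem le_normalizer_ozc (B : Subgroup G) :
    Subgroup.normalizer (B : Set G) ≤ Subgroup.normalizer ((ozc p B : Subgroup G) : Set G) := by
  intro g hg
  rw [mem_normalizer_iff_map_cj, map_cj_ozc, mem_normalizer_iff_map_cj.1 hg]

/-- a normal subgroup `B` of a group `K` of characteristic `p` has characteristic `p` (relative) -/
theorem charP_of_normal_rel {B K : Subgroup G} (hBK : B ≤ K)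
    (hKB : K ≤ Subgroup.normalizer (B : Set G))
    (hK : K ⊓ Subgroup.centralizer (pCoreOf p K : Set G) ≤ pCoreOf p K) :
    B ⊓ Subgroup.centralizer (pCoreOf p B : Set G) ≤ pCoreOf p B := by
  have hp : p.Prime := Fact.out
  apply charP_of_isPGroup
  set Q := pCoreOf p K with hQ
  set R := pCoreOf p B with hR
  have hKQ : K ≤ Subgroup.normalizer (Q : Set G) := le_normalizer_pCoreOf p K
  have hQK : Q ≤ K := pCoreOf_le p K
  have hQB : Q ⊓ B ≤ R := by
    apply le_pCoreOf p inf_le_right _ ((pCoreOf_isPGroup p K).to_le inf_le_left)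
    exact le_normalizer_inf (hBK.trans hKQ) Subgroup.le_normalizer
  -- `p'`-elements of `C` are trivial
  have key : ∀ a ∈ B ⊓ Subgroup.centralizer (R : Set G), Nat.Coprime (orderOf a) p → a = 1 := by
    intro a ha hcop
    have haK : a ∈ K := hBK ha.1
    have hac : a ∈ Subgroup.centralizer (Q : Set G) := by
      rw [Subgroup.mem_centralizer_iff]
      intro q hq
      have hz : q * a * q⁻¹ * a⁻¹ ∈ R := by
        apply hQB
        constructor
        · have h1 : a * q⁻¹ * a⁻¹ ∈ Q :=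
            (Subgroup.mem_normalizer_iff.1 (hKQ haK) q⁻¹).1 (Q.inv_mem hq)
          have : q * a * q⁻¹ * a⁻¹ = q * (a * q⁻¹ * a⁻¹) := by group
          rw [this]; exact Q.mul_mem hq h1
        · have h1 : q * a * q⁻¹ ∈ B := (Subgroup.mem_normalizer_iff.1 (hKB (hQK hq)) a).1 ha.1
          exact B.mul_mem h1 (B.inv_mem ha.1)
      have hcomm : Commute (q * a * q⁻¹ * a⁻¹) a :=
        (Subgroup.mem_centralizer_iff.1 ha.2 _ hz)
      have hzo : ∃ k, orderOf (q * a * q⁻¹ * a⁻¹) = p ^ k := by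
        obtain ⟨k, hk⟩ := (pCoreOf_isPGroup p B) ⟨_, hz⟩
        have hk' : (q * a * q⁻¹ * a⁻¹) ^ p ^ k = 1 := by simpa using congrArg Subtype.val hk
        obtain ⟨j, -, hj⟩ := (Nat.dvd_prime_pow hp).1 (orderOf_dvd_of_pow_eq_one hk')
        exact ⟨j, hj⟩
      obtain ⟨k, hk⟩ := hzo
      have h1 := Cfsg.Agent.Helper23.comm_eq_one_of_coprime q a hcomm
        (by rw [hk]; exact Nat.Coprime.pow_right k hcop)
      calc q * a = (q * a * q⁻¹ * a⁻¹) * a * q := by group
        _ = a * q := by rw [h1, one_mul]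
    have haQ : a ∈ Q := hK ⟨haK, hac⟩
    obtain ⟨k, hk⟩ := (pCoreOf_isPGroup p K) ⟨a, haQ⟩
    have hk' : a ^ p ^ k = 1 := by simpa using congrArg Subtype.val hk
    have h2 : orderOf a ∣ p ^ k := orderOf_dvd_of_pow_eq_one hk'
    have h3 : orderOf a = 1 :=
      Nat.Coprime.eq_one_of_dvd (Nat.Coprime.pow_right k hcop) h2
    exact orderOf_eq_one_iff.1 h3
  intro x
  obtain ⟨n, hn⟩ := exists_pow_coprime_order' (p := p) (x : G)
  refine ⟨n, ?_⟩
  apply Subtype.ext
  have := key _ (Subgroup.pow_mem _ x.2 _) hn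
  simpa using this


theorem mem_ozc_of_mem {X : Subgroup G} {x : G} (hx : x ∈ X)
    (hc : x ∈ Subgroup.centralizer (X : Set G)) (hxp : x ^ p = 1) : x ∈ ozc p X :=
  Subgroup.subset_closure ⟨⟨hx, hc⟩, hxp⟩

/-- **Kieler lemma**, relative normal case -/
theorem kieler_normal {B K S : Subgroup G} (hBK : B ≤ K)
    (hKB : K ≤ Subgroup.normalizer (B : Set G)) (hS : IsSylowIn p S K)
    (hK : K ⊓ Subgroup.centralizer (pCoreOf p K : Set G) ≤ pCoreOf p K) :
    B ⊓ Subgroup.centralizer ((ozc p S : Subgroup G) : Set G) =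
      B ⊓ Subgroup.centralizer ((ozc p (S ⊓ B) : Subgroup G) : Set G) := by
  have hB := charP_of_normal_rel hBK hKB hK
  have hSB : IsSylowIn p (S ⊓ B) B := sylow_inf_isSylowIn hS hBK hKB
  have hSK : S ≤ K := hS.1
  set Z := ozc p S with hZ
  set ZB := ozc p (S ⊓ B) with hZB
  have hZe : IsElementaryAbelian p Z := isElementaryAbelian_ozc S
  apply le_antisymm
  · -- `C_B(Z) ≤ C_B(Z_B)` : norm-map lemma
    refine le_inf inf_le_left ?_
    set D := B ⊓ Subgroup.centralizer (Z : Set G) with hD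
    set V := ozc p (pCoreOf p B) with hV
    have hVe : IsElementaryAbelian p V := isElementaryAbelian_ozc _
    have hBV : B ≤ Subgroup.normalizer (V : Set G) :=
      (le_normalizer_pCoreOf p B).trans (le_normalizer_ozc _)
    have hKV : K ≤ Subgroup.normalizer (V : Set G) :=
      (hKB.trans (le_normalizer_pCoreOf' B)).trans (le_normalizer_ozc _)
    have hSZ : S ≤ Subgroup.normalizer (Z : Set G) :=
      Subgroup.le_normalizer.trans (le_normalizer_ozc S)
    have hSD : S ≤ Subgroup.normalizer (D : Set G) :=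
      le_normalizer_inf (hSK.trans hKB) (hSZ.trans (normalizer_le_normalizer_centralizer' Z))
    have hT₀D : S ⊓ B ≤ D :=
      le_inf inf_le_right (inf_le_left.trans (le_centralizer_ozc S))
    have hT₀ : IsSylowIn p (S ⊓ B) D :=
      ⟨hT₀D, hSB.2.1, fun Q hQD hQp hle => hSB.2.2 Q (hQD.trans inf_le_left) hQp hle⟩
    have hST₀ : S ≤ Subgroup.normalizer ((S ⊓ B : Subgroup G) : Set G) :=
      le_normalizer_inf Subgroup.le_normalizer (hSK.trans hKB)
    have hVS : V ≤ S := ((ozc_le (p := p) _).trans (pCoreOf_le_of_isSylowIn hSB)).trans inf_le_left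
    have h : V ⊓ Subgroup.centralizer (S : Set G) ≤ Subgroup.centralizer (D : Set G) := by
      intro x hx
      have hxZ : x ∈ Z := mem_ozc_of_mem (hVS hx.1) hx.2 (hVe.2 x hx.1)
      rw [Subgroup.mem_centralizer_iff]
      intro d hd
      have := Subgroup.mem_centralizer_iff.1 hd.2 x hxZ
      exact this.symm
    have hmain := centralizer_fixed_of_sylow hVe (inf_le_left.trans hBV) (hSK.trans hKV) hSD
      hS.2.1 hT₀ hST₀ h
    have hZBV : ZB ≤ V ⊓ Subgroup.centralizer ((S ⊓ B : Subgroup G) : Set G) :=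
      le_inf (ozc_le_ozc_pCoreOf hSB hB) ((omegaOne_le p _).trans inf_le_right)
    exact Subgroup.le_centralizer_iff.1 (hZBV.trans hmain)
  · -- `C_B(Z_B) ≤ C_B(Z)` : transfer
    refine le_inf inf_le_left ?_
    set C := B ⊓ Subgroup.centralizer (ZB : Set G) with hC
    set V₁ := ozc p (pCoreOf p K) with hV₁
    have hV₁e : IsElementaryAbelian p V₁ := isElementaryAbelian_ozc _
    have hKV₁ : K ≤ Subgroup.normalizer (V₁ : Set G) :=
      (le_normalizer_pCoreOf p K).trans (le_normalizer_ozc _)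
    have hZV₁ : Z ≤ V₁ := ozc_le_ozc_pCoreOf hS hK
    have hV₁S : V₁ ≤ S := (ozc_le (p := p) _).trans (pCoreOf_le_of_isSylowIn hS)
    have hT₀C : S ⊓ B ≤ C := le_inf inf_le_right (le_centralizer_ozc (S ⊓ B))
    have hT₀ : IsSylowIn p (S ⊓ B) C :=
      ⟨hT₀C, hSB.2.1, fun Q hQC hQp hle => hSB.2.2 Q (hQC.trans inf_le_left) hQp hle⟩
    have hCK : C ≤ K := inf_le_left.trans hBK
    intro c hc
    rw [Subgroup.mem_centralizer_iff]
    intro z hz
    have hzS : z ∈ S ⊓ Subgroup.centralizer (S : Set G) := omegaOne_le p _ hz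
    have h1 : z ∈ (V₁ ⊓ Subgroup.centralizer (C : Set G)) ⊔ (V₁ ⊓ B) := by
      apply transfer_fixed_point hV₁e (hCK.trans hKV₁) hT₀ (hZV₁ hz)
      · intro t ht
        exact Subgroup.mem_centralizer_iff.1 hzS.2 t ht.1
      · intro k hk
        constructor
        · have h2 : k * z * k⁻¹ ∈ V₁ :=
            (Subgroup.mem_normalizer_iff.1 (hKV₁ (hCK hk)) z).1 (hZV₁ hz)
          exact V₁.mul_mem h2 (V₁.inv_mem (hZV₁ hz))
        · have h2 : z * k⁻¹ * z⁻¹ ∈ B :=
            (Subgroup.mem_normalizer_iff.1 (hKB (hSK hzS.1)) k⁻¹).1 (B.inv_mem hk.1)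
          have : k * z * k⁻¹ * z⁻¹ = k * (z * k⁻¹ * z⁻¹) := by group
          rw [this]; exact B.mul_mem hk.1 h2
    have hXY : V₁ ⊓ Subgroup.centralizer (C : Set G) ≤
        Subgroup.normalizer ((V₁ ⊓ B : Subgroup G) : Set G) := by
      have : V₁ ⊓ Subgroup.centralizer (C : Set G) ≤ K := (inf_le_left.trans hV₁S).trans hSK
      exact this.trans (le_normalizer_inf hKV₁ hKB)
    have h1' : z ∈ (((V₁ ⊓ Subgroup.centralizer (C : Set G)) ⊔ (V₁ ⊓ B) : Subgroup G) : Set G) := h1
    rw [Subgroup.coe_mul_of_left_le_normalizer_right _ _ hXY] at h1'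
    obtain ⟨c₀, hc₀, w, hw, rfl⟩ := Set.mem_mul.1 h1'
    -- `w ∈ Z_B`
    have hwZB : w ∈ ZB := by
      have hwSB : w ∈ S ⊓ B := ⟨hV₁S hw.1, hw.2⟩
      apply mem_ozc_of_mem hwSB _ (hV₁e.2 w hw.1)
      rw [Subgroup.mem_centralizer_iff]
      intro t ht
      have e1 : t * c₀ = c₀ * t := Subgroup.mem_centralizer_iff.1 hc₀.2 t (hT₀C ht)
      have e2 : t * (c₀ * w) = (c₀ * w) * t := Subgroup.mem_centralizer_iff.1 hzS.2 t ht.1
      have : c₀ * (t * w) = c₀ * (w * t) := by
        calc c₀ * (t * w) = (c₀ * t) * w := by group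
          _ = (t * c₀) * w := by rw [e1]
          _ = t * (c₀ * w) := by group
          _ = (c₀ * w) * t := e2
          _ = c₀ * (w * t) := by group
      exact mul_left_cancel this
    have e3 : w * c = c * w := Subgroup.mem_centralizer_iff.1 hc.2 w hwZB
    have e4 : c * c₀ = c₀ * c := Subgroup.mem_centralizer_iff.1 hc₀.2 c hc
    calc c₀ * w * c = c₀ * (w * c) := by group
      _ = c₀ * (c * w) := by rw [e3]
      _ = (c₀ * c) * w := by group
      _ = (c * c₀) * w := by rw [e4]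
      _ = c * (c₀ * w) := by group


theorem pCoreOf_top : pCoreOf p (⊤ : Subgroup G) = pCore p G := by
  apply le_antisymm
  · apply le_pCore p _ (pCoreOf_isPGroup p ⊤)
    rw [← Subgroup.normalizer_eq_top_iff, eq_top_iff]
    exact le_normalizer_pCoreOf p ⊤
  · apply le_pCoreOf p le_top _ (pCore_isPGroup p)
    have : (pCore p G).Normal := pCore_normal p
    rw [Subgroup.normalizer_eq_top_iff.2 this]

/-- **Kieler lemma** for subnormal subgroups, with the inductive invariants -/
theorem kieler_subnormal (hchar : Subgroup.centralizer (pCore p G : Set G) ≤ pCore p G)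
    (T : Sylow p G) {L : Subgroup G} (hL : L.IsSubnormal) :
    L ⊓ Subgroup.centralizer (pCoreOf p L : Set G) ≤ pCoreOf p L ∧
    IsSylowIn p ((T : Subgroup G) ⊓ L) L ∧
    L ⊓ Subgroup.centralizer ((ozc p (T : Subgroup G) : Subgroup G) : Set G) =
      L ⊓ Subgroup.centralizer ((ozc p ((T : Subgroup G) ⊓ L) : Subgroup G) : Set G) := by
  induction hL with
  | top =>
    refine ⟨?_, ?_, ?_⟩
    · rw [pCoreOf_top]
      exact inf_le_right.trans hchar
    · rw [inf_top_eq]
      exact isSylowIn_of_sylow_le T le_top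
    · rw [inf_top_eq]
  | step B K hBK hK hN ih =>
    obtain ⟨hKc, hKS, hKeq⟩ := ih
    have hKB : K ≤ Subgroup.normalizer (B : Set G) :=
      (Subgroup.normal_subgroupOf_iff_le_normalizer hBK).1 hN
    have hinf : ((T : Subgroup G) ⊓ K) ⊓ B = (T : Subgroup G) ⊓ B := by
      rw [inf_assoc, inf_eq_right.2 hBK]
    refine ⟨charP_of_normal_rel hBK hKB hKc, ?_, ?_⟩
    · have := sylow_inf_isSylowIn hKS hBK hKB
      rwa [hinf] at this
    · have h1 := kieler_normal hBK hKB hKS hKc
      rw [hinf] at h1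
      rw [← h1]
      have h2 : B ⊓ Subgroup.centralizer ((ozc p (T : Subgroup G) : Subgroup G) : Set G) =
          B ⊓ (K ⊓ Subgroup.centralizer ((ozc p (T : Subgroup G) : Subgroup G) : Set G)) := by
        rw [← inf_assoc, inf_eq_left.2 hBK]
      rw [h2, hKeq, ← inf_assoc, inf_eq_left.2 hBK]

end

end Cfsg.Agent.Helper14
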