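import Cfsg.Agent.Helper14.QdOver3

set_option autoImplicit false
set_option linter.unusedSectionVars false

namespace Cfsg.Agent.Helper14

open Matrix Cfsg

section QdOver4

variable {F : Type*} [Field F]

theorem affPi_eq_one_of_centralizes {k : Helper17.affSub F} (hk : k ∈ (affIota F).range)
    (hc : k ∈ Subgroup.centralizer (((affPi F).ker : Subgroup (Helper17.affSub F)) : Set _)) :
    k = 1 := by
  have h1 : affPi F k = 1 := by
    apply sl2_eq_one_of_forall_smul
    intro v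
    have hcomm : affTau v * k = k * affTau v :=
      Subgroup.mem_centralizer_iff.1 hc _ (affTau_mem_ker v)
    have hconj : affTau v = k * affTau v * k⁻¹ := by
      rw [← hcomm]; group
    have := affVec_conj hk (affTau_mem_ker v) (affTau_mem_ker v) hconj
    rw [affVec_affTau] at this
    rw [sl2_smul_eq_mulVec]
    exact this.symm
  have h2 : k ∈ (affIota F).range ⊓ (affPi F).ker := ⟨hk, h1⟩
  rw [range_affIota_inf_ker] at h2
  exact Subgroup.mem_bot.1 h2

theorem qd_natural (V : Subgroup (Helper17.affSub F)) (hV : V = (affPi F).ker) :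
    IsNaturalSL2Module F V (affIota F).range := by
  subst hV
  refine ⟨?_, (affPi F).comp (affIota F).range.subtype, affPsi F, ?_, ?_, ?_⟩
  · rw [Subgroup.normalizer_eq_top]
    exact le_top
  · intro N
    exact ⟨⟨affIota F N, ⟨N, rfl⟩⟩, affPi_affIota N⟩
  · have e1 : ((affPi F).comp (affIota F).range.subtype).ker = ⊥ := by
      rw [eq_bot_iff]
      intro k hk
      rw [MonoidHom.mem_ker] at hk
      have h2 : k.1 ∈ (affIota F).range ⊓ (affPi F).ker := ⟨k.2, hk⟩
      rw [range_affIota_inf_ker] at h2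
      exact Subgroup.mem_bot.2 (Subtype.ext (Subgroup.mem_bot.1 h2))
    have e2 : (Subgroup.centralizer (((affPi F).ker : Subgroup (Helper17.affSub F)) : Set _)).subgroupOf
        (affIota F).range = ⊥ := by
      rw [eq_bot_iff]
      intro k hk
      rw [Subgroup.mem_subgroupOf] at hk
      exact Subgroup.mem_bot.2 (Subtype.ext (affPi_eq_one_of_centralizes k.2 hk))
    rw [e1, e2]
  · intro l v
    have hw : (l : Helper17.affSub F) * v * (l : Helper17.affSub F)⁻¹ ∈ (affPi F).ker :=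
      (MonoidHom.normal_ker (affPi F)).conj_mem _ v.2 _
    refine ⟨⟨_, hw⟩, rfl, ?_⟩
    rw [affPsi_apply, affPsi_apply]
    exact affVec_conj l.2 v.2 hw rfl

variable [Fintype F] {p : ℕ} [Fact p.Prime] [CharP F p]

theorem qd_structure_aux (Q : Subgroup (SpecialLinearGroup (Fin 3) F))
    (hQ : Q = Helper17.affSub F) :
    (∀ M : ↥Q, M ∈ Cfsg.pCore p ↥Q ↔
      ((M : SpecialLinearGroup (Fin 3) F) : Matrix (Fin 3) (Fin 3) F) 0 0 = 1 ∧
      ((M : SpecialLinearGroup (Fin 3) F) : Matrix (Fin 3) (Fin 3) F) 0 1 = 0 ∧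
      ((M : SpecialLinearGroup (Fin 3) F) : Matrix (Fin 3) (Fin 3) F) 1 0 = 0 ∧
      ((M : SpecialLinearGroup (Fin 3) F) : Matrix (Fin 3) (Fin 3) F) 1 1 = 1) ∧
    ∃ K : Subgroup ↥Q,
      (∀ M : ↥Q, M ∈ K ↔
        ((M : SpecialLinearGroup (Fin 3) F) : Matrix (Fin 3) (Fin 3) F) 0 2 = 0 ∧
        ((M : SpecialLinearGroup (Fin 3) F) : Matrix (Fin 3) (Fin 3) F) 1 2 = 0) ∧
      K ⊓ Cfsg.pCore p ↥Q = ⊥ ∧ K ⊔ Cfsg.pCore p ↥Q = ⊤ ∧
      Nonempty (↥K ≃* SpecialLinearGroup (Fin 2) F) ∧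
      Cfsg.IsNaturalSL2Module F (Cfsg.pCore p ↥Q) K := by
  subst hQ
  have hcore := pCore_affSub_eq_ker (F := F) (p := p)
  refine ⟨?_, (affIota F).range, ?_, ?_, ?_, ?_, ?_⟩
  · intro M
    rw [hcore]
    exact mem_ker_affPi_iff M
  · intro M
    exact mem_range_affIota_iff M
  · rw [hcore]; exact range_affIota_inf_ker
  · rw [hcore]; exact range_affIota_sup_ker
  · exact ⟨(MonoidHom.ofInjective affIota_injective).symm⟩
  · exact qd_natural _ hcore

theorem qdOver_eq_affSub : Cfsg.qdOver F = Helper17.affSub F :=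
  Subgroup.closure_eq (Helper17.affSub F)

end QdOver4

end Cfsg.Agent.Helper14
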