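import Mathlib
import Cfsg.Prelude.Def_PLocal
import Cfsg.Agent.Helper17.AffSL

set_option autoImplicit false

namespace Cfsg.Agent.Helper14

open Matrix

/-- `Qd(p)` is the affine subgroup itself. -/
theorem qd_eq_affSub (p : ℕ) [Fact p.Prime] : Cfsg.qd p = Helper17.affSub (ZMod p) :=
  Subgroup.closure_eq (Helper17.affSub (ZMod p))

/-- the four points of the affine plane over `𝔽₂`. -/
abbrev AffPt2 : Type := {v : Fin 3 → ZMod 2 // v 2 = 1}

theorem affPt2_mulVec_mem (M : Helper17.affSub (ZMod 2)) (v : AffPt2) :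
    ((M.1 : Matrix (Fin 3) (Fin 3) (ZMod 2)) *ᵥ v.1) 2 = 1 := by
  have h := M.2
  rw [Helper17.mem_affSub] at h
  simp [Matrix.mulVec, dotProduct, Fin.sum_univ_three, h.1, h.2.1, h.2.2, v.2]

instance affPt2MulAction : MulAction (Helper17.affSub (ZMod 2)) AffPt2 where
  smul M v := ⟨(M.1 : Matrix (Fin 3) (Fin 3) (ZMod 2)) *ᵥ v.1, affPt2_mulVec_mem M v⟩
  one_smul v := Subtype.ext (by
    show ((1 : Helper17.affSub (ZMod 2)).1 : Matrix (Fin 3) (Fin 3) (ZMod 2)) *ᵥ v.1 = v.1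
    simp)
  mul_smul M N v := Subtype.ext (by
    show ((M * N).1 : Matrix (Fin 3) (Fin 3) (ZMod 2)) *ᵥ v.1 =
      (M.1 : Matrix (Fin 3) (Fin 3) (ZMod 2)) *ᵥ ((N.1 : Matrix (Fin 3) (Fin 3) (ZMod 2)) *ᵥ v.1)
    rw [Matrix.mulVec_mulVec]
    rfl)

theorem affPt2_smul_val (M : Helper17.affSub (ZMod 2)) (v : AffPt2) :
    (M • v).1 = (M.1 : Matrix (Fin 3) (Fin 3) (ZMod 2)) *ᵥ v.1 := rfl

end Cfsg.Agent.Helper14
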