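import Cfsg.Agent.Helper14.QdSyl4
import Cfsg.Agent.Helper14.FrattiniChain
import Cfsg.Agent.Helper14.QdTwo

set_option autoImplicit false
set_option linter.unusedSectionVars false

namespace Cfsg.Agent.Helper14

open Matrix Cfsg

section QdSyl5

variable {F : Type*} [Field F] [Fintype F]

theorem map_cj_eq_top_iff {X : Type*} [Group X] (H : Subgroup X) (g : X) :
    H.map (cj g) = ⊤ ↔ H = ⊤ := by
  constructor
  · intro h
    have := congrArg (fun K => K.map (cj g⁻¹)) h
    simp only [map_cj_map_cj_inv] at this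
    rw [this, eq_top_iff]
    intro x _
    rw [mem_map_cj]
    trivial
  · intro h
    rw [h, eq_top_iff]
    intro x _
    rw [mem_map_cj]
    trivial

/-- conjugation as an isomorphism onto the conjugate subgroup -/
noncomputable def cjEquiv {X : Type*} [Group X] (K S : Subgroup X) (g : X)
    (hS : S = K.map (cj g)) : ↥K ≃* ↥S :=
  (K.equivMapOfInjective (cj g) (cj_injective g)).trans (MulEquiv.subgroupCongr hS.symm)

theorem cjEquiv_apply {X : Type*} [Group X] (K S : Subgroup X) (g : X) (hS : S = K.map (cj g))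
    (M : ↥K) : ((cjEquiv K S g hS M : ↥S) : X) = g * (M : X) * g⁻¹ := rfl

theorem cjEquiv_mem_ker_iff (S : Subgroup (Helper17.affSub F)) (g : Helper17.affSub F)
    (hS : S = (qdS0 F).map (cj g)) (M : ↥(qdS0 F)) :
    ((cjEquiv (qdS0 F) S g hS M : ↥S) : Helper17.affSub F) ∈ (affPi F).ker ↔
      (M : Helper17.affSub F) ∈ (affPi F).ker := by
  rw [cjEquiv_apply]
  constructor
  · intro h
    have := (MonoidHom.normal_ker (affPi F)).conj_mem _ h g⁻¹
    have e : g⁻¹ * (g * (M : Helper17.affSub F) * g⁻¹) * g⁻¹⁻¹ = M := by group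
    rwa [e] at this
  · intro h
    exact (MonoidHom.normal_ker (affPi F)).conj_mem _ h g

theorem qd_char_core (p : ℕ) [Fact p.Prime] [CharP F p]
    (S : Subgroup (Helper17.affSub F)) (g : Helper17.affSub F)
    (hS : S = (qdS0 F).map (cj g)) (T : Subgroup ↥S) (hT : T ≠ ⊥) (hTc : T.Characteristic) :
    Subgroup.normalizer ((T.map S.subtype : Subgroup (Helper17.affSub F)) :
        Set (Helper17.affSub F)) =
      Subgroup.normalizer (S : Set (Helper17.affSub F)) ∧
      Subgroup.normalizer (S : Set (Helper17.affSub F)) ≠ ⊤ := by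
  have hNS : Subgroup.normalizer (S : Set (Helper17.affSub F)) = (qdP0 F).map (cj g) := by
    rw [hS, ← map_cj_normalizer, normalizer_qdS0]
  have hne : Subgroup.normalizer (S : Set (Helper17.affSub F)) ≠ ⊤ := by
    rw [hNS, Ne, map_cj_eq_top_iff]
    exact qdP0_ne_top
  refine ⟨?_, hne⟩
  set T' : Subgroup (Helper17.affSub F) := T.map S.subtype with hT'
  have hle : Subgroup.normalizer (S : Set (Helper17.affSub F)) ≤
      Subgroup.normalizer (T' : Set (Helper17.affSub F)) := by
    intro n hn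
    rw [mem_normalizer_iff_map_cj]
    exact map_cj_map_subtype_of_characteristic S T hn
  by_contra hneq
  -- maximality
  have htop : Subgroup.normalizer (T' : Set (Helper17.affSub F)) = ⊤ := by
    rw [← map_cj_eq_top_iff _ g⁻¹]
    apply qdP0_maximal
    · have := Subgroup.map_mono (f := cj g⁻¹) hle
      rwa [hNS, map_cj_map_cj_inv] at this
    · intro h
      apply hneq
      have := congrArg (fun K => K.map (cj g)) h
      simp only [map_cj_inv_map_cj] at this
      rw [this, hNS]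
  have hnorm : T'.Normal := Subgroup.normalizer_eq_top_iff.1 htop
  have hSp : IsPGroup p ↥S := by rw [hS]; exact (isPGroup_qdS0 (p := p)).map _
  have hT'S : T' ≤ S := Subgroup.map_subtype_le T
  have hT'p : IsPGroup p ↥T' := hSp.to_le hT'S
  have hT'ne : T' ≠ ⊥ := by
    intro h
    apply hT
    rw [hT', Subgroup.map_eq_bot_iff_of_injective _ S.subtype_injective] at h
    exact h
  have hT'V : T' = (affPi F).ker := normal_pSubgroup_eq_ker (p := p) T' hT'p hT'ne
  have hTV : ∀ s : ↥S, s ∈ T ↔ (s : Helper17.affSub F) ∈ (affPi F).ker := by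
    intro s
    rw [← hT'V, hT']
    constructor
    · intro h; exact Subgroup.mem_map_of_mem _ h
    · rintro ⟨s', hs', he⟩
      have : s' = s := Subtype.ext he
      rwa [← this]
  -- the automorphism
  obtain ⟨eS, heS⟩ : ∃ eS : ↥(qdS0 F) ≃* ↥S, eS = cjEquiv (qdS0 F) S g hS := ⟨_, rfl⟩
  have hker : ∀ M : ↥(qdS0 F), ((eS M : ↥S) : Helper17.affSub F) ∈ (affPi F).ker ↔
      (M : Helper17.affSub F) ∈ (affPi F).ker := by
    intro M
    rw [heS]
    exact cjEquiv_mem_ker_iff S g hS M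
  obtain ⟨ψ, hψ⟩ : ∃ ψ : ↥S ≃* ↥S, ψ = eS.symm.trans ((heisTheta F).trans eS) := ⟨_, rfl⟩
  have hfix := hTc.fixed ψ
  obtain ⟨t₀, ht₀⟩ : ∃ t₀ : ↥(qdS0 F), t₀ = ⟨heis 0 0 1, heis_mem 0 0 1⟩ := ⟨_, rfl⟩
  have h1 : eS t₀ ∈ T := by
    rw [hTV, hker, ht₀]
    exact (heis_mem_ker_iff 0 0 1).2 rfl
  have h2 : ψ (eS t₀) ∈ T := by
    rw [← hfix] at h1
    exact h1
  have h3 : ψ (eS t₀) = eS (heisTheta F t₀) := by
    rw [hψ, MulEquiv.trans_apply, MulEquiv.trans_apply, MulEquiv.symm_apply_apply]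
  rw [h3, hTV, hker, ht₀, heisTheta_apply, heis_mem_ker_iff] at h2
  have h4 : (1 : F) = 0 := by
    have := congrArg (fun t => -t) h2
    simpa using this
  exact one_ne_zero h4

end QdSyl5

section QdSyl6

/-- S2763 -/
theorem qd_char_aux {p : ℕ} [Fact p.Prime]
    (Q : Subgroup (Matrix.SpecialLinearGroup (Fin 3) (ZMod p)))
    (hQ : Q = Helper17.affSub (ZMod p)) (S : Sylow p ↥Q)
    (T : Subgroup ↥(S : Subgroup ↥Q)) (hT : T ≠ ⊥) (hTc : T.Characteristic) :
    Subgroup.normalizer ((T.map (S : Subgroup ↥Q).subtype : Subgroup ↥Q) : Set ↥Q) =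
      Subgroup.normalizer ((S : Subgroup ↥Q) : Set ↥Q) ∧
    Subgroup.normalizer ((S : Subgroup ↥Q) : Set ↥Q) ≠ ⊤ := by
  subst hQ
  obtain ⟨g, hg⟩ := sylow_eq_map_cj_qdS0 (F := ZMod p) (p := p) S
  exact qd_char_core p (S : Subgroup ↥(Helper17.affSub (ZMod p))) g hg T hT hTc

end QdSyl6

end Cfsg.Agent.Helper14
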