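import Cfsg.Agent.Helper14.QdSyl3

set_option autoImplicit false
set_option linter.unusedSectionVars false

namespace Cfsg.Agent.Helper14

open Matrix Cfsg

section QdSyl4

variable {F : Type*} [Field F]

/-- Heisenberg coordinates -/
def heis (b x y : F) : Helper17.affSub F :=
  ⟨⟨!![1, b, x; 0, 1, y; 0, 0, 1], by rw [Matrix.det_fin_three]; simp⟩, ⟨rfl, rfl, rfl⟩⟩

theorem affMat3_heis (b x y : F) : affMat3 (heis b x y) = !![1, b, x; 0, 1, y; 0, 0, 1] := rfl

theorem heis_mem (b x y : F) : heis b x y ∈ qdS0 F := by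
  rw [mem_qdS0, sl2_stab_iff]
  exact ⟨rfl, rfl⟩

theorem heis_mul (b x y b' x' y' : F) :
    heis b x y * heis b' x' y' = heis (b + b') (x + x' + b * y') (y + y') := by
  apply affMat3_injective
  rw [affMat3_mul, affMat3_heis, affMat3_heis, affMat3_heis]
  ext i j
  fin_cases i <;> fin_cases j <;> simp [Matrix.mul_apply, Fin.sum_univ_three] <;> ring

theorem eq_heis {M : Helper17.affSub F} (hM : M ∈ qdS0 F) :
    M = heis (affMat3 M 0 1) (affMat3 M 0 2) (affMat3 M 1 2) := by
  obtain ⟨h00, h10⟩ := (sl2_stab_iff _).1 ((mem_qdS0 M).1 hM)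
  have h11 := sl2_stab_11 ((mem_qdS0 M).1 hM)
  have h00' : affMat3 M 0 0 = 1 := h00
  have h10' : affMat3 M 1 0 = 0 := h10
  have h11' : affMat3 M 1 1 = 1 := h11
  have h20 := affMat3_20 M
  have h21 := affMat3_21 M
  have h22 := affMat3_22 M
  apply affMat3_injective
  rw [affMat3_heis]
  ext i j
  fin_cases i <;> fin_cases j <;> simp [h00', h10', h11', h20, h21, h22]

theorem heis_mem_ker_iff (b x y : F) : heis b x y ∈ (affPi F).ker ↔ b = 0 := by
  rw [mem_ker_affPi_iff]
  constructor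
  · intro h; exact h.2.1
  · intro h; exact ⟨rfl, h, rfl, rfl⟩

theorem heis_injective {b x y b' x' y' : F} (h : heis b x y = heis b' x' y') :
    b = b' ∧ x = x' ∧ y = y' := by
  have h' := congrArg affMat3 h
  rw [affMat3_heis, affMat3_heis] at h'
  refine ⟨?_, ?_, ?_⟩
  · simpa using congrFun (congrFun h' 0) 1
  · simpa using congrFun (congrFun h' 0) 2
  · simpa using congrFun (congrFun h' 1) 2

/-- the anti-transpose automorphism of the Heisenberg group -/
def heisTheta (F : Type*) [Field F] : ↥(qdS0 F) ≃* ↥(qdS0 F) where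
  toFun M := ⟨heis (-(affMat3 M.1 1 2)) (affMat3 M.1 0 1 * affMat3 M.1 1 2 - affMat3 M.1 0 2)
    (-(affMat3 M.1 0 1)), heis_mem _ _ _⟩
  invFun M := ⟨heis (-(affMat3 M.1 1 2)) (affMat3 M.1 0 1 * affMat3 M.1 1 2 - affMat3 M.1 0 2)
    (-(affMat3 M.1 0 1)), heis_mem _ _ _⟩
  left_inv M := by
    apply Subtype.ext
    conv_rhs => rw [eq_heis M.2]
    simp only [affMat3_heis]
    congr 1 <;> simp <;> ring
  right_inv M := by
    apply Subtype.ext
    conv_rhs => rw [eq_heis M.2]
    simp only [affMat3_heis]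
    congr 1 <;> simp <;> ring
  map_mul' M N := by
    apply Subtype.ext
    show heis _ _ _ = heis _ _ _ * heis _ _ _
    rw [heis_mul]
    have hM := eq_heis M.2
    have hN := eq_heis N.2
    set b := affMat3 M.1 0 1
    set x := affMat3 M.1 0 2
    set y := affMat3 M.1 1 2
    set b' := affMat3 N.1 0 1
    set x' := affMat3 N.1 0 2
    set y' := affMat3 N.1 1 2
    have hMN : affMat3 (M * N : ↥(qdS0 F)).1 = affMat3 (heis (b + b') (x + x' + b * y') (y + y')) := by
      rw [← heis_mul, ← hM, ← hN]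
      rfl
    rw [hMN, affMat3_heis]
    congr 1 <;> simp <;> ring

theorem heisTheta_apply (b x y : F) :
    ((heisTheta F ⟨heis b x y, heis_mem b x y⟩ : ↥(qdS0 F)) : Helper17.affSub F) =
      heis (-y) (b * y - x) (-b) := by
  show heis _ _ _ = _
  simp only [affMat3_heis]
  rfl

end QdSyl4

end Cfsg.Agent.Helper14
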