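import Mathlib
import Cfsg.Agent.Helper14.S2481.Defs
import Cfsg.Agent.Helper18.S2481TILDE
import Cfsg.Agent.Helper18.S2481KDCOUNT
import Cfsg.Agent.Helper16.S2481KDSUM
import Cfsg.Agent.Helper10.S2481KDUNIT
import Cfsg.Agent.Helper18.S2481KDFINAL
import Cfsg.Agent.Helper29.S2482CDefs

/-!
# S2482 (class number of `Sp_{2n}(q)`), chapter (U4) TYPES, piece TYPESR

The type of an isometry of a nondegenerate bilinear form (Gram matrix `J`) is self-reciprocal:
`tilde0 (t m) = t m`.  Twin of the S2481 pieces KDUNIT / KDFINAL with `σ = id` and a Gram matrix.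
Also the `σ = id` versions of helper18's `tilde_tilde`, `tilde_irreducible` (which ask for `σ ≠ id`).
-/

set_option autoImplicit false
set_option linter.unusedVariables false

namespace Cfsg.Agent.S2482P

open Polynomial DirectSum Matrix Cfsg.Agent.S2478P Cfsg.Agent.S2479P Cfsg.Agent.S2481P
open Cfsg.Agent.S2481P.TILDE (tilde_coeff_zero_ne)

universe u

namespace TILDE0

variable {F : Type*} [Field F] {σ : F →+* F}

theorem tilde_tilde' (hsq : ∀ a, σ (σ a) = a) {f : F[X]} (hfm : f.Monic) (hf : f.coeff 0 ≠ 0) :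
    tilde σ (tilde σ f) = f := by
  have h0 := tilde_coeff_zero_ne σ hf
  have hd := tilde_natDegree σ hf
  have hdd := tilde_natDegree σ h0
  ext i
  by_cases hi : i ≤ f.natDegree
  · rw [tilde_coeff σ h0 (by rw [hd]; exact hi), hd,
      tilde_coeff σ hf (Nat.sub_le _ _), tilde_coeff_zero σ hfm hf,
      Nat.sub_sub_self hi, map_mul, map_inv₀, hsq, hsq, inv_inv,
      mul_inv_cancel_left₀ hf]
  · have hi' : f.natDegree < i := not_le.mp hi
    rw [coeff_eq_zero_of_natDegree_lt (by rw [hdd, hd]; exact hi'),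
      coeff_eq_zero_of_natDegree_lt hi']

theorem tilde_irreducible' (hsq : ∀ a, σ (σ a) = a) {f : F[X]} (hfm : f.Monic)
    (hf : f.coeff 0 ≠ 0) (hfi : Irreducible f) : Irreducible (tilde σ f) := by
  have h0 := tilde_coeff_zero_ne σ hf
  have hd := tilde_natDegree σ hf
  have hpos : 0 < f.natDegree := hfi.natDegree_pos
  refine ⟨fun hu => ?_, fun a b hab => ?_⟩
  · have := natDegree_eq_zero_of_isUnit hu
    omega
  · have hab0 : a.coeff 0 * b.coeff 0 ≠ 0 := by
      rw [← mul_coeff_zero, ← hab]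
      exact h0
    have ha0 : a.coeff 0 ≠ 0 := left_ne_zero_of_mul hab0
    have hb0 : b.coeff 0 ≠ 0 := right_ne_zero_of_mul hab0
    have hf' : f = tilde σ a * tilde σ b := by
      rw [← tilde_mul σ ha0 hb0, ← hab, tilde_tilde' hsq hfm hf]
    rcases hfi.isUnit_or_isUnit hf' with hu | hu
    · left
      have h1 := natDegree_eq_zero_of_isUnit hu
      rw [tilde_natDegree σ ha0] at h1
      rw [eq_C_of_natDegree_eq_zero h1]
      exact isUnit_C.mpr (IsUnit.mk0 _ ha0)
    · right
      have h1 := natDegree_eq_zero_of_isUnit hu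
      rw [tilde_natDegree σ hb0] at h1
      rw [eq_C_of_natDegree_eq_zero h1]
      exact isUnit_C.mpr (IsUnit.mk0 _ hb0)

theorem tilde0_tilde0 {f : F[X]} (hfm : f.Monic) (hf : f.coeff 0 ≠ 0) :
    tilde0 (tilde0 f) = f := tilde_tilde' (σ := RingHom.id F) (fun _ => rfl) hfm hf

theorem tilde0_irreducible {f : F[X]} (hfm : f.Monic) (hf : f.coeff 0 ≠ 0)
    (hfi : Irreducible f) : Irreducible (tilde0 f) :=
  tilde_irreducible' (σ := RingHom.id F) (fun _ => rfl) hfm hf hfi

theorem tilde0_monic {f : F[X]} (hf : f.coeff 0 ≠ 0) : (tilde0 f).Monic :=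
  tilde_monic (RingHom.id F) hf

theorem tilde0_natDegree {f : F[X]} (hf : f.coeff 0 ≠ 0) : (tilde0 f).natDegree = f.natDegree :=
  tilde_natDegree (RingHom.id F) hf

theorem tilde0_eq (f : F[X]) : tilde0 f = C (f.coeff 0)⁻¹ * f.reverse := by
  show tilde (RingHom.id F) f = _
  unfold tilde
  rw [Polynomial.map_id, RingHom.id_apply]

end TILDE0

namespace TYPESR

variable {F : Type u} [Field F] {N : ℕ}

/-- the adjoint with respect to a Gram matrix `J` with inverse `Ji` -/
def adj (J Ji M : Matrix (Fin N) (Fin N) F) : Matrix (Fin N) (Fin N) F := Ji * Mᵀ * J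

theorem adj_zero (J Ji : Matrix (Fin N) (Fin N) F) : adj J Ji 0 = 0 := by
  unfold adj
  rw [Matrix.transpose_zero, Matrix.mul_zero, Matrix.zero_mul]

theorem adj_add (J Ji M M' : Matrix (Fin N) (Fin N) F) :
    adj J Ji (M + M') = adj J Ji M + adj J Ji M' := by
  unfold adj
  rw [Matrix.transpose_add, Matrix.mul_add, Matrix.add_mul]

theorem adj_smul (J Ji : Matrix (Fin N) (Fin N) F) (c : F) (M : Matrix (Fin N) (Fin N) F) :
    adj J Ji (c • M) = c • adj J Ji M := by
  unfold adj
  rw [Matrix.transpose_smul, Matrix.mul_smul, Matrix.smul_mul]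

theorem adj_one {J Ji : Matrix (Fin N) (Fin N) F} (h : Ji * J = 1) : adj J Ji 1 = 1 := by
  unfold adj
  rw [Matrix.transpose_one, Matrix.mul_one, h]

theorem adj_mul {J Ji : Matrix (Fin N) (Fin N) F} (h : Ji * J = 1)
    (M M' : Matrix (Fin N) (Fin N) F) : adj J Ji (M * M') = adj J Ji M' * adj J Ji M := by
  have h' : J * Ji = 1 := mul_eq_one_comm.mp h
  unfold adj
  rw [Matrix.transpose_mul]
  calc Ji * (M'ᵀ * Mᵀ) * J = Ji * M'ᵀ * 1 * Mᵀ * J := by
        rw [Matrix.mul_one]; simp only [Matrix.mul_assoc]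
    _ = Ji * M'ᵀ * J * (Ji * Mᵀ * J) := by
        rw [← h']; simp only [Matrix.mul_assoc]

theorem adj_pow {J Ji : Matrix (Fin N) (Fin N) F} (h : Ji * J = 1)
    (M : Matrix (Fin N) (Fin N) F) (k : ℕ) : adj J Ji (M ^ k) = adj J Ji M ^ k := by
  induction k with
  | zero => rw [pow_zero, pow_zero, adj_one h]
  | succ k ih => rw [pow_succ, adj_mul h, ih, pow_succ']

theorem adj_mul_self {J Ji g : Matrix (Fin N) (Fin N) F} (h : Ji * J = 1)
    (hg : gᵀ * J * g = J) : adj J Ji g * g = 1 := by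
  unfold adj
  rw [Matrix.mul_assoc, Matrix.mul_assoc, ← Matrix.mul_assoc gᵀ, hg, h]

/-- the key formula -/
theorem aeval_reflect {J Ji g : Matrix (Fin N) (Fin N) F} (h : Ji * J = 1)
    (hg : gᵀ * J * g = J) (N' : ℕ) (f : F[X]) (hf : f.natDegree ≤ N') :
    aeval g (reflect N' f) = g ^ N' * adj J Ji (aeval g f) := by
  have hg1 : adj J Ji g * g = 1 := adj_mul_self h hg
  have hg' : g * adj J Ji g = 1 := mul_eq_one_comm.mp hg1
  have hpow : ∀ i : ℕ, g ^ i * adj J Ji g ^ i = 1 := by
    intro i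
    have hc : Commute g (adj J Ji g) := by
      unfold Commute SemiconjBy
      rw [hg', hg1]
    rw [← hc.mul_pow, hg', one_pow]
  refine Polynomial.induction_with_natDegree_le
    (fun f => aeval g (reflect N' f) = g ^ N' * adj J Ji (aeval g f)) N' ?_ ?_ ?_ f hf
  · simp [adj_zero]
  · intro i r _ hi
    rw [reflect_C_mul_X_pow, revAt_le hi]
    rw [map_mul, map_mul, aeval_C, map_pow, map_pow, aeval_X]
    rw [Algebra.algebraMap_eq_smul_one, smul_mul_assoc, one_mul,
      smul_mul_assoc, one_mul, adj_smul, adj_pow h, mul_smul_comm]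
    congr 1
    have h1 : g ^ N' = g ^ (N' - i) * g ^ i := by
      rw [← pow_add]
      congr 1
      omega
    rw [h1, mul_assoc, hpow, mul_one]
  · intro f₁ f₂ _ _ h1 h2
    rw [reflect_add, map_add, map_add, adj_add, mul_add, h1, h2]

theorem tilde0_pow_eq (r : F[X]) (k : ℕ) :
    tilde0 r ^ k = C ((r.coeff 0)⁻¹ ^ k) * (r ^ k).reverse := by
  have := KDUNIT.tilde_pow_eq (RingHom.id F) r k
  rw [Polynomial.map_id, RingHom.id_apply] at this
  exact this

theorem aeval_tilde0_pow {J Ji g : Matrix (Fin N) (Fin N) F} (h : Ji * J = 1)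
    (hg : gᵀ * J * g = J) (r : F[X]) (k : ℕ) :
    aeval g (tilde0 r ^ k) =
      ((r.coeff 0)⁻¹ ^ k) • (g ^ (r ^ k).natDegree * adj J Ji (aeval g (r ^ k))) := by
  rw [tilde0_pow_eq, map_mul, aeval_C, Algebra.algebraMap_eq_smul_one, smul_mul_assoc, one_mul]
  congr 1
  unfold reverse
  exact aeval_reflect h hg _ _ le_rfl

theorem finrank_ker_adj {J Ji : Matrix (Fin N) (Fin N) F} (h : Ji * J = 1)
    (A : Matrix (Fin N) (Fin N) F) :
    Module.finrank F (LinearMap.ker (Matrix.toLin' (adj J Ji A))) =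
      Module.finrank F (LinearMap.ker (Matrix.toLin' A)) := by
  have h' : J * Ji = 1 := mul_eq_one_comm.mp h
  have hJ : IsUnit J.det := by
    have := congrArg Matrix.det h
    rw [Matrix.det_mul, Matrix.det_one] at this
    exact IsUnit.of_mul_eq_one _ (by rw [mul_comm]; exact this)
  have hJi : IsUnit Ji.det := by
    have := congrArg Matrix.det h
    rw [Matrix.det_mul, Matrix.det_one] at this
    exact IsUnit.of_mul_eq_one _ this
  have h1 := KDUNIT.finrank_ker_add_rank (adj J Ji A)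
  have h2 := KDUNIT.finrank_ker_add_rank A
  have h3 : (adj J Ji A).rank = A.rank := by
    unfold adj
    rw [Matrix.rank_mul_eq_left_of_isUnit_det J _ hJ,
      Matrix.rank_mul_eq_right_of_isUnit_det Ji _ hJi, Matrix.rank_transpose]
  omega

/-- an isometry has the same kernel dimensions for `r` and its reciprocal -/
theorem kd_tilde0 {J Ji g : Matrix (Fin N) (Fin N) F} (h : Ji * J = 1)
    (hg : gᵀ * J * g = J) {r : F[X]} (hr0 : r.coeff 0 ≠ 0) (k : ℕ) :
    kd g (tilde0 r) k = kd g r k := by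
  unfold kd
  rw [KDUNIT.aeval_toLin', KDUNIT.aeval_toLin', aeval_tilde0_pow h hg]
  have hc : (r.coeff 0)⁻¹ ^ k ≠ 0 := pow_ne_zero _ (inv_ne_zero hr0)
  rw [KDUNIT.ker_smul_mul _ hc (g ^ (r ^ k).natDegree) (adj J Ji g ^ (r ^ k).natDegree) _ ?_]
  · exact finrank_ker_adj h _
  · have hg1 : adj J Ji g * g = 1 := adj_mul_self h hg
    have hg' : g * adj J Ji g = 1 := mul_eq_one_comm.mp hg1
    have hc2 : Commute (adj J Ji g) g := by
      unfold Commute SemiconjBy
      rw [hg', hg1]
    rw [← hc2.mul_pow, hg1, one_pow]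

end TYPESR

open TILDE0 TYPESR in
/-- piece TYPESR: the type of an isometry of a nondegenerate bilinear form is self-reciprocal -/
theorem TYPESR.tilde0_of_isometry {F : Type u} [Field F] {N : ℕ}
    {J Ji g : Matrix (Fin N) (Fin N) F} (h : Ji * J = 1) (hg : gᵀ * J * g = J)
    {t : ℕ → F[X]} (ht : HasType g t) (m : ℕ) : tilde0 (t m) = t m := by
  classical
  obtain ⟨ι, hι, p, e, hpe, hsum, Φ, rfl⟩ := ht
  show tilde0 (∏ i with e i = m, p i) = ∏ i with e i = m, p i
  have hp0 : ∀ i, (p i).coeff 0 ≠ 0 := fun i =>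
    KDFINAL.coeff_zero_ne (hpe i).1 (hpe i).2.1 (hpe i).2.2.1
  rcases Nat.eq_zero_or_pos m with hm0 | hmpos
  · have hempty : (Finset.univ.filter (fun i => e i = m)) = ∅ := by
      rw [Finset.filter_eq_empty_iff]
      intro i _ hi
      have := (hpe i).2.2.2
      omega
    rw [hempty, Finset.prod_empty]
    exact tilde_one _
  · set S := Finset.univ.filter (fun i => e i = m) with hS
    have key : ∀ r : F[X], r.Monic → Irreducible r → r.coeff 0 ≠ 0 →
        (S.filter (fun i => p i = r)).card = (S.filter (fun i => p i = tilde0 r)).card := by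
      intro r hrm hri hr0
      have hdeg : 0 < r.natDegree := hri.natDegree_pos
      have htm : (tilde0 r).Monic := tilde0_monic hr0
      have hti : Irreducible (tilde0 r) := tilde0_irreducible hrm hr0 hri
      have hmin : ∀ k, ∑ i with p i = r, min (e i) k = ∑ i with p i = tilde0 r, min (e i) k := by
        intro k
        have h1 := kd_eq_sum g p e (fun i => ⟨(hpe i).1, (hpe i).2.1⟩) Φ hrm hri k
        have h2 := kd_eq_sum g p e (fun i => ⟨(hpe i).1, (hpe i).2.1⟩) Φ htm hti k
        rw [kd_tilde0 h hg hr0 k, h1, tilde0_natDegree hr0, ← Finset.sum_filter,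
          ← Finset.sum_filter, ← Finset.mul_sum, ← Finset.mul_sum] at h2
        exact Nat.eq_of_mul_eq_mul_left hdeg h2
      have h3 := count_eq_of_minsum e (fun i => p i = r) (fun i => p i = tilde0 r) hmin m hmpos
      have e1 : ∀ r' : F[X], S.filter (fun i => p i = r') =
          Finset.univ.filter (fun i => p i = r' ∧ e i = m) := by
        intro r'
        rw [hS, Finset.filter_filter]
        apply Finset.filter_congr
        intro i _
        exact and_comm
      rw [e1, e1]
      exact h3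
    obtain ⟨-, h4⟩ := KDFINAL.tilde_prod (RingHom.id F) S p (fun i _ => hp0 i)
    show tilde (RingHom.id F) (∏ i ∈ S, p i) = ∏ i ∈ S, p i
    rw [h4]
    rw [Finset.prod_comp (tilde (RingHom.id F)) p, Finset.prod_comp (fun r => r) p]
    have hmemI : ∀ r ∈ S.image p, r.Monic ∧ Irreducible r ∧ r.coeff 0 ≠ 0 ∧
        tilde0 r ∈ S.image p := by
      intro r hr
      obtain ⟨i, hi, rfl⟩ := Finset.mem_image.mp hr
      refine ⟨(hpe i).1, (hpe i).2.1, hp0 i, ?_⟩
      have hpos : 0 < (S.filter (fun j => p j = p i)).card :=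
        Finset.card_pos.mpr ⟨i, Finset.mem_filter.mpr ⟨hi, rfl⟩⟩
      rw [key (p i) (hpe i).1 (hpe i).2.1 (hp0 i)] at hpos
      obtain ⟨j, hj⟩ := Finset.card_pos.mp hpos
      obtain ⟨hjS, hjp⟩ := Finset.mem_filter.mp hj
      exact Finset.mem_image.mpr ⟨j, hjS, hjp⟩
    refine Finset.prod_nbij' (tilde (RingHom.id F)) (tilde (RingHom.id F))
      (fun r hr => (hmemI r hr).2.2.2) (fun r hr => (hmemI r hr).2.2.2) ?_ ?_ ?_
    · intro r hr
      obtain ⟨h1, -, h3, -⟩ := hmemI r hr
      exact tilde0_tilde0 h1 h3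
    · intro r hr
      obtain ⟨h1, -, h3, -⟩ := hmemI r hr
      exact tilde0_tilde0 h1 h3
    · intro r hr
      obtain ⟨h1, h2, h3, -⟩ := hmemI r hr
      show tilde (RingHom.id F) r ^ _ = tilde (RingHom.id F) r ^ _
      congr 1
      exact key r h1 h2 h3

end Cfsg.Agent.S2482P
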