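import Mathlib
import Cfsg.Prelude.Def_Classical

/-!
# S2558 (class numbers of `O^±_{2n}(q)`, `q` odd), chapter (Q): quadratic forms and Gram matrices

`IsGram Q J Ji` : `J` is the (symmetric, invertible with inverse `Ji`) Gram matrix of the polar form of
  the quadratic form `Q`: `2 * Q v = v ⬝ᵥ J *ᵥ v`.
`JP n F`, `JM m F a b` : the Gram matrices of `quadFormPlus n F` and `quadFormMinus m F a b`.
`mem_isometryGroup_iff` : in characteristic not two, `g ∈ O(Q)` iff `gᵀ * J * g = J`.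
-/

set_option autoImplicit false

namespace Cfsg.Agent.S2558P

open Matrix

variable {F : Type*} [Field F]

/-- `J` is the Gram matrix of the polar form of `Q`, with inverse `Ji` -/
structure IsGram {ι : Type} [Fintype ι] [DecidableEq ι] (Q : (ι → F) → F) (J Ji : Matrix ι ι F) :
    Prop where
  symm : Jᵀ = J
  inv : Ji * J = 1
  two_Q : ∀ v, 2 * Q v = v ⬝ᵥ J *ᵥ v

namespace QGRAM

variable {ι : Type} [Fintype ι] [DecidableEq ι]

/-- the Gram form `u ⬝ᵥ J *ᵥ v` transforms by `gᵀ * J * g` -/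
theorem dot_mulVec_mulVec (g J : Matrix ι ι F) (u v : ι → F) :
    (g *ᵥ u) ⬝ᵥ J *ᵥ (g *ᵥ v) = u ⬝ᵥ (gᵀ * J * g) *ᵥ v := by
  rw [Matrix.mulVec_mulVec, ← Matrix.vecMul_transpose, Matrix.dotProduct_mulVec,
    Matrix.vecMul_vecMul, ← Matrix.dotProduct_mulVec, Matrix.mul_assoc]

theorem eq_of_forall_dot {M M' : Matrix ι ι F} (h : ∀ u v : ι → F, u ⬝ᵥ M *ᵥ v = u ⬝ᵥ M' *ᵥ v) :
    M = M' := by
  ext i j
  have := h (Pi.single i 1) (Pi.single j 1)
  simpa using this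

theorem mem_isometryGroup {Q : (ι → F) → F} (g : Matrix.GeneralLinearGroup ι F) :
    g ∈ Cfsg.isometryGroup F Q ↔
      ∀ u : ι → F, Q ((g : Matrix ι ι F) *ᵥ u) = Q u := by
  constructor
  · intro h u
    exact h u u
  · intro h u _
    exact h u

end QGRAM

open QGRAM in
/-- in characteristic not two the isometries of `Q` are the matrices with `gᵀ * J * g = J` -/
theorem mem_isometryGroup_iff {ι : Type} [Fintype ι] [DecidableEq ι] (h2 : (2 : F) ≠ 0)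
    {Q : (ι → F) → F} {J Ji : Matrix ι ι F} (hG : IsGram Q J Ji)
    (g : Matrix.GeneralLinearGroup ι F) :
    g ∈ Cfsg.isometryGroup F Q ↔
      (g : Matrix ι ι F)ᵀ * J * (g : Matrix ι ι F) = J := by
  rw [mem_isometryGroup]
  constructor
  · intro h
    -- the quadratic identity
    have hq : ∀ u : ι → F, u ⬝ᵥ ((g : Matrix ι ι F)ᵀ * J * (g : Matrix ι ι F)) *ᵥ u =
        u ⬝ᵥ J *ᵥ u := by
      intro u
      rw [← dot_mulVec_mulVec, ← hG.two_Q, ← hG.two_Q, h]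
    have hMs : ((g : Matrix ι ι F)ᵀ * J * (g : Matrix ι ι F))ᵀ =
        (g : Matrix ι ι F)ᵀ * J * (g : Matrix ι ι F) := by
      rw [Matrix.transpose_mul, Matrix.transpose_mul, Matrix.transpose_transpose, hG.symm,
        Matrix.mul_assoc]
    have hsymm : ∀ (M : Matrix ι ι F), Mᵀ = M → ∀ u v : ι → F, v ⬝ᵥ M *ᵥ u = u ⬝ᵥ M *ᵥ v := by
      intro M hM u v
      rw [Matrix.dotProduct_mulVec, dotProduct_comm, ← Matrix.mulVec_transpose, hM]
    apply eq_of_forall_dot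
    intro u v
    have h1 := hq (u + v)
    rw [Matrix.mulVec_add, Matrix.mulVec_add, add_dotProduct, add_dotProduct,
      dotProduct_add, dotProduct_add, dotProduct_add, dotProduct_add, hq u, hq v,
      hsymm _ hMs u v, hsymm _ hG.symm u v] at h1
    have h3 : (2 : F) * (u ⬝ᵥ ((g : Matrix ι ι F)ᵀ * J * (g : Matrix ι ι F)) *ᵥ v) =
        2 * (u ⬝ᵥ J *ᵥ v) := by
      linear_combination h1
    exact mul_left_cancel₀ h2 h3
  · intro h u
    have h1 : (2 : F) * Q ((g : Matrix ι ι F) *ᵥ u) = 2 * Q u := by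
      rw [hG.two_Q, hG.two_Q, dot_mulVec_mulVec, h]
    exact mul_left_cancel₀ h2 h1

/-! ### The two standard forms -/

/-- the Gram matrix of `∑ x_i y_i` -/
def JP (n : ℕ) (F : Type*) [Field F] : Matrix (Fin n ⊕ Fin n) (Fin n ⊕ Fin n) F :=
  Matrix.fromBlocks 0 1 1 0

/-- the Gram matrix of `z₁² + a z₁ z₂ + b z₂²` -/
def J2 (a b : F) : Matrix (Fin 2) (Fin 2) F := !![2, a; a, 2 * b]

/-- the inverse of `J2`, when `4 b - a² ≠ 0` -/
def J2i (a b : F) : Matrix (Fin 2) (Fin 2) F :=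
  (4 * b - a ^ 2)⁻¹ • !![2 * b, -a; -a, 2]

/-- the Gram matrix of `∑ x_i y_i + z₁² + a z₁ z₂ + b z₂²` -/
def JM (m : ℕ) (F : Type*) [Field F] (a b : F) :
    Matrix ((Fin m ⊕ Fin m) ⊕ Fin 2) ((Fin m ⊕ Fin m) ⊕ Fin 2) F :=
  Matrix.fromBlocks (JP m F) 0 0 (J2 a b)

/-- the inverse of `JM` -/
def JMi (m : ℕ) (F : Type*) [Field F] (a b : F) :
    Matrix ((Fin m ⊕ Fin m) ⊕ Fin 2) ((Fin m ⊕ Fin m) ⊕ Fin 2) F :=
  Matrix.fromBlocks (JP m F) 0 0 (J2i a b)

theorem JP_transpose (n : ℕ) : (JP n F)ᵀ = JP n F := by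
  unfold JP
  rw [Matrix.fromBlocks_transpose]
  simp

theorem JP_mul_JP (n : ℕ) : JP n F * JP n F = 1 := by
  unfold JP
  rw [Matrix.fromBlocks_multiply]
  simp only [Matrix.zero_mul, Matrix.mul_zero, Matrix.one_mul, zero_add, add_zero]
  exact Matrix.fromBlocks_one

theorem JP_dot (n : ℕ) (v : Fin n ⊕ Fin n → F) :
    v ⬝ᵥ JP n F *ᵥ v = 2 * ∑ i : Fin n, v (.inl i) * v (.inr i) := by
  unfold JP
  rw [dotProduct, Fintype.sum_sum_type]
  have h1 : ∀ i : Fin n, (Matrix.fromBlocks (0 : Matrix (Fin n) (Fin n) F)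
      (1 : Matrix (Fin n) (Fin n) F) (1 : Matrix (Fin n) (Fin n) F)
      (0 : Matrix (Fin n) (Fin n) F) *ᵥ v) (.inl i) = v (.inr i) := by
    intro i
    rw [Matrix.mulVec, dotProduct, Fintype.sum_sum_type]
    simp [Matrix.one_apply]
  have h2 : ∀ i : Fin n, (Matrix.fromBlocks (0 : Matrix (Fin n) (Fin n) F)
      (1 : Matrix (Fin n) (Fin n) F) (1 : Matrix (Fin n) (Fin n) F)
      (0 : Matrix (Fin n) (Fin n) F) *ᵥ v) (.inr i) = v (.inl i) := by
    intro i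
    rw [Matrix.mulVec, dotProduct, Fintype.sum_sum_type]
    simp [Matrix.one_apply]
  simp only [h1, h2]
  rw [two_mul]
  congr 1
  apply Finset.sum_congr rfl
  intro i _
  ring

theorem isGram_plus (n : ℕ) : IsGram (Cfsg.quadFormPlus n F) (JP n F) (JP n F) where
  symm := JP_transpose n
  inv := JP_mul_JP n
  two_Q v := by
    rw [JP_dot]
    rfl

theorem J2_transpose (a b : F) : (J2 a b)ᵀ = J2 a b := by
  unfold J2
  ext i j
  fin_cases i <;> fin_cases j <;> rfl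

theorem J2i_mul_J2 {a b : F} (hd : 4 * b - a ^ 2 ≠ 0) : J2i a b * J2 a b = 1 := by
  unfold J2i J2
  ext i j
  fin_cases i <;> fin_cases j <;> simp [Matrix.mul_apply, Fin.sum_univ_two] <;> field_simp <;> ring

theorem J2_dot (a b : F) (w : Fin 2 → F) :
    w ⬝ᵥ J2 a b *ᵥ w = 2 * (w 0 ^ 2 + a * w 0 * w 1 + b * w 1 ^ 2) := by
  unfold J2
  simp [dotProduct, Matrix.mulVec, Fin.sum_univ_two]
  ring

/-- anisotropy of the binary form gives a nonzero discriminant -/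
theorem disc_ne_zero (h2 : (2 : F) ≠ 0) {a b : F}
    (hab : ∀ z₁ z₂ : F, z₁ ^ 2 + a * z₁ * z₂ + b * z₂ ^ 2 = 0 → z₁ = 0 ∧ z₂ = 0) :
    4 * b - a ^ 2 ≠ 0 := by
  intro h
  have h3 := hab (-a / 2) 1 (by
    field_simp
    linear_combination h)
  exact one_ne_zero h3.2

theorem JM_transpose (m : ℕ) (a b : F) : (JM m F a b)ᵀ = JM m F a b := by
  unfold JM
  rw [Matrix.fromBlocks_transpose, JP_transpose, J2_transpose]
  simp

theorem JMi_mul_JM (m : ℕ) {a b : F} (hd : 4 * b - a ^ 2 ≠ 0) : JMi m F a b * JM m F a b = 1 := by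
  unfold JMi JM
  rw [Matrix.fromBlocks_multiply, JP_mul_JP, J2i_mul_J2 hd]
  simp only [Matrix.zero_mul, Matrix.mul_zero, zero_add, add_zero]
  exact Matrix.fromBlocks_one

theorem fromBlocks_diag_dot {l k : Type} [Fintype l] [Fintype k] (A : Matrix l l F)
    (D : Matrix k k F) (v : l ⊕ k → F) :
    v ⬝ᵥ Matrix.fromBlocks A 0 0 D *ᵥ v =
      (v ∘ Sum.inl) ⬝ᵥ A *ᵥ (v ∘ Sum.inl) + (v ∘ Sum.inr) ⬝ᵥ D *ᵥ (v ∘ Sum.inr) := by
  rw [Matrix.fromBlocks_mulVec]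
  simp only [Matrix.zero_mulVec, add_zero, zero_add]
  unfold dotProduct
  rw [Fintype.sum_sum_type]
  rfl

theorem JM_dot (m : ℕ) (a b : F) (v : (Fin m ⊕ Fin m) ⊕ Fin 2 → F) :
    v ⬝ᵥ JM m F a b *ᵥ v = 2 * Cfsg.quadFormMinus m F a b v := by
  unfold JM
  rw [fromBlocks_diag_dot, JP_dot, J2_dot]
  unfold Cfsg.quadFormMinus
  simp only [Function.comp_apply]
  ring

theorem isGram_minus (h2 : (2 : F) ≠ 0) (m : ℕ) {a b : F}
    (hab : ∀ z₁ z₂ : F, z₁ ^ 2 + a * z₁ * z₂ + b * z₂ ^ 2 = 0 → z₁ = 0 ∧ z₂ = 0) :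
    IsGram (Cfsg.quadFormMinus m F a b) (JM m F a b) (JMi m F a b) where
  symm := JM_transpose m a b
  inv := JMi_mul_JM m (disc_ne_zero h2 hab)
  two_Q v := (JM_dot m a b v).symm

end Cfsg.Agent.S2558P
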