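import Mathlib
import Cfsg.Agent.Helper14.Conj
import Cfsg.Agent.Helper14.PCore
import Cfsg.Agent.Helper9.TransvCent

/-! S2862: the zipper lemma for `O_p`.  If the subgroup `A` of `L` lies in `O_p(X)` for every proper subgroup `X` of `L`
containing it, but not in `O_p(L)`, then `A` lies in a unique maximal subgroup of `L`. -/

set_option autoImplicit false

namespace Cfsg.Agent.Helper14.Zip

open Cfsg Cfsg.Agent.Helper14

variable {G : Type*} [Group G]

/-- `K` is a maximal subgroup of `L` (both subgroups of the ambient group). -/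
def IsMaxSub (K L : Subgroup G) : Prop := K < L ∧ ∀ X : Subgroup G, K ≤ X → X < L → X = K

/-- the hypothesis of the zipper lemma -/
def ZipHyp (p : ℕ) (L A : Subgroup G) : Prop :=
  A ≤ L ∧ (∀ X : Subgroup G, X ≤ L → X ≠ L → A ≤ X → A ≤ pCoreOf p X) ∧ ¬ A ≤ pCoreOf p L

theorem IsMaxSub.eq_of_le {K K' L : Subgroup G} (h : IsMaxSub K L) (h' : IsMaxSub K' L) (hle : K ≤ K') : K = K' :=
  (h.2 K' hle h'.1).symm

theorem card_map_cj (g : G) (A : Subgroup G) : Nat.card ↥(A.map (cj g)) = Nat.card ↥A :=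
  Subgroup.card_map_of_injective (cj_injective g)

variable [Finite G]

/-- every proper subgroup lies in a maximal subgroup -/
theorem exists_isMaxSub {X L : Subgroup G} (hXL : X < L) : ∃ K, IsMaxSub K L ∧ X ≤ K := by
  let 𝒮 : Set (Subgroup G) := {E | X ≤ E ∧ E < L}
  have hne : 𝒮.Nonempty := ⟨X, le_rfl, hXL⟩
  obtain ⟨K, ⟨hXK, hKL⟩, hmax⟩ := (Set.toFinite 𝒮).exists_maximal hne
  refine ⟨K, ⟨hKL, fun Z hKZ hZL => ?_⟩, hXK⟩
  exact le_antisymm (hmax ⟨hXK.trans hKZ, hZL⟩ hKZ) hKZ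

variable {p : ℕ} [Fact p.Prime]

/-- the zipper step: the join of `A` with a conjugate under `L` again satisfies the hypothesis -/
theorem ZipHyp.sup_conj {L A : Subgroup G} (h : ZipHyp p L A) {x : G} (hx : x ∈ L) :
    ZipHyp p L (A ⊔ A.map (cj x)) := by
  obtain ⟨hAL, hA1, hA2⟩ := h
  have hxAL : A.map (cj x) ≤ L := by
    rintro _ ⟨a, ha, rfl⟩
    exact L.mul_mem (L.mul_mem hx (hAL ha)) (L.inv_mem hx)
  refine ⟨sup_le hAL hxAL, ?_, fun hT => hA2 (le_sup_left.trans hT)⟩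
  intro X hXL hXne hTX
  have hAX : A ≤ X := le_sup_left.trans hTX
  have hxAX : A.map (cj x) ≤ X := le_sup_right.trans hTX
  apply sup_le (hA1 X hXL hXne hAX)
  -- `A ≤ X^{x⁻¹}`
  have h1 : A ≤ X.map (cj x⁻¹) := (map_cj_le_iff A X x).1 hxAX
  have h2 : X.map (cj x⁻¹) ≤ L := by
    rintro _ ⟨y, hy, rfl⟩
    exact L.mul_mem (L.mul_mem (L.inv_mem hx) (hXL hy)) (L.inv_mem (L.inv_mem hx))
  have h3 : X.map (cj x⁻¹) ≠ L := by
    intro h4
    apply hXne
    apply le_antisymm hXL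
    have h5 : L ≤ (X.map (cj x⁻¹)).map (cj x) := by
      rw [h4]
      intro l hl
      rw [mem_map_cj]
      exact L.mul_mem (L.mul_mem (L.inv_mem hx) hl) hx
    rwa [map_cj_inv_map_cj] at h5
  have h6 := hA1 _ h2 h3 h1
  have h7 : pCoreOf p (X.map (cj x⁻¹)) = (pCoreOf p X).map (cj x⁻¹) := pCoreOf_map_conj p X x⁻¹
  rw [h7] at h6
  have h8 := (map_cj_le_iff A (pCoreOf p X) x).2 h6
  exact h8

/-- **Zipper lemma** for `O_p`. -/
theorem zip_unique : ∀ (n : ℕ) {L A : Subgroup G}, Nat.card ↥L - Nat.card ↥A = n → ZipHyp p L A →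
    ∀ {K₁ K₂ : Subgroup G}, IsMaxSub K₁ L → IsMaxSub K₂ L → A ≤ K₁ → A ≤ K₂ → K₁ = K₂ := by
  intro n
  induction n using Nat.strong_induction_on with
  | _ n ih =>
  intro L A hn h K₁ K₂ hK₁ hK₂ hA₁ hA₂
  by_contra hne
  obtain ⟨hAL, hA1, hA2⟩ := h
  have hAp : IsPGroup p ↥A := (pCoreOf_isPGroup p K₁).to_le (hA1 K₁ hK₁.1.le hK₁.1.ne hA₁)
  -- `N_L(A)` is a proper subgroup
  have hNlt : L ⊓ Subgroup.normalizer (A : Set G) < L := by
    refine lt_of_le_of_ne inf_le_left fun hN => hA2 ?_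
    exact le_pCoreOf p hAL (by rw [← hN]; exact inf_le_right) hAp
  obtain ⟨M₀, hM₀, hNM₀⟩ := exists_isMaxSub hNlt
  have hAM₀ : A ≤ M₀ := (le_inf hAL Subgroup.le_normalizer).trans hNM₀
  -- a maximal subgroup over `A` different from `M₀`
  obtain ⟨K, hK, hAK, hKM₀⟩ : ∃ K, IsMaxSub K L ∧ A ≤ K ∧ K ≠ M₀ := by
    by_cases h1 : K₁ = M₀
    · refine ⟨K₂, hK₂, hA₂, fun h2 => hne (h1.trans h2.symm)⟩
    · exact ⟨K₁, hK₁, hA₁, h1⟩
  have hKL : K ≤ L := hK.1.le
  -- `A` is not normal in `K`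
  have hKnA : ¬ K ≤ Subgroup.normalizer (A : Set G) := by
    intro h1
    exact hKM₀ (hK.eq_of_le hM₀ ((le_inf hKL h1).trans hNM₀))
  have hAR : A ≤ pCoreOf p K := hA1 K hKL hK.1.ne hAK
  have hRK : pCoreOf p K ≤ K := pCoreOf_le p K
  -- the element `x`
  obtain ⟨x, hxK, hxA, hxN⟩ : ∃ x ∈ K, A.map (cj x) ≠ A ∧ A.map (cj x) ≤ Subgroup.normalizer (A : Set G) := by
    by_cases hcase : pCoreOf p K ≤ Subgroup.normalizer (A : Set G)
    · obtain ⟨k, hkK, hkN⟩ := SetLike.not_le_iff_exists.1 hKnA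
      refine ⟨k, hkK, fun h1 => hkN (mem_normalizer_iff_map_cj.2 h1), ?_⟩
      refine le_trans ?_ hcase
      have h2 : (pCoreOf p K).map (cj k) = pCoreOf p K :=
        mem_normalizer_iff_map_cj.1 (le_normalizer_pCoreOf p K hkK)
      rw [← h2]
      exact Subgroup.map_mono hAR
    · have hlt : pCoreOf p K ⊓ Subgroup.normalizer (A : Set G) < pCoreOf p K :=
        lt_of_le_of_ne inf_le_left fun h1 => hcase (by rw [← h1]; exact inf_le_right)
      obtain ⟨x, hxR, hxN₁, hxn⟩ :=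
        Cfsg.Agent.Helper9.TransvCent.exists_normalizer_not_mem (pCoreOf_isPGroup p K) hlt
      have hxnA : x ∉ Subgroup.normalizer (A : Set G) := fun h1 => hxn ⟨hxR, h1⟩
      refine ⟨x, hRK hxR, fun h1 => hxnA (mem_normalizer_iff_map_cj.2 h1), ?_⟩
      have h2 : (pCoreOf p K ⊓ Subgroup.normalizer (A : Set G)).map (cj x) =
          pCoreOf p K ⊓ Subgroup.normalizer (A : Set G) := mem_normalizer_iff_map_cj.1 hxN₁
      have h3 : A.map (cj x) ≤ (pCoreOf p K ⊓ Subgroup.normalizer (A : Set G)).map (cj x) :=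
        Subgroup.map_mono (le_inf hAR Subgroup.le_normalizer)
      rw [h2] at h3
      exact h3.trans inf_le_right
  have hxL : x ∈ L := hKL hxK
  -- the bigger subgroup `T`
  have hT := ZipHyp.sup_conj (p := p) ⟨hAL, hA1, hA2⟩ hxL
  have hxAK : A.map (cj x) ≤ K := by
    rintro _ ⟨a, ha, rfl⟩
    exact K.mul_mem (K.mul_mem hxK (hAK ha)) (K.inv_mem hxK)
  have hTK : A ⊔ A.map (cj x) ≤ K := sup_le hAK hxAK
  have hTM₀ : A ⊔ A.map (cj x) ≤ M₀ :=
    (sup_le (le_inf hAL Subgroup.le_normalizer) (le_inf (hxAK.trans hKL) hxN)).trans hNM₀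
  have hAT : Nat.card ↥A < Nat.card ↥(A ⊔ A.map (cj x)) := by
    by_contra hle
    push Not at hle
    have h1 : A ⊔ A.map (cj x) = A := (Subgroup.eq_of_le_of_card_ge le_sup_left hle).symm
    have h2 : A.map (cj x) ≤ A := le_sup_right.trans h1.le
    have h3 : Nat.card ↥A ≤ Nat.card ↥(A.map (cj x)) := le_of_eq (card_map_cj x A).symm
    exact hxA (Subgroup.eq_of_le_of_card_ge h2 h3)
  have hTL : Nat.card ↥(A ⊔ A.map (cj x)) ≤ Nat.card ↥L := Subgroup.card_le_of_le hT.1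
  have hlt : Nat.card ↥L - Nat.card ↥(A ⊔ A.map (cj x)) < n := by
    rw [← hn]
    exact Nat.sub_lt_sub_left (lt_of_lt_of_le hAT hTL) hAT
  exact hKM₀ (ih _ hlt rfl hT hK hM₀ hTK hTM₀)

end Cfsg.Agent.Helper14.Zip
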