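import Mathlib
import Cfsg.Agent.Helper14.S2862Zip
import Cfsg.Agent.Helper14.Asym8

/-! S2862: consequences of the zipper lemma for a minimal subgroup `L` over the `p`-group `Y` with `Y ≰ O_p(L)`. -/

set_option autoImplicit false

namespace Cfsg.Agent.Helper14.Zip

open Cfsg Cfsg.Agent.Helper14

variable {G : Type*} [Group G] [Finite G] {p : ℕ} [Fact p.Prime]

/-- the structure of a minimal `L` over `Y` -/
structure LData (p : ℕ) (L Y L0 : Subgroup G) : Prop where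
  max : IsMaxSub L0 L
  hYL0 : Y ≤ L0
  uniq : ∀ X : Subgroup G, Y ≤ X → X < L → X ≤ L0
  closure : (⨆ x : ↥L, Y.map (cj (x : G))) = L
  gen : ∀ h ∈ L, h ∉ L0 → Y ⊔ Y.map (cj h) = L
  hOp : pCoreOf p L ≤ L0
  hU0 : ∀ n ∈ L0, Y.map (cj n) ≤ pCoreOf p L0
  far : ∃ h ∈ L, h ∉ L0

theorem map_cj_le_of_mem {K A : Subgroup G} {g : G} (hg : g ∈ K) (hA : A ≤ K) : A.map (cj g) ≤ K := by
  rintro _ ⟨a, ha, rfl⟩
  exact K.mul_mem (K.mul_mem hg (hA ha)) (K.inv_mem hg)

theorem isMaxSub_map_cj {K L : Subgroup G} (hK : IsMaxSub K L) {g : G} (hg : g ∈ L) : IsMaxSub (K.map (cj g)) L := by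
  have hLg : L.map (cj g) = L := map_cj_eq_self_of_mem hg
  have hLg' : L.map (cj g⁻¹) = L := map_cj_eq_self_of_mem (L.inv_mem hg)
  refine ⟨lt_of_le_of_ne (map_cj_le_of_mem hg hK.1.le) ?_, ?_⟩
  · intro h1
    apply hK.1.ne
    have h2 := congrArg (Subgroup.map (cj g⁻¹)) h1
    rwa [map_cj_map_cj_inv, hLg'] at h2
  · intro X hKX hXL
    have h1 : K ≤ X.map (cj g⁻¹) := (map_cj_le_iff K X g).1 hKX
    have h2 : X.map (cj g⁻¹) < L := by
      refine lt_of_le_of_ne (map_cj_le_of_mem (L.inv_mem hg) hXL.le) ?_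
      intro h3
      apply hXL.ne
      have h4 := congrArg (Subgroup.map (cj g)) h3
      rwa [map_cj_inv_map_cj, hLg] at h4
    have h5 := hK.2 _ h1 h2
    have h6 := congrArg (Subgroup.map (cj g)) h5
    rwa [map_cj_inv_map_cj] at h6

theorem exists_LData {L Y : Subgroup G} (h : ZipHyp p L Y) (hYp : IsPGroup p ↥Y) : ∃ L0, LData p L Y L0 := by
  obtain ⟨hYL, hY1, hY2⟩ := h
  have hLn : L ≤ Subgroup.normalizer (L : Set G) := Subgroup.le_normalizer
  -- `Y ≠ L`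
  have hYltL : Y < L := by
    refine lt_of_le_of_ne hYL fun h1 => hY2 ?_
    rw [h1] at hYp
    exact h1.le.trans (le_pCoreOf p le_rfl hLn hYp)
  obtain ⟨L0, hL0, hYL0⟩ := exists_isMaxSub hYltL
  have huniq : ∀ X : Subgroup G, Y ≤ X → X < L → X ≤ L0 := by
    intro X hYX hXL
    obtain ⟨K, hK, hXK⟩ := exists_isMaxSub hXL
    have h1 : K = L0 := zip_unique _ rfl ⟨hYL, hY1, hY2⟩ hK hL0 (hYX.trans hXK) hYL0
    exact h1 ▸ hXK
  -- the normal closure
  have hWL : (⨆ x : ↥L, Y.map (cj (x : G))) ≤ L := iSup_le fun x => map_cj_le_of_mem x.2 hYL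
  have hYW : Y ≤ ⨆ x : ↥L, Y.map (cj (x : G)) := by
    have h1 := le_iSup (fun x : ↥L => Y.map (cj (x : G))) 1
    have h2 : Y.map (cj ((1 : ↥L) : G)) = Y := by
      rw [Subgroup.coe_one]
      exact map_cj_one Y
    rw [h2] at h1
    exact h1
  have hLW : L ≤ Subgroup.normalizer ((⨆ x : ↥L, Y.map (cj (x : G)) : Subgroup G) : Set G) := by
    apply le_normalizer_of_map_cj_le
    intro g hg
    rw [Subgroup.map_iSup]
    refine iSup_le fun x => ?_
    rw [map_cj_mul]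
    exact le_iSup (fun x : ↥L => Y.map (cj (x : G))) (⟨g, hg⟩ * x)
  have hclosure : (⨆ x : ↥L, Y.map (cj (x : G))) = L := by
    by_contra hne
    exact hY2 ((hY1 _ hWL hne hYW).trans (pCoreOf_le_pCoreOf_of_normal hWL hLW))
  -- `L0` is not normal in `L`
  have hL0n : ¬ L ≤ Subgroup.normalizer (L0 : Set G) := by
    intro h1
    apply hL0.1.ne
    apply le_antisymm hL0.1.le
    rw [← hclosure]
    refine iSup_le fun x => ?_
    have h2 : L0.map (cj (x : G)) = L0 := mem_normalizer_iff_map_cj.1 (h1 x.2)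
    rw [← h2]
    exact Subgroup.map_mono hYL0
  have hNL0 : L ⊓ Subgroup.normalizer (L0 : Set G) = L0 := by
    have h1 : L0 ≤ L ⊓ Subgroup.normalizer (L0 : Set G) := le_inf hL0.1.le Subgroup.le_normalizer
    have h2 : L ⊓ Subgroup.normalizer (L0 : Set G) < L :=
      lt_of_le_of_ne inf_le_left fun h3 => hL0n (by rw [← h3]; exact inf_le_right)
    exact hL0.2 _ h1 h2
  refine ⟨L0, hL0, hYL0, huniq, hclosure, ?_, ?_, ?_, ?_⟩
  · -- generation by two conjugates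
    intro g hg hg0
    by_contra hne
    have hTL : Y ⊔ Y.map (cj g) ≤ L := sup_le hYL (map_cj_le_of_mem hg hYL)
    have hT0 : Y ⊔ Y.map (cj g) ≤ L0 := huniq _ le_sup_left (lt_of_le_of_ne hTL hne)
    have h1 : Y ≤ L0.map (cj g⁻¹) := (map_cj_le_iff Y L0 g).1 (le_sup_right.trans hT0)
    have h2 : L0.map (cj g⁻¹) = L0 :=
      zip_unique _ rfl ⟨hYL, hY1, hY2⟩ (isMaxSub_map_cj hL0 (L.inv_mem hg)) hL0 h1 hYL0
    have h3 : g⁻¹ ∈ L ⊓ Subgroup.normalizer (L0 : Set G) :=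
      ⟨L.inv_mem hg, mem_normalizer_iff_map_cj.2 h2⟩
    rw [hNL0] at h3
    exact hg0 (by simpa using L0.inv_mem h3)
  · -- `O_p(L) ≤ L0`
    have hYn : Y ≤ Subgroup.normalizer ((pCoreOf p L : Subgroup G) : Set G) := hYL.trans (le_normalizer_pCoreOf p L)
    have hPp : IsPGroup p ↥(Y ⊔ pCoreOf p L) :=
      IsPGroup.to_sup_of_normal_right' hYp (pCoreOf_isPGroup p L) hYn
    have hPL : Y ⊔ pCoreOf p L ≤ L := sup_le hYL (pCoreOf_le p L)
    have hPne : Y ⊔ pCoreOf p L ≠ L := by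
      intro h1
      apply hY2
      rw [h1] at hPp
      exact hYL.trans (le_pCoreOf p le_rfl hLn hPp)
    exact le_sup_right.trans (huniq _ le_sup_left (lt_of_le_of_ne hPL hPne))
  · intro n hn
    have h1 : Y ≤ pCoreOf p L0 := hY1 L0 hL0.1.le hL0.1.ne hYL0
    have h2 : (pCoreOf p L0).map (cj n) = pCoreOf p L0 :=
      mem_normalizer_iff_map_cj.1 (le_normalizer_pCoreOf p L0 hn)
    rw [← h2]
    exact Subgroup.map_mono h1
  · exact SetLike.exists_of_lt hL0.1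

end Cfsg.Agent.Helper14.Zip
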