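import Mathlib
import Cfsg.Agent.Helper27.S3001QDefs
import Cfsg.Agent.Helper27.S3001G1
import Cfsg.Agent.Helper15.S3001G6

/-! S3001 board `s3001qpieces`, row S5: `QOFF`, a best offender on `V / R`. -/

set_option autoImplicit false

namespace Cfsg.Agent.S3001P

open Cfsg.Agent.S2789P Cfsg.Agent.S2999P Cfsg.Agent.S3000P
open scoped commutatorElement

universe u

variable {G : Type u} [Group G]

theorem S5_aux_centralizer_bot {H : Type*} [Group H] :
    Subgroup.centralizer (((⊥ : Subgroup H) : Subgroup H) : Set H) = ⊤ := by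
  rw [Subgroup.centralizer_eq_top_iff_subset]
  intro x hx
  rw [SetLike.mem_coe, Subgroup.mem_bot] at hx
  rw [hx]
  exact Subgroup.one_mem _

theorem S5_aux_f_bot {H : Type*} [Group H] (W : Subgroup H) :
    Nat.card ↥(⊥ : Subgroup H) * Nat.card ↥(W ⊓ Subgroup.centralizer (((⊥ : Subgroup H) : Subgroup H) : Set H)) =
      Nat.card ↥W := by
  rw [S5_aux_centralizer_bot, inf_top_eq, Subgroup.card_bot, one_mul]

theorem S5_aux_hat_centralizer_le {R W B : Subgroup G} :
    hat R (W ⊓ Subgroup.centralizer (B : Set G)) ≤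
      hat R W ⊓ Subgroup.centralizer ((hat R B : Subgroup (QG R)) : Set (QG R)) := by
  intro y hy
  obtain ⟨x, hx, rfl⟩ := mem_hat.1 hy
  refine Subgroup.mem_inf.2 ⟨qpi_mem_hat x hx.1, ?_⟩
  rw [Subgroup.mem_centralizer_iff]
  intro b' hb'
  obtain ⟨b, hb, rfl⟩ := mem_hat.1 hb'
  rw [← map_mul, ← map_mul]
  congr 1
  apply Subtype.ext
  rw [Subgroup.coe_mul, Subgroup.coe_mul]
  exact (Subgroup.mem_centralizer_iff.1 hx.2) _ hb

theorem S5_aux_hat_cent_le {R V : Subgroup G} :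
    hat R (Subgroup.centralizer (V : Set G)) ≤ Subgroup.centralizer ((hat R V : Subgroup (QG R)) : Set (QG R)) := by
  intro y hy
  have h1 : y ∈ hat R (⊤ ⊓ Subgroup.centralizer (V : Set G)) := by rwa [top_inf_eq]
  exact (S5_aux_hat_centralizer_le h1).2

theorem S5_aux_hat_comm_le {R A : Subgroup G} {K : Subgroup G} (hK : ⁅A, A⁆ ≤ K) :
    ⁅hat R A, hat R A⁆ ≤ hat R K := by
  rw [Subgroup.commutator_le]
  intro a' ha' b' hb'
  obtain ⟨a, ha, rfl⟩ := mem_hat.1 ha'
  obtain ⟨b, hb, rfl⟩ := mem_hat.1 hb'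
  rw [← map_commutatorElement]
  apply qpi_mem_hat
  have h1 : ((⁅a, b⁆ : ↥(NR R)) : G) = ⁅(a : G), (b : G)⁆ := by
    simp [commutatorElement_def]
  rw [h1]
  exact hK (Subgroup.commutator_mem_commutator ha hb)

variable {p : ℕ} {V P : Subgroup G}

theorem QOFF [Finite G] [Fact p.Prime] {R : Subgroup G} (hV : V ≤ NR R) (hRV : R ≤ V) (hP : P ≤ NR R) (hPR : P ⊓ R = ⊥)
    (hfaith : hat R P ⊓ Subgroup.centralizer ((hat R V : Subgroup (QG R)) : Set (QG R)) = ⊥)
    (hoff : ∃ A : Subgroup G, A ≤ P ∧ ¬ A ≤ Subgroup.centralizer (V : Set G) ∧ Cfsg.IsBestOffenderOn p V A) :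
    ∃ A' : Subgroup (QG R), A' ≤ hat R P ∧
      ¬ A' ≤ Subgroup.centralizer ((hat R V : Subgroup (QG R)) : Set (QG R)) ∧
      Cfsg.IsBestOffenderOn p (hat R V) A' := by
  obtain ⟨A, hAP, hAV, hbest, hcomm, hpow⟩ := hoff
  have hAN : A ≤ NR R := hAP.trans hP
  have hAR : A ⊓ R = ⊥ := le_bot_iff.1 (hPR ▸ inf_le_inf_right R hAP)
  have hcA : Nat.card ↥(hat R A) = Nat.card ↥A := by
    have h1 := card_hat hAN
    rw [hAR, Subgroup.card_bot, mul_one] at h1
    exact h1
  have hcV : Nat.card ↥(hat R V) * Nat.card ↥R = Nat.card ↥V := by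
    have h1 := card_hat hV
    rw [inf_eq_right.2 hRV] at h1
    exact h1
  have hWN : V ⊓ Subgroup.centralizer (A : Set G) ≤ NR R := inf_le_left.trans hV
  have hcW := card_hat hWN
  have hWhat : hat R (V ⊓ Subgroup.centralizer (A : Set G)) ≤
      hat R V ⊓ Subgroup.centralizer ((hat R A : Subgroup (QG R)) : Set (QG R)) :=
    S5_aux_hat_centralizer_le
  have h0 := hbest ⊥ bot_le
  rw [S5_aux_f_bot] at h0
  have hRpos : 0 < Nat.card ↥R := Nat.card_pos
  -- the key inequality `f(⊥) ≤ f(Â)`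
  have hkey : Nat.card ↥(hat R V) ≤ Nat.card ↥(hat R A) *
      Nat.card ↥(hat R V ⊓ Subgroup.centralizer ((hat R A : Subgroup (QG R)) : Set (QG R))) := by
    apply Nat.le_of_mul_le_mul_right _ hRpos
    rw [hcV]
    refine h0.trans ?_
    rw [← hcA, ← hcW, mul_assoc]
    apply Nat.mul_le_mul_left
    apply Nat.mul_le_mul
    · exact Subgroup.card_le_of_le hWhat
    · exact Subgroup.card_le_of_le inf_le_right
  have hAne : hat R A ≠ ⊥ := by
    intro h
    apply hAV
    have h1 : Nat.card ↥A = 1 := by rw [← hcA, h, Subgroup.card_bot]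
    rw [Subgroup.eq_bot_of_card_eq A h1]
    exact bot_le
  -- a maximiser among the nontrivial subgroups of `Â`
  let f : Subgroup (QG R) → ℕ := fun B =>
    Nat.card ↥B * Nat.card ↥(hat R V ⊓ Subgroup.centralizer ((B : Subgroup (QG R)) : Set (QG R)))
  obtain ⟨A', ⟨hA'le, hA'ne⟩, hmax⟩ :=
    Set.exists_max_image {B : Subgroup (QG R) | B ≤ hat R A ∧ B ≠ ⊥} f (Set.toFinite _) ⟨hat R A, le_rfl, hAne⟩
  have hcent : hat R (Subgroup.centralizer (V : Set G)) ≤
      Subgroup.centralizer ((hat R V : Subgroup (QG R)) : Set (QG R)) := S5_aux_hat_cent_le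
  refine ⟨A', hA'le.trans (hat_mono hAP), ?_, ?_, ?_, ?_⟩
  · intro h
    apply hA'ne
    exact le_bot_iff.1 (hfaith ▸ le_inf (hA'le.trans (hat_mono hAP)) h)
  · intro B hB
    by_cases hB0 : B = ⊥
    · subst hB0
      rw [S5_aux_f_bot]
      exact hkey.trans (hmax (hat R A) ⟨le_rfl, hAne⟩)
    · exact hmax B ⟨hB.trans hA'le, hB0⟩
  · refine (Subgroup.commutator_mono hA'le hA'le).trans ?_
    exact (S5_aux_hat_comm_le hcomm).trans hcent
  · intro a' ha'
    obtain ⟨x, hxA, rfl⟩ := mem_hat.1 (hA'le ha')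
    rw [← map_pow]
    apply hcent
    apply qpi_mem_hat
    rw [Subgroup.coe_pow]
    exact hpow _ hxA

end Cfsg.Agent.S3001P
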