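import Mathlib
import Cfsg.Agent.Helper27.S3001QDefs2
import Cfsg.Agent.Helper27.S3001G1
import Cfsg.Agent.Helper8.S3001G2
import Cfsg.Agent.Helper19.S3001G3
import Cfsg.Agent.Helper6.S3001G5
import Cfsg.Agent.Helper15.S3001G9a
import Cfsg.Agent.Helper8.S3001G9b

/-! S3001 board `s3001qpieces`, row S7B: `QPULLB`, the pull-back (explicit family) of the conclusion of S3000 from `N_G(R)/R` to `G`. -/

set_option autoImplicit false

namespace Cfsg.Agent.S3001P

open Cfsg.Agent.S2789P Cfsg.Agent.S2999P Cfsg.Agent.S3000P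

universe u

variable {G : Type u} [Group G]

theorem S7B_aux_comm_le {N X Y : Subgroup G} (hX : X ≤ N) (hY : Y ≤ N) : ⁅X, Y⁆ ≤ N := by
  rw [Subgroup.commutator_le]
  intro x hx y hy
  exact N.mul_mem (N.mul_mem (N.mul_mem (hX hx) (hY hy)) (N.inv_mem (hX hx))) (N.inv_mem (hY hy))

theorem S7B_aux_hat_eq_bot_iff {R X : Subgroup G} (hX : X ≤ NR R) : hat R X = ⊥ ↔ X ≤ R := by
  constructor
  · intro h x hx
    have h1 : qpi R ⟨x, hX hx⟩ ∈ hat R X := qpi_mem_hat _ hx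
    rw [h, Subgroup.mem_bot, qpi_eq_one_iff] at h1
    exact h1
  · intro h
    rw [eq_bot_iff]
    intro y hy
    obtain ⟨x, hx, rfl⟩ := mem_hat.1 hy
    rw [Subgroup.mem_bot, qpi_eq_one_iff]
    exact h hx

theorem S7B_aux_hat_le_on {R P X Y : Subgroup G} (hP : P ≤ NR R) (hPR : P ⊓ R = ⊥) (hX : X ≤ P) (hY : Y ≤ P)
    (h : hat R X ≤ hat R Y) : X ≤ Y := by
  intro x hx
  have h1 : qpi R ⟨x, hP (hX hx)⟩ ∈ hat R Y := h (qpi_mem_hat _ hx)
  obtain ⟨y, hy, hyx⟩ := mem_hat.1 h1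
  rw [qpi_eq_iff] at hyx
  have h2 : (y : G)⁻¹ * x ∈ P ⊓ R := ⟨P.mul_mem (P.inv_mem (hY hy)) (hX hx), hyx⟩
  rw [hPR, Subgroup.mem_bot] at h2
  have h3 : x = (y : G) := by
    have := congrArg (fun z => (y : G) * z) h2
    simpa using this
  rw [h3]
  exact hy

theorem S7B_aux_hat_inj_on {R P X Y : Subgroup G} (hP : P ≤ NR R) (hPR : P ⊓ R = ⊥) (hX : X ≤ P) (hY : Y ≤ P)
    (h : hat R X = hat R Y) : X = Y :=
  le_antisymm (S7B_aux_hat_le_on hP hPR hX hY h.le) (S7B_aux_hat_le_on hP hPR hY hX h.ge)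

theorem S7B_aux_hat_P_inf_pre {R P : Subgroup G} {Y : Subgroup (QG R)} (hY : Y ≤ hat R P) :
    hat R (P ⊓ pre R Y) = Y := by
  apply le_antisymm
  · intro y hy
    obtain ⟨x, hx, rfl⟩ := mem_hat.1 hy
    obtain ⟨h1, h2⟩ := mem_pre.1 hx.2
    exact h2
  · intro y hy
    obtain ⟨x, hx, rfl⟩ := mem_hat.1 (hY hy)
    exact qpi_mem_hat x ⟨hx, mem_pre.2 ⟨x.2, hy⟩⟩

theorem S7B_aux_eq_bot {R P X : Subgroup G} (hP : P ≤ NR R) (hPR : P ⊓ R = ⊥) (hX : X ≤ P)
    (h : hat R X = ⊥) : X = ⊥ := by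
  have h1 : X ≤ R := (S7B_aux_hat_eq_bot_iff (hX.trans hP)).1 h
  exact le_bot_iff.1 (hPR ▸ le_inf hX h1)

variable {p : ℕ}

theorem QPULLB {R V P Tg : Subgroup G} (hV : V ≤ NR R) (hRV : R ≤ V) (hP : P ≤ NR R) (hPR : P ⊓ R = ⊥) (hTg : Tg ≤ P)
    {r : ℕ} {Eh : Fin r → Subgroup (QG R)} (h : ConclB p (hat R V) (hat R P) (hat R Tg) r Eh) :
    ConclPBB p R V P Tg r (fun i => P ⊓ pre R (Eh i)) ∧ ∀ i, hat R (P ⊓ pre R (Eh i)) = Eh i := by
  obtain ⟨hr, hE'P, hcomm, hdir, hgen, hconj, hVdec, hVcomm, hloc⟩ := h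
  refine ⟨?_, fun i => S7B_aux_hat_P_inf_pre (hE'P i)⟩
  -- the components downstairs
  set E : Fin r → Subgroup G := fun i => P ⊓ pre R (Eh i) with hEdef
  have hEP : ∀ i, E i ≤ P := fun i => inf_le_left
  have hEN : ∀ i, E i ≤ NR R := fun i => (hEP i).trans hP
  have hhat : ∀ i, hat R (E i) = Eh i := fun i => S7B_aux_hat_P_inf_pre (hE'P i)
  have hER : ∀ i, E i ⊓ R = ⊥ := fun i =>
    le_bot_iff.1 (hPR ▸ inf_le_inf_right R (hEP i))
  have hiSupP : (⨆ i, E i) ≤ P := iSup_le hEP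
  have hhatSup : hat R (⨆ i, E i) = ⨆ i, Eh i := by
    rw [hat_iSup E hEN]
    exact iSup_congr hhat
  have : Nonempty (Fin r) := ⟨⟨0, hr⟩⟩
  refine ⟨hr, hEP, ?_, ?_, ?_, ?_, ?_, ?_, ?_⟩
  · -- commuting
    intro i j hij
    apply S7B_aux_eq_bot hP hPR (S7B_aux_comm_le (hEP i) (hEP j))
    rw [hat_commutator (hEN i) (hEN j), hhat, hhat]
    exact hcomm i j hij
  · -- direct
    intro i
    apply S7B_aux_eq_bot hP hPR (inf_le_left.trans (hEP i))
    have h1 : hat R (E i ⊓ ⨆ j ∈ {j | j ≠ i}, E j) ≤ Eh i ⊓ ⨆ j ∈ {j | j ≠ i}, Eh j := by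
      apply le_inf
      · exact (hat_mono inf_le_left).trans (hhat i).le
      · refine (hat_mono inf_le_right).trans ?_
        rw [hat_iSup (fun j => ⨆ (_ : j ∈ {j | j ≠ i}), E j) (fun j => iSup_le fun _ => hEN j)]
        apply iSup_mono
        intro j
        rw [hat_iSup (fun (_ : j ∈ {j | j ≠ i}) => E j) (fun _ => hEN j)]
        exact iSup_mono fun _ => (hhat j).le
    exact le_bot_iff.1 ((hdir i) ▸ h1)
  · -- generation
    apply S7B_aux_hat_inj_on hP hPR (sup_le hiSupP hTg) le_rfl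
    rw [hat_sup (hiSupP.trans hP) (hTg.trans hP), hhatSup]
    exact hgen
  · -- conjugacy
    intro i j
    obtain ⟨t', ht', htE⟩ := hconj i j
    obtain ⟨t, htT, rfl⟩ := mem_hat.1 ht'
    refine ⟨(t : G), htT, ?_⟩
    apply S7B_aux_hat_inj_on hP hPR ?_ (hEP j)
    · rw [hat_map_conj t, hhat, hhat]
      exact htE
    · rintro x ⟨y, hy, rfl⟩
      have htP : (t : G) ∈ P := hTg htT
      exact P.mul_mem (P.mul_mem htP (hEP i hy)) (P.inv_mem htP)
  · -- decomposition of V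
    have hpreV : pre R (hat R V) = V := by
      rw [pre_hat hV]
      exact sup_eq_left.2 hRV
    have h1 := congrArg (pre R) hVdec
    rw [pre_sup, pre_inf, hpreV, pre_iSup] at h1
    have h2 : ∀ i, pre R ⁅hat R V, Eh i⁆ = ⁅V, E i⁆ ⊔ R := by
      intro i
      rw [← hhat i, ← hat_commutator hV (hEN i), pre_hat (S7B_aux_comm_le hV (hEN i))]
    have hRfix : R ≤ fixMod R V (⨆ i, E i) := le_inf hRV (R_le_pre _)
    have hfm : fixMod R V (⨆ i, E i) = V ⊓ pre R (Subgroup.centralizer (((⨆ i, Eh i : Subgroup (QG R))) : Set (QG R))) := by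
      unfold fixMod
      rw [hhatSup]
    apply le_antisymm
    · apply sup_le inf_le_left
      apply iSup_le
      intro i
      have h3 : pre R ⁅hat R V, Eh i⁆ ≤ V :=
        ((le_iSup (fun i => pre R ⁅hat R V, Eh i⁆) i).trans le_sup_right).trans h1.le
      rw [h2 i] at h3
      exact le_sup_left.trans h3
    · rw [hfm] at hRfix ⊢
      conv_lhs => rw [← h1]
      apply sup_le le_sup_left
      apply iSup_le
      intro i
      rw [h2 i]
      apply sup_le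
      · exact (le_iSup (fun i => ⁅V, E i⁆) i).trans le_sup_right
      · exact hRfix.trans le_sup_left
  · -- double commutators
    intro i j hij
    have hN : ⁅⁅V, E i⁆, E j⁆ ≤ NR R := S7B_aux_comm_le (S7B_aux_comm_le hV (hEN i)) (hEN j)
    rw [← S7B_aux_hat_eq_bot_iff hN, hat_commutator (S7B_aux_comm_le hV (hEN i)) (hEN j), hat_commutator hV (hEN i),
      hhat, hhat]
    exact hVcomm i j hij
  · -- the local structure
    intro i
    obtain ⟨n, hn, hcase⟩ := hloc i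
    have e1 : ↥(E i) ≃* ↥(Eh i) :=
      (MulEquiv.ofBijective (hatHom (hEN i)) ⟨hatHom_inj (hEN i) (hER i), hatHom_surj (hEN i)⟩).trans
        (MulEquiv.subgroupCongr (hhat i))
    have hU : pre R ⁅hat R V, Eh i⁆ = ⁅V, E i⁆ ⊔ R := by
      rw [← hhat i, ← hat_commutator hV (hEN i), pre_hat (S7B_aux_comm_le hV (hEN i))]
    have hU0 : pre R (⁅hat R V, Eh i⁆ ⊓ Subgroup.centralizer ((Eh i : Subgroup (QG R)) : Set (QG R))) =
        fixMod R (⁅V, E i⁆ ⊔ R) (E i) := by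
      rw [pre_inf, hU]
      unfold fixMod
      rw [hhat i]
    refine ⟨n, hn, ?_⟩
    rcases hcase with ⟨F, iF, iFt, hcard, ⟨e2⟩, hact⟩ | ⟨hp2, ⟨e2⟩, hact⟩
    · left
      refine ⟨F, iF, iFt, hcard, ⟨e1.trans e2⟩, ?_⟩
      rw [← hhat i] at hact
      have := sl2_pull (hEN i) hact
      rw [hhat i, hU, hU0] at this
      exact this
    · right
      refine ⟨hp2, ⟨e1.trans e2⟩, ?_⟩
      rw [← hhat i] at hact
      have := perm_pull (hEN i) hact
      rw [hhat i, hU, hU0] at this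
      exact this

end Cfsg.Agent.S3001P
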