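import Mathlib
import Cfsg.Agent.Helper27.S3001QDefs

/-! S3001 board `s3001qpieces`, row G8: `mem_fixMod` (self-contained; does not use the G1 lemmas). -/

set_option autoImplicit false

namespace Cfsg.Agent.S3001P

open Cfsg.Agent.S2789P Cfsg.Agent.S2999P Cfsg.Agent.S3000P

universe u

variable {G : Type u} [Group G]

theorem G8_aux_qpi_eq_one {R : Subgroup G} (a : ↥(NR R)) : qpi R a = 1 ↔ (a : G) ∈ R := by
  unfold qpi
  rw [QuotientGroup.mk'_apply, QuotientGroup.eq_one_iff, Subgroup.mem_subgroupOf]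

theorem G8_aux_comm_iff {R : Subgroup G} (a b : ↥(NR R)) :
    qpi R a * qpi R b = qpi R b * qpi R a ↔ (a : G) * (b : G) * (a : G)⁻¹ * (b : G)⁻¹ ∈ R := by
  have h1 : (a : G) * (b : G) * (a : G)⁻¹ * (b : G)⁻¹ = ((a * b * a⁻¹ * b⁻¹ : ↥(NR R)) : G) := by
    simp
  rw [h1, ← G8_aux_qpi_eq_one, map_mul, map_mul, map_mul, map_inv, map_inv]
  constructor
  · intro h
    rw [h]
    group
  · intro h
    have h2 : qpi R a * qpi R b = (qpi R a * qpi R b * (qpi R a)⁻¹ * (qpi R b)⁻¹) * (qpi R b * qpi R a) := by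
      group
    rw [h2, h, one_mul]

theorem mem_fixMod {R U E : Subgroup G} (hU : U ≤ NR R) (hE : E ≤ NR R) {u : G} :
    u ∈ fixMod R U E ↔ u ∈ U ∧ ∀ e ∈ E, e * u * e⁻¹ * u⁻¹ ∈ R := by
  unfold fixMod pre
  rw [Subgroup.mem_inf]
  constructor
  · rintro ⟨huU, x, hx, hxu⟩
    refine ⟨huU, fun e he => ?_⟩
    have hxu' : (x : G) = u := hxu
    have hx' : qpi R x ∈ Subgroup.centralizer ((hat R E : Subgroup (QG R)) : Set (QG R)) := hx
    rw [Subgroup.mem_centralizer_iff] at hx'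
    have he' : qpi R ⟨e, hE he⟩ ∈ ((hat R E : Subgroup (QG R)) : Set (QG R)) :=
      ⟨⟨e, hE he⟩, he, rfl⟩
    have h := hx' _ he'
    have h2 := (G8_aux_comm_iff (⟨e, hE he⟩ : ↥(NR R)) x).1 h
    rw [← hxu']
    exact h2
  · rintro ⟨huU, h⟩
    refine ⟨huU, ⟨u, hU huU⟩, ?_, rfl⟩
    change qpi R ⟨u, hU huU⟩ ∈ Subgroup.centralizer ((hat R E : Subgroup (QG R)) : Set (QG R))
    rw [Subgroup.mem_centralizer_iff]
    rintro y ⟨e, he, rfl⟩
    have he' : (e : G) ∈ E := he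
    exact (G8_aux_comm_iff e (⟨u, hU huU⟩ : ↥(NR R))).2 (h _ he')

end Cfsg.Agent.S3001P
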