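import Cfsg.Agent.Helper26.S3818Defs

/-! # S3818 board (helper26): row A3 (imprimitive bound), core with A1 and A2 as hypotheses (helper14) -/

set_option autoImplicit false

namespace Cfsg.Agent.S3818P

open Module

/-- finrank of an internal direct sum -/
theorem A3_aux_finrank_sum {k : Type*} [Field k] {V : Type*} [AddCommGroup V] [Module k V] [FiniteDimensional k V]
    {ι : Type*} [Fintype ι] [DecidableEq ι] (S : ι → Submodule k V) (hind : iSupIndep S) (htop : ⨆ i, S i = ⊤) :
    finrank k V = ∑ i, finrank k (S i) := by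
  have hI := DirectSum.isInternal_submodule_of_iSupIndep_of_iSup_eq_top hind htop
  have e := LinearEquiv.ofBijective (DirectSum.coeLinearMap S) hI
  rw [← e.finrank_eq, Module.finrank_directSum]

/-- arithmetic of A3 -/
theorem A3_aux_arith (p μ d t f : ℕ) (hp3 : 3 < p) (hdt : 0 < d * t) (h2 : p * f ≤ t)
    (h1 : p * μ ≤ d * ((p - 1) * f + t)) : 2 * μ < d * t := by
  by_contra hcon
  push Not at hcon
  obtain ⟨q, rfl⟩ : ∃ q, p = q + 1 := ⟨p - 1, by omega⟩
  simp only [Nat.add_sub_cancel] at h1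
  -- (q+1)^2 μ ≤ d * (q * (q+1) f + (q+1) t) ≤ d * (q t + (q+1) t) = d t (2q+1)
  have h3 : (q + 1) * ((q + 1) * μ) ≤ (q + 1) * (d * (q * f + t)) := Nat.mul_le_mul_left _ h1
  have h4 : (q + 1) * (d * (q * f + t)) = d * (q * ((q + 1) * f) + (q + 1) * t) := by ring
  have h5 : d * (q * ((q + 1) * f) + (q + 1) * t) ≤ d * (q * t + (q + 1) * t) :=
    Nat.mul_le_mul_left _ (Nat.add_le_add_right (Nat.mul_le_mul_left _ h2) _)
  have h6 : (q + 1) * ((q + 1) * μ) ≤ d * t * (2 * q + 1) := by
    calc (q + 1) * ((q + 1) * μ) ≤ d * (q * t + (q + 1) * t) := by rw [h4] at h3; exact h3.trans h5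
      _ = d * t * (2 * q + 1) := by ring
  have h7 : (q + 1) * (q + 1) * (d * t) ≤ 2 * ((q + 1) * ((q + 1) * μ)) := by
    calc (q + 1) * (q + 1) * (d * t) ≤ (q + 1) * (q + 1) * (2 * μ) := Nat.mul_le_mul_left _ hcon
      _ = 2 * ((q + 1) * ((q + 1) * μ)) := by ring
  have h8 : (q + 1) * (q + 1) * (d * t) ≤ 2 * (d * t * (2 * q + 1)) := h7.trans (Nat.mul_le_mul_left _ h6)
  have h9 : (q + 1) * (q + 1) ≤ 2 * (2 * q + 1) := by
    have : (d * t) * ((q + 1) * (q + 1)) ≤ (d * t) * (2 * (2 * q + 1)) := by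
      calc (d * t) * ((q + 1) * (q + 1)) = (q + 1) * (q + 1) * (d * t) := by ring
        _ ≤ 2 * (d * t * (2 * q + 1)) := h8
        _ = (d * t) * (2 * (2 * q + 1)) := by ring
    exact Nat.le_of_mul_le_mul_left this hdt
  nlinarith

/-- core of A3: the instances of A1 and A2 that are used are hypotheses -/
theorem A3_imprimitive_aux_core {G : Type*} [Group G] {p : ℕ}
    (hp3 : 3 < p) (x : G)
    {k : Type*} [Field k] {V : Type*} [AddCommGroup V] [Module k V] [FiniteDimensional k V]
    [Nontrivial V] (ρ : Representation k G V) {ι : Type*} [Fintype ι] [DecidableEq ι]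
    [MulAction G ι] [MulAction.IsPretransitive G ι] (hι : 2 ≤ Fintype.card ι)
    (S : ι → Submodule k V) (hind : iSupIndep S) (htop : ⨆ i, S i = ⊤)
    (hS : ∀ g i, (S i).map (ρ g) = S (g • i))
    (hA2 : p * (Finset.univ.filter fun ω : ι => x • ω = ω).card ≤ Fintype.card ι)
    (hA1' : ∀ m : ℕ, (∀ i, finrank k (S i) ≤ m) → p * finrank k (LinearMap.ker (ρ x - 1)) ≤
      m * ((p - 1) * (Finset.univ.filter fun i : ι => (MulAction.toPerm x : Equiv.Perm ι) i = i).card +
        Fintype.card ι)) : Bound ρ x := by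
  classical
  -- all summands have the same dimension
  have hinj : ∀ g : G, Function.Injective (ρ g) := by
    intro g
    have h1 : ρ g⁻¹ * ρ g = 1 := by rw [← map_mul, inv_mul_cancel, map_one]
    intro a b hab
    have := congrArg (ρ g⁻¹) hab
    have e : ∀ v, ρ g⁻¹ (ρ g v) = v := fun v => by
      have := LinearMap.congr_fun h1 v
      simp only [Module.End.mul_apply, Module.End.one_apply] at this
      exact this
    rwa [e, e] at this
  have hdim : ∀ (g : G) (i : ι), finrank k (S (g • i)) = finrank k (S i) := by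
    intro g i
    rw [← hS g i]
    exact (Submodule.equivMapOfInjective (ρ g) (hinj g) (S i)).finrank_eq.symm
  obtain ⟨i₀⟩ : Nonempty ι := by
    rw [← Fintype.card_pos_iff]; omega
  have hd : ∀ i, finrank k (S i) = finrank k (S i₀) := by
    intro i
    obtain ⟨g, rfl⟩ := MulAction.exists_smul_eq G i₀ i
    exact hdim g i₀
  have hn : finrank k V = finrank k (S i₀) * Fintype.card ι := by
    rw [A3_aux_finrank_sum S hind htop, Finset.sum_congr rfl (fun i _ => hd i), Finset.sum_const,
      Finset.card_univ, smul_eq_mul, mul_comm]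
  have hA1 := hA1' (finrank k (S i₀)) (fun i => (hd i).le)
  have hfix : (Finset.univ.filter fun i : ι => (MulAction.toPerm x : Equiv.Perm ι) i = i) =
      (Finset.univ.filter fun ω : ι => x • ω = ω) := by
    ext i; simp
  rw [hfix] at hA1
  have hpos : 0 < finrank k V := Module.finrank_pos
  unfold Bound
  rw [hn]
  exact A3_aux_arith p _ _ _ _ hp3 (by rw [← hn]; exact hpos) hA2 hA1

end Cfsg.Agent.S3818P
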