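import Cfsg.Agent.Helper14.S3818A3
import Cfsg.Agent.Helper9.S3818A1
import Cfsg.Agent.Helper4.S3818A2

/-! # S3818 board (helper26): row A3 = A3_imprimitive (helper14) -/

set_option autoImplicit false

namespace Cfsg.Agent.S3818P

open Module

/-- A3 (imprimitive bound). -/
theorem A3_imprimitive {G : Type*} [Group G] [Finite G] [Group.IsSolvable G] {p : ℕ}
    (hp : p.Prime) (hp3 : 3 < p) (x : G) (hx : x ^ p = 1)
    (hgen : Subgroup.normalClosure ({x} : Set G) = ⊤)
    {k : Type*} [Field k] {V : Type*} [AddCommGroup V] [Module k V] [FiniteDimensional k V]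
    [Nontrivial V] (ρ : Representation k G V) {ι : Type*} [Fintype ι] [DecidableEq ι]
    [MulAction G ι] [MulAction.IsPretransitive G ι] (hι : 2 ≤ Fintype.card ι)
    (S : ι → Submodule k V) (hind : iSupIndep S) (htop : ⨆ i, S i = ⊤)
    (hS : ∀ g i, (S i).map (ρ g) = S (g • i)) : Bound ρ x := by
  have hσ : (MulAction.toPerm x : Equiv.Perm ι) ^ p = 1 := by
    have h1 : (MulAction.toPermHom G ι x) ^ p = 1 := by
      rw [← map_pow, hx, map_one]
    exact h1
  exact A3_imprimitive_aux_core hp3 x ρ hι S hind htop hS (A2_perm (G := G) (Ω := ι) hι p hp x hx hgen)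
    (fun m hm => A1_perm_summands S hind htop (ρ x) (MulAction.toPerm x) (fun i => (hS x i).le) p hp hσ m hm)

end Cfsg.Agent.S3818P
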