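import Cfsg.Agent.Helper14.S3818A3
import Cfsg.Agent.Helper2.S3818FR2
import Cfsg.Agent.Helper22.S3818FR4
import Cfsg.Agent.Helper23.S3818FR3
import Cfsg.Agent.Helper9.S3818A1

/-! # S3818 board (helper26): row FRMAIN = FR_main (helper14) -/

set_option autoImplicit false

namespace Cfsg.Agent.S3818P

open Module

/-- a left transversal of `Z` in `Q` as a finset -/
theorem FR_main_aux_transversal {G : Type*} [Group G] [Finite G] (Q Z : Subgroup G) :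
    ∃ T : Finset G, (∀ t ∈ T, t ∈ Q) ∧ ∀ u ∈ Q, ∃! t, t ∈ T ∧ t⁻¹ * u ∈ Z := by
  classical
  have : Fintype (↥Q ⧸ Z.subgroupOf Q) := Fintype.ofFinite _
  refine ⟨Finset.univ.image (fun q : ↥Q ⧸ Z.subgroupOf Q => ((Quotient.out q : ↥Q) : G)), ?_, ?_⟩
  · intro t ht
    rw [Finset.mem_image] at ht
    obtain ⟨q, -, rfl⟩ := ht
    exact (Quotient.out q : ↥Q).2
  · intro u hu
    refine ⟨((Quotient.out (QuotientGroup.mk ⟨u, hu⟩ : ↥Q ⧸ Z.subgroupOf Q) : ↥Q) : G), ⟨?_, ?_⟩, ?_⟩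
    · exact Finset.mem_image.2 ⟨_, Finset.mem_univ _, rfl⟩
    · have h1 : (QuotientGroup.mk (Quotient.out (QuotientGroup.mk ⟨u, hu⟩ : ↥Q ⧸ Z.subgroupOf Q)) :
          ↥Q ⧸ Z.subgroupOf Q) = QuotientGroup.mk ⟨u, hu⟩ := QuotientGroup.out_eq' _
      rw [QuotientGroup.eq] at h1
      exact h1
    · rintro t ⟨ht, htu⟩
      rw [Finset.mem_image] at ht
      obtain ⟨q, -, rfl⟩ := ht
      have h1 : (QuotientGroup.mk (Quotient.out q) : ↥Q ⧸ Z.subgroupOf Q) = QuotientGroup.mk ⟨u, hu⟩ := by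
        rw [QuotientGroup.eq]
        exact htu
      rw [QuotientGroup.out_eq'] at h1
      rw [h1]

/-- a map of finite order `p` is a permutation -/
theorem FR_main_aux_perm {ι : Type*} (s : ι → ι) (p : ℕ) (hp : 0 < p) (hs : ∀ i, s^[p] i = i) :
    ∃ σ : Equiv.Perm ι, (∀ i, σ i = s i) ∧ σ ^ p = 1 := by
  obtain ⟨q, rfl⟩ : ∃ q, p = q + 1 := ⟨p - 1, by omega⟩
  refine ⟨⟨s, s^[q], ?_, ?_⟩, fun i => rfl, ?_⟩
  · intro i
    exact (Function.iterate_succ_apply s q i).symm.trans (hs i)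
  · intro i
    exact (Function.iterate_succ_apply' s q i).symm.trans (hs i)
  · ext i
    rw [← Equiv.Perm.iterate_eq_pow]
    exact hs i

/-- the choice function of a transversal -/
theorem FR_main_aux_rep {G : Type*} [Group G] (Q Z : Subgroup G) (T : Finset G)
    (hT : ∀ u ∈ Q, ∃! t, t ∈ T ∧ t⁻¹ * u ∈ Z) :
    ∃ r : G → G, ∀ u ∈ Q, r u ∈ T ∧ (r u)⁻¹ * u ∈ Z ∧ ∀ t ∈ T, t⁻¹ * u ∈ Z → t = r u := by
  classical
  refine ⟨fun u => if hu : u ∈ Q then (hT u hu).choose else 1, ?_⟩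
  intro u hu
  simp only [dif_pos hu]
  have h := (hT u hu).choose_spec
  exact ⟨h.1.1, h.1.2, fun t ht htu => h.2 t ⟨ht, htu⟩⟩

end Cfsg.Agent.S3818P

namespace Cfsg.Agent.S3818P

open Module

/-- the permutation induced by `x` on a transversal of `Z` in `Q` -/
theorem FR_main_aux_sigma {G : Type*} [Group G] [Finite G] (Q Z : Subgroup G)
    (hZ : Z = Q ⊓ Subgroup.centralizer (Q : Set G))
    (x : G) (p : ℕ) (hp : 0 < p) (hx : x ^ p = 1) (hxQ : ∀ u ∈ Q, x * u * x⁻¹ ∈ Q)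
    (hxZ : ∀ z ∈ Z, x * z * x⁻¹ = z)
    (T : Finset G) (hTQ : ∀ t ∈ T, t ∈ Q) (hT : ∀ u ∈ Q, ∃! t, t ∈ T ∧ t⁻¹ * u ∈ Z) [DecidableEq ↥T] :
    ∃ σ : Equiv.Perm ↥T, (∀ t : ↥T, ((σ t : ↥T) : G)⁻¹ * (x * (t : G) * x⁻¹) ∈ Z) ∧ σ ^ p = 1 ∧
      (Finset.univ.filter fun i : ↥T => σ i = i).card * Nat.card Z ≤
        Nat.card {u : G // u ∈ Q ∧ x * u * x⁻¹ * u⁻¹ ∈ Z} := by
  classical
  obtain ⟨r, hr⟩ := FR_main_aux_rep Q Z T hT
  have hZQ : Z ≤ Q := by rw [hZ]; exact inf_le_left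
  have hZc : ∀ a ∈ Z, ∀ t ∈ Q, t * a = a * t := by
    intro a ha t ht
    rw [hZ] at ha
    exact Subgroup.mem_centralizer_iff.1 ha.2 t ht
  have hpowQ : ∀ (j : ℕ) (u : G), u ∈ Q → x ^ j * u * (x ^ j)⁻¹ ∈ Q := by
    intro j
    induction j with
    | zero => intro u hu; simpa using hu
    | succ j ih =>
      intro u hu
      have e : x ^ (j + 1) * u * (x ^ (j + 1))⁻¹ = x * (x ^ j * u * (x ^ j)⁻¹) * x⁻¹ := by
        rw [pow_succ']; group
      rw [e]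
      exact hxQ _ (ih u hu)
  have hrT : ∀ t ∈ T, r t = t := by
    intro t ht
    exact ((hr t (hTQ t ht)).2.2 t ht (by simp)).symm
  have key : ∀ u ∈ Q, r (x * r u * x⁻¹) = r (x * u * x⁻¹) := by
    intro u hu
    obtain ⟨h1, h2, -⟩ := hr u hu
    obtain ⟨k1, k2, -⟩ := hr (x * u * x⁻¹) (hxQ u hu)
    refine ((hr (x * r u * x⁻¹) (hxQ _ (hTQ _ h1))).2.2 (r (x * u * x⁻¹)) k1 ?_).symm
    have hz := hxZ _ (Z.inv_mem h2)
    have e : (r (x * u * x⁻¹))⁻¹ * (x * r u * x⁻¹) =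
        ((r (x * u * x⁻¹))⁻¹ * (x * u * x⁻¹)) * (x * ((r u)⁻¹ * u)⁻¹ * x⁻¹) := by group
    rw [e, hz]
    exact Z.mul_mem k2 (Z.inv_mem h2)
  let s : ↥T → ↥T := fun t => ⟨r (x * (t : G) * x⁻¹), (hr _ (hxQ _ (hTQ t t.2))).1⟩
  have hiter : ∀ (j : ℕ) (t : ↥T), ((s^[j] t : ↥T) : G) = r (x ^ j * (t : G) * (x ^ j)⁻¹) := by
    intro j
    induction j with
    | zero =>
      intro t
      simp only [Function.iterate_zero, id_eq, pow_zero, one_mul, inv_one, mul_one]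
      exact (hrT t t.2).symm
    | succ j ih =>
      intro t
      rw [Function.iterate_succ_apply']
      show r (x * ((s^[j] t : ↥T) : G) * x⁻¹) = _
      rw [ih t, key _ (hpowQ j t (hTQ t t.2))]
      congr 1
      rw [pow_succ']; group
  have hsp : ∀ t : ↥T, s^[p] t = t := by
    intro t
    apply Subtype.ext
    rw [hiter, hx]
    simp only [one_mul, inv_one, mul_one]
    exact hrT t t.2
  obtain ⟨σ, hσs, hσp⟩ := FR_main_aux_perm s p hp hsp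
  have hσspec : ∀ t : ↥T, ((σ t : ↥T) : G)⁻¹ * (x * (t : G) * x⁻¹) ∈ Z := by
    intro t
    rw [hσs]
    exact (hr _ (hxQ _ (hTQ t t.2))).2.1
  refine ⟨σ, hσspec, hσp, ?_⟩
  -- counting
  have hcard : (Finset.univ.filter fun i : ↥T => σ i = i).card = Nat.card {i : ↥T // σ i = i} := by
    rw [Nat.card_eq_fintype_card, Fintype.card_subtype]
  rw [hcard, ← Nat.card_prod]
  have hmem : ∀ (i : {i : ↥T // σ i = i}) (z : ↥Z),
      ((i : ↥T) : G) * (z : G) ∈ Q ∧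
        x * (((i : ↥T) : G) * (z : G)) * x⁻¹ * (((i : ↥T) : G) * (z : G))⁻¹ ∈ Z := by
    intro i z
    have htQ : ((i : ↥T) : G) ∈ Q := hTQ _ (i : ↥T).2
    refine ⟨Q.mul_mem htQ (hZQ z.2), ?_⟩
    have ha := hσspec (i : ↥T)
    rw [i.2] at ha
    have hz := hxZ _ z.2
    have hc := hZc _ ha _ htQ
    have e : x * (((i : ↥T) : G) * (z : G)) * x⁻¹ * (((i : ↥T) : G) * (z : G))⁻¹ =
        (x * ((i : ↥T) : G) * x⁻¹) * ((x * (z : G) * x⁻¹) * (z : G)⁻¹) * ((i : ↥T) : G)⁻¹ := by group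
    rw [e, hz, mul_inv_cancel, mul_one]
    have e2 : x * ((i : ↥T) : G) * x⁻¹ * ((i : ↥T) : G)⁻¹ =
        (((i : ↥T) : G) * (((i : ↥T) : G)⁻¹ * (x * ((i : ↥T) : G) * x⁻¹))) * ((i : ↥T) : G)⁻¹ := by group
    rw [e2, hc]
    simpa using ha
  refine Nat.card_le_card_of_injective
    (fun iz : {i : ↥T // σ i = i} × ↥Z => (⟨((iz.1 : ↥T) : G) * (iz.2 : G), hmem iz.1 iz.2⟩ :
      {u : G // u ∈ Q ∧ x * u * x⁻¹ * u⁻¹ ∈ Z})) ?_
  rintro ⟨i, z⟩ ⟨i', z'⟩ h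
  have h1 : ((i : ↥T) : G) * (z : G) = ((i' : ↥T) : G) * (z' : G) := congrArg Subtype.val h
  have h2 : ((i' : ↥T) : G)⁻¹ * ((i : ↥T) : G) ∈ Z := by
    have e : ((i' : ↥T) : G)⁻¹ * ((i : ↥T) : G) = (z' : G) * (z : G)⁻¹ := by
      rw [inv_mul_eq_iff_eq_mul, ← mul_assoc, ← h1]; group
    rw [e]
    exact Z.mul_mem z'.2 (Z.inv_mem z.2)
  have h3 : ((i' : ↥T) : G) = r ((i : ↥T) : G) :=
    (hr _ (hTQ _ (i : ↥T).2)).2.2 _ (i' : ↥T).2 h2
  rw [hrT _ (i : ↥T).2] at h3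
  have h4 : i = i' := Subtype.ext (Subtype.ext h3.symm)
  subst h4
  have h5 : (z : G) = (z' : G) := mul_left_cancel h1
  rw [Subtype.ext h5]

end Cfsg.Agent.S3818P

namespace Cfsg.Agent.S3818P

open Module

/-- FR (main). -/
theorem FR_main {G : Type*} [Group G] [Finite G] {F V : Type*} [Field F] [AddCommGroup V]
    [Module F V] [FiniteDimensional F V] [Nontrivial V] (ρ : Representation F G V)
    (hfaith : Function.Injective ρ) (Q Z : Subgroup G)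
    (hZ : Z = Q ⊓ Subgroup.centralizer (Q : Set G)) (hcomm : ∀ u ∈ Q, ∀ v ∈ Q, u * v * u⁻¹ * v⁻¹ ∈ Z)
    (ζ : G → F) (hζ : ∀ z ∈ Z, ρ z = ζ z • 1)
    (x : G) (p : ℕ) (hp : p.Prime) (hx : x ^ p = 1) (hxQ : ∀ u ∈ Q, x * u * x⁻¹ ∈ Q)
    (hxZ : ∀ z ∈ Z, x * z * x⁻¹ = z) (hxnt : ∃ u ∈ Q, x * u * x⁻¹ ≠ u)
    (D C : ℕ) (hD : Nat.card Q = D * Nat.card Z)
    (hC : Nat.card {u : G // u ∈ Q ∧ x * u * x⁻¹ * u⁻¹ ∈ Z} = C * Nat.card Z)
    (hDF : (D : F) ≠ 0) (c : F) :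
    p * D * ((finrank F (LinearMap.ker (ρ x - c • 1))) ^ 2 + 1) ≤
      (finrank F V) ^ 2 * ((p - 1) * C + D) := by
  classical
  have hZQ : Z ≤ Q := by rw [hZ]; exact inf_le_left
  obtain ⟨T, hTQ, hT⟩ := FR_main_aux_transversal Q Z
  obtain ⟨hind, htop, hTD⟩ := FR2_decomp ρ hfaith Q Z hZ hcomm ζ hζ D hD hDF T hTQ hT
  obtain ⟨σ, hσ1, hσp, hσC⟩ := FR_main_aux_sigma Q Z hZ x p hp.pos hx hxQ hxZ T hTQ hT
  -- the fixed points of `σ`
  have hfix : (Finset.univ.filter fun i : ↥T => σ i = i).card ≤ C := by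
    rw [hC] at hσC
    exact Nat.le_of_mul_le_mul_right hσC Nat.card_pos
  -- the summands all have dimension `m`
  have hinj : ∀ g : G, Function.Injective (LinearMap.mulLeft F (ρ g)) := by
    intro g A B hAB
    have h1 : ρ g⁻¹ * ρ g = 1 := by rw [← map_mul, inv_mul_cancel, map_one]
    have h2 : ρ g * A = ρ g * B := hAB
    calc A = (ρ g⁻¹ * ρ g) * A := by rw [h1, one_mul]
      _ = ρ g⁻¹ * (ρ g * B) := by rw [mul_assoc, h2]
      _ = B := by rw [← mul_assoc, h1, one_mul]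
  have hdim : ∀ t : ↥T, finrank F ((commutant ρ Q).map (LinearMap.mulLeft F (ρ (t : G)))) =
      finrank F (commutant ρ Q) := fun t =>
    (Submodule.equivMapOfInjective _ (hinj t) (commutant ρ Q)).finrank_eq.symm
  have hn : finrank F V * finrank F V = D * finrank F (commutant ρ Q) := by
    have h1 := A3_aux_finrank_sum (fun t : ↥T => (commutant ρ Q).map (LinearMap.mulLeft F (ρ (t : G)))) hind htop
    rw [Module.finrank_linearMap, Finset.sum_congr rfl (fun t _ => hdim t), Finset.sum_const, Finset.card_univ,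
      Fintype.card_coe, hTD, smul_eq_mul] at h1
    exact h1
  -- A1
  have hκ : ∀ t : ↥T, ((commutant ρ Q).map (LinearMap.mulLeft F (ρ (t : G)))).map (conjEnd ρ x) ≤
      (commutant ρ Q).map (LinearMap.mulLeft F (ρ ((σ t : ↥T) : G))) := fun t =>
    FR3_perm ρ Q Z hZQ ζ hζ x hxQ (t : G) ((σ t : ↥T) : G) (hTQ _ t.2) (hTQ _ (σ t).2) (hσ1 t)
  have hA1 := A1_perm_summands (fun t : ↥T => (commutant ρ Q).map (LinearMap.mulLeft F (ρ (t : G)))) hind htop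
    (conjEnd ρ x) σ hκ p hp hσp (finrank F (commutant ρ Q)) (fun t => (hdim t).le)
  rw [Fintype.card_coe, hTD] at hA1
  -- FR4
  have hne : ρ x ≠ c • 1 := by
    intro h
    obtain ⟨u, hu, hxu⟩ := hxnt
    apply hxu
    have h1 : ρ (x * u) = ρ (u * x) := by
      rw [map_mul, map_mul, h]
      ext v
      simp
    have h2 := hfaith h1
    rw [h2]; group
  have hg : ρ x * ρ x⁻¹ = 1 := by rw [← map_mul, mul_inv_cancel, map_one]
  have hg' : ρ x⁻¹ * ρ x = 1 := by rw [← map_mul, inv_mul_cancel, map_one]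
  have hFR4 := FR4_lemmaE (ρ x) (ρ x⁻¹) hg hg' c hne
  have hFR4' : (finrank F (LinearMap.ker (ρ x - c • 1))) ^ 2 + 1 ≤
      finrank F (LinearMap.ker (conjEnd ρ x - 1)) := hFR4
  -- combine
  set μ := finrank F (LinearMap.ker (ρ x - c • 1)) with hμ
  set K := finrank F (LinearMap.ker (conjEnd ρ x - 1)) with hK
  set m := finrank F (commutant ρ Q) with hm
  set f := (Finset.univ.filter fun i : ↥T => σ i = i).card with hf
  set n := finrank F V with hnn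
  calc p * D * (μ ^ 2 + 1) ≤ p * D * K := Nat.mul_le_mul_left _ hFR4'
    _ = D * (p * K) := by ring
    _ ≤ D * (m * ((p - 1) * f + D)) := Nat.mul_le_mul_left _ hA1
    _ ≤ D * (m * ((p - 1) * C + D)) :=
      Nat.mul_le_mul_left _ (Nat.mul_le_mul_left _ (Nat.add_le_add_right (Nat.mul_le_mul_left _ hfix) _))
    _ = n ^ 2 * ((p - 1) * C + D) := by rw [pow_two, hn]; ring

end Cfsg.Agent.S3818P
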