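import Mathlib
import Cfsg.Agent.Helper10.S4017Defs

/-! Shared definition for the S4017 pieces B2HYP / B2AR (board `s4017pieces`, driver helper10):
the conclusion of S3282 (Brauer–Suzuki–Wall, abstract form), verbatim from the stubs. -/

set_option autoImplicit false

namespace Cfsg.Agent.S4017P

/-- the conclusion of S3282 (Brauer–Suzuki–Wall, abstract form) -/
def BSWc (G : Type*) [Group G] : Prop :=
  ∃ Q D : Subgroup G, 2 * Nat.card G = Nat.card ↥Q * (Nat.card ↥Q + 1) * (Nat.card ↥Q - 1) ∧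
      (∀ x ∈ Q, x ≠ 1 → Subgroup.centralizer ({x} : Set G) = Q) ∧
      IsMulCommutative ↥D ∧ 2 * Nat.card ↥D + 1 = Nat.card ↥Q ∧ Q ⊓ D = ⊥ ∧
      Subgroup.normalizer (Q : Set G) = Q ⊔ D ∧
      ∀ X : Subgroup G, X ≤ D → X ≠ ⊥ →
        Subgroup.normalizer (X : Set G) = Subgroup.normalizer (D : Set G) ∧
        ∃ u : G, orderOf u = 2 ∧ u ∉ D ∧ (∀ d ∈ D, u * d * u⁻¹ = d⁻¹) ∧
          Subgroup.normalizer (D : Set G) = D ⊔ Subgroup.zpowers u

end Cfsg.Agent.S4017P
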