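import Mathlib
import Cfsg.Agent.Helper10.S4017Defs
import Cfsg.Agent.Helper14.S4017BSWc

/-! Piece B2AR of S4017 (board `s4017pieces`, driver helper10): case `a = 2` (so `p = 3`):
the conclusion of S3282 (Brauer–Suzuki–Wall) together with `hI` is contradictory. -/

set_option autoImplicit false

namespace Cfsg.Agent.S4017P

/-- `|N(D)| = 2 |D|` when `N(D) = D ⟨u⟩` with `u ∉ D` an involution. -/
theorem B2AR_aux_card {G : Type*} [Group G] [Finite G] (D : Subgroup G) (u : G)
    (hu2 : orderOf u = 2) (huD : u ∉ D)
    (hND : Subgroup.normalizer (D : Set G) = D ⊔ Subgroup.zpowers u) :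
    Nat.card (Subgroup.normalizer (D : Set G)) = 2 * Nat.card D := by
  have hDN : D ≤ Subgroup.normalizer (D : Set G) := Subgroup.le_normalizer
  have huN : u ∈ Subgroup.normalizer (D : Set G) := by
    rw [hND]; exact Subgroup.mem_sup_right (Subgroup.mem_zpowers u)
  have huu : u * u = 1 := by rw [← pow_two, ← hu2]; exact pow_orderOf_eq_one u
  have hidx : (D.subgroupOf (Subgroup.normalizer (D : Set G))).index = 2 := by
    rw [Subgroup.index_eq_two_iff]
    refine ⟨⟨u, huN⟩, fun b => ?_⟩
    have hb : (b : G) ∈ ((D ⊔ Subgroup.zpowers u : Subgroup G) : Set G) := by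
      rw [← hND]; exact b.2
    rw [Subgroup.coe_mul_of_right_le_normalizer_left D (Subgroup.zpowers u)
      (by rw [Subgroup.zpowers_le]; exact huN)] at hb
    obtain ⟨d, hd, w, hw, hdw'⟩ := hb
    obtain ⟨k, rfl⟩ := Subgroup.mem_zpowers_iff.mp hw
    have hdw : d * u ^ k = (b : G) := hdw'
    have hk : u ^ k = 1 ∨ u ^ k = u := by
      rw [← zpow_mod_orderOf, hu2]
      rcases Int.emod_two_eq_zero_or_one k with h0 | h1
      · left; rw [Nat.cast_ofNat, h0, zpow_zero]
      · right; rw [Nat.cast_ofNat, h1, zpow_one]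
    simp only [Subgroup.mem_subgroupOf, Subgroup.coe_mul]
    rcases hk with hk | hk
    · rw [hk, mul_one] at hdw
      refine Or.inr ⟨by rw [← hdw]; exact hd, fun hc => huD ?_⟩
      rw [← hdw] at hc
      exact (Subgroup.mul_mem_cancel_left D hd).mp hc
    · rw [hk] at hdw
      refine Or.inl ⟨?_, fun hc => huD ?_⟩
      · rw [← hdw, mul_assoc, huu, mul_one]; exact hd
      · rw [← hdw] at hc
        exact (Subgroup.mul_mem_cancel_left D hd).mp hc
  have h1 := Subgroup.card_mul_index (D.subgroupOf (Subgroup.normalizer (D : Set G)))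
  rw [hidx, Nat.card_congr (Subgroup.subgroupOfEquivOfLe hDN).toEquiv] at h1
  omega

theorem B2AR {G : Type*} [Group G] [Finite G] {p a : ℕ} {Q : Subgroup G} {z : G}
    (h : Cfg G p a Q z) (f : Facts G p a Q z) (ha2 : a = 2) (hbsw : BSWc G)
    (B : Subgroup G) (hB1 : Nat.card B = p ^ (Nat.card G).factorization p)
    (hBN : Nat.card (Subgroup.normalizer (B : Set G)) = 4 * p ^ (Nat.card G).factorization p)
    (hCc : ∀ t : G, orderOf t = 2 →
      Nat.card (Subgroup.centralizer ({t} : Set G)) = 4 * p ^ (Nat.card G).factorization p) :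
    False := by
  have hp3 : p = 3 := by
    have := h.ha
    rw [ha2] at this
    omega
  subst hp3
  have hG0 : Nat.card G ≠ 0 := Nat.card_pos.ne'
  obtain ⟨Qs, D, hG, hcent, hDab, hDq, hQD, hNQ, hX⟩ := hbsw
  have hdpos : 0 < Nat.card D := Nat.card_pos
  by_cases hD : D = ⊥
  · -- `|G| = 12`
    have hd1 : Nat.card D = 1 := by rw [hD]; exact Subgroup.card_bot
    have hq : Nat.card Qs = 3 := by omega
    rw [hq] at hG
    have hG12 : Nat.card G = 12 := by omega
    obtain ⟨r, hr, hrG, hr3, hr2⟩ := h.hthird
    rw [hG12, show (12 : ℕ) = 2 * (2 * 3) by norm_num] at hrG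
    rcases (Nat.Prime.dvd_mul hr).mp hrG with h1 | h1
    · exact hr2 ((Nat.prime_dvd_prime_iff_eq hr Nat.prime_two).mp h1)
    · rcases (Nat.Prime.dvd_mul hr).mp h1 with h2 | h2
      · exact hr2 ((Nat.prime_dvd_prime_iff_eq hr Nat.prime_two).mp h2)
      · exact hr3 ((Nat.prime_dvd_prime_iff_eq hr Nat.prime_three).mp h2)
  · obtain ⟨-, u, hu2, huD, huinv, hND⟩ := hX D le_rfl hD
    have hcardN := B2AR_aux_card D u hu2 huD hND
    -- `N(D)` is proper
    have hNDtop : Subgroup.normalizer (D : Set G) ≠ ⊤ := by
      intro htop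
      have h1 : Nat.card G = 2 * Nat.card D := by
        rw [← hcardN, htop, Subgroup.card_top]
      rw [h1, ← hDq] at hG
      have h2 : 2 * Nat.card D + 1 - 1 = 2 * Nat.card D := by omega
      rw [h2] at hG
      have h5 : (2 * Nat.card D + 1) * (2 * Nat.card D + 1 + 1) = 2 := by
        apply Nat.eq_of_mul_eq_mul_right (show 0 < 2 * Nat.card D by omega)
        rw [← hG]
      nlinarith
    have hPQ : PQ 3 2 (2 * Nat.card D) := by
      rw [← hcardN]
      exact h.hI _ hNDtop (by rw [hcardN]; exact dvd_mul_right _ _)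
    rcases Nat.even_or_odd (Nat.card D) with hev | hodd
    · -- `|D|` even
      have h2D : 2 ∣ Nat.card D := hev.two_dvd
      have : Fact (Nat.Prime 2) := ⟨Nat.prime_two⟩
      obtain ⟨v', hv'⟩ := exists_prime_orderOf_dvd_card' 2 h2D
      set v : G := (v' : G) with hv
      have hvD : v ∈ D := v'.2
      have hv2 : orderOf v = 2 := by rw [hv, Subgroup.orderOf_coe]; exact hv'
      have hv1 : v ≠ 1 := by
        intro h1; rw [h1, orderOf_one] at hv2; omega
      have hvv : v * v = 1 := by rw [← pow_two, ← hv2]; exact pow_orderOf_eq_one v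
      have hvinv : v⁻¹ = v := inv_eq_of_mul_eq_one_left hvv
      have hXv := (hX (Subgroup.zpowers v) (by rw [Subgroup.zpowers_le]; exact hvD)
        (by rw [Ne, Subgroup.zpowers_eq_bot]; exact hv1)).1
      -- `C(v) = N(D)`
      have hCN : Subgroup.centralizer ({v} : Set G) = Subgroup.normalizer (D : Set G) := by
        apply le_antisymm
        · rw [← hXv]
          intro x hx
          rw [Subgroup.mem_centralizer_iff] at hx
          have hxv : v * x = x * v := hx v rfl
          rw [Subgroup.mem_normalizer_iff]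
          intro y
          have hconj : ∀ y : G, y ∈ Subgroup.zpowers v → x * y * x⁻¹ = y := by
            intro y hy
            obtain ⟨k, rfl⟩ := Subgroup.mem_zpowers_iff.mp hy
            have hc : Commute x v := hxv.symm
            rw [(hc.zpow_right k).eq, mul_inv_cancel_right]
          constructor
          · intro hy; rw [hconj y hy]; exact hy
          · intro hy
            have := hconj _ hy
            have h3 : y = x * y * x⁻¹ := by
              have h4 : x⁻¹ * (x * (x * y * x⁻¹) * x⁻¹) * x = x⁻¹ * (x * y * x⁻¹) * x := by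
                rw [this]
              have h5 : x⁻¹ * (x * (x * y * x⁻¹) * x⁻¹) * x = x * y * x⁻¹ := by group
              have h6 : x⁻¹ * (x * y * x⁻¹) * x = y := by group
              rw [h5, h6] at h4
              exact h4.symm
            rw [h3]; exact hy
        · rw [hND]
          refine sup_le ?_ ?_
          · intro d hd
            rw [Subgroup.mem_centralizer_iff]
            rintro _ rfl
            have := hDab.is_comm.comm (⟨v, hvD⟩ : D) ⟨d, hd⟩
            exact congrArg Subtype.val this
          · rw [Subgroup.zpowers_le, Subgroup.mem_centralizer_iff]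
            rintro _ rfl
            have h1 := huinv v hvD
            rw [hvinv] at h1
            have h2 : u * v * u⁻¹ * u = v * u := by rw [h1]
            rw [inv_mul_cancel_right] at h2
            exact h2.symm
      have hcv := hCc v hv2
      rw [hCN, hcardN] at hcv
      have hd : Nat.card D = 2 * 3 ^ (Nat.card G).factorization 3 := by omega
      have hqs : Nat.card Qs = 4 * 3 ^ (Nat.card G).factorization 3 + 1 := by omega
      -- `N(Qs)` is proper of even order
      have hNQtop : Subgroup.normalizer (Qs : Set G) ≠ ⊤ := by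
        intro htop
        have hQn : Qs.Normal := Subgroup.normalizer_eq_top_iff.mp htop
        have h1 : Qs.relIndex (D ⊔ Qs) = Qs.relIndex D := Subgroup.relIndex_sup_right D Qs
        rw [sup_comm, ← hNQ, htop, Subgroup.relIndex_top_right, ← Subgroup.inf_relIndex_right,
          hQD, Subgroup.relIndex_bot_left] at h1
        have h2 := Subgroup.card_mul_index Qs
        rw [h1] at h2
        rw [← h2, ← hDq] at hG
        have h3 : 2 * Nat.card D + 1 - 1 = 2 * Nat.card D := by omega
        rw [h3] at hG
        have h6 : (2 * Nat.card D + 1) * (2 * Nat.card D) * (2 * Nat.card D + 1 + 1)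
            = (2 * Nat.card D + 1) * (2 * Nat.card D) * 1 := by
          calc (2 * Nat.card D + 1) * (2 * Nat.card D) * (2 * Nat.card D + 1 + 1)
              = (2 * Nat.card D + 1) * (2 * Nat.card D + 1 + 1) * (2 * Nat.card D) := by ring
            _ = 2 * ((2 * Nat.card D + 1) * Nat.card D) := hG.symm
            _ = (2 * Nat.card D + 1) * (2 * Nat.card D) * 1 := by ring
        have h7 := Nat.eq_of_mul_eq_mul_left (Nat.mul_pos (by omega) (by omega)) h6
        omega
      have hDNQ : D ≤ Subgroup.normalizer (Qs : Set G) := by rw [hNQ]; exact le_sup_right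
      have hQNQ : Qs ≤ Subgroup.normalizer (Qs : Set G) := Subgroup.le_normalizer
      have h2NQ : 2 ∣ Nat.card (Subgroup.normalizer (Qs : Set G)) :=
        h2D.trans (Subgroup.card_dvd_of_le hDNQ)
      have hPQ2 := h.hI _ hNQtop h2NQ
      have hq1 : Nat.card Qs ≠ 1 := by
        have : 0 < 3 ^ (Nat.card G).factorization 3 := pow_pos (by norm_num) _
        omega
      obtain ⟨r, hr, hrq⟩ := Nat.exists_prime_and_dvd hq1
      rcases hPQ2 r hr (hrq.trans (Subgroup.card_dvd_of_le hQNQ)) with h3 | h2
      · subst h3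
        rw [hqs] at hrq
        rcases Nat.eq_zero_or_pos ((Nat.card G).factorization 3) with he | he
        · rw [he] at hrq; norm_num at hrq
        · have h4 : (3 : ℕ) ∣ 4 * 3 ^ (Nat.card G).factorization 3 :=
            Dvd.dvd.mul_left (dvd_pow_self 3 he.ne') 4
          have h5 := (Nat.dvd_add_right h4).mp hrq
          norm_num at h5
      · subst h2
        rw [hqs] at hrq
        have h4 : (2 : ℕ) ∣ 4 * 3 ^ (Nat.card G).factorization 3 :=
          Dvd.dvd.mul_right (by norm_num) _
        have h5 := (Nat.dvd_add_right h4).mp hrq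
        norm_num at h5
    · -- `|D|` odd
      have hDpow : ∃ j : ℕ, Nat.card D = 3 ^ j := by
        refine ⟨_, Nat.eq_prime_pow_of_unique_prime_dvd hdpos.ne' ?_⟩
        intro r hr hrd
        rcases hPQ r hr (hrd.trans (dvd_mul_left _ _)) with h3 | h2
        · exact h3
        · exfalso
          subst h2
          exact (Nat.not_even_iff_odd.mpr hodd) (even_iff_two_dvd.mpr hrd)
      obtain ⟨j, hj⟩ := hDpow
      have hj0 : j ≠ 0 := by
        rintro rfl
        rw [pow_zero] at hj
        exact hD (Subgroup.card_eq_one.mp hj)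
      -- the 3-part of `|G|` is `3 ^ j`
      have hq : Nat.card Qs = 2 * 3 ^ j + 1 := by omega
      have hGeq : Nat.card G = 3 ^ j * (2 * ((2 * 3 ^ j + 1) * (3 ^ j + 1))) := by
        rw [hq] at hG
        have h3 : 2 * 3 ^ j + 1 - 1 = 2 * 3 ^ j := by omega
        rw [h3] at hG
        have : 2 * Nat.card G = 2 * (3 ^ j * (2 * ((2 * 3 ^ j + 1) * (3 ^ j + 1)))) := by
          rw [hG]; ring
        omega
      have h3j : (3 : ℕ) ∣ 3 ^ j := dvd_pow_self 3 hj0
      have hndvd : ¬ (3 : ℕ) ∣ 2 * ((2 * 3 ^ j + 1) * (3 ^ j + 1)) := by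
        intro hdvd
        rcases (Nat.Prime.dvd_mul Nat.prime_three).mp hdvd with h0 | hdvd
        · norm_num at h0
        rcases (Nat.Prime.dvd_mul Nat.prime_three).mp hdvd with h1 | h1
        · have h4 : (3 : ℕ) ∣ 2 * 3 ^ j := Dvd.dvd.mul_left h3j 2
          have h5 := (Nat.dvd_add_right h4).mp h1
          norm_num at h5
        · have h5 := (Nat.dvd_add_right h3j).mp h1
          norm_num at h5
      have hfac : (Nat.card G).factorization 3 = j := by
        apply le_antisymm
        · by_contra hlt
          push Not at hlt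
          have h1 : 3 ^ (j + 1) ∣ Nat.card G :=
            (Nat.Prime.pow_dvd_iff_le_factorization Nat.prime_three hG0).mpr hlt
          rw [hGeq, pow_succ] at h1
          exact hndvd ((Nat.mul_dvd_mul_iff_left (pow_pos (by norm_num) j)).mp h1)
        · rw [← Nat.Prime.pow_dvd_iff_le_factorization Nat.prime_three hG0, hGeq]
          exact dvd_mul_right _ _
      have : Fact (Nat.Prime 3) := ⟨Nat.prime_three⟩
      have hDsyl : Nat.card D = 3 ^ (Nat.card G).factorization 3 := by rw [hfac, hj]
      have e1 : Nat.card (Sylow 3 G) = (Subgroup.normalizer (D : Set G)).index :=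
        Sylow.card_eq_index_normalizer (Sylow.ofCard D hDsyl)
      have e2 : Nat.card (Sylow 3 G) = (Subgroup.normalizer (B : Set G)).index :=
        Sylow.card_eq_index_normalizer (Sylow.ofCard B hB1)
      have e3 := Subgroup.card_mul_index (Subgroup.normalizer (D : Set G))
      have e4 := Subgroup.card_mul_index (Subgroup.normalizer (B : Set G))
      have hpos' : 0 < 3 ^ (Nat.card G).factorization 3 := pow_pos (by norm_num) _
      obtain ⟨E, hE⟩ : ∃ E : ℕ, E = 3 ^ (Nat.card G).factorization 3 := ⟨_, rfl⟩
      rw [← hE] at hDsyl hBN hpos'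
      rw [← e1, hcardN, hDsyl] at e3
      rw [← e2, hBN] at e4
      have hpos : 0 < Nat.card (Sylow 3 G) := Nat.card_pos
      have := Nat.eq_of_mul_eq_mul_right hpos (e3.trans e4.symm)
      omega

end Cfsg.Agent.S4017P
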