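import Mathlib

/-!
# 9 × 9 matrices over the field with four elements, coded as natural numbers

A matrix over `GF(2)` is a number below `2 ^ 81` (bit `9 * i + j` is the entry `(i, j)`); a matrix over the
field with four elements `{0, 1, ω, ω + 1}` is `lo + 2 ^ 81 * hi`, standing for `lo + ω • hi`.  The product
is computed with a few dozen operations on big numbers, which the kernel evaluates quickly.
-/

set_option autoImplicit false

namespace Cfsg.Agent.Helper14.J3

/-- strict evaluation of a number before it is used (for the kernel) -/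
def force {α : Type} (x : Nat) (k : Nat → α) : α :=
  match x with
  | 0 => k 0
  | n + 1 => k (n + 1)

theorem force_eq {α : Type} (x : Nat) (k : Nat → α) : force x k = k x := by
  cases x <;> rfl

/-- one bit at the start of every row of every block -/
def CM : Nat := 7345906877499706682946335215819794955223498030756473241281088379541342547289392799970346215255318725171953159228361126773741086861897594571231559680808020276040257808157599406210197570088565538621248406642122526451634075895889221910776879576823126819329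

/-- the first row of every block -/
def RM : Nat := 793336745165662265861128518614352123223252362687753374512646928618108235003322599728082603224515272652871214334650366809629907012395477506397796230027738197515057292772633475665467837645852886391636619950055344886861868711869990044159

def MASK81 : Nat := 2417851639229258349412351

def P81 : Nat := 2417851639229258349412352

theorem P81_eq : P81 = 2 ^ 81 := by decide

theorem MASK81_eq : MASK81 = 2 ^ 81 - 1 := by decide

/-- nine copies of `x`, at distance `s` -/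
def rep (x s : Nat) : Nat :=
  force (x ^^^ (x <<< s)) fun t1 =>
  force (t1 ^^^ (t1 <<< (2 * s))) fun t2 =>
  force (t2 ^^^ (t2 <<< (4 * s))) fun t3 =>
  t3 ^^^ (x <<< (8 * s))

/-- the sum of the nine blocks (in block 0) -/
def fold (z : Nat) : Nat :=
  force (z ^^^ (z >>> 96)) fun f1 =>
  force (f1 ^^^ (f1 >>> 192)) fun f2 =>
  force (f2 ^^^ (f2 >>> 384)) fun f3 =>
  f3 ^^^ (z >>> 768)

/-- product of two `9 × 9` matrices over `GF(2)` -/
def mulFast (A B : Nat) : Nat :=
  force (rep A 95 &&& CM) fun u =>
  force (rep B 87 &&& RM) fun v =>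
  force (rep u 1 &&& rep v 9) fun z =>
  fold z &&& MASK81

theorem rep_eq (x s : Nat) : rep x s =
    ((x ^^^ x <<< s) ^^^ (x ^^^ x <<< s) <<< (2 * s)) ^^^
      ((x ^^^ x <<< s) ^^^ (x ^^^ x <<< s) <<< (2 * s)) <<< (4 * s) ^^^ x <<< (8 * s) := by
  simp only [rep, force_eq]

theorem fold_eq (z : Nat) : fold z =
    ((z ^^^ z >>> 96) ^^^ (z ^^^ z >>> 96) >>> 192) ^^^
      ((z ^^^ z >>> 96) ^^^ (z ^^^ z >>> 96) >>> 192) >>> 384 ^^^ z >>> 768 := by
  simp only [fold, force_eq]

theorem mulFast_eq (A B : Nat) : mulFast A B =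
    fold (rep (rep A 95 &&& CM) 1 &&& rep (rep B 87 &&& RM) 9) &&& MASK81 := by
  simp only [mulFast, force_eq]

theorem rep_xor (a b s : Nat) : rep (a ^^^ b) s = rep a s ^^^ rep b s := by
  simp only [rep_eq, Nat.shiftLeft_xor_distrib]
  ac_rfl

theorem fold_xor (a b : Nat) : fold (a ^^^ b) = fold a ^^^ fold b := by
  simp only [fold_eq, Nat.shiftRight_xor_distrib]
  ac_rfl

theorem mulFast_xor_left (a a' B : Nat) :
    mulFast (a ^^^ a') B = mulFast a B ^^^ mulFast a' B := by
  simp only [mulFast_eq, rep_xor, fold_xor, Nat.and_xor_distrib_right]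

theorem mulFast_xor_right (A b b' : Nat) :
    mulFast A (b ^^^ b') = mulFast A b ^^^ mulFast A b' := by
  simp only [mulFast_eq, rep_xor, fold_xor, Nat.and_xor_distrib_right, Nat.and_xor_distrib_left]

theorem mulFast_zero_left (B : Nat) : mulFast 0 B = 0 := by
  have h := mulFast_xor_left 0 0 B
  rw [Nat.xor_self, Nat.xor_self] at h
  exact h

theorem mulFast_zero_right (A : Nat) : mulFast A 0 = 0 := by
  have h := mulFast_xor_right A 0 0
  rw [Nat.xor_self, Nat.xor_self] at h
  exact h

theorem mulFast_lt (A B : Nat) : mulFast A B < 2 ^ 81 := by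
  rw [mulFast_eq]
  apply Nat.and_lt_two_pow
  rw [MASK81_eq]
  exact Nat.sub_lt (Nat.two_pow_pos 81) Nat.one_pos

/-- the products of the matrix units -/
def basisCheck (p0 : Nat) : Bool :=
  (List.range 9).all fun p => (List.range 81).all fun q =>
    mulFast (2 ^ (p0 + p)) (2 ^ q) ==
      (if (p0 + p) % 9 = q / 9 then 2 ^ (9 * ((p0 + p) / 9) + q % 9) else 0)

set_option maxRecDepth 100000 in
theorem basisCheck_0 : basisCheck 0 = true := by decide +kernel

set_option maxRecDepth 100000 in
theorem basisCheck_1 : basisCheck 9 = true := by decide +kernel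

set_option maxRecDepth 100000 in
theorem basisCheck_2 : basisCheck 18 = true := by decide +kernel

set_option maxRecDepth 100000 in
theorem basisCheck_3 : basisCheck 27 = true := by decide +kernel

set_option maxRecDepth 100000 in
theorem basisCheck_4 : basisCheck 36 = true := by decide +kernel

set_option maxRecDepth 100000 in
theorem basisCheck_5 : basisCheck 45 = true := by decide +kernel

set_option maxRecDepth 100000 in
theorem basisCheck_6 : basisCheck 54 = true := by decide +kernel

set_option maxRecDepth 100000 in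
theorem basisCheck_7 : basisCheck 63 = true := by decide +kernel

set_option maxRecDepth 100000 in
theorem basisCheck_8 : basisCheck 72 = true := by decide +kernel

theorem mulFast_basis {p q : Nat} (hp : p < 81) (hq : q < 81) :
    mulFast (2 ^ p) (2 ^ q) = if p % 9 = q / 9 then 2 ^ (9 * (p / 9) + q % 9) else 0 := by
  have h : basisCheck (9 * (p / 9)) = true := by
    have h9 : p / 9 < 9 := by omega
    generalize p / 9 = a at h9
    interval_cases a
    · exact basisCheck_0
    · exact basisCheck_1
    · exact basisCheck_2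
    · exact basisCheck_3
    · exact basisCheck_4
    · exact basisCheck_5
    · exact basisCheck_6
    · exact basisCheck_7
    · exact basisCheck_8
  unfold basisCheck at h
  rw [List.all_eq_true] at h
  have h1 := h (p % 9) (List.mem_range.2 (Nat.mod_lt _ (by norm_num)))
  rw [List.all_eq_true] at h1
  have h2 := h1 q (List.mem_range.2 hq)
  have e : 9 * (p / 9) + p % 9 = p := Nat.div_add_mod p 9
  rw [e] at h2
  exact eq_of_beq h2

/-- induction on the binary digits -/
theorem xor_induction (P : Nat → Prop) (h0 : P 0) (hx : ∀ a b, P a → P b → P (a ^^^ b)) :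
    ∀ n : Nat, (∀ q < n, P (2 ^ q)) → ∀ A < 2 ^ n, P A := by
  intro n
  induction n with
  | zero =>
    intro _ A hA
    have : A = 0 := by omega
    rw [this]; exact h0
  | succ n ih =>
    intro hb A hA
    by_cases hlt : A < 2 ^ n
    · exact ih (fun q hq => hb q (by omega)) A hlt
    · obtain ⟨B, rfl⟩ : ∃ B, A = 2 ^ n + B := ⟨A - 2 ^ n, by omega⟩
      have hB : B < 2 ^ n := by
        rw [pow_succ] at hA; omega
      have e : 2 ^ n + B = 2 ^ n ^^^ B := by
        apply Nat.eq_of_testBit_eq
        intro i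
        rw [Nat.testBit_xor, Nat.testBit_two_pow]
        rcases Nat.lt_trichotomy i n with h | h | h
        · rw [Nat.testBit_two_pow_add_gt h]
          have : decide (n = i) = false := by simp; omega
          rw [this, Bool.false_xor]
        · subst h
          rw [Nat.testBit_two_pow_add_eq, Nat.testBit_lt_two_pow hB]
          simp
        · have h1 : 2 ^ n + B < 2 ^ i := lt_of_lt_of_le hA (Nat.pow_le_pow_right (by norm_num) h)
          have h2 : B < 2 ^ i := lt_of_le_of_lt (Nat.le_add_left _ _) h1
          rw [Nat.testBit_lt_two_pow h1, Nat.testBit_lt_two_pow h2]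
          have : decide (n = i) = false := by simp; omega
          rw [this]; rfl
      rw [e]
      exact hx _ _ (hb n (Nat.lt_succ_self n)) (ih (fun q hq => hb q (by omega)) _ hB)


/-! ### Semantics over a field of characteristic 2 -/

section sem

variable (F : Type*) [Field F]

/-- the `0/1` matrix coded by a number -/
def bitMat (a : Nat) : Matrix (Fin 9) (Fin 9) F :=
  fun i j => if a.testBit (9 * i.val + j.val) then 1 else 0

theorem bitMat_apply (a : Nat) (i j : Fin 9) :
    bitMat F a i j = if a.testBit (9 * i.val + j.val) then 1 else 0 := rfl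

theorem bitMat_zero : bitMat F 0 = 0 := by
  ext i j
  simp [bitMat]

theorem bitMat_xor [CharP F 2] (a b : Nat) : bitMat F (a ^^^ b) = bitMat F a + bitMat F b := by
  ext i j
  simp only [bitMat, Nat.testBit_xor, Matrix.add_apply]
  cases a.testBit (9 * i.val + j.val) <;> cases b.testBit (9 * i.val + j.val) <;>
    simp [CharTwo.add_self_eq_zero]

theorem bitMat_two_pow {p : Nat} (hp : p < 81) :
    bitMat F (2 ^ p) =
      Matrix.single (⟨p / 9, by omega⟩ : Fin 9) (⟨p % 9, by omega⟩ : Fin 9) (1 : F) := by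
  ext i j
  rw [bitMat_apply, Nat.testBit_two_pow, Matrix.single_apply]
  have hi := i.isLt
  have hj := j.isLt
  have e : (p = 9 * i.val + j.val) ↔
      ((⟨p / 9, by omega⟩ : Fin 9) = i ∧ (⟨p % 9, by omega⟩ : Fin 9) = j) := by
    rw [Fin.ext_iff, Fin.ext_iff]
    constructor
    · intro h; constructor <;> simp only <;> omega
    · rintro ⟨h1, h2⟩; simp only at h1 h2; omega
  by_cases h : p = 9 * i.val + j.val
  · rw [if_pos (by simpa using h), if_pos (e.1 h)]
  · rw [if_neg (by simpa using h), if_neg (fun h' => h (e.2 h'))]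

theorem bitMat_mulFast [CharP F 2] {A B : Nat} (hA : A < 2 ^ 81) (hB : B < 2 ^ 81) :
    bitMat F (mulFast A B) = bitMat F A * bitMat F B := by
  have h1 : ∀ p < 81, ∀ B < 2 ^ 81,
      bitMat F (mulFast (2 ^ p) B) = bitMat F (2 ^ p) * bitMat F B := by
    intro p hp
    apply xor_induction (fun B => bitMat F (mulFast (2 ^ p) B) = bitMat F (2 ^ p) * bitMat F B)
    · show bitMat F (mulFast (2 ^ p) 0) = bitMat F (2 ^ p) * bitMat F 0
      rw [mulFast_zero_right, bitMat_zero, mul_zero]
    · intro a b ha hb
      show bitMat F (mulFast (2 ^ p) (a ^^^ b)) = bitMat F (2 ^ p) * bitMat F (a ^^^ b)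
      rw [mulFast_xor_right, bitMat_xor, bitMat_xor, mul_add, ha, hb]
    · intro q hq
      show bitMat F (mulFast (2 ^ p) (2 ^ q)) = bitMat F (2 ^ p) * bitMat F (2 ^ q)
      rw [mulFast_basis hp hq, bitMat_two_pow F hp, bitMat_two_pow F hq]
      by_cases h : p % 9 = q / 9
      · rw [if_pos h]
        have h3 : 9 * (p / 9) + q % 9 < 81 := by omega
        rw [bitMat_two_pow F h3]
        have e1 : (⟨(9 * (p / 9) + q % 9) / 9, by omega⟩ : Fin 9) = ⟨p / 9, by omega⟩ := by
          apply Fin.ext; simp only; omega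
        have e2 : (⟨(9 * (p / 9) + q % 9) % 9, by omega⟩ : Fin 9) = ⟨q % 9, by omega⟩ := by
          apply Fin.ext; simp only; omega
        have e3 : (⟨q / 9, by omega⟩ : Fin 9) = ⟨p % 9, by omega⟩ := by
          apply Fin.ext; simp only; omega
        rw [e1, e2, e3, Matrix.single_mul_single_same, mul_one]
      · rw [if_neg h, bitMat_zero]
        have e3 : (⟨p % 9, by omega⟩ : Fin 9) ≠ ⟨q / 9, by omega⟩ := by
          intro h'; apply h; exact congrArg Fin.val h'
        rw [Matrix.single_mul_single_of_ne _ _ _ _ e3]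
  revert A
  apply xor_induction (fun A => bitMat F (mulFast A B) = bitMat F A * bitMat F B)
  · show bitMat F (mulFast 0 B) = bitMat F 0 * bitMat F B
    rw [mulFast_zero_left, bitMat_zero, zero_mul]
  · intro a b ha hb
    show bitMat F (mulFast (a ^^^ b) B) = bitMat F (a ^^^ b) * bitMat F B
    rw [mulFast_xor_left, bitMat_xor, bitMat_xor, add_mul, ha, hb]
  · intro p hp
    exact h1 p hp B hB

end sem


/-! ### Matrices over the field with four elements -/

/-- the low bit plane -/
def lo (c : Nat) : Nat := c % P81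

/-- the high bit plane -/
def hi (c : Nat) : Nat := c / P81 % P81

theorem lo_lt (c : Nat) : lo c < 2 ^ 81 := by
  unfold lo; rw [P81_eq]; exact Nat.mod_lt _ (Nat.two_pow_pos 81)

theorem hi_lt (c : Nat) : hi c < 2 ^ 81 := by
  unfold hi; rw [P81_eq]; exact Nat.mod_lt _ (Nat.two_pow_pos 81)

theorem lo_pack {a : Nat} (ha : a < 2 ^ 81) (b : Nat) : lo (a + P81 * b) = a := by
  unfold lo; rw [Nat.add_mul_mod_self_left, Nat.mod_eq_of_lt (by rw [P81_eq]; exact ha)]

theorem hi_pack {a b : Nat} (ha : a < 2 ^ 81) (hb : b < 2 ^ 81) : hi (a + P81 * b) = b := by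
  unfold hi
  have hP : 0 < P81 := by rw [P81_eq]; exact Nat.two_pow_pos 81
  rw [Nat.add_mul_div_left _ _ hP, Nat.div_eq_of_lt (by rw [P81_eq]; exact ha), Nat.zero_add,
    Nat.mod_eq_of_lt (by rw [P81_eq]; exact hb)]

theorem pack_lo_hi {c : Nat} (hc : c < 2 ^ 162) : lo c + P81 * hi c = c := by
  unfold lo hi
  have h1 : c / P81 < P81 := by
    rw [P81_eq, Nat.div_lt_iff_lt_mul (Nat.two_pow_pos 81), ← pow_add]; exact hc
  rw [Nat.mod_eq_of_lt h1, Nat.mod_add_div]

/-- the product of two coded matrices over the field with four elements -/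
def mul4 (c d : Nat) : Nat :=
  force (lo c) fun l => force (hi c) fun h => force (lo d) fun l' => force (hi d) fun h' =>
  force (mulFast l l') fun ll => force (mulFast h h') fun hh =>
  force (mulFast (l ^^^ h) (l' ^^^ h')) fun kk =>
  (ll ^^^ hh) + P81 * (kk ^^^ ll)

theorem mul4_eq (c d : Nat) : mul4 c d =
    (mulFast (lo c) (lo d) ^^^ mulFast (hi c) (hi d)) +
      P81 * (mulFast (lo c ^^^ hi c) (lo d ^^^ hi d) ^^^ mulFast (lo c) (lo d)) := by
  simp only [mul4, force_eq]

theorem mul4_lt (c d : Nat) : mul4 c d < 2 ^ 162 := by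
  rw [mul4_eq, P81_eq]
  have h1 : mulFast (lo c) (lo d) ^^^ mulFast (hi c) (hi d) < 2 ^ 81 :=
    Nat.xor_lt_two_pow (mulFast_lt _ _) (mulFast_lt _ _)
  have h2 : mulFast (lo c ^^^ hi c) (lo d ^^^ hi d) ^^^ mulFast (lo c) (lo d) < 2 ^ 81 :=
    Nat.xor_lt_two_pow (mulFast_lt _ _) (mulFast_lt _ _)
  have e : (2 : ℕ) ^ 162 = 2 ^ 81 * 2 ^ 81 := by rw [← pow_add]
  rw [e]
  nlinarith

/-- the code of the identity matrix -/
def ONE : Nat := 1210107565283851686118401

section sem4

variable (F : Type*) [Field F] (ω : F)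

/-- the matrix over `F` coded by a number: `lo + ω • hi` -/
def toMat9 (c : Nat) : Matrix (Fin 9) (Fin 9) F := bitMat F (lo c) + ω • bitMat F (hi c)

theorem toMat9_mul4 [CharP F 2] (hω : ω * ω = ω + 1) (c d : Nat) :
    toMat9 F ω (mul4 c d) = toMat9 F ω c * toMat9 F ω d := by
  have h1 : mulFast (lo c) (lo d) ^^^ mulFast (hi c) (hi d) < 2 ^ 81 :=
    Nat.xor_lt_two_pow (mulFast_lt _ _) (mulFast_lt _ _)
  have h2 : mulFast (lo c ^^^ hi c) (lo d ^^^ hi d) ^^^ mulFast (lo c) (lo d) < 2 ^ 81 :=
    Nat.xor_lt_two_pow (mulFast_lt _ _) (mulFast_lt _ _)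
  have hx1 : lo c ^^^ hi c < 2 ^ 81 := Nat.xor_lt_two_pow (lo_lt c) (hi_lt c)
  have hx2 : lo d ^^^ hi d < 2 ^ 81 := Nat.xor_lt_two_pow (lo_lt d) (hi_lt d)
  unfold toMat9
  rw [mul4_eq, lo_pack h1, hi_pack h1 h2, bitMat_xor, bitMat_xor,
    bitMat_mulFast F (lo_lt c) (lo_lt d), bitMat_mulFast F (hi_lt c) (hi_lt d),
    bitMat_mulFast F hx1 hx2, bitMat_xor, bitMat_xor]
  generalize bitMat F (lo c) = L
  generalize bitMat F (hi c) = H
  generalize bitMat F (lo d) = L'
  generalize bitMat F (hi d) = H'
  have h2m : ∀ X : Matrix (Fin 9) (Fin 9) F, X + X = 0 := by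
    intro X
    ext i j
    simp [CharTwo.add_self_eq_zero]
  simp only [add_mul, mul_add, smul_add, Matrix.smul_mul, Matrix.mul_smul, smul_smul, hω,
    add_smul, one_smul]
  have e : ∀ a b c' d' : Matrix (Fin 9) (Fin 9) F, a + d' + (ω • a + ω • b + (ω • c' + ω • d') + ω • a) =
      a + ω • b + (ω • c' + (ω • d' + d')) := by
    intro a b c' d'
    have := h2m (ω • a)
    calc a + d' + (ω • a + ω • b + (ω • c' + ω • d') + ω • a)
        = a + d' + (ω • b + (ω • c' + ω • d')) + (ω • a + ω • a) := by abel
      _ = a + ω • b + (ω • c' + (ω • d' + d')) := by rw [this]; abel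
  exact e _ _ _ _


theorem lo_ONE : lo ONE = ONE := by decide

theorem hi_ONE : hi ONE = 0 := by decide

theorem ONE_lt : ONE < 2 ^ 162 := by decide

theorem testBit_ONE : ∀ i j : Fin 9, ONE.testBit (9 * i.val + j.val) = decide (i = j) := by
  decide

theorem bitMat_ONE : bitMat F ONE = 1 := by
  ext i j
  rw [bitMat_apply, Matrix.one_apply, testBit_ONE]
  simp

theorem toMat9_ONE : toMat9 F ω ONE = 1 := by
  unfold toMat9
  rw [lo_ONE, hi_ONE, bitMat_ONE, bitMat_zero, smul_zero, add_zero]

/-- the entry `(i, j)` of a coded matrix, as a number below 4 -/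
def ent (c i j : Nat) : Nat :=
  (if (lo c).testBit (9 * i + j) then 1 else 0) + (if (hi c).testBit (9 * i + j) then 2 else 0)

/-- the element of the field coded by a number: `0, 1, ω, ω + 1` -/
def toF (n : Nat) : F := (if n % 2 = 1 then 1 else 0) + ω * (if n / 2 % 2 = 1 then 1 else 0)

theorem toMat9_apply (c : Nat) (i j : Fin 9) :
    toMat9 F ω c i j = toF F ω (ent c i.val j.val) := by
  unfold toMat9 toF ent
  rw [Matrix.add_apply, Matrix.smul_apply, bitMat_apply, bitMat_apply, smul_eq_mul]
  cases (lo c).testBit (9 * i.val + j.val) <;> cases (hi c).testBit (9 * i.val + j.val) <;> simp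

theorem bits_inj [CharP F 2] (h0 : ω ≠ 0) (h1 : ω ≠ 1) (b1 b2 b1' b2' : Bool)
    (h : (if b1 then (1 : F) else 0) + ω * (if b2 then 1 else 0) =
      (if b1' then (1 : F) else 0) + ω * (if b2' then 1 else 0)) : b1 = b1' ∧ b2 = b2' := by
  have h11 : (1 : F) + 1 = 0 := CharTwo.add_self_eq_zero 1
  have hw1 : (1 : F) + ω ≠ 0 := by
    intro h'
    apply h1
    have : ω = ω + (1 + 1) := by rw [h11, add_zero]
    rw [this, ← add_assoc, add_comm ω 1, h', zero_add]
  cases b1 <;> cases b2 <;> cases b1' <;> cases b2' <;> simp at h ⊢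
  all_goals first
    | exact absurd h h0
    | exact absurd h.symm h0
    | exact absurd h h1
    | exact absurd h.symm h1
    | exact absurd h hw1
    | exact absurd h.symm hw1

theorem toMat9_inj [CharP F 2] (h0 : ω ≠ 0) (h1 : ω ≠ 1) {c d : Nat} (hc : c < 2 ^ 162)
    (hd : d < 2 ^ 162) (h : toMat9 F ω c = toMat9 F ω d) : c = d := by
  have key : ∀ n : Nat, (lo c).testBit n = (lo d).testBit n ∧ (hi c).testBit n = (hi d).testBit n := by
    intro n
    by_cases hn : n < 81
    · have h2 := congrFun (congrFun h ⟨n / 9, by omega⟩) ⟨n % 9, by omega⟩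
      unfold toMat9 at h2
      rw [Matrix.add_apply, Matrix.smul_apply, bitMat_apply, bitMat_apply, smul_eq_mul,
        Matrix.add_apply, Matrix.smul_apply, bitMat_apply, bitMat_apply, smul_eq_mul] at h2
      have e : 9 * (n / 9) + n % 9 = n := Nat.div_add_mod n 9
      simp only [e] at h2
      exact bits_inj F ω h0 h1 _ _ _ _ h2
    · have hp : (2 : ℕ) ^ 81 ≤ 2 ^ n := Nat.pow_le_pow_right (by norm_num) (by omega)
      rw [Nat.testBit_lt_two_pow (lt_of_lt_of_le (lo_lt c) hp),
        Nat.testBit_lt_two_pow (lt_of_lt_of_le (lo_lt d) hp),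
        Nat.testBit_lt_two_pow (lt_of_lt_of_le (hi_lt c) hp),
        Nat.testBit_lt_two_pow (lt_of_lt_of_le (hi_lt d) hp)]
      exact ⟨rfl, rfl⟩
  have e1 : lo c = lo d := Nat.eq_of_testBit_eq fun n => (key n).1
  have e2 : hi c = hi d := Nat.eq_of_testBit_eq fun n => (key n).2
  rw [← pack_lo_hi hc, ← pack_lo_hi hd, e1, e2]

end sem4

end Cfsg.Agent.Helper14.J3
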