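import Mathlib
import Cfsg.Prelude.Def_Spor_J3
import Cfsg.Agent.Helper14.J3A

/-!
# The generators of the triple cover of the third Janko group, as coded matrices
-/

set_option autoImplicit false

namespace Cfsg.Agent.Helper14.J3

open Cfsg Cfsg.Spor

def codeA : List Nat := [1210107565283851686118401, 2925857772772135150066342066286272728737304805377, 2925857772772135150066340858541043610025145140225, 2925860560365287560004886946310432006303883723777, 2923006062257616707413038538273747232490420961281, 2857285700823270143724528486497422696668726273, 2925860560365287560004885736202868976453183079425, 2857285700823270143724529665934996010641129473, 2923006062257616707413039747198413924516549886977]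

def codeE : List Nat := [2925860560365287562542664026844309775341898956801, 2925860560365287562540190563437939543739207779328, 2925860560365287560007364035314822382583442046976, 2925860560365284966394237177282133612353740080128, 2925860560362629106551096611770701565366977429505, 2925860557643028627175157528064285450922023191553, 2925857772772137746214772542625906609713082008576, 2923006064979875642780548663831230398599871332353, 2857285703481726135296778082790218672138880001]

def codeD : List Nat := [1210107565283851686118401, 1461501638692032385887438687164689509264143155716, 5708990776140751507373111964357478365106800642, 365732221255902219521185930787304836589930217536, 1298153442871853398703616588546304, 689601926562231162448178728534144, 21799339130872620334530366487353142288392, 174224571863530396823016114950666738204704, 87112285936830849052296079348945720983568]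

def codeB : List Nat := [0, 604610528798100114378753, 153476983322603824381953, 1210107565283851686118401, 302250478249787735015425, 19480050253860247191553, 75853160267482155976705, 9523133880129403551745, 37818131268884947279873]

def codeC : List Nat := [0, 1967309709124319630101505, 834827229618732556360705, 1892783774330118428726273, 66798833503918511824897, 359034458751800969355265, 1437223999942942727378945, 350107962032182110928897, 331274126670085407006721]

def baseCodes : List Nat := [2925860560365287560004886946310432006303883723777, 2925857772772135150066342066286272728737304805377, 2925860560365287562542664026844309775341898956801, 365732221255902219521185930787304836589930217536, 1461501638692032385887438687164689509264143155716, 302250478249787735015425, 1892783774330118428726273]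

def genTable : List (Nat × List Nat) := [
  (1210107565283851686118401, []),
  (2925860560365287562542664026844309775341898956801, [2]),
  (1210107565283851686118401, []),
  (2925857772772135150066342066286272728737304805377, [1]),
  (2925860560365287562540190563437939543739207779328, [3, 3, 2, 3, 0]),
  (1461501638692032385887438687164689509264143155716, [4]),
  (604610528798100114378753, [5, 5, 5, 5, 5, 5]),
  (1967309709124319630101505, [6, 5, 5]),
  (2925857772772135150066340858541043610025145140225, [1, 1]),
  (2925860560365287560007364035314822382583442046976, [4, 4, 2, 4, 0]),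
  (5708990776140751507373111964357478365106800642, [4, 4, 0]),
  (153476983322603824381953, [5, 5]),
  (834827229618732556360705, [6, 5, 5, 5, 5, 5, 5]),
  (2925860560365287560004886946310432006303883723777, [0]),
  (2925860560365284966394237177282133612353740080128, [3, 2, 3, 3, 1, 1]),
  (365732221255902219521185930787304836589930217536, [3]),
  (1210107565283851686118401, []),
  (1892783774330118428726273, [6]),
  (2923006062257616707413038538273747232490420961281, [1, 0]),
  (2925860560362629106551096611770701565366977429505, [3, 0, 3, 3, 2]),
  (1298153442871853398703616588546304, [2, 1, 4, 3]),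
  (302250478249787735015425, [5]),
  (66798833503918511824897, [6, 5, 5, 5, 5, 5, 5, 5]),
  (2857285700823270143724528486497422696668726273, [1, 1, 0]),
  (2925860557643028627175157528064285450922023191553, [3, 0, 3, 3, 2, 1]),
  (689601926562231162448178728534144, [4, 3, 1, 4]),
  (19480050253860247191553, [5, 5, 5]),
  (359034458751800969355265, [6, 5, 5, 5, 5, 5]),
  (2925860560365287560004885736202868976453183079425, [0, 0]),
  (2925857772772137746214772542625906609713082008576, [4, 4, 2, 4, 1]),
  (21799339130872620334530366487353142288392, [3, 3, 1, 1]),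
  (75853160267482155976705, [5, 5, 5, 5]),
  (1437223999942942727378945, [6, 5, 5, 5, 5]),
  (2857285700823270143724529665934996010641129473, [1, 0, 0]),
  (2923006064979875642780548663831230398599871332353, [4, 1, 4, 4, 2]),
  (174224571863530396823016114950666738204704, [0, 3, 4, 3, 0]),
  (9523133880129403551745, [5, 5, 5, 5, 5, 5, 5]),
  (350107962032182110928897, [6, 5]),
  (2923006062257616707413039747198413924516549886977, [1, 1, 0, 0]),
  (2857285703481726135296778082790218672138880001, [4, 2, 4, 1, 4]),
  (87112285936830849052296079348945720983568, [4, 3, 3, 1, 4]),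
  (37818131268884947279873, [5, 5, 5, 5, 5]),
  (331274126670085407006721, [6, 5, 5, 5])]


/-- a word in the seven base generators -/
def evW : List Nat → Nat
  | [] => ONE
  | a :: w => mul4 (baseCodes.getD a ONE) (evW w)

def genCheck : Bool := genTable.all fun t => evW t.2 == t.1

set_option maxRecDepth 100000 in
theorem genCheck_eq : genCheck = true := by decide +kernel

/-! ### The field with four elements -/

section field

variable {F : Type*} [Field F]

theorem charTwo [Fintype F] (hF : Fintype.card F = 4) : CharP F 2 := by
  obtain ⟨p, hp⟩ := CharP.exists F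
  have := hp
  obtain ⟨n, hpp, hn⟩ := FiniteField.card F p
  have h2 : p = 2 := by
    rw [hF] at hn
    have hn0 : (n : ℕ) ≠ 0 := n.ne_zero
    have hdvd : p ∣ 2 ^ 2 := by
      have : (4 : ℕ) = 2 ^ 2 := by norm_num
      rw [← this, hn]
      exact dvd_pow_self p hn0
    exact (Nat.prime_dvd_prime_iff_eq hpp Nat.prime_two).1 (hpp.dvd_of_dvd_pow hdvd)
  subst h2
  exact hp

variable (ω : F)

theorem omega_mul [CharP F 2] (hω : ω ^ 2 + ω + 1 = 0) : ω * ω = ω + 1 := by
  have h : ω ^ 2 = -(ω + 1) := by
    rw [eq_neg_iff_add_eq_zero, ← add_assoc]; exact hω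
  rw [← pow_two, h, CharTwo.neg_eq]

theorem omega_ne_zero (hω : ω ^ 2 + ω + 1 = 0) : ω ≠ 0 := by
  rintro rfl
  simp at hω

theorem omega_ne_one [CharP F 2] (hω : ω ^ 2 + ω + 1 = 0) : ω ≠ 1 := by
  rintro rfl
  have h11 : (1 : F) + 1 = 0 := CharTwo.add_self_eq_zero 1
  rw [one_pow, h11, zero_add] at hω
  exact one_ne_zero hω

end field

/-! ### Matrices indexed by the field with nine elements -/

/-- the position of an element of the index set -/
def posE : F9 ≃ Fin 9 := (finProdFinEquiv : Fin 3 × Fin 3 ≃ Fin (3 * 3))

/-- the position, as a number -/
def posN (z : F9) : Nat := (posE z).val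

section mat

variable (F : Type*) [Field F] (ω : F)

/-- the matrix coded by a number -/
def toMat (c : Nat) : Matrix F9 F9 F := (toMat9 F ω c).submatrix posE posE

theorem toMat_apply (c : Nat) (w z : F9) : toMat F ω c w z = toF F ω (ent c (posN w) (posN z)) := by
  unfold toMat posN
  rw [Matrix.submatrix_apply, toMat9_apply]

theorem toMat_mul4 [CharP F 2] (hω : ω * ω = ω + 1) (c d : Nat) :
    toMat F ω (mul4 c d) = toMat F ω c * toMat F ω d := by
  unfold toMat
  rw [toMat9_mul4 F ω hω, Matrix.submatrix_mul_equiv]

theorem toMat_ONE : toMat F ω ONE = 1 := by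
  unfold toMat
  rw [toMat9_ONE, Matrix.submatrix_one_equiv]

theorem toMat_inj [CharP F 2] (h0 : ω ≠ 0) (h1 : ω ≠ 1) {c d : Nat} (hc : c < 2 ^ 162)
    (hd : d < 2 ^ 162) (h : toMat F ω c = toMat F ω d) : c = d := by
  apply toMat9_inj F ω h0 h1 hc hd
  unfold toMat at h
  ext i j
  have := congrFun (congrFun h (posE.symm i)) (posE.symm j)
  simpa using this

theorem toF_zero : toF F ω 0 = 0 := by simp [toF]

theorem toF_one : toF F ω 1 = 1 := by simp [toF]

theorem toF_two : toF F ω 2 = ω := by simp [toF]

theorem toF_three : toF F ω 3 = 1 + ω := by simp [toF]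

end mat


/-! ### The generating matrices of the definition are coded matrices -/

/-- the code of a power of `ω` -/
def pw (n : ZMod 3) : Nat := if n = 0 then 1 else if n = 1 then 2 else 3

def specA (Z w z : F9) : Nat := if w = z then pw (Z.1 * w.1 + Z.2 * w.2) else 0

def specE (Z w z : F9) : Nat := if w = z then pw ((Z.1 - w.1) ^ 2 + (Z.2 - w.2) ^ 2) else 0

def lamC (Z z : F9) : Nat :=
  if z = 0 then 1
  else if F9.div Z z = F9.I - F9.one then 2
  else if F9.div Z z = -F9.I - F9.one then 3
  else 1

def specD (Z w z : F9) : Nat := if w = z + Z then lamC Z z else 0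

def specB (Z w z : F9) : Nat := if w = F9.mul Z z then 1 else 0

def specC (Z w z : F9) : Nat :=
  if z = 0 then (if w = 0 then 1 else 0)
  else if w = -F9.div Z z ∨ w = F9.mul F9.I (F9.div Z z) ∨ w = -F9.mul F9.I (F9.div Z z) then 1
  else 0

def cA (Z : F9) : Nat := codeA.getD (posN Z) 0

def cE (Z : F9) : Nat := codeE.getD (posN Z) 0

def cD (Z : F9) : Nat := codeD.getD (posN Z) 0

def cB (Z : F9) : Nat := codeB.getD (posN Z) 0

def cC (Z : F9) : Nat := codeC.getD (posN Z) 0

set_option maxRecDepth 100000 in
theorem specA_eq : ∀ Z w z : F9, specA Z w z = ent (cA Z) (posN w) (posN z) := by decide +kernel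

set_option maxRecDepth 100000 in
theorem specE_eq : ∀ Z w z : F9, specE Z w z = ent (cE Z) (posN w) (posN z) := by decide +kernel

set_option maxRecDepth 100000 in
theorem specD_eq : ∀ Z w z : F9, specD Z w z = ent (cD Z) (posN w) (posN z) := by decide +kernel

set_option maxRecDepth 100000 in
theorem specB_eq : ∀ Z w z : F9, Z ≠ 0 → specB Z w z = ent (cB Z) (posN w) (posN z) := by
  decide +kernel

set_option maxRecDepth 100000 in
theorem specC_eq : ∀ Z w z : F9, Z ≠ 0 → specC Z w z = ent (cC Z) (posN w) (posN z) := by
  decide +kernel

section gens

variable (F : Type*) [Field F] (ω : F)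

theorem omegaPow_eq [CharP F 2] (hω : ω * ω = ω + 1) (n : ZMod 3) :
    omegaPow F ω n = toF F ω (pw n) := by
  fin_cases n
  · show ω ^ 0 = toF F ω 1
    rw [pow_zero, toF_one]
  · show ω ^ 1 = toF F ω 2
    rw [pow_one, toF_two]
  · show ω ^ 2 = toF F ω 3
    rw [pow_two, hω, toF_three, add_comm]

theorem j3A_eq [CharP F 2] (hω : ω * ω = ω + 1) (Z : F9) : j3A F ω Z = toMat F ω (cA Z) := by
  ext w z
  rw [toMat_apply, ← specA_eq]
  unfold j3A specA
  rw [Matrix.diagonal_apply]
  split_ifs
  · exact omegaPow_eq F ω hω _
  · exact (toF_zero F ω).symm

theorem j3E_eq [CharP F 2] (hω : ω * ω = ω + 1) (Z : F9) : j3E F ω Z = toMat F ω (cE Z) := by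
  ext w z
  rw [toMat_apply, ← specE_eq]
  unfold j3E specE
  rw [Matrix.diagonal_apply]
  split_ifs
  · exact omegaPow_eq F ω hω _
  · exact (toF_zero F ω).symm

theorem j3Lam_eq [CharP F 2] (hω : ω * ω = ω + 1) (Z z : F9) :
    j3Lam F ω Z z = toF F ω (lamC Z z) := by
  unfold j3Lam lamC
  split_ifs
  · exact (toF_one F ω).symm
  · exact (toF_two F ω).symm
  · rw [pow_two, hω, toF_three, add_comm]
  · exact (toF_one F ω).symm

theorem j3D_eq [CharP F 2] (hω : ω * ω = ω + 1) (Z : F9) : j3D F ω Z = toMat F ω (cD Z) := by
  ext w z
  rw [toMat_apply, ← specD_eq]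
  unfold j3D specD
  rw [Matrix.of_apply]
  split_ifs
  · exact j3Lam_eq F ω hω _ _
  · exact (toF_zero F ω).symm

theorem j3B_eq (Z : F9) (hZ : Z ≠ 0) : j3B F Z = toMat F ω (cB Z) := by
  ext w z
  rw [toMat_apply, ← specB_eq Z w z hZ]
  unfold j3B specB
  rw [Matrix.of_apply]
  split_ifs
  · exact (toF_one F ω).symm
  · exact (toF_zero F ω).symm

theorem j3C_eq (Z : F9) (hZ : Z ≠ 0) : j3C F Z = toMat F ω (cC Z) := by
  ext w z
  rw [toMat_apply, ← specC_eq Z w z hZ]
  unfold j3C specC
  rw [Matrix.of_apply]
  split_ifs
  · exact (toF_one F ω).symm
  · exact (toF_zero F ω).symm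
  · exact (toF_one F ω).symm
  · exact (toF_zero F ω).symm

end gens

end Cfsg.Agent.Helper14.J3
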