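import Mathlib
import Cfsg.Agent.Helper14.J3A

/-!
# Tables of coded matrices closed under multiplication: generic checkers
-/

set_option autoImplicit false

namespace Cfsg.Agent.Helper14.J3

/-- `2 ^ 162` -/
def P162 : Nat := 5846006549323611672814739330865132078623730171904

theorem P162_eq : P162 = 2 ^ 162 := by decide

/-- the code stored in a table entry -/
def codeOf (e : Nat) : Nat := e % P162

/-- the `t`-th 16-bit field stored in a table entry -/
def fld (e t : Nat) : Nat := e / (P162 * 65536 ^ t) % 65536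

theorem codeOf_lt (e : Nat) : codeOf e < 2 ^ 162 := by
  unfold codeOf; rw [P162_eq]; exact Nat.mod_lt _ (Nat.two_pow_pos 162)

/-- a table: blocks of pages of chunks of entries -/
abbrev Tab := List (List (List (List Nat)))

/-- look up an entry; out of range gives the identity -/
def getT (T : Tab) (j : Nat) : Nat :=
  (((T.getD (j / 4096) []).getD (j / 256 % 16) []).getD (j / 16 % 16) []).getD (j % 16) ONE

/-- the entries of a table -/
def memT (T : Tab) (e : Nat) : Prop := ∃ a ∈ T, ∃ b ∈ a, ∃ c ∈ b, e ∈ c

/-- all entries of a table, as a list -/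
def flatT (T : Tab) : List Nat := T.flatten.flatten.flatten

theorem memT_iff (T : Tab) (e : Nat) : memT T e ↔ e ∈ flatT T := by
  unfold memT flatT
  simp only [List.mem_flatten]
  constructor
  · rintro ⟨a, ha, b, hb, c, hc, he⟩
    exact ⟨c, ⟨b, ⟨a, ha, hb⟩, hc⟩, he⟩
  · rintro ⟨c, ⟨b, ⟨a, ha, hb⟩, hc⟩, he⟩
    exact ⟨a, ha, b, hb, c, hc, he⟩

theorem getD_mem_or' {α : Type*} (l : List α) (n : ℕ) (d : α) : l.getD n d ∈ l ∨ l.getD n d = d := by
  induction l generalizing n with
  | nil => right; rfl
  | cons a l ih =>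
    rcases n with _ | n
    · left; simp
    · rcases ih n with h | h
      · left; simp only [List.getD_cons_succ]; exact List.mem_cons_of_mem _ h
      · right; simpa using h

theorem getT_mem_or (T : Tab) (j : Nat) : memT T (getT T j) ∨ getT T j = ONE := by
  unfold getT
  rcases getD_mem_or' T (j / 4096) [] with h1 | h1
  · rcases getD_mem_or' (T.getD (j / 4096) []) (j / 256 % 16) [] with h2 | h2
    · rcases getD_mem_or' ((T.getD (j / 4096) []).getD (j / 256 % 16) []) (j / 16 % 16) []
        with h3 | h3
      · rcases getD_mem_or' (((T.getD (j / 4096) []).getD (j / 256 % 16) []).getD (j / 16 % 16) [])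
          (j % 16) ONE with h4 | h4
        · left; exact ⟨_, h1, _, h2, _, h3, h4⟩
        · right; exact h4
      · right; rw [h3]; simp
    · right; rw [h2]; simp
  · right; rw [h1]; simp

theorem codeOf_ONE : codeOf ONE = ONE := by decide

theorem fld_ONE (t : Nat) : fld ONE t = 0 := by
  unfold fld
  have h : ONE / (P162 * 65536 ^ t) = 0 := by
    apply Nat.div_eq_of_lt
    calc ONE < P162 * 1 := by decide
      _ ≤ P162 * 65536 ^ t := Nat.mul_le_mul_left _ (Nat.one_le_pow _ _ (by norm_num))
  rw [h]

/-- the check for one entry of a table closed under left multiplication by `gs` -/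
def chkClosedEntry (T : Tab) (gs : List Nat) (e : Nat) : Bool :=
  ((fld e 2 == 0 && codeOf e == ONE) ||
    (mul4 (gs.getD (fld e 1) ONE) (codeOf (getT T (fld e 0))) == codeOf e &&
      fld (getT T (fld e 0)) 2 + 1 == fld e 2)) &&
  (List.range gs.length).all fun s =>
    mul4 (gs.getD s ONE) (codeOf e) == codeOf (getT T (fld e (3 + s)))

/-- all entries of a block satisfy a check -/
def allB (B : List (List (List Nat))) (f : Nat → Bool) : Bool :=
  B.all fun p => p.all fun c => c.all f

def chkClosed (T : Tab) (gs : List Nat) : Bool :=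
  T.all fun B => allB B (chkClosedEntry T gs)

theorem allB_of_mem {B : List (List (List Nat))} {f : Nat → Bool} (h : allB B f = true)
    {b : List (List Nat)} (hb : b ∈ B) {c : List Nat} (hc : c ∈ b) {e : Nat} (he : e ∈ c) :
    f e = true := by
  unfold allB at h
  rw [List.all_eq_true] at h
  have h1 := h b hb
  rw [List.all_eq_true] at h1
  have h2 := h1 c hc
  rw [List.all_eq_true] at h2
  exact h2 e he

/-- the check for one entry of a table of coset representatives: `g * r = r' * h` -/
def chkCosetEntry (R Hl : Tab) (gs : List Nat) (e : Nat) : Bool :=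
  ((fld e 2 == 0 && codeOf e == ONE) ||
    (mul4 (gs.getD (fld e 1) ONE) (codeOf (getT R (fld e 0))) == codeOf e &&
      fld (getT R (fld e 0)) 2 + 1 == fld e 2)) &&
  (List.range gs.length).all fun s =>
    mul4 (gs.getD s ONE) (codeOf e) ==
      mul4 (codeOf (getT R (fld e (3 + 2 * s)))) (codeOf (getT Hl (fld e (4 + 2 * s))))

/-- the codes are strictly increasing along the list (so pairwise distinct) -/
def incCodes : List Nat → Bool
  | [] => true
  | [_] => true
  | a :: b :: l => Nat.blt (codeOf a) (codeOf b) && incCodes (b :: l)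

section generic

variable {M : Type*} [Monoid M] (dec : Nat → M)

/-- the elements coded by a table -/
def setOfT (T : Tab) : Set M := {x | ∃ e, memT T e ∧ x = dec (codeOf e)}

/-- the elements coded by a list of codes -/
def setOfL (gs : List Nat) : Set M := {x | ∃ g ∈ gs, x = dec g}

variable (hmul : ∀ a b, dec (mul4 a b) = dec a * dec b) (hone : dec ONE = 1)

include hone in
theorem dec_getD_mem (gs : List Nat) (a : Nat) :
    dec (gs.getD a ONE) ∈ Submonoid.closure (setOfL dec gs) := by
  rcases getD_mem_or' gs a ONE with h | h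
  · exact Submonoid.subset_closure ⟨_, h, rfl⟩
  · rw [h, hone]; exact Submonoid.one_mem _

/-- the first part of both entry checks: the entry is the identity or a generator times an entry of
smaller depth -/
def treeOK (T : Tab) (gs : List Nat) (e : Nat) : Bool :=
  (fld e 2 == 0 && codeOf e == ONE) ||
    (mul4 (gs.getD (fld e 1) ONE) (codeOf (getT T (fld e 0))) == codeOf e &&
      fld (getT T (fld e 0)) 2 + 1 == fld e 2)

include hmul hone in
/-- every element of a checked table is a product of the generators -/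
theorem mem_closure_of_treeOK {T : Tab} {gs : List Nat}
    (h : ∀ e, memT T e → treeOK T gs e = true) :
    ∀ d : ℕ, ∀ e, memT T e → fld e 2 = d →
      dec (codeOf e) ∈ Submonoid.closure (setOfL dec gs) := by
  intro d
  induction d with
  | zero =>
    intro e he hd
    have h1 := h e he
    unfold treeOK at h1
    rw [Bool.or_eq_true, Bool.and_eq_true, Bool.and_eq_true] at h1
    rcases h1 with h2 | h2
    · rw [eq_of_beq h2.2, hone]; exact Submonoid.one_mem _
    · have := eq_of_beq h2.2
      omega
  | succ d ih =>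
    intro e he hd
    have h1 := h e he
    unfold treeOK at h1
    rw [Bool.or_eq_true, Bool.and_eq_true, Bool.and_eq_true] at h1
    rcases h1 with h2 | h2
    · rw [eq_of_beq h2.2, hone]; exact Submonoid.one_mem _
    · have h3 := eq_of_beq h2.1
      have h4 := eq_of_beq h2.2
      rw [← h3, hmul]
      apply Submonoid.mul_mem _ (dec_getD_mem dec hone gs _)
      rcases getT_mem_or T (fld e 0) with h5 | h5
      · exact ih _ h5 (by omega)
      · rw [h5, codeOf_ONE, hone]; exact Submonoid.one_mem _

theorem treeOK_of_closed {T : Tab} {gs : List Nat} {e : Nat}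
    (h : chkClosedEntry T gs e = true) : treeOK T gs e = true := by
  unfold chkClosedEntry at h
  rw [Bool.and_eq_true] at h
  exact h.1

theorem treeOK_of_coset {R Hl : Tab} {gs : List Nat} {e : Nat}
    (h : chkCosetEntry R Hl gs e = true) : treeOK R gs e = true := by
  unfold chkCosetEntry at h
  rw [Bool.and_eq_true] at h
  exact h.1

include hmul hone in
/-- a checked table contains every product of the generators -/
theorem closure_subset_setOfT {T : Tab} {gs : List Nat}
    (h : ∀ e, memT T e → chkClosedEntry T gs e = true)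
    (hroot : ∃ e, memT T e ∧ codeOf e = ONE) :
    ∀ x ∈ Submonoid.closure (setOfL dec gs), x ∈ setOfT dec T := by
  have h1T : (1 : M) ∈ setOfT dec T := by
    obtain ⟨e, he, h1⟩ := hroot
    exact ⟨e, he, by rw [h1, hone]⟩
  have getT_mem : ∀ j, dec (codeOf (getT T j)) ∈ setOfT dec T := by
    intro j
    rcases getT_mem_or T j with h5 | h5
    · exact ⟨_, h5, rfl⟩
    · rw [h5, codeOf_ONE, hone]; exact h1T
  have key : ∀ y ∈ Submonoid.closure (setOfL dec gs), ∀ x ∈ setOfT dec T, y * x ∈ setOfT dec T := by
    intro y hy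
    induction hy using Submonoid.closure_induction with
    | mem y hy =>
      rintro _ ⟨e, he, rfl⟩
      obtain ⟨g, hg, rfl⟩ := hy
      have h1 := h e he
      unfold chkClosedEntry at h1
      rw [Bool.and_eq_true, List.all_eq_true] at h1
      obtain ⟨s, hs, hsg⟩ := List.getElem_of_mem hg
      have h2 := h1.2 s (List.mem_range.2 hs)
      have h3 : gs.getD s ONE = g := by
        rw [List.getD_eq_getElem _ _ hs, hsg]
      rw [h3] at h2
      rw [← hmul, eq_of_beq h2]
      exact getT_mem _
    | one =>
      intro x hx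
      rw [one_mul]; exact hx
    | mul a b _ _ iha ihb =>
      intro x hx
      rw [mul_assoc]
      exact iha _ (ihb x hx)
  intro x hx
  have := key x hx 1 h1T
  rwa [mul_one] at this

include hmul hone in
theorem setOfT_eq_closure {T : Tab} {gs : List Nat}
    (h : ∀ e, memT T e → chkClosedEntry T gs e = true)
    (hroot : ∃ e, memT T e ∧ codeOf e = ONE) :
    setOfT dec T = (Submonoid.closure (setOfL dec gs) : Set M) := by
  ext x
  constructor
  · rintro ⟨e, he, rfl⟩
    exact mem_closure_of_treeOK dec hmul hone (fun e he => treeOK_of_closed (h e he)) _ e he rfl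
  · intro hx
    exact closure_subset_setOfT dec hmul hone h hroot x hx

/-- In a monoid: if `R * H` contains `1`, `H` is closed under products and `Y * R ⊆ R * H`, then the
submonoid generated by `Y` lies in `R * H`. -/
theorem closure_subset_mul' {M : Type*} [Monoid M] (Y R H : Set M) (h1R : 1 ∈ R) (h1H : 1 ∈ H)
    (hHH : ∀ a ∈ H, ∀ b ∈ H, a * b ∈ H)
    (hstep : ∀ r ∈ R, ∀ y ∈ Y, ∃ r' ∈ R, ∃ h ∈ H, y * r = r' * h) :
    ∀ g ∈ Submonoid.closure Y, ∃ r ∈ R, ∃ h ∈ H, g = r * h := by
  have key : ∀ g ∈ Submonoid.closure Y, ∀ r ∈ R, ∀ h ∈ H, ∃ r' ∈ R, ∃ h' ∈ H,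
      g * (r * h) = r' * h' := by
    intro g hg
    induction hg using Submonoid.closure_induction with
    | mem y hy =>
      intro r hr h hh
      obtain ⟨r', hr', h0, hh0, e⟩ := hstep r hr y hy
      exact ⟨r', hr', h0 * h, hHH h0 hh0 h hh, by rw [← mul_assoc, e, mul_assoc]⟩
    | one =>
      intro r hr h hh
      exact ⟨r, hr, h, hh, one_mul _⟩
    | mul a b _ _ iha ihb =>
      intro r hr h hh
      obtain ⟨r₁, hr₁, h₁, hh₁, e₁⟩ := ihb r hr h hh
      obtain ⟨r₂, hr₂, h₂, hh₂, e₂⟩ := iha r₁ hr₁ h₁ hh₁
      exact ⟨r₂, hr₂, h₂, hh₂, by rw [mul_assoc, e₁, e₂]⟩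
  intro g hg
  obtain ⟨r', hr', h', hh', e⟩ := key g hg 1 h1R 1 h1H
  exact ⟨r', hr', h', hh', by rw [← e, mul_one, mul_one]⟩

include hmul hone in
/-- every product of the generators is (a coset representative) times (an element of the small table) -/
theorem closure_subset_coset {R Hl : Tab} {gs : List Nat}
    (h : ∀ e, memT R e → chkCosetEntry R Hl gs e = true)
    (hroot : ∃ e, memT R e ∧ codeOf e = ONE)
    (hrootH : ∃ e, memT Hl e ∧ codeOf e = ONE)
    (hHH : ∀ a ∈ setOfT dec Hl, ∀ b ∈ setOfT dec Hl, a * b ∈ setOfT dec Hl) :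
    ∀ x ∈ Submonoid.closure (setOfL dec gs),
      ∃ r ∈ setOfT dec R, ∃ k ∈ setOfT dec Hl, x = r * k := by
  have h1R : (1 : M) ∈ setOfT dec R := by
    obtain ⟨e, he, h1⟩ := hroot
    exact ⟨e, he, by rw [h1, hone]⟩
  have h1H : (1 : M) ∈ setOfT dec Hl := by
    obtain ⟨e, he, h1⟩ := hrootH
    exact ⟨e, he, by rw [h1, hone]⟩
  have getR_mem : ∀ j, dec (codeOf (getT R j)) ∈ setOfT dec R := by
    intro j
    rcases getT_mem_or R j with h5 | h5
    · exact ⟨_, h5, rfl⟩
    · rw [h5, codeOf_ONE, hone]; exact h1R
  have getH_mem : ∀ j, dec (codeOf (getT Hl j)) ∈ setOfT dec Hl := by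
    intro j
    rcases getT_mem_or Hl j with h5 | h5
    · exact ⟨_, h5, rfl⟩
    · rw [h5, codeOf_ONE, hone]; exact h1H
  apply closure_subset_mul' _ _ _ h1R h1H hHH
  rintro _ ⟨e, he, rfl⟩ y ⟨g, hg, rfl⟩
  have h1 := h e he
  unfold chkCosetEntry at h1
  rw [Bool.and_eq_true, List.all_eq_true] at h1
  obtain ⟨s, hs, hsg⟩ := List.getElem_of_mem hg
  have h2 := h1.2 s (List.mem_range.2 hs)
  have h3 : gs.getD s ONE = g := by
    rw [List.getD_eq_getElem _ _ hs, hsg]
  rw [h3] at h2
  refine ⟨_, getR_mem (fld e (3 + 2 * s)), _, getH_mem (fld e (4 + 2 * s)), ?_⟩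
  rw [← hmul, eq_of_beq h2, hmul]

end generic

end Cfsg.Agent.Helper14.J3
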