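import Mathlib
import Cfsg.Agent.Helper14.J3B
import Cfsg.Agent.Helper14.J3C
import Cfsg.Agent.Helper14.J3DH0
import Cfsg.Agent.Helper14.J3DH1
import Cfsg.Agent.Helper14.J3DR0
import Cfsg.Agent.Helper14.J3DR1
import Cfsg.Agent.Helper14.J3DR2
import Cfsg.Agent.Helper14.J3DR3
import Cfsg.Agent.Helper14.J3DR4
import Cfsg.Agent.Helper14.J3DR5

/-! # The tables: cosets of the line stabiliser, and the line stabiliser -/

set_option autoImplicit false

namespace Cfsg.Agent.Helper14.J3

/-- the seven base generators followed by their inverses -/
def letters : List Nat := [2925860560365287560004886946310432006303883723777, 2925857772772135150066342066286272728737304805377, 2925860560365287562542664026844309775341898956801, 365732221255902219521185930787304836589930217536, 1461501638692032385887438687164689509264143155716, 302250478249787735015425, 1892783774330118428726273, 2925860560365287560004885736202868976453183079425, 2925857772772135150066340858541043610025145140225, 2925860560365287562542662816739050334501576115201, 21799339130872620334530366487353142288392, 5708990776140751507373111964357478365106800642, 9523133880129403551745, 1892783774330118428726273]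

/-- words in the fourteen letters -/
def evL : List Nat → Nat
  | [] => ONE
  | a :: w => mul4 (letters.getD a ONE) (evL w)

/-- two generators of the whole group, as words -/
def XYwords : List (List Nat) := [[6], [4, 3]]

/-- two generators of the whole group -/
def XYgens : List Nat := [1892783774330118428726273, 182689098633078956399876257435841955094968959232]

/-- generators of the line stabiliser, as words -/
def HgenWords : List (List Nat) := [[10, 11, 13, 10, 11, 10, 11, 10, 11, 10, 11, 13, 10, 11, 13, 10, 11, 6, 4, 3, 6, 4, 3, 6, 4, 3, 4, 3, 4, 3, 4, 3, 6, 4, 3], [10, 11, 13, 10, 11, 10, 11, 10, 11, 13, 10, 11, 13, 10, 11, 10, 11, 13, 4, 3, 4, 3, 4, 3, 6, 4, 3, 4, 3, 6, 4, 3, 4, 3, 4, 3, 4, 3, 4, 3, 6, 4, 3]]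

/-- generators of the line stabiliser -/
def Hgens : List Nat := [114314317307760605469037490969239533977826508801, 4385578223858050354234037281031713728227736325120]

/-- the base generators as (coset representative) * (element of the line stabiliser) -/
def baseDec : List (Nat × Nat) := [(0, 5075), (0, 5031), (0, 5081), (15481, 2229), (20815, 5392), (0, 6), (0, 14)]

def Htab : Tab := [Hblk0, Hblk1]

def Rtab : Tab := [Rblk0, Rblk1, Rblk2, Rblk3, Rblk4, Rblk5]

set_option maxRecDepth 100000 in
theorem XYgens_eq : XYwords.map evL = XYgens := by decide +kernel

set_option maxRecDepth 100000 in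
theorem Hgens_eq : HgenWords.map evL = Hgens := by decide +kernel

end Cfsg.Agent.Helper14.J3
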