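import Mathlib
import Cfsg.Agent.Helper14.J3T

set_option autoImplicit false

namespace Cfsg.Agent.Helper14.J3

theorem k_Hc_1_0_0 : Hc_1_0_0.all (chkClosedEntry Htab Hgens) = true := by decide +kernel
theorem k_Hc_1_0_1 : Hc_1_0_1.all (chkClosedEntry Htab Hgens) = true := by decide +kernel
theorem k_Hc_1_0_2 : Hc_1_0_2.all (chkClosedEntry Htab Hgens) = true := by decide +kernel
theorem k_Hc_1_0_3 : Hc_1_0_3.all (chkClosedEntry Htab Hgens) = true := by decide +kernel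
theorem k_Hc_1_0_4 : Hc_1_0_4.all (chkClosedEntry Htab Hgens) = true := by decide +kernel
theorem k_Hc_1_0_5 : Hc_1_0_5.all (chkClosedEntry Htab Hgens) = true := by decide +kernel
theorem k_Hc_1_0_6 : Hc_1_0_6.all (chkClosedEntry Htab Hgens) = true := by decide +kernel
theorem k_Hc_1_0_7 : Hc_1_0_7.all (chkClosedEntry Htab Hgens) = true := by decide +kernel
theorem k_Hc_1_0_8 : Hc_1_0_8.all (chkClosedEntry Htab Hgens) = true := by decide +kernel
theorem k_Hc_1_0_9 : Hc_1_0_9.all (chkClosedEntry Htab Hgens) = true := by decide +kernel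
theorem k_Hc_1_0_10 : Hc_1_0_10.all (chkClosedEntry Htab Hgens) = true := by decide +kernel
theorem k_Hc_1_0_11 : Hc_1_0_11.all (chkClosedEntry Htab Hgens) = true := by decide +kernel
theorem k_Hc_1_0_12 : Hc_1_0_12.all (chkClosedEntry Htab Hgens) = true := by decide +kernel
theorem k_Hc_1_0_13 : Hc_1_0_13.all (chkClosedEntry Htab Hgens) = true := by decide +kernel
theorem k_Hc_1_0_14 : Hc_1_0_14.all (chkClosedEntry Htab Hgens) = true := by decide +kernel
theorem k_Hc_1_0_15 : Hc_1_0_15.all (chkClosedEntry Htab Hgens) = true := by decide +kernel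
theorem k_Hc_1_1_0 : Hc_1_1_0.all (chkClosedEntry Htab Hgens) = true := by decide +kernel
theorem k_Hc_1_1_1 : Hc_1_1_1.all (chkClosedEntry Htab Hgens) = true := by decide +kernel
theorem k_Hc_1_1_2 : Hc_1_1_2.all (chkClosedEntry Htab Hgens) = true := by decide +kernel
theorem k_Hc_1_1_3 : Hc_1_1_3.all (chkClosedEntry Htab Hgens) = true := by decide +kernel
theorem k_Hc_1_1_4 : Hc_1_1_4.all (chkClosedEntry Htab Hgens) = true := by decide +kernel
theorem k_Hc_1_1_5 : Hc_1_1_5.all (chkClosedEntry Htab Hgens) = true := by decide +kernel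
theorem k_Hc_1_1_6 : Hc_1_1_6.all (chkClosedEntry Htab Hgens) = true := by decide +kernel
theorem k_Hc_1_1_7 : Hc_1_1_7.all (chkClosedEntry Htab Hgens) = true := by decide +kernel
theorem k_Hc_1_1_8 : Hc_1_1_8.all (chkClosedEntry Htab Hgens) = true := by decide +kernel
theorem k_Hc_1_1_9 : Hc_1_1_9.all (chkClosedEntry Htab Hgens) = true := by decide +kernel
theorem k_Hc_1_1_10 : Hc_1_1_10.all (chkClosedEntry Htab Hgens) = true := by decide +kernel
theorem k_Hc_1_1_11 : Hc_1_1_11.all (chkClosedEntry Htab Hgens) = true := by decide +kernel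
theorem k_Hc_1_1_12 : Hc_1_1_12.all (chkClosedEntry Htab Hgens) = true := by decide +kernel
theorem k_Hc_1_1_13 : Hc_1_1_13.all (chkClosedEntry Htab Hgens) = true := by decide +kernel
theorem k_Hc_1_1_14 : Hc_1_1_14.all (chkClosedEntry Htab Hgens) = true := by decide +kernel
theorem k_Hc_1_1_15 : Hc_1_1_15.all (chkClosedEntry Htab Hgens) = true := by decide +kernel
theorem k_Hc_1_2_0 : Hc_1_2_0.all (chkClosedEntry Htab Hgens) = true := by decide +kernel
theorem k_Hc_1_2_1 : Hc_1_2_1.all (chkClosedEntry Htab Hgens) = true := by decide +kernel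
theorem k_Hc_1_2_2 : Hc_1_2_2.all (chkClosedEntry Htab Hgens) = true := by decide +kernel
theorem k_Hc_1_2_3 : Hc_1_2_3.all (chkClosedEntry Htab Hgens) = true := by decide +kernel
theorem k_Hc_1_2_4 : Hc_1_2_4.all (chkClosedEntry Htab Hgens) = true := by decide +kernel
theorem k_Hc_1_2_5 : Hc_1_2_5.all (chkClosedEntry Htab Hgens) = true := by decide +kernel
theorem k_Hc_1_2_6 : Hc_1_2_6.all (chkClosedEntry Htab Hgens) = true := by decide +kernel
theorem k_Hc_1_2_7 : Hc_1_2_7.all (chkClosedEntry Htab Hgens) = true := by decide +kernel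
theorem k_Hc_1_2_8 : Hc_1_2_8.all (chkClosedEntry Htab Hgens) = true := by decide +kernel
theorem k_Hc_1_2_9 : Hc_1_2_9.all (chkClosedEntry Htab Hgens) = true := by decide +kernel
theorem k_Hc_1_2_10 : Hc_1_2_10.all (chkClosedEntry Htab Hgens) = true := by decide +kernel
theorem k_Hc_1_2_11 : Hc_1_2_11.all (chkClosedEntry Htab Hgens) = true := by decide +kernel
theorem k_Hc_1_2_12 : Hc_1_2_12.all (chkClosedEntry Htab Hgens) = true := by decide +kernel
theorem k_Hc_1_2_13 : Hc_1_2_13.all (chkClosedEntry Htab Hgens) = true := by decide +kernel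
theorem k_Hc_1_2_14 : Hc_1_2_14.all (chkClosedEntry Htab Hgens) = true := by decide +kernel
theorem k_Hc_1_2_15 : Hc_1_2_15.all (chkClosedEntry Htab Hgens) = true := by decide +kernel
theorem k_Hc_1_3_0 : Hc_1_3_0.all (chkClosedEntry Htab Hgens) = true := by decide +kernel
theorem k_Hc_1_3_1 : Hc_1_3_1.all (chkClosedEntry Htab Hgens) = true := by decide +kernel
theorem k_Hc_1_3_2 : Hc_1_3_2.all (chkClosedEntry Htab Hgens) = true := by decide +kernel
theorem k_Hc_1_3_3 : Hc_1_3_3.all (chkClosedEntry Htab Hgens) = true := by decide +kernel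
theorem k_Hc_1_3_4 : Hc_1_3_4.all (chkClosedEntry Htab Hgens) = true := by decide +kernel
theorem k_Hc_1_3_5 : Hc_1_3_5.all (chkClosedEntry Htab Hgens) = true := by decide +kernel
theorem k_Hc_1_3_6 : Hc_1_3_6.all (chkClosedEntry Htab Hgens) = true := by decide +kernel
theorem k_Hc_1_3_7 : Hc_1_3_7.all (chkClosedEntry Htab Hgens) = true := by decide +kernel
theorem k_Hc_1_3_8 : Hc_1_3_8.all (chkClosedEntry Htab Hgens) = true := by decide +kernel
theorem k_Hc_1_3_9 : Hc_1_3_9.all (chkClosedEntry Htab Hgens) = true := by decide +kernel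
theorem k_Hc_1_3_10 : Hc_1_3_10.all (chkClosedEntry Htab Hgens) = true := by decide +kernel
theorem k_Hc_1_3_11 : Hc_1_3_11.all (chkClosedEntry Htab Hgens) = true := by decide +kernel
theorem k_Hc_1_3_12 : Hc_1_3_12.all (chkClosedEntry Htab Hgens) = true := by decide +kernel
theorem k_Hc_1_3_13 : Hc_1_3_13.all (chkClosedEntry Htab Hgens) = true := by decide +kernel
theorem k_Hc_1_3_14 : Hc_1_3_14.all (chkClosedEntry Htab Hgens) = true := by decide +kernel
theorem k_Hc_1_3_15 : Hc_1_3_15.all (chkClosedEntry Htab Hgens) = true := by decide +kernel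
theorem k_Hc_1_4_0 : Hc_1_4_0.all (chkClosedEntry Htab Hgens) = true := by decide +kernel
theorem k_Hc_1_4_1 : Hc_1_4_1.all (chkClosedEntry Htab Hgens) = true := by decide +kernel
theorem k_Hc_1_4_2 : Hc_1_4_2.all (chkClosedEntry Htab Hgens) = true := by decide +kernel
theorem k_Hc_1_4_3 : Hc_1_4_3.all (chkClosedEntry Htab Hgens) = true := by decide +kernel
theorem k_Hc_1_4_4 : Hc_1_4_4.all (chkClosedEntry Htab Hgens) = true := by decide +kernel
theorem k_Hc_1_4_5 : Hc_1_4_5.all (chkClosedEntry Htab Hgens) = true := by decide +kernel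
theorem k_Hc_1_4_6 : Hc_1_4_6.all (chkClosedEntry Htab Hgens) = true := by decide +kernel
theorem k_Hc_1_4_7 : Hc_1_4_7.all (chkClosedEntry Htab Hgens) = true := by decide +kernel
theorem k_Hc_1_4_8 : Hc_1_4_8.all (chkClosedEntry Htab Hgens) = true := by decide +kernel
theorem k_Hc_1_4_9 : Hc_1_4_9.all (chkClosedEntry Htab Hgens) = true := by decide +kernel
theorem k_Hc_1_4_10 : Hc_1_4_10.all (chkClosedEntry Htab Hgens) = true := by decide +kernel
theorem k_Hc_1_4_11 : Hc_1_4_11.all (chkClosedEntry Htab Hgens) = true := by decide +kernel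
theorem k_Hc_1_4_12 : Hc_1_4_12.all (chkClosedEntry Htab Hgens) = true := by decide +kernel
theorem k_Hc_1_4_13 : Hc_1_4_13.all (chkClosedEntry Htab Hgens) = true := by decide +kernel
theorem k_Hc_1_4_14 : Hc_1_4_14.all (chkClosedEntry Htab Hgens) = true := by decide +kernel
theorem k_Hc_1_4_15 : Hc_1_4_15.all (chkClosedEntry Htab Hgens) = true := by decide +kernel
theorem k_Hc_1_5_0 : Hc_1_5_0.all (chkClosedEntry Htab Hgens) = true := by decide +kernel
theorem k_Hc_1_5_1 : Hc_1_5_1.all (chkClosedEntry Htab Hgens) = true := by decide +kernel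
theorem k_Hc_1_5_2 : Hc_1_5_2.all (chkClosedEntry Htab Hgens) = true := by decide +kernel
theorem k_Hc_1_5_3 : Hc_1_5_3.all (chkClosedEntry Htab Hgens) = true := by decide +kernel
theorem k_Hc_1_5_4 : Hc_1_5_4.all (chkClosedEntry Htab Hgens) = true := by decide +kernel
theorem k_Hc_1_5_5 : Hc_1_5_5.all (chkClosedEntry Htab Hgens) = true := by decide +kernel
theorem k_Hc_1_5_6 : Hc_1_5_6.all (chkClosedEntry Htab Hgens) = true := by decide +kernel
theorem k_Hc_1_5_7 : Hc_1_5_7.all (chkClosedEntry Htab Hgens) = true := by decide +kernel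
theorem k_Hc_1_5_8 : Hc_1_5_8.all (chkClosedEntry Htab Hgens) = true := by decide +kernel
theorem k_Hc_1_5_9 : Hc_1_5_9.all (chkClosedEntry Htab Hgens) = true := by decide +kernel
theorem k_Hc_1_5_10 : Hc_1_5_10.all (chkClosedEntry Htab Hgens) = true := by decide +kernel
theorem k_Hc_1_5_11 : Hc_1_5_11.all (chkClosedEntry Htab Hgens) = true := by decide +kernel
theorem k_Hc_1_5_12 : Hc_1_5_12.all (chkClosedEntry Htab Hgens) = true := by decide +kernel
theorem k_Hc_1_5_13 : Hc_1_5_13.all (chkClosedEntry Htab Hgens) = true := by decide +kernel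
theorem k_Hc_1_5_14 : Hc_1_5_14.all (chkClosedEntry Htab Hgens) = true := by decide +kernel
theorem k_Hc_1_5_15 : Hc_1_5_15.all (chkClosedEntry Htab Hgens) = true := by decide +kernel
theorem k_Hc_1_6_0 : Hc_1_6_0.all (chkClosedEntry Htab Hgens) = true := by decide +kernel
theorem k_Hc_1_6_1 : Hc_1_6_1.all (chkClosedEntry Htab Hgens) = true := by decide +kernel
theorem k_Hc_1_6_2 : Hc_1_6_2.all (chkClosedEntry Htab Hgens) = true := by decide +kernel
theorem k_Hc_1_6_3 : Hc_1_6_3.all (chkClosedEntry Htab Hgens) = true := by decide +kernel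
theorem k_Hc_1_6_4 : Hc_1_6_4.all (chkClosedEntry Htab Hgens) = true := by decide +kernel
theorem k_Hc_1_6_5 : Hc_1_6_5.all (chkClosedEntry Htab Hgens) = true := by decide +kernel
theorem k_Hc_1_6_6 : Hc_1_6_6.all (chkClosedEntry Htab Hgens) = true := by decide +kernel
theorem k_Hc_1_6_7 : Hc_1_6_7.all (chkClosedEntry Htab Hgens) = true := by decide +kernel
theorem k_Hc_1_6_8 : Hc_1_6_8.all (chkClosedEntry Htab Hgens) = true := by decide +kernel
theorem k_Hc_1_6_9 : Hc_1_6_9.all (chkClosedEntry Htab Hgens) = true := by decide +kernel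
theorem k_Hc_1_6_10 : Hc_1_6_10.all (chkClosedEntry Htab Hgens) = true := by decide +kernel
theorem k_Hc_1_6_11 : Hc_1_6_11.all (chkClosedEntry Htab Hgens) = true := by decide +kernel
theorem k_Hc_1_6_12 : Hc_1_6_12.all (chkClosedEntry Htab Hgens) = true := by decide +kernel
theorem k_Hc_1_6_13 : Hc_1_6_13.all (chkClosedEntry Htab Hgens) = true := by decide +kernel
theorem k_Hc_1_6_14 : Hc_1_6_14.all (chkClosedEntry Htab Hgens) = true := by decide +kernel
theorem k_Hc_1_6_15 : Hc_1_6_15.all (chkClosedEntry Htab Hgens) = true := by decide +kernel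
theorem k_Hc_1_7_0 : Hc_1_7_0.all (chkClosedEntry Htab Hgens) = true := by decide +kernel
theorem k_Hc_1_7_1 : Hc_1_7_1.all (chkClosedEntry Htab Hgens) = true := by decide +kernel
theorem k_Hc_1_7_2 : Hc_1_7_2.all (chkClosedEntry Htab Hgens) = true := by decide +kernel
theorem k_Hc_1_7_3 : Hc_1_7_3.all (chkClosedEntry Htab Hgens) = true := by decide +kernel
theorem k_Hc_1_7_4 : Hc_1_7_4.all (chkClosedEntry Htab Hgens) = true := by decide +kernel
theorem k_Hc_1_7_5 : Hc_1_7_5.all (chkClosedEntry Htab Hgens) = true := by decide +kernel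
theorem k_Hc_1_7_6 : Hc_1_7_6.all (chkClosedEntry Htab Hgens) = true := by decide +kernel
theorem k_Hc_1_7_7 : Hc_1_7_7.all (chkClosedEntry Htab Hgens) = true := by decide +kernel
theorem k_Hc_1_7_8 : Hc_1_7_8.all (chkClosedEntry Htab Hgens) = true := by decide +kernel
theorem k_Hc_1_7_9 : Hc_1_7_9.all (chkClosedEntry Htab Hgens) = true := by decide +kernel
theorem k_Hc_1_7_10 : Hc_1_7_10.all (chkClosedEntry Htab Hgens) = true := by decide +kernel
theorem k_Hc_1_7_11 : Hc_1_7_11.all (chkClosedEntry Htab Hgens) = true := by decide +kernel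
theorem k_Hc_1_7_12 : Hc_1_7_12.all (chkClosedEntry Htab Hgens) = true := by decide +kernel
theorem k_Hc_1_7_13 : Hc_1_7_13.all (chkClosedEntry Htab Hgens) = true := by decide +kernel
theorem k_Hc_1_7_14 : Hc_1_7_14.all (chkClosedEntry Htab Hgens) = true := by decide +kernel
theorem k_Hc_1_7_15 : Hc_1_7_15.all (chkClosedEntry Htab Hgens) = true := by decide +kernel
theorem k_Hc_1_8_0 : Hc_1_8_0.all (chkClosedEntry Htab Hgens) = true := by decide +kernel
theorem k_Hc_1_8_1 : Hc_1_8_1.all (chkClosedEntry Htab Hgens) = true := by decide +kernel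
theorem k_Hc_1_8_2 : Hc_1_8_2.all (chkClosedEntry Htab Hgens) = true := by decide +kernel
theorem k_Hc_1_8_3 : Hc_1_8_3.all (chkClosedEntry Htab Hgens) = true := by decide +kernel
theorem k_Hc_1_8_4 : Hc_1_8_4.all (chkClosedEntry Htab Hgens) = true := by decide +kernel
theorem k_Hc_1_8_5 : Hc_1_8_5.all (chkClosedEntry Htab Hgens) = true := by decide +kernel
theorem k_Hc_1_8_6 : Hc_1_8_6.all (chkClosedEntry Htab Hgens) = true := by decide +kernel
theorem k_Hc_1_8_7 : Hc_1_8_7.all (chkClosedEntry Htab Hgens) = true := by decide +kernel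
theorem k_Hc_1_8_8 : Hc_1_8_8.all (chkClosedEntry Htab Hgens) = true := by decide +kernel
theorem k_Hc_1_8_9 : Hc_1_8_9.all (chkClosedEntry Htab Hgens) = true := by decide +kernel
theorem k_Hc_1_8_10 : Hc_1_8_10.all (chkClosedEntry Htab Hgens) = true := by decide +kernel
theorem k_Hc_1_8_11 : Hc_1_8_11.all (chkClosedEntry Htab Hgens) = true := by decide +kernel
theorem k_Hc_1_8_12 : Hc_1_8_12.all (chkClosedEntry Htab Hgens) = true := by decide +kernel
theorem k_Hc_1_8_13 : Hc_1_8_13.all (chkClosedEntry Htab Hgens) = true := by decide +kernel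
theorem k_Hc_1_8_14 : Hc_1_8_14.all (chkClosedEntry Htab Hgens) = true := by decide +kernel
theorem k_Hc_1_8_15 : Hc_1_8_15.all (chkClosedEntry Htab Hgens) = true := by decide +kernel
theorem k_Hc_1_9_0 : Hc_1_9_0.all (chkClosedEntry Htab Hgens) = true := by decide +kernel
theorem k_Hc_1_9_1 : Hc_1_9_1.all (chkClosedEntry Htab Hgens) = true := by decide +kernel
theorem k_Hc_1_9_2 : Hc_1_9_2.all (chkClosedEntry Htab Hgens) = true := by decide +kernel
theorem k_Hc_1_9_3 : Hc_1_9_3.all (chkClosedEntry Htab Hgens) = true := by decide +kernel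
theorem k_Hc_1_9_4 : Hc_1_9_4.all (chkClosedEntry Htab Hgens) = true := by decide +kernel

theorem chkH1 : allB Hblk1 (chkClosedEntry Htab Hgens) = true := by
  simp only [allB, Hblk1, List.all_cons, List.all_nil, Bool.and_true,
    k_Hc_1_0_0, k_Hc_1_0_1, k_Hc_1_0_2, k_Hc_1_0_3, k_Hc_1_0_4, k_Hc_1_0_5, k_Hc_1_0_6, k_Hc_1_0_7, k_Hc_1_0_8, k_Hc_1_0_9, k_Hc_1_0_10, k_Hc_1_0_11, k_Hc_1_0_12, k_Hc_1_0_13, k_Hc_1_0_14, k_Hc_1_0_15, k_Hc_1_1_0, k_Hc_1_1_1, k_Hc_1_1_2, k_Hc_1_1_3, k_Hc_1_1_4, k_Hc_1_1_5, k_Hc_1_1_6, k_Hc_1_1_7, k_Hc_1_1_8, k_Hc_1_1_9, k_Hc_1_1_10, k_Hc_1_1_11, k_Hc_1_1_12, k_Hc_1_1_13, k_Hc_1_1_14, k_Hc_1_1_15, k_Hc_1_2_0, k_Hc_1_2_1, k_Hc_1_2_2, k_Hc_1_2_3, k_Hc_1_2_4, k_Hc_1_2_5, k_Hc_1_2_6, k_Hc_1_2_7, k_Hc_1_2_8, k_Hc_1_2_9, k_Hc_1_2_10, k_Hc_1_2_11, k_Hc_1_2_12, k_Hc_1_2_13, k_Hc_1_2_14, k_Hc_1_2_15, k_Hc_1_3_0, k_Hc_1_3_1, k_Hc_1_3_2, k_Hc_1_3_3, k_Hc_1_3_4, k_Hc_1_3_5, k_Hc_1_3_6, k_Hc_1_3_7, k_Hc_1_3_8,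 k_Hc_1_3_9, k_Hc_1_3_10, k_Hc_1_3_11, k_Hc_1_3_12, k_Hc_1_3_13, k_Hc_1_3_14, k_Hc_1_3_15, k_Hc_1_4_0, k_Hc_1_4_1, k_Hc_1_4_2, k_Hc_1_4_3, k_Hc_1_4_4, k_Hc_1_4_5, k_Hc_1_4_6, k_Hc_1_4_7, k_Hc_1_4_8, k_Hc_1_4_9, k_Hc_1_4_10, k_Hc_1_4_11, k_Hc_1_4_12, k_Hc_1_4_13, k_Hc_1_4_14, k_Hc_1_4_15, k_Hc_1_5_0, k_Hc_1_5_1, k_Hc_1_5_2, k_Hc_1_5_3, k_Hc_1_5_4, k_Hc_1_5_5, k_Hc_1_5_6, k_Hc_1_5_7, k_Hc_1_5_8, k_Hc_1_5_9, k_Hc_1_5_10, k_Hc_1_5_11, k_Hc_1_5_12, k_Hc_1_5_13, k_Hc_1_5_14, k_Hc_1_5_15, k_Hc_1_6_0, k_Hc_1_6_1, k_Hc_1_6_2, k_Hc_1_6_3, k_Hc_1_6_4, k_Hc_1_6_5, k_Hc_1_6_6, k_Hc_1_6_7, k_Hc_1_6_8, k_Hc_1_6_9, k_Hc_1_6_10, k_Hc_1_6_11, k_Hc_1_6_12, k_Hc_1_6_13, k_Hc_1_6_14, k_Hc_1_6_15, k_Hc_1_7_0, k_Hc_1_7_1, k_Hc_1_7_2, k_Hc_1_7_3, k_Hc_1_7_4, k_Hc_1_7_5, k_Hc_1_7_6, k_Hc_1_7_7, k_Hc_1_7_8, k_Hc_1_7_9, k_Hc_1_7_10, k_Hc_1_7_11, k_Hc_1_7_12, k_Hc_1_7_13, k_Hc_1_7_14, k_Hc_1_7_15, k_Hc_1_8_0, k_Hc_1_8_1, k_Hc_1_8_2, k_Hc_1_8_3,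 k_Hc_1_8_4, k_Hc_1_8_5, k_Hc_1_8_6, k_Hc_1_8_7, k_Hc_1_8_8, k_Hc_1_8_9, k_Hc_1_8_10, k_Hc_1_8_11, k_Hc_1_8_12, k_Hc_1_8_13, k_Hc_1_8_14, k_Hc_1_8_15, k_Hc_1_9_0, k_Hc_1_9_1, k_Hc_1_9_2, k_Hc_1_9_3, k_Hc_1_9_4]

end Cfsg.Agent.Helper14.J3
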