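import Mathlib
import Cfsg.Agent.Helper14.J3T

set_option autoImplicit false

namespace Cfsg.Agent.Helper14.J3

theorem k_Rc_4_0_0 : Rc_4_0_0.all (chkCosetEntry Rtab Htab XYgens) = true := by decide +kernel
theorem k_Rc_4_0_1 : Rc_4_0_1.all (chkCosetEntry Rtab Htab XYgens) = true := by decide +kernel
theorem k_Rc_4_0_2 : Rc_4_0_2.all (chkCosetEntry Rtab Htab XYgens) = true := by decide +kernel
theorem k_Rc_4_0_3 : Rc_4_0_3.all (chkCosetEntry Rtab Htab XYgens) = true := by decide +kernel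
theorem k_Rc_4_0_4 : Rc_4_0_4.all (chkCosetEntry Rtab Htab XYgens) = true := by decide +kernel
theorem k_Rc_4_0_5 : Rc_4_0_5.all (chkCosetEntry Rtab Htab XYgens) = true := by decide +kernel
theorem k_Rc_4_0_6 : Rc_4_0_6.all (chkCosetEntry Rtab Htab XYgens) = true := by decide +kernel
theorem k_Rc_4_0_7 : Rc_4_0_7.all (chkCosetEntry Rtab Htab XYgens) = true := by decide +kernel
theorem k_Rc_4_0_8 : Rc_4_0_8.all (chkCosetEntry Rtab Htab XYgens) = true := by decide +kernel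
theorem k_Rc_4_0_9 : Rc_4_0_9.all (chkCosetEntry Rtab Htab XYgens) = true := by decide +kernel
theorem k_Rc_4_0_10 : Rc_4_0_10.all (chkCosetEntry Rtab Htab XYgens) = true := by decide +kernel
theorem k_Rc_4_0_11 : Rc_4_0_11.all (chkCosetEntry Rtab Htab XYgens) = true := by decide +kernel
theorem k_Rc_4_0_12 : Rc_4_0_12.all (chkCosetEntry Rtab Htab XYgens) = true := by decide +kernel
theorem k_Rc_4_0_13 : Rc_4_0_13.all (chkCosetEntry Rtab Htab XYgens) = true := by decide +kernel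
theorem k_Rc_4_0_14 : Rc_4_0_14.all (chkCosetEntry Rtab Htab XYgens) = true := by decide +kernel
theorem k_Rc_4_0_15 : Rc_4_0_15.all (chkCosetEntry Rtab Htab XYgens) = true := by decide +kernel
theorem k_Rc_4_1_0 : Rc_4_1_0.all (chkCosetEntry Rtab Htab XYgens) = true := by decide +kernel
theorem k_Rc_4_1_1 : Rc_4_1_1.all (chkCosetEntry Rtab Htab XYgens) = true := by decide +kernel
theorem k_Rc_4_1_2 : Rc_4_1_2.all (chkCosetEntry Rtab Htab XYgens) = true := by decide +kernel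
theorem k_Rc_4_1_3 : Rc_4_1_3.all (chkCosetEntry Rtab Htab XYgens) = true := by decide +kernel
theorem k_Rc_4_1_4 : Rc_4_1_4.all (chkCosetEntry Rtab Htab XYgens) = true := by decide +kernel
theorem k_Rc_4_1_5 : Rc_4_1_5.all (chkCosetEntry Rtab Htab XYgens) = true := by decide +kernel
theorem k_Rc_4_1_6 : Rc_4_1_6.all (chkCosetEntry Rtab Htab XYgens) = true := by decide +kernel
theorem k_Rc_4_1_7 : Rc_4_1_7.all (chkCosetEntry Rtab Htab XYgens) = true := by decide +kernel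
theorem k_Rc_4_1_8 : Rc_4_1_8.all (chkCosetEntry Rtab Htab XYgens) = true := by decide +kernel
theorem k_Rc_4_1_9 : Rc_4_1_9.all (chkCosetEntry Rtab Htab XYgens) = true := by decide +kernel
theorem k_Rc_4_1_10 : Rc_4_1_10.all (chkCosetEntry Rtab Htab XYgens) = true := by decide +kernel
theorem k_Rc_4_1_11 : Rc_4_1_11.all (chkCosetEntry Rtab Htab XYgens) = true := by decide +kernel
theorem k_Rc_4_1_12 : Rc_4_1_12.all (chkCosetEntry Rtab Htab XYgens) = true := by decide +kernel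
theorem k_Rc_4_1_13 : Rc_4_1_13.all (chkCosetEntry Rtab Htab XYgens) = true := by decide +kernel
theorem k_Rc_4_1_14 : Rc_4_1_14.all (chkCosetEntry Rtab Htab XYgens) = true := by decide +kernel
theorem k_Rc_4_1_15 : Rc_4_1_15.all (chkCosetEntry Rtab Htab XYgens) = true := by decide +kernel
theorem k_Rc_4_2_0 : Rc_4_2_0.all (chkCosetEntry Rtab Htab XYgens) = true := by decide +kernel
theorem k_Rc_4_2_1 : Rc_4_2_1.all (chkCosetEntry Rtab Htab XYgens) = true := by decide +kernel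
theorem k_Rc_4_2_2 : Rc_4_2_2.all (chkCosetEntry Rtab Htab XYgens) = true := by decide +kernel
theorem k_Rc_4_2_3 : Rc_4_2_3.all (chkCosetEntry Rtab Htab XYgens) = true := by decide +kernel
theorem k_Rc_4_2_4 : Rc_4_2_4.all (chkCosetEntry Rtab Htab XYgens) = true := by decide +kernel
theorem k_Rc_4_2_5 : Rc_4_2_5.all (chkCosetEntry Rtab Htab XYgens) = true := by decide +kernel
theorem k_Rc_4_2_6 : Rc_4_2_6.all (chkCosetEntry Rtab Htab XYgens) = true := by decide +kernel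
theorem k_Rc_4_2_7 : Rc_4_2_7.all (chkCosetEntry Rtab Htab XYgens) = true := by decide +kernel
theorem k_Rc_4_2_8 : Rc_4_2_8.all (chkCosetEntry Rtab Htab XYgens) = true := by decide +kernel
theorem k_Rc_4_2_9 : Rc_4_2_9.all (chkCosetEntry Rtab Htab XYgens) = true := by decide +kernel
theorem k_Rc_4_2_10 : Rc_4_2_10.all (chkCosetEntry Rtab Htab XYgens) = true := by decide +kernel
theorem k_Rc_4_2_11 : Rc_4_2_11.all (chkCosetEntry Rtab Htab XYgens) = true := by decide +kernel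
theorem k_Rc_4_2_12 : Rc_4_2_12.all (chkCosetEntry Rtab Htab XYgens) = true := by decide +kernel
theorem k_Rc_4_2_13 : Rc_4_2_13.all (chkCosetEntry Rtab Htab XYgens) = true := by decide +kernel
theorem k_Rc_4_2_14 : Rc_4_2_14.all (chkCosetEntry Rtab Htab XYgens) = true := by decide +kernel
theorem k_Rc_4_2_15 : Rc_4_2_15.all (chkCosetEntry Rtab Htab XYgens) = true := by decide +kernel
theorem k_Rc_4_3_0 : Rc_4_3_0.all (chkCosetEntry Rtab Htab XYgens) = true := by decide +kernel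
theorem k_Rc_4_3_1 : Rc_4_3_1.all (chkCosetEntry Rtab Htab XYgens) = true := by decide +kernel
theorem k_Rc_4_3_2 : Rc_4_3_2.all (chkCosetEntry Rtab Htab XYgens) = true := by decide +kernel
theorem k_Rc_4_3_3 : Rc_4_3_3.all (chkCosetEntry Rtab Htab XYgens) = true := by decide +kernel
theorem k_Rc_4_3_4 : Rc_4_3_4.all (chkCosetEntry Rtab Htab XYgens) = true := by decide +kernel
theorem k_Rc_4_3_5 : Rc_4_3_5.all (chkCosetEntry Rtab Htab XYgens) = true := by decide +kernel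
theorem k_Rc_4_3_6 : Rc_4_3_6.all (chkCosetEntry Rtab Htab XYgens) = true := by decide +kernel
theorem k_Rc_4_3_7 : Rc_4_3_7.all (chkCosetEntry Rtab Htab XYgens) = true := by decide +kernel
theorem k_Rc_4_3_8 : Rc_4_3_8.all (chkCosetEntry Rtab Htab XYgens) = true := by decide +kernel
theorem k_Rc_4_3_9 : Rc_4_3_9.all (chkCosetEntry Rtab Htab XYgens) = true := by decide +kernel
theorem k_Rc_4_3_10 : Rc_4_3_10.all (chkCosetEntry Rtab Htab XYgens) = true := by decide +kernel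
theorem k_Rc_4_3_11 : Rc_4_3_11.all (chkCosetEntry Rtab Htab XYgens) = true := by decide +kernel
theorem k_Rc_4_3_12 : Rc_4_3_12.all (chkCosetEntry Rtab Htab XYgens) = true := by decide +kernel
theorem k_Rc_4_3_13 : Rc_4_3_13.all (chkCosetEntry Rtab Htab XYgens) = true := by decide +kernel
theorem k_Rc_4_3_14 : Rc_4_3_14.all (chkCosetEntry Rtab Htab XYgens) = true := by decide +kernel
theorem k_Rc_4_3_15 : Rc_4_3_15.all (chkCosetEntry Rtab Htab XYgens) = true := by decide +kernel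
theorem k_Rc_4_4_0 : Rc_4_4_0.all (chkCosetEntry Rtab Htab XYgens) = true := by decide +kernel
theorem k_Rc_4_4_1 : Rc_4_4_1.all (chkCosetEntry Rtab Htab XYgens) = true := by decide +kernel
theorem k_Rc_4_4_2 : Rc_4_4_2.all (chkCosetEntry Rtab Htab XYgens) = true := by decide +kernel
theorem k_Rc_4_4_3 : Rc_4_4_3.all (chkCosetEntry Rtab Htab XYgens) = true := by decide +kernel
theorem k_Rc_4_4_4 : Rc_4_4_4.all (chkCosetEntry Rtab Htab XYgens) = true := by decide +kernel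
theorem k_Rc_4_4_5 : Rc_4_4_5.all (chkCosetEntry Rtab Htab XYgens) = true := by decide +kernel
theorem k_Rc_4_4_6 : Rc_4_4_6.all (chkCosetEntry Rtab Htab XYgens) = true := by decide +kernel
theorem k_Rc_4_4_7 : Rc_4_4_7.all (chkCosetEntry Rtab Htab XYgens) = true := by decide +kernel
theorem k_Rc_4_4_8 : Rc_4_4_8.all (chkCosetEntry Rtab Htab XYgens) = true := by decide +kernel
theorem k_Rc_4_4_9 : Rc_4_4_9.all (chkCosetEntry Rtab Htab XYgens) = true := by decide +kernel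
theorem k_Rc_4_4_10 : Rc_4_4_10.all (chkCosetEntry Rtab Htab XYgens) = true := by decide +kernel
theorem k_Rc_4_4_11 : Rc_4_4_11.all (chkCosetEntry Rtab Htab XYgens) = true := by decide +kernel
theorem k_Rc_4_4_12 : Rc_4_4_12.all (chkCosetEntry Rtab Htab XYgens) = true := by decide +kernel
theorem k_Rc_4_4_13 : Rc_4_4_13.all (chkCosetEntry Rtab Htab XYgens) = true := by decide +kernel
theorem k_Rc_4_4_14 : Rc_4_4_14.all (chkCosetEntry Rtab Htab XYgens) = true := by decide +kernel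
theorem k_Rc_4_4_15 : Rc_4_4_15.all (chkCosetEntry Rtab Htab XYgens) = true := by decide +kernel
theorem k_Rc_4_5_0 : Rc_4_5_0.all (chkCosetEntry Rtab Htab XYgens) = true := by decide +kernel
theorem k_Rc_4_5_1 : Rc_4_5_1.all (chkCosetEntry Rtab Htab XYgens) = true := by decide +kernel
theorem k_Rc_4_5_2 : Rc_4_5_2.all (chkCosetEntry Rtab Htab XYgens) = true := by decide +kernel
theorem k_Rc_4_5_3 : Rc_4_5_3.all (chkCosetEntry Rtab Htab XYgens) = true := by decide +kernel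
theorem k_Rc_4_5_4 : Rc_4_5_4.all (chkCosetEntry Rtab Htab XYgens) = true := by decide +kernel
theorem k_Rc_4_5_5 : Rc_4_5_5.all (chkCosetEntry Rtab Htab XYgens) = true := by decide +kernel
theorem k_Rc_4_5_6 : Rc_4_5_6.all (chkCosetEntry Rtab Htab XYgens) = true := by decide +kernel
theorem k_Rc_4_5_7 : Rc_4_5_7.all (chkCosetEntry Rtab Htab XYgens) = true := by decide +kernel
theorem k_Rc_4_5_8 : Rc_4_5_8.all (chkCosetEntry Rtab Htab XYgens) = true := by decide +kernel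
theorem k_Rc_4_5_9 : Rc_4_5_9.all (chkCosetEntry Rtab Htab XYgens) = true := by decide +kernel
theorem k_Rc_4_5_10 : Rc_4_5_10.all (chkCosetEntry Rtab Htab XYgens) = true := by decide +kernel
theorem k_Rc_4_5_11 : Rc_4_5_11.all (chkCosetEntry Rtab Htab XYgens) = true := by decide +kernel
theorem k_Rc_4_5_12 : Rc_4_5_12.all (chkCosetEntry Rtab Htab XYgens) = true := by decide +kernel
theorem k_Rc_4_5_13 : Rc_4_5_13.all (chkCosetEntry Rtab Htab XYgens) = true := by decide +kernel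
theorem k_Rc_4_5_14 : Rc_4_5_14.all (chkCosetEntry Rtab Htab XYgens) = true := by decide +kernel
theorem k_Rc_4_5_15 : Rc_4_5_15.all (chkCosetEntry Rtab Htab XYgens) = true := by decide +kernel
theorem k_Rc_4_6_0 : Rc_4_6_0.all (chkCosetEntry Rtab Htab XYgens) = true := by decide +kernel
theorem k_Rc_4_6_1 : Rc_4_6_1.all (chkCosetEntry Rtab Htab XYgens) = true := by decide +kernel
theorem k_Rc_4_6_2 : Rc_4_6_2.all (chkCosetEntry Rtab Htab XYgens) = true := by decide +kernel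
theorem k_Rc_4_6_3 : Rc_4_6_3.all (chkCosetEntry Rtab Htab XYgens) = true := by decide +kernel
theorem k_Rc_4_6_4 : Rc_4_6_4.all (chkCosetEntry Rtab Htab XYgens) = true := by decide +kernel
theorem k_Rc_4_6_5 : Rc_4_6_5.all (chkCosetEntry Rtab Htab XYgens) = true := by decide +kernel
theorem k_Rc_4_6_6 : Rc_4_6_6.all (chkCosetEntry Rtab Htab XYgens) = true := by decide +kernel
theorem k_Rc_4_6_7 : Rc_4_6_7.all (chkCosetEntry Rtab Htab XYgens) = true := by decide +kernel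
theorem k_Rc_4_6_8 : Rc_4_6_8.all (chkCosetEntry Rtab Htab XYgens) = true := by decide +kernel
theorem k_Rc_4_6_9 : Rc_4_6_9.all (chkCosetEntry Rtab Htab XYgens) = true := by decide +kernel
theorem k_Rc_4_6_10 : Rc_4_6_10.all (chkCosetEntry Rtab Htab XYgens) = true := by decide +kernel
theorem k_Rc_4_6_11 : Rc_4_6_11.all (chkCosetEntry Rtab Htab XYgens) = true := by decide +kernel
theorem k_Rc_4_6_12 : Rc_4_6_12.all (chkCosetEntry Rtab Htab XYgens) = true := by decide +kernel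
theorem k_Rc_4_6_13 : Rc_4_6_13.all (chkCosetEntry Rtab Htab XYgens) = true := by decide +kernel
theorem k_Rc_4_6_14 : Rc_4_6_14.all (chkCosetEntry Rtab Htab XYgens) = true := by decide +kernel
theorem k_Rc_4_6_15 : Rc_4_6_15.all (chkCosetEntry Rtab Htab XYgens) = true := by decide +kernel
theorem k_Rc_4_7_0 : Rc_4_7_0.all (chkCosetEntry Rtab Htab XYgens) = true := by decide +kernel
theorem k_Rc_4_7_1 : Rc_4_7_1.all (chkCosetEntry Rtab Htab XYgens) = true := by decide +kernel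
theorem k_Rc_4_7_2 : Rc_4_7_2.all (chkCosetEntry Rtab Htab XYgens) = true := by decide +kernel
theorem k_Rc_4_7_3 : Rc_4_7_3.all (chkCosetEntry Rtab Htab XYgens) = true := by decide +kernel
theorem k_Rc_4_7_4 : Rc_4_7_4.all (chkCosetEntry Rtab Htab XYgens) = true := by decide +kernel
theorem k_Rc_4_7_5 : Rc_4_7_5.all (chkCosetEntry Rtab Htab XYgens) = true := by decide +kernel
theorem k_Rc_4_7_6 : Rc_4_7_6.all (chkCosetEntry Rtab Htab XYgens) = true := by decide +kernel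
theorem k_Rc_4_7_7 : Rc_4_7_7.all (chkCosetEntry Rtab Htab XYgens) = true := by decide +kernel
theorem k_Rc_4_7_8 : Rc_4_7_8.all (chkCosetEntry Rtab Htab XYgens) = true := by decide +kernel
theorem k_Rc_4_7_9 : Rc_4_7_9.all (chkCosetEntry Rtab Htab XYgens) = true := by decide +kernel
theorem k_Rc_4_7_10 : Rc_4_7_10.all (chkCosetEntry Rtab Htab XYgens) = true := by decide +kernel
theorem k_Rc_4_7_11 : Rc_4_7_11.all (chkCosetEntry Rtab Htab XYgens) = true := by decide +kernel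
theorem k_Rc_4_7_12 : Rc_4_7_12.all (chkCosetEntry Rtab Htab XYgens) = true := by decide +kernel
theorem k_Rc_4_7_13 : Rc_4_7_13.all (chkCosetEntry Rtab Htab XYgens) = true := by decide +kernel
theorem k_Rc_4_7_14 : Rc_4_7_14.all (chkCosetEntry Rtab Htab XYgens) = true := by decide +kernel
theorem k_Rc_4_7_15 : Rc_4_7_15.all (chkCosetEntry Rtab Htab XYgens) = true := by decide +kernel
theorem k_Rc_4_8_0 : Rc_4_8_0.all (chkCosetEntry Rtab Htab XYgens) = true := by decide +kernel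
theorem k_Rc_4_8_1 : Rc_4_8_1.all (chkCosetEntry Rtab Htab XYgens) = true := by decide +kernel
theorem k_Rc_4_8_2 : Rc_4_8_2.all (chkCosetEntry Rtab Htab XYgens) = true := by decide +kernel
theorem k_Rc_4_8_3 : Rc_4_8_3.all (chkCosetEntry Rtab Htab XYgens) = true := by decide +kernel
theorem k_Rc_4_8_4 : Rc_4_8_4.all (chkCosetEntry Rtab Htab XYgens) = true := by decide +kernel
theorem k_Rc_4_8_5 : Rc_4_8_5.all (chkCosetEntry Rtab Htab XYgens) = true := by decide +kernel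
theorem k_Rc_4_8_6 : Rc_4_8_6.all (chkCosetEntry Rtab Htab XYgens) = true := by decide +kernel
theorem k_Rc_4_8_7 : Rc_4_8_7.all (chkCosetEntry Rtab Htab XYgens) = true := by decide +kernel
theorem k_Rc_4_8_8 : Rc_4_8_8.all (chkCosetEntry Rtab Htab XYgens) = true := by decide +kernel
theorem k_Rc_4_8_9 : Rc_4_8_9.all (chkCosetEntry Rtab Htab XYgens) = true := by decide +kernel
theorem k_Rc_4_8_10 : Rc_4_8_10.all (chkCosetEntry Rtab Htab XYgens) = true := by decide +kernel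
theorem k_Rc_4_8_11 : Rc_4_8_11.all (chkCosetEntry Rtab Htab XYgens) = true := by decide +kernel
theorem k_Rc_4_8_12 : Rc_4_8_12.all (chkCosetEntry Rtab Htab XYgens) = true := by decide +kernel
theorem k_Rc_4_8_13 : Rc_4_8_13.all (chkCosetEntry Rtab Htab XYgens) = true := by decide +kernel
theorem k_Rc_4_8_14 : Rc_4_8_14.all (chkCosetEntry Rtab Htab XYgens) = true := by decide +kernel
theorem k_Rc_4_8_15 : Rc_4_8_15.all (chkCosetEntry Rtab Htab XYgens) = true := by decide +kernel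
theorem k_Rc_4_9_0 : Rc_4_9_0.all (chkCosetEntry Rtab Htab XYgens) = true := by decide +kernel
theorem k_Rc_4_9_1 : Rc_4_9_1.all (chkCosetEntry Rtab Htab XYgens) = true := by decide +kernel
theorem k_Rc_4_9_2 : Rc_4_9_2.all (chkCosetEntry Rtab Htab XYgens) = true := by decide +kernel
theorem k_Rc_4_9_3 : Rc_4_9_3.all (chkCosetEntry Rtab Htab XYgens) = true := by decide +kernel
theorem k_Rc_4_9_4 : Rc_4_9_4.all (chkCosetEntry Rtab Htab XYgens) = true := by decide +kernel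
theorem k_Rc_4_9_5 : Rc_4_9_5.all (chkCosetEntry Rtab Htab XYgens) = true := by decide +kernel
theorem k_Rc_4_9_6 : Rc_4_9_6.all (chkCosetEntry Rtab Htab XYgens) = true := by decide +kernel
theorem k_Rc_4_9_7 : Rc_4_9_7.all (chkCosetEntry Rtab Htab XYgens) = true := by decide +kernel
theorem k_Rc_4_9_8 : Rc_4_9_8.all (chkCosetEntry Rtab Htab XYgens) = true := by decide +kernel
theorem k_Rc_4_9_9 : Rc_4_9_9.all (chkCosetEntry Rtab Htab XYgens) = true := by decide +kernel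
theorem k_Rc_4_9_10 : Rc_4_9_10.all (chkCosetEntry Rtab Htab XYgens) = true := by decide +kernel
theorem k_Rc_4_9_11 : Rc_4_9_11.all (chkCosetEntry Rtab Htab XYgens) = true := by decide +kernel
theorem k_Rc_4_9_12 : Rc_4_9_12.all (chkCosetEntry Rtab Htab XYgens) = true := by decide +kernel
theorem k_Rc_4_9_13 : Rc_4_9_13.all (chkCosetEntry Rtab Htab XYgens) = true := by decide +kernel
theorem k_Rc_4_9_14 : Rc_4_9_14.all (chkCosetEntry Rtab Htab XYgens) = true := by decide +kernel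
theorem k_Rc_4_9_15 : Rc_4_9_15.all (chkCosetEntry Rtab Htab XYgens) = true := by decide +kernel
theorem k_Rc_4_10_0 : Rc_4_10_0.all (chkCosetEntry Rtab Htab XYgens) = true := by decide +kernel
theorem k_Rc_4_10_1 : Rc_4_10_1.all (chkCosetEntry Rtab Htab XYgens) = true := by decide +kernel
theorem k_Rc_4_10_2 : Rc_4_10_2.all (chkCosetEntry Rtab Htab XYgens) = true := by decide +kernel
theorem k_Rc_4_10_3 : Rc_4_10_3.all (chkCosetEntry Rtab Htab XYgens) = true := by decide +kernel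
theorem k_Rc_4_10_4 : Rc_4_10_4.all (chkCosetEntry Rtab Htab XYgens) = true := by decide +kernel
theorem k_Rc_4_10_5 : Rc_4_10_5.all (chkCosetEntry Rtab Htab XYgens) = true := by decide +kernel
theorem k_Rc_4_10_6 : Rc_4_10_6.all (chkCosetEntry Rtab Htab XYgens) = true := by decide +kernel
theorem k_Rc_4_10_7 : Rc_4_10_7.all (chkCosetEntry Rtab Htab XYgens) = true := by decide +kernel
theorem k_Rc_4_10_8 : Rc_4_10_8.all (chkCosetEntry Rtab Htab XYgens) = true := by decide +kernel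
theorem k_Rc_4_10_9 : Rc_4_10_9.all (chkCosetEntry Rtab Htab XYgens) = true := by decide +kernel
theorem k_Rc_4_10_10 : Rc_4_10_10.all (chkCosetEntry Rtab Htab XYgens) = true := by decide +kernel
theorem k_Rc_4_10_11 : Rc_4_10_11.all (chkCosetEntry Rtab Htab XYgens) = true := by decide +kernel
theorem k_Rc_4_10_12 : Rc_4_10_12.all (chkCosetEntry Rtab Htab XYgens) = true := by decide +kernel
theorem k_Rc_4_10_13 : Rc_4_10_13.all (chkCosetEntry Rtab Htab XYgens) = true := by decide +kernel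
theorem k_Rc_4_10_14 : Rc_4_10_14.all (chkCosetEntry Rtab Htab XYgens) = true := by decide +kernel
theorem k_Rc_4_10_15 : Rc_4_10_15.all (chkCosetEntry Rtab Htab XYgens) = true := by decide +kernel
theorem k_Rc_4_11_0 : Rc_4_11_0.all (chkCosetEntry Rtab Htab XYgens) = true := by decide +kernel
theorem k_Rc_4_11_1 : Rc_4_11_1.all (chkCosetEntry Rtab Htab XYgens) = true := by decide +kernel
theorem k_Rc_4_11_2 : Rc_4_11_2.all (chkCosetEntry Rtab Htab XYgens) = true := by decide +kernel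
theorem k_Rc_4_11_3 : Rc_4_11_3.all (chkCosetEntry Rtab Htab XYgens) = true := by decide +kernel
theorem k_Rc_4_11_4 : Rc_4_11_4.all (chkCosetEntry Rtab Htab XYgens) = true := by decide +kernel
theorem k_Rc_4_11_5 : Rc_4_11_5.all (chkCosetEntry Rtab Htab XYgens) = true := by decide +kernel
theorem k_Rc_4_11_6 : Rc_4_11_6.all (chkCosetEntry Rtab Htab XYgens) = true := by decide +kernel
theorem k_Rc_4_11_7 : Rc_4_11_7.all (chkCosetEntry Rtab Htab XYgens) = true := by decide +kernel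
theorem k_Rc_4_11_8 : Rc_4_11_8.all (chkCosetEntry Rtab Htab XYgens) = true := by decide +kernel
theorem k_Rc_4_11_9 : Rc_4_11_9.all (chkCosetEntry Rtab Htab XYgens) = true := by decide +kernel
theorem k_Rc_4_11_10 : Rc_4_11_10.all (chkCosetEntry Rtab Htab XYgens) = true := by decide +kernel
theorem k_Rc_4_11_11 : Rc_4_11_11.all (chkCosetEntry Rtab Htab XYgens) = true := by decide +kernel
theorem k_Rc_4_11_12 : Rc_4_11_12.all (chkCosetEntry Rtab Htab XYgens) = true := by decide +kernel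
theorem k_Rc_4_11_13 : Rc_4_11_13.all (chkCosetEntry Rtab Htab XYgens) = true := by decide +kernel
theorem k_Rc_4_11_14 : Rc_4_11_14.all (chkCosetEntry Rtab Htab XYgens) = true := by decide +kernel
theorem k_Rc_4_11_15 : Rc_4_11_15.all (chkCosetEntry Rtab Htab XYgens) = true := by decide +kernel
theorem k_Rc_4_12_0 : Rc_4_12_0.all (chkCosetEntry Rtab Htab XYgens) = true := by decide +kernel
theorem k_Rc_4_12_1 : Rc_4_12_1.all (chkCosetEntry Rtab Htab XYgens) = true := by decide +kernel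
theorem k_Rc_4_12_2 : Rc_4_12_2.all (chkCosetEntry Rtab Htab XYgens) = true := by decide +kernel
theorem k_Rc_4_12_3 : Rc_4_12_3.all (chkCosetEntry Rtab Htab XYgens) = true := by decide +kernel
theorem k_Rc_4_12_4 : Rc_4_12_4.all (chkCosetEntry Rtab Htab XYgens) = true := by decide +kernel
theorem k_Rc_4_12_5 : Rc_4_12_5.all (chkCosetEntry Rtab Htab XYgens) = true := by decide +kernel
theorem k_Rc_4_12_6 : Rc_4_12_6.all (chkCosetEntry Rtab Htab XYgens) = true := by decide +kernel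
theorem k_Rc_4_12_7 : Rc_4_12_7.all (chkCosetEntry Rtab Htab XYgens) = true := by decide +kernel
theorem k_Rc_4_12_8 : Rc_4_12_8.all (chkCosetEntry Rtab Htab XYgens) = true := by decide +kernel
theorem k_Rc_4_12_9 : Rc_4_12_9.all (chkCosetEntry Rtab Htab XYgens) = true := by decide +kernel
theorem k_Rc_4_12_10 : Rc_4_12_10.all (chkCosetEntry Rtab Htab XYgens) = true := by decide +kernel
theorem k_Rc_4_12_11 : Rc_4_12_11.all (chkCosetEntry Rtab Htab XYgens) = true := by decide +kernel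
theorem k_Rc_4_12_12 : Rc_4_12_12.all (chkCosetEntry Rtab Htab XYgens) = true := by decide +kernel
theorem k_Rc_4_12_13 : Rc_4_12_13.all (chkCosetEntry Rtab Htab XYgens) = true := by decide +kernel
theorem k_Rc_4_12_14 : Rc_4_12_14.all (chkCosetEntry Rtab Htab XYgens) = true := by decide +kernel
theorem k_Rc_4_12_15 : Rc_4_12_15.all (chkCosetEntry Rtab Htab XYgens) = true := by decide +kernel
theorem k_Rc_4_13_0 : Rc_4_13_0.all (chkCosetEntry Rtab Htab XYgens) = true := by decide +kernel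
theorem k_Rc_4_13_1 : Rc_4_13_1.all (chkCosetEntry Rtab Htab XYgens) = true := by decide +kernel
theorem k_Rc_4_13_2 : Rc_4_13_2.all (chkCosetEntry Rtab Htab XYgens) = true := by decide +kernel
theorem k_Rc_4_13_3 : Rc_4_13_3.all (chkCosetEntry Rtab Htab XYgens) = true := by decide +kernel
theorem k_Rc_4_13_4 : Rc_4_13_4.all (chkCosetEntry Rtab Htab XYgens) = true := by decide +kernel
theorem k_Rc_4_13_5 : Rc_4_13_5.all (chkCosetEntry Rtab Htab XYgens) = true := by decide +kernel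
theorem k_Rc_4_13_6 : Rc_4_13_6.all (chkCosetEntry Rtab Htab XYgens) = true := by decide +kernel
theorem k_Rc_4_13_7 : Rc_4_13_7.all (chkCosetEntry Rtab Htab XYgens) = true := by decide +kernel
theorem k_Rc_4_13_8 : Rc_4_13_8.all (chkCosetEntry Rtab Htab XYgens) = true := by decide +kernel
theorem k_Rc_4_13_9 : Rc_4_13_9.all (chkCosetEntry Rtab Htab XYgens) = true := by decide +kernel
theorem k_Rc_4_13_10 : Rc_4_13_10.all (chkCosetEntry Rtab Htab XYgens) = true := by decide +kernel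
theorem k_Rc_4_13_11 : Rc_4_13_11.all (chkCosetEntry Rtab Htab XYgens) = true := by decide +kernel
theorem k_Rc_4_13_12 : Rc_4_13_12.all (chkCosetEntry Rtab Htab XYgens) = true := by decide +kernel
theorem k_Rc_4_13_13 : Rc_4_13_13.all (chkCosetEntry Rtab Htab XYgens) = true := by decide +kernel
theorem k_Rc_4_13_14 : Rc_4_13_14.all (chkCosetEntry Rtab Htab XYgens) = true := by decide +kernel
theorem k_Rc_4_13_15 : Rc_4_13_15.all (chkCosetEntry Rtab Htab XYgens) = true := by decide +kernel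
theorem k_Rc_4_14_0 : Rc_4_14_0.all (chkCosetEntry Rtab Htab XYgens) = true := by decide +kernel
theorem k_Rc_4_14_1 : Rc_4_14_1.all (chkCosetEntry Rtab Htab XYgens) = true := by decide +kernel
theorem k_Rc_4_14_2 : Rc_4_14_2.all (chkCosetEntry Rtab Htab XYgens) = true := by decide +kernel
theorem k_Rc_4_14_3 : Rc_4_14_3.all (chkCosetEntry Rtab Htab XYgens) = true := by decide +kernel
theorem k_Rc_4_14_4 : Rc_4_14_4.all (chkCosetEntry Rtab Htab XYgens) = true := by decide +kernel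
theorem k_Rc_4_14_5 : Rc_4_14_5.all (chkCosetEntry Rtab Htab XYgens) = true := by decide +kernel
theorem k_Rc_4_14_6 : Rc_4_14_6.all (chkCosetEntry Rtab Htab XYgens) = true := by decide +kernel
theorem k_Rc_4_14_7 : Rc_4_14_7.all (chkCosetEntry Rtab Htab XYgens) = true := by decide +kernel
theorem k_Rc_4_14_8 : Rc_4_14_8.all (chkCosetEntry Rtab Htab XYgens) = true := by decide +kernel
theorem k_Rc_4_14_9 : Rc_4_14_9.all (chkCosetEntry Rtab Htab XYgens) = true := by decide +kernel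
theorem k_Rc_4_14_10 : Rc_4_14_10.all (chkCosetEntry Rtab Htab XYgens) = true := by decide +kernel
theorem k_Rc_4_14_11 : Rc_4_14_11.all (chkCosetEntry Rtab Htab XYgens) = true := by decide +kernel
theorem k_Rc_4_14_12 : Rc_4_14_12.all (chkCosetEntry Rtab Htab XYgens) = true := by decide +kernel
theorem k_Rc_4_14_13 : Rc_4_14_13.all (chkCosetEntry Rtab Htab XYgens) = true := by decide +kernel
theorem k_Rc_4_14_14 : Rc_4_14_14.all (chkCosetEntry Rtab Htab XYgens) = true := by decide +kernel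
theorem k_Rc_4_14_15 : Rc_4_14_15.all (chkCosetEntry Rtab Htab XYgens) = true := by decide +kernel
theorem k_Rc_4_15_0 : Rc_4_15_0.all (chkCosetEntry Rtab Htab XYgens) = true := by decide +kernel
theorem k_Rc_4_15_1 : Rc_4_15_1.all (chkCosetEntry Rtab Htab XYgens) = true := by decide +kernel
theorem k_Rc_4_15_2 : Rc_4_15_2.all (chkCosetEntry Rtab Htab XYgens) = true := by decide +kernel
theorem k_Rc_4_15_3 : Rc_4_15_3.all (chkCosetEntry Rtab Htab XYgens) = true := by decide +kernel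
theorem k_Rc_4_15_4 : Rc_4_15_4.all (chkCosetEntry Rtab Htab XYgens) = true := by decide +kernel
theorem k_Rc_4_15_5 : Rc_4_15_5.all (chkCosetEntry Rtab Htab XYgens) = true := by decide +kernel
theorem k_Rc_4_15_6 : Rc_4_15_6.all (chkCosetEntry Rtab Htab XYgens) = true := by decide +kernel
theorem k_Rc_4_15_7 : Rc_4_15_7.all (chkCosetEntry Rtab Htab XYgens) = true := by decide +kernel
theorem k_Rc_4_15_8 : Rc_4_15_8.all (chkCosetEntry Rtab Htab XYgens) = true := by decide +kernel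
theorem k_Rc_4_15_9 : Rc_4_15_9.all (chkCosetEntry Rtab Htab XYgens) = true := by decide +kernel
theorem k_Rc_4_15_10 : Rc_4_15_10.all (chkCosetEntry Rtab Htab XYgens) = true := by decide +kernel
theorem k_Rc_4_15_11 : Rc_4_15_11.all (chkCosetEntry Rtab Htab XYgens) = true := by decide +kernel
theorem k_Rc_4_15_12 : Rc_4_15_12.all (chkCosetEntry Rtab Htab XYgens) = true := by decide +kernel
theorem k_Rc_4_15_13 : Rc_4_15_13.all (chkCosetEntry Rtab Htab XYgens) = true := by decide +kernel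
theorem k_Rc_4_15_14 : Rc_4_15_14.all (chkCosetEntry Rtab Htab XYgens) = true := by decide +kernel
theorem k_Rc_4_15_15 : Rc_4_15_15.all (chkCosetEntry Rtab Htab XYgens) = true := by decide +kernel

theorem chkR4 : allB Rblk4 (chkCosetEntry Rtab Htab XYgens) = true := by
  simp only [allB, Rblk4, List.all_cons, List.all_nil, Bool.and_true,
    k_Rc_4_0_0, k_Rc_4_0_1, k_Rc_4_0_2, k_Rc_4_0_3, k_Rc_4_0_4, k_Rc_4_0_5, k_Rc_4_0_6, k_Rc_4_0_7, k_Rc_4_0_8, k_Rc_4_0_9, k_Rc_4_0_10, k_Rc_4_0_11, k_Rc_4_0_12, k_Rc_4_0_13, k_Rc_4_0_14, k_Rc_4_0_15, k_Rc_4_1_0, k_Rc_4_1_1, k_Rc_4_1_2, k_Rc_4_1_3, k_Rc_4_1_4, k_Rc_4_1_5, k_Rc_4_1_6, k_Rc_4_1_7, k_Rc_4_1_8, k_Rc_4_1_9, k_Rc_4_1_10, k_Rc_4_1_11, k_Rc_4_1_12, k_Rc_4_1_13, k_Rc_4_1_14, k_Rc_4_1_15, k_Rc_4_2_0, k_Rc_4_2_1, k_Rc_4_2_2, k_Rc_4_2_3, k_Rc_4_2_4, k_Rc_4_2_5, k_Rc_4_2_6, k_Rc_4_2_7, k_Rc_4_2_8, k_Rc_4_2_9, k_Rc_4_2_10, k_Rc_4_2_11, k_Rc_4_2_12, k_Rc_4_2_13, k_Rc_4_2_14,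 k_Rc_4_2_15, k_Rc_4_3_0, k_Rc_4_3_1, k_Rc_4_3_2, k_Rc_4_3_3, k_Rc_4_3_4, k_Rc_4_3_5, k_Rc_4_3_6, k_Rc_4_3_7, k_Rc_4_3_8, k_Rc_4_3_9, k_Rc_4_3_10, k_Rc_4_3_11, k_Rc_4_3_12, k_Rc_4_3_13, k_Rc_4_3_14, k_Rc_4_3_15, k_Rc_4_4_0, k_Rc_4_4_1, k_Rc_4_4_2, k_Rc_4_4_3, k_Rc_4_4_4, k_Rc_4_4_5, k_Rc_4_4_6, k_Rc_4_4_7, k_Rc_4_4_8, k_Rc_4_4_9, k_Rc_4_4_10, k_Rc_4_4_11, k_Rc_4_4_12, k_Rc_4_4_13, k_Rc_4_4_14, k_Rc_4_4_15, k_Rc_4_5_0, k_Rc_4_5_1, k_Rc_4_5_2, k_Rc_4_5_3, k_Rc_4_5_4, k_Rc_4_5_5, k_Rc_4_5_6, k_Rc_4_5_7, k_Rc_4_5_8, k_Rc_4_5_9, k_Rc_4_5_10, k_Rc_4_5_11, k_Rc_4_5_12, k_Rc_4_5_13, k_Rc_4_5_14, k_Rc_4_5_15, k_Rc_4_6_0, k_Rc_4_6_1, k_Rc_4_6_2, k_Rc_4_6_3, k_Rc_4_6_4, k_Rc_4_6_5, k_Rc_4_6_6, k_Rc_4_6_7, k_Rc_4_6_8, k_Rc_4_6_9, k_Rc_4_6_10, k_Rc_4_6_11, k_Rc_4_6_12, k_Rc_4_6_13, k_Rc_4_6_14, k_Rc_4_6_15, k_Rc_4_7_0, k_Rc_4_7_1, k_Rc_4_7_2, k_Rc_4_7_3, k_Rc_4_7_4, k_Rc_4_7_5, k_Rc_4_7_6, k_Rc_4_7_7, k_Rc_4_7_8, k_Rc_4_7_9,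 k_Rc_4_7_10, k_Rc_4_7_11, k_Rc_4_7_12, k_Rc_4_7_13, k_Rc_4_7_14, k_Rc_4_7_15, k_Rc_4_8_0, k_Rc_4_8_1, k_Rc_4_8_2, k_Rc_4_8_3, k_Rc_4_8_4, k_Rc_4_8_5, k_Rc_4_8_6, k_Rc_4_8_7, k_Rc_4_8_8, k_Rc_4_8_9, k_Rc_4_8_10, k_Rc_4_8_11, k_Rc_4_8_12, k_Rc_4_8_13, k_Rc_4_8_14, k_Rc_4_8_15, k_Rc_4_9_0, k_Rc_4_9_1, k_Rc_4_9_2, k_Rc_4_9_3, k_Rc_4_9_4, k_Rc_4_9_5, k_Rc_4_9_6, k_Rc_4_9_7, k_Rc_4_9_8, k_Rc_4_9_9, k_Rc_4_9_10, k_Rc_4_9_11, k_Rc_4_9_12, k_Rc_4_9_13, k_Rc_4_9_14, k_Rc_4_9_15, k_Rc_4_10_0, k_Rc_4_10_1, k_Rc_4_10_2, k_Rc_4_10_3, k_Rc_4_10_4, k_Rc_4_10_5, k_Rc_4_10_6, k_Rc_4_10_7, k_Rc_4_10_8, k_Rc_4_10_9, k_Rc_4_10_10, k_Rc_4_10_11, k_Rc_4_10_12, k_Rc_4_10_13, k_Rc_4_10_14, k_Rc_4_10_15, k_Rc_4_11_0, k_Rc_4_11_1, k_Rc_4_11_2, k_Rc_4_11_3, k_Rc_4_11_4, k_Rc_4_11_5, k_Rc_4_11_6, k_Rc_4_11_7, k_Rc_4_11_8, k_Rc_4_11_9, k_Rc_4_11_10, k_Rc_4_11_11, k_Rc_4_11_12, k_Rc_4_11_13, k_Rc_4_11_14, k_Rc_4_11_15, k_Rc_4_12_0, k_Rc_4_12_1,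 k_Rc_4_12_2, k_Rc_4_12_3, k_Rc_4_12_4, k_Rc_4_12_5, k_Rc_4_12_6, k_Rc_4_12_7, k_Rc_4_12_8, k_Rc_4_12_9, k_Rc_4_12_10, k_Rc_4_12_11, k_Rc_4_12_12, k_Rc_4_12_13, k_Rc_4_12_14, k_Rc_4_12_15, k_Rc_4_13_0, k_Rc_4_13_1, k_Rc_4_13_2, k_Rc_4_13_3, k_Rc_4_13_4, k_Rc_4_13_5, k_Rc_4_13_6, k_Rc_4_13_7, k_Rc_4_13_8, k_Rc_4_13_9, k_Rc_4_13_10, k_Rc_4_13_11, k_Rc_4_13_12, k_Rc_4_13_13, k_Rc_4_13_14, k_Rc_4_13_15, k_Rc_4_14_0, k_Rc_4_14_1, k_Rc_4_14_2, k_Rc_4_14_3, k_Rc_4_14_4, k_Rc_4_14_5, k_Rc_4_14_6, k_Rc_4_14_7, k_Rc_4_14_8, k_Rc_4_14_9, k_Rc_4_14_10, k_Rc_4_14_11, k_Rc_4_14_12, k_Rc_4_14_13, k_Rc_4_14_14, k_Rc_4_14_15, k_Rc_4_15_0, k_Rc_4_15_1, k_Rc_4_15_2, k_Rc_4_15_3, k_Rc_4_15_4, k_Rc_4_15_5, k_Rc_4_15_6, k_Rc_4_15_7, k_Rc_4_15_8, k_Rc_4_15_9, k_Rc_4_15_10, k_Rc_4_15_11, k_Rc_4_15_12, k_Rc_4_15_13, k_Rc_4_15_14, k_Rc_4_15_15]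

end Cfsg.Agent.Helper14.J3
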