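import Mathlib
import Cfsg.Agent.Helper14.J3P

set_option autoImplicit false

namespace Cfsg.Agent.Helper14.J3

set_option maxRecDepth 100000 in
theorem HgenXY_eq : HgenXY.map (evG XYgens) = Hgens := by decide +kernel

theorem P2dec_eq : decRH P2dec = P2gens := by decide +kernel

theorem baseDec_eq : decRH baseDec = baseCodes := by decide +kernel

theorem letters_take : letters.take 7 = baseCodes := by decide +kernel

theorem P3gens_eq : P3gens = letters.take 5 := by decide +kernel

theorem letters_inv : ((List.range 7).all fun a =>
    mul4 (letters.getD a ONE) (letters.getD (a + 7) ONE) == ONE &&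
    mul4 (letters.getD (a + 7) ONE) (letters.getD a ONE) == ONE) = true := by decide +kernel

theorem letters_length : letters.length = 14 := by decide +kernel

theorem XYc_eq : XYgens = [Xc, Yc] := by decide +kernel

set_option maxRecDepth 100000 in
theorem g5_eq : evL w5 = g5 := by decide +kernel

set_option maxRecDepth 100000 in
theorem g17_eq : evL w17 = g17 := by decide +kernel

set_option maxRecDepth 100000 in
theorem g19_eq : evL w19 = g19 := by decide +kernel

theorem g5_pow : (pow5 g5 == ONE && !(g5 == ONE)) = true := by decide +kernel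

theorem g17_pow : (pow17 g17 == ONE && !(g17 == ONE)) = true := by decide +kernel

theorem g19_pow : (pow19 g19 == ONE && !(g19 == ONE)) = true := by decide +kernel

theorem cert5 : certOK pow19 g5 c5 = true := by decide +kernel

theorem cert17 : certOK pow19 g17 c17 = true := by decide +kernel

theorem cert19a : certOK pow17 g19 c19a = true := by decide +kernel

theorem cert19b : certOK pow5 g19 c19b = true := by decide +kernel

theorem relX : sq Xc = ONE := by decide +kernel

theorem relY : pow9 Yc = ONE := by decide +kernel

theorem relXY : pow19 (mul4 Xc (sq (sq Yc))) = Z1 := by decide +kernel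

theorem relZ : mul4 (mul4 (letters.getD 0 ONE) (letters.getD 3 ONE)) (mul4 (letters.getD 7 ONE) (letters.getD 10 ONE)) = Z1 := by decide +kernel

theorem Z2_eq : mul4 Z1 Z1 = Z2 := by decide +kernel

theorem Z3_eq : mul4 Z1 Z2 = ONE := by decide +kernel

theorem Z1_comm : (letters.all fun l => mul4 Z1 l == mul4 l Z1) = true := by decide +kernel

theorem Z_ne : (Z1 != ONE && Z2 != ONE && Z1 != Z2) = true := by decide +kernel

theorem Z_lt : Z1 < 2 ^ 162 ∧ Z2 < 2 ^ 162 ∧ ONE < 2 ^ 162 := by decide +kernel

theorem lenR : (flatT Rtab).length = 23256 := by decide +kernel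

theorem lenH : (flatT Htab).length = 6480 := by decide +kernel

theorem rootR_mem : ∃ e ∈ Rc_0_0_0, codeOf e = ONE := by decide +kernel

theorem rootH_mem : ∃ e ∈ Hc_0_0_0, codeOf e = ONE := by decide +kernel

theorem rootP2_mem : ∃ e ∈ P2c_0_0_0, codeOf e = ONE := by decide +kernel

theorem rootP3_mem : ∃ e ∈ P3c_0_0_0, codeOf e = ONE := by decide +kernel


end Cfsg.Agent.Helper14.J3
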