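import Mathlib
import Cfsg.Agent.Helper14.J3T

/-!
# Words, conjugates and powers of coded matrices
-/

set_option autoImplicit false

namespace Cfsg.Agent.Helper14.J3

/-- words in a list of generators -/
def evG (gs : List Nat) : List Nat → Nat
  | [] => ONE
  | a :: w => mul4 (gs.getD a ONE) (evG gs w)

/-- the index of the inverse letter -/
def invL (a : Nat) : Nat := if a < 7 then a + 7 else if a < 14 then a - 7 else a

/-- the inverse word -/
def invW (w : List Nat) : List Nat := (w.map invL).reverse

/-- the conjugate of `u` by the word `y` -/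
def conjW (y : List Nat) (u : Nat) : Nat := mul4 (evL y) (mul4 u (evL (invW y)))

/-- a product of conjugates of `u` -/
def prodConj (u : Nat) : List (List Nat) → Nat
  | [] => ONE
  | y :: ys => mul4 (conjW y u) (prodConj u ys)

def sq (c : Nat) : Nat := force c fun c' => mul4 c' c'

def pow3 (c : Nat) : Nat := force c fun c' => mul4 c' (mul4 c' c')

def pow5 (c : Nat) : Nat := force c fun c' => mul4 (sq (sq c')) c'

def pow9 (c : Nat) : Nat := force c fun c' => mul4 (sq (sq (sq c'))) c'

def pow17 (c : Nat) : Nat := force c fun c' => mul4 (sq (sq (sq (sq c')))) c'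

def pow19 (c : Nat) : Nat :=
  force c fun c' => force (sq c') fun c2 => mul4 (sq (sq (sq c2))) (mul4 c2 c')

/-- the cube of a product of conjugates of `u` has order `p` -/
def certOK (p : Nat → Nat) (u : Nat) (ys : List (List Nat)) : Bool :=
  force (pow3 (prodConj u ys)) fun W => (p W == ONE) && !(W == ONE)

/-- every entry of the list is exempt or has a certificate -/
def allCert (p : Nat → Nat) (skip : Nat → Bool) : List Nat → List (List (List Nat)) → Bool
  | [], _ => true
  | _ :: _, [] => false
  | e :: es, c :: cs => (skip (codeOf e) || certOK p (codeOf e) c) && allCert p skip es cs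

theorem allCert_mem (p : Nat → Nat) (skip : Nat → Bool) :
    ∀ (es : List Nat) (cs : List (List (List Nat))), allCert p skip es cs = true →
      ∀ e ∈ es, skip (codeOf e) = true ∨ ∃ ys, certOK p (codeOf e) ys = true := by
  intro es
  induction es with
  | nil => intro cs _ e he; simp at he
  | cons a es ih =>
    intro cs h e he
    cases cs with
    | nil => simp [allCert] at h
    | cons c cs =>
      rw [allCert, Bool.and_eq_true, Bool.or_eq_true] at h
      rcases List.mem_cons.1 he with rfl | he'
      · rcases h.1 with h1 | h1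
        · left; exact h1
        · right; exact ⟨c, h1⟩
      · exact ih cs h.2 e he'

theorem evG_lt (gs : List Nat) (w : List Nat) : evG gs w < 2 ^ 162 := by
  cases w with
  | nil => unfold evG; decide
  | cons a w => unfold evG; exact mul4_lt _ _

theorem sq_eq (c : Nat) : sq c = mul4 c c := by simp only [sq, force_eq]

theorem pow3_eq (c : Nat) : pow3 c = mul4 c (mul4 c c) := by simp only [pow3, force_eq]

theorem pow5_eq (c : Nat) : pow5 c = mul4 (sq (sq c)) c := by simp only [pow5, force_eq]

theorem pow9_eq (c : Nat) : pow9 c = mul4 (sq (sq (sq c))) c := by simp only [pow9, force_eq]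

theorem pow17_eq (c : Nat) : pow17 c = mul4 (sq (sq (sq (sq c)))) c := by
  simp only [pow17, force_eq]

theorem pow19_eq (c : Nat) : pow19 c = mul4 (sq (sq (sq (sq c)))) (mul4 (sq c) c) := by
  simp only [pow19, force_eq]

theorem certOK_eq (p : Nat → Nat) (u : Nat) (ys : List (List Nat)) :
    certOK p u ys = ((p (pow3 (prodConj u ys)) == ONE) && !(pow3 (prodConj u ys) == ONE)) := by
  simp only [certOK, force_eq]

theorem pow3_lt (c : Nat) : pow3 c < 2 ^ 162 := by rw [pow3_eq]; exact mul4_lt _ _

section generic

variable {M : Type*} [Monoid M] (dec : Nat → M)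
variable (hmul : ∀ a b, dec (mul4 a b) = dec a * dec b) (hone : dec ONE = 1)

include hmul in
theorem dec_sq (c : Nat) : dec (sq c) = dec c ^ 2 := by
  rw [sq_eq, hmul, pow_two]

include hmul in
theorem dec_pow3 (c : Nat) : dec (pow3 c) = dec c ^ 3 := by
  rw [pow3_eq, hmul, hmul, pow_succ, pow_two, mul_assoc]

include hmul in
theorem dec_pow5 (c : Nat) : dec (pow5 c) = dec c ^ 5 := by
  rw [pow5_eq, hmul, dec_sq dec hmul, dec_sq dec hmul, ← pow_mul, ← pow_succ]

include hmul in
theorem dec_pow9 (c : Nat) : dec (pow9 c) = dec c ^ 9 := by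
  rw [pow9_eq, hmul, dec_sq dec hmul, dec_sq dec hmul, dec_sq dec hmul, ← pow_mul, ← pow_mul,
    ← pow_succ]

include hmul in
theorem dec_pow17 (c : Nat) : dec (pow17 c) = dec c ^ 17 := by
  rw [pow17_eq, hmul, dec_sq dec hmul, dec_sq dec hmul, dec_sq dec hmul, dec_sq dec hmul,
    ← pow_mul, ← pow_mul, ← pow_mul, ← pow_succ]

include hmul in
theorem dec_pow19 (c : Nat) : dec (pow19 c) = dec c ^ 19 := by
  rw [pow19_eq, hmul, hmul, dec_sq dec hmul, dec_sq dec hmul, dec_sq dec hmul, dec_sq dec hmul,
    ← pow_mul, ← pow_mul, ← pow_mul, ← pow_succ, ← pow_add]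

include hmul hone in
theorem dec_evG_mem (gs : List Nat) (w : List Nat) :
    dec (evG gs w) ∈ Submonoid.closure (setOfL dec gs) := by
  induction w with
  | nil => unfold evG; rw [hone]; exact Submonoid.one_mem _
  | cons a w ih =>
    unfold evG
    rw [hmul]
    exact Submonoid.mul_mem _ (dec_getD_mem dec hone gs a) ih

include hmul hone in
/-- a submonoid containing the letters contains all words -/
theorem dec_evL_mem (S : Submonoid M) (h : ∀ a, dec (letters.getD a ONE) ∈ S) (w : List Nat) :
    dec (evL w) ∈ S := by
  induction w with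
  | nil => unfold evL; rw [hone]; exact S.one_mem
  | cons a w ih =>
    unfold evL
    rw [hmul]
    exact S.mul_mem (h a) ih

end generic

end Cfsg.Agent.Helper14.J3
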