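import Mathlib
import Cfsg.Agent.Helper14.J3W
import Cfsg.Agent.Helper14.J3P
import Cfsg.Agent.Helper14.J3PK1
import Cfsg.Agent.Helper14.J3KH0
import Cfsg.Agent.Helper14.J3KH1
import Cfsg.Agent.Helper14.J3KR0
import Cfsg.Agent.Helper14.J3KR1
import Cfsg.Agent.Helper14.J3KR2
import Cfsg.Agent.Helper14.J3KR3
import Cfsg.Agent.Helper14.J3KR4
import Cfsg.Agent.Helper14.J3KR5

/-!
# The triple cover of the third Janko group: the upper bound for the order
-/

set_option autoImplicit false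

namespace Cfsg.Agent.Helper14.J3

open Cfsg Cfsg.Spor
open scoped MatrixGroups

theorem memT_of_mem_chunk {T : Tab} {B : List (List (List Nat))} {p : List (List Nat)}
    {c : List Nat} {e : Nat} (hB : B ∈ T) (hp : p ∈ B) (hc : c ∈ p) (he : e ∈ c) : memT T e :=
  ⟨B, hB, p, hp, c, hc, he⟩

theorem closedH : ∀ e, memT Htab e → chkClosedEntry Htab Hgens e = true := by
  rintro e ⟨B, hB, p, hp, c, hc, he⟩
  simp only [Htab, List.mem_cons, List.not_mem_nil, or_false] at hB
  rcases hB with rfl | rfl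
  · exact allB_of_mem chkH0 hp hc he
  · exact allB_of_mem chkH1 hp hc he

theorem cosetR : ∀ e, memT Rtab e → chkCosetEntry Rtab Htab XYgens e = true := by
  rintro e ⟨B, hB, p, hp, c, hc, he⟩
  simp only [Rtab, List.mem_cons, List.not_mem_nil, or_false] at hB
  rcases hB with rfl | rfl | rfl | rfl | rfl | rfl
  · exact allB_of_mem chkR0 hp hc he
  · exact allB_of_mem chkR1 hp hc he
  · exact allB_of_mem chkR2 hp hc he
  · exact allB_of_mem chkR3 hp hc he
  · exact allB_of_mem chkR4 hp hc he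
  · exact allB_of_mem chkR5 hp hc he

theorem mem_tab_of_chunk0 {T : Tab} {B : List (List (List Nat))} {p : List (List Nat)}
    {c : List Nat} {e : Nat} (hT : T.head? = some B) (hB : B.head? = some p) (hp : p.head? = some c)
    (he : e ∈ c) : memT T e :=
  ⟨B, List.mem_of_mem_head? hT, p, List.mem_of_mem_head? hB, c, List.mem_of_mem_head? hp, he⟩

theorem rootR : ∃ e, memT Rtab e ∧ codeOf e = ONE := by
  obtain ⟨e, he, h⟩ := rootR_mem
  exact ⟨e, mem_tab_of_chunk0 (T := Rtab) (B := Rblk0) rfl (p := Rblk0.headD []) rfl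
    (c := Rc_0_0_0) rfl he, h⟩

theorem rootH : ∃ e, memT Htab e ∧ codeOf e = ONE := by
  obtain ⟨e, he, h⟩ := rootH_mem
  exact ⟨e, mem_tab_of_chunk0 (T := Htab) (B := Hblk0) rfl (p := Hblk0.headD []) rfl
    (c := Hc_0_0_0) rfl he, h⟩

theorem rootP2 : ∃ e, memT P2tab e ∧ codeOf e = ONE := by
  obtain ⟨e, he, h⟩ := rootP2_mem
  exact ⟨e, mem_tab_of_chunk0 (T := P2tab) (B := P2blk0) rfl (p := P2blk0.headD []) rfl
    (c := P2c_0_0_0) rfl he, h⟩

theorem rootP3 : ∃ e, memT P3tab e ∧ codeOf e = ONE := by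
  obtain ⟨e, he, h⟩ := rootP3_mem
  exact ⟨e, mem_tab_of_chunk0 (T := P3tab) (B := P3blk0) rfl (p := P3blk0.headD []) rfl
    (c := P3c_0_0_0) rfl he, h⟩

theorem evW_eq (w : List Nat) : evW w = evG baseCodes w := by
  induction w with
  | nil => rfl
  | cons a w ih => unfold evW evG; rw [ih]

theorem evL_eq (w : List Nat) : evL w = evG letters w := by
  induction w with
  | nil => rfl
  | cons a w ih => unfold evL evG; rw [ih]

theorem genTable_A : ∀ Z : F9, ∃ t ∈ genTable, t.1 = cA Z := by decide +kernel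

theorem genTable_E : ∀ Z : F9, ∃ t ∈ genTable, t.1 = cE Z := by decide +kernel

theorem genTable_D : ∀ Z : F9, ∃ t ∈ genTable, t.1 = cD Z := by decide +kernel

theorem genTable_B : ∀ Z : F9, Z ≠ 0 → ∃ t ∈ genTable, t.1 = cB Z := by decide +kernel

theorem genTable_C : ∀ Z : F9, Z ≠ 0 → ∃ t ∈ genTable, t.1 = cC Z := by decide +kernel

theorem base_codes :
    letters.getD 0 ONE = cA (1, 0) ∧ letters.getD 1 ONE = cA (0, 1) ∧ letters.getD 2 ONE = cE (0, 0) ∧
    letters.getD 3 ONE = cD (1, 0) ∧ letters.getD 4 ONE = cD (0, 1) ∧ letters.getD 5 ONE = cB (1, 1) ∧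
    letters.getD 6 ONE = cC (1, 0) := by decide +kernel

/-- counting the products of the elements of two tables -/
theorem card_le_of_mem_mul {M : Type*} [Monoid M] (dec : Nat → M) (T1 T2 : Tab) {G : Type*}
    (val : G → M) (hval : Function.Injective val)
    (h : ∀ g : G, ∃ r ∈ setOfT dec T1, ∃ k ∈ setOfT dec T2, val g = r * k) :
    Nat.card G ≤ (flatT T1).length * (flatT T2).length := by
  have key : ∀ g : G, ∃ p : ℕ × ℕ, p ∈ (flatT T1).toFinset ×ˢ (flatT T2).toFinset ∧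
      val g = dec (codeOf p.1) * dec (codeOf p.2) := by
    intro g
    obtain ⟨_, ⟨e, he, rfl⟩, _, ⟨k, hk, rfl⟩, hg⟩ := h g
    exact ⟨(e, k), Finset.mem_product.2 ⟨List.mem_toFinset.2 ((memT_iff _ _).1 he),
      List.mem_toFinset.2 ((memT_iff _ _).1 hk)⟩, hg⟩
  choose f hf using key
  have hinj : Function.Injective
      (fun g : G => (⟨f g, (hf g).1⟩ : ↥((flatT T1).toFinset ×ˢ (flatT T2).toFinset))) := by
    intro g g' hgg
    have h1 : f g = f g' := congrArg Subtype.val hgg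
    apply hval
    rw [(hf g).2, (hf g').2, h1]
  have h2 := Nat.card_le_card_of_injective _ hinj
  have h5 : Nat.card ↥((flatT T1).toFinset ×ˢ (flatT T2).toFinset) =
      (flatT T1).toFinset.card * (flatT T2).toFinset.card := by
    rw [Nat.card_eq_fintype_card, Fintype.card_coe, Finset.card_product]
  rw [h5] at h2
  exact h2.trans (Nat.mul_le_mul (List.toFinset_card_le _) (List.toFinset_card_le _))

section field

variable {F : Type*} [Field F] [CharP F 2] (ω : F) (hω : ω * ω = ω + 1)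

/-- the matrices of the elements of the group -/
def Gm : Submonoid (Matrix F9 F9 F) :=
  Submonoid.map (Units.coeHom (Matrix F9 F9 F)) (threeJ3 F ω).toSubmonoid

omit [CharP F 2] in
theorem mem_Gm {m : Matrix F9 F9 F} :
    m ∈ Gm ω ↔ ∃ g : GL F9 F, g ∈ threeJ3 F ω ∧ (g : Matrix F9 F9 F) = m := by
  unfold Gm
  rw [Submonoid.mem_map]
  constructor
  · rintro ⟨g, hg, rfl⟩; exact ⟨g, hg, rfl⟩
  · rintro ⟨g, hg, rfl⟩; exact ⟨g, hg, rfl⟩

include hω in
theorem table_mem_closure (m : Matrix F9 F9 F) (hm : m ∈ j3Gens F ω) :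
    m ∈ Submonoid.closure (setOfL (toMat F ω) baseCodes) := by
  have key : ∀ c : Nat, (∃ t ∈ genTable, t.1 = c) →
      toMat F ω c ∈ Submonoid.closure (setOfL (toMat F ω) baseCodes) := by
    rintro c ⟨t, ht, rfl⟩
    have h := genCheck_eq
    unfold genCheck at h
    rw [List.all_eq_true] at h
    have h1 := eq_of_beq (h t ht)
    rw [← h1, evW_eq]
    exact dec_evG_mem (toMat F ω) (toMat_mul4 F ω hω) (toMat_ONE F ω) _ _
  unfold j3Gens at hm
  rcases hm with (((⟨Z, rfl⟩ | ⟨Z, rfl⟩) | ⟨Z, rfl⟩) | ⟨Z, hZ, rfl⟩) | ⟨Z, hZ, rfl⟩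
  · rw [j3A_eq F ω hω]; exact key _ (genTable_A Z)
  · rw [j3E_eq F ω hω]; exact key _ (genTable_E Z)
  · rw [j3D_eq F ω hω]; exact key _ (genTable_D Z)
  · rw [j3B_eq F ω Z hZ]; exact key _ (genTable_B Z hZ)
  · rw [j3C_eq F ω Z hZ]; exact key _ (genTable_C Z hZ)

include hω in
theorem base_mem_gens (i : Nat) (hi : i < 7) : toMat F ω (letters.getD i ONE) ∈ j3Gens F ω := by
  obtain ⟨h0, h1, h2, h3, h4, h5, h6⟩ := base_codes
  unfold j3Gens
  interval_cases i
  · rw [h0, ← j3A_eq F ω hω]; exact Or.inl (Or.inl (Or.inl (Or.inl ⟨_, rfl⟩)))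
  · rw [h1, ← j3A_eq F ω hω]; exact Or.inl (Or.inl (Or.inl (Or.inl ⟨_, rfl⟩)))
  · rw [h2, ← j3E_eq F ω hω]; exact Or.inl (Or.inl (Or.inl (Or.inr ⟨_, rfl⟩)))
  · rw [h3, ← j3D_eq F ω hω]; exact Or.inl (Or.inl (Or.inr ⟨_, rfl⟩))
  · rw [h4, ← j3D_eq F ω hω]; exact Or.inl (Or.inl (Or.inr ⟨_, rfl⟩))
  · rw [h5, ← j3B_eq F ω (1, 1) (by decide)]; exact Or.inl (Or.inr ⟨_, by decide, rfl⟩)
  · rw [h6, ← j3C_eq F ω (1, 0) (by decide)]; exact Or.inr ⟨_, by decide, rfl⟩

theorem letters_inv' (i : Nat) (hi : i < 7) :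
    mul4 (letters.getD i ONE) (letters.getD (i + 7) ONE) = ONE ∧
    mul4 (letters.getD (i + 7) ONE) (letters.getD i ONE) = ONE := by
  have h := letters_inv
  rw [List.all_eq_true] at h
  have h1 := h i (List.mem_range.2 hi)
  rw [Bool.and_eq_true] at h1
  exact ⟨eq_of_beq h1.1, eq_of_beq h1.2⟩

include hω in
/-- the base generators as elements of the group -/
theorem exists_base_unit (i : Nat) (hi : i < 7) :
    ∃ u : GL F9 F, u ∈ threeJ3 F ω ∧ (u : Matrix F9 F9 F) = toMat F ω (letters.getD i ONE) ∧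
      ((u⁻¹ : GL F9 F) : Matrix F9 F9 F) = toMat F ω (letters.getD (i + 7) ONE) := by
  obtain ⟨h1, h2⟩ := letters_inv' i hi
  refine ⟨⟨toMat F ω (letters.getD i ONE), toMat F ω (letters.getD (i + 7) ONE), ?_, ?_⟩, ?_, rfl, rfl⟩
  · rw [← toMat_mul4 F ω hω, h1, toMat_ONE]
  · rw [← toMat_mul4 F ω hω, h2, toMat_ONE]
  · apply Subgroup.subset_closure
    exact base_mem_gens ω hω i hi

include hω in
theorem letter_mem (a : Nat) : toMat F ω (letters.getD a ONE) ∈ Gm ω := by
  rw [mem_Gm]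
  by_cases h7 : a < 7
  · obtain ⟨u, hu, h1, _⟩ := exists_base_unit ω hω a h7
    exact ⟨u, hu, h1⟩
  · by_cases h14 : a < 14
    · obtain ⟨u, hu, _, h2⟩ := exists_base_unit ω hω (a - 7) (by omega)
      refine ⟨u⁻¹, inv_mem hu, ?_⟩
      rw [h2]
      congr 2
      omega
    · refine ⟨1, one_mem _, ?_⟩
      rw [List.getD_eq_default _ _ (by rw [letters_length]; omega), toMat_ONE]
      rfl

include hω in
theorem evL_mem (w : List Nat) : toMat F ω (evL w) ∈ Gm ω :=
  dec_evL_mem (toMat F ω) (toMat_mul4 F ω hω) (toMat_ONE F ω) _ (letter_mem ω hω) w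

/-- the submonoid generated by the two generators `x`, `y` -/
def Sxy : Submonoid (Matrix F9 F9 F) := Submonoid.closure (setOfL (toMat F ω) XYgens)

include hω in
theorem setOfL_le_Gm (gs : List Nat) (ws : List (List Nat)) (h : ws.map evL = gs) :
    Submonoid.closure (setOfL (toMat F ω) gs) ≤ Gm ω := by
  rw [Submonoid.closure_le]
  rintro _ ⟨g, hg, rfl⟩
  rw [← h, List.mem_map] at hg
  obtain ⟨w, _, rfl⟩ := hg
  exact evL_mem ω hω w

include hω in
theorem Sxy_le_Gm : Sxy ω ≤ Gm ω := setOfL_le_Gm ω hω XYgens XYwords XYgens_eq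

include hω in
theorem Rtab_mem_Sxy (j : Nat) : toMat F ω (codeOf (getT Rtab j)) ∈ Sxy ω := by
  rcases getT_mem_or Rtab j with h | h
  · exact mem_closure_of_treeOK (toMat F ω) (toMat_mul4 F ω hω) (toMat_ONE F ω)
      (fun e he => treeOK_of_coset (cosetR e he)) _ _ h rfl
  · rw [h, codeOf_ONE, toMat_ONE]; exact Submonoid.one_mem _

include hω in
theorem Hgens_le_Sxy : Submonoid.closure (setOfL (toMat F ω) Hgens) ≤ Sxy ω := by
  rw [Submonoid.closure_le]
  rintro _ ⟨g, hg, rfl⟩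
  rw [← HgenXY_eq, List.mem_map] at hg
  obtain ⟨w, _, rfl⟩ := hg
  exact dec_evG_mem (toMat F ω) (toMat_mul4 F ω hω) (toMat_ONE F ω) _ _

include hω in
theorem Htab_mem_Sxy (j : Nat) : toMat F ω (codeOf (getT Htab j)) ∈ Sxy ω := by
  rcases getT_mem_or Htab j with h | h
  · apply Hgens_le_Sxy ω hω
    exact mem_closure_of_treeOK (toMat F ω) (toMat_mul4 F ω hω) (toMat_ONE F ω)
      (fun e he => treeOK_of_closed (closedH e he)) _ _ h rfl
  · rw [h, codeOf_ONE, toMat_ONE]; exact Submonoid.one_mem _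

include hω in
theorem decRH_mem_Sxy (l : List (Nat × Nat)) : ∀ c ∈ decRH l, toMat F ω c ∈ Sxy ω := by
  intro c hc
  unfold decRH at hc
  rw [List.mem_map] at hc
  obtain ⟨p, _, rfl⟩ := hc
  rw [toMat_mul4 F ω hω]
  exact Submonoid.mul_mem _ (Rtab_mem_Sxy ω hω _) (Htab_mem_Sxy ω hω _)

include hω in
theorem base_le_Sxy : Submonoid.closure (setOfL (toMat F ω) baseCodes) ≤ Sxy ω := by
  rw [Submonoid.closure_le]
  rintro _ ⟨g, hg, rfl⟩
  rw [← baseDec_eq] at hg
  exact decRH_mem_Sxy ω hω _ _ hg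

include hω in
/-- the matrices of the group are products of the two generators -/
theorem Gm_le_Sxy [Finite F] : Gm ω ≤ Sxy ω := by
  intro m hm
  rw [mem_Gm] at hm
  obtain ⟨g, hg, rfl⟩ := hm
  have hg' : g ∈ Submonoid.closure {g : GL F9 F | (g : Matrix F9 F9 F) ∈ j3Gens F ω} := by
    rw [← Subgroup.closure_toSubmonoid_of_finite]
    exact hg
  clear hg
  induction hg' using Submonoid.closure_induction with
  | mem y hy => exact base_le_Sxy ω hω (table_mem_closure ω hω _ hy)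
  | one => exact Submonoid.one_mem _
  | mul a b _ _ iha ihb =>
    rw [Units.val_mul]
    exact Submonoid.mul_mem _ iha ihb

include hω in
theorem Gm_eq_Sxy [Finite F] : Gm ω = Sxy ω := le_antisymm (Gm_le_Sxy ω hω) (Sxy_le_Gm ω hω)

include hω in
theorem Htab_mul : ∀ a ∈ setOfT (toMat F ω) Htab, ∀ b ∈ setOfT (toMat F ω) Htab,
    a * b ∈ setOfT (toMat F ω) Htab := by
  rw [setOfT_eq_closure (toMat F ω) (toMat_mul4 F ω hω) (toMat_ONE F ω) closedH rootH]
  intro a ha b hb
  exact Submonoid.mul_mem _ ha hb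

include hω in
/-- every element of the group is (a coset representative) times (an element of the line stabiliser) -/
theorem mem_mul [Finite F] (g : GL F9 F) (hg : g ∈ threeJ3 F ω) :
    ∃ r ∈ setOfT (toMat F ω) Rtab, ∃ k ∈ setOfT (toMat F ω) Htab,
      (g : Matrix F9 F9 F) = r * k := by
  have h1 : (g : Matrix F9 F9 F) ∈ Sxy ω := Gm_le_Sxy ω hω ((mem_Gm ω).2 ⟨g, hg, rfl⟩)
  exact closure_subset_coset (toMat F ω) (toMat_mul4 F ω hω) (toMat_ONE F ω) cosetR rootR rootH
    (Htab_mul ω hω) _ h1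

include hω in
theorem card_le [Finite F] : Nat.card (threeJ3 F ω) ≤ 150698880 := by
  have h := card_le_of_mem_mul (toMat F ω) Rtab Htab
    (fun g : threeJ3 F ω => ((g : GL F9 F) : Matrix F9 F9 F))
    (fun g g' h => Subtype.ext (Units.ext h)) (fun g => mem_mul ω hω g.1 g.2)
  rw [lenR, lenH] at h
  exact h

end field

end Cfsg.Agent.Helper14.J3
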