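import Mathlib
import Cfsg.Agent.Helper14.J3P

set_option autoImplicit false

namespace Cfsg.Agent.Helper14.J3

theorem k_P2c_0_0_0 : P2c_0_0_0.all (chkClosedEntry P2tab P2gens) = true := by decide +kernel
theorem k_P2c_0_0_1 : P2c_0_0_1.all (chkClosedEntry P2tab P2gens) = true := by decide +kernel
theorem k_P2c_0_0_2 : P2c_0_0_2.all (chkClosedEntry P2tab P2gens) = true := by decide +kernel
theorem k_P2c_0_0_3 : P2c_0_0_3.all (chkClosedEntry P2tab P2gens) = true := by decide +kernel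
theorem k_P2c_0_0_4 : P2c_0_0_4.all (chkClosedEntry P2tab P2gens) = true := by decide +kernel
theorem k_P2c_0_0_5 : P2c_0_0_5.all (chkClosedEntry P2tab P2gens) = true := by decide +kernel
theorem k_P2c_0_0_6 : P2c_0_0_6.all (chkClosedEntry P2tab P2gens) = true := by decide +kernel
theorem k_P2c_0_0_7 : P2c_0_0_7.all (chkClosedEntry P2tab P2gens) = true := by decide +kernel

theorem chkP2 : allB P2blk0 (chkClosedEntry P2tab P2gens) = true := by
  simp only [allB, P2blk0, List.all_cons, List.all_nil, Bool.and_true,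
    k_P2c_0_0_0, k_P2c_0_0_1, k_P2c_0_0_2, k_P2c_0_0_3, k_P2c_0_0_4, k_P2c_0_0_5, k_P2c_0_0_6, k_P2c_0_0_7]

theorem incP2 : incCodes (flatT P2tab) = true := by decide +kernel

theorem lenP2 : (flatT P2tab).length = 128 := by decide +kernel

theorem k_P3c_0_0_0 : P3c_0_0_0.all (chkClosedEntry P3tab P3gens) = true := by decide +kernel
theorem k_P3c_0_0_1 : P3c_0_0_1.all (chkClosedEntry P3tab P3gens) = true := by decide +kernel
theorem k_P3c_0_0_2 : P3c_0_0_2.all (chkClosedEntry P3tab P3gens) = true := by decide +kernel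
theorem k_P3c_0_0_3 : P3c_0_0_3.all (chkClosedEntry P3tab P3gens) = true := by decide +kernel
theorem k_P3c_0_0_4 : P3c_0_0_4.all (chkClosedEntry P3tab P3gens) = true := by decide +kernel
theorem k_P3c_0_0_5 : P3c_0_0_5.all (chkClosedEntry P3tab P3gens) = true := by decide +kernel
theorem k_P3c_0_0_6 : P3c_0_0_6.all (chkClosedEntry P3tab P3gens) = true := by decide +kernel
theorem k_P3c_0_0_7 : P3c_0_0_7.all (chkClosedEntry P3tab P3gens) = true := by decide +kernel
theorem k_P3c_0_0_8 : P3c_0_0_8.all (chkClosedEntry P3tab P3gens) = true := by decide +kernel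
theorem k_P3c_0_0_9 : P3c_0_0_9.all (chkClosedEntry P3tab P3gens) = true := by decide +kernel
theorem k_P3c_0_0_10 : P3c_0_0_10.all (chkClosedEntry P3tab P3gens) = true := by decide +kernel
theorem k_P3c_0_0_11 : P3c_0_0_11.all (chkClosedEntry P3tab P3gens) = true := by decide +kernel
theorem k_P3c_0_0_12 : P3c_0_0_12.all (chkClosedEntry P3tab P3gens) = true := by decide +kernel
theorem k_P3c_0_0_13 : P3c_0_0_13.all (chkClosedEntry P3tab P3gens) = true := by decide +kernel
theorem k_P3c_0_0_14 : P3c_0_0_14.all (chkClosedEntry P3tab P3gens) = true := by decide +kernel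
theorem k_P3c_0_0_15 : P3c_0_0_15.all (chkClosedEntry P3tab P3gens) = true := by decide +kernel
theorem k_P3c_0_1_0 : P3c_0_1_0.all (chkClosedEntry P3tab P3gens) = true := by decide +kernel
theorem k_P3c_0_1_1 : P3c_0_1_1.all (chkClosedEntry P3tab P3gens) = true := by decide +kernel
theorem k_P3c_0_1_2 : P3c_0_1_2.all (chkClosedEntry P3tab P3gens) = true := by decide +kernel
theorem k_P3c_0_1_3 : P3c_0_1_3.all (chkClosedEntry P3tab P3gens) = true := by decide +kernel
theorem k_P3c_0_1_4 : P3c_0_1_4.all (chkClosedEntry P3tab P3gens) = true := by decide +kernel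
theorem k_P3c_0_1_5 : P3c_0_1_5.all (chkClosedEntry P3tab P3gens) = true := by decide +kernel
theorem k_P3c_0_1_6 : P3c_0_1_6.all (chkClosedEntry P3tab P3gens) = true := by decide +kernel
theorem k_P3c_0_1_7 : P3c_0_1_7.all (chkClosedEntry P3tab P3gens) = true := by decide +kernel
theorem k_P3c_0_1_8 : P3c_0_1_8.all (chkClosedEntry P3tab P3gens) = true := by decide +kernel
theorem k_P3c_0_1_9 : P3c_0_1_9.all (chkClosedEntry P3tab P3gens) = true := by decide +kernel
theorem k_P3c_0_1_10 : P3c_0_1_10.all (chkClosedEntry P3tab P3gens) = true := by decide +kernel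
theorem k_P3c_0_1_11 : P3c_0_1_11.all (chkClosedEntry P3tab P3gens) = true := by decide +kernel
theorem k_P3c_0_1_12 : P3c_0_1_12.all (chkClosedEntry P3tab P3gens) = true := by decide +kernel
theorem k_P3c_0_1_13 : P3c_0_1_13.all (chkClosedEntry P3tab P3gens) = true := by decide +kernel
theorem k_P3c_0_1_14 : P3c_0_1_14.all (chkClosedEntry P3tab P3gens) = true := by decide +kernel
theorem k_P3c_0_1_15 : P3c_0_1_15.all (chkClosedEntry P3tab P3gens) = true := by decide +kernel
theorem k_P3c_0_2_0 : P3c_0_2_0.all (chkClosedEntry P3tab P3gens) = true := by decide +kernel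
theorem k_P3c_0_2_1 : P3c_0_2_1.all (chkClosedEntry P3tab P3gens) = true := by decide +kernel
theorem k_P3c_0_2_2 : P3c_0_2_2.all (chkClosedEntry P3tab P3gens) = true := by decide +kernel
theorem k_P3c_0_2_3 : P3c_0_2_3.all (chkClosedEntry P3tab P3gens) = true := by decide +kernel
theorem k_P3c_0_2_4 : P3c_0_2_4.all (chkClosedEntry P3tab P3gens) = true := by decide +kernel
theorem k_P3c_0_2_5 : P3c_0_2_5.all (chkClosedEntry P3tab P3gens) = true := by decide +kernel
theorem k_P3c_0_2_6 : P3c_0_2_6.all (chkClosedEntry P3tab P3gens) = true := by decide +kernel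
theorem k_P3c_0_2_7 : P3c_0_2_7.all (chkClosedEntry P3tab P3gens) = true := by decide +kernel
theorem k_P3c_0_2_8 : P3c_0_2_8.all (chkClosedEntry P3tab P3gens) = true := by decide +kernel
theorem k_P3c_0_2_9 : P3c_0_2_9.all (chkClosedEntry P3tab P3gens) = true := by decide +kernel
theorem k_P3c_0_2_10 : P3c_0_2_10.all (chkClosedEntry P3tab P3gens) = true := by decide +kernel
theorem k_P3c_0_2_11 : P3c_0_2_11.all (chkClosedEntry P3tab P3gens) = true := by decide +kernel
theorem k_P3c_0_2_12 : P3c_0_2_12.all (chkClosedEntry P3tab P3gens) = true := by decide +kernel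
theorem k_P3c_0_2_13 : P3c_0_2_13.all (chkClosedEntry P3tab P3gens) = true := by decide +kernel

theorem chkP3 : allB P3blk0 (chkClosedEntry P3tab P3gens) = true := by
  simp only [allB, P3blk0, List.all_cons, List.all_nil, Bool.and_true,
    k_P3c_0_0_0, k_P3c_0_0_1, k_P3c_0_0_2, k_P3c_0_0_3, k_P3c_0_0_4, k_P3c_0_0_5, k_P3c_0_0_6, k_P3c_0_0_7, k_P3c_0_0_8, k_P3c_0_0_9, k_P3c_0_0_10, k_P3c_0_0_11, k_P3c_0_0_12, k_P3c_0_0_13, k_P3c_0_0_14, k_P3c_0_0_15, k_P3c_0_1_0, k_P3c_0_1_1, k_P3c_0_1_2, k_P3c_0_1_3, k_P3c_0_1_4, k_P3c_0_1_5, k_P3c_0_1_6, k_P3c_0_1_7, k_P3c_0_1_8, k_P3c_0_1_9, k_P3c_0_1_10, k_P3c_0_1_11, k_P3c_0_1_12, k_P3c_0_1_13, k_P3c_0_1_14, k_P3c_0_1_15, k_P3c_0_2_0, k_P3c_0_2_1, k_P3c_0_2_2, k_P3c_0_2_3, k_P3c_0_2_4, k_P3c_0_2_5, k_P3c_0_2_6, k_P3c_0_2_7, k_P3c_0_2_8, k_P3c_0_2_9, k_P3c_0_2_10, k_P3c_0_2_11, k_P3c_0_2_12, k_P3c_0_2_13]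

theorem incP3 : incCodes (flatT P3tab) = true := by decide +kernel

theorem lenP3 : (flatT P3tab).length = 729 := by decide +kernel


end Cfsg.Agent.Helper14.J3
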