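import Mathlib
import Cfsg.Agent.Helper14.J3G
import Cfsg.Agent.Helper14.J3PK2

/-!
# The triple cover of the third Janko group: Sylow subgroups and the order
-/

set_option autoImplicit false
set_option linter.unusedSectionVars false

namespace Cfsg.Agent.Helper14.J3

open Cfsg Cfsg.Spor
open scoped MatrixGroups

theorem pairwise_of_incCodes : ∀ l : List Nat, incCodes l = true →
    l.Pairwise (fun a b => codeOf a < codeOf b) := by
  intro l
  induction l with
  | nil => intro _; exact List.Pairwise.nil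
  | cons a l ih =>
    intro h
    rcases l with _ | ⟨b, l⟩
    · exact List.pairwise_singleton _ _
    · unfold incCodes at h
      rw [Bool.and_eq_true] at h
      have hl := ih h.2
      refine List.Pairwise.cons ?_ hl
      have hab : codeOf a < codeOf b := by
        have := h.1
        simpa [Nat.blt_eq] using this
      intro x hx
      rcases List.mem_cons.1 hx with rfl | hx'
      · exact hab
      · exact lt_trans hab (List.rel_of_pairwise_cons hl hx')

theorem pairwise_mem' {α : Type*} {R : α → α → Prop} {l : List α} (h : l.Pairwise R) {a b : α}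
    (ha : a ∈ l) (hb : b ∈ l) (hne : a ≠ b) : R a b ∨ R b a := by
  induction l with
  | nil => simp at ha
  | cons x l ih =>
    rw [List.pairwise_cons] at h
    rcases List.mem_cons.1 ha with rfl | ha'
    · rcases List.mem_cons.1 hb with rfl | hb'
      · exact absurd rfl hne
      · exact Or.inl (h.1 b hb')
    · rcases List.mem_cons.1 hb with rfl | hb'
      · exact Or.inr (h.1 a ha')
      · exact ih h.2 ha' hb'

/-- the number of elements coded by a table with increasing codes -/
theorem card_setOfT {M : Type*} [Monoid M] (dec : Nat → M)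
    (hinj : ∀ c d, c < 2 ^ 162 → d < 2 ^ 162 → dec c = dec d → c = d) (T : Tab)
    (h : incCodes (flatT T) = true) : Nat.card (setOfT dec T) = (flatT T).length := by
  have hp := pairwise_of_incCodes _ h
  have hnd : (flatT T).Nodup := by
    refine hp.imp ?_
    intro a b hab he
    rw [he] at hab
    exact lt_irrefl _ hab
  have hS : setOfT dec T = (fun e => dec (codeOf e)) '' (↑(flatT T).toFinset : Set ℕ) := by
    ext x
    simp only [setOfT, Set.mem_ofPred_eq, Set.mem_image, Finset.mem_coe, List.mem_toFinset, memT_iff]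
    constructor
    · rintro ⟨e, he, rfl⟩; exact ⟨e, he, rfl⟩
    · rintro ⟨e, he, rfl⟩; exact ⟨e, he, rfl⟩
  have hio : Set.InjOn (fun e => dec (codeOf e)) (↑(flatT T).toFinset : Set ℕ) := by
    intro e he e' he' hee
    simp only [Finset.mem_coe, List.mem_toFinset] at he he'
    have hc : codeOf e = codeOf e' := hinj _ _ (codeOf_lt e) (codeOf_lt e') hee
    by_contra hne
    rcases pairwise_mem' hp he he' hne with h1 | h1
    · rw [hc] at h1; exact lt_irrefl _ h1
    · rw [hc] at h1; exact lt_irrefl _ h1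
  rw [Nat.card_coe_set_eq, hS, hio.ncard_image, Set.ncard_coe_finset,
    List.toFinset_card_of_nodup hnd]

section field

variable {F : Type*} [Field F] [CharP F 2] [Finite F] (ω : F) (hω : ω * ω = ω + 1)

/-- the matrix of an element of the group -/
def valHom : threeJ3 F ω →* Matrix F9 F9 F :=
  (Units.coeHom (Matrix F9 F9 F)).comp (threeJ3 F ω).subtype

omit [CharP F 2] [Finite F] in
theorem valHom_injective : Function.Injective (valHom ω) := by
  intro a b h
  exact Subtype.ext (Units.ext h)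

omit [CharP F 2] [Finite F] in
theorem valHom_mem_Gm (g : threeJ3 F ω) : valHom ω g ∈ Gm ω :=
  (mem_Gm ω).2 ⟨g.1, g.2, rfl⟩

omit [CharP F 2] [Finite F] in
theorem exists_of_mem_Gm {m : Matrix F9 F9 F} (hm : m ∈ Gm ω) : ∃ g : threeJ3 F ω, valHom ω g = m := by
  obtain ⟨g, hg, rfl⟩ := (mem_Gm ω).1 hm
  exact ⟨⟨g, hg⟩, rfl⟩

/-- the subgroup of the elements whose matrices lie in a submonoid -/
def pull (C : Submonoid (Matrix F9 F9 F)) : Subgroup (threeJ3 F ω) where
  carrier := {g | valHom ω g ∈ C}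
  mul_mem' := by
    intro a b ha hb
    simp only [Set.mem_ofPred_eq, map_mul] at ha hb ⊢
    exact C.mul_mem ha hb
  one_mem' := by
    simp only [Set.mem_ofPred_eq, map_one]
    exact C.one_mem
  inv_mem' := by
    intro x hx
    have hx' : x⁻¹ = x ^ (orderOf x - 1) := by
      rw [inv_eq_iff_mul_eq_one, ← pow_succ', Nat.sub_add_cancel (orderOf_pos x), pow_orderOf_eq_one]
    simp only [Set.mem_ofPred_eq] at hx ⊢
    rw [hx', map_pow]
    exact C.pow_mem hx _

omit [CharP F 2] in
theorem mem_pull {C : Submonoid (Matrix F9 F9 F)} {g : threeJ3 F ω} :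
    g ∈ pull ω C ↔ valHom ω g ∈ C := Iff.rfl

omit [CharP F 2] in
theorem card_pull {C : Submonoid (Matrix F9 F9 F)} (hC : C ≤ Gm ω) :
    Nat.card (pull ω C) = Nat.card C := by
  apply Nat.card_congr
  refine Equiv.ofBijective (fun g => (⟨valHom ω g.1, g.2⟩ : C)) ⟨?_, ?_⟩
  · intro a b h
    apply Subtype.ext
    apply valHom_injective ω
    exact congrArg Subtype.val h
  · rintro ⟨m, hm⟩
    obtain ⟨g, rfl⟩ := exists_of_mem_Gm ω (hC hm)
    exact ⟨⟨g, hm⟩, rfl⟩

variable (h0 : ω ≠ 0) (h1 : ω ≠ 1)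

include hω h0 h1 in
/-- the subgroup coded by a closed table -/
theorem card_pull_table {T : Tab} {gs : List Nat}
    (h : ∀ e, memT T e → chkClosedEntry T gs e = true)
    (hroot : ∃ e, memT T e ∧ codeOf e = ONE) (hinc : incCodes (flatT T) = true)
    (hgs : Submonoid.closure (setOfL (toMat F ω) gs) ≤ Gm ω) :
    Nat.card (pull ω (Submonoid.closure (setOfL (toMat F ω) gs))) = (flatT T).length := by
  rw [card_pull ω hgs]
  have e := setOfT_eq_closure (toMat F ω) (toMat_mul4 F ω hω) (toMat_ONE F ω) h hroot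
  rw [← card_setOfT (toMat F ω) (fun c d hc hd hcd => toMat_inj F ω h0 h1 hc hd hcd) T hinc, e]
  rfl

include hω in
theorem mem_pull_table {T : Tab} {gs : List Nat}
    (h : ∀ e, memT T e → chkClosedEntry T gs e = true)
    (hroot : ∃ e, memT T e ∧ codeOf e = ONE) {g : threeJ3 F ω} :
    g ∈ pull ω (Submonoid.closure (setOfL (toMat F ω) gs)) ↔
      ∃ e, memT T e ∧ valHom ω g = toMat F ω (codeOf e) := by
  rw [mem_pull, ← SetLike.mem_coe,
    ← setOfT_eq_closure (toMat F ω) (toMat_mul4 F ω hω) (toMat_ONE F ω) h hroot]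
  rfl

theorem closedP2 : ∀ e, memT P2tab e → chkClosedEntry P2tab P2gens e = true := by
  rintro e ⟨B, hB, p, hp, c, hc, he⟩
  simp only [P2tab, List.mem_cons, List.not_mem_nil, or_false] at hB
  subst hB
  exact allB_of_mem chkP2 hp hc he

theorem closedP3 : ∀ e, memT P3tab e → chkClosedEntry P3tab P3gens e = true := by
  rintro e ⟨B, hB, p, hp, c, hc, he⟩
  simp only [P3tab, List.mem_cons, List.not_mem_nil, or_false] at hB
  subst hB
  exact allB_of_mem chkP3 hp hc he

include hω in
theorem P2gens_le : Submonoid.closure (setOfL (toMat F ω) P2gens) ≤ Gm ω := by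
  rw [Submonoid.closure_le]
  rintro _ ⟨g, hg, rfl⟩
  rw [← P2dec_eq] at hg
  exact Sxy_le_Gm ω hω (decRH_mem_Sxy ω hω _ _ hg)

include hω in
theorem P3gens_le : Submonoid.closure (setOfL (toMat F ω) P3gens) ≤ Gm ω := by
  rw [Submonoid.closure_le]
  rintro _ ⟨g, hg, rfl⟩
  rw [P3gens_eq] at hg
  have hg' := List.mem_of_mem_take hg
  obtain ⟨a, ha, rfl⟩ := List.getElem_of_mem hg'
  have := letter_mem ω hω a
  rwa [List.getD_eq_getElem _ _ ha] at this

/-- a Sylow 2-subgroup -/
def P2 : Subgroup (threeJ3 F ω) := pull ω (Submonoid.closure (setOfL (toMat F ω) P2gens))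

/-- a Sylow 3-subgroup -/
def P3 : Subgroup (threeJ3 F ω) := pull ω (Submonoid.closure (setOfL (toMat F ω) P3gens))

include hω h0 h1 in
theorem card_P2 : Nat.card (P2 ω) = 128 := by
  unfold P2
  rw [card_pull_table ω hω h0 h1 closedP2 rootP2 incP2 (P2gens_le ω hω), lenP2]

include hω h0 h1 in
theorem card_P3 : Nat.card (P3 ω) = 729 := by
  unfold P3
  rw [card_pull_table ω hω h0 h1 closedP3 rootP3 incP3 (P3gens_le ω hω), lenP3]

include hω in
theorem mem_P2 {g : threeJ3 F ω} :
    g ∈ P2 ω ↔ ∃ e, memT P2tab e ∧ valHom ω g = toMat F ω (codeOf e) :=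
  mem_pull_table ω hω closedP2 rootP2

include hω in
theorem mem_P3 {g : threeJ3 F ω} :
    g ∈ P3 ω ↔ ∃ e, memT P3tab e ∧ valHom ω g = toMat F ω (codeOf e) :=
  mem_pull_table ω hω closedP3 rootP3

include hω h0 h1 in
/-- an element whose code has `p`-th power the identity has order `p` -/
theorem orderOf_of_check (p : ℕ) [hp : Fact p.Prime] (pw : Nat → Nat)
    (hpw : ∀ c, toMat F ω (pw c) = toMat F ω c ^ p) (c : Nat) (hc : c < 2 ^ 162)
    (g : threeJ3 F ω) (hg : valHom ω g = toMat F ω c) (hchk : (pw c == ONE && !(c == ONE)) = true) :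
    orderOf g = p := by
  rw [Bool.and_eq_true] at hchk
  have e1 : pw c = ONE := eq_of_beq hchk.1
  have e2 : c ≠ ONE := by
    intro h
    have := hchk.2
    rw [h] at this
    simp at this
  apply orderOf_eq_prime
  · apply valHom_injective ω
    rw [map_pow, hg, ← hpw, e1, toMat_ONE, map_one]
  · intro h
    apply e2
    apply toMat_inj F ω h0 h1 hc (by decide)
    rw [← hg, h, map_one, toMat_ONE]

include hω in
theorem exists_of_word (w : List Nat) : ∃ g : threeJ3 F ω, valHom ω g = toMat F ω (evL w) :=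
  exists_of_mem_Gm ω (evL_mem ω hω w)

include hω h0 h1 in
theorem exists_orderOf_five : ∃ g : threeJ3 F ω, valHom ω g = toMat F ω g5 ∧ orderOf g = 5 := by
  obtain ⟨g, hg⟩ := exists_of_word ω hω w5
  rw [g5_eq] at hg
  have : Fact (Nat.Prime 5) := ⟨by norm_num⟩
  exact ⟨g, hg, orderOf_of_check ω hω h0 h1 5 pow5
    (dec_pow5 (toMat F ω) (toMat_mul4 F ω hω)) g5 (by decide) g hg g5_pow⟩

include hω h0 h1 in
theorem exists_orderOf_seventeen :
    ∃ g : threeJ3 F ω, valHom ω g = toMat F ω g17 ∧ orderOf g = 17 := by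
  obtain ⟨g, hg⟩ := exists_of_word ω hω w17
  rw [g17_eq] at hg
  have : Fact (Nat.Prime 17) := ⟨by norm_num⟩
  exact ⟨g, hg, orderOf_of_check ω hω h0 h1 17 pow17
    (dec_pow17 (toMat F ω) (toMat_mul4 F ω hω)) g17 (by decide) g hg g17_pow⟩

include hω h0 h1 in
theorem exists_orderOf_nineteen :
    ∃ g : threeJ3 F ω, valHom ω g = toMat F ω g19 ∧ orderOf g = 19 := by
  obtain ⟨g, hg⟩ := exists_of_word ω hω w19
  rw [g19_eq] at hg
  have : Fact (Nat.Prime 19) := ⟨by norm_num⟩
  exact ⟨g, hg, orderOf_of_check ω hω h0 h1 19 pow19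
    (dec_pow19 (toMat F ω) (toMat_mul4 F ω hω)) g19 (by decide) g hg g19_pow⟩

include hω h0 h1 in
/-- the order of the triple cover -/
theorem card_eq : Nat.card (threeJ3 F ω) = 150698880 := by
  have h2 : 2 ^ 7 ∣ Nat.card (threeJ3 F ω) := by
    have := Subgroup.card_subgroup_dvd_card (P2 ω)
    rwa [card_P2 ω hω h0 h1] at this
  have h3 : 3 ^ 6 ∣ Nat.card (threeJ3 F ω) := by
    have := Subgroup.card_subgroup_dvd_card (P3 ω)
    rwa [card_P3 ω hω h0 h1] at this
  have h5 : 5 ∣ Nat.card (threeJ3 F ω) := by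
    obtain ⟨g, _, hg⟩ := exists_orderOf_five ω hω h0 h1
    rw [← hg]; exact orderOf_dvd_natCard g
  have h17 : 17 ∣ Nat.card (threeJ3 F ω) := by
    obtain ⟨g, _, hg⟩ := exists_orderOf_seventeen ω hω h0 h1
    rw [← hg]; exact orderOf_dvd_natCard g
  have h19 : 19 ∣ Nat.card (threeJ3 F ω) := by
    obtain ⟨g, _, hg⟩ := exists_orderOf_nineteen ω hω h0 h1
    rw [← hg]; exact orderOf_dvd_natCard g
  have ha : 2 ^ 7 * 3 ^ 6 ∣ Nat.card (threeJ3 F ω) :=
    Nat.Coprime.mul_dvd_of_dvd_of_dvd (by norm_num) h2 h3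
  have hb : 2 ^ 7 * 3 ^ 6 * 5 ∣ Nat.card (threeJ3 F ω) :=
    Nat.Coprime.mul_dvd_of_dvd_of_dvd (by norm_num) ha h5
  have hc : 2 ^ 7 * 3 ^ 6 * 5 * 17 ∣ Nat.card (threeJ3 F ω) :=
    Nat.Coprime.mul_dvd_of_dvd_of_dvd (by norm_num) hb h17
  have hd : 2 ^ 7 * 3 ^ 6 * 5 * 17 * 19 ∣ Nat.card (threeJ3 F ω) :=
    Nat.Coprime.mul_dvd_of_dvd_of_dvd (by norm_num) hc h19
  have hle := Nat.le_of_dvd Nat.card_pos hd
  have hle' := card_le ω hω
  norm_num at hle
  exact le_antisymm hle' hle

end field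

end Cfsg.Agent.Helper14.J3
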