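import Mathlib
import Cfsg.Agent.Helper14.J3P

set_option autoImplicit false

namespace Cfsg.Agent.Helper14.J3

theorem q_P2c_0_0_0 : allCert pow19 isOne P2c_0_0_0 C2c_0_0 = true := by decide +kernel
theorem q_P2c_0_0_1 : allCert pow19 isOne P2c_0_0_1 C2c_0_1 = true := by decide +kernel
theorem q_P2c_0_0_2 : allCert pow19 isOne P2c_0_0_2 C2c_0_2 = true := by decide +kernel
theorem q_P2c_0_0_3 : allCert pow19 isOne P2c_0_0_3 C2c_0_3 = true := by decide +kernel
theorem q_P2c_0_0_4 : allCert pow19 isOne P2c_0_0_4 C2c_0_4 = true := by decide +kernel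
theorem q_P2c_0_0_5 : allCert pow19 isOne P2c_0_0_5 C2c_0_5 = true := by decide +kernel
theorem q_P2c_0_0_6 : allCert pow19 isOne P2c_0_0_6 C2c_0_6 = true := by decide +kernel
theorem q_P2c_0_0_7 : allCert pow19 isOne P2c_0_0_7 C2c_0_7 = true := by decide +kernel

theorem q_P3c_0_0_0 : allCert pow19 isScal P3c_0_0_0 C3c_0_0 = true := by decide +kernel
theorem q_P3c_0_0_1 : allCert pow19 isScal P3c_0_0_1 C3c_0_1 = true := by decide +kernel
theorem q_P3c_0_0_2 : allCert pow19 isScal P3c_0_0_2 C3c_0_2 = true := by decide +kernel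
theorem q_P3c_0_0_3 : allCert pow19 isScal P3c_0_0_3 C3c_0_3 = true := by decide +kernel
theorem q_P3c_0_0_4 : allCert pow19 isScal P3c_0_0_4 C3c_0_4 = true := by decide +kernel
theorem q_P3c_0_0_5 : allCert pow19 isScal P3c_0_0_5 C3c_0_5 = true := by decide +kernel
theorem q_P3c_0_0_6 : allCert pow19 isScal P3c_0_0_6 C3c_0_6 = true := by decide +kernel
theorem q_P3c_0_0_7 : allCert pow19 isScal P3c_0_0_7 C3c_0_7 = true := by decide +kernel
theorem q_P3c_0_0_8 : allCert pow19 isScal P3c_0_0_8 C3c_0_8 = true := by decide +kernel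
theorem q_P3c_0_0_9 : allCert pow19 isScal P3c_0_0_9 C3c_0_9 = true := by decide +kernel
theorem q_P3c_0_0_10 : allCert pow19 isScal P3c_0_0_10 C3c_0_10 = true := by decide +kernel
theorem q_P3c_0_0_11 : allCert pow19 isScal P3c_0_0_11 C3c_0_11 = true := by decide +kernel
theorem q_P3c_0_0_12 : allCert pow19 isScal P3c_0_0_12 C3c_0_12 = true := by decide +kernel
theorem q_P3c_0_0_13 : allCert pow19 isScal P3c_0_0_13 C3c_0_13 = true := by decide +kernel
theorem q_P3c_0_0_14 : allCert pow19 isScal P3c_0_0_14 C3c_0_14 = true := by decide +kernel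
theorem q_P3c_0_0_15 : allCert pow19 isScal P3c_0_0_15 C3c_0_15 = true := by decide +kernel
theorem q_P3c_0_1_0 : allCert pow19 isScal P3c_0_1_0 C3c_1_0 = true := by decide +kernel
theorem q_P3c_0_1_1 : allCert pow19 isScal P3c_0_1_1 C3c_1_1 = true := by decide +kernel
theorem q_P3c_0_1_2 : allCert pow19 isScal P3c_0_1_2 C3c_1_2 = true := by decide +kernel
theorem q_P3c_0_1_3 : allCert pow19 isScal P3c_0_1_3 C3c_1_3 = true := by decide +kernel
theorem q_P3c_0_1_4 : allCert pow19 isScal P3c_0_1_4 C3c_1_4 = true := by decide +kernel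
theorem q_P3c_0_1_5 : allCert pow19 isScal P3c_0_1_5 C3c_1_5 = true := by decide +kernel
theorem q_P3c_0_1_6 : allCert pow19 isScal P3c_0_1_6 C3c_1_6 = true := by decide +kernel
theorem q_P3c_0_1_7 : allCert pow19 isScal P3c_0_1_7 C3c_1_7 = true := by decide +kernel
theorem q_P3c_0_1_8 : allCert pow19 isScal P3c_0_1_8 C3c_1_8 = true := by decide +kernel
theorem q_P3c_0_1_9 : allCert pow19 isScal P3c_0_1_9 C3c_1_9 = true := by decide +kernel
theorem q_P3c_0_1_10 : allCert pow19 isScal P3c_0_1_10 C3c_1_10 = true := by decide +kernel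
theorem q_P3c_0_1_11 : allCert pow19 isScal P3c_0_1_11 C3c_1_11 = true := by decide +kernel
theorem q_P3c_0_1_12 : allCert pow19 isScal P3c_0_1_12 C3c_1_12 = true := by decide +kernel
theorem q_P3c_0_1_13 : allCert pow19 isScal P3c_0_1_13 C3c_1_13 = true := by decide +kernel
theorem q_P3c_0_1_14 : allCert pow19 isScal P3c_0_1_14 C3c_1_14 = true := by decide +kernel
theorem q_P3c_0_1_15 : allCert pow19 isScal P3c_0_1_15 C3c_1_15 = true := by decide +kernel
theorem q_P3c_0_2_0 : allCert pow19 isScal P3c_0_2_0 C3c_2_0 = true := by decide +kernel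
theorem q_P3c_0_2_1 : allCert pow19 isScal P3c_0_2_1 C3c_2_1 = true := by decide +kernel
theorem q_P3c_0_2_2 : allCert pow19 isScal P3c_0_2_2 C3c_2_2 = true := by decide +kernel
theorem q_P3c_0_2_3 : allCert pow19 isScal P3c_0_2_3 C3c_2_3 = true := by decide +kernel
theorem q_P3c_0_2_4 : allCert pow19 isScal P3c_0_2_4 C3c_2_4 = true := by decide +kernel
theorem q_P3c_0_2_5 : allCert pow19 isScal P3c_0_2_5 C3c_2_5 = true := by decide +kernel
theorem q_P3c_0_2_6 : allCert pow19 isScal P3c_0_2_6 C3c_2_6 = true := by decide +kernel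
theorem q_P3c_0_2_7 : allCert pow19 isScal P3c_0_2_7 C3c_2_7 = true := by decide +kernel
theorem q_P3c_0_2_8 : allCert pow19 isScal P3c_0_2_8 C3c_2_8 = true := by decide +kernel
theorem q_P3c_0_2_9 : allCert pow19 isScal P3c_0_2_9 C3c_2_9 = true := by decide +kernel
theorem q_P3c_0_2_10 : allCert pow19 isScal P3c_0_2_10 C3c_2_10 = true := by decide +kernel
theorem q_P3c_0_2_11 : allCert pow19 isScal P3c_0_2_11 C3c_2_11 = true := by decide +kernel
theorem q_P3c_0_2_12 : allCert pow19 isScal P3c_0_2_12 C3c_2_12 = true := by decide +kernel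
theorem q_P3c_0_2_13 : allCert pow19 isScal P3c_0_2_13 C3c_2_13 = true := by decide +kernel


end Cfsg.Agent.Helper14.J3
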