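import Mathlib
import Cfsg.Agent.Helper14.J3PK3

set_option autoImplicit false

namespace Cfsg.Agent.Helper14.J3

theorem certP2 : ∀ e, memT P2tab e →
    isOne (codeOf e) = true ∨ ∃ ys, certOK pow19 (codeOf e) ys = true := by
  rintro e ⟨B, hB, p, hp, c, hc, he⟩
  simp only [P2tab, List.mem_cons, List.not_mem_nil, or_false] at hB
  subst hB
  simp only [P2blk0, List.mem_cons, List.not_mem_nil, or_false] at hp
  subst hp
  · simp only [List.mem_cons, List.not_mem_nil, or_false] at hc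
    rcases hc with rfl | rfl | rfl | rfl | rfl | rfl | rfl | rfl
    · exact allCert_mem _ _ _ _ q_P2c_0_0_0 e he
    · exact allCert_mem _ _ _ _ q_P2c_0_0_1 e he
    · exact allCert_mem _ _ _ _ q_P2c_0_0_2 e he
    · exact allCert_mem _ _ _ _ q_P2c_0_0_3 e he
    · exact allCert_mem _ _ _ _ q_P2c_0_0_4 e he
    · exact allCert_mem _ _ _ _ q_P2c_0_0_5 e he
    · exact allCert_mem _ _ _ _ q_P2c_0_0_6 e he
    · exact allCert_mem _ _ _ _ q_P2c_0_0_7 e he

theorem certP3 : ∀ e, memT P3tab e →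
    isScal (codeOf e) = true ∨ ∃ ys, certOK pow19 (codeOf e) ys = true := by
  rintro e ⟨B, hB, p, hp, c, hc, he⟩
  simp only [P3tab, List.mem_cons, List.not_mem_nil, or_false] at hB
  subst hB
  simp only [P3blk0, List.mem_cons, List.not_mem_nil, or_false] at hp
  rcases hp with rfl | rfl | rfl
  · simp only [List.mem_cons, List.not_mem_nil, or_false] at hc
    rcases hc with rfl | rfl | rfl | rfl | rfl | rfl | rfl | rfl | rfl | rfl | rfl | rfl | rfl | rfl | rfl | rfl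
    · exact allCert_mem _ _ _ _ q_P3c_0_0_0 e he
    · exact allCert_mem _ _ _ _ q_P3c_0_0_1 e he
    · exact allCert_mem _ _ _ _ q_P3c_0_0_2 e he
    · exact allCert_mem _ _ _ _ q_P3c_0_0_3 e he
    · exact allCert_mem _ _ _ _ q_P3c_0_0_4 e he
    · exact allCert_mem _ _ _ _ q_P3c_0_0_5 e he
    · exact allCert_mem _ _ _ _ q_P3c_0_0_6 e he
    · exact allCert_mem _ _ _ _ q_P3c_0_0_7 e he
    · exact allCert_mem _ _ _ _ q_P3c_0_0_8 e he
    · exact allCert_mem _ _ _ _ q_P3c_0_0_9 e he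
    · exact allCert_mem _ _ _ _ q_P3c_0_0_10 e he
    · exact allCert_mem _ _ _ _ q_P3c_0_0_11 e he
    · exact allCert_mem _ _ _ _ q_P3c_0_0_12 e he
    · exact allCert_mem _ _ _ _ q_P3c_0_0_13 e he
    · exact allCert_mem _ _ _ _ q_P3c_0_0_14 e he
    · exact allCert_mem _ _ _ _ q_P3c_0_0_15 e he
  · simp only [List.mem_cons, List.not_mem_nil, or_false] at hc
    rcases hc with rfl | rfl | rfl | rfl | rfl | rfl | rfl | rfl | rfl | rfl | rfl | rfl | rfl | rfl | rfl | rfl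
    · exact allCert_mem _ _ _ _ q_P3c_0_1_0 e he
    · exact allCert_mem _ _ _ _ q_P3c_0_1_1 e he
    · exact allCert_mem _ _ _ _ q_P3c_0_1_2 e he
    · exact allCert_mem _ _ _ _ q_P3c_0_1_3 e he
    · exact allCert_mem _ _ _ _ q_P3c_0_1_4 e he
    · exact allCert_mem _ _ _ _ q_P3c_0_1_5 e he
    · exact allCert_mem _ _ _ _ q_P3c_0_1_6 e he
    · exact allCert_mem _ _ _ _ q_P3c_0_1_7 e he
    · exact allCert_mem _ _ _ _ q_P3c_0_1_8 e he
    · exact allCert_mem _ _ _ _ q_P3c_0_1_9 e he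
    · exact allCert_mem _ _ _ _ q_P3c_0_1_10 e he
    · exact allCert_mem _ _ _ _ q_P3c_0_1_11 e he
    · exact allCert_mem _ _ _ _ q_P3c_0_1_12 e he
    · exact allCert_mem _ _ _ _ q_P3c_0_1_13 e he
    · exact allCert_mem _ _ _ _ q_P3c_0_1_14 e he
    · exact allCert_mem _ _ _ _ q_P3c_0_1_15 e he
  · simp only [List.mem_cons, List.not_mem_nil, or_false] at hc
    rcases hc with rfl | rfl | rfl | rfl | rfl | rfl | rfl | rfl | rfl | rfl | rfl | rfl | rfl | rfl
    · exact allCert_mem _ _ _ _ q_P3c_0_2_0 e he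
    · exact allCert_mem _ _ _ _ q_P3c_0_2_1 e he
    · exact allCert_mem _ _ _ _ q_P3c_0_2_2 e he
    · exact allCert_mem _ _ _ _ q_P3c_0_2_3 e he
    · exact allCert_mem _ _ _ _ q_P3c_0_2_4 e he
    · exact allCert_mem _ _ _ _ q_P3c_0_2_5 e he
    · exact allCert_mem _ _ _ _ q_P3c_0_2_6 e he
    · exact allCert_mem _ _ _ _ q_P3c_0_2_7 e he
    · exact allCert_mem _ _ _ _ q_P3c_0_2_8 e he
    · exact allCert_mem _ _ _ _ q_P3c_0_2_9 e he
    · exact allCert_mem _ _ _ _ q_P3c_0_2_10 e he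
    · exact allCert_mem _ _ _ _ q_P3c_0_2_11 e he
    · exact allCert_mem _ _ _ _ q_P3c_0_2_12 e he
    · exact allCert_mem _ _ _ _ q_P3c_0_2_13 e he


end Cfsg.Agent.Helper14.J3
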