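import Mathlib
import Cfsg.Agent.Helper14.J3L
import Cfsg.Agent.Helper14.J3PK4
import Cfsg.Agent.Helper24.Burnside

/-!
# The triple cover of the third Janko group: normal subgroups, centre, simplicity of the quotient
-/

set_option autoImplicit false
set_option linter.unusedSectionVars false

namespace Cfsg.Agent.Helper14.J3

open Cfsg Cfsg.Spor
open scoped MatrixGroups Pointwise commutatorElement

/-- In a finite group whose order is divisible by `p` exactly once, a normal subgroup of order divisible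
by `p` contains every element of order `p`. -/
theorem mem_of_prime_dvd {G : Type*} [Group G] [Finite G] (N : Subgroup G) [hN : N.Normal] (p : ℕ)
    [hp : Fact p.Prime] (hpN : p ∣ Nat.card N) (hpp : ¬ p ^ 2 ∣ Nat.card G) (g : G)
    (hg : orderOf g = p) : g ∈ N := by
  obtain ⟨n, hn⟩ := exists_prime_orderOf_dvd_card' p hpN
  have hn' : orderOf (n : G) = p := by rw [Subgroup.orderOf_coe]; exact hn
  have hpG : p ∣ Nat.card G := hpN.trans (Subgroup.card_subgroup_dvd_card N)
  have hfac : (Nat.card G).factorization p = 1 := by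
    have h1 : 1 ≤ (Nat.card G).factorization p := by
      rw [← hp.out.pow_dvd_iff_le_factorization Nat.card_pos.ne', pow_one]; exact hpG
    have h2 : ¬ 2 ≤ (Nat.card G).factorization p := by
      rw [← hp.out.pow_dvd_iff_le_factorization Nat.card_pos.ne']; exact hpp
    omega
  have hcardz : ∀ x : G, orderOf x = p → ∀ S : Sylow p G, Subgroup.zpowers x ≤ S →
      Subgroup.zpowers x = S := by
    intro x hx S hle
    apply Subgroup.eq_of_le_of_card_ge hle
    rw [Sylow.card_eq_multiplicity, hfac, pow_one, Nat.card_zpowers, hx]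
  have hpg : ∀ x : G, orderOf x = p → IsPGroup p (Subgroup.zpowers x) := by
    intro x hx
    apply IsPGroup.of_card (n := 1)
    rw [Nat.card_zpowers, hx, pow_one]
  obtain ⟨S, hS⟩ := (hpg g hg).exists_le_sylow
  obtain ⟨T, hT⟩ := (hpg n hn').exists_le_sylow
  have hS' := hcardz g hg S hS
  have hT' := hcardz n hn' T hT
  obtain ⟨c, hc⟩ := MulAction.exists_smul_eq G T S
  have hgS : g ∈ (S : Subgroup G) := by rw [← hS']; exact Subgroup.mem_zpowers g
  rw [← hc, Sylow.coe_subgroup_smul, Subgroup.mem_pointwise_smul_iff_inv_smul_mem, ← hT'] at hgS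
  have h3 : (MulAut.conj c)⁻¹ • g ∈ N := by
    have : Subgroup.zpowers (n : G) ≤ N := by
      rw [Subgroup.zpowers_le]; exact n.2
    exact this hgS
  have e : (MulAut.conj c)⁻¹ • g = c⁻¹ * g * c := by
    rw [← map_inv, MulAut.smul_def, MulAut.conj_apply, inv_inv]
  rw [e] at h3
  have h4 : c * (c⁻¹ * g * c) * c⁻¹ ∈ N := hN.conj_mem _ h3 c
  have h5 : c * (c⁻¹ * g * c) * c⁻¹ = g := by group
  rwa [h5] at h4

/-- a normal subgroup of order divisible by `p` meets a given Sylow `p`-subgroup -/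
theorem exists_mem_of_dvd {G : Type*} [Group G] [Finite G] (N : Subgroup G) [hN : N.Normal] (p : ℕ)
    [hp : Fact p.Prime] (P : Subgroup G) (hP : IsPGroup p P) (hidx : ¬ p ∣ P.index)
    (hpN : p ∣ Nat.card N) : ∃ u : G, u ∈ N ∧ u ∈ P ∧ u ≠ 1 := by
  obtain ⟨n, hn⟩ := exists_prime_orderOf_dvd_card' p hpN
  have hn' : orderOf (n : G) = p := by rw [Subgroup.orderOf_coe]; exact hn
  have hpg : IsPGroup p (Subgroup.zpowers (n : G)) := by
    apply IsPGroup.of_card (n := 1)
    rw [Nat.card_zpowers, hn', pow_one]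
  obtain ⟨Q, hQ⟩ := hpg.exists_le_sylow
  obtain ⟨c, hc⟩ := MulAction.exists_smul_eq G Q (hP.toSylow hidx)
  have hnQ : (n : G) ∈ (Q : Subgroup G) := hQ (Subgroup.mem_zpowers _)
  have h1 : MulAut.conj c • (n : G) ∈ MulAut.conj c • (Q : Subgroup G) :=
    Subgroup.smul_mem_pointwise_smul _ _ _ hnQ
  rw [← Sylow.coe_subgroup_smul, hc, IsPGroup.toSylow_coe] at h1
  refine ⟨c * n * c⁻¹, hN.conj_mem _ n.2 c, ?_, ?_⟩
  · rwa [MulAut.smul_def, MulAut.conj_apply] at h1
  · intro h
    have h2 : (n : G) = 1 := by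
      have := congrArg (fun x => c⁻¹ * x * c) h
      simpa [mul_assoc] using this
    rw [h2, orderOf_one] at hn'
    exact hp.out.one_lt.ne hn'

section field

variable {F : Type*} [Field F] [CharP F 2] [Finite F] (ω : F) (hω : ω * ω = ω + 1)
variable (h0 : ω ≠ 0) (h1 : ω ≠ 1)

/-- the code `c` is the matrix of an element of `N` -/
def NinN (N : Subgroup (threeJ3 F ω)) (c : Nat) : Prop := ∃ g ∈ N, valHom ω g = toMat F ω c

theorem NinN_ONE (N : Subgroup (threeJ3 F ω)) : NinN ω N ONE :=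
  ⟨1, N.one_mem, by rw [map_one, toMat_ONE]⟩

include hω in
theorem NinN_mul {N : Subgroup (threeJ3 F ω)} {a b : Nat} (ha : NinN ω N a) (hb : NinN ω N b) :
    NinN ω N (mul4 a b) := by
  obtain ⟨g, hg, e⟩ := ha
  obtain ⟨k, hk, e'⟩ := hb
  exact ⟨g * k, N.mul_mem hg hk, by rw [map_mul, e, e', toMat_mul4 F ω hω]⟩

include hω in
theorem toMat_evL_append (u v : List Nat) :
    toMat F ω (evL (u ++ v)) = toMat F ω (evL u) * toMat F ω (evL v) := by
  induction u with
  | nil =>
    have e : evL [] = ONE := rfl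
    rw [List.nil_append, e, toMat_ONE, one_mul]
  | cons a u ih =>
    have e1 : evL (a :: u ++ v) = mul4 (letters.getD a ONE) (evL (u ++ v)) := rfl
    have e2 : evL (a :: u) = mul4 (letters.getD a ONE) (evL u) := rfl
    rw [e1, e2, toMat_mul4 F ω hω, toMat_mul4 F ω hω, ih, mul_assoc]

include hω in
theorem letter_mul_inv (a : Nat) :
    toMat F ω (letters.getD a ONE) * toMat F ω (letters.getD (invL a) ONE) = 1 := by
  unfold invL
  by_cases h7 : a < 7
  · rw [if_pos h7, ← toMat_mul4 F ω hω, (letters_inv' a h7).1, toMat_ONE]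
  · rw [if_neg h7]
    by_cases h14 : a < 14
    · rw [if_pos h14]
      have := (letters_inv' (a - 7) (by omega)).2
      rw [show a - 7 + 7 = a by omega] at this
      rw [← toMat_mul4 F ω hω, this, toMat_ONE]
    · rw [if_neg h14, List.getD_eq_default _ _ (by rw [letters_length]; omega), toMat_ONE, one_mul]

include hω in
theorem evL_mul_inv (y : List Nat) : toMat F ω (evL y) * toMat F ω (evL (invW y)) = 1 := by
  induction y with
  | nil =>
    have e : evL [] = ONE := rfl
    have e' : invW [] = [] := rfl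
    rw [e', e, toMat_ONE, one_mul]
  | cons a y ih =>
    have e : invW (a :: y) = invW y ++ [invL a] := by simp [invW]
    have e1 : evL (a :: y) = mul4 (letters.getD a ONE) (evL y) := rfl
    have e2 : evL [invL a] = mul4 (letters.getD (invL a) ONE) ONE := rfl
    rw [e, toMat_evL_append ω hω, e1, e2, toMat_mul4 F ω hω, toMat_mul4 F ω hω, toMat_ONE, mul_one]
    calc toMat F ω (letters.getD a ONE) * toMat F ω (evL y) *
          (toMat F ω (evL (invW y)) * toMat F ω (letters.getD (invL a) ONE))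
        = toMat F ω (letters.getD a ONE) * (toMat F ω (evL y) * toMat F ω (evL (invW y))) *
          toMat F ω (letters.getD (invL a) ONE) := by simp only [mul_assoc]
      _ = 1 := by rw [ih, mul_one, letter_mul_inv ω hω]

include hω in
theorem NinN_conj {N : Subgroup (threeJ3 F ω)} [hN : N.Normal] (y : List Nat) {u : Nat}
    (hu : NinN ω N u) : NinN ω N (conjW y u) := by
  obtain ⟨g, hg, e⟩ := hu
  obtain ⟨k, hk⟩ := exists_of_word ω hω y
  have hk' : valHom ω k⁻¹ = toMat F ω (evL (invW y)) := by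
    have h1 : valHom ω k⁻¹ * valHom ω k = 1 := by rw [← map_mul, inv_mul_cancel, map_one]
    calc valHom ω k⁻¹ = valHom ω k⁻¹ * (toMat F ω (evL y) * toMat F ω (evL (invW y))) := by
          rw [evL_mul_inv ω hω, mul_one]
      _ = (valHom ω k⁻¹ * valHom ω k) * toMat F ω (evL (invW y)) := by rw [hk, mul_assoc]
      _ = _ := by rw [h1, one_mul]
  refine ⟨k * g * k⁻¹, hN.conj_mem g hg k, ?_⟩
  unfold conjW
  rw [map_mul, map_mul, hk, e, hk', toMat_mul4 F ω hω, toMat_mul4 F ω hω, mul_assoc]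

include hω in
theorem NinN_prodConj {N : Subgroup (threeJ3 F ω)} [hN : N.Normal] {u : Nat} (hu : NinN ω N u)
    (ys : List (List Nat)) : NinN ω N (prodConj u ys) := by
  induction ys with
  | nil => exact NinN_ONE ω N
  | cons y ys ih => exact NinN_mul ω hω (NinN_conj ω hω y hu) ih

include hω in
theorem NinN_pow3 {N : Subgroup (threeJ3 F ω)} {u : Nat} (hu : NinN ω N u) :
    NinN ω N (pow3 u) := by
  rw [pow3_eq]
  exact NinN_mul ω hω hu (NinN_mul ω hω hu hu)

include hω h0 h1 in
/-- a certificate shows that the order of a normal subgroup is divisible by `p` -/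
theorem dvd_of_cert {N : Subgroup (threeJ3 F ω)} [hN : N.Normal] (p : ℕ) [hp : Fact p.Prime]
    (pw : Nat → Nat) (hpw : ∀ c, toMat F ω (pw c) = toMat F ω c ^ p) {u : Nat}
    {ys : List (List Nat)} (hu : NinN ω N u) (hc : certOK pw u ys = true) : p ∣ Nat.card N := by
  rw [certOK_eq] at hc
  obtain ⟨g, hg, e⟩ := NinN_pow3 ω hω (NinN_prodConj ω hω hu ys)
  have ho : orderOf g = p := orderOf_of_check ω hω h0 h1 p pw hpw _ (pow3_lt _) g e hc
  have ho' : orderOf (⟨g, hg⟩ : N) = p := by
    rw [← Subgroup.orderOf_coe]; exact ho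
  rw [← ho']
  exact orderOf_dvd_natCard _

/-- the matrix of the element is a scalar matrix -/
def IsScalarElt (g : threeJ3 F ω) : Prop :=
  valHom ω g = toMat F ω ONE ∨ valHom ω g = toMat F ω Z1 ∨ valHom ω g = toMat F ω Z2

include hω h0 h1 in
theorem index_P2 : ¬ 2 ∣ (P2 ω).index := by
  have h := (P2 ω).card_mul_index
  rw [card_P2 ω hω h0 h1, card_eq ω hω h0 h1] at h
  have : (P2 ω).index = 1177335 := by omega
  rw [this]; norm_num

include hω h0 h1 in
theorem index_P3 : ¬ 3 ∣ (P3 ω).index := by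
  have h := (P3 ω).card_mul_index
  rw [card_P3 ω hω h0 h1, card_eq ω hω h0 h1] at h
  have : (P3 ω).index = 206720 := by omega
  rw [this]; norm_num

include hω h0 h1 in
/-- a normal subgroup has order divisible by 19 or consists of scalar matrices -/
theorem dichotomy (N : Subgroup (threeJ3 F ω)) [hN : N.Normal] :
    19 ∣ Nat.card N ∨ ∀ g ∈ N, IsScalarElt ω g := by
  by_cases h19 : 19 ∣ Nat.card N
  · left; exact h19
  right
  have hcard := card_eq ω hω h0 h1
  have hdvd : Nat.card N ∣ 150698880 := by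
    rw [← hcard]; exact Subgroup.card_subgroup_dvd_card N
  have : Fact (Nat.Prime 19) := ⟨by norm_num⟩
  have : Fact (Nat.Prime 17) := ⟨by norm_num⟩
  have : Fact (Nat.Prime 5) := ⟨by norm_num⟩
  have : Fact (Nat.Prime 2) := ⟨by norm_num⟩
  have : Fact (Nat.Prime 3) := ⟨by norm_num⟩
  have hp19 := dec_pow19 (toMat F ω) (toMat_mul4 F ω hω)
  have h17 : ¬ 17 ∣ Nat.card N := by
    intro h
    obtain ⟨g, hg, ho⟩ := exists_orderOf_seventeen ω hω h0 h1
    have hmem := mem_of_prime_dvd N 17 h (by rw [hcard]; norm_num) g ho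
    exact h19 (dvd_of_cert ω hω h0 h1 19 pow19 hp19 ⟨g, hmem, hg⟩ cert17)
  have h5 : ¬ 5 ∣ Nat.card N := by
    intro h
    obtain ⟨g, hg, ho⟩ := exists_orderOf_five ω hω h0 h1
    have hmem := mem_of_prime_dvd N 5 h (by rw [hcard]; norm_num) g ho
    exact h19 (dvd_of_cert ω hω h0 h1 19 pow19 hp19 ⟨g, hmem, hg⟩ cert5)
  have h2 : ¬ 2 ∣ Nat.card N := by
    intro h
    obtain ⟨u, huN, huP, hu1⟩ := exists_mem_of_dvd N 2 (P2 ω)
      (IsPGroup.of_card (n := 7) (by rw [card_P2 ω hω h0 h1]; norm_num)) (index_P2 ω hω h0 h1) h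
    obtain ⟨e, he, hv⟩ := (mem_P2 ω hω).1 huP
    rcases certP2 e he with hs | ⟨ys, hys⟩
    · apply hu1
      apply valHom_injective ω
      unfold isOne at hs
      rw [hv, eq_of_beq hs, toMat_ONE, map_one]
    · exact h19 (dvd_of_cert ω hω h0 h1 19 pow19 hp19 ⟨u, huN, hv⟩ hys)
  have hcop : Nat.Coprime (Nat.card N) (2 ^ 7 * 5 * 17 * 19) := by
    have c2 : Nat.Coprime (Nat.card N) 2 :=
      ((Nat.Prime.coprime_iff_not_dvd (by norm_num)).2 h2).symm
    have c5 : Nat.Coprime (Nat.card N) 5 :=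
      ((Nat.Prime.coprime_iff_not_dvd (by norm_num)).2 h5).symm
    have c17 : Nat.Coprime (Nat.card N) 17 :=
      ((Nat.Prime.coprime_iff_not_dvd (by norm_num)).2 h17).symm
    have c19 : Nat.Coprime (Nat.card N) 19 :=
      ((Nat.Prime.coprime_iff_not_dvd (by norm_num)).2 h19).symm
    exact Nat.Coprime.mul_right (Nat.Coprime.mul_right (Nat.Coprime.mul_right
      (Nat.Coprime.pow_right 7 c2) c5) c17) c19
  have h36 : Nat.card N ∣ 3 ^ 6 := by
    apply Nat.Coprime.dvd_of_dvd_mul_right hcop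
    norm_num
    exact hdvd
  have hN3 : IsPGroup 3 N := by
    obtain ⟨k, _, hk⟩ := (Nat.dvd_prime_pow Nat.prime_three).1 h36
    exact IsPGroup.of_card hk
  have hP3 : IsPGroup 3 (P3 ω) :=
    IsPGroup.of_card (n := 6) (by rw [card_P3 ω hω h0 h1]; norm_num)
  have hle : N ≤ P3 ω := by
    have := hN3.le_sylow_of_normal (hP3.toSylow (index_P3 ω hω h0 h1))
    rwa [IsPGroup.toSylow_coe] at this
  intro g hg
  obtain ⟨e, he, hv⟩ := (mem_P3 ω hω).1 (hle hg)
  rcases certP3 e he with hs | ⟨ys, hys⟩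
  · unfold isScal at hs
    rw [Bool.or_eq_true, Bool.or_eq_true] at hs
    unfold IsScalarElt
    rw [hv]
    rcases hs with (hs | hs) | hs
    · left; rw [eq_of_beq hs]
    · right; left; rw [eq_of_beq hs]
    · right; right; rw [eq_of_beq hs]
  · exact absurd (dvd_of_cert ω hω h0 h1 19 pow19 hp19 ⟨g, hg, hv⟩ hys) h19

include hω in
/-- the group is generated by two elements -/
theorem exists_XY : ∃ X Y : threeJ3 F ω, valHom ω X = toMat F ω Xc ∧ valHom ω Y = toMat F ω Yc ∧
    Subgroup.closure {X, Y} = ⊤ := by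
  have hX : toMat F ω Xc ∈ Gm ω := by
    apply Sxy_le_Gm ω hω
    apply Submonoid.subset_closure
    exact ⟨Xc, by rw [XYc_eq]; simp, rfl⟩
  have hY : toMat F ω Yc ∈ Gm ω := by
    apply Sxy_le_Gm ω hω
    apply Submonoid.subset_closure
    exact ⟨Yc, by rw [XYc_eq]; simp, rfl⟩
  obtain ⟨X, hX'⟩ := exists_of_mem_Gm ω hX
  obtain ⟨Y, hY'⟩ := exists_of_mem_Gm ω hY
  refine ⟨X, Y, hX', hY', ?_⟩
  rw [eq_top_iff]
  intro g _
  have hg : valHom ω g ∈ Sxy ω := Gm_le_Sxy ω hω (valHom_mem_Gm ω g)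
  have key : ∀ m ∈ Sxy ω, ∃ k ∈ Subgroup.closure {X, Y}, valHom ω k = m := by
    intro m hm
    unfold Sxy at hm
    induction hm using Submonoid.closure_induction with
    | mem y hy =>
      obtain ⟨c, hc, rfl⟩ := hy
      rw [XYc_eq] at hc
      simp only [List.mem_cons, List.not_mem_nil, or_false] at hc
      rcases hc with rfl | rfl
      · exact ⟨X, Subgroup.subset_closure (by simp), hX'⟩
      · exact ⟨Y, Subgroup.subset_closure (by simp), hY'⟩
    | one => exact ⟨1, Subgroup.one_mem _, map_one _⟩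
    | mul a b _ _ iha ihb =>
      obtain ⟨k1, hk1, e1⟩ := iha
      obtain ⟨k2, hk2, e2⟩ := ihb
      exact ⟨k1 * k2, Subgroup.mul_mem _ hk1 hk2, by rw [map_mul, e1, e2]⟩
  obtain ⟨k, hk, e⟩ := key _ hg
  rw [← valHom_injective ω e]
  exact hk

include hω in
/-- the group is perfect -/
theorem commutator_eq_top : commutator (threeJ3 F ω) = ⊤ := by
  obtain ⟨X, Y, hX, hY, hXY⟩ := exists_XY ω hω
  have hmul := toMat_mul4 F ω hω
  -- relations
  have rX : X ^ 2 = 1 := by
    apply valHom_injective ω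
    rw [map_pow, hX, ← dec_sq (toMat F ω) hmul, relX, toMat_ONE, map_one]
  have rY : Y ^ 9 = 1 := by
    apply valHom_injective ω
    rw [map_pow, hY, ← dec_pow9 (toMat F ω) hmul, relY, toMat_ONE, map_one]
  obtain ⟨a, ha, ha1, ha2⟩ := exists_base_unit ω hω 0 (by norm_num)
  obtain ⟨b, hb, hb1, hb2⟩ := exists_base_unit ω hω 3 (by norm_num)
  have rZ : (X * Y ^ 4) ^ 19 = ⁅(⟨a, ha⟩ : threeJ3 F ω), ⟨b, hb⟩⁆ := by
    apply valHom_injective ω
    rw [map_pow, map_mul, map_pow, hX, hY, commutatorElement_def, map_mul, map_mul, map_mul]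
    have e1 : valHom ω ⟨a, ha⟩ = toMat F ω (letters.getD 0 ONE) := ha1
    have e2 : valHom ω ⟨b, hb⟩ = toMat F ω (letters.getD 3 ONE) := hb1
    have e3 : valHom ω (⟨a, ha⟩ : threeJ3 F ω)⁻¹ = toMat F ω (letters.getD (0 + 7) ONE) := ha2
    have e4 : valHom ω (⟨b, hb⟩ : threeJ3 F ω)⁻¹ = toMat F ω (letters.getD (3 + 7) ONE) := hb2
    rw [e1, e2, e3, e4, mul_assoc, ← hmul, ← hmul, ← hmul, relZ, ← relXY,
      dec_pow19 (toMat F ω) hmul, hmul, dec_sq (toMat F ω) hmul, dec_sq (toMat F ω) hmul, ← pow_mul]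
  -- the abelianization
  have hx2 : (Abelianization.of X) ^ 2 = 1 := by rw [← map_pow, rX, map_one]
  have hy9 : (Abelianization.of Y) ^ 9 = 1 := by rw [← map_pow, rY, map_one]
  have hz : (Abelianization.of X * Abelianization.of Y ^ 4) ^ 19 = 1 := by
    rw [← map_pow, ← map_mul, ← map_pow, rZ, ← MonoidHom.mem_ker, Abelianization.ker_of,
      commutator_def]
    exact Subgroup.commutator_mem_commutator (Subgroup.mem_top _) (Subgroup.mem_top _)
  set x := Abelianization.of X with hx
  set y := Abelianization.of Y with hy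
  have h4 : x * y ^ 4 = 1 := by
    have e : (x * y ^ 4) ^ 19 = (x ^ 2) ^ 9 * x * ((y ^ 9) ^ 8 * y ^ 4) := by
      rw [mul_pow, ← pow_mul, ← pow_mul, ← pow_mul, ← pow_succ, ← pow_add]
    rw [e, hx2, hy9, one_pow, one_pow, one_mul, one_mul] at hz
    exact hz
  have hy8 : y ^ 8 = 1 := by
    have e : y ^ 8 = (x * y ^ 4) ^ 2 * (x ^ 2)⁻¹ := by
      rw [mul_pow, ← pow_mul, mul_comm, ← mul_assoc, inv_mul_cancel, one_mul]
    rw [e, h4, hx2, one_pow, inv_one, one_mul]
  have hy1 : y = 1 := by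
    have e : y = y ^ 9 * (y ^ 8)⁻¹ := by
      rw [pow_succ, mul_comm (y ^ 8) y, mul_assoc, mul_inv_cancel, mul_one]
    rw [e, hy9, hy8, inv_one, one_mul]
  have hx1 : x = 1 := by
    rw [hy1, one_pow, mul_one] at h4
    exact h4
  have hXm : X ∈ commutator (threeJ3 F ω) := by
    rw [← Abelianization.ker_of, MonoidHom.mem_ker]; exact hx1
  have hYm : Y ∈ commutator (threeJ3 F ω) := by
    rw [← Abelianization.ker_of, MonoidHom.mem_ker]; exact hy1
  rw [eq_top_iff, ← hXY, Subgroup.closure_le]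
  intro g hg
  rcases hg with rfl | rfl
  · exact hXm
  · exact hYm

theorem dvd_two_three {d : ℕ} (h : d ∣ 2 ^ 7 * 3 ^ 6) : ∃ a b : ℕ, d = 2 ^ a * 3 ^ b := by
  obtain ⟨k1, k2, h1', h2', rfl⟩ := (Nat.dvd_mul).1 h
  obtain ⟨a, _, rfl⟩ := (Nat.dvd_prime_pow Nat.prime_two).1 h1'
  obtain ⟨b, _, rfl⟩ := (Nat.dvd_prime_pow Nat.prime_three).1 h2'
  exact ⟨a, b, rfl⟩

include hω h0 h1 in
/-- a normal subgroup of order divisible by 19 is the whole group -/
theorem eq_top_of_dvd (N : Subgroup (threeJ3 F ω)) [hN : N.Normal] (h19 : 19 ∣ Nat.card N) :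
    N = ⊤ := by
  have hcard := card_eq ω hω h0 h1
  have : Fact (Nat.Prime 19) := ⟨by norm_num⟩
  have : Fact (Nat.Prime 17) := ⟨by norm_num⟩
  have : Fact (Nat.Prime 5) := ⟨by norm_num⟩
  obtain ⟨g, hg, ho⟩ := exists_orderOf_nineteen ω hω h0 h1
  have hmem := mem_of_prime_dvd N 19 h19 (by rw [hcard]; norm_num) g ho
  have h17 : 17 ∣ Nat.card N :=
    dvd_of_cert ω hω h0 h1 17 pow17 (dec_pow17 (toMat F ω) (toMat_mul4 F ω hω)) ⟨g, hmem, hg⟩ cert19a
  have h5 : 5 ∣ Nat.card N :=
    dvd_of_cert ω hω h0 h1 5 pow5 (dec_pow5 (toMat F ω) (toMat_mul4 F ω hω)) ⟨g, hmem, hg⟩ cert19b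
  have ha : 5 * 17 ∣ Nat.card N := Nat.Coprime.mul_dvd_of_dvd_of_dvd (by norm_num) h5 h17
  have hb : 5 * 17 * 19 ∣ Nat.card N := Nat.Coprime.mul_dvd_of_dvd_of_dvd (by norm_num) ha h19
  have hidx : N.index ∣ 2 ^ 7 * 3 ^ 6 := by
    obtain ⟨k, hk⟩ := hb
    have h := N.card_mul_index
    rw [hcard, hk] at h
    refine ⟨k, ?_⟩
    have h' : 5 * 17 * 19 * (k * N.index) = 5 * 17 * 19 * (2 ^ 7 * 3 ^ 6) := by
      rw [← mul_assoc, h]; norm_num
    have := Nat.eq_of_mul_eq_mul_left (by norm_num) h'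
    rw [← this, mul_comm]
  obtain ⟨a, b, hab⟩ := dvd_two_three hidx
  have hsolv : Group.IsSolvable (threeJ3 F ω ⧸ N) :=
    Cfsg.Agent.Helper24.isSolvable_of_card_eq_prime_pow_mul 2 3 a b Nat.prime_two Nat.prime_three
      (by rw [← hab]; rfl)
  by_contra hne
  have hnt : Nontrivial (threeJ3 F ω ⧸ N) := by
    rw [← not_subsingleton_iff_nontrivial]
    intro hs
    apply hne
    rw [eq_top_iff]
    intro x _
    have : (QuotientGroup.mk x : threeJ3 F ω ⧸ N) = QuotientGroup.mk 1 := Subsingleton.elim _ _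
    rw [QuotientGroup.eq, mul_one] at this
    have h2 := N.inv_mem this
    rwa [inv_inv] at h2
  have hlt := Group.IsSolvable.commutator_lt_top_of_nontrivial (threeJ3 F ω ⧸ N)
  apply ne_of_lt hlt
  have hsurj : Function.Surjective (QuotientGroup.mk' N) := QuotientGroup.mk'_surjective N
  rw [commutator_def, ← Subgroup.map_top_of_surjective _ hsurj, ← Subgroup.map_commutator,
    ← commutator_def, commutator_eq_top ω hω]

include hω h0 h1 in
theorem exists_Z : ∃ z : threeJ3 F ω, valHom ω z = toMat F ω Z1 ∧ z ∈ Subgroup.center (threeJ3 F ω) ∧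
    orderOf z = 3 ∧ valHom ω (z ^ 2) = toMat F ω Z2 := by
  have hmul := toMat_mul4 F ω hω
  obtain ⟨a, ha, ha1, ha2⟩ := exists_base_unit ω hω 0 (by norm_num)
  obtain ⟨b, hb, hb1, hb2⟩ := exists_base_unit ω hω 3 (by norm_num)
  have hz : valHom ω ⁅(⟨a, ha⟩ : threeJ3 F ω), ⟨b, hb⟩⁆ = toMat F ω Z1 := by
    rw [commutatorElement_def, map_mul, map_mul, map_mul]
    have e1 : valHom ω ⟨a, ha⟩ = toMat F ω (letters.getD 0 ONE) := ha1
    have e2 : valHom ω ⟨b, hb⟩ = toMat F ω (letters.getD 3 ONE) := hb1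
    have e3 : valHom ω (⟨a, ha⟩ : threeJ3 F ω)⁻¹ = toMat F ω (letters.getD (0 + 7) ONE) := ha2
    have e4 : valHom ω (⟨b, hb⟩ : threeJ3 F ω)⁻¹ = toMat F ω (letters.getD (3 + 7) ONE) := hb2
    rw [e1, e2, e3, e4, mul_assoc, ← hmul, ← hmul, ← hmul, relZ]
  refine ⟨_, hz, ?_, ?_, ?_⟩
  · rw [Subgroup.mem_center_iff]
    intro g
    apply valHom_injective ω
    rw [map_mul, map_mul, hz]
    have hC : Gm ω ≤ Submonoid.centralizer {toMat F ω Z1} := by
      rw [Gm_eq_Sxy ω hω]
      unfold Sxy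
      rw [Submonoid.closure_le]
      rintro _ ⟨c, hc, rfl⟩
      rw [← XYgens_eq, List.mem_map] at hc
      obtain ⟨w, _, rfl⟩ := hc
      apply dec_evL_mem (toMat F ω) hmul (toMat_ONE F ω)
      intro l
      rw [Submonoid.mem_centralizer_iff]
      intro m hm
      rw [Set.mem_singleton_iff] at hm
      subst hm
      rcases getD_mem_or' letters l ONE with hl | hl
      · have h := Z1_comm
        rw [List.all_eq_true] at h
        have h2 := eq_of_beq (h _ hl)
        rw [← hmul, ← hmul, h2]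
      · rw [hl, toMat_ONE, one_mul, mul_one]
    have := hC (valHom_mem_Gm ω g)
    rw [Submonoid.mem_centralizer_iff] at this
    exact (this _ (Set.mem_singleton _)).symm
  · have : Fact (Nat.Prime 3) := ⟨by norm_num⟩
    apply orderOf_of_check ω hω h0 h1 3 pow3 (dec_pow3 (toMat F ω) hmul) Z1 Z_lt.1 _ hz
    rw [pow3_eq, Z2_eq, Z3_eq]
    have := Z_ne
    rw [Bool.and_eq_true, Bool.and_eq_true] at this
    rw [Bool.and_eq_true]
    refine ⟨beq_self_eq_true _, ?_⟩
    have h3 := this.1.1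
    rw [bne_iff_ne] at h3
    simpa using h3
  · rw [map_pow, hz, pow_two, ← hmul, Z2_eq]

include hω h0 h1 in
/-- the centre consists of the scalar matrices -/
theorem mem_center_iff {g : threeJ3 F ω} :
    g ∈ Subgroup.center (threeJ3 F ω) ↔ IsScalarElt ω g := by
  obtain ⟨z, hz, hzc, hzo, hz2⟩ := exists_Z ω hω h0 h1
  constructor
  · intro hg
    rcases dichotomy ω hω h0 h1 (Subgroup.center (threeJ3 F ω)) with h19 | hs
    · exfalso
      have htop := eq_top_of_dvd ω hω h0 h1 _ h19
      have hcomm : commutator (threeJ3 F ω) = ⊥ := by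
        rw [commutator_def, Subgroup.commutator_eq_bot_iff_le_centralizer]
        intro x _
        rw [Subgroup.mem_centralizer_iff]
        intro y _
        have hy : y ∈ Subgroup.center (threeJ3 F ω) := by rw [htop]; exact Subgroup.mem_top _
        rw [Subgroup.mem_center_iff] at hy
        exact (hy x).symm
      rw [commutator_eq_top ω hω] at hcomm
      have hc := card_eq ω hω h0 h1
      have : Nat.card (threeJ3 F ω) = 1 := by
        rw [← Subgroup.card_top, hcomm, Subgroup.card_bot]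
      omega
    · exact hs g hg
  · rintro (h | h | h)
    · have : g = 1 := by
        apply valHom_injective ω
        rw [h, toMat_ONE, map_one]
      rw [this]; exact Subgroup.one_mem _
    · have : g = z := by
        apply valHom_injective ω
        rw [h, hz]
      rw [this]; exact hzc
    · have : g = z ^ 2 := by
        apply valHom_injective ω
        rw [h, hz2]
      rw [this]; exact Subgroup.pow_mem _ hzc 2

include hω h0 h1 in
theorem card_center : Nat.card (Subgroup.center (threeJ3 F ω)) = 3 := by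
  obtain ⟨z, hz, hzc, hzo, hz2⟩ := exists_Z ω hω h0 h1
  have : Subgroup.center (threeJ3 F ω) = Subgroup.zpowers z := by
    apply le_antisymm
    · intro g hg
      rcases (mem_center_iff ω hω h0 h1).1 hg with h | h | h
      · have : g = 1 := by
          apply valHom_injective ω
          rw [h, toMat_ONE, map_one]
        rw [this]; exact Subgroup.one_mem _
      · have : g = z := by
          apply valHom_injective ω
          rw [h, hz]
        rw [this]; exact Subgroup.mem_zpowers z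
      · have : g = z ^ 2 := by
          apply valHom_injective ω
          rw [h, hz2]
        rw [this]; exact Subgroup.pow_mem _ (Subgroup.mem_zpowers z) 2
    · rw [Subgroup.zpowers_le]; exact hzc
  rw [this, Nat.card_zpowers, hzo]

include hω h0 h1 in
theorem card_J3 : Nat.card (J3 F ω) = 50232960 := by
  have h := Subgroup.card_eq_card_quotient_mul_card_subgroup (Subgroup.center (threeJ3 F ω))
  rw [card_eq ω hω h0 h1, card_center ω hω h0 h1] at h
  have : Nat.card (threeJ3 F ω ⧸ Subgroup.center (threeJ3 F ω)) = 50232960 := by omega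
  exact this

include hω h0 h1 in
theorem simple_J3 : IsSimpleGroup (J3 F ω) := by
  have hnt : Nontrivial (J3 F ω) := by
    apply Finite.one_lt_card_iff_nontrivial.1
    rw [card_J3 ω hω h0 h1]; norm_num
  refine ⟨fun N' hN' => ?_⟩
  set N := N'.comap (QuotientGroup.mk' (Subgroup.center (threeJ3 F ω))) with hNdef
  have hN : N.Normal := hN'.comap _
  rcases dichotomy ω hω h0 h1 N with h19 | hs
  · right
    have htop := eq_top_of_dvd ω hω h0 h1 N h19
    rw [eq_top_iff]
    intro q _
    obtain ⟨g, rfl⟩ := QuotientGroup.mk'_surjective _ q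
    have : g ∈ N := by rw [htop]; exact Subgroup.mem_top _
    exact this
  · left
    rw [eq_bot_iff]
    intro q hq
    obtain ⟨g, rfl⟩ := QuotientGroup.mk'_surjective _ q
    have hg : g ∈ N := hq
    have hc : g ∈ Subgroup.center (threeJ3 F ω) := (mem_center_iff ω hω h0 h1).2 (hs g hg)
    rw [Subgroup.mem_bot, QuotientGroup.mk'_apply, QuotientGroup.eq_one_iff]
    exact hc

end field

end Cfsg.Agent.Helper14.J3
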