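import Cfsg.Agent.Helper14.PCore
import Cfsg.Agent.Helper14.Conj

set_option autoImplicit false
set_option linter.unusedSectionVars false

namespace Cfsg.Agent.Helper14

open Cfsg

variable {G : Type*} [Group G]

/-- if `u b u⁻¹ b⁻¹ = c` and `b` commutes with `c`, then `b^j u b^{-j} = c^{-j} u` -/
theorem conj_pow_of_commutator_commute (u b c : G) (hc : u * b * u⁻¹ * b⁻¹ = c) (hbc : Commute b c)
    (j : ℕ) : b ^ j * u * (b ^ j)⁻¹ = (c ^ j)⁻¹ * u := by
  have h1 : b * u * b⁻¹ = c⁻¹ * u := by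
    rw [← hc]; group
  induction j with
  | zero => simp
  | succ j ih =>
    have hbc' : Commute b (c ^ j)⁻¹ := (hbc.pow_right j).inv_right
    calc b ^ (j + 1) * u * (b ^ (j + 1))⁻¹
        = b * (b ^ j * u * (b ^ j)⁻¹) * b⁻¹ := by rw [pow_succ']; group
      _ = b * ((c ^ j)⁻¹ * u) * b⁻¹ := by rw [ih]
      _ = (b * (c ^ j)⁻¹) * u * b⁻¹ := by group
      _ = ((c ^ j)⁻¹ * b) * u * b⁻¹ := by rw [hbc'.eq]
      _ = (c ^ j)⁻¹ * (b * u * b⁻¹) := by group
      _ = (c ^ j)⁻¹ * (c⁻¹ * u) := by rw [h1]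
      _ = (c ^ (j + 1))⁻¹ * u := by rw [pow_succ]; group

/-- Stability lemma: an element stabilizing a chain of subgroups of exponent dividing `N`
has a power `a ^ (N ^ i)` centralizing the `i`-th term. -/
theorem stab_chain (a : G) (N n : ℕ) (C : ℕ → Subgroup G) (h0 : C 0 = ⊥)
    (hstep : ∀ i < n, ∀ u ∈ C (i + 1), ∀ k : ℕ, u * a ^ k * u⁻¹ * (a ^ k)⁻¹ ∈ C i)
    (hN : ∀ i ≤ n, ∀ c ∈ C i, c ^ N = 1) :
    ∀ i ≤ n, ∀ u ∈ C i, Commute (a ^ (N ^ i)) u := by
  intro i
  induction i with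
  | zero =>
    intro _ u hu
    rw [h0, Subgroup.mem_bot] at hu
    rw [hu]; exact Commute.one_right _
  | succ i ih =>
    intro hi u hu
    have hi' : i < n := hi
    set b := a ^ (N ^ i) with hb
    have hcmem := hstep i hi' u hu (N ^ i)
    rw [← hb] at hcmem
    set c := u * b * u⁻¹ * b⁻¹ with hc
    have hbc : Commute b c := ih hi'.le c hcmem
    have hcN : c ^ N = 1 := hN i hi'.le c hcmem
    have := conj_pow_of_commutator_commute u b c rfl hbc N
    rw [hcN, inv_one, one_mul] at this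
    have e : a ^ (N ^ (i + 1)) = b ^ N := by rw [hb, ← pow_mul, pow_succ]
    rw [e]
    show b ^ N * u = u * b ^ N
    calc b ^ N * u = (b ^ N * u * (b ^ N)⁻¹) * b ^ N := by group
      _ = u * b ^ N := by rw [this]

theorem mem_sectionKernel_iff {K N : Subgroup G} [N.Normal] (g : G) :
    g ∈ sectionKernel K N ↔ ∀ u ∈ K, u * g * u⁻¹ * g⁻¹ ∈ N := by
  unfold sectionKernel
  rw [Subgroup.mem_comap, Subgroup.mem_centralizer_iff]
  constructor
  · intro h u hu
    have := h (QuotientGroup.mk' N u) ⟨u, hu, rfl⟩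
    rw [← map_mul, ← map_mul] at this
    have h2 : (QuotientGroup.mk' N) (u * g) = (QuotientGroup.mk' N) (g * u) := this
    rw [QuotientGroup.mk'_apply, QuotientGroup.mk'_apply, QuotientGroup.eq] at h2
    -- (u g)⁻¹ (g u) ∈ N ; conjugate
    have h3 := ‹N.Normal›.conj_mem _ h2 (u * g)
    have h4 := N.inv_mem h3
    have e : (u * g * ((u * g)⁻¹ * (g * u)) * (u * g)⁻¹)⁻¹ = u * g * u⁻¹ * g⁻¹ := by group
    rwa [e] at h4
  · rintro h _ ⟨u, hu, rfl⟩
    rw [← map_mul, ← map_mul]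
    show (QuotientGroup.mk' N) (u * g) = (QuotientGroup.mk' N) (g * u)
    rw [QuotientGroup.mk'_apply, QuotientGroup.mk'_apply, QuotientGroup.eq]
    have h2 := h u hu
    have h3 := ‹N.Normal›.conj_mem _ (N.inv_mem h2) (u * g)⁻¹
    have e : (u * g)⁻¹ * (u * g * u⁻¹ * g⁻¹)⁻¹ * (u * g)⁻¹⁻¹ = (u * g)⁻¹ * (g * u) := by group
    rwa [e] at h3

theorem sectionKernel_normal {K N : Subgroup G} [N.Normal] [hK : K.Normal] :
    (sectionKernel K N).Normal := by
  unfold sectionKernel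
  have : (K.map (QuotientGroup.mk' N)).Normal :=
    Subgroup.Normal.map hK _ (QuotientGroup.mk'_surjective N)
  infer_instance

theorem card_pow_eq_one_of_mem {R : Subgroup G} [Finite ↥R] {c : G} (hc : c ∈ R) :
    c ^ Nat.card ↥R = 1 := by
  have : (⟨c, hc⟩ : ↥R) ^ Nat.card ↥R = 1 := pow_card_eq_one'
  exact congrArg Subtype.val this

end Cfsg.Agent.Helper14
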