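import Mathlib
import Cfsg.Prelude.Def_Characters
import Cfsg.Agent.Helper12.LSpWDefs
import Cfsg.Agent.Helper12.LSpWPDefs
import Cfsg.Agent.Helper12.LSLDefs
import Cfsg.Agent.Helper12.RUSpB
import Cfsg.Agent.Helper20.PermCharI
import Cfsg.Agent.Helper25.SpUH
import Cfsg.Agent.Helper12.WGDefs
import Cfsg.Agent.Helper12.WGDefsC
import Cfsg.Agent.Helper12.WGDefsD
import Cfsg.Agent.Helper12.WGStruct
import Cfsg.Agent.Helper18.LSLPROJA
import Cfsg.Agent.Helper18.LSLPROJB
import Cfsg.Agent.Helper18.LSLPROJC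
import Cfsg.Agent.Helper18.WGDUAL

set_option autoImplicit false

/-! # S2524 part B, piece KEY (helper14): a vector fixed by `US 𝒜` is fixed by `US S₀` -/

namespace Cfsg.Agent.S2524P

open Matrix Cfsg Cfsg.Agent.S2333P Cfsg.Agent.Helper2.Sp Cfsg.Agent.Helper12.LSp Cfsg.Agent.Helper25
open Cfsg.Agent.Helper12.LSL Cfsg.Agent.Helper20.PermChar

open scoped ComplexConjugate

variable {F : Type*} [Field F] [Fintype F]

/-- a nonzero isotypic projection has nonzero multiplicity -/
theorem KEY_spec_ne_zero (ψ : AddChar F ℂ) {n : ℕ} {V : Type*}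
    [AddCommGroup V] [Module ℂ V] [FiniteDimensional ℂ V]
    (ρ : Representation ℂ ↥(symplecticGroup (Fin n) F) V) (T : ↥(SymM n F)) (v : V)
    (hv : projOp ρ (US n F) (lamT ψ T) v ≠ 0) : spec ψ ρ.character T ≠ 0 := by
  intro h0
  have h1 : LinearMap.trace ℂ V (projOp ρ (US n F) (lamT ψ T)) = 0 := by
    rw [trace_projOp]
    exact h0
  have h2 := finrank_range_projOp ρ (US n F) (lamT ψ T)
  rw [h1] at h2
  have h3 : Module.finrank ℂ (LinearMap.range (projOp ρ (US n F) (lamT ψ T))) = 0 := by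
    exact_mod_cast h2
  rw [Submodule.finrank_eq_zero] at h3
  apply hv
  have hmem : projOp ρ (US n F) (lamT ψ T) v ∈ LinearMap.range (projOp ρ (US n F) (lamT ψ T)) :=
    LinearMap.mem_range_self _ v
  rw [h3] at hmem
  exact (Submodule.mem_bot ℂ).mp hmem

/-- **KEY**: a vector fixed by `US 𝒜` is fixed by `US S₀` -/
theorem key_fixed (h2 : (2 : F) ≠ 0) (ψ : AddChar F ℂ) (hψ : ψ ≠ 1) {n : ℕ} {V : Type*}
    [AddCommGroup V] [Module ℂ V] [FiniteDimensional ℂ V]
    (ρ : Representation ℂ ↥(symplecticGroup (Fin n) F) V)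
    (hrk : RankLeOne ψ (US n F) ρ.character) (𝒜 : ↥(SymM n F) → Prop) (S₀ : ↥(SymM n F))
    (hT : ∀ (c : F) (x : Fin n → F),
      (∀ S, 𝒜 S → ψ (Matrix.trace ((rk1 c x).1 * S.1)) = 1) →
        ψ (Matrix.trace ((rk1 c x).1 * S₀.1)) = 1)
    (v : V) (hv : ∀ S, 𝒜 S → ρ (US n F (Multiplicative.ofAdd S)) v = v) :
    ρ (US n F (Multiplicative.ofAdd S₀)) v = v := by
  classical
  have hsum : ∑ T : ↥(SymM n F), projOp ρ (US n F) (lamT ψ T) = LinearMap.id := by
    apply sum_projOp ρ (US n F) (fun T : ↥(SymM n F) => lamT ψ T)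
    · intro a ha
      have hY : Multiplicative.toAdd a ≠ 0 := by
        intro h
        apply ha
        exact h
      exact sum_lamT_eq_zero h2 ψ hψ (Multiplicative.toAdd a) hY
    · exact (Fintype.card_multiplicative _).symm
  have hvsum : v = ∑ T : ↥(SymM n F), projOp ρ (US n F) (lamT ψ T) v := by
    conv_lhs => rw [← LinearMap.id_apply (R := ℂ) v, ← hsum, LinearMap.sum_apply]
  have hcomm : ∀ (T S : ↥(SymM n F)),
      ρ (US n F (Multiplicative.ofAdd S)) ∘ₗ projOp ρ (US n F) (lamT ψ T) =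
        projOp ρ (US n F) (lamT ψ T) ∘ₗ ρ (US n F (Multiplicative.ofAdd S)) := by
    intro T S
    apply rho_conj_projOp ρ (US n F) (lamT ψ T) (lamT ψ T) _ (Equiv.refl _)
    · intro a
      rw [Equiv.refl_apply, ← map_mul, ← map_inv, ← map_mul, mul_comm, inv_mul_cancel_left]
    · intro a
      rfl
  have hterm : ∀ T : ↥(SymM n F),
      ρ (US n F (Multiplicative.ofAdd S₀)) (projOp ρ (US n F) (lamT ψ T) v) =
        projOp ρ (US n F) (lamT ψ T) v := by
    intro T
    by_cases hz : projOp ρ (US n F) (lamT ψ T) v = 0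
    · rw [hz, map_zero]
    · have hspec : spec ψ ρ.character T ≠ 0 := KEY_spec_ne_zero ψ ρ T v hz
      obtain ⟨c, x, hcx⟩ := hrk T hspec
      have heig : ∀ S : ↥(SymM n F),
          ρ (US n F (Multiplicative.ofAdd S)) (projOp ρ (US n F) (lamT ψ T) v) =
            lamT ψ T (Multiplicative.ofAdd S) • projOp ρ (US n F) (lamT ψ T) v := by
        intro S
        have := LinearMap.congr_fun
          (rho_comp_projOp ρ (US n F) (lamT ψ T) (Multiplicative.ofAdd S)) v
        rw [LinearMap.comp_apply, LinearMap.smul_apply] at this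
        exact this
      have h𝒜 : ∀ S, 𝒜 S → ψ (Matrix.trace ((rk1 c x).1 * S.1)) = 1 := by
        intro S hS
        have h1 := heig S
        have h2' := LinearMap.congr_fun (hcomm T S) v
        rw [LinearMap.comp_apply, LinearMap.comp_apply, hv S hS] at h2'
        rw [h2'] at h1
        have h3 : ((1 : ℂ) - lamT ψ T (Multiplicative.ofAdd S)) •
            projOp ρ (US n F) (lamT ψ T) v = 0 := by
          rw [sub_smul, one_smul, ← h1, sub_self]
        rcases smul_eq_zero.mp h3 with h | h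
        · rw [← hcx, ← lamT_apply]
          rw [sub_eq_zero] at h
          exact h.symm
        · exact absurd h hz
      have hS₀ := hT c x h𝒜
      rw [heig S₀, lamT_apply, hcx, hS₀, one_smul]
  conv_lhs => rw [hvsum, map_sum]
  conv_rhs => rw [hvsum]
  exact Finset.sum_congr rfl (fun T _ => hterm T)

end Cfsg.Agent.S2524P
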