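import Cfsg.Agent.Helper14.ExchCoxC
import Cfsg.Agent.Helper2.BN.Exchange

set_option autoImplicit false

/-!
# The Weyl group of a (B,N)-pair is a Coxeter group
-/

namespace Cfsg.Agent.Helper14.ExchCox

open Cfsg Cfsg.Agent.Helper2

variable {G : Type*} [Group G] (P : Cfsg.BNPair G) [hN : ((P.B ⊓ P.N).subgroupOf P.N).Normal]

/-- the distinguished generators of the Weyl group -/
def sgen (x : P.S) : P.N ⧸ (P.B ⊓ P.N).subgroupOf P.N :=
  QuotientGroup.mk ⟨(x : G), P.subset x.2⟩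

variable {P}

omit hN in
theorem mk_eq_mk_iff {n m : G} (hn : n ∈ P.N) (hm : m ∈ P.N) :
    (QuotientGroup.mk ⟨n, hn⟩ : P.N ⧸ (P.B ⊓ P.N).subgroupOf P.N) = QuotientGroup.mk ⟨m, hm⟩ ↔
      n⁻¹ * m ∈ BN.H P := by
  rw [QuotientGroup.eq, Subgroup.mem_subgroupOf]
  rfl

theorem mk_eq_one_iff {n : G} (hn : n ∈ P.N) :
    (QuotientGroup.mk ⟨n, hn⟩ : P.N ⧸ (P.B ⊓ P.N).subgroupOf P.N) = 1 ↔ n ∈ BN.H P := by
  rw [QuotientGroup.eq_one_iff, Subgroup.mem_subgroupOf]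
  rfl

theorem mk_mul {n m : G} (hn : n ∈ P.N) (hm : m ∈ P.N) :
    (QuotientGroup.mk ⟨n * m, P.N.mul_mem hn hm⟩ : P.N ⧸ (P.B ⊓ P.N).subgroupOf P.N) =
      QuotientGroup.mk ⟨n, hn⟩ * QuotientGroup.mk ⟨m, hm⟩ := rfl

theorem word_of_reach : ∀ (k : ℕ) (n : G) (hn : n ∈ P.N), n ∈ BN.Reach P P.S k →
    ∃ l : List P.S, l.length = k ∧ wp (sgen P) l = QuotientGroup.mk ⟨n, hn⟩ := by
  intro k
  induction k with
  | zero =>
    intro n hn hr
    refine ⟨[], rfl, ?_⟩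
    rw [wp_nil]
    exact ((mk_eq_one_iff hn).mpr hr).symm
  | succ k ih =>
    intro n hn hr
    obtain ⟨r, m, ⟨x, hx, hxr⟩, hm, rfl⟩ := hr
    have hmN : m ∈ P.N := BN.reach_mem_N (subset_refl _) hm
    have hxN : x ∈ P.N := P.subset hx
    have hrN : r ∈ P.N := by
      have : r = x * (x⁻¹ * r) := by group
      rw [this]; exact P.N.mul_mem hxN hxr.2
    obtain ⟨l, hl, hl'⟩ := ih m hmN hm
    refine ⟨⟨x, hx⟩ :: l, by rw [List.length_cons, hl], ?_⟩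
    rw [wp_cons, hl']
    have e1 : sgen P ⟨x, hx⟩ = QuotientGroup.mk ⟨r, hrN⟩ := (mk_eq_mk_iff hxN hrN).mpr hxr
    rw [e1]
    rfl

theorem reach_of_word : ∀ (l : List P.S) (n : G) (hn : n ∈ P.N),
    wp (sgen P) l = QuotientGroup.mk ⟨n, hn⟩ → n ∈ BN.Reach P P.S l.length := by
  intro l
  induction l with
  | nil =>
    intro n hn h
    rw [wp_nil] at h
    exact (mk_eq_one_iff hn).mp h.symm
  | cons x l ih =>
    intro n hn h
    rw [wp_cons] at h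
    have hxN : (x : G) ∈ P.N := P.subset x.2
    have hmN : (x : G)⁻¹ * n ∈ P.N := P.N.mul_mem (P.N.inv_mem hxN) hn
    have h2 : wp (sgen P) l = QuotientGroup.mk ⟨(x : G)⁻¹ * n, hmN⟩ := by
      have e : (QuotientGroup.mk ⟨(x : G)⁻¹ * n, hmN⟩ : P.N ⧸ (P.B ⊓ P.N).subgroupOf P.N) =
          (sgen P x)⁻¹ * QuotientGroup.mk ⟨n, hn⟩ := rfl
      rw [e, ← h, inv_mul_cancel_left]
    have := ih _ hmN h2
    exact ⟨(x : G), (x : G)⁻¹ * n, BN.simple_of_mem x.2, this, by group⟩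

theorem len_eq {n : G} (hn : n ∈ P.N) :
    len (sgen P) (QuotientGroup.mk ⟨n, hn⟩) = BN.len P P.S n := by
  have hNJ : n ∈ BN.NJ P P.S := by rw [BN.NJ_S_eq]; exact hn
  apply le_antisymm
  · obtain ⟨l, hl, hl'⟩ := word_of_reach _ n hn (BN.mem_reach_len (subset_refl _) hNJ)
    rw [← hl, ← hl']
    exact len_wp_le _ l
  · have hne : {k | ∃ l : List P.S, l.length = k ∧
        wp (sgen P) l = QuotientGroup.mk ⟨n, hn⟩}.Nonempty := by
      obtain ⟨l, hl, hl'⟩ := word_of_reach _ n hn (BN.mem_reach_len (subset_refl _) hNJ)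
      exact ⟨_, l, hl, hl'⟩
    obtain ⟨l, hl1, hl2⟩ := Nat.sInf_mem hne
    have := reach_of_word l n hn hl2
    rw [hl1] at this
    exact BN.len_le this

theorem sgen_injective : Function.Injective (sgen P) := by
  intro x y hxy
  have := (mk_eq_mk_iff (P.subset x.2) (P.subset y.2)).mp hxy
  exact Subtype.ext (P.inj x x.2 y y.2 this.1)

theorem hyp_sgen : Hyp (sgen P) where
  sq x := (mk_eq_one_iff (P.N.mul_mem (P.subset x.2) (P.subset x.2))).mpr (BN.sq_mem_H x.2)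
  ne_one x := by
    intro h
    have := (mk_eq_one_iff (P.subset x.2)).mp h
    exact BN.not_mem_B_of_mem_S x.2 this.1
  gen w := by
    obtain ⟨⟨n, hn⟩, rfl⟩ := QuotientGroup.mk_surjective w
    have hNJ : n ∈ BN.NJ P P.S := by rw [BN.NJ_S_eq]; exact hn
    obtain ⟨l, _, hl'⟩ := word_of_reach _ n hn (BN.mem_reach_len (subset_refl _) hNJ)
    exact ⟨l, hl'⟩
  fold u r t h1 h3 := by
    obtain ⟨⟨n, hn⟩, rfl⟩ := QuotientGroup.mk_surjective u
    have hrN : (r : G) ∈ P.N := P.subset r.2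
    have htN : (t : G) ∈ P.N := P.subset t.2
    have e1 : sgen P r * QuotientGroup.mk ⟨n, hn⟩ =
        QuotientGroup.mk ⟨(r : G) * n, P.N.mul_mem hrN hn⟩ := rfl
    have e2 : (QuotientGroup.mk ⟨n, hn⟩ : P.N ⧸ (P.B ⊓ P.N).subgroupOf P.N) * sgen P t =
        QuotientGroup.mk ⟨n * (t : G), P.N.mul_mem hn htN⟩ := rfl
    have e3 : sgen P r * QuotientGroup.mk ⟨n * (t : G), P.N.mul_mem hn htN⟩ =
        QuotientGroup.mk ⟨(r : G) * (n * (t : G)), P.N.mul_mem hrN (P.N.mul_mem hn htN)⟩ := rfl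
    rw [e1, len_eq, len_eq] at h1
    rw [e2, e3, len_eq, len_eq] at h3
    rw [e1, e2]
    exact (mk_eq_mk_iff _ _).mpr
      (BN.exchange_key hn (BN.simple_of_mem r.2) (BN.simple_of_mem t.2) h1 h3)

variable (P)

/-- The Weyl group of a (B,N)-pair is a Coxeter group on its distinguished involutions. -/
theorem weyl_coxeter :
    ∃ (M : CoxeterMatrix P.S) (cs : CoxeterSystem M (P.N ⧸ (P.B ⊓ P.N).subgroupOf P.N)),
      ∀ s : P.S, cs.simple s = QuotientGroup.mk (⟨(s : G), P.subset s.2⟩ : P.N) :=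
  exists_coxeterSystem hyp_sgen sgen_injective

end Cfsg.Agent.Helper14.ExchCox
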