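import Cfsg.Agent.Helper14.SylSn3

/-!
# Derived series of subgroups, as subgroups of the ambient group
-/

set_option autoImplicit false

namespace Cfsg.Agent.Helper14.SylSn

variable {G : Type*} [Group G] {G' : Type*} [Group G']

/-- derived series of a subgroup, as subgroups of the ambient group -/
def dS (H : Subgroup G) : ℕ → Subgroup G
  | 0 => H
  | j + 1 => ⁅dS H j, dS H j⁆

@[simp] theorem dS_zero (H : Subgroup G) : dS H 0 = H := rfl

theorem dS_succ (H : Subgroup G) (j : ℕ) : dS H (j + 1) = ⁅dS H j, dS H j⁆ := rfl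

theorem dS_mono {H K : Subgroup G} (h : H ≤ K) (j : ℕ) : dS H j ≤ dS K j := by
  induction j with
  | zero => exact h
  | succ j ih => exact Subgroup.commutator_mono ih ih

theorem dS_le (H : Subgroup G) (j : ℕ) : dS H j ≤ H := by
  induction j with
  | zero => exact le_rfl
  | succ j ih =>
    rw [dS_succ]
    exact (Subgroup.commutator_mono ih ih).trans (Subgroup.commutator_le_self H)

theorem dS_top (j : ℕ) : dS (⊤ : Subgroup G) j = derivedSeries G j := by
  induction j with
  | zero => rfl
  | succ j ih => rw [dS_succ, ih, derivedSeries_succ]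

theorem dS_add (H : Subgroup G) (i j : ℕ) : dS (dS H i) j = dS H (i + j) := by
  induction j with
  | zero => rfl
  | succ j ih => rw [dS_succ, ih, ← add_assoc, dS_succ]

theorem dS_map (f : G →* G') (H : Subgroup G) (j : ℕ) : (dS H j).map f = dS (H.map f) j := by
  induction j with
  | zero => rfl
  | succ j ih => rw [dS_succ, Subgroup.map_commutator, ih, dS_succ]

theorem dS_subtype (H : Subgroup G) (j : ℕ) : (derivedSeries ↥H j).map H.subtype = dS H j := by
  rw [← dS_top, dS_map, ← MonoidHom.range_eq_map, Subgroup.range_subtype]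

theorem derivedSeries_eq_bot_iff (H : Subgroup G) (j : ℕ) :
    derivedSeries ↥H j = ⊥ ↔ dS H j = ⊥ := by
  rw [← dS_subtype]
  constructor
  · intro h; rw [h, Subgroup.map_bot]
  · intro h
    exact (Subgroup.map_eq_bot_iff_of_injective _ H.subtype_injective).mp h

theorem dS_bot_of_le {H K : Subgroup G} (h : H ≤ K) {j : ℕ} (hK : dS K j = ⊥) : dS H j = ⊥ :=
  le_bot_iff.mp ((dS_mono h j).trans hK.le)

theorem dS_map_eq_bot_iff (f : G →* G') (hf : Function.Injective f) (H : Subgroup G) (j : ℕ) :
    dS (H.map f) j = ⊥ ↔ dS H j = ⊥ := by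
  rw [← dS_map, Subgroup.map_eq_bot_iff_of_injective _ hf]

end Cfsg.Agent.Helper14.SylSn
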