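import Cfsg.Agent.Helper14.SylSn4

/-!
# Derived length of the recursive Sylow subgroup: upper bound
-/

set_option autoImplicit false
set_option linter.unusedSectionVars false

namespace Cfsg.Agent.Helper14.SylSn

open Equiv
open scoped Pointwise

variable (p : ℕ) [Fact p.Prime] {B : Type*} [Fintype B] [DecidableEq B]

theorem wr_mul_form (f f' : Multiplicative (B → ZMod p)) (τ τ' : Perm B) :
    base p f * sec p τ * (base p f' * sec p τ') =
      base p (f * twist p τ f') * sec p (τ * τ') := by
  rw [map_mul, map_mul]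
  calc base p f * sec p τ * (base p f' * sec p τ')
      = base p f * (sec p τ * base p f') * sec p τ' := by group
    _ = base p f * (base p (twist p τ f') * sec p τ) * sec p τ' := by rw [sec_mul_base]
    _ = base p f * base p (twist p τ f') * (sec p τ * sec p τ') := by group

theorem wr_inv_form (f : Multiplicative (B → ZMod p)) (τ : Perm B) :
    (base p f * sec p τ)⁻¹ = base p (twist p τ⁻¹ f⁻¹) * sec p τ⁻¹ := by
  rw [← sec_mul_base, mul_inv_rev, map_inv, map_inv]

theorem commutator_wr_le (S : Subgroup (Perm B)) : ⁅wr p S, wr p S⁆ ≤ wr p ⁅S, S⁆ := by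
  rw [Subgroup.commutator_le]
  rintro _ ⟨f, τ, hτ, rfl⟩ _ ⟨f', τ', hτ', rfl⟩
  rw [commutatorElement_def, wr_inv_form, wr_inv_form, wr_mul_form, wr_mul_form, wr_mul_form]
  exact ⟨_, _, Subgroup.commutator_mem_commutator hτ hτ', rfl⟩

theorem wr_mono {S S' : Subgroup (Perm B)} (h : S ≤ S') : wr p S ≤ wr p S' := by
  rintro _ ⟨f, τ, hτ, rfl⟩
  exact ⟨f, τ, h hτ, rfl⟩

theorem dS_wr_le (R : Subgroup (Perm B)) (j : ℕ) : dS (wr p R) j ≤ wr p (dS R j) := by
  induction j with
  | zero => exact le_rfl
  | succ j ih =>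
    rw [dS_succ, dS_succ]
    exact (Subgroup.commutator_mono ih ih).trans (commutator_wr_le p _)

theorem commutator_wr_bot :
    ⁅wr p (⊥ : Subgroup (Perm B)), wr p (⊥ : Subgroup (Perm B))⁆ = ⊥ := by
  rw [eq_bot_iff, Subgroup.commutator_le]
  rintro _ ⟨f, τ, hτ, rfl⟩ _ ⟨f', τ', hτ', rfl⟩
  rw [Subgroup.mem_bot] at hτ hτ'
  subst hτ hτ'
  rw [map_one, mul_one, mul_one]
  have hc : Commute (base p f) (base p f') := by
    show base p f * base p f' = base p f' * base p f
    rw [← map_mul, ← map_mul, mul_comm]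
  rw [commutatorElement_eq_one_iff_commute.mpr hc]
  exact Subgroup.one_mem _

theorem dS_wr_succ_eq_bot {R : Subgroup (Perm B)} {d : ℕ} (h : dS R d = ⊥) :
    dS (wr p R) (d + 1) = ⊥ := by
  rw [dS_succ, eq_bot_iff]
  have h1 : dS (wr p R) d ≤ wr p ⊥ := by
    have := dS_wr_le p R d
    rwa [h] at this
  exact (Subgroup.commutator_mono h1 h1).trans (commutator_wr_bot p).le

theorem exists_sylow_dS : ∀ n : ℕ, ∃ R : Subgroup (Perm (Fin n)),
    Nat.card R = p ^ padicValNat p n.factorial ∧ dS R (Nat.log p n) = ⊥ := by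
  intro n
  induction n using Nat.strong_induction_on with
  | _ n ih =>
    have hp := (Fact.out : p.Prime)
    by_cases hnp : n < p
    · refine ⟨⊥, ?_, ?_⟩
      · have : padicValNat p n.factorial = 0 := by
          apply padicValNat.eq_zero_of_not_dvd
          rw [hp.dvd_factorial]
          omega
        rw [this, pow_zero]
        exact Subgroup.card_bot
      · exact le_bot_iff.mp (dS_le _ _)
    · push Not at hnp
      have hp2 := hp.two_le
      have hm : n / p < n := Nat.div_lt_self (by omega) (by omega)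
      obtain ⟨Rm, hRm, hd⟩ := ih (n / p) hm
      have hr : n % p < p := Nat.mod_lt _ hp.pos
      have hcard : Fintype.card ((Fin (n / p) × ZMod p) ⊕ Fin (n % p)) = Fintype.card (Fin n) := by
        rw [Fintype.card_sum, Fintype.card_prod, Fintype.card_fin, Fintype.card_fin, ZMod.card,
          Fintype.card_fin]
        exact Nat.div_add_mod' n p
      let e : (Fin (n / p) × ZMod p) ⊕ Fin (n % p) ≃ Fin n := Fintype.equivOfCardEq hcard
      refine ⟨(wr p Rm).map (jj e), ?_, ?_⟩
      · rw [Subgroup.card_map_of_injective (jj_injective e), card_wr, hRm, Fintype.card_fin,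
          ← pow_add]
        congr 1
        have h1 : n = p * (n / p) + n % p := (Nat.div_add_mod n p).symm
        conv_rhs => rw [h1]
        rw [padicValNat_factorial_mul_add _ hr, padicValNat_factorial_mul]
        ring
      · rw [Nat.log_of_one_lt_of_le (by omega) hnp, ← dS_map, dS_wr_succ_eq_bot p hd,
          Subgroup.map_bot]

/-- upper bound for the derived length of a Sylow subgroup of `S_n` -/
theorem sylow_perm_dS_eq_bot (n : ℕ) (P : Sylow p (Perm (Fin n))) :
    dS (P : Subgroup (Perm (Fin n))) (Nat.log p n) = ⊥ := by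
  obtain ⟨R, hR, hd⟩ := exists_sylow_dS p n
  have hc : Nat.card R = p ^ (Nat.card (Perm (Fin n))).factorization p := by
    rw [hR, Nat.card_perm, Nat.card_fin, Nat.factorization_def _ Fact.out]
  obtain ⟨g, hg⟩ := MulAction.exists_smul_eq (Perm (Fin n)) (Sylow.ofCard R hc) P
  have : (P : Subgroup (Perm (Fin n))) = R.map (MulAut.conj g).toMonoidHom := by
    rw [← hg]
    rfl
  rw [this, ← dS_map, hd, Subgroup.map_bot]

end Cfsg.Agent.Helper14.SylSn
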