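import Cfsg.Agent.Helper22.S1589Basic

/-! S1589 piece FOURTRANS: the pointwise stabiliser in `M24` of three points is transitive on the
other points. -/

set_option autoImplicit false
set_option linter.all false

namespace Cfsg.Agent.S1589P

open Cfsg Cfsg.Agent.Helper27 Cfsg.Agent.Helper17.M23Idx
open scoped Pointwise

namespace FOURTRANS

theorem injective_four {f0 f1 f2 a : GolayPt} (h01 : f0 ≠ f1) (h02 : f0 ≠ f2) (h12 : f1 ≠ f2)
    (h0 : a ≠ f0) (h1 : a ≠ f1) (h2 : a ≠ f2) :
    Function.Injective (![f0, f1, f2, a] : Fin 4 → GolayPt) := by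
  intro i j h
  fin_cases i <;> fin_cases j <;> simp_all [Ne.symm]

end FOURTRANS

/-- FOURTRANS -/
theorem fixG_three_trans {F : Finset GolayPt} (hF : F.card = 3) {a b : GolayPt} (ha : a ∉ F) (hb : b ∉ F) :
    ∃ h ∈ fixG F, h a = b := by
  obtain ⟨f0, f1, f2, h01, h02, h12, rfl⟩ := Finset.card_eq_three.mp hF
  simp only [Finset.mem_insert, Finset.mem_singleton, not_or] at ha hb
  obtain ⟨g, hg, hgx⟩ := exists_M24_map_k (k := 4) (by norm_num) ![f0, f1, f2, a] ![f0, f1, f2, b]
    (FOURTRANS.injective_four h01 h02 h12 ha.1 ha.2.1 ha.2.2)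
    (FOURTRANS.injective_four h01 h02 h12 hb.1 hb.2.1 hb.2.2)
  refine ⟨g, ?_, ?_⟩
  · rw [mem_fixG]
    refine ⟨hg, ?_⟩
    intro q hq
    simp only [Finset.mem_insert, Finset.mem_singleton] at hq
    rcases hq with rfl | rfl | rfl
    · exact hgx 0
    · exact hgx 1
    · exact hgx 2
  · exact hgx 3

end Cfsg.Agent.S1589P
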