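import Cfsg.Agent.Helper22.S1589Basic
import Cfsg.Agent.Helper17.M23Idx.Final

/-! S1589 piece PERM253: the permutation-level form of S1609 (subgroups of index 253 of `M23`). -/

set_option autoImplicit false
set_option linter.all false

namespace Cfsg.Agent.S1589P

open Cfsg Cfsg.Agent.Helper27 Cfsg.Agent.Helper17.M23Idx
open scoped Pointwise

variable {K : Subgroup (Equiv.Perm GolayPt)}

/-- PERM253 -/
theorem perm253 (hM : K ≤ M24) {x : GolayPt} (hx : ∀ k ∈ K, k x = x) (hcard : Nat.card K = 40320) :
    (∃ s : Finset GolayPt, s.card = 2 ∧ x ∉ s ∧ (∀ k ∈ K, k • s = s) ∧ fixG (insert x s) ≤ K) ∨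
    (∃ o ∈ octads, x ∈ o ∧ (∀ k ∈ K, k • o = o) ∧ fixG o ≤ K) := by
  classical
  haveI : Finite ↥(MulAction.stabilizer Cfsg.M24 x) :=
    Nat.finite_of_card_ne_zero (by rw [card_stabilizer_M24]; norm_num)
  -- the subgroup of the point stabiliser
  have hrange : K ≤ (cHom x).range := by
    intro k hk
    exact ⟨liftS x k (hM hk) (hx k hk), rfl⟩
  have hmap : (K.comap (cHom x)).map (cHom x) = K := Subgroup.map_comap_eq_self hrange
  have hcardH : Nat.card (K.comap (cHom x)) = 40320 := by
    rw [← Subgroup.card_map_of_injective (cHom_injective x), hmap, hcard]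
  have hidx : (K.comap (cHom x)).index = 253 := by
    have h1 := Subgroup.card_mul_index (K.comap (cHom x))
    rw [hcardH, card_stabilizer_M24] at h1
    omega
  -- membership in `K` through the lift
  have hmemK : ∀ (h : Equiv.Perm GolayPt) (hhM : h ∈ M24) (hhx : h x = x),
      liftS x h hhM hhx ∈ K.comap (cHom x) → h ∈ K := by
    intro h hhM hhx hmem
    exact hmem
  rcases main x (K.comap (cHom x)) hidx with ⟨s, hs, hxs, hH⟩ | ⟨o, ho, hxo, hH⟩
  · left
    refine ⟨s, hs, hxs, ?_, ?_⟩
    · intro k hk
      have h1 : liftS x k (hM hk) (hx k hk) ∈ K.comap (cHom x) := hk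
      rw [hH, Subgroup.mem_subgroupOf, MulAction.mem_stabilizer_iff] at h1
      exact h1
    · intro h hh
      rw [mem_fixG] at hh
      obtain ⟨hhM, hfix⟩ := hh
      have hhx : h x = x := hfix x (Finset.mem_insert_self x s)
      apply hmemK h hhM hhx
      rw [hH, Subgroup.mem_subgroupOf, MulAction.mem_stabilizer_iff]
      show h • s = s
      apply smul_eq_of_maps
      intro p hp
      rw [hfix p (Finset.mem_insert_of_mem hp)]
      exact hp
  · right
    refine ⟨o, ho, hxo, ?_, ?_⟩
    · intro k hk
      have h1 : liftS x k (hM hk) (hx k hk) ∈ K.comap (cHom x) := hk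
      rw [hH, Subgroup.mem_subgroupOf, MulAction.mem_stabilizer_iff] at h1
      exact h1
    · intro h hh
      rw [mem_fixG] at hh
      obtain ⟨hhM, hfix⟩ := hh
      have hhx : h x = x := hfix x hxo
      apply hmemK h hhM hhx
      rw [hH, Subgroup.mem_subgroupOf, MulAction.mem_stabilizer_iff]
      show h • o = o
      apply smul_eq_of_maps
      intro p hp
      rw [hfix p hp]
      exact hp

end Cfsg.Agent.S1589P
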