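import Mathlib
import Cfsg.Agent.Helper11.S4409Defs

/-! Board `s4409pieces`, row CYCAUT. -/

set_option autoImplicit false
set_option linter.unusedVariables false

namespace Cfsg.Agent.S4409P

open Subgroup
open scoped commutatorElement

variable {S : Type*} [Group S] [Finite S]

/-- CYCAUT : a group of odd order normalising a cyclic `2`-group centralises it (`Aut` of a cyclic `2`-group is a `2`-group). -/
theorem comm_eq_bot_of_cyclic (B K : Subgroup S) (hB : IsPGroup 2 ↥B) (hcyc : IsCyclic ↥B)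
    (hK : Odd (Nat.card ↥K)) (hKB : K ≤ normalizer (B : Set S)) : ⁅B, K⁆ = ⊥ := by
  have : Fact (Nat.Prime 2) := ⟨Nat.prime_two⟩
  let f : ↥K →* MulAut ↥B := B.normalizerMonoidHom.comp (Subgroup.inclusion hKB)
  -- the order of the range divides `|K|` and `|Aut B|`
  have h1 : Nat.card ↥f.range ∣ Nat.card ↥K := Subgroup.card_range_dvd f
  have h2 : Nat.card ↥f.range ∣ Nat.card (MulAut ↥B) := Subgroup.card_subgroup_dvd_card _
  obtain ⟨n, hn⟩ := hB.exists_card_eq
  have h3 : ∃ m : ℕ, Nat.card (MulAut ↥B) = 2 ^ m := by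
    rw [IsCyclic.card_mulAut, hn]
    rcases Nat.eq_zero_or_pos n with h0 | h0
    · exact ⟨0, by rw [h0, pow_zero, Nat.totient_one]⟩
    · exact ⟨n - 1, by rw [Nat.totient_prime_pow Nat.prime_two h0]; simp⟩
  obtain ⟨m, hm⟩ := h3
  rw [hm] at h2
  have h4 : Nat.card ↥f.range = 1 := by
    obtain ⟨j, -, hj⟩ := (Nat.dvd_prime_pow Nat.prime_two).mp h2
    rcases Nat.eq_zero_or_pos j with h0 | h0
    · rw [hj, h0, pow_zero]
    · exfalso
      have h5 : 2 ∣ Nat.card ↥K := by
        refine dvd_trans ?_ h1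
        rw [hj]; exact dvd_pow_self 2 h0.ne'
      exact (Nat.not_even_iff_odd.mpr hK) (even_iff_two_dvd.mpr h5)
  have h5 : f.range = ⊥ := Subgroup.card_eq_one.mp h4
  have h6 : K ≤ centralizer (B : Set S) := by
    intro k hk
    have h7 : f ⟨k, hk⟩ = 1 := by
      have : f ⟨k, hk⟩ ∈ f.range := ⟨_, rfl⟩
      rwa [h5, Subgroup.mem_bot] at this
    have h8 : Subgroup.inclusion hKB ⟨k, hk⟩ ∈ B.normalizerMonoidHom.ker := MonoidHom.mem_ker.mpr h7
    rw [normalizerMonoidHom_ker, mem_subgroupOf] at h8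
    exact h8
  rw [Subgroup.commutator_comm, Subgroup.commutator_eq_bot_iff_le_centralizer]
  exact h6

end Cfsg.Agent.S4409P
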