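import Mathlib
import Cfsg.Agent.Helper11.S4409Defs

/-! Board `s4409pieces`, row TB1, stub-free core: the rows F1, F7, V2, V3, STEP0 enter as (instantiated) hypotheses. -/

set_option autoImplicit false
set_option linter.unusedVariables false
set_option linter.unusedSectionVars false

namespace Cfsg.Agent.S4409P

open Subgroup
open scoped commutatorElement

variable {S : Type*} [Group S] [Finite S]

/-- `K ≤ N(X)`, `K ≤ N(Y)` ⇒ `K ≤ N(X ∩ C(Y))` -/
theorem TB1_aux_norm_inf_cent (X Y K : Subgroup S) (hKX : K ≤ normalizer (X : Set S))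
    (hKY : K ≤ normalizer (Y : Set S)) : K ≤ normalizer ((X ⊓ centralizer (Y : Set S) : Subgroup S) : Set S) := by
  intro k hk
  have h1 := hKX hk
  have h2 := hKY hk
  rw [mem_normalizer_iff] at h1 h2 ⊢
  intro x
  rw [mem_inf, mem_inf, ← h1 x]
  have h3 : x ∈ centralizer (Y : Set S) ↔ k * x * k⁻¹ ∈ centralizer (Y : Set S) := by
    rw [mem_centralizer_iff, mem_centralizer_iff]
    constructor
    · intro hx y hy
      have hy' : k⁻¹ * y * k ∈ Y := by
        have := (h2 (k⁻¹ * y * k)).mpr (by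
          have e : k * (k⁻¹ * y * k) * k⁻¹ = y := by group
          rw [e]; exact hy)
        exact this
      have := hx _ hy'
      calc y * (k * x * k⁻¹) = k * ((k⁻¹ * y * k) * x) * k⁻¹ := by group
        _ = k * (x * (k⁻¹ * y * k)) * k⁻¹ := by rw [this]
        _ = k * x * k⁻¹ * y := by group
    · intro hx y hy
      have hy' : k * y * k⁻¹ ∈ Y := (h2 y).mp hy
      have := hx _ hy'
      calc y * x = k⁻¹ * ((k * y * k⁻¹) * (k * x * k⁻¹)) * k := by group
        _ = k⁻¹ * ((k * x * k⁻¹) * (k * y * k⁻¹)) * k := by rw [this]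
        _ = x * y := by group
  rw [h3]

/-- `K ≤ N(X)` ⇒ `K ≤ N(X')` -/
theorem TB1_aux_norm_der (X K : Subgroup S) (hKX : K ≤ normalizer (X : Set S)) :
    K ≤ normalizer ((Der X : Subgroup S) : Set S) := by
  intro k hk
  have h1 := hKX hk
  have hmap : X.map (MulAut.conj k).toMonoidHom = X := by
    apply le_antisymm
    · rintro _ ⟨x, hx, rfl⟩
      exact (mem_normalizer_iff.mp h1 x).mp hx
    · intro x hx
      refine ⟨k⁻¹ * x * k, ?_, by simp [MulAut.conj_apply]; group⟩
      have := (mem_normalizer_iff.mp h1 (k⁻¹ * x * k)).mpr (by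
        have e : k * (k⁻¹ * x * k) * k⁻¹ = x := by group
        rw [e]; exact hx)
      exact this
  have h2 : (Der X).map (MulAut.conj k).toMonoidHom = Der X := by
    unfold Der
    rw [Subgroup.map_commutator, hmap]
  rw [mem_normalizer_iff]
  intro x
  constructor
  · intro hx
    have : k * x * k⁻¹ ∈ (Der X).map (MulAut.conj k).toMonoidHom := ⟨x, hx, by simp [MulAut.conj_apply]⟩
    rwa [h2] at this
  · intro hx
    rw [← h2] at hx
    obtain ⟨y, hy, he⟩ := hx
    have : y = x := by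
      have he' : k * y * k⁻¹ = k * x * k⁻¹ := by simpa [MulAut.conj_apply] using he
      have := congrArg (fun z => k⁻¹ * z * k) he'
      simpa [mul_assoc] using this
    rwa [← this]

/-- TB1, core -/
theorem tcore_b1_core (X K Y : Subgroup S) (hKX : K ≤ normalizer (X : Set S))
    (hna : ¬ IsAb X)
    (hY1 : Fr X ≤ Y) (hY2 : Y ≤ X) (hY4 : K ≤ normalizer (Y : Set S))
    (hY5 : ∀ H : Subgroup S, Y ≤ H → H ≤ X → K ≤ normalizer (H : Set S) → H = Y ∨ H = X)
    (hYV : IsV4 Y)
    (hF1 : Der X ≤ Fr X)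
    (hV3 : X ≤ centralizer (Y : Set S) ∨ (X ⊓ centralizer (Y : Set S)).relIndex X = 2)
    (hSTEP0 : ∀ H : Subgroup S, H ≤ X → K ≤ normalizer (H : Set S) → H.relIndex X = 2 → False)
    (hV2 : ∀ H : Subgroup S, H ≤ Y → K ≤ normalizer (H : Set S) → H = ⊥ ∨ H = Y) :
    SpecialInt X ∧ Nat.card ↥(Zc X) = 4 := by
  -- `X` centralises `Y`
  have hXC : X ≤ centralizer (Y : Set S) := by
    rcases hV3 with h | h
    · exact h
    · exact (hSTEP0 _ inf_le_left (TB1_aux_norm_inf_cent X Y K hKX hY4) h).elim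
  -- `Y ≤ Z(X)`
  have hYZ : Y ≤ Zc X := by
    intro y hy
    rw [mem_Zc]
    refine ⟨hY2 hy, fun x hx => ?_⟩
    exact (mem_centralizer_iff.mp (hXC hx) y hy).symm
  -- `Z(X)` is `K`-invariant
  have hKZ : K ≤ normalizer ((Zc X : Subgroup S) : Set S) := TB1_aux_norm_inf_cent X X K hKX hKX
  have hZ : Zc X = Y := by
    rcases hY5 (Zc X) hYZ (Zc_le X) hKZ with h | h
    · exact h
    · exfalso
      apply hna
      intro x hx y hy
      have hx' : x ∈ Zc X := by rw [h]; exact hx
      exact ((mem_Zc.mp hx').2 y hy).symm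
  -- `X' = Y`
  have hD : Der X = Y := by
    rcases hV2 (Der X) (hF1.trans hY1) (TB1_aux_norm_der X K hKX) with h | h
    · exfalso
      apply hna
      intro x hx y hy
      have h1 : ⁅x, y⁆ ∈ Der X := Subgroup.commutator_mem_commutator hx hy
      rw [h, mem_bot, commutatorElement_def] at h1
      have : x * y = (x * y * x⁻¹ * y⁻¹) * (y * x) := by group
      rw [this, h1, one_mul]
    · exact h
  have hF : Fr X = Y := le_antisymm hY1 (by rw [← hD]; exact hF1)
  refine ⟨⟨by rw [hF, hZ], by rw [hD, hZ]⟩, ?_⟩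
  rw [hZ]; exact hYV.1

end Cfsg.Agent.S4409P
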