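import Mathlib
import Cfsg.Agent.Helper11.S4409Defs

/-! Board `s4409pieces`, row V3 (hedge by helper14). -/

set_option autoImplicit false
set_option linter.unusedVariables false
set_option linter.unusedSectionVars false

namespace Cfsg.Agent.S4409P

open Subgroup
open scoped commutatorElement

variable {S : Type*} [Group S] [Finite S]

/-- a `2`-group normalising a nontrivial `2`-group `Y` of even order centralises some `1 ≠ y₀ ∈ Y`. -/
theorem V3_aux_fixed (Y P : Subgroup S) (hP : IsPGroup 2 ↥P) (hPY : P ≤ normalizer (Y : Set S))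
    (hY : 2 ∣ Nat.card ↥Y) : ∃ y₀ ∈ Y, y₀ ≠ 1 ∧ ∀ g ∈ P, g * y₀ * g⁻¹ = y₀ := by
  have : Fact (Nat.Prime 2) := ⟨Nat.prime_two⟩
  let _ : MulAction ↥P ↥Y := MulAction.compHom ↥Y (Subgroup.inclusion hPY)
  have hsm : ∀ (g : ↥P) (y : ↥Y), ((g • y : ↥Y) : S) = (g : S) * (y : S) * (g : S)⁻¹ := fun g y => rfl
  have h1 : (1 : ↥Y) ∈ MulAction.fixedPoints ↥P ↥Y := by
    intro g
    apply Subtype.ext
    rw [hsm]; simp
  obtain ⟨b, hb, hne⟩ := hP.exists_fixed_point_of_prime_dvd_card_of_fixed_point ↥Y hY h1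
  refine ⟨b, b.2, ?_, ?_⟩
  · intro h
    apply hne
    apply Subtype.ext
    rw [h]; rfl
  · intro g hg
    have := hb ⟨g, hg⟩
    have h2 := congrArg Subtype.val this
    rwa [hsm] at h2

/-- V3 : a `2`-group normalising `Y = V4` centralises it or `C_P(Y)` has index `2` in `P`. -/
theorem v4_idx (Y P : Subgroup S) (hY : IsV4 Y) (hP : IsPGroup 2 ↥P) (hYP : Y ≤ P)
    (hPY : P ≤ normalizer (Y : Set S)) :
    P ≤ centralizer (Y : Set S) ∨ (P ⊓ centralizer (Y : Set S)).relIndex P = 2 := by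
  classical
  obtain ⟨y₀, hy₀, hy₀1, hfix⟩ := V3_aux_fixed Y P hP hPY (by rw [hY.1]; norm_num)
  -- a third element
  have hex : ∃ y₁ ∈ Y, y₁ ≠ 1 ∧ y₁ ≠ y₀ := by
    by_contra hcon
    push Not at hcon
    have hinj : Function.Injective (fun s : ↥Y => decide ((s : S) = 1)) := by
      intro s t hst
      simp only [decide_eq_decide] at hst
      apply Subtype.ext
      by_cases hs1 : (s : S) = 1
      · rw [hs1, hst.mp hs1]
      · have ht1 : (t : S) ≠ 1 := fun h => hs1 (hst.mpr h)
        rw [hcon s s.2 hs1, hcon t t.2 ht1]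
    have := Nat.card_le_card_of_injective _ hinj
    rw [hY.1, Nat.card_eq_fintype_card, Fintype.card_bool] at this
    omega
  obtain ⟨y₁, hy₁, hy₁1, hy₁0⟩ := hex
  have hsq : ∀ x ∈ Y, x⁻¹ = x := fun x hx => inv_eq_of_mul_eq_one_right (hY.2 x hx)
  -- the four elements
  have h01 : y₀ * y₁ ∈ Y := Y.mul_mem hy₀ hy₁
  have hd1 : y₀ * y₁ ≠ 1 := by
    intro h
    apply hy₁0
    have : y₁ = y₀⁻¹ := eq_inv_of_mul_eq_one_right h
    rw [this, hsq y₀ hy₀]
  have hd2 : y₀ * y₁ ≠ y₀ := by
    intro h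
    apply hy₁1
    have := congrArg (y₀⁻¹ * ·) h
    simpa using this
  have hd3 : y₀ * y₁ ≠ y₁ := by
    intro h
    apply hy₀1
    have := congrArg (· * y₁⁻¹) h
    simpa using this
  have hall : ∀ y ∈ Y, y = 1 ∨ y = y₀ ∨ y = y₁ ∨ y = y₀ * y₁ := by
    let T : Finset S := {1, y₀, y₁, y₀ * y₁}
    have hTc : T.card = 4 := by
      have a1 : (1 : S) ∉ ({y₀, y₁, y₀ * y₁} : Finset S) := by
        simp only [Finset.mem_insert, Finset.mem_singleton, not_or]
        exact ⟨fun h => hy₀1 h.symm, fun h => hy₁1 h.symm, fun h => hd1 h.symm⟩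
      have a2 : y₀ ∉ ({y₁, y₀ * y₁} : Finset S) := by
        simp only [Finset.mem_insert, Finset.mem_singleton, not_or]
        exact ⟨fun h => hy₁0 h.symm, fun h => hd2 h.symm⟩
      have a3 : y₁ ∉ ({y₀ * y₁} : Finset S) := by
        simp only [Finset.mem_singleton]
        exact fun h => hd3 h.symm
      rw [Finset.card_insert_of_notMem a1, Finset.card_insert_of_notMem a2, Finset.card_insert_of_notMem a3,
        Finset.card_singleton]
    have hTY : (T : Set S) ⊆ (Y : Set S) := by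
      intro x hx
      simp only [T, Finset.coe_insert, Finset.coe_singleton, Set.mem_insert_iff, Set.mem_singleton_iff] at hx
      rcases hx with rfl | rfl | rfl | rfl
      · exact Y.one_mem
      · exact hy₀
      · exact hy₁
      · exact h01
    have hcard : (Y : Set S).ncard ≤ (T : Set S).ncard := by
      rw [Set.ncard_coe_finset, hTc]
      have : (Y : Set S).ncard = Nat.card ↥Y := rfl
      rw [this, hY.1]
    have heq := Set.eq_of_subset_of_ncard_le hTY hcard (Set.toFinite _)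
    intro y hy
    have : y ∈ (T : Set S) := by rw [heq]; exact hy
    simpa [T] using this
  -- conjugates of `y₁`
  have hconj : ∀ g ∈ P, g * y₁ * g⁻¹ = y₁ ∨ g * y₁ * g⁻¹ = y₀ * y₁ := by
    intro g hg
    have hmem : g * y₁ * g⁻¹ ∈ Y := (mem_normalizer_iff.mp (hPY hg) y₁).mp hy₁
    rcases hall _ hmem with h | h | h | h
    · exfalso
      apply hy₁1
      have := congrArg (fun z => g⁻¹ * z * g) h
      simpa [mul_assoc] using this
    · exfalso
      apply hy₁0
      have h2 : g * y₁ * g⁻¹ = g * y₀ * g⁻¹ := by rw [h, hfix g hg]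
      have := congrArg (fun z => g⁻¹ * z * g) h2
      simpa [mul_assoc] using this
    · exact Or.inl h
    · exact Or.inr h
  -- membership in `C = P ∩ C(Y)`
  have hC : ∀ g ∈ P, (g ∈ P ⊓ centralizer (Y : Set S) ↔ g * y₁ * g⁻¹ = y₁) := by
    intro g hg
    constructor
    · intro h
      have := mem_centralizer_iff.mp (mem_inf.mp h).2 y₁ hy₁
      rw [← this]; group
    · intro h
      refine mem_inf.mpr ⟨hg, ?_⟩
      rw [mem_centralizer_iff]
      intro y hy
      have e0 : g * y₀ = y₀ * g := by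
        have := hfix g hg
        calc g * y₀ = (g * y₀ * g⁻¹) * g := by group
          _ = y₀ * g := by rw [this]
      have e1 : g * y₁ = y₁ * g := by
        calc g * y₁ = (g * y₁ * g⁻¹) * g := by group
          _ = y₁ * g := by rw [h]
      rcases hall y hy with rfl | rfl | rfl | rfl
      · simp
      · exact e0.symm
      · exact e1.symm
      · rw [mul_assoc, ← e1, ← mul_assoc, ← e0, mul_assoc]
  by_cases hcen : P ≤ centralizer (Y : Set S)
  · exact Or.inl hcen
  · right
    obtain ⟨a, haP, haC⟩ := SetLike.not_le_iff_exists.mp hcen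
    have haC' : a ∉ P ⊓ centralizer (Y : Set S) := fun h => haC (mem_inf.mp h).2
    have ha1 : a * y₁ * a⁻¹ = y₀ * y₁ := by
      rcases hconj a haP with h | h
      · exact ((haC' ((hC a haP).mpr h))).elim
      · exact h
    rw [Subgroup.relIndex, Subgroup.index_eq_two_iff]
    refine ⟨⟨a, haP⟩, ?_⟩
    intro b
    have hbP : (b : S) ∈ P := b.2
    have hprod : ((b : S) * a) * y₁ * ((b : S) * a)⁻¹ = y₀ * ((b : S) * y₁ * (b : S)⁻¹) := by
      calc ((b : S) * a) * y₁ * ((b : S) * a)⁻¹ = (b : S) * (a * y₁ * a⁻¹) * (b : S)⁻¹ := by group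
        _ = (b : S) * (y₀ * y₁) * (b : S)⁻¹ := by rw [ha1]
        _ = ((b : S) * y₀ * (b : S)⁻¹) * ((b : S) * y₁ * (b : S)⁻¹) := by group
        _ = y₀ * ((b : S) * y₁ * (b : S)⁻¹) := by rw [hfix b hbP]
    rw [mem_subgroupOf, mem_subgroupOf, Subgroup.coe_mul]
    rw [hC _ (P.mul_mem hbP haP), hC _ hbP, hprod]
    rcases hconj b hbP with h | h
    · rw [h]
      exact Or.inr ⟨rfl, hd3⟩
    · rw [h]
      refine Or.inl ⟨?_, fun h' => hd3 h'⟩
      rw [← mul_assoc, hY.2 y₀ hy₀, one_mul]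

end Cfsg.Agent.S4409P
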