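import Mathlib
import Cfsg.Agent.Helper14.S4409TB1core
import Cfsg.Agent.Helper20.S4409STEP0
import Cfsg.Agent.Helper9.S4409F
import Cfsg.Agent.Helper9.S4409V
import Cfsg.Agent.Helper14.S4409V3
import Cfsg.Agent.Helper25.S4409F1

/-! Board `s4409pieces`, row TB1 (wrapper of `tcore_b1_core`). -/

set_option autoImplicit false
set_option linter.unusedVariables false

namespace Cfsg.Agent.S4409P

open Subgroup
open scoped commutatorElement

variable {S : Type*} [Group S] [Finite S]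

/-- TB1 : case `Y = V4`, `[Y,K] ≠ 1`. -/
theorem tcore_b1 (X K Y : Subgroup S) (hX : IsPGroup 2 ↥X) (hK : Odd (Nat.card ↥K)) (hKX : K ≤ normalizer (X : Set S))
    (hXK : ⁅X, K⁆ = X) (hna : ¬ IsAb X)
    (hY1 : Fr X ≤ Y) (hY2 : Y ≤ X) (hY3 : Y ≠ X) (hY4 : K ≤ normalizer (Y : Set S))
    (hY5 : ∀ H : Subgroup S, Y ≤ H → H ≤ X → K ≤ normalizer (H : Set S) → H = Y ∨ H = X)
    (hYV : IsV4 Y) (hYK : ⁅Y, K⁆ ≠ ⊥) :
    SpecialInt X ∧ Nat.card ↥(Zc X) = 4 :=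
  tcore_b1_core X K Y hKX hna hY1 hY2 hY4 hY5 hYV (der_le_fr X hX)
    (v4_idx Y X hYV hX hY2 (normal_of_fr_le X Y hX hY1 hY2))
    (fun H hHX hKH hidx => no_inv_index_two X K hKX hXK H hHX hKH hidx)
    (fun H hHY hKH => v4_sub Y K hYV hK hY4 hYK H hHY hKH)

end Cfsg.Agent.S4409P
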