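import Mathlib
import Cfsg.Agent.Helper3.S5655EVDefs

set_option autoImplicit false
set_option linter.unusedSectionVars false
set_option linter.unusedVariables false

/-! # S5655 k = 1, chapter "q EVEN" (designer helper3): piece Q2FIELD, the field with 4 elements. -/

namespace Cfsg.Agent.S5655K1.EV

open Matrix
open Cfsg.Agent.S2644 Cfsg.Agent.Helper2.SUGen Cfsg.Agent.Helper28.SimMax Cfsg.Agent.S5658P

variable {K : Type*} [Field K] {q n : ℕ}

local notation "h" => Cfsg.hermForm n K q
local notation "T" => Cfsg.unitaryTransvection n q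

theorem Q2FIELD.two_eq_zero [Fintype K] (hK : Fintype.card K = 2 ^ 2) : (2 : K) = 0 := by
  have h4 : Fintype.card K • (1 : K) = 0 := card_nsmul_eq_zero
  rw [hK] at h4
  have h4' : (2 : K) * 2 = 0 := by
    have : ((2 ^ 2 : ℕ) : K) = 0 := by simpa using h4
    push_cast at this
    rw [← this]; ring
  rcases mul_eq_zero.1 h4' with hh | hh <;> exact hh

theorem Q2FIELD.cube [Fintype K] (hK : Fintype.card K = 2 ^ 2) {x : K} (hx : x ≠ 0) : x ^ 3 = 1 := by
  have := FiniteField.pow_card_sub_one_eq_one x hx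
  rw [hK] at this
  simpa using this

theorem Q2FIELD.norm_one [Fintype K] (D : Frob K 2) (hK : Fintype.card K = 2 ^ 2) {x : K} (hx : x ≠ 0) :
    x * D.σ x = 1 := by
  rw [D.pow, ← Q2FIELD.cube hK hx]
  ring

theorem Q2FIELD.exists_omega [Fintype K] (D : Frob K 2) (hK : Fintype.card K = 2 ^ 2) :
    ∃ ω : K, ω ^ 2 = ω + 1 ∧ D.σ ω = ω + 1 ∧ ω ≠ 0 ∧ ω + 1 ≠ 0 ∧
      ∀ x : K, x = 0 ∨ x = 1 ∨ x = ω ∨ x = ω + 1 := by
  classical
  have h2 : (2 : K) = 0 := Q2FIELD.two_eq_zero hK
  have hneg : ∀ x : K, -x = x := by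
    intro x
    have : x + x = 0 := by
      have : x + x = 2 * x := by ring
      rw [this, h2, zero_mul]
    exact neg_eq_of_add_eq_zero_left this
  -- an element different from 0 and 1
  obtain ⟨ω, -, hω⟩ : ∃ x ∈ (Finset.univ : Finset K), x ∉ ({0, 1} : Finset K) := by
    apply Finset.exists_mem_notMem_of_card_lt_card
    rw [Finset.card_univ, hK]
    calc ({0, 1} : Finset K).card ≤ 2 := Finset.card_le_two
      _ < 2 ^ 2 := by norm_num
  rw [Finset.mem_insert, Finset.mem_singleton, not_or] at hω
  obtain ⟨hω0, hω1⟩ := hω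
  have hcube := Q2FIELD.cube hK hω0
  have hquad : ω ^ 2 = ω + 1 := by
    have h1 : (ω - 1) * (ω ^ 2 + ω + 1) = 0 := by
      have : (ω - 1) * (ω ^ 2 + ω + 1) = ω ^ 3 - 1 := by ring
      rw [this, hcube, sub_self]
    rcases mul_eq_zero.1 h1 with hh | hh
    · exact absurd (sub_eq_zero.1 hh) hω1
    · have : ω ^ 2 = -(ω + 1) := by
        rw [eq_neg_iff_add_eq_zero]
        rw [← hh]; ring
      rw [this, hneg]
  have hω1' : ω + 1 ≠ 0 := by
    intro hh
    apply hω1
    have : ω = -1 := eq_neg_of_add_eq_zero_left hh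
    rw [this, hneg]
  refine ⟨ω, hquad, by rw [D.pow, hquad], hω0, hω1', ?_⟩
  -- the four elements are distinct, so they exhaust `K`
  have hdist : ({0, 1, ω, ω + 1} : Finset K).card = 4 := by
    rw [Finset.card_insert_of_notMem, Finset.card_insert_of_notMem, Finset.card_insert_of_notMem,
      Finset.card_singleton]
    · rw [Finset.mem_singleton]
      intro hh
      have : (1 : K) = 0 := by
        have := congrArg (fun t => t - ω) hh
        simpa using this.symm
      exact one_ne_zero this
    · rw [Finset.mem_insert, Finset.mem_singleton, not_or]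
      refine ⟨fun hh => hω1 hh.symm, ?_⟩
      intro hh
      apply hω0
      have := congrArg (fun t => t - 1) hh
      simpa using this.symm
    · rw [Finset.mem_insert, Finset.mem_insert, Finset.mem_singleton, not_or, not_or]
      exact ⟨zero_ne_one, fun hh => hω0 hh.symm, fun hh => hω1' hh.symm⟩
  have huniv : ({0, 1, ω, ω + 1} : Finset K) = Finset.univ := by
    apply Finset.eq_univ_of_card
    rw [hdist, hK]; norm_num
  intro x
  have hx : x ∈ ({0, 1, ω, ω + 1} : Finset K) := by rw [huniv]; exact Finset.mem_univ x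
  simpa [Finset.mem_insert, Finset.mem_singleton] using hx

end Cfsg.Agent.S5655K1.EV
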