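import Mathlib
import Cfsg.Agent.Helper3.S5655EVDefs
import Cfsg.Agent.Helper14.S5655EVQ2FIELD
import Cfsg.Agent.Helper11.S5655EVE1
import Cfsg.Agent.Helper11.S5655EVQ2WT
import Cfsg.Agent.Helper4.S5655EVQ2SIX
import Cfsg.Agent.Helper18.S5655EVQ2TRANS
import Cfsg.Agent.Helper19.S5655EVQ2FOUR
import Cfsg.Agent.Helper11.S5655EVQ2ALL
import Cfsg.Agent.Helper18.S5655EVQ2TOP

set_option autoImplicit false
set_option linter.unusedSectionVars false
set_option linter.unusedVariables false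

/-! # S5655 k = 1, chapter "q EVEN" (designer helper3): piece Q2MAIN, the case `q = 2`. -/

namespace Cfsg.Agent.S5655K1.EV

open Matrix
open Cfsg.Agent.S2644 Cfsg.Agent.Helper2.SUGen Cfsg.Agent.Helper28.SimMax Cfsg.Agent.S5658P

variable {K : Type*} [Field K] {q n : ℕ}

local notation "h" => Cfsg.hermForm n K q
local notation "T" => Cfsg.unitaryTransvection n q

theorem Q2MAIN.wt_pos {v : Fin n → K} (hv : v ≠ 0) : 1 ≤ wt v := by
  obtain ⟨i, hi⟩ := Function.ne_iff.mp hv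
  unfold wt
  exact Finset.card_pos.2 ⟨i, mem_supp.2 hi⟩

theorem Q2MAIN.main [Fintype K] (D : Frob K 2) (hK : Fintype.card K = 2 ^ 2) (hn : 13 ≤ n)
    {M : Subgroup (Matrix.GeneralLinearGroup (Fin n) K)} (hM : Over 2 M) :
    (∀ A ∈ MS M, IsMono A) ∨ M = Cfsg.GU n K 2 ⊓ Cfsg.Geo.specialLinear (Fin n) K := by
  have h2 : (2 : K) = 0 := Q2FIELD.two_eq_zero hK
  by_cases hT : ∀ v : Fin n → K, Cfsg.hermForm n K 2 v v = 0 → v ≠ 0 →
      Cfsg.unitaryTransvection n 2 v (1 : K) ∈ MS M → wt v = 2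
  · left
    exact E1.main D hK le_rfl h2 (by omega) hM hT
  · right
    push Not at hT
    obtain ⟨v, hvv, hv, hTv, hwt⟩ := hT
    have hev : Even (wt v) := (Q2WT.iso_iff_even D hK v).1 hvv
    have hpos := Q2MAIN.wt_pos hv
    have h4 : 4 ≤ wt v := by
      obtain ⟨k, hk⟩ := hev
      omega
    have hG4 : Good 2 M 4 := by
      by_cases h6 : 6 ≤ wt v
      · obtain ⟨u, huu, hu6, hTu⟩ := Q2SIX.main D hK hM hvv h6 hTv
        have hG6 : Good 2 M 6 := Q2TRANS.main D hK hM (by omega) huu hu6 hTu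
        exact Q2FOUR.main D hK (by omega) hM hG6
      · have h4' : wt v = 4 := by
          obtain ⟨k, hk⟩ := hev
          omega
        exact Q2TRANS.main D hK hM (by omega) hvv h4' hTv
    exact Q2TOP.main D hK (by omega) hM (Q2ALL.main D hK (by omega) hM hG4)

end Cfsg.Agent.S5655K1.EV
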