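import Mathlib
import Cfsg.Agent.Helper24.S5637.Defs

/-! # pure tensors span every hyperplane of a tensor product (for S5704 SPREAD; helper14) -/

set_option autoImplicit false

namespace Cfsg.Agent.S5704P

open Matrix Cfsg.Agent.S5637P

variable {F : Type*} [Field F] {n a b : ℕ} (e : Fin n ≃ Fin a × Fin b)

/-- the span of the pure tensors in the kernel of `φ` -/
def PURESPAN.S (φ : (Fin n → F) →ₗ[F] F) : Submodule F (Fin n → F) :=
  Submodule.span F {p | ∃ (u : Fin a → F) (w : Fin b → F), p = tn e u w ∧ φ p = 0}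

theorem PURESPAN.mem_S {φ : (Fin n → F) →ₗ[F] F} {u : Fin a → F} {w : Fin b → F}
    (h0 : φ (tn e u w) = 0) : tn e u w ∈ PURESPAN.S e φ :=
  Submodule.subset_span ⟨u, w, rfl, h0⟩

/-- (*) moving the first factor -/
theorem PURESPAN.left (φ : (Fin n → F) →ₗ[F] F) (u₁ u₂ : Fin a → F) (w : Fin b → F) :
    φ (tn e u₂ w) • tn e u₁ w - φ (tn e u₁ w) • tn e u₂ w ∈ PURESPAN.S e φ := by
  have h1 : φ (tn e u₂ w) • tn e u₁ w - φ (tn e u₁ w) • tn e u₂ w =
      tn e (φ (tn e u₂ w) • u₁ - φ (tn e u₁ w) • u₂) w := by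
    rw [tn_sub_left, tn_smul_left, tn_smul_left]
  rw [h1]
  apply PURESPAN.mem_S
  rw [← h1, map_sub, map_smul, map_smul, smul_eq_mul, smul_eq_mul]
  ring

/-- (**) moving the second factor -/
theorem PURESPAN.right (φ : (Fin n → F) →ₗ[F] F) (u : Fin a → F) (w₁ w₂ : Fin b → F) :
    φ (tn e u w₂) • tn e u w₁ - φ (tn e u w₁) • tn e u w₂ ∈ PURESPAN.S e φ := by
  have h1 : φ (tn e u w₂) • tn e u w₁ - φ (tn e u w₁) • tn e u w₂ =
      tn e u (φ (tn e u w₂) • w₁ - φ (tn e u w₁) • w₂) := by
    rw [tn_sub_right, tn_smul_right, tn_smul_right]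
  rw [h1]
  apply PURESPAN.mem_S
  rw [← h1, map_sub, map_smul, map_smul, smul_eq_mul, smul_eq_mul]
  ring

/-- the key congruence: `φ(uw) • u'w' ≡ φ(u'w') • uw` modulo the pure tensors in the kernel -/
theorem PURESPAN.key (φ : (Fin n → F) →ₗ[F] F) (u u' : Fin a → F) (w w' : Fin b → F) :
    φ (tn e u w) • tn e u' w' - φ (tn e u' w') • tn e u w ∈ PURESPAN.S e φ := by
  set α := φ (tn e u w) with hα
  set α' := φ (tn e u' w') with hα'
  set β := φ (tn e u w') with hβ
  set γ := φ (tn e u' w) with hγ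
  -- chain through `u w'`
  have c1 : β • tn e u' w' - α' • tn e u w' ∈ PURESPAN.S e φ := PURESPAN.left e φ u' u w'
  have c2 : α • tn e u w' - β • tn e u w ∈ PURESPAN.S e φ := by
    have := PURESPAN.right e φ u w' w
    exact this
  -- chain through `u' w`
  have d1 : γ • tn e u' w' - α' • tn e u' w ∈ PURESPAN.S e φ := by
    have := PURESPAN.right e φ u' w' w
    exact this
  have d2 : α • tn e u' w - γ • tn e u w ∈ PURESPAN.S e φ := PURESPAN.left e φ u' u w
  by_cases hb : β = 0
  · by_cases hc : γ = 0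
    · -- diagonal case
      have h1 : tn e u w' ∈ PURESPAN.S e φ := PURESPAN.mem_S e (by rw [← hβ, hb])
      have h2 : tn e u' w ∈ PURESPAN.S e φ := PURESPAN.mem_S e (by rw [← hγ, hc])
      have h3 : tn e (u + u') (α' • w - α • w') ∈ PURESPAN.S e φ := by
        apply PURESPAN.mem_S
        rw [tn_add_left, tn_sub_right, tn_sub_right, tn_smul_right, tn_smul_right, tn_smul_right,
          tn_smul_right, map_add, map_sub, map_sub, map_smul, map_smul, map_smul, map_smul,
          ← hα, ← hα', ← hβ, ← hγ, hb, hc]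
        simp only [smul_eq_mul]
        ring
      have h4 : α • tn e u' w' - α' • tn e u w =
          -(tn e (u + u') (α' • w - α • w')) - α • tn e u w' + α' • tn e u' w := by
        rw [tn_add_left, tn_sub_right, tn_sub_right, tn_smul_right, tn_smul_right, tn_smul_right,
          tn_smul_right]
        abel
      rw [h4]
      exact Submodule.add_mem _ (Submodule.sub_mem _ (Submodule.neg_mem _ h3)
        (Submodule.smul_mem _ _ h1)) (Submodule.smul_mem _ _ h2)
    · -- `γ ≠ 0`
      have h1 : γ • (α • tn e u' w' - α' • tn e u w) =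
          α • (γ • tn e u' w' - α' • tn e u' w) + α' • (α • tn e u' w - γ • tn e u w) := by
        simp only [smul_sub, smul_smul]
        rw [mul_comm γ α, mul_comm γ α', mul_comm α' α]
        abel
      have h2 : γ • (α • tn e u' w' - α' • tn e u w) ∈ PURESPAN.S e φ := by
        rw [h1]
        exact Submodule.add_mem _ (Submodule.smul_mem _ _ d1) (Submodule.smul_mem _ _ d2)
      have h3 := Submodule.smul_mem (PURESPAN.S e φ) γ⁻¹ h2
      rwa [smul_smul, inv_mul_cancel₀ hc, one_smul] at h3
  · have h1 : β • (α • tn e u' w' - α' • tn e u w) =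
        α • (β • tn e u' w' - α' • tn e u w') + α' • (α • tn e u w' - β • tn e u w) := by
      simp only [smul_sub, smul_smul]
      rw [mul_comm β α, mul_comm β α', mul_comm α' α]
      abel
    have h2 : β • (α • tn e u' w' - α' • tn e u w) ∈ PURESPAN.S e φ := by
      rw [h1]
      exact Submodule.add_mem _ (Submodule.smul_mem _ _ c1) (Submodule.smul_mem _ _ c2)
    have h3 := Submodule.smul_mem (PURESPAN.S e φ) β⁻¹ h2
    rwa [smul_smul, inv_mul_cancel₀ hb, one_smul] at h3

/-- a standard basis vector is a pure tensor -/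
theorem PURESPAN.single_eq (k : Fin n) :
    (Pi.single k (1 : F) : Fin n → F) = tn e (Pi.single (e k).1 1) (Pi.single (e k).2 1) := by
  funext l
  rw [tn_apply]
  by_cases hlk : l = k
  · subst hlk; simp
  · rw [Pi.single_eq_of_ne hlk]
    by_cases h1 : (e l).1 = (e k).1
    · have h2 : (e l).2 ≠ (e k).2 := by
        intro h2
        apply hlk
        apply e.injective
        exact Prod.ext h1 h2
      rw [Pi.single_eq_of_ne h2, mul_zero]
    · rw [Pi.single_eq_of_ne h1, zero_mul]

/-- PURESPAN: every hyperplane (kernel of a functional) of the tensor product is spanned by the pure tensors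
it contains. -/
theorem PURESPAN.main (φ : (Fin n → F) →ₗ[F] F) (x : Fin n → F) (hx : φ x = 0) :
    x ∈ PURESPAN.S e φ := by
  classical
  have hxs : x = ∑ k, x k • (Pi.single k (1 : F) : Fin n → F) := by
    funext l
    rw [Finset.sum_apply, Finset.sum_eq_single l]
    · simp
    · intro k _ hkl
      rw [Pi.smul_apply, Pi.single_eq_of_ne (Ne.symm hkl), smul_zero]
    · intro hl
      exact absurd (Finset.mem_univ _) hl
  obtain ⟨c, hc⟩ : ∃ c : Fin n → F, x = ∑ k, c k • (Pi.single k (1 : F) : Fin n → F) := ⟨x, hxs⟩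
  clear hxs
  have hφx : φ x = ∑ k, c k * φ (Pi.single k (1 : F)) := by
    rw [hc, map_sum]
    apply Finset.sum_congr rfl
    intro k _
    rw [map_smul, smul_eq_mul]
  by_cases hex : ∃ (u₀ : Fin a → F) (w₀ : Fin b → F), φ (tn e u₀ w₀) ≠ 0
  · obtain ⟨u₀, w₀, h0⟩ := hex
    have h1 : φ (tn e u₀ w₀) • x - φ x • tn e u₀ w₀ ∈ PURESPAN.S e φ := by
      have h2 : φ (tn e u₀ w₀) • x - φ x • tn e u₀ w₀ =
          ∑ k, c k • (φ (tn e u₀ w₀) • (Pi.single k (1 : F) : Fin n → F) -
            φ (Pi.single k (1 : F)) • tn e u₀ w₀) := by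
        rw [hφx, hc, Finset.smul_sum, Finset.sum_smul, ← Finset.sum_sub_distrib]
        apply Finset.sum_congr rfl
        intro k _
        rw [smul_sub, smul_smul, smul_smul, smul_smul, mul_comm]
      rw [h2]
      apply Submodule.sum_mem
      intro k _
      apply Submodule.smul_mem
      rw [PURESPAN.single_eq e k]
      exact PURESPAN.key e φ u₀ _ w₀ _
    rw [hx, zero_smul, sub_zero] at h1
    have h4 := Submodule.smul_mem (PURESPAN.S e φ) (φ (tn e u₀ w₀))⁻¹ h1
    rwa [smul_smul, inv_mul_cancel₀ h0, one_smul] at h4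
  · push Not at hex
    rw [hc]
    apply Submodule.sum_mem
    intro k _
    apply Submodule.smul_mem
    rw [PURESPAN.single_eq e k]
    exact PURESPAN.mem_S e (hex _ _)

end Cfsg.Agent.S5704P
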