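import Cfsg.Agent.Helper14.QdSyl1
import Cfsg.Agent.Helper14.Conj
import Cfsg.Agent.Helper14.PCore

set_option autoImplicit false
set_option linter.unusedSectionVars false
set_option linter.style.haveILetI false

namespace Cfsg.Agent.Helper14

open Matrix Cfsg

section L2MaxA

variable {F : Type*} [Field F]

/-- a subgroup of `SL₂(F)` containing the upper unipotent group and an element outside the Borel
subgroup is everything -/
theorem sl2_top_of_stab_le (H : Subgroup (SpecialLinearGroup (Fin 2) F)) (hU : sl2Stab F ≤ H)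
    (h : SpecialLinearGroup (Fin 2) F) (hh : h ∈ H) (hc : h.1 1 0 ≠ 0) : H = ⊤ := by
  set c := h.1 1 0 with hcdef
  set a := h.1 0 0 with hadef
  set b := sl2U (-a / c) with hb
  have hbH : b ∈ H := hU ((mem_sl2Stab b).2 (sl2U_stab _))
  set y := b * h with hy
  have hyH : y ∈ H := H.mul_mem hbH hh
  have hye : y • (vE0 : Fin 2 → F) = ![0, c] := by
    rw [hy, mul_smul]
    have h1 : h • (vE0 : Fin 2 → F) = ![a, c] := by
      ext i
      rw [sl2_smul_apply]
      fin_cases i <;> simp [vE0, hadef, hcdef]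
    rw [h1, sl2_stab_smul (sl2U_stab _), sl2U_01]
    ext i
    fin_cases i
    · simp
      field_simp
      ring
    · simp
  rw [eq_top_iff, ← Helper25.sl2_generation]
  apply sup_le
  · intro g hg
    obtain ⟨g01, g00, g11⟩ := Helper25.mem_lowerUnipotentSL2.1 hg
    have hfix : g • (![0, c] : Fin 2 → F) = ![0, c] := by
      ext i
      rw [sl2_smul_apply]
      have g01' : g.1 0 1 = 0 := g01
      have g11' : g.1 1 1 = 1 := g11
      fin_cases i <;> simp [g01', g11']
    have hz : (y⁻¹ * g * y) • (vE0 : Fin 2 → F) = vE0 := by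
      rw [mul_smul, mul_smul, hye, hfix, ← hye, inv_smul_smul]
    have hzH : y⁻¹ * g * y ∈ H := hU ((mem_sl2Stab _).2 hz)
    have : g = y * (y⁻¹ * g * y) * y⁻¹ := by group
    rw [this]
    exact H.mul_mem (H.mul_mem hyH hzH) (H.inv_mem hyH)
  · intro g hg
    obtain ⟨g10, g00, _⟩ := Helper25.mem_upperUnipotentSL2.1 hg
    apply hU
    rw [mem_sl2Stab, sl2_stab_iff]
    exact ⟨g00, g10⟩

theorem sl2Borel_ne_top : sl2Borel F ≠ ⊤ := by
  intro h
  have hdet : (!![0, -1; 1, 0] : Matrix (Fin 2) (Fin 2) F).det = 1 := by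
    rw [Matrix.det_fin_two_of]; ring
  have hw : (⟨!![0, -1; 1, 0], hdet⟩ : SpecialLinearGroup (Fin 2) F) ∈ sl2Borel F := by
    rw [h]; trivial
  have hw' : (⟨!![0, -1; 1, 0], hdet⟩ : SpecialLinearGroup (Fin 2) F).1 1 0 = 0 := hw
  simp at hw'

theorem sl2Borel_le_normalizer_sl2Stab :
    sl2Borel F ≤ Subgroup.normalizer ((sl2Stab F : Subgroup _) : Set _) := by
  apply le_normalizer_of_map_cj_le
  rintro b hb _ ⟨u, hu, rfl⟩
  have hu' : u ∈ sl2Stab F := hu
  rw [mem_sl2Stab] at hu'
  rw [cj_apply]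
  show b * u * b⁻¹ ∈ sl2Stab F
  rw [mem_sl2Stab]
  have hb' : b.1 1 0 = 0 := hb
  have hbi : (b⁻¹).1 1 0 = 0 := by rw [sl2_inv_10, hb', neg_zero]
  -- b⁻¹ e₀ = λ e₀
  have h1 : b⁻¹ • (vE0 : Fin 2 → F) = ((b⁻¹).1 0 0) • (vE0 : Fin 2 → F) := by
    ext i
    rw [sl2_smul_apply]
    fin_cases i <;> simp [vE0, hbi]
  rw [mul_smul, mul_smul, h1, smul_comm u, hu', ← h1, smul_inv_smul]

theorem sl2Stab_ne_bot : sl2Stab F ≠ ⊥ := by
  intro h
  have h1 : sl2U (1 : F) ∈ sl2Stab F := (mem_sl2Stab _).2 (sl2U_stab _)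
  rw [h, Subgroup.mem_bot] at h1
  have h2 := congrArg (fun g : SpecialLinearGroup (Fin 2) F => g.1 0 1) h1
  simp [sl2U] at h2

variable [Fintype F] {p : ℕ} [Fact p.Prime] [CharP F p]

theorem normalizer_sl2Stab (p : ℕ) [Fact p.Prime] [CharP F p] :
    Subgroup.normalizer ((sl2Stab F : Subgroup _) : Set _) = sl2Borel F := by
  apply le_antisymm _ sl2Borel_le_normalizer_sl2Stab
  intro g hg
  rw [mem_sl2Borel]
  by_contra hc
  have htop := sl2_top_of_stab_le _ Subgroup.le_normalizer g hg hc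
  haveI : (sl2Stab F).Normal := Subgroup.normalizer_eq_top_iff.1 htop
  exact sl2Stab_ne_bot (normal_pSubgroup_sl2_eq_bot (F := F) (p := p) (sl2Stab F) isPGroup_sl2Stab)

/-- every Sylow `p`-subgroup of `SL₂(F)` is a conjugate of the upper unipotent group -/
theorem sylow_sl2_eq_map_cj (S : Sylow p (SpecialLinearGroup (Fin 2) F)) :
    ∃ g : SpecialLinearGroup (Fin 2) F, (S : Subgroup _) = (sl2Stab F).map (cj g) := by
  obtain ⟨v, hv, hfix⟩ := exists_fixed_vector (F := F) (p := p)
    (S : Subgroup (SpecialLinearGroup (Fin 2) F)) S.isPGroup'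
  have he0 : (vE0 : Fin 2 → F) ≠ 0 := by
    intro h
    have := congrFun h 0
    simp [vE0] at this
  obtain ⟨g, hg⟩ := sl2_transitive (vE0 : Fin 2 → F) v he0 hv
  refine ⟨g, ?_⟩
  have hle : (S : Subgroup _) ≤ (sl2Stab F).map (cj g) := by
    intro s hs
    rw [mem_map_cj, mem_sl2Stab, mul_smul, mul_smul, hg, hfix s hs, ← hg, inv_smul_smul]
  exact (S.is_maximal' ((isPGroup_sl2Stab (p := p)).map _) hle).symm

end L2MaxA

section L2MaxB

variable {X Y : Type*} [Group X] [Group Y] {p : ℕ} [Fact p.Prime]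

/-- lifting "unique maximal overgroup of a Sylow subgroup" along a surjection whose kernel lies in
the Sylow subgroup -/
theorem coatom_normalizer_of_surjective (f : X →* Y) (hf : Function.Surjective f)
    (T : Subgroup X) (hker : f.ker ≤ T) (B : Subgroup Y)
    (hN : Subgroup.normalizer ((T.map f : Subgroup Y) : Set Y) = B) (hB : B ≠ ⊤)
    (hmax : ∀ H : Subgroup Y, T.map f ≤ H → H ≠ ⊤ → H ≤ B) :
    IsCoatom (Subgroup.normalizer (T : Set X)) ∧
      ∀ M : Subgroup X, IsCoatom M → T ≤ M → M = Subgroup.normalizer (T : Set X) := by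
  have hNT : Subgroup.normalizer (T : Set X) = B.comap f := by
    rw [← hN, Subgroup.comap_normalizer_eq_of_surjective _ hf, Subgroup.comap_map_eq_self hker]
  have hne : B.comap f ≠ ⊤ := by
    intro h
    apply hB
    rw [eq_top_iff]
    intro y _
    obtain ⟨x, rfl⟩ := hf y
    have : x ∈ B.comap f := by rw [h]; trivial
    exact this
  have key : ∀ M : Subgroup X, T ≤ M → M ≠ ⊤ → M ≤ B.comap f := by
    intro M hTM hM
    have h1 : M.map f ≠ ⊤ := by
      intro h
      apply hM
      have h2 := Subgroup.comap_map_eq_self (f := f) (H := M) (hker.trans hTM)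
      rw [h, Subgroup.comap_top] at h2
      exact h2.symm
    have h2 := hmax (M.map f) (Subgroup.map_mono hTM) h1
    exact (Subgroup.le_comap_map f M).trans (Subgroup.comap_mono h2)
  rw [hNT]
  refine ⟨⟨hne, ?_⟩, ?_⟩
  · intro M hlt
    by_contra hM
    have hTM : T ≤ M := by
      have : T ≤ B.comap f := by rw [← hNT]; exact Subgroup.le_normalizer
      exact this.trans hlt.le
    exact absurd (key M hTM hM) (not_le_of_gt hlt)
  · intro M hM hTM
    have h1 := key M hTM hM.1
    by_contra hne'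
    exact hne (hM.2 _ (lt_of_le_of_ne h1 hne'))

end L2MaxB

end Cfsg.Agent.Helper14
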