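import Cfsg.Agent.Helper14.StrongEmb
import Cfsg.Agent.Helper14.Amalgam6
import Cfsg.Agent.Helper19.Cores

set_option autoImplicit false
set_option linter.unusedSectionVars false

namespace Cfsg.Agent.Helper14

open Cfsg

variable {G : Type*} [Group G] [Finite G] {p : ℕ} [Fact p.Prime]

theorem dvd_card_of_isStronglyPEmbedded {X : Subgroup G} (hX : IsStronglyPEmbedded p X) :
    ∃ P : Sylow p G, (P : Subgroup G) ≤ X ∧ (P : Subgroup G) ≠ ⊥ := by
  obtain ⟨hp, -, P, hP⟩ := hX
  have hPne : (P : Subgroup G) ≠ ⊥ := sylow_ne_bot_of_dvd hp P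
  exact ⟨P, (Subgroup.le_normalizer.trans
      (Cfsg.Agent.Helper25.normalizer_le_kGeneratedCore p P _ le_rfl hPne)).trans hP, hPne⟩

theorem dvd_card_of_pGroup_ne_bot {A : Subgroup G} (hA : IsPGroup p ↥A) (hA1 : A ≠ ⊥) :
    p ∣ Nat.card ↥A := by
  obtain ⟨n, hn⟩ := IsPGroup.iff_card.1 hA
  rw [hn]
  have hn0 : n ≠ 0 := by
    rintro rfl
    rw [pow_zero] at hn
    exact hA1 (Subgroup.card_eq_one.1 hn)
  exact dvd_pow_self p hn0

/-- strongly `p`-embedded subgroups restrict to subgroups -/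
theorem isStronglyPEmbedded_subgroupOf {X : Subgroup G} (hX : IsStronglyPEmbedded p X)
    (H : Subgroup G) (hHX : ¬ H ≤ X) (hp : p ∣ Nat.card ↥(H ⊓ X)) :
    IsStronglyPEmbedded p ((H ⊓ X).subgroupOf H) := by
  have hN := normProp_of_isStronglyPEmbedded hX
  refine isStronglyPEmbedded_of_normProp ?_ ?_ ?_
  · intro h
    rw [Subgroup.subgroupOf_eq_top] at h
    exact hHX (h.trans inf_le_right)
  · rw [Nat.card_congr (Subgroup.subgroupOfEquivOfLe (inf_le_left : H ⊓ X ≤ H)).toEquiv]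
    exact hp
  · intro A hAM hA hA1 h hh
    have hA' : A.map H.subtype ≤ X := by
      rintro _ ⟨a, ha, rfl⟩
      have := hAM ha
      rw [Subgroup.mem_subgroupOf] at this
      exact this.2
    have hA1' : A.map H.subtype ≠ ⊥ := by
      intro hb
      exact hA1 ((Subgroup.map_eq_bot_iff_of_injective _ H.subtype_injective).1 hb)
    have h1 := hN _ hA' (hA.map _) hA1'
    have h2 : (h : G) ∈ Subgroup.normalizer ((A.map H.subtype : Subgroup G) : Set G) :=
      Subgroup.le_normalizer_map H.subtype ⟨h, hh, rfl⟩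
    rw [Subgroup.mem_subgroupOf]
    exact ⟨h.2, h1 h2⟩

theorem isStronglyPEmbedded_pElementClosure {X : Subgroup G} (hX : IsStronglyPEmbedded p X) :
    IsStronglyPEmbedded p (X.subgroupOf (pElementClosure p (⊤ : Subgroup G))) := by
  have hN := normProp_of_isStronglyPEmbedded hX
  obtain ⟨P, hPX, hP1⟩ := dvd_card_of_isStronglyPEmbedded hX
  have hPR : (P : Subgroup G) ≤ pElementClosure p (⊤ : Subgroup G) :=
    le_pElementClosure_of_isPGroup p le_top P.isPGroup'
  have hpP : p ∣ Nat.card ↥(P : Subgroup G) := dvd_card_of_pGroup_ne_bot P.isPGroup' hP1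
  rw [← Subgroup.inf_subgroupOf_left]
  refine isStronglyPEmbedded_subgroupOf hX _ ?_ ?_
  · intro hRX
    obtain ⟨g, -, hg⟩ := SetLike.exists_of_lt (lt_top_iff_ne_top.2 hX.2.1)
    have h1 : (P : Subgroup G).map (cj g⁻¹) ≤ X :=
      (le_pElementClosure_of_isPGroup p le_top (P.isPGroup'.map _)).trans hRX
    have h2 : (P : Subgroup G) ≤ X ⊓ X.map (cj g) := by
      refine le_inf hPX ?_
      rw [map_cj_le_iff] at h1
      rwa [inv_inv] at h1
    exact not_dvd_inf_conj_of_normProp hN g hg (hpP.trans (Subgroup.card_dvd_of_le h2))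
  · exact hpP.trans (Subgroup.card_dvd_of_le (le_inf hPR hPX))

end Cfsg.Agent.Helper14

namespace Cfsg.Agent.Helper14

open Cfsg

variable {G : Type*} [Group G] [Finite G] {p : ℕ} [Fact p.Prime]

theorem isStronglyPEmbedded_map_mk {X : Subgroup G} (hX : IsStronglyPEmbedded p X)
    (N : Subgroup G) [N.Normal] (hNp : (Nat.card ↥N).Coprime p) (hXN : X ⊔ N ≠ ⊤) :
    IsStronglyPEmbedded p (X.map (QuotientGroup.mk' N)) := by
  have hN := normProp_of_isStronglyPEmbedded hX
  obtain ⟨P, hPX, hP1⟩ := dvd_card_of_isStronglyPEmbedded hX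
  have hcomap : (X.map (QuotientGroup.mk' N)).comap (QuotientGroup.mk' N) = X ⊔ N := by
    rw [Subgroup.comap_map_eq, QuotientGroup.ker_mk']
  have hpN : ∀ A : Subgroup G, IsPGroup p ↥A → A ≤ N → A = ⊥ := by
    intro A hA hAN
    obtain ⟨k, hk⟩ := IsPGroup.iff_card.1 hA
    have h1 : Nat.card ↥A ∣ Nat.card ↥N := Subgroup.card_dvd_of_le hAN
    have h2 : (Nat.card ↥A).Coprime p := Nat.Coprime.coprime_dvd_left h1 hNp
    rw [hk] at h2
    rcases Nat.eq_zero_or_pos k with rfl | hkpos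
    · rw [pow_zero] at hk; exact Subgroup.card_eq_one.1 hk
    · exfalso
      have h3 := (Nat.coprime_pow_left_iff hkpos p p).1 h2
      exact (Fact.out : p.Prime).one_lt.ne' ((Nat.coprime_self p).1 h3)
  refine isStronglyPEmbedded_of_normProp ?_ ?_ ?_
  · intro h
    apply hXN
    rw [← hcomap, h, Subgroup.comap_top]
  · have h1 : (P : Subgroup G).map (QuotientGroup.mk' N) ≤ X.map (QuotientGroup.mk' N) :=
      Subgroup.map_mono hPX
    have h2 : (P : Subgroup G).map (QuotientGroup.mk' N) ≠ ⊥ := by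
      intro hb
      rw [Subgroup.map_eq_bot_iff, QuotientGroup.ker_mk'] at hb
      exact hP1 (hpN _ P.isPGroup' hb)
    exact (dvd_card_of_pGroup_ne_bot (P.isPGroup'.map _) h2).trans (Subgroup.card_dvd_of_le h1)
  · intro A hAX hA hA1 gbar hg
    obtain ⟨g, rfl⟩ := QuotientGroup.mk'_surjective N gbar
    set B := A.comap (QuotientGroup.mk' N) with hB
    have hNB : N ≤ B := by
      intro n hn
      rw [hB, Subgroup.mem_comap]
      have : QuotientGroup.mk' N n = 1 := (QuotientGroup.eq_one_iff n).2 hn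
      rw [this]; exact A.one_mem
    have hBXN : B ≤ X ⊔ N := by
      rw [← hcomap]; exact Subgroup.comap_mono hAX
    have hBmap : B.map (QuotientGroup.mk' N) = A :=
      Subgroup.map_comap_eq_self_of_surjective (QuotientGroup.mk'_surjective N) A
    have hgB : g ∈ Subgroup.normalizer (B : Set G) := by
      have := Subgroup.comap_normalizer_eq_of_surjective A (QuotientGroup.mk'_surjective N)
      rw [hB, ← this, Subgroup.mem_comap]
      exact hg
    obtain ⟨A₀, hA₀⟩ := exists_isSylowIn (p := p) B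
    have hPS : IsSylowIn p (P : Subgroup G) (X ⊔ N) :=
      isSylowIn_of_sylow_le P (hPX.trans le_sup_left)
    obtain ⟨U, hU, hA₀U⟩ := exists_isSylowIn_ge (hA₀.1.trans hBXN) hA₀.2.1
    obtain ⟨y, hy, hUy⟩ := hPS.exists_conj hU
    rw [sup_comm, Subgroup.mem_sup_of_normal_left] at hy
    obtain ⟨n, hn, x, hx, rfl⟩ := hy
    set A₁ := A₀.map (cj n⁻¹) with hA₁
    have hA₁X : A₁ ≤ X := by
      have h1 : A₀ ≤ ((P : Subgroup G).map (cj x)).map (cj n) := by
        rw [map_cj_mul, ← hUy]; exact hA₀U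
      have h2 : A₁ ≤ (P : Subgroup G).map (cj x) := by
        rw [hA₁, map_cj_le_iff, inv_inv]; exact h1
      refine h2.trans ?_
      rw [map_cj_le_iff, map_cj_eq_self_of_mem (X.inv_mem hx)]; exact hPX
    have hA₁S : IsSylowIn p A₁ B := by
      have := hA₀.map_cj n⁻¹
      rwa [map_cj_eq_self_of_mem (hNB (N.inv_mem hn))] at this
    have hA₁1 : A₁ ≠ ⊥ := by
      refine ne_bot_of_isSylowIn_of_dvd ?_ hA₁S
      have h1 : Nat.card ↥A ∣ Nat.card ↥B := by
        rw [← hBmap]; exact Subgroup.card_map_dvd _ _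
      exact (dvd_card_of_pGroup_ne_bot hA hA1).trans h1
    have h3 := hN A₁ hA₁X hA₁S.2.1 hA₁1
    have h4 := frattini_ambient (p := p) (T := A₁) (N := B)
      (G := Subgroup.normalizer (B : Set G)) Subgroup.le_normalizer le_rfl hA₁S
    have h5 : g ∈ X ⊔ N :=
      (sup_le hBXN (inf_le_right.trans (h3.trans le_sup_left))) (h4 hgB)
    rw [← hcomap] at h5
    exact h5

end Cfsg.Agent.Helper14
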