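import Mathlib
import Cfsg.Prelude.Def_GeometricClasses
import Cfsg.Agent.Helper2.S5886.Defs
import Cfsg.Agent.Helper2.S5664.Defs
import Cfsg.Agent.Helper4.S5664SIEGEL
import Cfsg.Agent.Helper4.S5664PARTNER
import Cfsg.Agent.Helper25.S5664TCHAR2
import Cfsg.Agent.Helper12.S5664TBVFIX
import Cfsg.Agent.Helper20.S5664TRLIN

/-! # S5664 chapter T (r = p = 2), piece TDELTA — helper14 (design helper12) -/

set_option autoImplicit false

namespace Cfsg.Agent.S5664P

open Cfsg.Agent.S5886P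

variable {F K V : Type*} [Field F] [Field K] [Algebra F K]
  [AddCommGroup V] [Module F V] [Module K V] [IsScalarTower F K V]

theorem TDELTA.mem_Kline (v : V) (a : K) : a • v ∈ Kline (F := F) (K := K) v := by
  show a • v ∈ (Submodule.span K {v}).restrictScalars F
  rw [Submodule.restrictScalars_mem]
  exact Submodule.smul_mem _ a (Submodule.mem_span_singleton_self v)

theorem TDELTA.of_mem_Kline (v x : V) (hx : x ∈ Kline (F := F) (K := K) v) : ∃ a : K, a • v = x := by
  have hx' : x ∈ (Submodule.span K {v}).restrictScalars F := hx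
  rw [Submodule.restrictScalars_mem] at hx'
  exact Submodule.mem_span_singleton.mp hx'

/-- TDELTA (M). -/
theorem TDELTA [Finite F] [Finite K] [Finite V] [CharP F 2] (B : V →ₗ[K] V →ₗ[K] K) (hB : IsAltND B)
    (M : Subgroup (V ≃ₗ[F] V)) (hK : SpK F B ≤ M) (hM : M ≤ SpF F B) (v : V) (hv : v ≠ 0)
    (hY : ∀ A ∈ yset M (Kline (F := F) (K := K) v), ∀ (c : K) (x : V), A (c • x) = c • A x)
    (g : V ≃ₗ[F] V) (hg : g ∈ StabPt M (Kline (F := F) (K := K) v)) (u : V) (hu : B u v = 0) (c : K) :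
    g (c • u) - c • g u ∈ Kline (F := F) (K := K) v := by
  obtain ⟨hK2, hV2, hsym⟩ := TCHAR2 (F := F) B hB
  obtain ⟨s, hsK, hs⟩ := SIEGEL (F := F) B hB v u hu
  obtain ⟨v', hvv'⟩ := PARTNER B hB v hv
  have hv'v : B v' v = 1 := by rw [hsym]; exact hvv'
  have hgM : g ∈ M := hg.1
  have hgL : ∀ x ∈ Kline (F := F) (K := K) v, g x = x := hg.2
  have hgi : g⁻¹ ∈ StabPt M (Kline (F := F) (K := K) v) := Subgroup.inv_mem _ hg
  have hgiM : g⁻¹ ∈ M := hgi.1
  have hgiL : ∀ x ∈ Kline (F := F) (K := K) v, g⁻¹ x = x := hgi.2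
  have e1 : ∀ y, g (g⁻¹ y) = y := fun y => by
    show g (g.symm y) = y
    exact g.apply_symm_apply y
  have hbv : ∀ y, B (g⁻¹ y) v = B y v := fun y => TBVFIX B v g⁻¹ (hM hgiM) hgiL y
  -- ρ
  set ρ : V ≃ₗ[F] V := g * s * g⁻¹ with hρdef
  have hρM : ρ ∈ M := M.mul_mem (M.mul_mem hgM (hK hsK)) hgiM
  have hρ : ∀ y, ρ y = y + g (B (g⁻¹ y) u • v + B (g⁻¹ y) v • u) := by
    intro y
    show g (s (g⁻¹ y)) = _
    rw [hs, add_assoc, map_add, e1]
  have hρL : ∀ x ∈ Kline (F := F) (K := K) v, ρ x = x := by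
    intro x hx
    obtain ⟨a, rfl⟩ := TDELTA.of_mem_Kline (F := F) v x hx
    rw [hρ, hgiL _ hx]
    have h1 : B (a • v) u = 0 := by
      rw [map_smul, LinearMap.smul_apply, hsym, hu, smul_zero]
    have h2 : B (a • v) v = 0 := by
      rw [map_smul, LinearMap.smul_apply, hB.alt, smul_zero]
    rw [h1, h2, zero_smul, zero_smul, add_zero, map_zero, add_zero]
  have hρP : ∀ y, B y v = 0 → ρ y - y ∈ Kline (F := F) (K := K) v := by
    intro y hy
    rw [hρ, hbv, hy, zero_smul, add_zero, hgL _ (TDELTA.mem_Kline (F := F) v _), add_sub_cancel_left]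
    exact TDELTA.mem_Kline (F := F) v _
  have hlin := TRLIN B hB M hK hM v hv hY ρ hρM hρL hρP
  -- compare
  have h3 := hlin c v'
  rw [hρ, hρ, hbv, hbv] at h3
  have h4 : B (c • v') v = c := by
    rw [map_smul, LinearMap.smul_apply, hv'v, smul_eq_mul, mul_one]
  rw [h4, hv'v, one_smul] at h3
  rw [map_add, map_add, hgL _ (TDELTA.mem_Kline (F := F) v _), hgL _ (TDELTA.mem_Kline (F := F) v _)] at h3
  have h5 : g (c • u) - c • g u = (c * B (g⁻¹ v') u - B (g⁻¹ (c • v')) u) • v := by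
    rw [sub_smul, mul_smul]
    rw [smul_add, smul_add] at h3
    have h6 : g (c • u) = c • B (g⁻¹ v') u • v + c • g u - B (g⁻¹ (c • v')) u • v := by
      rw [eq_sub_iff_add_eq]
      have h7 := add_left_cancel h3
      rw [add_comm] at h7
      exact h7
    rw [h6]
    abel
  rw [h5]
  exact TDELTA.mem_Kline (F := F) v _

end Cfsg.Agent.S5664P
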