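import Cfsg.Agent.Helper12.S5683Lib
import Cfsg.Agent.Helper28.FieldO4
import Cfsg.Agent.Helper11.FinSub

/-! S5683 piece STD (driver helper12): the `F₀`-form defined by `P` is similar to the standard one by a
rational change of basis. Reduction to `Helper28.FO.hclass_odd` for the Frobenius of `F` over `F₀`. -/

set_option autoImplicit false
set_option linter.unusedSectionVars false
set_option linter.unusedVariables false

namespace Cfsg.Agent.S5683P

open Matrix Cfsg.Agent.Helper28.Sg Cfsg.Agent.Helper28.Spin Cfsg.Agent.Helper12.OrthGen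
  Cfsg.Agent.S2614

variable {F : Type*} [Field F] {m : ℕ}

namespace STD

/-- the Frobenius of `F` over `F₀` -/
theorem exists_frob [Fintype F] (F₀ : Subfield F) :
    ∃ σ : F ≃+* F, ∀ x, σ x = x ^ Nat.card F₀ := by
  classical
  obtain ⟨p, hp⟩ := CharP.exists F
  have : CharP F p := hp
  have : CharP ↥F₀ p := by
    refine (RingHom.charP_iff (A := F) F₀.subtype F₀.subtype.injective p).2 hp
  let : Fintype ↥F₀ := Fintype.ofFinite _
  obtain ⟨k, hpp, hk⟩ := FiniteField.card ↥F₀ p
  have : Fact p.Prime := ⟨hpp⟩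
  have : ExpChar F p := ExpChar.prime hpp
  refine ⟨iterateFrobeniusEquiv F p k, fun x => ?_⟩
  rw [iterateFrobeniusEquiv_def, Nat.card_eq_fintype_card, hk]

/-- expansion of the polar form in coordinates -/
theorem polar_expand {ι : Type} [Fintype ι] [DecidableEq ι] (R : QuadraticForm F (ι → F))
    (x y : ι → F) :
    QuadraticMap.polar R x y = ∑ k, ∑ l, x k * y l *
      QuadraticMap.polar R (Pi.single k (1 : F)) (Pi.single l (1 : F)) := by
  have hx : x = ∑ k, x k • (Pi.single k (1 : F) : ι → F) := by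
    funext j
    simp [Finset.sum_apply, Pi.single_apply]
  have hy : y = ∑ k, y k • (Pi.single k (1 : F) : ι → F) := by
    funext j
    simp [Finset.sum_apply, Pi.single_apply]
  have h1 : QuadraticMap.polar R x y = QuadraticMap.polarBilin R
      (∑ k, x k • (Pi.single k (1 : F) : ι → F)) (∑ k, y k • (Pi.single k (1 : F) : ι → F)) := by
    rw [← hx, ← hy, QuadraticMap.polarBilin_apply_apply]
  rw [h1]
  simp only [map_sum, LinearMap.sum_apply, map_smul, LinearMap.smul_apply, smul_eq_mul,
    QuadraticMap.polarBilin_apply_apply]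
  simp only [Finset.mul_sum]
  rw [Finset.sum_comm]
  refine Finset.sum_congr rfl fun k _ => Finset.sum_congr rfl fun l _ => ?_
  ring

/-- expansion of a quadratic form in coordinates -/
theorem two_mul_quad {ι : Type} [Fintype ι] [DecidableEq ι] (R : QuadraticForm F (ι → F))
    (w : ι → F) :
    2 * R w = ∑ k, ∑ l, w k * w l *
      QuadraticMap.polar R (Pi.single k (1 : F)) (Pi.single l (1 : F)) := by
  rw [← polar_expand, QuadraticMap.polar_self]
  simp

end STD

/-- STD: the `F₀`-form defined by `P` is similar to the standard one by a rational change of basis (Witt decomposition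
over `↥F₀`, `Helper13.QuadWitt.exists_wittDecomp`). -/
theorem STD.exists_std [Fintype F] (h2 : (2 : F) ≠ 0) (m : ℕ) (F₀ : Subfield F)
    (P : Matrix.GeneralLinearGroup (Idx m) F)
    (hP : Cfsg.Geo.IsQuadFormRationalStructure (Cfsg.quadFormOdd m F) F₀ P) :
    ∃ (T : Matrix.GeneralLinearGroup (Idx m) F) (δ : F),
      RatM F₀ (T : Matrix (Idx m) (Idx m) F) ∧
      RatM F₀ ((T⁻¹ : Matrix.GeneralLinearGroup (Idx m) F) : Matrix (Idx m) (Idx m) F) ∧ δ ≠ 0 ∧
      ∀ x : Idx m → F, Cfsg.quadFormOdd m F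
        (((P * T : Matrix.GeneralLinearGroup (Idx m) F) : Matrix (Idx m) (Idx m) F) *ᵥ x) =
          δ * Cfsg.quadFormOdd m F x := by
  classical
  obtain ⟨σ, hσ⟩ := STD.exists_frob F₀
  have hfix : ∀ x : F, x ∈ F₀ ↔ σ x = x := by
    intro x
    rw [hσ]
    exact Cfsg.Agent.Helper11.FinSub.mem_iff_pow_card F₀ x
  -- the form `Q ∘ P`
  set R : QuadraticForm F (Idx m → F) :=
    (QfOdd m F).comp (Matrix.toLin' (P : Matrix (Idx m) (Idx m) F)) with hR
  have hRapp : ∀ w, R w = Cfsg.quadFormOdd m F ((P : Matrix (Idx m) (Idx m) F) *ᵥ w) := by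
    intro w
    rw [hR, QuadraticMap.comp_apply, Matrix.toLin'_apply, QfOdd_coe]
  have hRrat : ∀ u : Idx m → F, Rat F₀ u → R u ∈ F₀ := by
    intro u hu
    rw [hRapp]
    exact hP u hu
  have hpol : ∀ k l : Idx m,
      σ (QuadraticMap.polar R (Pi.single k (1 : F)) (Pi.single l (1 : F))) =
        QuadraticMap.polar R (Pi.single k (1 : F)) (Pi.single l (1 : F)) := by
    intro k l
    rw [← hfix]
    unfold QuadraticMap.polar
    exact F₀.sub_mem (F₀.sub_mem
      (hRrat _ (Rat.add (Rat.single k F₀.one_mem) (Rat.single l F₀.one_mem)))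
      (hRrat _ (Rat.single k F₀.one_mem))) (hRrat _ (Rat.single l F₀.one_mem))
  have hRσ : ∀ w : Idx m → F, R (Cfsg.Agent.Helper28.FO.vs σ w) = σ (R w) := by
    intro w
    have h1 := STD.two_mul_quad R (Cfsg.Agent.Helper28.FO.vs σ w)
    have h2' := congrArg σ (STD.two_mul_quad R w)
    rw [map_mul, map_sum] at h2'
    simp only [map_sum, map_mul, hpol] at h2'
    have h3 : (2 : F) * R (Cfsg.Agent.Helper28.FO.vs σ w) = σ 2 * σ (R w) := by
      rw [h1, h2']
      rfl
    rw [map_ofNat] at h3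
    exact mul_left_cancel₀ h2 h3
  obtain ⟨a, d, ha, had⟩ := Cfsg.Agent.Helper28.FO.hclass_odd h2 m σ R hRσ
    ⟨P, 1, fun w => by rw [Units.val_one, one_mul, hRapp, QfOdd_coe]⟩
  have hrat : ∀ g : Matrix.GeneralLinearGroup (Idx m) F,
      Cfsg.Agent.Helper28.SSim.mapGL σ g = g → RatM F₀ (g : Matrix (Idx m) (Idx m) F) := by
    intro g hg i j
    rw [hfix]
    have := congrArg (fun M : Matrix.GeneralLinearGroup (Idx m) F =>
      (M : Matrix (Idx m) (Idx m) F) i j) hg
    simpa [Cfsg.Agent.Helper28.SSim.mapGL_val] using this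
  refine ⟨a, (d : F), hrat a ha, hrat a⁻¹ (by rw [map_inv, ha]), d.ne_zero, fun x => ?_⟩
  have := had x
  rw [hRapp, QfOdd_coe, Matrix.mulVec_mulVec] at this
  rw [Units.val_mul]
  exact this

end Cfsg.Agent.S5683P
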