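import Cfsg.Agent.Helper12.S5683Lib
import Cfsg.Agent.Helper12.S5683COMM2
import Cfsg.Agent.Helper23.S5683RATSIEG
import Cfsg.Agent.Helper20.S5683TRANSO
import Cfsg.Agent.Helper17.S5683CENTRAT

/-! S5683 piece PLANE (driver helper12): an `M`-root line `⟨v, w⟩` orthogonal to a rational singular
point `b` spans a rational plane with it. -/

set_option autoImplicit false
set_option linter.unusedSectionVars false
set_option linter.unusedVariables false

namespace Cfsg.Agent.S5683P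

open Matrix Cfsg.Agent.Helper28.Sg Cfsg.Agent.Helper28.Spin Cfsg.Agent.Helper12.OrthGen
  Cfsg.Agent.S2614

variable {F : Type*} [Field F] {m : ℕ}

namespace PLANE

/-- the coordinate vector dual to the coordinate `k` -/
def cv (F : Type*) [Field F] (m : ℕ) : Idx m → (Idx m → F)
  | Sum.inl _ => dd F m
  | Sum.inr (Sum.inl j) => ff F j
  | Sum.inr (Sum.inr j) => ee F j

/-- the scalar by which the coordinate is multiplied -/
def cg (F : Type*) [Field F] (m : ℕ) : Idx m → F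
  | Sum.inl _ => 2
  | Sum.inr (Sum.inl _) => 1
  | Sum.inr (Sum.inr _) => 1

theorem rat_cv (F₀ : Subfield F) (k : Idx m) : Rat F₀ (cv F m k) := by
  rcases k with u | j | j
  · exact rat_dd
  · exact rat_ff j
  · exact rat_ee j

theorem cg_ne (h2 : (2 : F) ≠ 0) (k : Idx m) : cg F m k ≠ 0 := by
  rcases k with u | j | j
  · exact h2
  · exact one_ne_zero
  · exact one_ne_zero

theorem B_cv (x : Idx m → F) (k : Idx m) : B (QfOdd m F) x (cv F m k) = cg F m k * x k := by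
  rcases k with u | j | j
  · show B (QfOdd m F) x (dd F m) = 2 * x (Sum.inl u)
    rw [B_dd']
  · show B (QfOdd m F) x (ff F j) = 1 * x (Sum.inr (Sum.inl j))
    rw [B_ff', one_mul]
  · show B (QfOdd m F) x (ee F j) = 1 * x (Sum.inr (Sum.inr j))
    rw [B_ee', one_mul]

/-- a vector supported on the coordinate of `e_i` is a multiple of `e_i` -/
theorem eq_smul_ee (i : Fin m) (z : Idx m → F)
    (hz : ∀ k : Idx m, k ≠ Sum.inr (Sum.inl i) → z k = 0) :
    z = z (Sum.inr (Sum.inl i)) • ee F i := by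
  classical
  funext k
  by_cases hk : k = Sum.inr (Sum.inl i)
  · subst hk
    simp [ee]
  · rw [hz k hk]
    simp [ee, Pi.single_eq_of_ne hk]

theorem ee_apply_ne (i : Fin m) (k : Idx m) (hk : k ≠ Sum.inr (Sum.inl i)) : ee F i k = 0 := by
  classical
  simp [ee, Pi.single_eq_of_ne hk]

end PLANE

/-- PLANE: an `M`-root line `⟨v, w⟩` orthogonal to a rational singular point `b` spans a rational plane with it
(COMM2 + CENTRAT for all rational `a ⊥ b`; two such `a` with independent `(B(v,a), B(w,a))`). -/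
theorem PLANE.ratPlane (h2 : (2 : F) ≠ 0) (hm : 4 ≤ m) (F₀ : Subfield F) (M : Subgroup (OG m F))
    (hM : HasRatO F₀ M) (hR : RootRatO F₀ M) (v w b : Idx m → F) (hv : QfOdd m F v = 0)
    (hw : QfOdd m F w = 0) (hvw : B (QfOdd m F) v w = 0) (hw' : w ∈ Rad M v hv) (hb : Rat F₀ b)
    (hQb : QfOdd m F b = 0) (hbv : B (QfOdd m F) b v = 0) (hbw : B (QfOdd m F) b w = 0)
    (hind : LinearIndependent F ![v, w, b]) : RatPlane F₀ v w b := by
  classical
  have hb0 : b ≠ 0 := hind.ne_zero 2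
  -- independence, elementary form
  have H3 : ∀ α β γ : F, α • v + β • w + γ • b = 0 → α = 0 ∧ β = 0 ∧ γ = 0 := by
    intro α β γ h
    have := Fintype.linearIndependent_iff.1 hind ![α, β, γ] (by
      simpa [Fin.sum_univ_three] using h)
    exact ⟨this 0, this 1, this 2⟩
  -- step 1: every rational `a ⊥ b` gives a rational vector of the plane
  have step1 : ∀ a : Idx m → F, Rat F₀ a → B (QfOdd m F) b a = 0 →
      ∃ t : F, Rat F₀ (B (QfOdd m F) w a • v - B (QfOdd m F) v a • w - t • b) := by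
    intro a ha hba
    have ha' : a ∈ Rad M b hQb := RATSIEG.mem_rad F₀ M hM b a hb ha hQb hba
    have hx := COMM2.mem_rad M hv hw hQb hvw hbv hbw hw' ha'
    exact CENTRAT.rat_mod h2 hm F₀ M hM hR b _ hb hb0 hQb hx
  -- step 2: move `b` to `e_0`
  have hm0 : 0 < m := by omega
  obtain ⟨g, c, hgS, hgr, hgr', hc, hc0, hgb⟩ :=
    TRANSO.exists_move₁ h2 (by omega : 3 ≤ m) F₀ b hb hb0 hQb ⟨0, hm0⟩
  set i₀ : Fin m := ⟨0, hm0⟩ with hi₀
  set k₀ : Idx m := Sum.inr (Sum.inl i₀) with hk₀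
  set v' := mt (QfOdd m F) g *ᵥ v with hv'
  set w' := mt (QfOdd m F) g *ᵥ w with hw''
  have H3' : ∀ α β γ : F, α • v' + β • w' + γ • ee F i₀ = 0 → α = 0 ∧ β = 0 := by
    intro α β γ h
    have h1 : mt (QfOdd m F) g *ᵥ (α • v + β • w + (γ * c⁻¹) • b) = 0 := by
      rw [Matrix.mulVec_add, Matrix.mulVec_add, Matrix.mulVec_smul, Matrix.mulVec_smul,
        Matrix.mulVec_smul, hgb, smul_smul, mul_assoc, inv_mul_cancel₀ hc0, mul_one]
      exact h
    have h2' := congrArg (fun z => mt (QfOdd m F) g⁻¹ *ᵥ z) h1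
    simp only [mt_inv_mulVec, Matrix.mulVec_zero] at h2'
    obtain ⟨h3, h4, -⟩ := H3 _ _ _ h2'
    exact ⟨h3, h4⟩
  -- the rational vectors `a_k`
  set a : Idx m → (Idx m → F) := fun k => mt (QfOdd m F) g⁻¹ *ᵥ PLANE.cv F m k with ha
  have ha_rat : ∀ k, Rat F₀ (a k) := fun k => RatM.mulVec hgr' (PLANE.rat_cv F₀ k)
  have hBa : ∀ (x : Idx m → F) (k : Idx m),
      B (QfOdd m F) x (a k) = PLANE.cg F m k * (mt (QfOdd m F) g *ᵥ x) k := by
    intro x k
    rw [← PLANE.B_cv, ← B_isom (QfOdd m F) g x (a k), ha]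
    simp only [mt_mulVec_inv]
  have hba : ∀ k, k ≠ k₀ → B (QfOdd m F) b (a k) = 0 := by
    intro k hk
    rw [hBa, hgb, Pi.smul_apply, PLANE.ee_apply_ne i₀ k hk, smul_zero, mul_zero]
  -- two coordinates with a non-zero minor
  have hex : ∃ k₁ k₂ : Idx m, k₁ ≠ k₀ ∧ k₂ ≠ k₀ ∧ v' k₁ * w' k₂ - v' k₂ * w' k₁ ≠ 0 := by
    by_contra hno
    push Not at hno
    have hv0 : ∀ k₁ : Idx m, k₁ ≠ k₀ → v' k₁ = 0 := by
      intro k₁ hk₁
      set z : Idx m → F := (-w' k₁) • v' + v' k₁ • w' with hz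
      have hz0 : ∀ k : Idx m, k ≠ k₀ → z k = 0 := by
        intro k hk
        have := hno k₁ k hk₁ hk
        rw [hz]
        simp only [Pi.add_apply, Pi.smul_apply, smul_eq_mul]
        linear_combination this
      have hz1 := PLANE.eq_smul_ee i₀ z hz0
      have : (-w' k₁) • v' + v' k₁ • w' + (-(z k₀)) • ee F i₀ = 0 := by
        rw [← hz, neg_smul, ← hz1]
        exact add_neg_cancel z
      exact (H3' _ _ _ this).2
    have hz1 := PLANE.eq_smul_ee i₀ v' hv0
    have : (1 : F) • v' + (0 : F) • w' + (-(v' k₀)) • ee F i₀ = 0 := by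
      rw [one_smul, zero_smul, add_zero, neg_smul, ← hz1]
      exact add_neg_cancel v'
    exact one_ne_zero (H3' _ _ _ this).1
  obtain ⟨k₁, k₂, hk₁, hk₂, hdet⟩ := hex
  obtain ⟨t₁, ht₁⟩ := step1 (a k₁) (ha_rat k₁) (hba k₁ hk₁)
  obtain ⟨t₂, ht₂⟩ := step1 (a k₂) (ha_rat k₂) (hba k₂ hk₂)
  show ∃ a₁ b₁ t₁ a₂ b₂ t₂ : F, a₁ * b₂ - a₂ * b₁ ≠ 0 ∧ Rat F₀ (a₁ • v + b₁ • w + t₁ • b) ∧
    Rat F₀ (a₂ • v + b₂ • w + t₂ • b)
  refine ⟨B (QfOdd m F) w (a k₁), -B (QfOdd m F) v (a k₁), -t₁,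
    B (QfOdd m F) w (a k₂), -B (QfOdd m F) v (a k₂), -t₂, ?_, ?_, ?_⟩
  · rw [hBa, hBa, hBa, hBa]
    have e1 := PLANE.cg_ne (m := m) h2 k₁
    have e2 := PLANE.cg_ne (m := m) h2 k₂
    intro h
    apply hdet
    have h5 : PLANE.cg F m k₁ * PLANE.cg F m k₂ * (v' k₁ * w' k₂ - v' k₂ * w' k₁) = 0 := by
      linear_combination h
    rcases mul_eq_zero.1 h5 with h6 | h6
    · rcases mul_eq_zero.1 h6 with h7 | h7
      · exact absurd h7 e1
      · exact absurd h7 e2
    · exact h6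
  · have : B (QfOdd m F) w (a k₁) • v + -B (QfOdd m F) v (a k₁) • w + -t₁ • b =
        B (QfOdd m F) w (a k₁) • v - B (QfOdd m F) v (a k₁) • w - t₁ • b := by
      rw [neg_smul, neg_smul, ← sub_eq_add_neg, ← sub_eq_add_neg]
    rw [this]
    exact ht₁
  · have : B (QfOdd m F) w (a k₂) • v + -B (QfOdd m F) v (a k₂) • w + -t₂ • b =
        B (QfOdd m F) w (a k₂) • v - B (QfOdd m F) v (a k₂) • w - t₂ • b := by
      rw [neg_smul, neg_smul, ← sub_eq_add_neg, ← sub_eq_add_neg]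
    rw [this]
    exact ht₂

end Cfsg.Agent.S5683P
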