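import Cfsg.Agent.Helper12.SzTDefs
import Cfsg.Agent.Helper24.BrauerChar
import Cfsg.Agent.Helper24.Generalized

set_option autoImplicit false

namespace Cfsg.Agent.SZT

open Cfsg Cfsg.Agent.Helper11.SCTI Cfsg.Agent.Helper24
open scoped Classical ComplexConjugate

universe u

variable {G : Type u} [Group G] [Fintype G]

/-- generic: restriction to a subgroup of a conjugate -/
theorem isGen_restrict_cj (H : Subgroup G) (f : G → ℂ) (hf : IsClassFunction G f)
    (hH : IsGeneralizedCharacter H (fun x : H => f x)) (h : G) (E : Subgroup G)
    (hE : E ≤ cj h H) : IsGeneralizedCharacter E (fun e : E => f e) := by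
  -- the homomorphism `E → H`, `e ↦ h⁻¹ e h`
  let φ : E →* H :=
    { toFun := fun e => ⟨h⁻¹ * (e : G) * h, mem_cj.mp (hE e.2)⟩
      map_one' := by
        apply Subtype.ext
        simp
      map_mul' := by
        intro a b
        apply Subtype.ext
        simp only [Subgroup.coe_mul]
        group }
  have h1 := IsGeneralizedCharacter.comp hH φ
  convert h1 using 1
  funext e
  show f (e : G) = f (h⁻¹ * (e : G) * h)
  have := hf (e : G) h⁻¹
  rw [inv_inv] at this
  exact this.symm

end Cfsg.Agent.SZT
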