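import Cfsg.Agent.Helper12.SzTDefs
import Cfsg.Agent.Helper24.BrauerChar
import Cfsg.Agent.Helper24.Generalized
import Cfsg.Agent.Helper24.Regular

set_option autoImplicit false

namespace Cfsg.Agent.SZT

open Cfsg Cfsg.Agent.Helper11.SCTI Cfsg.Agent.Helper24
open scoped Classical ComplexConjugate

universe u

variable {G : Type u} [Group G] [Fintype G]

/-- the regular character of a finite group is a generalised character -/
theorem DELTA_isGen_regular (H : Type u) [Group H] [Fintype H] :
    IsGeneralizedCharacter H (fun x : H => if x = 1 then (Nat.card H : ℂ) else 0) := by
  have h := IsCharacter.isGeneralizedCharacter (isCharacter_character (Representation.leftRegular ℂ H))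
  have e : (Representation.leftRegular ℂ H).character =
      (fun x : H => if x = 1 then (Nat.card H : ℂ) else 0) := by
    funext x
    rw [leftRegular_character]
  rw [e] at h
  exact h

/-- generic: integer multiples of the regular character -/
theorem isGen_delta (A : Subgroup G) (k : ℤ) :
    IsGeneralizedCharacter A (fun x : A => if x = 1 then (k : ℂ) * (Nat.card A : ℂ) else 0) := by
  have h := IsGeneralizedCharacter.zsmul (DELTA_isGen_regular (H := A)) k
  convert h using 1
  funext x
  simp only [Pi.smul_apply, smul_eq_mul]
  split_ifs <;> simp

end Cfsg.Agent.SZT
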