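import Cfsg.Agent.Helper12.SzTDefs
import Cfsg.Agent.Helper24.BrauerChar
import Cfsg.Agent.Helper24.Generalized
import Cfsg.Agent.Helper24.Regular
import Cfsg.Agent.Helper24.Linear

set_option autoImplicit false

namespace Cfsg.Agent.SZT

open Cfsg Cfsg.Agent.Helper11.SCTI Cfsg.Agent.Helper24
open scoped Classical ComplexConjugate

universe u

variable {G : Type u} [Group G] [Fintype G]

/-- the regular character of a finite group is a generalised character -/
theorem GENU_isGen_regular (H : Type u) [Group H] [Fintype H] :
    IsGeneralizedCharacter H (fun x : H => if x = 1 then (Nat.card H : ℂ) else 0) := by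
  have h := IsCharacter.isGeneralizedCharacter
    (isCharacter_character (Representation.leftRegular ℂ H))
  have e : (Representation.leftRegular ℂ H).character =
      (fun x : H => if x = 1 then (Nat.card H : ℂ) else 0) := by
    funext x
    rw [leftRegular_character]
  rw [e] at h
  exact h

namespace Cfg

variable (C : Cfg G)

theorem isGen_U (a b c e : ℤ) :
    IsGeneralizedCharacter C.U (fun u : C.U =>
      if (u : G) = 1 then (a : ℂ) + b * C.q + c * (((C.q : ℂ) - 1) * C.r) + e * (C.q : ℂ) ^ 2
      else if orderOf (u : G) = 2 then (a : ℂ) + b * C.q - c * C.r else (a : ℂ)) := by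
  have h1 := IsGeneralizedCharacter.zsmul
    (IsCharacter.isGeneralizedCharacter (isCharacter_const_one (G := C.U))) a
  have h2 := IsGeneralizedCharacter.zsmul (IsCharacter.isGeneralizedCharacter C.rzU) b
  have h3 := IsGeneralizedCharacter.zsmul (IsCharacter.isGeneralizedCharacter C.psiU) c
  have h4 := IsGeneralizedCharacter.zsmul (GENU_isGen_regular (H := C.U)) e
  have h := IsGeneralizedCharacter.add (IsGeneralizedCharacter.add (IsGeneralizedCharacter.add h1 h2) h3) h4
  convert h using 1
  funext u
  simp only [Pi.add_apply, Pi.smul_apply, smul_eq_mul]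
  have hcard : (Nat.card C.U : ℂ) = (C.q : ℂ) ^ 2 := by
    rw [C.card_U]; push_cast; rfl
  by_cases hu1 : (u : G) = 1
  · have hu1' : u = 1 := Subtype.ext hu1
    have p1 : ((u : G) = 1) = True := eq_true hu1
    have p1' : (u = 1) = True := eq_true hu1'
    simp only [p1, p1', if_true, true_or, hcard]
    ring
  · have hu1' : u ≠ 1 := fun h => hu1 (by rw [h]; rfl)
    have p1 : ((u : G) = 1) = False := eq_false hu1
    have p1' : (u = 1) = False := eq_false hu1'
    by_cases hu2 : orderOf (u : G) = 2
    · have p2 : (orderOf (u : G) = 2) = True := eq_true hu2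
      simp only [p1, p1', p2, if_true, if_false, false_or]
      ring
    · have p2 : (orderOf (u : G) = 2) = False := eq_false hu2
      simp only [p1, p1', p2, if_false, false_or]
      ring

end Cfg

end Cfsg.Agent.SZT
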