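import Cfsg.Agent.Helper12.SzTDefs
import Cfsg.Agent.Helper12.SZTARITH
import Cfsg.Agent.Helper24.Linear
import Cfsg.Prelude.Def_DegreeGraph

/-!
# SZT piece DEGS: the set of character degrees of a Suzuki-type group

`Cfg.DEGS_charDegrees_eq_core` is the piece with every not yet landed input as a hypothesis; the
stub statement `Cfg.charDegrees_eq` is the one-line application given at the end of the file in a
comment (to be put where `table`, `irr_cases`, `cX_one`, ..., `irr_cX`, ..., `card_dual_ne_one` are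
all available).
-/

set_option autoImplicit false

namespace Cfsg.Agent.SZT

open Cfsg Cfsg.Agent.Helper11.SCTI Cfsg.Agent.Helper24
open scoped Classical ComplexConjugate

universe u

variable {G : Type u} [Group G] [Fintype G]

/-- the degree of a function whose value at one is a natural number -/
theorem DEGS_charDegree_of_natCast {H : Type u} [Group H] (χ : H → ℂ) (d : ℕ) (h : χ 1 = d) :
    charDegree χ = d := by
  rw [charDegree, h, Complex.natCast_re, Nat.floor_natCast]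

/-- a group with more than one element of the dual has a non-trivial linear character -/
theorem DEGS_exists_ne_one {A : Subgroup G}
    (h1 : Nat.card {θ : A →* ℂˣ // θ ≠ 1} = Nat.card A - 1) (h : 2 ≤ Nat.card A) :
    ∃ θ : A →* ℂˣ, θ ≠ 1 := by
  have h2 : 0 < Nat.card {θ : A →* ℂˣ // θ ≠ 1} := by omega
  obtain ⟨⟨θ, hθ⟩⟩ := (Nat.card_pos_iff.mp h2).1
  exact ⟨θ, hθ⟩

namespace Cfg

variable (C : Cfg G)

theorem DEGS_cast_d1 :
    (((C.q + 1 - C.r) * (C.q - 1) : ℕ) : ℂ) = ((C.q : ℂ) - C.r + 1) * ((C.q : ℂ) - 1) := by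
  rw [Nat.cast_mul, C.cast_n2, C.cast_n0]
  ring

theorem DEGS_cast_d2 :
    (((C.q + C.r + 1) * (C.q - 1) : ℕ) : ℂ) = ((C.q : ℂ) + C.r + 1) * ((C.q : ℂ) - 1) := by
  rw [Nat.cast_mul, C.cast_n0]
  push_cast
  ring

theorem DEGS_cast_w :
    ((C.r / 2 * (C.q - 1) : ℕ) : ℂ) = (C.r : ℂ) * ((C.q : ℂ) - 1) / 2 := by
  obtain ⟨k, hk⟩ := C.r_even
  have h1 : C.r / 2 = k := by omega
  rw [Nat.cast_mul, C.cast_n0, h1, hk]
  push_cast
  ring

/-- the set of character degrees, from the character table -/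
theorem DEGS_charDegrees_eq_core {W₁ W₂ : G → ℂ} (hT : C.IsTable W₁ W₂)
    (hcases : ∀ ψ : IrrCharacter G,
      (ψ : G → ℂ) = (fun _ => 1) ∨ (ψ : G → ℂ) = C.cX ∨
      (∃ θ : C.A0 →* ℂˣ, θ ≠ 1 ∧ (ψ : G → ℂ) = C.cF0 θ) ∨
      (∃ θ : C.A1 →* ℂˣ, θ ≠ 1 ∧ (ψ : G → ℂ) = C.cF1 θ) ∨
      (∃ θ : C.A2 →* ℂˣ, θ ≠ 1 ∧ (ψ : G → ℂ) = C.cF2 θ) ∨
      (ψ : G → ℂ) = W₁ ∨ (ψ : G → ℂ) = W₂)
    (hX1 : C.cX 1 = (C.q : ℂ) ^ 2)
    (h01 : ∀ θ : C.A0 →* ℂˣ, C.cF0 θ 1 = (C.q : ℂ) ^ 2 + 1)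
    (h11 : ∀ θ : C.A1 →* ℂˣ, C.cF1 θ 1 = ((C.q : ℂ) - C.r + 1) * ((C.q : ℂ) - 1))
    (h21 : ∀ θ : C.A2 →* ℂˣ, C.cF2 θ 1 = ((C.q : ℂ) + C.r + 1) * ((C.q : ℂ) - 1))
    (iX : IsIrrCharacter G C.cX)
    (i0 : ∀ θ : C.A0 →* ℂˣ, θ ≠ 1 → IsIrrCharacter G (C.cF0 θ))
    (i1 : ∀ θ : C.A1 →* ℂˣ, θ ≠ 1 → IsIrrCharacter G (C.cF1 θ))
    (i2 : ∀ θ : C.A2 →* ℂˣ, θ ≠ 1 → IsIrrCharacter G (C.cF2 θ))
    (hd0 : Nat.card {θ : C.A0 →* ℂˣ // θ ≠ 1} = Nat.card C.A0 - 1)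
    (hd1 : Nat.card {θ : C.A1 →* ℂˣ // θ ≠ 1} = Nat.card C.A1 - 1)
    (hd2 : Nat.card {θ : C.A2 →* ℂˣ // θ ≠ 1} = Nat.card C.A2 - 1) :
    charDegrees G =
    {1, C.q ^ 2, C.q ^ 2 + 1, (C.q + 1 - C.r) * (C.q - 1), (C.q + C.r + 1) * (C.q - 1),
      C.r / 2 * (C.q - 1)} := by
  have hq := C.hq
  have h2r := C.two_r_le_q
  have h4r := C.four_le_r
  apply Set.Subset.antisymm
  · rintro d ⟨ψ, rfl⟩
    simp only [Set.mem_insert_iff, Set.mem_singleton_iff]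
    rcases hcases ψ with h | h | ⟨θ, -, h⟩ | ⟨θ, -, h⟩ | ⟨θ, -, h⟩ | h | h
    · left
      apply DEGS_charDegree_of_natCast
      rw [h]; simp
    · right; left
      apply DEGS_charDegree_of_natCast
      rw [h, hX1]; push_cast; rfl
    · right; right; left
      apply DEGS_charDegree_of_natCast
      rw [h, h01]; push_cast; rfl
    · right; right; right; left
      apply DEGS_charDegree_of_natCast
      rw [h, h11, C.DEGS_cast_d1]
    · right; right; right; right; left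
      apply DEGS_charDegree_of_natCast
      rw [h, h21, C.DEGS_cast_d2]
    · right; right; right; right; right
      apply DEGS_charDegree_of_natCast
      rw [h, hT.one₁, C.DEGS_cast_w]
    · right; right; right; right; right
      apply DEGS_charDegree_of_natCast
      rw [h, hT.one₂, C.DEGS_cast_w]
  · intro d hd
    simp only [Set.mem_insert_iff, Set.mem_singleton_iff] at hd
    rcases hd with rfl | rfl | rfl | rfl | rfl | rfl
    · refine ⟨⟨fun _ => 1, ?_⟩, ?_⟩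
      · have := isIrrCharacter_of_monoidHom (G := G) (1 : G →* ℂ)
        simpa using this
      · apply DEGS_charDegree_of_natCast
        simp
    · refine ⟨⟨C.cX, iX⟩, ?_⟩
      apply DEGS_charDegree_of_natCast
      show C.cX 1 = _
      rw [hX1]; push_cast; rfl
    · obtain ⟨θ, hθ⟩ := DEGS_exists_ne_one hd0 (by rw [C.card_A0]; omega)
      refine ⟨⟨C.cF0 θ, i0 θ hθ⟩, ?_⟩
      apply DEGS_charDegree_of_natCast
      show C.cF0 θ 1 = _
      rw [h01]; push_cast; rfl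
    · obtain ⟨θ, hθ⟩ := DEGS_exists_ne_one hd1 (by rw [C.card_A1]; omega)
      refine ⟨⟨C.cF1 θ, i1 θ hθ⟩, ?_⟩
      apply DEGS_charDegree_of_natCast
      show C.cF1 θ 1 = _
      rw [h11, C.DEGS_cast_d1]
    · obtain ⟨θ, hθ⟩ := DEGS_exists_ne_one hd2 (by rw [C.card_A2]; omega)
      refine ⟨⟨C.cF2 θ, i2 θ hθ⟩, ?_⟩
      apply DEGS_charDegree_of_natCast
      show C.cF2 θ 1 = _
      rw [h21, C.DEGS_cast_d2]
    · refine ⟨⟨W₁, hT.irr₁⟩, ?_⟩
      apply DEGS_charDegree_of_natCast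
      show W₁ 1 = _
      rw [hT.one₁, C.DEGS_cast_w]

/-
The stub statement, where everything is available:

theorem charDegrees_eq : charDegrees G =
    {1, C.q ^ 2, C.q ^ 2 + 1, (C.q + 1 - C.r) * (C.q - 1), (C.q + C.r + 1) * (C.q - 1),
      C.r / 2 * (C.q - 1)} := by
  obtain ⟨W₁, W₂, hT⟩ := C.table
  exact C.DEGS_charDegrees_eq_core hT (C.irr_cases hT.rest) C.cX_one C.cF0_one C.cF1_one C.cF2_one
    C.irr_cX (fun _ h => C.irr_cF0 h) (fun _ h => C.irr_cF1 h) (fun _ h => C.irr_cF2 h)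
    (card_dual_ne_one C.sc_A0) (card_dual_ne_one C.sc_A1) (card_dual_ne_one C.sc_A2)
-/

end Cfg

end Cfsg.Agent.SZT
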