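import Mathlib
import Cfsg.Prelude.Def_Characters
import Cfsg.Agent.Helper12.LSpWDefs
import Cfsg.Agent.Helper12.LSpWPDefs
import Cfsg.Agent.Helper12.LSLDefs
import Cfsg.Agent.Helper12.RUSpB
import Cfsg.Agent.Helper20.PermCharI
import Cfsg.Agent.Helper25.SpUH
import Cfsg.Agent.Helper12.WGDefs
import Cfsg.Agent.Helper12.WGDefsC
import Cfsg.Agent.Helper12.WGDefsD
import Cfsg.Agent.Helper12.WGStruct

set_option autoImplicit false

/-! # S2524 part B, piece SPECRIGHT (helper14): the spectrum of an inflated character -/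

namespace Cfsg.Agent.S2524P

open Matrix Cfsg Cfsg.Agent.S2333P Cfsg.Agent.Helper2.Sp Cfsg.Agent.Helper12.LSp Cfsg.Agent.Helper25
open Cfsg.Agent.Helper12.LSL Cfsg.Agent.Helper20.PermChar

open scoped ComplexConjugate

variable {F : Type*} [Field F] [Fintype F]

/-- averaging along a map with a section that is compatible with translations -/
theorem SPECRIGHT_avg {G H : Type*} [Group G] [Group H] [Fintype G] [Fintype H] (f : G → H)
    (s : H → G) (hf : ∀ g h, f (g * s h) = f g * h) (Φ : H → ℂ) :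
    (Nat.card G : ℂ)⁻¹ * ∑ g : G, Φ (f g) = (Nat.card H : ℂ)⁻¹ * ∑ h : H, Φ h := by
  classical
  have hG : (Nat.card G : ℂ) ≠ 0 := by
    rw [Nat.card_eq_fintype_card]
    exact_mod_cast Fintype.card_ne_zero
  have hH : (Nat.card H : ℂ) ≠ 0 := by
    rw [Nat.card_eq_fintype_card]
    exact_mod_cast Fintype.card_ne_zero
  have h1 : ∀ h : H, ∑ g : G, Φ (f g) = ∑ g : G, Φ (f g * h) := by
    intro h
    rw [← Equiv.sum_comp (Equiv.mulRight (s h))]
    apply Finset.sum_congr rfl
    intro g _
    rw [Equiv.coe_mulRight, hf]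
  have h2 : (Nat.card H : ℂ) * ∑ g : G, Φ (f g) = (Nat.card G : ℂ) * ∑ h : H, Φ h := by
    calc (Nat.card H : ℂ) * ∑ g : G, Φ (f g) = ∑ _h : H, ∑ g : G, Φ (f g) := by
          rw [Finset.sum_const, Finset.card_univ, nsmul_eq_mul, Nat.card_eq_fintype_card]
      _ = ∑ h : H, ∑ g : G, Φ (f g * h) := Finset.sum_congr rfl (fun h _ => h1 h)
      _ = ∑ g : G, ∑ h : H, Φ (f g * h) := Finset.sum_comm
      _ = ∑ _g : G, ∑ h : H, Φ h := by
          apply Finset.sum_congr rfl
          intro g _
          exact Equiv.sum_comp (Equiv.mulLeft (f g)) Φ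
      _ = (Nat.card G : ℂ) * ∑ h : H, Φ h := by
          rw [Finset.sum_const, Finset.card_univ, nsmul_eq_mul, Nat.card_eq_fintype_card]
  field_simp
  linear_combination h2

omit [Fintype F] in
/-- `tr (T (t (E_ij + E_ji))) = 2 T_ij t` -/
theorem SPECRIGHT_trace_symE {n : ℕ} (T : ↥(SymM n F)) (i j : Fin n) (t : F) :
    Matrix.trace (T.1 * (symE i j t).1) = 2 * T.1 i j * t := by
  rw [symE_val, Matrix.mul_add, Matrix.trace_add, Matrix.trace_mul_single, Matrix.trace_mul_single,
    symM_symm T j i]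
  simp only [MulOpposite.smul_eq_mul_unop, MulOpposite.unop_op]
  ring

omit [Fintype F] in
/-- the lower right block of `t (E_0j + E_j0)` vanishes -/
theorem SPECRIGHT_qS_symE {m : ℕ} (j : Fin (m + 1)) (t : F) : qS (symE 0 j t) = 0 := by
  apply Subtype.ext
  ext a b
  rw [qS_apply, symE_val, Matrix.add_apply, Matrix.single_apply_of_ne, Matrix.single_apply_of_ne,
    add_zero]
  · rfl
  · intro h
    exact Fin.succ_ne_zero b h.2.symm
  · intro h
    exact Fin.succ_ne_zero a h.1.symm

omit [Fintype F] in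
/-- `tr (blk T' · S) = tr (T' · qS S)` -/
theorem SPECRIGHT_trace_blk {m : ℕ} (T' : ↥(SymM m F)) (S : ↥(SymM (m + 1) F)) :
    Matrix.trace ((blk T').1 * S.1) = Matrix.trace (T'.1 * (qS S).1) := by
  rw [Matrix.trace, Matrix.trace, Fin.sum_univ_succ]
  have h0 : Matrix.diag ((blk T').1 * S.1) 0 = 0 := by
    rw [Matrix.diag_apply, Matrix.mul_apply]
    apply Finset.sum_eq_zero
    intro j _
    rw [blk_zero_left, zero_mul]
  rw [h0, zero_add]
  apply Finset.sum_congr rfl
  intro i _
  rw [Matrix.diag_apply, Matrix.diag_apply, Matrix.mul_apply, Matrix.mul_apply, Fin.sum_univ_succ,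
    blk_zero_right, zero_mul, zero_add]
  apply Finset.sum_congr rfl
  intro j _
  rw [blk_succ, qS_apply]

/-- **SPECRIGHT**: the spectrum of an inflated character -/
theorem specU_qt_right (h2 : (2 : F) ≠ 0) (ψ : AddChar F ℂ) (hψ : ψ ≠ 1) {m : ℕ}
    (κ : ↥(symplecticGroup (Fin m) F) → ℂ) (T : ↥(SymM (m + 1) F)) :
    specU ψ (qt m F) (fun x : Gam m F => κ x.right) T =
      open Classical in if (∀ j, T.1 0 j = 0) then spec ψ κ (qS T) else 0 := by
  classical
  split_ifs with hrow
  · -- `T = blk (qS T)`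
    have hT : T = blk (qS T) := eq_blk_of_row_zero T hrow
    unfold spec specU classInner
    have key := SPECRIGHT_avg
      (G := Multiplicative ↥(SymM (m + 1) F)) (H := Multiplicative ↥(SymM m F))
      (fun Y => Multiplicative.ofAdd (qS (Multiplicative.toAdd Y)))
      (fun Z => Multiplicative.ofAdd (blk (Multiplicative.toAdd Z)))
      (by
        intro g h
        show Multiplicative.ofAdd (qS (Multiplicative.toAdd g + blk (Multiplicative.toAdd h))) = _
        rw [qS_add, qS_blk]
        rfl)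
      (fun Z => κ (US m F Z) * conj (lamT ψ (qS T) Z))
    rw [← key]
    congr 1
    apply Finset.sum_congr rfl
    intro Y _
    have hr : (qt m F Y).right = US m F (Multiplicative.ofAdd (qS (Multiplicative.toAdd Y))) := rfl
    have hl : lamT ψ T Y = lamT ψ (qS T) (Multiplicative.ofAdd (qS (Multiplicative.toAdd Y))) := by
      show ψ (Matrix.trace (T.1 * (Multiplicative.toAdd Y).1)) =
        ψ (Matrix.trace ((qS T).1 * (qS (Multiplicative.toAdd Y)).1))
      conv_lhs => rw [hT]
      rw [SPECRIGHT_trace_blk]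
    show κ (qt m F Y).right * conj (lamT ψ T Y) = _
    rw [hr, hl]
  · push Not at hrow
    obtain ⟨j, hj⟩ := hrow
    obtain ⟨t, ht⟩ : ∃ t : F, ψ t ≠ 1 := by
      by_contra hall
      push Not at hall
      apply hψ
      ext x
      rw [hall x]
      rfl
    have ha : 2 * T.1 0 j ≠ 0 := mul_ne_zero h2 hj
    obtain ⟨s, hs⟩ : ∃ s : F, s = -((2 * T.1 0 j)⁻¹ * t) := ⟨_, rfl⟩
    have hst : -(2 * T.1 0 j * s) = t := by
      rw [hs]
      field_simp
    unfold specU classInner
    have hsum : ∑ Y : Multiplicative ↥(SymM (m + 1) F),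
        κ (qt m F Y).right * conj ((lamT ψ T) Y) =
        ψ t * ∑ Y : Multiplicative ↥(SymM (m + 1) F),
          κ (qt m F Y).right * conj ((lamT ψ T) Y) := by
      conv_lhs =>
        rw [← Equiv.sum_comp (Equiv.mulLeft (Multiplicative.ofAdd (symE 0 j s)))]
      rw [Finset.mul_sum]
      apply Finset.sum_congr rfl
      intro Y _
      have hr : (qt m F (Multiplicative.ofAdd (symE 0 j s) * Y)).right = (qt m F Y).right := by
        rw [map_mul (qt m F), SemidirectProduct.mul_right, qt_right, SPECRIGHT_qS_symE]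
        show US m F 1 * _ = _
        rw [map_one, one_mul]
      rw [Equiv.coe_mulLeft, hr, map_mul (lamT ψ T), lamT_apply, SPECRIGHT_trace_symE,
        map_mul (starRingEnd ℂ), ← AddChar.map_neg_eq_conj, hst]
      ring
    have h0 : ∑ Y : Multiplicative ↥(SymM (m + 1) F),
        κ (qt m F Y).right * conj ((lamT ψ T) Y) = 0 := by
      have h1 : (1 - ψ t) * ∑ Y : Multiplicative ↥(SymM (m + 1) F),
          κ (qt m F Y).right * conj ((lamT ψ T) Y) = 0 := by
        rw [sub_mul, one_mul, ← hsum, sub_self]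
      rcases mul_eq_zero.mp h1 with h | h
      · exfalso
        apply ht
        rw [sub_eq_zero] at h
        exact h.symm
      · exact h
    rw [h0, mul_zero]

end Cfsg.Agent.S2524P
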