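import Mathlib
import Cfsg.Prelude.Def_Characters
import Cfsg.Agent.Helper12.LSpWDefs
import Cfsg.Agent.Helper12.LSpWPDefs
import Cfsg.Agent.Helper12.LSLDefs
import Cfsg.Agent.Helper12.RUSpB
import Cfsg.Agent.Helper20.PermCharI
import Cfsg.Agent.Helper25.SpUH
import Cfsg.Agent.Helper12.WGDefs
import Cfsg.Agent.Helper12.WGDefsC
import Cfsg.Agent.Helper12.WGDefsD
import Cfsg.Agent.Helper12.WGStruct

set_option autoImplicit false

/-! # S2524 part B, piece SPECZ (helper14): the central character determines the `(0,0)` entry of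
the spectrum -/

namespace Cfsg.Agent.S2524P

open Matrix Cfsg Cfsg.Agent.S2333P Cfsg.Agent.Helper2.Sp Cfsg.Agent.Helper12.LSp Cfsg.Agent.Helper25
open Cfsg.Agent.Helper12.LSL Cfsg.Agent.Helper20.PermChar

open scoped ComplexConjugate

variable {F : Type*} [Field F] [Fintype F]

omit [Fintype F] in
/-- `tr (T · s E_00) = T_00 s` -/
theorem SPECZ_trace_e00 {m : ℕ} (T : ↥(SymM (m + 1) F)) (s : F) :
    Matrix.trace (T.1 * (e00 m s).1) = T.1 0 0 * s := by
  rw [Matrix.trace, Fin.sum_univ_succ]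
  have h0 : ∀ i : Fin m, Matrix.diag (T.1 * (e00 m s).1) i.succ = 0 := by
    intro i
    rw [Matrix.diag_apply, Matrix.mul_apply]
    apply Finset.sum_eq_zero
    intro j _
    rw [e00_apply, if_neg (fun h => Fin.succ_ne_zero i h.2), mul_zero]
  rw [Finset.sum_congr rfl (fun i _ => h0 i), Finset.sum_const_zero, add_zero, Matrix.diag_apply,
    Matrix.mul_apply, Fin.sum_univ_succ]
  have h1 : ∀ j : Fin m, T.1 0 j.succ * (e00 m s).1 j.succ 0 = 0 := by
    intro j
    rw [e00_apply, if_neg (fun h => Fin.succ_ne_zero j h.1), mul_zero]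
  rw [Finset.sum_congr rfl (fun j _ => h1 j), Finset.sum_const_zero, add_zero, e00_apply,
    if_pos ⟨rfl, rfl⟩]

/-- **SPECZ**: the central character determines the `(0,0)` entry of the spectrum -/
theorem spec_entry_of_liesOver (ψ : AddChar F ℂ) (hψ : ψ ≠ 1) {m : ℕ} (ζ : Gam m F → ℂ) (z : F)
    (hz : LiesOver ψ ζ z) (T : ↥(SymM (m + 1) F)) (hT : specU ψ (qt m F) ζ T ≠ 0) :
    T.1 0 0 = -z := by
  classical
  by_contra hne
  apply hT
  have ha : z + T.1 0 0 ≠ 0 := by
    intro h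
    apply hne
    linear_combination h
  obtain ⟨t, ht⟩ : ∃ t : F, ψ t ≠ 1 := by
    by_contra hall
    push Not at hall
    apply hψ
    ext x
    rw [hall x]
    rfl
  obtain ⟨s, hs⟩ : ∃ s : F, s = -((z + T.1 0 0)⁻¹ * t) := ⟨_, rfl⟩
  have hst : -(z * s) + -(T.1 0 0 * s) = t := by
    rw [hs]
    field_simp
  unfold specU classInner
  have hsum : ∑ Y : Multiplicative ↥(SymM (m + 1) F), ζ (qt m F Y) * conj ((lamT ψ T) Y) =
      ψ t * ∑ Y : Multiplicative ↥(SymM (m + 1) F), ζ (qt m F Y) * conj ((lamT ψ T) Y) := by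
    conv_lhs =>
      rw [← Equiv.sum_comp (Equiv.mulLeft (Multiplicative.ofAdd (e00 m s)))]
    rw [Finset.mul_sum]
    apply Finset.sum_congr rfl
    intro Y _
    rw [Equiv.coe_mulLeft, map_mul (qt m F), map_mul (lamT ψ T), qt_e00, hz, lamT_apply,
      SPECZ_trace_e00, map_mul (starRingEnd ℂ), ← AddChar.map_neg_eq_conj, ← hst,
      AddChar.map_add_eq_mul, mul_neg]
    ring
  have h0 : ∑ Y : Multiplicative ↥(SymM (m + 1) F), ζ (qt m F Y) * conj ((lamT ψ T) Y) = 0 := by
    have h1 : (1 - ψ t) * ∑ Y : Multiplicative ↥(SymM (m + 1) F),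
        ζ (qt m F Y) * conj ((lamT ψ T) Y) = 0 := by
      rw [sub_mul, one_mul, ← hsum, sub_self]
    rcases mul_eq_zero.mp h1 with h | h
    · exfalso
      apply ht
      rw [sub_eq_zero] at h
      exact h.symm
    · exact h
  rw [h0, mul_zero]

end Cfsg.Agent.S2524P
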