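import Mathlib
import Cfsg.Prelude.Def_Characters
import Cfsg.Agent.Helper12.LSpWDefs
import Cfsg.Agent.Helper12.LSpWPDefs
import Cfsg.Agent.Helper12.LSpWFin
import Cfsg.Agent.Helper12.WGDefs
import Cfsg.Agent.Helper12.WGDefsC
import Cfsg.Agent.Helper12.WGStruct
import Cfsg.Agent.Helper18.WGSPECNAT
import Cfsg.Agent.Helper18.WGSPECADD
import Cfsg.Agent.Helper22.WGCLASS
import Cfsg.Agent.Helper20.WGWEILGEN
import Cfsg.Agent.Helper18.WGLEMC
import Cfsg.Agent.Helper15.WGLINV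
import Cfsg.Agent.Helper20.WGWCOUNT
import Cfsg.Agent.Helper8.WGWDEG
import Cfsg.Agent.Helper28.WGWNORM
import Cfsg.Agent.Helper8.WGWSPEC
import Cfsg.Agent.Helper19.WGWSPLIT
import Cfsg.Agent.Helper20.WGWK0

set_option autoImplicit false

/-! # S2524 chapter WEIL (helper14): `exists_weil_pair` (assembly) -/

namespace Cfsg.Agent.S2524P

open Matrix Cfsg Cfsg.Agent.S2333P Cfsg.Agent.Helper2.Sp Cfsg.Agent.Helper12.LSp Cfsg.Agent.Helper25
  Cfsg.Agent.Helper24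

variable {F : Type*} [Field F] [Fintype F]

omit [Fintype F] in
/-- a nonzero vector -/
theorem weil_exists_ofClass {n : ℕ} (hn : 1 ≤ n) (c : F) :
    ∃ T : ↥(SymM n F), OfClass c T :=
  ⟨rk1 c (Pi.single ⟨0, hn⟩ 1), Pi.single ⟨0, hn⟩ 1, by
    intro h
    have := congrFun h ⟨0, hn⟩
    simp at this, rfl⟩

/-- **WEIL** (chapter 2) -/
theorem exists_weil_pair (hodd : Odd (Fintype.card F)) {n : ℕ} (hn : 2 ≤ n)
    (ψ : AddChar F ℂ) (hψ : ψ ≠ 1) (c : F) (hc : c ≠ 0) :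
    ∃ A0 A1 : ↥(symplecticGroup (Fin n) F) → ℂ, IsWeilPair ψ n c A0 A1 ∧
      ∀ g : ↥(symplecticGroup (Fin n) F), NoFix g → Complex.normSq (A0 g + A1 g) = 1 := by
  classical
  have h2 : (2 : F) ≠ 0 := two_ne_zero_of_odd_card hodd
  obtain ⟨φ, hφdef⟩ : ∃ φ : AddChar F ℂ, φ = AddChar.mulShift ψ (-c) := ⟨_, rfl⟩
  have hφapp : ∀ x : F, φ x = ψ (-c * x) := fun x => by rw [hφdef, AddChar.mulShift_apply]
  have hφ : φ ≠ 1 := by
    rw [hφdef]
    exact (AddChar.IsPrimitive.of_ne_one hψ) (neg_ne_zero.mpr hc)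
  obtain ⟨η, hη, hres⟩ := exists_weil_gen h2 φ hφ n
  have hirr := theta_irr_gen h2 φ hφ n
  obtain ⟨hωchar, hω1, hnorm, hz, hnofix⟩ := weil_norm_facts (by omega) h2 φ hirr η hη hres
  -- arithmetic
  obtain ⟨q, hq⟩ : ∃ q, q = Fintype.card F := ⟨_, rfl⟩
  obtain ⟨d, hd⟩ : ∃ d, d = (q ^ n - 1) / 2 := ⟨_, rfl⟩
  have hq3 : 3 ≤ q := by
    have h1 : 1 < q := by rw [hq]; exact Fintype.one_lt_card
    rw [← hq] at hodd
    rcases hodd with ⟨k, hk⟩
    omega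
  have hqn : q ^ n = 2 * d + 1 := by
    have hqn_odd : Odd (q ^ n) := by rw [hq]; exact hodd.pow
    rcases hqn_odd with ⟨k, hk⟩
    rw [hd, hk]
    omega
  have hd4 : 4 ≤ d := by
    have : 3 ^ 2 ≤ q ^ n := by
      calc 3 ^ 2 ≤ q ^ 2 := Nat.pow_le_pow_left hq3 2
        _ ≤ q ^ n := Nat.pow_le_pow_right (by omega) hn
    omega
  have hω1' : η (SemidirectProduct.inr 1) = 2 * (d : ℂ) + 1 := by
    rw [hω1, ← hq]
    have : ((q ^ n : ℕ) : ℂ) = ((2 * d + 1 : ℕ) : ℂ) := by rw [hqn]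
    push_cast at this
    exact this
  obtain ⟨A0, A1, hA0, hA1, hsum, hA0d, hA1d⟩ :=
    weil_split (fun g : ↥(symplecticGroup (Fin n) F) => η (SemidirectProduct.inr g)) hωchar d
      (by omega) hω1' hnorm (negOne n F) negOne_comm negOne_mul_self hz
  -- the spectrum of `ω`
  obtain ⟨K, hK⟩ := weil_value h2 φ hφ n η hη hres
  have hK0 : ∀ S : ↥(SymM n F), η (SemidirectProduct.inr (US n F (Multiplicative.ofAdd S))) =
      φ (Matrix.trace (K.1 * S.1)) * ∑ w : Fin n → F, φ (-(w ⬝ᵥ (S.1 *ᵥ w))) := by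
    intro S
    have := hK 0 inW_zero 0 S
    have e1 : (⟨⟨0, 0⟩, US n F (Multiplicative.ofAdd S)⟩ : Gam n F) =
        SemidirectProduct.inr (US n F (Multiplicative.ofAdd S)) := rfl
    rw [e1] at this
    rw [this]
    congr 1
    refine Finset.sum_congr rfl fun w _ => ?_
    congr 1
    simp
  have hKz : K = 0 := weil_K_eq_zero h2 hn φ hφ _ (IsCharacter.isClassFunction hωchar) K hK0
  have hωS : ∀ S : ↥(SymM n F), η (SemidirectProduct.inr (US n F (Multiplicative.ofAdd S))) =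
      ∑ w : Fin n → F, ψ (c * (w ⬝ᵥ (S.1 *ᵥ w))) := by
    intro S
    rw [hK0, hKz]
    have : Matrix.trace (((0 : ↥(SymM n F)) : Matrix (Fin n) (Fin n) F) * S.1) = 0 := by
      rw [AddSubgroup.coe_zero, Matrix.zero_mul, Matrix.trace_zero]
    rw [this, AddChar.map_zero_eq_one, one_mul]
    refine Finset.sum_congr rfl fun w _ => ?_
    rw [hφapp]
    congr 1
    ring
  have hspecω : ∀ T : ↥(SymM n F),
      spec ψ (fun g : ↥(symplecticGroup (Fin n) F) => η (SemidirectProduct.inr g)) T =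
        (Nat.card {w : Fin n → F // rk1 c w = T} : ℂ) :=
    spec_weil h2 ψ hψ c _ hωS
  have hfun : (fun g : ↥(symplecticGroup (Fin n) F) => η (SemidirectProduct.inr g)) = A0 + A1 :=
    funext hsum
  have hadd : ∀ T : ↥(SymM n F), spec ψ A0 T + spec ψ A1 T =
      (Nat.card {w : Fin n → F // rk1 c w = T} : ℂ) := by
    intro T
    rw [← hspecω T, hfun]
    exact (specU_add ψ (US n F) A0 A1 T).symm
  -- natural multiplicities
  obtain ⟨k0, hk0, -⟩ := specU_nat h2 ψ hψ (US n F) A0 (IsIrrCharacter.isCharacter hA0)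
  obtain ⟨k1, hk1, -⟩ := specU_nat h2 ψ hψ (US n F) A1 (IsIrrCharacter.isCharacter hA1)
  have hk : ∀ T : ↥(SymM n F), k0 T + k1 T = Nat.card {w : Fin n → F // rk1 c w = T} := by
    intro T
    have := hadd T
    rw [show spec ψ A0 T = (k0 T : ℂ) from hk0 T, show spec ψ A1 T = (k1 T : ℂ) from hk1 T] at this
    exact_mod_cast this
  obtain ⟨T₁, hT₁⟩ := weil_exists_ofClass (F := F) (n := n) (by omega) c
  have hk0c : ∀ T : ↥(SymM n F), OfClass c T → k0 T = k0 T₁ := by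
    intro T hT
    have := spec_eq_of_ofClass ψ A0 (IsCharacter.isClassFunction (IsIrrCharacter.isCharacter hA0)) hT hT₁
    rw [show spec ψ A0 T = (k0 T : ℂ) from hk0 T, show spec ψ A0 T₁ = (k0 T₁ : ℂ) from hk0 T₁] at this
    exact_mod_cast this
  have hk1c : ∀ T : ↥(SymM n F), OfClass c T → k1 T = k1 T₁ := by
    intro T hT
    have := spec_eq_of_ofClass ψ A1 (IsCharacter.isClassFunction (IsIrrCharacter.isCharacter hA1)) hT hT₁
    rw [show spec ψ A1 T = (k1 T : ℂ) from hk1 T, show spec ψ A1 T₁ = (k1 T₁ : ℂ) from hk1 T₁] at this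
    exact_mod_cast this
  have hsum0 : k0 0 + k1 0 = 1 := by rw [hk 0, (card_rk1_fiber h2 hc 0).1 rfl]
  have hsumc : k0 T₁ + k1 T₁ = 2 := by rw [hk T₁, (card_rk1_fiber h2 hc T₁).2.1 hT₁]
  have hother : ∀ T : ↥(SymM n F), T ≠ 0 → ¬ OfClass c T → k0 T = 0 ∧ k1 T = 0 := by
    intro T hT0 hTc
    have := hk T
    rw [(card_rk1_fiber h2 hc T).2.2 hT0 hTc] at this
    omega
  -- degrees
  have hdeg0 := degree_of_spec hodd ψ hψ A0 (IsIrrCharacter.isCharacter hA0) c hc (k0 0) (k0 T₁) (hk0 0)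
    (fun T hT => by rw [show spec ψ A0 T = (k0 T : ℂ) from hk0 T, hk0c T hT])
    (fun T hT0 hTc => by rw [show spec ψ A0 T = (k0 T : ℂ) from hk0 T, (hother T hT0 hTc).1]; simp)
  have hdeg1 := degree_of_spec hodd ψ hψ A1 (IsIrrCharacter.isCharacter hA1) c hc (k1 0) (k1 T₁) (hk1 0)
    (fun T hT => by rw [show spec ψ A1 T = (k1 T : ℂ) from hk1 T, hk1c T hT])
    (fun T hT0 hTc => by rw [show spec ψ A1 T = (k1 T : ℂ) from hk1 T, (hother T hT0 hTc).2]; simp)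
  rw [← hq, ← hd, hA0d] at hdeg0
  rw [← hq, ← hd, hA1d] at hdeg1
  have hdeg0' : d = k0 0 + k0 T₁ * d := by exact_mod_cast hdeg0
  have hdeg1' : d + 1 = k1 0 + k1 T₁ * d := by exact_mod_cast hdeg1
  have ha0 : k0 T₁ = 1 ∧ k0 0 = 0 := by
    have hle : k0 T₁ ≤ 2 := by omega
    interval_cases hh : k0 T₁
    · omega
    · omega
    · exfalso
      nlinarith
  have ha1 : k1 T₁ = 1 ∧ k1 0 = 1 := by omega
  refine ⟨A0, A1, ⟨hA0, hA1, ⟨?_, ?_, ?_⟩, ⟨?_, ?_, ?_⟩⟩, ?_⟩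
  · rw [show spec ψ A0 0 = (k0 0 : ℂ) from hk0 0, ha0.2]
  · intro T hT
    rw [show spec ψ A0 T = (k0 T : ℂ) from hk0 T, hk0c T hT, ha0.1]
    simp
  · intro T hT0 hTc
    rw [show spec ψ A0 T = (k0 T : ℂ) from hk0 T, (hother T hT0 hTc).1]
    simp
  · rw [show spec ψ A1 0 = (k1 0 : ℂ) from hk1 0, ha1.2]
  · intro T hT
    rw [show spec ψ A1 T = (k1 T : ℂ) from hk1 T, hk1c T hT, ha1.1]
    simp
  · intro T hT0 hTc
    rw [show spec ψ A1 T = (k1 T : ℂ) from hk1 T, (hother T hT0 hTc).2]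
    simp
  · intro g hg
    rw [← hsum g]
    exact hnofix g hg

end Cfsg.Agent.S2524P
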