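import Mathlib
import Cfsg.Prelude.Def_Characters
import Cfsg.Agent.Helper12.WGDefs
import Cfsg.Agent.Helper12.WGDefsC
import Cfsg.Agent.Helper12.SL2TableOdd
import Cfsg.Agent.Helper12.SL2Half
import Cfsg.Agent.Helper12.SL2Inv
import Cfsg.Agent.Helper3.WGBaseDefs
import Cfsg.Agent.Helper18.WGBASEM
import Cfsg.Agent.Helper15.WGBASEMNAT0

set_option autoImplicit false

/-! # S2524 chapter BASE, piece BASE-MNAT (helper14) -/

namespace Cfsg.Agent.S2524P

open Matrix Cfsg Cfsg.Agent.S2333P Cfsg.Agent.Helper12 Cfsg.Agent.Helper24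

open scoped ComplexConjugate

variable {F : Type*} [Field F] [Fintype F]

local notation "S2" => Matrix.SpecialLinearGroup (Fin 2) F

/-- **BASE-MNAT**: multiplicities of a character are natural numbers `k0`, `kS` (square class),
`kN` (nonsquare class) with `f 1 = k0 + (q - 1) / 2 * (kS + kN)` -/
theorem base_m_nat (hodd : Odd (Fintype.card F)) {ε : F} (hε : ¬ IsSquare ε)
    (ψ : AddChar F ℂ) (hψ : ψ ≠ 1) (f : S2 → ℂ) (hf : IsCharacter S2 f) :
    ∃ k0 kS kN : ℕ, base_m ψ f 0 = (k0 : ℂ) ∧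
      (∀ x : F, x ≠ 0 → base_m ψ f (x ^ 2) = (kS : ℂ)) ∧
      (∀ x : F, x ≠ 0 → base_m ψ f (ε * x ^ 2) = (kN : ℂ)) ∧
      f 1 = (k0 : ℂ) + ((Fintype.card F : ℂ) - 1) / 2 * ((kS : ℂ) + (kN : ℂ)) := by
  classical
  obtain ⟨k, hk, hsum⟩ := base_m_nat0 hodd ψ hψ f hf
  have hcl : IsClassFunction S2 f := IsCharacter.isClassFunction hf
  have hS : ∀ x : F, x ≠ 0 → base_m ψ f (x ^ 2) = (k 1 : ℂ) := by
    intro x hx
    have := base_m_sq ψ f hcl 1 x hx
    rw [one_mul] at this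
    rw [this, hk]
  have hN : ∀ x : F, x ≠ 0 → base_m ψ f (ε * x ^ 2) = (k ε : ℂ) := by
    intro x hx
    rw [base_m_sq ψ f hcl ε x hx, hk]
  refine ⟨k 0, k 1, k ε, hk 0, hS, hN, ?_⟩
  have hF : ringChar F ≠ 2 := ringChar_ne_two_of_odd hodd
  -- the values of `k` on nonzero elements through the quadratic character
  have hkt : ∀ t : F, t ≠ 0 → (k t : ℂ) =
      (1 + ((quadraticChar F t : ℤ) : ℂ)) / 2 * (k 1 : ℂ) +
        (1 - ((quadraticChar F t : ℤ) : ℂ)) / 2 * (k ε : ℂ) := by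
    intro t ht
    by_cases hsq : IsSquare t
    · rw [(quadraticChar_one_iff_isSquare ht).mpr hsq]
      obtain ⟨x, hx⟩ := hsq
      have hx0 : x ≠ 0 := by
        rintro rfl
        exact ht (by rw [hx, mul_zero])
      have h1 := hS x hx0
      rw [pow_two, ← hx, hk] at h1
      rw [h1]
      push_cast
      ring
    · rw [quadraticChar_neg_one_iff_not_isSquare.mpr hsq]
      obtain ⟨x, hx0, hx⟩ := exists_sq_mul_of_not_isSquare hε hsq
      have h1 := hN x hx0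
      rw [← hx, hk] at h1
      rw [h1]
      push_cast
      ring
  have hχsum : ∑ t : F, ((quadraticChar F t : ℤ) : ℂ) = 0 := by
    have := quadraticChar_sum_zero hF
    have h2 : ((∑ t : F, quadraticChar F t : ℤ) : ℂ) = 0 := by rw [this]; simp
    push_cast at h2
    exact h2
  rw [hsum]
  push_cast
  rw [← Finset.add_sum_erase Finset.univ _ (Finset.mem_univ (0 : F))]
  congr 1
  have h1 : ∑ t ∈ Finset.univ.erase (0 : F), (k t : ℂ) =
      ∑ t ∈ Finset.univ.erase (0 : F), ((1 + ((quadraticChar F t : ℤ) : ℂ)) / 2 * (k 1 : ℂ) +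
        (1 - ((quadraticChar F t : ℤ) : ℂ)) / 2 * (k ε : ℂ)) :=
    Finset.sum_congr rfl fun t ht => hkt t (Finset.ne_of_mem_erase ht)
  rw [h1]
  have h2 : ∑ t : F, ((1 + ((quadraticChar F t : ℤ) : ℂ)) / 2 * (k 1 : ℂ) +
        (1 - ((quadraticChar F t : ℤ) : ℂ)) / 2 * (k ε : ℂ)) =
      (Fintype.card F : ℂ) / 2 * ((k 1 : ℂ) + (k ε : ℂ)) := by
    have : ∀ t : F, ((1 + ((quadraticChar F t : ℤ) : ℂ)) / 2 * (k 1 : ℂ) +
        (1 - ((quadraticChar F t : ℤ) : ℂ)) / 2 * (k ε : ℂ)) =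
        ((k 1 : ℂ) + (k ε : ℂ)) / 2 + ((quadraticChar F t : ℤ) : ℂ) * (((k 1 : ℂ) - (k ε : ℂ)) / 2) :=
      fun t => by ring
    rw [Finset.sum_congr rfl fun t _ => this t, Finset.sum_add_distrib, ← Finset.sum_mul, hχsum,
      zero_mul, add_zero, Finset.sum_const, Finset.card_univ, nsmul_eq_mul]
    ring
  have h3 := Finset.add_sum_erase Finset.univ
    (fun t : F => ((1 + ((quadraticChar F t : ℤ) : ℂ)) / 2 * (k 1 : ℂ) +
        (1 - ((quadraticChar F t : ℤ) : ℂ)) / 2 * (k ε : ℂ))) (Finset.mem_univ (0 : F))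
  rw [h2] at h3
  simp only [quadraticChar_zero, Int.cast_zero, add_zero, sub_zero] at h3
  linear_combination h3

end Cfsg.Agent.S2524P
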