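import Mathlib
import Cfsg.Prelude.Def_GeometricClasses
import Cfsg.Prelude.Def_Classical
import Cfsg.Agent.Helper6.S5992Defs
import Cfsg.Agent.Helper27.Inv2Defs
import Cfsg.Agent.Helper11.AltRank

/-! # Inv2 piece EVENDIM2 (helper14): nondegenerate subspaces have even dimension in char 2 -/

set_option autoImplicit false

namespace Cfsg.Agent.Inv2P

open Cfsg.Agent.Helper2.SympInvol Cfsg.Agent.Helper2.SympUnits Cfsg.Agent.S5961P Cfsg.Agent.S5992P

/-- EVENDIM2: a nondegenerate subspace has even dimension in characteristic two -/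
theorem even_finrank_of_nondeg {F V : Type*} [Field F] [AddCommGroup V] [Module F V]
    [FiniteDimensional F V] (h2 : (2 : F) = 0) (Q : QuadraticForm F V) (W : Submodule F V)
    (hW : Nondeg (PB Q) W) : Even (Module.finrank F W) := by
  obtain ⟨B', hB'⟩ : ∃ B' : W →ₗ[F] W →ₗ[F] F, ∀ x y : W, B' x y = PB Q (x : V) (y : V) :=
    ⟨(PB Q).domRestrict₁₂ W W, fun x y => rfl⟩
  have halt : ∀ x, B' x x = 0 := by
    intro x
    rw [hB', PB_self, h2, zero_mul]
  obtain ⟨k, hk⟩ := Cfsg.Agent.Helper11.AltRank.alt_finrank (Module.finrank F W) W B' halt rfl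
  have hker : LinearMap.ker B' = ⊥ := by
    rw [Submodule.eq_bot_iff]
    intro x hx
    by_contra hx0
    obtain ⟨v, hv, hne⟩ := hW (x : V) x.2 (fun h => hx0 (Subtype.ext h))
    apply hne
    have h1 := LinearMap.congr_fun (LinearMap.mem_ker.mp hx) ⟨v, hv⟩
    rw [hB'] at h1
    exact h1
  rw [hker, finrank_bot, zero_add] at hk
  exact ⟨k, by rw [hk]; ring⟩

end Cfsg.Agent.Inv2P
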