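import Mathlib
import Cfsg.Prelude.Def_GeometricClasses
import Cfsg.Prelude.Def_Classical
import Cfsg.Agent.Helper6.S5992Defs
import Cfsg.Agent.Helper27.Inv2Defs
import Cfsg.Agent.Helper7.S5992ORTHSYM

/-! # Inv2 piece ORTHC2 (helper14): the orthogonal complement of an invariant nondegenerate subspace
inside an invariant nondegenerate subspace; ranks of `t - 1` add up -/

set_option autoImplicit false

namespace Cfsg.Agent.Inv2P

open Cfsg.Agent.Helper2.SympInvol Cfsg.Agent.Helper2.SympUnits Cfsg.Agent.S5961P Cfsg.Agent.S5992P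

/-- ORTHC2: the orthogonal complement of an invariant nondegenerate `A` inside an invariant
nondegenerate `M`; the ranks of `t - 1` add up -/
theorem orth_compl_inv {F V : Type*} [Field F] [AddCommGroup V] [Module F V]
    [FiniteDimensional F V] (h2 : (2 : F) = 0) (Q : QuadraticForm F V) (t : Module.End F V)
    (ht : IsInv2 Q t) (M A : Submodule F V) (hAM : A ≤ M) (hM : Nondeg (PB Q) M)
    (hA : Nondeg (PB Q) A) (hMt : InvOn t M) (hAt : InvOn t A) :
    ∃ M' : Submodule F V, M' ≤ M ∧ Nondeg (PB Q) M' ∧ Orth (PB Q) A M' ∧ A ⊔ M' = M ∧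
      Disjoint A M' ∧ Module.finrank F A + Module.finrank F M' = Module.finrank F M ∧
      InvOn t M' ∧ rk t A + rk t M' = rk t M := by
  obtain ⟨M', hM'M, hM'nd, horth, hsup, hdisj, hfin, hinv⟩ := orth_compl_sym Q M A hAM hM hA
  have htinj : Function.Injective t := by
    intro u v huv
    have := congrArg t huv
    rwa [t_t_apply ht, t_t_apply ht] at this
  have hM't : InvOn t M' := (invOn_iff_map t M').mpr
    (hinv t ht.isom htinj ((invOn_iff_map t A).mp hAt) ((invOn_iff_map t M).mp hMt))
  refine ⟨M', hM'M, hM'nd, horth, hsup, hdisj, hfin, hM't, ?_⟩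
  unfold rk
  rw [← hsup, Submodule.map_sup]
  have hd : Disjoint (A.map (t - 1)) (M'.map (t - 1)) :=
    hdisj.mono (map_N_le t A hAt) (map_N_le t M' hM't)
  have h := Submodule.finrank_sup_add_finrank_inf_eq (A.map (t - 1)) (M'.map (t - 1))
  rw [hd.eq_bot, finrank_bot, add_zero] at h
  exact h.symm

end Cfsg.Agent.Inv2P
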