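import Mathlib
import Cfsg.Agent.Helper13.PGDefs

set_option autoImplicit false

/-!
# S2490 piece CORE: the core of `N_G(X)` is trivial when `n_11 ≠ 1`
-/

open Cfsg.Agent.Helper13.PG MulAction

namespace Cfsg.Agent.Helper14.PG

variable {G : Type*} [Group G]

/-- A Sylow 11-subgroup of a group of order 7920 has order 11. -/
theorem card_sylow_eleven_eq [Finite G] (hord : Nat.card G = 7920) [Fact (Nat.Prime 11)]
    (X : Sylow 11 G) : Nat.card ↥(X : Subgroup G) = 11 := by
  obtain ⟨k, hk⟩ := (IsPGroup.iff_card (p := 11)).mp X.isPGroup'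
  have hdvd : Nat.card ↥(X : Subgroup G) ∣ 7920 := hord ▸ Subgroup.card_subgroup_dvd_card _
  have h11 : 11 ∣ Nat.card ↥(X : Subgroup G) := by
    have := X.dvd_card_of_dvd_card (show 11 ∣ Nat.card G by rw [hord]; norm_num)
    exact this
  rw [hk] at hdvd h11 ⊢
  rcases k with _ | _ | k
  · norm_num at h11
  · norm_num
  · exfalso
    have : 11 ^ 2 ∣ 7920 := dvd_trans (pow_dvd_pow 11 (by omega)) hdvd
    norm_num at this

theorem normalCore_eq_bot [Finite G] (hord : Nat.card G = 7920)
    (h11 : ∀ N : Subgroup G, N.Normal → N ≠ ⊥ → 11 ∣ Nat.card ↥N)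
    (X : Sylow 11 G) (hn : Nat.card (Sylow 11 G) ≠ 1) :
    (Subgroup.normalizer ((X : Subgroup G) : Set G)).normalCore = ⊥ := by
  have : Fact (Nat.Prime 11) := ⟨by norm_num⟩
  by_contra hK
  set K := (Subgroup.normalizer ((X : Subgroup G) : Set G)).normalCore with hKdef
  have hKn : K.Normal := Subgroup.normalCore_normal _
  have hdvd := h11 K hKn hK
  obtain ⟨x, hx⟩ := exists_prime_orderOf_dvd_card' (G := ↥K) 11 hdvd
  -- the subgroup generated by x in G
  have hxG : orderOf (x : G) = 11 := by rw [Subgroup.orderOf_coe]; exact hx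
  have hZ : IsPGroup 11 ↥(Subgroup.zpowers (x : G)) := by
    apply IsPGroup.of_card (n := 1)
    rw [Nat.card_zpowers, hxG]; norm_num
  obtain ⟨Y, hY⟩ := hZ.exists_le_sylow
  have hYc := card_sylow_eleven_eq hord Y
  have hZY : Subgroup.zpowers (x : G) = (Y : Subgroup G) := by
    apply Subgroup.eq_of_le_of_card_ge hY
    rw [hYc, Nat.card_zpowers, hxG]
  have hYK : (Y : Subgroup G) ≤ K := by
    rw [← hZY, Subgroup.zpowers_le]; exact x.2
  -- every Sylow 11-subgroup lies in K, hence in N_G(X), hence equals X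
  have hall : ∀ X' : Sylow 11 G, X' = X := by
    intro X'
    obtain ⟨g, hg⟩ := MulAction.exists_smul_eq G Y X'
    have hX'K : (X' : Subgroup G) ≤ K := by
      rw [← hg]
      intro y hy
      rw [Sylow.coe_subgroup_smul, Subgroup.mem_pointwise_smul_iff_inv_smul_mem] at hy
      have h1 : (MulAut.conj g)⁻¹ • y ∈ K := hYK hy
      have h2 := hKn.conj_mem _ h1 g
      simpa [MulAut.smul_def, mul_assoc] using h2
    have hX'N : (X' : Subgroup G) ≤ Subgroup.normalizer ((X : Subgroup G) : Set G) :=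
      hX'K.trans (Subgroup.normalCore_le _)
    have hinf := X'.isPGroup'.inf_normalizer_sylow X
    have hle : (X' : Subgroup G) ≤ (X : Subgroup G) := by
      intro y hy
      have hy2 : y ∈ (X' : Subgroup G) ⊓ Subgroup.normalizer ((X : Subgroup G) : Set G) :=
        ⟨hy, hX'N hy⟩
      exact (hinf.le hy2).2
    apply Sylow.ext
    apply Subgroup.eq_of_le_of_card_ge hle
    rw [card_sylow_eleven_eq hord X, card_sylow_eleven_eq hord X']
  apply hn
  haveI : Subsingleton (Sylow 11 G) := ⟨fun a b => (hall a).trans (hall b).symm⟩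
  haveI : Nonempty (Sylow 11 G) := ⟨X⟩
  exact Nat.card_unique

end Cfsg.Agent.Helper14.PG
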