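import Mathlib
import Cfsg.Agent.Helper13.PGDefs
import Cfsg.Agent.Helper14.PGCORE
import Cfsg.Agent.S1018

set_option autoImplicit false

/-!
# S2490 piece N12: `n_11 = 12` is impossible
-/

open Cfsg.Agent.Helper13.PG MulAction

namespace Cfsg.Agent.Helper14.PG

variable {G : Type*} [Group G]

/-- `|N_G(X) : C_G(X)|` divides `10` for a subgroup `X` of order `11`. -/
theorem relIndex_centralizer_dvd_ten (X : Subgroup G) [Finite G] (hX : Nat.card ↥X = 11) :
    (Subgroup.centralizer (X : Set G)).relIndex (Subgroup.normalizer (X : Set G)) ∣ 10 := by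
  haveI : Fact (Nat.Prime 11) := ⟨by norm_num⟩
  have hcyc : IsCyclic ↥X := isCyclic_of_prime_card (p := 11) hX
  have key := Subgroup.card_dvd_of_injective _
    (QuotientGroup.kerLift_injective X.normalizerMonoidHom)
  rw [Subgroup.normalizerMonoidHom_ker, ← Subgroup.index, ← Subgroup.relIndex] at key
  rw [hcyc.card_mulAut, hX] at key
  have h10 : Nat.totient 11 = 10 := by
    rw [Nat.totient_prime (by norm_num)]
  rwa [h10] at key

theorem not_card_sylow_twelve [Finite G] (hord : Nat.card G = 7920) (X : Sylow 11 G)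
    (hcore : (Subgroup.normalizer ((X : Subgroup G) : Set G)).normalCore = ⊥)
    (hn : Nat.card (Sylow 11 G) = 12) : False := by
  have h11 : Fact (Nat.Prime 11) := ⟨by norm_num⟩
  have h2 : Fact (Nat.Prime 2) := ⟨by norm_num⟩
  set H := Subgroup.normalizer ((X : Subgroup G) : Set G) with hH
  set C := Subgroup.centralizer ((X : Subgroup G) : Set G) with hC
  have hX11 := card_sylow_eleven_eq hord X
  have hidx : H.index = 12 := by rw [← hn]; exact (Sylow.card_eq_index_normalizer X).symm
  have hHcard : Nat.card H = 660 := by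
    have := H.card_mul_index; rw [hidx, hord] at this; omega
  have key : C.relIndex H ∣ 10 := relIndex_centralizer_dvd_ten (X : Subgroup G) hX11
  -- an involution in C ⊓ H
  have hcard : Nat.card ↥(C.subgroupOf H) * C.relIndex H = 660 := by
    rw [← hHcard]; exact (C.subgroupOf H).card_mul_index
  have h2dvd : 2 ∣ Nat.card ↥(C.subgroupOf H) := by
    by_contra hodd
    have hcop : Nat.Coprime (2 ^ 2) (Nat.card ↥(C.subgroupOf H)) :=
      Nat.Coprime.pow_left 2 ((Nat.Prime.coprime_iff_not_dvd Nat.prime_two).mpr hodd)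
    have h4 : 2 ^ 2 ∣ Nat.card ↥(C.subgroupOf H) * C.relIndex H := by rw [hcard]; norm_num
    have h4d : 2 ^ 2 ∣ C.relIndex H := hcop.dvd_of_dvd_mul_left h4
    have : 2 ^ 2 ∣ 10 := h4d.trans key
    norm_num at this
  obtain ⟨k', hk'⟩ := exists_prime_orderOf_dvd_card' (G := ↥(C.subgroupOf H)) 2 h2dvd
  set k : G := ((k' : ↥H) : G) with hk
  have hkH : k ∈ H := (k' : ↥H).2
  have hkC : k ∈ C := Subgroup.mem_subgroupOf.mp k'.2
  have hk2 : orderOf k = 2 := by
    rw [hk, Subgroup.orderOf_coe, Subgroup.orderOf_coe]; exact hk'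
  -- the action on Ω = G ⧸ H
  let α : G ⧸ H := ((1 : G) : G ⧸ H)
  have hfixH : ∀ h ∈ H, h • α = α := by
    intro h hh
    show ((h * 1 : G) : G ⧸ H) = ((1 : G) : G ⧸ H)
    rw [QuotientGroup.eq]; simpa using H.inv_mem hh
  have hXH : (X : Subgroup G) ≤ H := Subgroup.le_normalizer
  -- a second fixed point of k
  have hZ : IsPGroup 2 ↥(Subgroup.zpowers k) := by
    apply IsPGroup.of_card (n := 1)
    rw [Nat.card_zpowers, hk2]; norm_num
  have hαfix : α ∈ fixedPoints ↥(Subgroup.zpowers k) (G ⧸ H) := by
    rintro ⟨z, hz⟩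
    show z • α = α
    exact hfixH z ((Subgroup.zpowers_le.mpr hkH) hz)
  have h2Ω : 2 ∣ Nat.card (G ⧸ H) := by
    rw [← Subgroup.index_eq_card, hidx]; norm_num
  obtain ⟨β, hβ, hαβ⟩ := hZ.exists_fixed_point_of_prime_dvd_card_of_fixed_point (G ⧸ H) h2Ω hαfix
  have hkβ : k • β = β := hβ ⟨k, Subgroup.mem_zpowers k⟩
  -- X acts freely on β
  have hfree : ∀ x ∈ (X : Subgroup G), x • β = β → x = 1 := by
    intro x hx hxβ
    by_contra hx1
    have hox : orderOf x = 11 := by
      have h1 : orderOf (⟨x, hx⟩ : ↥(X : Subgroup G)) ∣ 11 := by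
        have h0 : orderOf (⟨x, hx⟩ : ↥(X : Subgroup G)) ∣ Nat.card ↥(X : Subgroup G) :=
          orderOf_dvd_natCard _
        rwa [hX11] at h0
      have h2 : orderOf (⟨x, hx⟩ : ↥(X : Subgroup G)) = orderOf x := Subgroup.orderOf_mk x hx
      rw [h2] at h1
      rcases (Nat.dvd_prime (by norm_num)).mp h1 with h | h
      · exact absurd (orderOf_eq_one_iff.mp h) hx1
      · exact h
    have hone := (Cfsg.Agent.S1018.result 11 X hX11).1 x hox
    have hα' : α ∈ fixedBy (G ⧸ H) x := hfixH x (hXH hx)
    have hβ' : β ∈ fixedBy (G ⧸ H) x := hxβ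
    have hsub : Subsingleton ↥(fixedBy (G ⧸ H) x) :=
      (Nat.card_eq_one_iff_unique.mp hone).1
    have := Subsingleton.elim (⟨α, hα'⟩ : ↥(fixedBy (G ⧸ H) x)) ⟨β, hβ'⟩
    exact hαβ (Subtype.ext_iff.mp this)
  -- the orbit map X → Ω is injective and misses α
  let f : ↥(X : Subgroup G) → G ⧸ H := fun x => (x : G) • β
  have hfinj : Function.Injective f := by
    intro x y hxy
    have : ((x : G)⁻¹ * (y : G)) • β = β := by
      rw [mul_smul, ← (show (x : G) • β = (y : G) • β from hxy), inv_smul_smul]
    have h1 := hfree _ ((X : Subgroup G).mul_mem ((X : Subgroup G).inv_mem x.2) y.2) this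
    exact Subtype.ext (inv_mul_eq_one.mp h1)
  have hfα : ∀ x, f x ≠ α := by
    intro x hx
    apply hαβ
    have : β = (x : G)⁻¹ • α := by rw [← hx]; simp [f]
    rw [this]
    exact (hfixH _ (hXH ((X : Subgroup G).inv_mem x.2))).symm
  -- counting: insert α (range f) is everything
  have hall : ∀ ω : G ⧸ H, ω = α ∨ ∃ x, f x = ω := by
    by_contra hne
    push Not at hne
    obtain ⟨ω, hω1, hω2⟩ := hne
    -- injection Option (Option X) → Ω
    let g : Option (Option ↥(X : Subgroup G)) → G ⧸ H := fun o =>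
      match o with
      | none => ω
      | some none => α
      | some (some x) => f x
    have hg : Function.Injective g := by
      intro a b hab
      rcases a with _ | _ | x <;> rcases b with _ | _ | y
      · rfl
      · exact absurd hab hω1
      · exact absurd hab.symm (hω2 y)
      · exact absurd hab.symm hω1
      · rfl
      · exact absurd hab.symm (hfα y)
      · exact absurd hab (hω2 x)
      · exact absurd hab (hfα x)
      · have : x = y := hfinj hab
        rw [this]
    have hle := Nat.card_le_card_of_injective g hg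
    haveI := Fintype.ofFinite ↥(X : Subgroup G)
    rw [Nat.card_eq_fintype_card (α := Option (Option ↥(X : Subgroup G)))] at hle
    simp only [Fintype.card_option] at hle
    rw [← Nat.card_eq_fintype_card, hX11, ← Subgroup.index_eq_card, hidx] at hle
    omega
  -- k fixes everything
  have hkall : ∀ ω : G ⧸ H, k • ω = ω := by
    intro ω
    rcases hall ω with rfl | ⟨x, rfl⟩
    · exact hfixH k hkH
    · show k • ((x : G) • β) = (x : G) • β
      rw [← mul_smul, ← (Subgroup.mem_centralizer_iff.mp hkC (x : G) x.2), mul_smul, hkβ]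
  -- k lies in the core
  have hkcore : k ∈ H.normalCore := by
    rw [Subgroup.normalCore_eq_ker]
    rw [MonoidHom.mem_ker]
    ext ω
    simpa using hkall ω
  rw [hcore, Subgroup.mem_bot] at hkcore
  rw [hkcore, orderOf_one] at hk2
  norm_num at hk2

end Cfsg.Agent.Helper14.PG
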