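import Cfsg.Agent.Helper14.Large
import Cfsg.Agent.Helper14.MinimalOver2
import Cfsg.Agent.Helper14.WeaklyClosed
import Cfsg.Agent.Helper25.StronglyEmb

set_option autoImplicit false
set_option linter.unusedSectionVars false

namespace Cfsg.Agent.Helper14

open Cfsg

variable {H : Type*} [Group H] {p : ℕ}

/-- `¬ PRankLE p 0 Q` implies `Q ≠ ⊥` -/
theorem ne_bot_of_not_pRankLE_zero {Q : Subgroup H} (h : ¬ PRankLE p (1 - 1) Q) : Q ≠ ⊥ := by
  rintro rfl
  apply h
  intro A _ _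
  rw [Nat.sub_self, pow_zero]
  exact Finite.card_le_one_iff_subsingleton.2 inferInstance

/-- the normalizer property: normalizers of nontrivial `p`-subgroups of `M` lie in `M` -/
def NormProp (p : ℕ) (M : Subgroup H) : Prop :=
  ∀ A : Subgroup H, A ≤ M → IsPGroup p ↥A → A ≠ ⊥ → Subgroup.normalizer (A : Set H) ≤ M

variable [Finite H] [Fact p.Prime]

theorem sylow_ne_bot_of_dvd (h : p ∣ Nat.card H) (P : Sylow p H) : (P : Subgroup H) ≠ ⊥ := by
  intro hb
  have h1 : Nat.card ↥(P : Subgroup H) = 1 := by rw [hb]; exact Subgroup.card_bot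
  have h2 := P.card_eq_multiplicity
  rw [h1] at h2
  have hH : Nat.card H ≠ 0 := Nat.card_pos.ne'
  have hp : p.Prime := Fact.out
  have h3 : (Nat.card H).factorization p = 0 := by
    by_contra hne
    have : 1 < p ^ (Nat.card H).factorization p := Nat.one_lt_pow hne hp.one_lt
    omega
  have h4 := (hp.dvd_iff_one_le_factorization hH).1 h
  omega

theorem normProp_of_kGeneratedCore_le {M : Subgroup H} (hp : p ∣ Nat.card H) (P : Sylow p H)
    (hP : kGeneratedCore p 1 (P : Subgroup H) ≤ M) : NormProp p M := by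
  have hPne : (P : Subgroup H) ≠ ⊥ := sylow_ne_bot_of_dvd hp P
  have hPM : (P : Subgroup H) ≤ M :=
    (Subgroup.le_normalizer.trans
      (Cfsg.Agent.Helper25.normalizer_le_kGeneratedCore p P _ le_rfl hPne)).trans hP
  intro A hAM hA hA1
  have hS : IsSylowIn p (P : Subgroup H) M := isSylowIn_of_sylow_le P hPM
  obtain ⟨U, hU, hAU⟩ := exists_isSylowIn_ge hAM hA
  obtain ⟨g, hgM, hg⟩ := hS.exists_conj hU
  have h1 : A.map (cj g⁻¹) ≤ (P : Subgroup H) := by
    rw [map_cj_le_iff, inv_inv, ← hg]; exact hAU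
  have h2 : A.map (cj g⁻¹) ≠ ⊥ := by
    intro hb
    apply hA1
    have := map_cj_inv_map_cj A g
    rw [hb, Subgroup.map_bot] at this
    exact this.symm
  have h3 := (Cfsg.Agent.Helper25.normalizer_le_kGeneratedCore p P _ h1 h2).trans hP
  rw [← map_cj_normalizer, map_cj_le_iff, inv_inv, map_cj_eq_self_of_mem hgM] at h3
  exact h3

theorem normProp_of_isStronglyPEmbedded {M : Subgroup H} (h : IsStronglyPEmbedded p M) :
    NormProp p M := by
  obtain ⟨hp, -, P, hP⟩ := h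
  exact normProp_of_kGeneratedCore_le hp P hP

theorem dvd_card_of_dvd_card_subgroup {M : Subgroup H} (hpM : p ∣ Nat.card ↥M) :
    p ∣ Nat.card H := hpM.trans (Subgroup.card_subgroup_dvd_card M)

theorem ne_bot_of_isSylowIn_of_dvd {M U : Subgroup H} (hpM : p ∣ Nat.card ↥M)
    (hU : IsSylowIn p U M) : U ≠ ⊥ := by
  intro hb
  have h1 := sylow_ne_bot_of_dvd hpM hU.toSylow
  apply h1
  have h2 := hU.toSylow_map
  exact (Subgroup.map_eq_bot_iff_of_injective _ M.subtype_injective).1 (h2.trans hb)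

/-- a Sylow subgroup of `M` is Sylow in `H` when `M` has the normalizer property -/
theorem sylow_of_normProp {M U : Subgroup H} (hpM : p ∣ Nat.card ↥M) (hN : NormProp p M)
    (hU : IsSylowIn p U M) : ∃ P : Sylow p H, (P : Subgroup H) = U := by
  obtain ⟨P, hUP⟩ := hU.2.1.exists_le_sylow
  refine ⟨P, ?_⟩
  by_contra hne
  have hlt : U < (P : Subgroup H) := lt_of_le_of_ne hUP (Ne.symm hne)
  have h1 := lt_inf_normalizer_of_lt P.isPGroup' hlt
  have hU1 := ne_bot_of_isSylowIn_of_dvd hpM hU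
  have h2 : (P : Subgroup H) ⊓ Subgroup.normalizer (U : Set H) ≤ M :=
    inf_le_right.trans (hN U hU.1 hU.2.1 hU1)
  have h3 := hU.2.2 _ h2 (P.isPGroup'.to_le inf_le_left) h1.le
  exact absurd h3 h1.ne'

theorem isStronglyPEmbedded_of_normProp {M : Subgroup H} (hM : M ≠ ⊤) (hpM : p ∣ Nat.card ↥M)
    (hN : NormProp p M) : IsStronglyPEmbedded p M := by
  refine ⟨dvd_card_of_dvd_card_subgroup hpM, hM, ?_⟩
  obtain ⟨U, hU⟩ := exists_isSylowIn (p := p) M
  obtain ⟨P, hP⟩ := sylow_of_normProp hpM hN hU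
  refine ⟨P, ?_⟩
  unfold kGeneratedCore
  refine iSup_le ?_
  rintro ⟨Q, hQP, hQ⟩
  refine hN Q (hQP.trans (hP ▸ hU.1)) (P.isPGroup'.to_le hQP) (ne_bot_of_not_pRankLE_zero hQ)

theorem exists_pSubgroup_of_dvd {L : Subgroup H} (h : p ∣ Nat.card ↥L) :
    ∃ U, IsSylowIn p U L ∧ U ≠ ⊥ := by
  obtain ⟨U, hU⟩ := exists_isSylowIn (p := p) L
  exact ⟨U, hU, ne_bot_of_isSylowIn_of_dvd h hU⟩

theorem not_dvd_inf_conj_of_normProp {M : Subgroup H}
    (hN : NormProp p M) (g : H) (hg : g ∉ M) : ¬ p ∣ Nat.card ↥(M ⊓ M.map (cj g)) := by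
  intro hdvd
  obtain ⟨A, hA, hA1⟩ := exists_pSubgroup_of_dvd hdvd
  have hAM : A ≤ M := hA.1.trans inf_le_left
  have hAMg : A ≤ M.map (cj g) := hA.1.trans inf_le_right
  have hAg : A.map (cj g⁻¹) ≤ M := by
    rw [map_cj_le_iff, inv_inv]; exact hAMg
  have hAg1 : A.map (cj g⁻¹) ≠ ⊥ := by
    intro hb
    apply hA1
    have := map_cj_inv_map_cj A g
    rw [hb, Subgroup.map_bot] at this
    exact this.symm
  have hN1 : Subgroup.normalizer (A : Set H) ≤ M := hN A hAM hA.2.1 hA1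
  have hN2 : Subgroup.normalizer (A : Set H) ≤ M.map (cj g) := by
    have := hN _ hAg (hA.2.1.map _) hAg1
    rw [← map_cj_normalizer, map_cj_le_iff, inv_inv] at this
    exact this
  -- A is Sylow in M
  have hAS : IsSylowIn p A M := by
    obtain ⟨U, hU, hAU⟩ := exists_isSylowIn_ge hAM hA.2.1
    by_cases hEq : A = U
    · rw [hEq]; exact hU
    · exfalso
      have hlt : A < U := lt_of_le_of_ne hAU hEq
      have h1 := lt_inf_normalizer_of_lt hU.2.1 hlt
      have h2 : U ⊓ Subgroup.normalizer (A : Set H) ≤ M ⊓ M.map (cj g) :=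
        inf_le_right.trans (le_inf hN1 hN2)
      have h3 := hA.2.2 _ h2 (hU.2.1.to_le inf_le_left) h1.le
      exact absurd h3 h1.ne'
  have hAS' : IsSylowIn p (A.map (cj g⁻¹)) M := by
    obtain ⟨U, hU, hAU⟩ := exists_isSylowIn_ge hAg (hA.2.1.map (cj g⁻¹))
    by_cases hEq : A.map (cj g⁻¹) = U
    · rw [hEq]; exact hU
    · exfalso
      have hlt : A.map (cj g⁻¹) < U := lt_of_le_of_ne hAU hEq
      have hlt' : A < U.map (cj g) := by
        have h1 : A ≤ U.map (cj g) := by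
          have := (map_cj_le_iff A U g⁻¹).1 hAU
          rwa [inv_inv] at this
        refine lt_of_le_of_ne h1 ?_
        intro h2
        apply hEq
        rw [h2, map_cj_map_cj_inv]
      have h1 := lt_inf_normalizer_of_lt (hU.2.1.map (cj g)) hlt'
      have h2 : U.map (cj g) ⊓ Subgroup.normalizer (A : Set H) ≤ M ⊓ M.map (cj g) :=
        inf_le_right.trans (le_inf hN1 hN2)
      have h3 := hA.2.2 _ h2 ((hU.2.1.map (cj g)).to_le inf_le_left) h1.le
      exact absurd h3 h1.ne'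
  obtain ⟨m, hmM, hm⟩ := hAS.exists_conj hAS'
  -- A.map (cj g⁻¹) = A.map (cj m), so m⁻¹ g⁻¹ normalizes A
  have h5 : A.map (cj (g * m)) = A := by
    rw [← map_cj_mul, ← hm, map_cj_inv_map_cj]
  have h6 : g * m ∈ Subgroup.normalizer (A : Set H) := mem_normalizer_iff_map_cj.2 h5
  have h7 : g * m ∈ M := hN1 h6
  exact hg ((Subgroup.mul_mem_cancel_right M hmM).1 h7)

theorem normProp_of_not_dvd_inf_conj {M : Subgroup H}
    (h : ∀ g : H, g ∉ M → ¬ p ∣ Nat.card ↥(M ⊓ M.map (cj g))) : NormProp p M := by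
  intro A hAM hA hA1 g hg
  by_contra hgM
  apply h g hgM
  have hA2 : A ≤ M ⊓ M.map (cj g) := by
    refine le_inf hAM ?_
    have h1 : A.map (cj g) = A := mem_normalizer_iff_map_cj.1 hg
    rw [← h1]
    exact Subgroup.map_mono hAM
  have h2 : Nat.card ↥A ∣ Nat.card ↥(M ⊓ M.map (cj g)) := Subgroup.card_dvd_of_le hA2
  refine Dvd.dvd.trans ?_ h2
  obtain ⟨n, hn⟩ := IsPGroup.iff_card.1 hA
  rw [hn]
  have hn0 : n ≠ 0 := by
    rintro rfl
    rw [pow_zero] at hn
    exact hA1 (Subgroup.card_eq_one.1 hn)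
  exact dvd_pow_self p hn0

end Cfsg.Agent.Helper14

namespace Cfsg.Agent.Helper14

open Cfsg

variable {H : Type*} [Group H] {p : ℕ} [Finite H] [Fact p.Prime]

theorem map_cj_ne_bot {A : Subgroup H} (hA : A ≠ ⊥) (g : H) : A.map (cj g) ≠ ⊥ := by
  intro hb
  apply hA
  have := map_cj_map_cj_inv A g
  rw [hb, Subgroup.map_bot] at this
  exact this.symm

theorem isStronglyPEmbedded_iff_conj (T : Sylow p H) {M : Subgroup H} (hM : M ≠ ⊤)
    (hpM : p ∣ Nat.card ↥M) :
    IsStronglyPEmbedded p M ↔ ∃ g : H,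
      (⨆ A : {A : Subgroup H // A ≤ (T : Subgroup H) ∧ A ≠ ⊥},
        Subgroup.normalizer ((A : Subgroup H) : Set H)).map (cj g) ≤ M := by
  constructor
  · rintro ⟨-, -, P, hP⟩
    obtain ⟨g, hg⟩ := MulAction.exists_smul_eq H T P
    refine ⟨g, ?_⟩
    rw [Subgroup.map_iSup]
    refine iSup_le ?_
    rintro ⟨A, hAT, hA1⟩
    refine le_trans ?_ hP
    show (Subgroup.normalizer (A : Set H)).map (cj g) ≤ _
    rw [map_cj_normalizer]
    refine Cfsg.Agent.Helper25.normalizer_le_kGeneratedCore p P _ ?_ (map_cj_ne_bot hA1 g)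
    rw [← hg, sylow_smul_coe]
    exact Subgroup.map_mono hAT
  · rintro ⟨g, hg⟩
    refine ⟨dvd_card_of_dvd_card_subgroup hpM, hM, g • T, ?_⟩
    unfold kGeneratedCore
    refine iSup_le ?_
    rintro ⟨Q, hQP, hQ⟩
    refine le_trans ?_ hg
    show Subgroup.normalizer (Q : Set H) ≤ _
    have hQ1 : Q ≠ ⊥ := ne_bot_of_not_pRankLE_zero hQ
    have h1 : Q.map (cj g⁻¹) ≤ (T : Subgroup H) := by
      rw [map_cj_le_iff, inv_inv, ← sylow_smul_coe]; exact hQP
    have h2 : Subgroup.normalizer ((Q.map (cj g⁻¹) : Subgroup H) : Set H) ≤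
        ⨆ A : {A : Subgroup H // A ≤ (T : Subgroup H) ∧ A ≠ ⊥},
          Subgroup.normalizer ((A : Subgroup H) : Set H) :=
      le_iSup (fun A : {A : Subgroup H // A ≤ (T : Subgroup H) ∧ A ≠ ⊥} =>
        Subgroup.normalizer ((A : Subgroup H) : Set H)) ⟨_, h1, map_cj_ne_bot hQ1 g⁻¹⟩
    have h3 := Subgroup.map_mono (f := cj g) h2
    rwa [map_cj_normalizer, map_cj_inv_map_cj] at h3

end Cfsg.Agent.Helper14
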