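import Mathlib
import Cfsg.Agent.Helper13.S2276Defs

/-! # S2276 piece S3B (helper14): types `3²; 3²` on `Fin 6`, with a perfectness certificate. -/

set_option autoImplicit false

namespace Cfsg.Agent.S2276P

open Equiv Equiv.Perm
open scoped commutatorElement

/-- a group generated by two elements which are both products of commutators is not solvable -/
theorem S3B.not_solvable_of_cert {α : Type*} (x y : Perm α) (hx1 : x ≠ 1)
    (hx : x ∈ ⁅Subgroup.closure ({x, y} : Set (Perm α)), Subgroup.closure ({x, y} : Set (Perm α))⁆)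
    (hy : y ∈ ⁅Subgroup.closure ({x, y} : Set (Perm α)), Subgroup.closure ({x, y} : Set (Perm α))⁆) :
    ¬ Group.IsSolvable (Subgroup.closure ({x, y} : Set (Perm α))) := by
  set K := Subgroup.closure ({x, y} : Set (Perm α)) with hK
  have hle : K ≤ ⁅K, K⁆ := by
    rw [hK, Subgroup.closure_le]
    intro z hz
    rcases hz with rfl | hz
    · exact hx
    · rw [Set.mem_singleton_iff] at hz
      rw [hz]; exact hy
  have hperf : commutator K = ⊤ := by
    rw [commutator_def, eq_top_iff]
    rw [← Subgroup.map_le_map_iff_of_injective K.subtype_injective, Subgroup.map_commutator,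
      ← MonoidHom.range_eq_map, Subgroup.range_subtype]
    exact hle
  intro hsol
  have hxK : x ∈ K := Subgroup.subset_closure (Set.mem_insert _ _)
  have : Nontrivial K := ⟨⟨⟨x, hxK⟩, 1, fun hh => hx1 (congrArg Subtype.val hh)⟩⟩
  have := Group.IsSolvable.commutator_lt_top_of_nontrivial (G := K)
  rw [hperf] at this
  exact lt_irrefl _ this

/-- a permutation whose order divides `m` prime to `3` and is a power of `3` is trivial -/
theorem S3B.not_pow_three {α : Type*} (z : Perm α) (m : ℕ) (hm : Nat.Coprime 3 m) (hz : z ^ m = 1)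
    (hz1 : z ≠ 1) : ¬ ∃ k : ℕ, orderOf z = 3 ^ k := by
  rintro ⟨k, hk⟩
  have h1 : orderOf z ∣ m := orderOf_dvd_of_pow_eq_one hz
  rw [hk] at h1
  have h2 : 3 ^ k = 1 := Nat.Coprime.eq_one_of_dvd (Nat.Coprime.pow_left k hm) h1
  rw [h2] at hk
  exact hz1 (orderOf_eq_one_iff.mp hk)

/-- the cycle type of a product of two disjoint 3-cycles -/
theorem S3B.cycleType_two {α : Type*} [Fintype α] [DecidableEq α] (c₁ c₂ : Perm α)
    (h1 : c₁.IsThreeCycle) (h2 : c₂.IsThreeCycle) (hd : c₁.Disjoint c₂) :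
    (c₁ * c₂).cycleType = {3, 3} := by
  rw [Equiv.Perm.Disjoint.cycleType_mul hd, h1.cycleType, h2.cycleType]
  rfl

/-- `U = (0 1 2)(3 4 5)` -/
def S3B.U : Perm (Fin 6) := (swap 0 2 * swap 0 1) * (swap 3 5 * swap 3 4)

/-- `W = (0 1 3)(2 5 4)` -/
def S3B.W : Perm (Fin 6) := (swap 0 3 * swap 0 1) * (swap 2 4 * swap 2 5)

set_option maxRecDepth 100000 in
theorem S3B.pow_five : (S3B.U * S3B.W) ^ 5 = 1 := by decide

set_option maxRecDepth 100000 in
theorem S3B.mul_ne_one : S3B.U * S3B.W ≠ 1 := by decide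

set_option maxRecDepth 100000 in
theorem S3B.U_ne_one : S3B.U ≠ 1 := by decide

set_option maxRecDepth 100000 in
theorem S3B.U_eq : S3B.U = ⁅S3B.U⁻¹, S3B.W * S3B.U * S3B.W⁻¹ * S3B.U⁻¹ * S3B.W⁆ := by decide

set_option maxRecDepth 100000 in
theorem S3B.W_eq : S3B.W = ⁅S3B.W⁻¹, S3B.U * S3B.W * S3B.U⁻¹ * S3B.W⁻¹ * S3B.U⁆ := by decide

/-- S3B [M-L] -/
theorem S3B.main : ∃ U W : Perm (Fin 6), U.cycleType = {3, 3} ∧ W.cycleType = {3, 3} ∧ Good 3 U W := by
  refine ⟨S3B.U, S3B.W, ?_, ?_, ?_, ?_⟩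
  · apply S3B.cycleType_two
    · exact isThreeCycle_swap_mul_swap_same (by decide) (by decide) (by decide)
    · exact isThreeCycle_swap_mul_swap_same (by decide) (by decide) (by decide)
    · intro i; fin_cases i <;> decide
  · apply S3B.cycleType_two
    · exact isThreeCycle_swap_mul_swap_same (by decide) (by decide) (by decide)
    · exact isThreeCycle_swap_mul_swap_same (by decide) (by decide) (by decide)
    · intro i; fin_cases i <;> decide
  · exact S3B.not_pow_three (S3B.U * S3B.W) 5 (by decide) S3B.pow_five S3B.mul_ne_one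
  · have hUK : S3B.U ∈ Subgroup.closure ({S3B.U, S3B.W} : Set (Perm (Fin 6))) :=
      Subgroup.subset_closure (Set.mem_insert _ _)
    have hWK : S3B.W ∈ Subgroup.closure ({S3B.U, S3B.W} : Set (Perm (Fin 6))) :=
      Subgroup.subset_closure (Set.mem_insert_of_mem _ rfl)
    have hU' := Subgroup.inv_mem _ hUK
    have hW' := Subgroup.inv_mem _ hWK
    apply S3B.not_solvable_of_cert S3B.U S3B.W S3B.U_ne_one
    · have h1 := Subgroup.commutator_mem_commutator hU'
        (Subgroup.mul_mem _ (Subgroup.mul_mem _ (Subgroup.mul_mem _ (Subgroup.mul_mem _ hWK hUK) hW') hU') hWK)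
      rwa [← S3B.U_eq] at h1
    · have h1 := Subgroup.commutator_mem_commutator hW'
        (Subgroup.mul_mem _ (Subgroup.mul_mem _ (Subgroup.mul_mem _ (Subgroup.mul_mem _ hUK hWK) hU') hW') hUK)
      rwa [← S3B.W_eq] at h1

end Cfsg.Agent.S2276P
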