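import Mathlib
import Cfsg.Agent.Helper13.S2276Defs
import Cfsg.Agent.Helper14.S2276S3B

/-! # S2276 piece S3C (helper14): types `3²; 3` on `Fin 6`, with a perfectness certificate. -/

set_option autoImplicit false

namespace Cfsg.Agent.S2276P

open Equiv Equiv.Perm
open scoped commutatorElement

/-- `W = (2 3 4)` -/
def S3C.W : Perm (Fin 6) := swap 2 4 * swap 2 3

set_option maxRecDepth 100000 in
theorem S3C.pow_four : (S3B.U * S3C.W) ^ 4 = 1 := by decide

set_option maxRecDepth 100000 in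
theorem S3C.mul_ne_one : S3B.U * S3C.W ≠ 1 := by decide

set_option maxRecDepth 100000 in
theorem S3C.U_eq : S3B.U =
    ⁅S3B.U⁻¹, S3C.W * S3B.U * S3C.W⁻¹ * S3B.U⁻¹ * S3C.W⁻¹ * S3B.U * S3C.W⁻¹⁆ := by decide

set_option maxRecDepth 100000 in
theorem S3C.W_eq : S3C.W =
    ⁅S3C.W⁻¹, S3B.U * S3C.W * S3B.U⁻¹ * S3C.W⁻¹ * S3B.U⁻¹ * S3C.W * S3B.U⁻¹⁆ := by decide

/-- S3C [M-L] -/
theorem S3C.main : ∃ U W : Perm (Fin 6), U.cycleType = {3, 3} ∧ W.cycleType = {3} ∧ Good 3 U W := by
  refine ⟨S3B.U, S3C.W, ?_, ?_, ?_, ?_⟩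
  · apply S3B.cycleType_two
    · exact isThreeCycle_swap_mul_swap_same (by decide) (by decide) (by decide)
    · exact isThreeCycle_swap_mul_swap_same (by decide) (by decide) (by decide)
    · intro i; fin_cases i <;> decide
  · exact (isThreeCycle_swap_mul_swap_same (by decide) (by decide) (by decide)).cycleType
  · exact S3B.not_pow_three (S3B.U * S3C.W) 4 (by decide) S3C.pow_four S3C.mul_ne_one
  · have hUK : S3B.U ∈ Subgroup.closure ({S3B.U, S3C.W} : Set (Perm (Fin 6))) :=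
      Subgroup.subset_closure (Set.mem_insert _ _)
    have hWK : S3C.W ∈ Subgroup.closure ({S3B.U, S3C.W} : Set (Perm (Fin 6))) :=
      Subgroup.subset_closure (Set.mem_insert_of_mem _ rfl)
    have hU' := Subgroup.inv_mem _ hUK
    have hW' := Subgroup.inv_mem _ hWK
    apply S3B.not_solvable_of_cert S3B.U S3C.W S3B.U_ne_one
    · have h1 := Subgroup.commutator_mem_commutator hU'
        (Subgroup.mul_mem _ (Subgroup.mul_mem _ (Subgroup.mul_mem _ (Subgroup.mul_mem _
          (Subgroup.mul_mem _ (Subgroup.mul_mem _ hWK hUK) hW') hU') hW') hUK) hW')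
      rwa [← S3C.U_eq] at h1
    · have h1 := Subgroup.commutator_mem_commutator hW'
        (Subgroup.mul_mem _ (Subgroup.mul_mem _ (Subgroup.mul_mem _ (Subgroup.mul_mem _
          (Subgroup.mul_mem _ (Subgroup.mul_mem _ hUK hWK) hU') hW') hU') hWK) hU')
      rwa [← S3C.W_eq] at h1

end Cfsg.Agent.S2276P
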