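import Mathlib
import Cfsg.Prelude.Def_Classical
import Cfsg.Agent.Helper13.S2496Defs

/-! S2496 piece CONJ: an element `s` of prime order `r` of `K` and `φ(s)⁻¹ = s^(-q)` are not
conjugate over `F` (when `r` divides no `q^k + 1`, `k` odd). -/

set_option autoImplicit false

namespace Cfsg.Agent.S2496P

section frob

variable {F K : Type*} [Field F] [Fintype F] [Field K] [Algebra F K] [Finite K] {p : ℕ}
  [Fact p.Prime] [CharP F p] [CharP K p] {f q : ℕ}

namespace CONJ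

/-- every `F`-automorphism of `K` is a power of the Frobenius -/
theorem algEquiv_apply_eq_pow (τ : K ≃ₐ[F] K) : ∃ j : ℕ, ∀ x : K, τ x = x ^ (Fintype.card F ^ j) := by
  obtain ⟨j, hj⟩ := (FiniteField.bijective_frobeniusAlgEquivOfAlgebraic_pow F K).2 τ
  refine ⟨j.1, fun x => ?_⟩
  have h1 : τ = FiniteField.frobeniusAlgEquivOfAlgebraic F K ^ j.1 := hj.symm
  rw [h1, AlgEquiv.coe_pow, FiniteField.coe_frobeniusAlgEquivOfAlgebraic_iterate]

/-- no automorphism maps `φ(s)⁻¹` to `s` -/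
theorem algEquiv_ne (hq : q = p ^ f) (hF : Fintype.card F = q ^ 2) {r : ℕ}
    (hr : r.Prime) (hR : ∀ k, Odd k → ¬ r ∣ q ^ k + 1) (s : K) (hs : s ^ r = 1) (hs1 : s ≠ 1)
    (τ : K ≃ₐ[F] K) : τ ((frob K p f s)⁻¹) ≠ s := by
  intro h
  obtain ⟨j, hj⟩ := algEquiv_apply_eq_pow τ
  rw [hj, frob_apply, hF, ← hq] at h
  have hs0 : s ≠ 0 := by
    rintro rfl
    rw [zero_pow hr.ne_zero] at hs
    exact zero_ne_one hs
  -- `s ^ (q ^ (2 j + 1) + 1) = 1`
  have h1 : s ^ (q ^ (2 * j + 1) + 1) = 1 := by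
    have h2 : s ^ (q ^ (2 * j + 1)) * (s ^ q)⁻¹ ^ ((q ^ 2) ^ j) = 1 := by
      have : q * (q ^ 2) ^ j = q ^ (2 * j + 1) := by ring
      rw [inv_pow, ← pow_mul, this]
      exact mul_inv_cancel₀ (pow_ne_zero _ hs0)
    rw [h] at h2
    rw [pow_succ]
    exact h2
  have hrf : Fact r.Prime := ⟨hr⟩
  have hord : orderOf s = r := orderOf_eq_prime hs hs1
  have h3 : r ∣ q ^ (2 * j + 1) + 1 := by
    rw [← hord]
    exact orderOf_dvd_of_pow_eq_one h1
  exact hR (2 * j + 1) ⟨j, rfl⟩ h3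

end CONJ

/-- CONJ: `s` and `φ(s)⁻¹ = s^(-q)` are not conjugate over `F` -/
theorem aeval_frob_inv_ne_zero (hq : q = p ^ f) (hF : Fintype.card F = q ^ 2) {r : ℕ}
    (hr : r.Prime) (hR : ∀ k, Odd k → ¬ r ∣ q ^ k + 1) (s : K) (hs : s ^ r = 1) (hs1 : s ≠ 1) :
    Polynomial.aeval ((frob K p f s)⁻¹) (minpoly F s) ≠ 0 ∧
      Polynomial.aeval s (minpoly F ((frob K p f s)⁻¹)) ≠ 0 := by
  have hfin : Module.Finite F K := Module.Finite.of_finite
  have halg : Algebra.IsAlgebraic F K := Algebra.IsAlgebraic.of_finite F K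
  constructor
  · intro h
    obtain ⟨σ, hσ⟩ := minpoly.exists_algEquiv_of_root (Algebra.IsAlgebraic.isAlgebraic s) h
    exact CONJ.algEquiv_ne hq hF hr hR s hs hs1 σ hσ
  · intro h
    obtain ⟨σ, hσ⟩ := minpoly.exists_algEquiv_of_root'
      (Algebra.IsAlgebraic.isAlgebraic ((frob K p f s)⁻¹)) h
    exact CONJ.algEquiv_ne hq hF hr hR s hs hs1 σ hσ

end frob

end Cfsg.Agent.S2496P
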