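import Mathlib
import Cfsg.Agent.Helper29.S2264Defs
import Cfsg.Agent.Helper19.S2264RECIP1

/-! # S2264 piece DEGONE (helper14): the factors `X ± 1` -/

set_option autoImplicit false

namespace Cfsg.Agent.S2264P

open Polynomial
open scoped Classical

noncomputable section

variable {F : Type*} [Field F]

/-! ### DEGONE (deps: RECIP1) -/

theorem recip_of_isUnip {f : F[X]} (hf : IsUnip f) : recip f = f := by
  rcases hf with rfl | rfl
  · have h := recip_X_sub_C (F := F) (a := 1) one_ne_zero
    rw [inv_one, C_1] at h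
    exact h
  · have h := recip_X_sub_C (F := F) (a := -1) (neg_ne_zero.mpr one_ne_zero)
    rw [inv_neg_one, C_neg, C_1, sub_neg_eq_add] at h
    exact h

theorem natDegree_of_isUnip {f : F[X]} (hf : IsUnip f) : f.natDegree = 1 := by
  rcases hf with rfl | rfl
  · rw [← C_1, natDegree_X_sub_C]
  · rw [← C_1, natDegree_X_add_C]

theorem isUnip_of_natDegree_one {f : F[X]} (hm : f.Monic) (h1 : f.natDegree = 1)
    (hr : recip f = f) : IsUnip f := by
  have hf : f = X - C (-(f.coeff 0)) := by
    rw [C_neg, sub_neg_eq_add]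
    exact hm.eq_X_add_C h1
  obtain ⟨a, ha⟩ : ∃ a : F, a = -(f.coeff 0) := ⟨_, rfl⟩
  rw [← ha] at hf
  have ha0 : a ≠ 0 := by
    intro h0
    have hc : f.coeff 0 = 0 := by
      have : -(f.coeff 0) = 0 := by rw [← ha, h0]
      exact neg_eq_zero.mp this
    have hz : recip f = 0 := by
      unfold recip
      rw [hc, inv_zero, C_0, zero_mul]
    rw [hr] at hz
    exact hm.ne_zero hz
  have h2 : recip f = X - C a⁻¹ := by
    rw [hf]
    exact recip_X_sub_C ha0
  rw [hr, hf] at h2
  have h3 : C a = C a⁻¹ := sub_right_injective h2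
  have h4 : a = a⁻¹ := C_injective h3
  have h5 : a * a = 1 := by
    nth_rewrite 2 [h4]
    exact mul_inv_cancel₀ ha0
  have h6 : (a - 1) * (a + 1) = 0 := by linear_combination h5
  rcases mul_eq_zero.mp h6 with h7 | h7
  · left
    have : a = 1 := by linear_combination h7
    rw [hf, this, C_1]
  · right
    have : a = -1 := by linear_combination h7
    rw [hf, this, C_neg, C_1, sub_neg_eq_add]

theorem X_add_one_eq_of_two_eq_zero (h2 : (2 : F) = 0) : (X + 1 : F[X]) = X - 1 := by
  have h : (1 : F[X]) + 1 = 0 := by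
    rw [← C_1, ← C_add, one_add_one_eq_two, h2, C_0]
  linear_combination h

end

end Cfsg.Agent.S2264P
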