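import Mathlib
import Cfsg.Agent.Helper29.S2264Defs

/-! # S2264 piece IRRDVD (helper14): an irreducible `f` with `f(0) ≠ 0` over a finite field divides
`X ^ (q ^ deg f - 1) - 1` -/

set_option autoImplicit false

namespace Cfsg.Agent.S2264P

open Polynomial
open scoped Classical

noncomputable section

variable {F : Type*} [Field F]

/-! ### IRRDVD (no deps) -/

theorem dvd_X_pow_card_pow_sub_one [Fintype F] {f : F[X]} (hf : Irreducible f)
    (h0 : f.coeff 0 ≠ 0) : f ∣ X ^ (Fintype.card F ^ f.natDegree - 1) - 1 := by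
  have hfact : Fact (Irreducible f) := ⟨hf⟩
  have hfin : Module.Finite F (AdjoinRoot f) := (AdjoinRoot.powerBasis hf.ne_zero).finite
  have hfinite : Finite (AdjoinRoot f) := Module.finite_of_finite F
  let _ : Fintype (AdjoinRoot f) := Fintype.ofFinite _
  have hcard : Fintype.card (AdjoinRoot f) = Fintype.card F ^ f.natDegree := by
    rw [Module.card_eq_pow_finrank (K := F), (AdjoinRoot.powerBasis hf.ne_zero).finrank,
      AdjoinRoot.powerBasis_dim]
  have hα : AdjoinRoot.root f ≠ 0 := by
    intro h
    have h1 := AdjoinRoot.eval₂_root f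
    rw [h, Polynomial.eval₂_at_zero] at h1
    exact h0 ((map_eq_zero (AdjoinRoot.of f)).mp h1)
  have hpow := FiniteField.pow_card_sub_one_eq_one (AdjoinRoot.root f) hα
  rw [hcard] at hpow
  rw [← AdjoinRoot.mk_eq_zero, map_sub, map_pow, AdjoinRoot.mk_X, map_one, hpow, sub_self]

end

end Cfsg.Agent.S2264P
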