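import Mathlib
import Cfsg.Agent.Helper29.S2264Defs
import Cfsg.Agent.Helper14.S2264IRRDVD
import Cfsg.Agent.Helper21.S2264SELFREC

/-! # S2264 piece EXPODVD (helper14): `0 < expo f` and `f ∣ X ^ expo f - 1` -/

set_option autoImplicit false

namespace Cfsg.Agent.S2264P

open Polynomial
open scoped Classical

noncomputable section

variable {F : Type*} [Field F]

/-! ### EXPODVD (deps: IRRDVD, SELFREC) -/

theorem expo_pos [Fintype F] {f : F[X]} (hd : 1 ≤ f.natDegree) : 0 < expo f := by
  unfold expo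
  split_ifs with h1 h2 h3
  · exact Nat.one_pos
  · exact Nat.two_pos
  · exact Nat.succ_pos _
  · have hq : 2 ≤ Fintype.card F := Fintype.one_lt_card
    have h4 : 2 ^ 1 ≤ Fintype.card F ^ f.natDegree :=
      (Nat.pow_le_pow_left hq 1).trans (Nat.pow_le_pow_right (by omega) hd)
    omega

theorem dvd_X_pow_expo_sub_one [Fintype F] {f : F[X]} (hf : Irreducible f) (hm : f.Monic)
    (h0 : f.coeff 0 ≠ 0) : f ∣ X ^ expo f - 1 := by
  unfold expo
  split_ifs with h1 h2 h3
  · rw [pow_one, h1]
  · rw [h2]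
    exact ⟨X - 1, by ring⟩
  · exact (selfrec_even hf hm h3 (fun hu => hu.elim h1 h2)).2.2
  · exact dvd_X_pow_card_pow_sub_one hf h0

end

end Cfsg.Agent.S2264P
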