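import Mathlib
import Cfsg.Agent.Helper29.S2264Defs
import Cfsg.Agent.Helper14.S2264DEGONE

/-! # S2264 piece PARTITION (helper14): `facs μ = Su ∪ (Sm ∪ Sp)`, disjointly -/

set_option autoImplicit false

namespace Cfsg.Agent.S2264P

open Polynomial
open scoped Classical

noncomputable section

variable {F : Type*} [Field F]

/-! ### PARTITION (deps: DEGONE) -/

theorem facs_eq_union (μ : F[X]) : facs μ = Su μ ∪ (Sm μ ∪ Sp μ) := by
  ext f
  unfold Su Sm Sp
  simp only [Finset.mem_union, Finset.mem_filter]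
  constructor
  · intro hf
    by_cases hu : IsUnip f
    · exact Or.inl ⟨hf, hu⟩
    · by_cases hr : recip f = f
      · exact Or.inr (Or.inl ⟨hf, hr, hu⟩)
      · exact Or.inr (Or.inr ⟨hf, hr⟩)
  · rintro (h | h | h)
    · exact h.1
    · exact h.1
    · exact h.1

theorem disjoint_Su (μ : F[X]) : Disjoint (Su μ) (Sm μ ∪ Sp μ) := by
  rw [Finset.disjoint_left]
  intro f hf hf'
  unfold Su at hf
  unfold Sm Sp at hf'
  simp only [Finset.mem_union, Finset.mem_filter] at hf hf'
  rcases hf' with h | h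
  · exact h.2.2 hf.2
  · exact h.2 (recip_of_isUnip hf.2)

theorem disjoint_Sm_Sp (μ : F[X]) : Disjoint (Sm μ) (Sp μ) := by
  rw [Finset.disjoint_left]
  intro f hf hf'
  unfold Sm at hf
  unfold Sp at hf'
  simp only [Finset.mem_filter] at hf hf'
  exact hf'.2 hf.2.1

end

end Cfsg.Agent.S2264P
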