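import Mathlib
import Cfsg.Agent.Helper29.S2264Defs

/-! # S2264 piece FROBPOW (helper14): `f ∣ X^L - 1`, `e ≤ p^κ` ⟹ `f^e ∣ X^(p^κ L) - 1` in char `p` -/

set_option autoImplicit false

namespace Cfsg.Agent.S2264P

open Polynomial
open scoped Classical

noncomputable section

variable {F : Type*} [Field F]

/-! ### FROBPOW (no deps) -/

theorem pow_dvd_X_pow_sub_one (p : ℕ) [Fact p.Prime] [CharP F p] {f : F[X]} {L e κ : ℕ}
    (h : f ∣ X ^ L - 1) (he : e ≤ p ^ κ) : f ^ e ∣ X ^ (p ^ κ * L) - 1 := by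
  have h1 : (X ^ L - 1 : F[X]) ^ (p ^ κ) = X ^ (p ^ κ * L) - 1 := by
    rw [sub_pow_char_pow, one_pow, ← pow_mul, mul_comm]
  rw [← h1]
  exact (pow_dvd_pow f he).trans (pow_dvd_pow_of_dvd h _)

end

end Cfsg.Agent.S2264P
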