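import Mathlib
import Cfsg.Agent.Helper29.S2264Defs

/-! # S2264 piece TELE (helper14): `(q-1) ∏_{i∈I} (q^(2^i)+1) ≤ q^(1+Σ_{i∈I} 2^i)` -/

set_option autoImplicit false

namespace Cfsg.Agent.S2264P

open Polynomial
open scoped Classical

noncomputable section

variable {F : Type*} [Field F]

namespace TELE

/-- the strengthened form, proved by induction on the largest element -/
theorem tele_strong (q : ℕ) (hq : 2 ≤ q) (I : Finset ℕ) :
    (q - 1) * ∏ i ∈ I, (q ^ 2 ^ i + 1) + 1 ≤ q ^ (1 + ∑ i ∈ I, 2 ^ i) := by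
  induction I using Finset.induction_on_max with
  | empty =>
    simp only [Finset.prod_empty, Finset.sum_empty, mul_one, add_zero, pow_one]
    omega
  | insert m J hJ ih =>
    have hm : m ∉ J := fun h => lt_irrefl _ (hJ m h)
    rw [Finset.prod_insert hm, Finset.sum_insert hm]
    have hs : ∑ j ∈ J, 2 ^ j < 2 ^ m := Nat.geomSum_lt le_rfl hJ
    have hle : q ^ (1 + ∑ j ∈ J, 2 ^ j) ≤ q ^ 2 ^ m :=
      Nat.pow_le_pow_right (by omega) (by omega)
    have hexp : q ^ (1 + (2 ^ m + ∑ j ∈ J, 2 ^ j)) = q ^ (1 + ∑ j ∈ J, 2 ^ j) * q ^ 2 ^ m := by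
      rw [← pow_add]; congr 1; ring
    rw [hexp]
    set A := (q - 1) * ∏ i ∈ J, (q ^ 2 ^ i + 1) with hA
    set B := q ^ 2 ^ m with hB
    set S := q ^ (1 + ∑ j ∈ J, 2 ^ j) with hS
    calc (q - 1) * ((B + 1) * ∏ i ∈ J, (q ^ 2 ^ i + 1)) + 1
        = A * B + (A + 1) := by rw [hA]; ring
      _ ≤ A * B + S := by omega
      _ ≤ A * B + B := by omega
      _ = (A + 1) * B := by ring
      _ ≤ S * B := Nat.mul_le_mul_right B ih

end TELE

/-! ### TELE -/

theorem tele_bound (q : ℕ) (hq : 2 ≤ q) (I : Finset ℕ) :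
    (q - 1) * ∏ i ∈ I, (q ^ 2 ^ i + 1) ≤ q ^ (1 + ∑ i ∈ I, 2 ^ i) :=
  (Nat.le_succ _).trans (TELE.tele_strong q hq I)

end

end Cfsg.Agent.S2264P
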