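import Mathlib
import Cfsg.Prelude.Def_Characters
import Cfsg.Prelude.Def_Blocks
import Cfsg.Agent.Helper24.Abelian
import Cfsg.Agent.Helper24.Linear
import Cfsg.Agent.Helper1.W2pDefs
import Cfsg.Agent.Lead.S4705Defs

set_option autoImplicit false

namespace Cfsg.Agent.Helper14.S4705INVH

universe u

/-- An element `t` with `t² = 1` normalizing a subgroup `Q` of prime order `p` which it does
not centralize inverts `Q`. -/
theorem inverts_of_sq_eq_one {H : Type u} [Group H] [Finite H] (p : ℕ) [hp : Fact p.Prime]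
    (Q : Subgroup H) (hQ : Nat.card Q = p) (t : H) (ht2 : t * t = 1)
    (htN : ∀ y ∈ Q, t * y * t⁻¹ ∈ Q)
    (hnc : ¬ ∀ y ∈ Q, t * y * t⁻¹ = y) :
    ∀ y ∈ Q, t * y * t⁻¹ = y⁻¹ := by
  have htinv : t⁻¹ = t := inv_eq_of_mul_eq_one_left ht2
  -- `Q` is commutative
  have : Fact (Nat.card Q).Prime := ⟨hQ ▸ hp.out⟩
  have hcyc : IsCyclic Q := isCyclic_of_prime_card (p := p) hQ
  have hcomm : ∀ a ∈ Q, ∀ b ∈ Q, a * b = b * a := by
    intro a ha b hb
    have := (IsCyclic.commGroup (α := Q)).mul_comm ⟨a, ha⟩ ⟨b, hb⟩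
    exact congrArg Subtype.val this
  -- the fixed points of `t` in `Q`
  let K : Subgroup H := Q ⊓ Subgroup.centralizer ({t} : Set H)
  have hKQ : K ≤ Q := inf_le_left
  have hKcard : Nat.card K ∣ p := hQ ▸ Subgroup.card_dvd_of_le hKQ
  have hKbot : K = ⊥ := by
    rcases (Nat.dvd_prime hp.out).1 hKcard with h1 | h1
    · exact Subgroup.card_eq_one.1 h1
    · exfalso
      have hKeq : K = Q := Subgroup.eq_of_le_of_card_ge hKQ (by rw [h1, hQ])
      apply hnc
      intro y hy
      have hyK : y ∈ K := hKeq ▸ hy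
      have hc : y ∈ Subgroup.centralizer ({t} : Set H) := hyK.2
      rw [Subgroup.mem_centralizer_iff] at hc
      have := hc t (Set.mem_singleton t)
      -- `t * y = y * t`
      rw [this, mul_inv_cancel_right]
  intro y hy
  have hy' : t * y * t⁻¹ ∈ Q := htN y hy
  have hw : y * (t * y * t⁻¹) ∈ K := by
    refine ⟨Q.mul_mem hy hy', ?_⟩
    show y * (t * y * t⁻¹) ∈ Subgroup.centralizer ({t} : Set H)
    rw [Subgroup.mem_centralizer_iff]
    intro g hg
    rw [Set.mem_singleton_iff] at hg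
    subst hg
    -- `g (y g y g⁻¹) = (y g y g⁻¹) g` using commutativity in `Q`
    have h1 : g * (y * (g * y * g⁻¹)) * g⁻¹ = (g * y * g⁻¹) * y := by
      rw [htinv]
      have e1 : g * (y * (g * y * g)) * g = g * y * g * y * (g * g) := by group
      rw [e1, ht2, mul_one]
    have h2 : (g * y * g⁻¹) * y = y * (g * y * g⁻¹) := hcomm _ hy' _ hy
    have h3 : g * (y * (g * y * g⁻¹)) * g⁻¹ = y * (g * y * g⁻¹) := h1.trans h2
    calc g * (y * (g * y * g⁻¹)) = g * (y * (g * y * g⁻¹)) * g⁻¹ * g := by group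
      _ = y * (g * y * g⁻¹) * g := by rw [h3]
  rw [hKbot, Subgroup.mem_bot] at hw
  exact (eq_inv_of_mul_eq_one_right hw)

end Cfsg.Agent.Helper14.S4705INVH

namespace Cfsg.Agent.S4705P

open Cfsg Cfsg.Agent.Helper24 Cfsg.Agent.Helper1.W2p
open scoped ComplexConjugate

universe u

/-! ### INVH -/
theorem exists_involution_normalizer {H : Type u} [Group H] [Finite H] (p : ℕ) [Fact p.Prime]
    (hp2 : p ≠ 2) (Q : Sylow p H) (hQ : Nat.card Q = p)
    (hC : Subgroup.centralizer ((Q : Subgroup H) : Set H) = (Q : Subgroup H))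
    (he : eN (Q : Subgroup H) = 2) :
    ∃ t : H, orderOf t = 2 ∧ t ∈ Subgroup.normalizer ((Q : Subgroup H) : Set H) ∧
      ∀ y ∈ (Q : Subgroup H), t * y * t⁻¹ = y⁻¹ := by
  have hp : p.Prime := Fact.out
  set N : Subgroup H := Subgroup.normalizer ((Q : Subgroup H) : Set H) with hN
  have hQN : (Q : Subgroup H) ≤ N := Subgroup.le_normalizer
  have hcardN : Nat.card N = 2 * p := by
    have h1 := Subgroup.card_mul_index ((Q : Subgroup H).subgroupOf N)
    have h2 : Nat.card ((Q : Subgroup H).subgroupOf N) = p := by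
      rw [Nat.card_congr (Subgroup.subgroupOfEquivOfLe hQN).toEquiv, hQ]
    unfold eN at he
    rw [← hN] at he
    unfold Subgroup.relIndex at he
    rw [he, h2] at h1
    rw [← h1, mul_comm]
  -- Cauchy: an element of order `2` in `N`
  have h2dvd : 2 ∣ Nat.card N := by rw [hcardN]; exact dvd_mul_right 2 p
  have : Fact (Nat.Prime 2) := ⟨Nat.prime_two⟩
  obtain ⟨t', ht'⟩ := exists_prime_orderOf_dvd_card' 2 h2dvd
  have ht : orderOf (t' : H) = 2 := by rw [Subgroup.orderOf_coe]; exact ht'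
  have htN : (t' : H) ∈ N := t'.2
  have ht2 : (t' : H) * (t' : H) = 1 := by
    have := pow_orderOf_eq_one (t' : H)
    rw [ht, pow_two] at this
    exact this
  have htnotQ : (t' : H) ∉ (Q : Subgroup H) := by
    intro hmem
    have h1 : orderOf (⟨(t' : H), hmem⟩ : (Q : Subgroup H)) ∣ Nat.card (Q : Subgroup H) :=
      orderOf_dvd_natCard _
    rw [← Subgroup.orderOf_coe] at h1
    simp only at h1
    rw [ht, hQ] at h1
    exact hp2 ((Nat.prime_dvd_prime_iff_eq Nat.prime_two hp).1 h1).symm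
  refine ⟨(t' : H), ht, htN, ?_⟩
  apply Cfsg.Agent.Helper14.S4705INVH.inverts_of_sq_eq_one p (Q : Subgroup H) hQ (t' : H) ht2
  · intro y hy
    exact (Subgroup.mem_normalizer_iff.1 htN y).1 hy
  · intro hcent
    apply htnotQ
    rw [← hC, Subgroup.mem_centralizer_iff]
    intro y hy
    have := hcent y hy
    -- `t y t⁻¹ = y` gives `y t = t y`
    calc y * (t' : H) = ((t' : H) * y * (t' : H)⁻¹) * (t' : H) := by rw [this]
      _ = (t' : H) * y := by group

end Cfsg.Agent.S4705P
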