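import Mathlib
import Cfsg.Prelude.Def_Characters
import Cfsg.Prelude.Def_Blocks
import Cfsg.Agent.Helper24.Abelian
import Cfsg.Agent.Helper24.Linear
import Cfsg.Agent.Helper1.W2pDefs
import Cfsg.Agent.Lead.S4705Defs

set_option autoImplicit false

namespace Cfsg.Agent.Helper14.S4705QUO

universe u

variable {G : Type u} [Group G]

/-- Membership in the normalizer from the two one-sided conditions. -/
theorem mem_normalizer_of_forall (K : Subgroup G) (n : G)
    (h1 : ∀ h ∈ K, n * h * n⁻¹ ∈ K) (h2 : ∀ h ∈ K, n⁻¹ * h * n ∈ K) :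
    n ∈ Subgroup.normalizer (K : Set G) := by
  rw [Subgroup.mem_normalizer_iff]
  intro h
  refine ⟨h1 h, fun hh => ?_⟩
  have := h2 _ hh
  have e : n⁻¹ * (n * h * n⁻¹) * n = h := by group
  rwa [e] at this

theorem conj_mem_of_mem_normalizer (K : Subgroup G) (n : G)
    (hn : n ∈ Subgroup.normalizer (K : Set G)) : ∀ h ∈ K, n * h * n⁻¹ ∈ K :=
  fun h hh => (Subgroup.mem_normalizer_iff.1 hn h).1 hh

theorem conj_mem_of_mem_normalizer' (K : Subgroup G) (n : G)
    (hn : n ∈ Subgroup.normalizer (K : Set G)) : ∀ h ∈ K, n⁻¹ * h * n ∈ K := by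
  intro h hh
  have := conj_mem_of_mem_normalizer K n⁻¹ ((Subgroup.normalizer (K : Set G)).inv_mem hn) h hh
  simpa using this

variable [Finite G]

/-- A Sylow `p`-subgroup of order `p` which is not normal meets the centre trivially. -/
theorem inf_center_eq_bot (p : ℕ) [Fact p.Prime] (P : Sylow p G) (hP : Nat.card P = p)
    (hnn : ¬ (P : Subgroup G).Normal) : (P : Subgroup G) ⊓ Subgroup.center G = ⊥ := by
  have hp : p.Prime := Fact.out
  have hle : (P : Subgroup G) ⊓ Subgroup.center G ≤ P := inf_le_left
  have hdvd : Nat.card ((P : Subgroup G) ⊓ Subgroup.center G : Subgroup G) ∣ p := by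
    have := Subgroup.card_dvd_of_le hle
    rwa [hP] at this
  rcases (Nat.dvd_prime hp).1 hdvd with h1 | h1
  · exact Subgroup.card_eq_one.1 h1
  · exfalso
    have heq : (P : Subgroup G) ⊓ Subgroup.center G = P :=
      Subgroup.eq_of_le_of_card_ge hle (by rw [h1, hP])
    have hPleZ : (P : Subgroup G) ≤ Subgroup.center G := by
      intro y hy
      have : y ∈ (P : Subgroup G) ⊓ Subgroup.center G := by rw [heq]; exact hy
      exact this.2
    apply hnn
    refine ⟨fun n hn g => ?_⟩
    have hc := Subgroup.mem_center_iff.1 (hPleZ hn) g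
    have : g * n * g⁻¹ = n := by rw [hc, mul_inv_cancel_right]
    rwa [this]

/-- A central element of order dividing `p` is trivial. -/
theorem central_eq_one (p : ℕ) [Fact p.Prime] (P : Sylow p G) (hP : Nat.card P = p)
    (hnn : ¬ (P : Subgroup G).Normal) (z : G) (hz : z ∈ Subgroup.center G) (hzp : z ^ p = 1) :
    z = 1 := by
  have hp : p.Prime := Fact.out
  have hord : orderOf z ∣ p := orderOf_dvd_of_pow_eq_one hzp
  rcases (Nat.dvd_prime hp).1 hord with h1 | h1
  · exact orderOf_eq_one_iff.1 h1
  · have hpg : IsPGroup p (Subgroup.zpowers z) := by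
      apply IsPGroup.of_card (n := 1)
      rw [Nat.card_zpowers, h1, pow_one]
    obtain ⟨Q', hQ'⟩ := hpg.exists_le_sylow
    obtain ⟨g, hg⟩ := MulAction.exists_smul_eq G P Q'
    have hzQ' : z ∈ (Q' : Subgroup G) := hQ' (Subgroup.mem_zpowers z)
    rw [← hg, Sylow.coe_subgroup_smul, Subgroup.mem_pointwise_smul_iff_inv_smul_mem] at hzQ'
    have e : (MulAut.conj g)⁻¹ • z = z := by
      rw [MulAut.smul_def, MulAut.conj_inv_apply]
      have hc := Subgroup.mem_center_iff.1 hz g
      rw [mul_assoc, ← hc, inv_mul_cancel_left]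
    rw [e] at hzQ'
    have hmem : z ∈ (P : Subgroup G) ⊓ Subgroup.center G := ⟨hzQ', hz⟩
    rw [inf_center_eq_bot p P hP hnn, Subgroup.mem_bot] at hmem
    exact hmem

omit [Finite G] in
/-- Elements of `P` have `p`-th power one. -/
theorem pow_eq_one_of_mem (p : ℕ) (P : Subgroup G) (hP : Nat.card P = p) (y : G) (hy : y ∈ P) :
    y ^ p = 1 := by
  have h1 : (⟨y, hy⟩ : P) ^ Nat.card P = 1 := pow_card_eq_one'
  rw [hP] at h1
  have := congrArg Subtype.val h1
  simpa using this

/-- `N(P Z) = N(P)`. -/
theorem normalizer_sup_center (p : ℕ) [Fact p.Prime] (P : Sylow p G) (hP : Nat.card P = p)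
    (hnn : ¬ (P : Subgroup G).Normal) :
    Subgroup.normalizer (((P : Subgroup G) ⊔ Subgroup.center G : Subgroup G) : Set G) =
      Subgroup.normalizer ((P : Subgroup G) : Set G) := by
  -- key claim
  have key : ∀ n ∈ Subgroup.normalizer (((P : Subgroup G) ⊔ Subgroup.center G : Subgroup G) : Set G),
      ∀ y ∈ (P : Subgroup G), n * y * n⁻¹ ∈ (P : Subgroup G) := by
    intro n hn y hy
    have h1 : n * y * n⁻¹ ∈ (P : Subgroup G) ⊔ Subgroup.center G :=
      conj_mem_of_mem_normalizer _ n hn y (Subgroup.mem_sup_left hy)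
    obtain ⟨y', hy', z', hz', hyz⟩ := Subgroup.mem_sup_of_normal_right.1 h1
    have hpow : (n * y * n⁻¹) ^ p = 1 := by
      rw [conj_pow, pow_eq_one_of_mem p (P : Subgroup G) hP y hy]
      group
    have hcomm : Commute y' z' := Subgroup.mem_center_iff.1 hz' y'
    rw [← hyz, hcomm.mul_pow, pow_eq_one_of_mem p (P : Subgroup G) hP y' hy', one_mul] at hpow
    have hz1 : z' = 1 := central_eq_one p P hP hnn z' hz' hpow
    rw [← hyz, hz1, mul_one]
    exact hy'
  have key' : ∀ n ∈ Subgroup.normalizer ((P : Subgroup G) : Set G),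
      ∀ h ∈ (P : Subgroup G) ⊔ Subgroup.center G,
        n * h * n⁻¹ ∈ (P : Subgroup G) ⊔ Subgroup.center G := by
    intro n hn h hh
    obtain ⟨y', hy', z', hz', rfl⟩ := Subgroup.mem_sup_of_normal_right.1 hh
    have e : n * (y' * z') * n⁻¹ = (n * y' * n⁻¹) * z' := by
      have hc := Subgroup.mem_center_iff.1 hz' n⁻¹
      calc n * (y' * z') * n⁻¹ = n * y' * (z' * n⁻¹) := by group
        _ = n * y' * (n⁻¹ * z') := by rw [hc]
        _ = (n * y' * n⁻¹) * z' := by group
    rw [e]
    exact Subgroup.mul_mem_sup (conj_mem_of_mem_normalizer _ n hn y' hy') hz'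
  apply le_antisymm
  · intro n hn
    apply mem_normalizer_of_forall
    · exact key n hn
    · intro y hy
      have := key n⁻¹ ((Subgroup.normalizer _).inv_mem hn) y hy
      simpa using this
  · intro n hn
    apply mem_normalizer_of_forall
    · exact key' n hn
    · intro y hy
      have := key' n⁻¹ ((Subgroup.normalizer _).inv_mem hn) y hy
      simpa using this

end Cfsg.Agent.Helper14.S4705QUO

namespace Cfsg.Agent.S4705P

open Cfsg Cfsg.Agent.Helper24 Cfsg.Agent.Helper1.W2p
open scoped ComplexConjugate
open Cfsg.Agent.Helper14.S4705QUO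

universe u

variable {G : Type u} [Group G] [Finite G]

/-! ### QUO -/
theorem quotient_facts (p : ℕ) [Fact p.Prime] (hp2 : p ≠ 2) (P : Sylow p G) (hP : Nat.card P = p)
    (hnn : ¬ (P : Subgroup G).Normal)
    (hC : Subgroup.centralizer ((P : Subgroup G) : Set G) = (P : Subgroup G) ⊔ Subgroup.center G)
    (hN : (Subgroup.centralizer ((P : Subgroup G) : Set G)).relIndex
      (Subgroup.normalizer ((P : Subgroup G) : Set G)) = 2) :
    ∃ Q : Sylow p (G ⧸ Subgroup.center G),
      (Q : Subgroup (G ⧸ Subgroup.center G)) =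
        (P : Subgroup G).map (QuotientGroup.mk' (Subgroup.center G)) ∧
      Nat.card Q = p ∧
      Subgroup.centralizer ((Q : Subgroup (G ⧸ Subgroup.center G)) : Set (G ⧸ Subgroup.center G)) =
        (Q : Subgroup (G ⧸ Subgroup.center G)) ∧
      eN (Q : Subgroup (G ⧸ Subgroup.center G)) = 2 ∧
      ¬ (Q : Subgroup (G ⧸ Subgroup.center G)).Normal := by
  have hp : p.Prime := Fact.out
  have hπ : Function.Surjective (QuotientGroup.mk' (Subgroup.center G)) :=
    QuotientGroup.mk'_surjective _
  have hker : (QuotientGroup.mk' (Subgroup.center G)).ker = Subgroup.center G :=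
    QuotientGroup.ker_mk' _
  have hPZ := inf_center_eq_bot p P hP hnn
  have hNN := normalizer_sup_center p P hP hnn
  -- the comap of the image of `P`
  have hcomap : ((P : Subgroup G).map (QuotientGroup.mk' (Subgroup.center G))).comap
      (QuotientGroup.mk' (Subgroup.center G)) = (P : Subgroup G) ⊔ Subgroup.center G := by
    rw [Subgroup.comap_map_eq, hker]
  -- the normalizer of the image
  have hnormcomap : (Subgroup.normalizer
      (((P : Subgroup G).map (QuotientGroup.mk' (Subgroup.center G)) :
        Subgroup (G ⧸ Subgroup.center G)) : Set (G ⧸ Subgroup.center G))).comap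
      (QuotientGroup.mk' (Subgroup.center G)) = Subgroup.normalizer ((P : Subgroup G) : Set G) := by
    rw [Subgroup.comap_normalizer_eq_of_surjective _ hπ, hcomap, hNN]
  have hnormmap : Subgroup.normalizer
      (((P : Subgroup G).map (QuotientGroup.mk' (Subgroup.center G)) :
        Subgroup (G ⧸ Subgroup.center G)) : Set (G ⧸ Subgroup.center G)) =
      (Subgroup.normalizer ((P : Subgroup G) : Set G)).map
        (QuotientGroup.mk' (Subgroup.center G)) := by
    rw [← hnormcomap, Subgroup.map_comap_eq_self_of_surjective hπ]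
  refine ⟨P.mapSurjective hπ, rfl, ?_, ?_, ?_, ?_⟩
  · -- card
    show Nat.card ((P : Subgroup G).map (QuotientGroup.mk' (Subgroup.center G))) = p
    have hdvd : Nat.card ((P : Subgroup G).map (QuotientGroup.mk' (Subgroup.center G))) ∣ p := by
      have := Subgroup.card_map_dvd (H := (P : Subgroup G)) (QuotientGroup.mk' (Subgroup.center G))
      rwa [hP] at this
    rcases (Nat.dvd_prime hp).1 hdvd with h1 | h1
    · exfalso
      have hbot := Subgroup.card_eq_one.1 h1
      have hle : (P : Subgroup G) ≤ Subgroup.center G := by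
        rw [← hker]
        exact (Subgroup.map_eq_bot_iff _).1 hbot
      have : (P : Subgroup G) ⊓ Subgroup.center G = P := inf_eq_left.2 hle
      rw [hPZ] at this
      have hcard : Nat.card (⊥ : Subgroup G) = p := by rw [this, hP]
      rw [Subgroup.card_bot] at hcard
      exact hp.one_lt.ne hcard
    · exact h1
  · -- centralizer
    show Subgroup.centralizer
      ((((P : Subgroup G).map (QuotientGroup.mk' (Subgroup.center G)) :
        Subgroup (G ⧸ Subgroup.center G))) : Set (G ⧸ Subgroup.center G)) =
      (P : Subgroup G).map (QuotientGroup.mk' (Subgroup.center G))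
    apply le_antisymm
    · intro gbar hg
      obtain ⟨g, rfl⟩ := hπ gbar
      -- `g` centralizes `P`
      have hgC : g ∈ Subgroup.centralizer ((P : Subgroup G) : Set G) := by
        rw [Subgroup.mem_centralizer_iff]
        intro y hy
        have hy' : (QuotientGroup.mk' (Subgroup.center G)) y ∈
            (((P : Subgroup G).map (QuotientGroup.mk' (Subgroup.center G)) :
              Subgroup (G ⧸ Subgroup.center G)) : Set (G ⧸ Subgroup.center G)) :=
          Subgroup.mem_map_of_mem _ hy
        have hc := Subgroup.mem_centralizer_iff.1 hg _ hy'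
        -- `π (y g) = π (g y)`, so `g y g⁻¹ y⁻¹ ∈ Z`
        rw [← map_mul, ← map_mul] at hc
        have hz : (g * y)⁻¹ * (y * g) ∈ Subgroup.center G := by
          rw [← hker, MonoidHom.mem_ker, map_mul, map_inv, ← hc, inv_mul_cancel]
        -- `y g = g y z`
        set z := (g * y)⁻¹ * (y * g) with hzdef
        have hyg : y * g = g * y * z := by rw [hzdef]; group
        -- `g⁻¹ y g = y z` has order dividing `p`
        have hconj : g⁻¹ * y * g = y * z := by
          calc g⁻¹ * y * g = g⁻¹ * (y * g) := by group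
            _ = g⁻¹ * (g * y * z) := by rw [hyg]
            _ = y * z := by group
        have hpow : (g⁻¹ * y * g) ^ p = 1 := by
          have := conj_pow (a := g⁻¹) (b := y) (i := p)
          rw [inv_inv] at this
          rw [this, pow_eq_one_of_mem p (P : Subgroup G) hP y hy]
          group
        have hcomm : Commute y z := Subgroup.mem_center_iff.1 hz y
        rw [hconj, hcomm.mul_pow, pow_eq_one_of_mem p (P : Subgroup G) hP y hy, one_mul] at hpow
        have hz1 : z = 1 := central_eq_one p P hP hnn z hz hpow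
        rw [hyg, hz1, mul_one]
      rw [hC] at hgC
      have : (QuotientGroup.mk' (Subgroup.center G)) g ∈
          ((P : Subgroup G) ⊔ Subgroup.center G).map (QuotientGroup.mk' (Subgroup.center G)) :=
        Subgroup.mem_map_of_mem _ hgC
      rw [Subgroup.map_sup] at this
      have hZmap : (Subgroup.center G).map (QuotientGroup.mk' (Subgroup.center G)) = ⊥ := by
        rw [Subgroup.map_eq_bot_iff, hker]
      rw [hZmap, sup_bot_eq] at this
      exact this
    · -- the image of `P` is commutative
      intro gbar hg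
      rw [Subgroup.mem_centralizer_iff]
      intro hbar hh
      obtain ⟨g, hgP, rfl⟩ := Subgroup.mem_map.1 hg
      obtain ⟨h, hhP, rfl⟩ := Subgroup.mem_map.1 hh
      have hPC : (P : Subgroup G) ≤ Subgroup.centralizer ((P : Subgroup G) : Set G) := by
        rw [hC]; exact le_sup_left
      have := Subgroup.mem_centralizer_iff.1 (hPC hgP) h hhP
      rw [← map_mul, ← map_mul, this]
  · -- `eN`
    show eN ((P : Subgroup G).map (QuotientGroup.mk' (Subgroup.center G))) = 2
    unfold eN
    rw [hnormmap, Subgroup.relIndex_map_map, hker]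
    have hZN : Subgroup.center G ≤ Subgroup.normalizer ((P : Subgroup G) : Set G) := by
      intro z hz
      apply mem_normalizer_of_forall
      · intro y hy
        have hc := Subgroup.mem_center_iff.1 hz y
        have : z * y * z⁻¹ = y := by rw [← hc, mul_inv_cancel_right]
        rwa [this]
      · intro y hy
        have hc := Subgroup.mem_center_iff.1 hz y
        have : z⁻¹ * y * z = y := by rw [mul_assoc, hc, inv_mul_cancel_left]
        rwa [this]
    rw [sup_eq_left.2 hZN, ← hC]
    exact hN
  · -- not normal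
    show ¬ ((P : Subgroup G).map (QuotientGroup.mk' (Subgroup.center G))).Normal
    intro hnormal
    have h1 : Subgroup.normalizer
      (((P : Subgroup G).map (QuotientGroup.mk' (Subgroup.center G)) :
        Subgroup (G ⧸ Subgroup.center G)) : Set (G ⧸ Subgroup.center G)) = ⊤ :=
      Subgroup.normalizer_eq_top _
    rw [h1, Subgroup.comap_top] at hnormcomap
    exact hnn (Subgroup.normalizer_eq_top_iff.1 hnormcomap.symm)

end Cfsg.Agent.S4705P
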