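import Mathlib
import Cfsg.Prelude.Def_Solvable
import Cfsg.Agent.Lead.S2553Defs
import Cfsg.Agent.Helper11.SimpleTools
import Cfsg.Agent.Lead.S2553SYLAMB
import Cfsg.Agent.Helper24.S2553N7

set_option autoImplicit false

/-! # S2553 piece C7 (helper14): the Sylow `7`-congruence for simple subgroups of `A₈` -/

namespace Cfsg.Agent.S2553P

namespace C7

/-- the order of `Perm (Fin 8)` -/
theorem card_Γ8 : Nat.card Γ8 = 40320 := by
  rw [Nat.card_eq_fintype_card, Fintype.card_perm, Fintype.card_fin]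
  rfl

/-- a Sylow `p`-subgroup of a subgroup of `Perm (Fin 8)` has order `p` when `p ∣ |S|` and
`p² ∤ 8!` -/
theorem card_sylow_eq (S : Subgroup Γ8) (p : ℕ) [Fact p.Prime] (hp : p ∣ Nat.card ↥S)
    (hpp : ¬ p ^ 2 ∣ 40320) (P : Sylow p ↥S) : Nat.card ↥(P : Subgroup ↥S) = p := by
  obtain ⟨n, hn⟩ := IsPGroup.exists_card_eq P.2
  have hdvd : p ∣ Nat.card ↥(P : Subgroup ↥S) := P.dvd_card_of_dvd_card hp
  have h1 : Nat.card ↥(P : Subgroup ↥S) ∣ 40320 := by
    rw [← card_Γ8]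
    exact (Subgroup.card_subgroup_dvd_card _).trans (Subgroup.card_subgroup_dvd_card S)
  rw [hn] at hdvd h1 ⊢
  have hn1 : n ≠ 0 := by
    rintro rfl
    rw [pow_zero, Nat.dvd_one] at hdvd
    exact (Fact.out : p.Prime).one_lt.ne' hdvd
  have hn2 : n < 2 := by
    by_contra hge
    push Not at hge
    exact hpp ((pow_dvd_pow p hge).trans h1)
  have : n = 1 := by omega
  rw [this, pow_one]

end C7

open C7 in
/-- C7 -/
theorem c7 (S : Subgroup Γ8) (hSA : S ≤ A8) (hs : IsSimpleGroup ↥S) (hna : ¬ IsMulCommutative ↥S)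
    (h7 : 7 ∣ Nat.card ↥S) : 21 ∣ Nat.card ↥S ∧ (Nat.card ↥S / 21) % 7 = 1 := by
  classical
  have : Fact (Nat.Prime 7) := ⟨by norm_num⟩
  obtain ⟨P⟩ : Nonempty (Sylow 7 ↥S) := inferInstance
  have hP : Nat.card ↥(P : Subgroup ↥S) = 7 := card_sylow_eq S 7 h7 (by norm_num) P
  obtain ⟨r, hr1, hr6, hr7⟩ := Cfsg.Agent.Helper11.simple_automizer_prime hna 7 P hP
  have hmap : Nat.card ↥((P : Subgroup ↥S).map S.subtype) = 7 := by
    rw [Subgroup.card_map_of_injective (Subgroup.subtype_injective S), hP]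
  have h21 : Nat.card ↥(Subgroup.normalizer ((P : Subgroup ↥S) : Set ↥S)) ∣ 21 := by
    have := card_normalizer_dvd S hSA (P : Subgroup ↥S)
    rwa [card_alt_inf_normalizer_seven _ hmap] at this
  have hr3 : r = 3 := by
    have h1 : r * 7 ∣ 21 := hr7.trans h21
    have h2 : r ∣ 3 := by
      have : r * 7 ∣ 3 * 7 := h1
      exact Nat.dvd_of_mul_dvd_mul_right (by norm_num) this
    have h3 : r ≤ 3 := Nat.le_of_dvd (by norm_num) h2
    interval_cases r
    · simp at h2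
    · exact absurd rfl hr1
    · norm_num at h2
    · rfl
  have hN : Nat.card ↥(Subgroup.normalizer ((P : Subgroup ↥S) : Set ↥S)) = 21 := by
    rw [hr3] at hr7
    exact Nat.dvd_antisymm h21 hr7
  have hidx : (Subgroup.normalizer ((P : Subgroup ↥S) : Set ↥S)).index * 21 = Nat.card ↥S := by
    rw [← hN]
    exact Subgroup.index_mul_card _
  have hmod : Nat.card (Sylow 7 ↥S) ≡ 1 [MOD 7] := card_sylow_modEq_one 7 ↥S
  rw [Sylow.card_eq_index_normalizer P] at hmod
  refine ⟨⟨_, by rw [← hidx, mul_comm]⟩, ?_⟩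
  rw [← hidx, Nat.mul_div_cancel _ (by norm_num : 0 < 21)]
  exact hmod

end Cfsg.Agent.S2553P
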