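import Mathlib
import Cfsg.Prelude.Def_LocalStructure
import Cfsg.Agent.Helper6.S2861Defs
import Cfsg.Agent.Helper14.Conj
import Cfsg.Agent.Helper14.PCore

/-!
# S2863: shared definitions for the piece board `s2863pieces`

`L ∈ 𝔏_G(Y_M)`, `A = O_p(L)`, `C = C_{Y_M}(L)`: every element of `L` whose order is not a power of `p` acts without nontrivial
fixed points on `A / C`.

* `X = L / A`, `Yb = Y A / A`, `Nb = N_L(Y) / A` as in S2861 (`Cfsg.Agent.S2861P.Hyp`).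
* `XFacts p Yb Nb`: the two facts about `X` that are read off from the three possible isomorphism types of `X`.
* `LHyp p Y L`: the hypotheses on `(Y, L)` inside `G`.
* `Pair L A C Y1 Y2`: the abstract configuration of two distinct conjugates `Y1`, `Y2` of `Y` in `L`.
-/

set_option autoImplicit false

namespace Cfsg.Agent.S2863P

open Cfsg Subgroup
open Cfsg.Agent.Helper14 (cj)

/-- `h` acts without nontrivial fixed points on `A / C`. -/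
def FPF {G : Type*} [Group G] (A C : Subgroup G) (h : G) : Prop :=
  ∀ a ∈ A, h * a * h⁻¹ * a⁻¹ ∈ C → a ∈ C

/-- The facts about `X = L / O_p(L)`: a nontrivial element of `Yb` normalises no other conjugate of `Yb`; every element whose order
is not a power of `p` is a product `t s` of nontrivial elements of two distinct conjugates of `Yb`, or (`p` odd) it is central and the
square of such a product. -/
structure XFacts (p : ℕ) {X : Type*} [Group X] (Yb Nb : Subgroup X) : Prop where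
  semireg : ∀ t ∈ Yb, t ≠ 1 → ∀ x : X,
    t ∈ normalizer ((Yb.map (cj x) : Subgroup X) : Set X) → x ∈ Nb
  factor : ∀ h : X, (¬ ∃ k : ℕ, orderOf h = p ^ k) →
    ∃ x1 x2 t s : X, t ∈ Yb.map (cj x1) ∧ s ∈ Yb.map (cj x2) ∧ t ≠ 1 ∧ s ≠ 1 ∧
      Yb.map (cj x1) ≠ Yb.map (cj x2) ∧
      (h = t * s ∨ (p ≠ 2 ∧ h ∈ center X ∧ h = (t * s) ^ 2))

/-- The hypotheses on `(Y, L)` in `G` (with `A = O_p(L)`): the relevant part of `L ∈ 𝔏_G(Y)` together with the lifted semiregularity. -/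
structure LHyp (p : ℕ) {G : Type*} [Group G] (Y L : Subgroup G) : Prop where
  hYL : Y ≤ L
  comm : ∀ a ∈ Y, ∀ b ∈ Y, a * b = b * a
  hYp : IsPGroup p ↥Y
  hA : pCoreOf p L ≤ normalizer (Y : Set G)
  hcl : pCoreOf p L =
    (normalClosure (((Y ⊓ pCoreOf p L).subgroupOf L : Subgroup ↥L) : Set ↥L)).map L.subtype
  hgen : normalClosure ((Y.subgroupOf L : Subgroup ↥L) : Set ↥L) = ⊤
  hlt : L ⊓ normalizer (Y : Set G) < L
  hmax : ∀ X : Subgroup G, Y ≤ X → X < L → X ≤ L ⊓ normalizer (Y : Set G)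
  sr : ∀ t ∈ Y, t ∉ pCoreOf p L → ∀ x ∈ L,
    t ∈ normalizer ((Y.map (cj x) : Subgroup G) : Set G) → x ∈ normalizer (Y : Set G)

/-- The lifted factorisation of `h ∈ L` (with `A = O_p(L)`). -/
def LFac (p : ℕ) {G : Type*} [Group G] (Y L : Subgroup G) (h : G) : Prop :=
  ∃ x1 x2 t s a0 : G, x1 ∈ L ∧ x2 ∈ L ∧ t ∈ Y.map (cj x1) ∧ s ∈ Y.map (cj x2) ∧
    t ∉ pCoreOf p L ∧ s ∉ pCoreOf p L ∧ Y.map (cj x1) ≠ Y.map (cj x2) ∧ a0 ∈ pCoreOf p L ∧
    (h = t * s * a0 ∨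
      (p ≠ 2 ∧ (∀ l ∈ L, h * l * h⁻¹ * l⁻¹ ∈ pCoreOf p L) ∧ h = (t * s) ^ 2 * a0))

/-- Two distinct conjugates `Y1`, `Y2` of `Y` in `L`, `A = O_p(L)`, `C = C_Y(L)`. -/
structure Pair {G : Type*} [Group G] (L A C Y1 Y2 : Subgroup G) : Prop where
  h1L : Y1 ≤ L
  h2L : Y2 ≤ L
  comm1 : ∀ a ∈ Y1, ∀ b ∈ Y1, a * b = b * a
  comm2 : ∀ a ∈ Y2, ∀ b ∈ Y2, a * b = b * a
  hAL : A ≤ L
  hLA : L ≤ normalizer (A : Set G)
  hA1 : A ≤ normalizer (Y1 : Set G)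
  hA2 : A ≤ normalizer (Y2 : Set G)
  gen : Y1 ⊔ Y2 = L
  prod : A ≤ (Y1 ⊓ A) ⊔ (Y2 ⊓ A)
  hC : Y1 ⊓ A ⊓ (Y2 ⊓ A) = C
  swap : ∃ g ∈ L, Y1.map (cj g) = Y2
  max1 : ∀ R : Subgroup G, Y1 ≤ R → R ≤ L → R ≠ L → R ≤ normalizer (Y1 : Set G)
  max2 : ∀ R : Subgroup G, Y2 ≤ R → R ≤ L → R ≠ L → R ≤ normalizer (Y2 : Set G)
  sr1 : ∀ t ∈ Y1, t ∉ A → t ∉ normalizer (Y2 : Set G)
  sr2 : ∀ s ∈ Y2, s ∉ A → s ∉ normalizer (Y1 : Set G)

end Cfsg.Agent.S2863P
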