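import Cfsg.Agent.Helper14.AutAltC

/-!
# Groups between `A_n` and `Aut(A_n)`: part D (assembly)
-/

set_option autoImplicit false
set_option linter.unusedSectionVars false

namespace Cfsg.Agent.Helper14.AutAltN

open Equiv Equiv.Perm

theorem conj_injective_alt (n : ℕ) (h4 : 4 ≤ n) :
    Function.Injective (MulAut.conj : alternatingGroup (Fin n) →* MulAut (alternatingGroup (Fin n))) := by
  rw [injective_iff_map_eq_one]
  intro g hg
  have hc : g ∈ Subgroup.center (alternatingGroup (Fin n)) := by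
    rw [Subgroup.mem_center_iff]
    intro h
    have := congrArg (fun θ : MulAut (alternatingGroup (Fin n)) => θ h) hg
    simp only [MulAut.conj_apply, MulAut.one_apply] at this
    calc h * g = (g * h * g⁻¹) * g := by rw [this]
      _ = g * h := by group
  rw [alternatingGroup.center_eq_bot (by rw [Nat.card_eq_fintype_card, Fintype.card_fin]; exact h4)]
    at hc
  exact Subgroup.mem_bot.mp hc

theorem mem_range_of_K3 (n : ℕ) (h4 : 4 ≤ n) (θ : MulAut (alternatingGroup (Fin n)))
    (hk : K3 θ) :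
    θ ∈ (MulAut.conjNormal : Perm (Fin n) →* MulAut (alternatingGroup (Fin n))).range := by
  obtain ⟨π, hπ⟩ := exists_perm_conj' (by rw [Fintype.card_fin]; exact h4) θ hk
  refine ⟨π, ?_⟩
  ext g
  rw [hπ g, MulAut.conjNormal_apply]

theorem comm_of_le_range (r : ℕ) [Fact r.Prime] (n : ℕ) (hn : n < r ^ 2)
    (R : Subgroup (MulAut (alternatingGroup (Fin n)))) (hR : IsPGroup r R)
    (hle : R ≤ (MulAut.conjNormal : Perm (Fin n) →* MulAut (alternatingGroup (Fin n))).range) :
    ∀ a ∈ R, ∀ b ∈ R, a * b = b * a := by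
  have h1 : Cfsg.Agent.Helper11.AbP r
      (MulAut.conjNormal : Perm (Fin n) →* MulAut (alternatingGroup (Fin n))).range :=
    (abP_perm r n hn).of_surjective (MonoidHom.rangeRestrict _)
      (MonoidHom.rangeRestrict_surjective _)
  intro a ha b hb
  have h2 := h1 (R.subgroupOf _) hR.comap_subtype ⟨a, hle ha⟩ (Subgroup.mem_subgroupOf.mpr ha)
    ⟨b, hle hb⟩ (Subgroup.mem_subgroupOf.mpr hb)
  exact congrArg Subtype.val h2

theorem odd_orderOf_of_isPGroup {G : Type*} [Group G] (r : ℕ) [hr : Fact r.Prime] (hr2 : r ≠ 2)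
    {R : Subgroup G} (hR : IsPGroup r R) (a : G) (ha : a ∈ R) : Odd (orderOf a) := by
  obtain ⟨k, hk⟩ := hR ⟨a, ha⟩
  have hk' : a ^ r ^ k = 1 := congrArg Subtype.val hk
  have hdvd : orderOf a ∣ r ^ k := orderOf_dvd_of_pow_eq_one hk'
  have hodd : Odd (r ^ k) := (hr.out.odd_of_ne_two hr2).pow
  exact Odd.of_dvd_nat hodd hdvd

theorem sylow_comm (n : ℕ) (hn : 5 ≤ n) (G : Subgroup (MulAut (alternatingGroup (Fin n))))
    (r : ℕ) [hr : Fact r.Prime] (hcase : (n ≠ 6 ∧ n < r ^ 2) ∨ (n = 6 ∧ r ≠ 2))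
    (P : Sylow r G) : IsMulCommutative (P : Subgroup G) := by
  set R : Subgroup (MulAut (alternatingGroup (Fin n))) := (P : Subgroup G).map G.subtype with hRdef
  have hR : IsPGroup r R := P.2.map _
  have hlt : n < r ^ 2 := by
    rcases hcase with h | h
    · exact h.2
    · have h3 : 3 ≤ r := by
        have := hr.out.two_le
        have := h.2
        omega
      rw [h.1]; nlinarith
  have hle : R ≤ (MulAut.conjNormal : Perm (Fin n) →* MulAut (alternatingGroup (Fin n))).range := by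
    rcases hcase with h | h
    · have hs : Function.Surjective (MulAut.conjNormal :
          Perm (Fin n) →* MulAut (alternatingGroup (Fin n))) :=
        (Cfsg.Agent.S2119.result n (by omega) h.1).2
      rw [MonoidHom.range_eq_top.mpr hs]
      exact le_top
    · obtain ⟨h6, hr2⟩ := h
      subst h6
      intro a ha
      exact mem_range_of_K3 6 (by norm_num) a
        (K3_of_odd a (odd_orderOf_of_isPGroup r hr2 hR a ha))
  have hcomm := comm_of_le_range r n hlt R hR hle
  refine ⟨⟨fun a b => ?_⟩⟩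
  have ha : (a : G).1 ∈ R := ⟨a.1, a.2, rfl⟩
  have hb : (b : G).1 ∈ R := ⟨b.1, b.2, rfl⟩
  have := hcomm _ ha _ hb
  apply Subtype.ext
  apply Subtype.ext
  exact this

theorem main (n : ℕ) (hn : 5 ≤ n) (G : Subgroup (MulAut (alternatingGroup (Fin n))))
    (hG : (MulAut.conj : alternatingGroup (Fin n) →* MulAut (alternatingGroup (Fin n))).range ≤ G)
    (p q : ℕ) [hp : Fact p.Prime] [hq : Fact q.Prime] (hpq : p ≠ q)
    (h : ∀ g : G, orderOf g ≠ p * q) :
    (∀ P : Sylow p G, IsMulCommutative (P : Subgroup G)) ∨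
      (∀ Q : Sylow q G, IsMulCommutative (Q : Subgroup G)) := by
  by_contra hcon
  push Not at hcon
  obtain ⟨⟨P, hP⟩, ⟨Q, hQ⟩⟩ := hcon
  by_cases h6 : n = 6
  · have : p ≠ 2 ∨ q ≠ 2 := by
      by_contra hc
      push Not at hc
      exact hpq (hc.1.trans hc.2.symm)
    rcases this with h2 | h2
    · exact hP (sylow_comm n hn G p (Or.inr ⟨h6, h2⟩) P)
    · exact hQ (sylow_comm n hn G q (Or.inr ⟨h6, h2⟩) Q)
  · have hp2 : p ^ 2 ≤ n := by
      by_contra hlt
      push Not at hlt
      exact hP (sylow_comm n hn G p (Or.inl ⟨h6, hlt⟩) P)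
    have hq2 : q ^ 2 ≤ n := by
      by_contra hlt
      push Not at hlt
      exact hQ (sylow_comm n hn G q (Or.inl ⟨h6, hlt⟩) Q)
    obtain ⟨g, hg⟩ := exists_order_mul_alt p q hpq n (sz_add_le p q hp.out hq.out hpq n hp2 hq2)
    have hmem : MulAut.conj g ∈ G := hG ⟨g, rfl⟩
    apply h ⟨MulAut.conj g, hmem⟩
    rw [Subgroup.orderOf_mk, orderOf_injective _ (conj_injective_alt n (by omega)), hg]

end Cfsg.Agent.Helper14.AutAltN
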