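import Cfsg.Agent.Helper14.A10D

/-!
# Checks (part 5) for a group with the element orders of the alternating group of degree ten
-/

set_option autoImplicit false

namespace Cfsg.Agent.Helper14.A10K

open Cfsg.Agent.Helper14.PermChainN

set_option maxRecDepth 1000000 in
set_option maxHeartbeats 4000000 in
theorem chunk5_ok : chunkChk 5 = true := by decide +kernel

end Cfsg.Agent.Helper14.A10K
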