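import Cfsg.Agent.Helper14.A10C0
import Cfsg.Agent.Helper14.A10E0
import Cfsg.Agent.Helper14.A10E1
import Cfsg.Agent.Helper14.A10E2
import Cfsg.Agent.Helper14.A10E3
import Cfsg.Agent.Helper14.A10E4
import Cfsg.Agent.Helper14.A10E5
import Cfsg.Agent.Helper14.A10E6
import Cfsg.Agent.Helper14.A10E7

/-!
# Checks for a group with the element orders of the alternating group of degree ten: summary
-/

set_option autoImplicit false

namespace Cfsg.Agent.Helper14.A10K

open Cfsg.Agent.Helper14.PermChainN

theorem chunk_ok : ∀ c < 8, chunkChk c = true := by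
  intro c hc
  interval_cases c
  · exact chunk0_ok
  · exact chunk1_ok
  · exact chunk2_ok
  · exact chunk3_ok
  · exact chunk4_ok
  · exact chunk5_ok
  · exact chunk6_ok
  · exact chunk7_ok

theorem elemChk_ok {β : ℕ} (hβ : β < 240) : elemChk (tbl lvA β) = true := by
  have h := chunk_ok (β / 30) (by omega)
  unfold chunkChk at h
  have h2 := List.all_eq_true.mp h (β % 30) (List.mem_range.mpr (Nat.mod_lt _ (by norm_num)))
  have e : 30 * (β / 30) + β % 30 = β := Nat.div_add_mod β 30
  rw [e] at h2
  exact h2

end Cfsg.Agent.Helper14.A10K
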