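import Cfsg.Agent.Helper14.A10D

/-!
# Checks for a group with the element orders of the alternating group of degree ten
-/

set_option autoImplicit false

namespace Cfsg.Agent.Helper14.A10K

open Cfsg.Agent.Helper14.PermChainN

set_option maxRecDepth 1000000 in
set_option maxHeartbeats 4000000 in
theorem gensA_good : lvA.gens.all (goodB 240) = true := by decide +kernel

set_option maxRecDepth 1000000 in
set_option maxHeartbeats 4000000 in
theorem chainA_ok : chainOK 240 [lvA] = true := by decide +kernel

set_option maxRecDepth 1000000 in
set_option maxHeartbeats 4000000 in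
theorem orb_lt : lvA.orb.all (fun β => decide (β < 240)) = true := by decide +kernel

set_option maxRecDepth 1000000 in
set_option maxHeartbeats 4000000 in
theorem wit_valid : (lvA.orb.contains 16 && lvA.orb.contains 2 && lvA.orb.contains 5 &&
    lvA.orb.contains 1 && lvA.orb.contains 4) = true := by decide +kernel

set_option maxRecDepth 1000000 in
set_option maxHeartbeats 4000000 in
theorem wit_f : look fTab 1 = 16 ∧ look fTab 0 = 3 := by decide +kernel

set_option maxRecDepth 1000000 in
set_option maxHeartbeats 4000000 in
theorem wit3 : firstM (tbl lvA 16) = 9 ∧ nsum (tbl lvA 16) 3 1 0 % 21 = 7 := by decide +kernel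

set_option maxRecDepth 1000000 in
set_option maxHeartbeats 4000000 in
theorem wit5 : firstM (tbl lvA 2) = 15 ∧ nsum (tbl lvA 2) 5 3 0 % 21 = 14 ∧
    pow0 (tbl lvA 2) 3 = false := by decide +kernel

set_option maxRecDepth 1000000 in
set_option maxHeartbeats 4000000 in
theorem wit8 : firstM (tbl lvA 5) = 8 ∧ pow0 (tbl lvA 5) 4 = false := by decide +kernel

set_option maxRecDepth 1000000 in
set_option maxHeartbeats 4000000 in
theorem wit10 : firstM (tbl lvA 1) = 10 ∧ pow0 (tbl lvA 1) 5 = false ∧
    pow0 (tbl lvA 1) 2 = false := by decide +kernel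

set_option maxRecDepth 1000000 in
set_option maxHeartbeats 4000000 in
theorem wit12 : firstM (tbl lvA 4) = 12 ∧ pow0 (tbl lvA 4) 6 = false ∧
    pow0 (tbl lvA 4) 4 = false := by decide +kernel

end Cfsg.Agent.Helper14.A10K
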