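import Mathlib

/-!
# The element orders of the alternating group of degree ten
-/

set_option autoImplicit false

namespace Cfsg.Agent.Helper14.A10Spec

/-- the least common multiples of the multisets of numbers at least two with sum at most `s` and
with the parity `p` of the sum plus the number of elements -/
def T : ℕ → ℕ → Finset ℕ
  | 0, 0 => {1}
  | 0, 1 => {}
  | 1, 0 => {1}
  | 1, 1 => {}
  | 2, 0 => {1}
  | 2, 1 => {2}
  | 3, 0 => {1, 3}
  | 3, 1 => {2}
  | 4, 0 => {1, 2, 3}
  | 4, 1 => {2, 4}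
  | 5, 0 => {1, 2, 3, 5}
  | 5, 1 => {2, 4, 6}
  | 6, 0 => {1, 2, 3, 4, 5}
  | 6, 1 => {2, 4, 6}
  | 7, 0 => {1, 2, 3, 4, 5, 6, 7}
  | 7, 1 => {2, 4, 6, 10, 12}
  | 8, 0 => {1, 2, 3, 4, 5, 6, 7, 15}
  | 8, 1 => {2, 4, 6, 8, 10, 12}
  | 9, 0 => {1, 2, 3, 4, 5, 6, 7, 9, 10, 12, 15}
  | 9, 1 => {2, 4, 6, 8, 10, 12, 14, 20}
  | 10, 0 => {1, 2, 3, 4, 5, 6, 7, 8, 9, 10, 12, 15, 21}
  | 10, 1 => {2, 4, 6, 8, 10, 12, 14, 20, 30}
  | _, _ => ∅

theorem T_step : ∀ s < 11, ∀ a < 11, ∀ p < 2, (2 ≤ a ∧ a ≤ s) → ∀ x ∈ T (s - a) p,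
    Nat.lcm a x ∈ T s ((p + a + 1) % 2) := by
  decide

theorem one_mem_T : ∀ s < 11, 1 ∈ T s 0 := by decide

theorem lcm_mem_T (m : Multiset ℕ) : ∀ s < 11, (∀ a ∈ m, 2 ≤ a) → m.sum ≤ s →
    m.lcm ∈ T s ((m.sum + Multiset.card m) % 2) := by
  induction m using Multiset.induction with
  | empty =>
    intro s hs _ _
    rw [Multiset.lcm_zero]
    exact one_mem_T s hs
  | cons a m ih =>
    intro s hs h2 hsum
    rw [Multiset.sum_cons] at hsum
    have ha : 2 ≤ a := h2 a (Multiset.mem_cons_self a m)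
    have hm := ih (s - a) (by omega) (fun b hb => h2 b (Multiset.mem_cons_of_mem hb)) (by omega)
    rw [Multiset.lcm_cons, Multiset.sum_cons, Multiset.card_cons]
    have hstep := T_step s hs a (by omega) ((m.sum + Multiset.card m) % 2)
      (Nat.mod_lt _ (by norm_num)) ⟨ha, by omega⟩ _ hm
    have e : ((m.sum + Multiset.card m) % 2 + a + 1) % 2 = (a + m.sum + (Multiset.card m + 1)) % 2 := by
      omega
    rw [e] at hstep
    exact hstep

/-- the set of the element orders -/
def spec : Finset ℕ := {1, 2, 3, 4, 5, 6, 7, 8, 9, 10, 12, 15, 21}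

/-- the element orders of the alternating group of degree ten -/
theorem orderOf_mem (σ : alternatingGroup (Fin 10)) : orderOf σ ∈ spec := by
  rw [← Subgroup.orderOf_coe, ← Equiv.Perm.lcm_cycleType]
  have hsign : Equiv.Perm.sign σ.1 = 1 := Equiv.Perm.mem_alternatingGroup.mp σ.2
  rw [Equiv.Perm.sign_of_cycleType] at hsign
  have heven : Even (σ.1.cycleType.sum + Multiset.card σ.1.cycleType) :=
    (neg_one_pow_eq_one_iff_even (by decide)).mp hsign
  have h := lcm_mem_T σ.1.cycleType 10 (by norm_num)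
    (fun a ha => Equiv.Perm.two_le_of_mem_cycleType ha)
    (by
      rw [Equiv.Perm.sum_cycleType]
      calc σ.1.support.card ≤ (Finset.univ : Finset (Fin 10)).card :=
            Finset.card_le_card (Finset.subset_univ _)
        _ = 10 := by simp)
  rw [Nat.even_iff.mp heven] at h
  exact h

/-- divisors of element orders are element orders -/
theorem exists_orderOf_of_dvd {M : Type*} [Monoid M] {n d : ℕ} (h : ∃ g : M, orderOf g = n)
    (hn : n ≠ 0) (hd : d ∣ n) : ∃ g : M, orderOf g = d := by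
  obtain ⟨g, ho⟩ := h
  have hd0 : d ≠ 0 := by
    rintro rfl
    exact hn (Nat.eq_zero_of_zero_dvd hd)
  have hq : n / d ≠ 0 := by
    obtain ⟨k, rfl⟩ := hd
    rw [Nat.mul_div_cancel_left k (Nat.pos_of_ne_zero hd0)]
    rintro rfl
    exact hn (Nat.mul_zero d)
  refine ⟨g ^ (n / d), ?_⟩
  rw [orderOf_pow_of_dvd hq (by rw [ho]; exact Nat.div_dvd_of_dvd hd), ho]
  exact Nat.div_div_self hd hn

theorem exists_of_cycleType (m : Multiset ℕ) (n : ℕ) (hs : m.sum ≤ 10) (h2 : ∀ a ∈ m, 2 ≤ a)
    (hev : Even (m.sum + Multiset.card m)) (hn : m.lcm = n) :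
    ∃ g : alternatingGroup (Fin 10), orderOf g = n := by
  obtain ⟨g, hg⟩ := (Equiv.Perm.exists_with_cycleType_iff (α := Fin 10) (m := m)).mpr
    ⟨by simpa using hs, h2⟩
  have hmem : g ∈ alternatingGroup (Fin 10) := by
    rw [Equiv.Perm.mem_alternatingGroup, Equiv.Perm.sign_of_cycleType, hg]
    exact hev.neg_one_pow
  refine ⟨⟨g, hmem⟩, ?_⟩
  rw [← Subgroup.orderOf_coe]
  show orderOf g = n
  rw [← Equiv.Perm.lcm_cycleType, hg, hn]

theorem cases_of_mem : ∀ m ∈ spec, m ∣ 8 ∨ m ∣ 9 ∨ m ∣ 10 ∨ m ∣ 12 ∨ m ∣ 15 ∨ m ∣ 21 := by decide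

/-- the set of the element orders of the alternating group of degree ten -/
theorem range_orderOf : Set.range (orderOf : alternatingGroup (Fin 10) → ℕ) = {m | m ∈ spec} := by
  ext m
  constructor
  · rintro ⟨g, rfl⟩
    exact orderOf_mem g
  · intro hm
    have h8 : ∃ g : alternatingGroup (Fin 10), orderOf g = 8 :=
      exists_of_cycleType {8, 2} 8 (by decide) (by decide) (by decide) (by decide)
    have h9 : ∃ g : alternatingGroup (Fin 10), orderOf g = 9 :=
      exists_of_cycleType {9} 9 (by decide) (by decide) (by decide) (by decide)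
    have h10 : ∃ g : alternatingGroup (Fin 10), orderOf g = 10 :=
      exists_of_cycleType {5, 2, 2} 10 (by decide) (by decide) (by decide) (by decide)
    have h12 : ∃ g : alternatingGroup (Fin 10), orderOf g = 12 :=
      exists_of_cycleType {4, 3, 2} 12 (by decide) (by decide) (by decide) (by decide)
    have h15 : ∃ g : alternatingGroup (Fin 10), orderOf g = 15 :=
      exists_of_cycleType {5, 3} 15 (by decide) (by decide) (by decide) (by decide)
    have h21 : ∃ g : alternatingGroup (Fin 10), orderOf g = 21 :=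
      exists_of_cycleType {7, 3} 21 (by decide) (by decide) (by decide) (by decide)
    rcases cases_of_mem m hm with h | h | h | h | h | h
    · exact exists_orderOf_of_dvd h8 (by norm_num) h
    · exact exists_orderOf_of_dvd h9 (by norm_num) h
    · exact exists_orderOf_of_dvd h10 (by norm_num) h
    · exact exists_orderOf_of_dvd h12 (by norm_num) h
    · exact exists_orderOf_of_dvd h15 (by norm_num) h
    · exact exists_orderOf_of_dvd h21 (by norm_num) h

end Cfsg.Agent.Helper14.A10Spec
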