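import Cfsg.Agent.Helper14.A10C
import Cfsg.Agent.Helper14.A10Spec
import Cfsg.Agent.Helper17.SolvRad

/-!
# Arbitrarily large groups with the element orders of the alternating group of degree ten

A group `H` of order 240 (a double cover of the symmetric group of degree five with generalised
quaternion Sylow 2-subgroups) acts on the functions from `H` to the integers modulo 21.  A suitable
invariant subgroup `V` of functions gives a split extension `V ⋊ H` with the element orders of the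
alternating group of degree ten (Mazurov).
-/

set_option autoImplicit false
set_option maxRecDepth 100000

namespace Cfsg.Agent.Helper14.A10K

open Cfsg.Agent.Helper14.PermChainN

/-- the permutations of 240 points -/
abbrev Pm240 : Type := Equiv.Perm (Fin 240)

/-- the functions on 240 points -/
abbrev Fn : Type := Fin 240 → ZMod 21

/-- the functions on 240 points, multiplicatively -/
abbrev NN : Type := Multiplicative Fn

theorem nn_ext {a b : NN} (h : ∀ x, Multiplicative.toAdd a x = Multiplicative.toAdd b x) : a = b := by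
  apply Multiplicative.toAdd.injective
  funext x
  exact h x

/-- the action of a permutation on the functions -/
def act (g : Pm240) : MulAut NN where
  toFun f := Multiplicative.ofAdd fun x => (Multiplicative.toAdd f) (g⁻¹ x)
  invFun f := Multiplicative.ofAdd fun x => (Multiplicative.toAdd f) (g x)
  left_inv f := by
    apply nn_ext
    intro x
    show Multiplicative.toAdd f (g⁻¹ (g x)) = Multiplicative.toAdd f x
    exact congrArg _ (Equiv.symm_apply_apply g x)
  right_inv f := by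
    apply nn_ext
    intro x
    show Multiplicative.toAdd f (g (g⁻¹ x)) = Multiplicative.toAdd f x
    exact congrArg _ (Equiv.apply_symm_apply g x)
  map_mul' _ _ := rfl

theorem act_apply (g : Pm240) (f : NN) (x : Fin 240) :
    Multiplicative.toAdd (act g f) x = Multiplicative.toAdd f (g⁻¹ x) := rfl

/-- the action as a homomorphism -/
def actHom : Pm240 →* MulAut NN where
  toFun := act
  map_one' := by
    apply MulEquiv.ext
    intro f
    apply nn_ext
    intro x
    rfl
  map_mul' g h := by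
    apply MulEquiv.ext
    intro f
    apply nn_ext
    intro x
    show Multiplicative.toAdd f ((g * h)⁻¹ x) = Multiplicative.toAdd f (h⁻¹ (g⁻¹ x))
    rw [mul_inv_rev]
    rfl

theorem actHom_apply (g : Pm240) (f : NN) (x : Fin 240) :
    Multiplicative.toAdd (actHom g f) x = Multiplicative.toAdd f (g⁻¹ x) := rfl

/-- the big semidirect product -/
abbrev KK : Type := NN ⋊[actHom] Pm240

theorem pow_right (a : KK) (k : ℕ) : (a ^ k).right = a.right ^ k := by
  show SemidirectProduct.rightHom (a ^ k) = _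
  rw [map_pow]
  rfl

theorem pow_left (a : KK) (k : ℕ) (x : Fin 240) :
    Multiplicative.toAdd (a ^ k).left x =
      ∑ i ∈ Finset.range k, Multiplicative.toAdd a.left ((a.right ^ i)⁻¹ x) := by
  induction k with
  | zero => rfl
  | succ k ih =>
    rw [pow_succ, SemidirectProduct.mul_left, Finset.sum_range_succ, ← ih, pow_right]
    rfl

/-! ### the exponent attached to a permutation -/

open Classical in
/-- the exponent attached to a permutation -/
noncomputable def Mof (g : Pm240) : ℕ :=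
  if g ^ 1 = 1 then 21 else if g ^ 8 = 1 then 8 else if g ^ 9 = 1 then 9 else
  if g ^ 15 = 1 then 15 else if g ^ 12 = 1 then 12 else if g ^ 10 = 1 then 10 else 0

theorem Mof_conj (h g : Pm240) : Mof (h * g * h⁻¹) = Mof g := by
  unfold Mof
  simp only [conj_pow, conj_eq_one_iff]

theorem Mof_inv (g : Pm240) : Mof g⁻¹ = Mof g := by
  unfold Mof
  simp only [inv_pow, inv_eq_one]

theorem pow_Mof (g : Pm240) : g ^ Mof g = 1 := by
  unfold Mof
  split_ifs with h1 h2 h3 h4 h5 h6
  · rw [pow_one] at h1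
    rw [h1, one_pow]
  · exact h2
  · exact h3
  · exact h4
  · exact h5
  · exact h6
  · exact pow_zero g

/-! ### the group of order 240 -/

/-- the group of order 240 -/
noncomputable def G0 : Subgroup Pm240 := Grp 240 lvA.gens

theorem hgoodA : ∀ L ∈ [lvA], ∀ y ∈ L.gens, goodB 240 y = true := by
  intro L hL y hy
  rw [List.mem_singleton] at hL
  subst hL
  exact List.all_eq_true.mp gensA_good y hy

theorem chainA : Nat.card (Grp 240 (gensOf [lvA])) = ([lvA].map fun L => L.orb.length).prod ∧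
    (∀ p, pathValid [lvA] p = true → ∃ g ∈ Grp 240 (gensOf [lvA]), Rep (pathLook [lvA] p) g) ∧
    (∀ g ∈ Grp 240 (gensOf [lvA]), ∃ p, pathValid [lvA] p = true ∧ Rep (pathLook [lvA] p) g) ∧
    (∀ g ∈ Grp 240 (gensOf [lvA]), FixBase [lvA] g → g = 1) :=
  chain_sound [lvA] hgoodA chainA_ok

theorem exists_rep {g : Pm240} (hg : g ∈ G0) : ∃ β ∈ lvA.orb, Rep (look (tbl lvA β)) g := by
  obtain ⟨p, hp, hrep⟩ := chainA.2.2.1 g hg
  match p, hp, hrep with
  | [β], hp, hrep =>
    simp only [pathValid, List.contains_iff_mem, Bool.and_true] at hp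
    exact ⟨β, hp, hrep⟩
  | [], hp, _ => simp [pathValid] at hp
  | _ :: _ :: _, hp, _ => simp [pathValid] at hp

theorem exists_of_mem {β : ℕ} (hβ : lvA.orb.contains β = true) :
    ∃ g ∈ G0, Rep (look (tbl lvA β)) g := by
  obtain ⟨g, hg, hrep⟩ := chainA.2.1 [β] (by
    simp only [pathValid, Bool.and_true]
    exact hβ)
  exact ⟨g, hg, hrep⟩

theorem rep_iterIn {g : Pm240} {t : ℕ} (h : Rep (look t) g) (k : ℕ) : Rep (iterIn t k) (g ^ k) := by
  induction k with
  | zero => exact rep_congr rep_one (fun _ _ => rfl)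
  | succ k ih =>
    rw [pow_succ]
    exact rep_congr (rep_mul ih h) (fun _ _ => rfl)

theorem lvA_b : lvA.b = 0 := rfl

theorem eq_one_of_fix {g : Pm240} (hg : g ∈ G0) (h : g ⟨0, by norm_num⟩ = ⟨0, by norm_num⟩) :
    g = 1 := by
  apply chainA.2.2.2 g hg
  intro L hL hb
  rw [List.mem_singleton] at hL
  subst hL
  exact h

theorem pow_eq_one_iff {g : Pm240} (hg : g ∈ G0) {t : ℕ} (h : Rep (look t) g) (k : ℕ) :
    g ^ k = 1 ↔ pow0 t k = true := by
  constructor
  · intro e
    have := rep_iterIn h k ⟨0, by norm_num⟩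
    rw [e] at this
    show Nat.beq (iterIn t k 0) 0 = true
    rw [← this]
    exact Nat.beq_refl _
  · intro hp
    apply eq_one_of_fix (G0.pow_mem hg k)
    apply Fin.ext
    rw [rep_iterIn h k ⟨0, by norm_num⟩]
    exact Nat.eq_of_beq_eq_true hp

theorem Mof_eq_firstM {g : Pm240} (hg : g ∈ G0) {t : ℕ} (h : Rep (look t) g) :
    Mof g = firstM t := by
  unfold Mof firstM
  simp only [pow_eq_one_iff hg h]

theorem orb_lt' {β : ℕ} (hβ : β ∈ lvA.orb) : β < 240 :=
  of_decide_eq_true (List.all_eq_true.mp orb_lt β hβ)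

theorem elemChk_of_mem {β : ℕ} (hβ : β ∈ lvA.orb) :
    firstM (tbl lvA β) ∈ expos ∧ normChk (tbl lvA β) (firstM (tbl lvA β)) = true := by
  have h := elemChk_ok (orb_lt' hβ)
  unfold elemChk at h
  rw [List.any_eq_true] at h
  obtain ⟨M, hM, hc⟩ := h
  rw [Bool.and_eq_true] at hc
  have e : firstM (tbl lvA β) = M := Nat.eq_of_beq_eq_true hc.1
  rw [e]
  exact ⟨hM, hc.2⟩

theorem Mof_mem_expos {g : Pm240} (hg : g ∈ G0) : Mof g ∈ expos := by
  obtain ⟨β, hβ, hrep⟩ := exists_rep hg
  rw [Mof_eq_firstM hg hrep]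
  exact (elemChk_of_mem hβ).1

/-! ### the invariant subgroup of functions -/

/-- the invariant subgroup of functions -/
def V : AddSubgroup Fn where
  carrier := {v | ∀ g ∈ G0, ∀ x, ∑ i ∈ Finset.range (Mof g), v ((g ^ i)⁻¹ x) = 0}
  zero_mem' := by
    intro g _ x
    simp
  add_mem' := by
    intro a b ha hb g hg x
    simp only [Pi.add_apply, Finset.sum_add_distrib, ha g hg x, hb g hg x, add_zero]
  neg_mem' := by
    intro a ha g hg x
    simp only [Pi.neg_apply, Finset.sum_neg_distrib, ha g hg x, neg_zero]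

theorem V_act {v : Fn} (hv : v ∈ V) {h : Pm240} (hh : h ∈ G0) : (fun x => v (h⁻¹ x)) ∈ V := by
  intro g hg x
  have key := hv (h⁻¹ * g * h⁻¹⁻¹)
    (G0.mul_mem (G0.mul_mem (G0.inv_mem hh) hg) (G0.inv_mem (G0.inv_mem hh))) (h⁻¹ x)
  rw [Mof_conj] at key
  rw [← key]
  apply Finset.sum_congr rfl
  intro i _
  show v (h⁻¹ ((g ^ i)⁻¹ x)) = v (((h⁻¹ * g * h⁻¹⁻¹) ^ i)⁻¹ (h⁻¹ x))
  rw [conj_pow]
  simp [mul_inv_rev, Equiv.Perm.mul_apply]

/-- the values of the function -/
def f0 : Fn := fun x => ((look fTab x.1 : ℕ) : ZMod 21)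

theorem nsum_eq (t : ℕ) : ∀ (k x acc : ℕ),
    nsum t k x acc = acc + ∑ i ∈ Finset.range k, look fTab (iterIn t i x) := by
  intro k
  induction k with
  | zero => intro x acc; simp [nsum]
  | succ k ih =>
    intro x acc
    rw [Finset.sum_range_succ']
    show nsum t k (look t x) (acc + look fTab x) = _
    rw [ih]
    show acc + look fTab x + ∑ i ∈ Finset.range k, look fTab (iterIn t i (look t x)) =
      acc + (∑ i ∈ Finset.range k, look fTab (iterIn t i (look t x)) + look fTab x)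
    ring

theorem sum_f0 {g : Pm240} {t : ℕ} (h : Rep (look t) g) (M : ℕ) (x : Fin 240) :
    ∑ i ∈ Finset.range M, f0 ((g ^ i) x) = ((nsum t M x.1 0 : ℕ) : ZMod 21) := by
  rw [nsum_eq, zero_add, Nat.cast_sum]
  apply Finset.sum_congr rfl
  intro i _
  unfold f0
  rw [rep_iterIn h i x]

theorem f0_mem : f0 ∈ V := by
  intro g hg x
  obtain ⟨β, hβ, hrep⟩ := exists_rep (G0.inv_mem hg)
  have e : ∀ i, (g ^ i)⁻¹ = g⁻¹ ^ i := fun i => (inv_pow g i).symm
  simp only [e]
  rw [← Mof_inv, sum_f0 hrep, Mof_eq_firstM (G0.inv_mem hg) hrep]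
  have hc := (elemChk_of_mem hβ).2
  have h1 := Nat.eq_of_beq_eq_true (allN_spec hc x.1 x.2)
  rw [ZMod.natCast_eq_zero_iff]
  exact Nat.dvd_of_mod_eq_zero h1

/-! ### the group -/

/-- the group: a split extension of the invariant subgroup of functions by the group of order 240 -/
def K : Subgroup KK where
  carrier := {a | Multiplicative.toAdd a.left ∈ V ∧ a.right ∈ G0}
  one_mem' := ⟨V.zero_mem, G0.one_mem⟩
  mul_mem' := by
    rintro a b ⟨ha1, ha2⟩ ⟨hb1, hb2⟩
    exact ⟨V.add_mem ha1 (V_act hb1 ha2), G0.mul_mem ha2 hb2⟩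
  inv_mem' := by
    rintro a ⟨ha1, ha2⟩
    exact ⟨V_act (V.neg_mem ha1) (G0.inv_mem ha2), G0.inv_mem ha2⟩

theorem pow_Mof_K {a : KK} (ha : a ∈ K) : a ^ Mof a.right = 1 := by
  apply SemidirectProduct.ext
  · apply nn_ext
    intro x
    rw [pow_left]
    exact ha.1 a.right ha.2 x
  · rw [pow_right]
    exact pow_Mof a.right

theorem dvd_cases : ∀ M ∈ expos, ∀ d < 22, d ∣ M → d ∈ A10Spec.spec := by decide

theorem expos_le : ∀ M ∈ expos, 0 < M ∧ M < 22 := by decide

theorem orderOf_mem_spec {a : KK} (ha : a ∈ K) : orderOf a ∈ A10Spec.spec := by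
  have h1 : orderOf a ∣ Mof a.right := orderOf_dvd_of_pow_eq_one (pow_Mof_K ha)
  have h2 := Mof_mem_expos ha.2
  have h3 := expos_le _ h2
  exact dvd_cases _ h2 _ (lt_of_le_of_lt (Nat.le_of_dvd h3.1 h1) h3.2) h1

/-! ### elements of the largest orders -/

theorem orderOf_eq_of {M : Type*} [Monoid M] {a : M} {n : ℕ} (hn : 0 < n) (h1 : a ^ n = 1)
    (h2 : ∀ p : ℕ, p.Prime → p ∣ n → a ^ (n / p) ≠ 1) : orderOf a = n :=
  orderOf_eq_of_pow_and_pow_div_prime hn h1 h2

theorem prime_cases {p a b : ℕ} (hp : p.Prime) (ha : a.Prime) (hb : b.Prime) (hd : p ∣ a * b) :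
    p = a ∨ p = b := by
  rcases (Nat.Prime.dvd_mul hp).1 hd with h | h
  · exact Or.inl ((Nat.prime_dvd_prime_iff_eq hp ha).1 h)
  · exact Or.inr ((Nat.prime_dvd_prime_iff_eq hp hb).1 h)

theorem prime_pow_case {p a k : ℕ} (hp : p.Prime) (ha : a.Prime) (hd : p ∣ a ^ k) : p = a :=
  (Nat.prime_dvd_prime_iff_eq hp ha).1 (hp.dvd_of_dvd_pow hd)

/-- an element of the group from a function and a permutation -/
def mk (v : Fn) (g : Pm240) : KK := ⟨Multiplicative.ofAdd v, g⟩

theorem mk_mem {v : Fn} (hv : v ∈ V) {g : Pm240} (hg : g ∈ G0) : mk v g ∈ K := ⟨hv, hg⟩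

theorem ne_one_of_right {a : KK} {k : ℕ} (h : a.right ^ k ≠ 1) : a ^ k ≠ 1 := by
  intro e
  apply h
  rw [← pow_right, e]
  rfl

theorem ne_one_of_left {a : KK} {k : ℕ} (x : Fin 240)
    (h : ∑ i ∈ Finset.range k, Multiplicative.toAdd a.left ((a.right ^ i)⁻¹ x) ≠ 0) : a ^ k ≠ 1 := by
  intro e
  apply h
  rw [← pow_left, e]
  rfl

theorem exists_order21 : ∃ a ∈ K, orderOf a = 21 := by
  refine ⟨mk f0 1, mk_mem f0_mem G0.one_mem, ?_⟩
  have hM : Mof (1 : Pm240) = 21 := by
    unfold Mof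
    simp
  apply orderOf_eq_of (by norm_num)
  · have := pow_Mof_K (mk_mem f0_mem G0.one_mem)
    rw [show (mk f0 1).right = 1 from rfl, hM] at this
    exact this
  · intro p hp hd
    rcases prime_cases hp (by norm_num : Nat.Prime 3) (by norm_num : Nat.Prime 7) hd with rfl | rfl
    · apply ne_one_of_left ⟨1, by norm_num⟩
      show ∑ i ∈ Finset.range (21 / 3), f0 (((1 : Pm240) ^ i)⁻¹ ⟨1, by norm_num⟩) ≠ 0
      simp only [one_pow, inv_one, Equiv.Perm.one_apply, Finset.sum_const, Finset.card_range]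
      unfold f0
      rw [wit_f.1]
      decide
    · apply ne_one_of_left ⟨0, by norm_num⟩
      show ∑ i ∈ Finset.range (21 / 7), f0 (((1 : Pm240) ^ i)⁻¹ ⟨0, by norm_num⟩) ≠ 0
      simp only [one_pow, inv_one, Equiv.Perm.one_apply, Finset.sum_const, Finset.card_range]
      unfold f0
      rw [wit_f.2]
      decide

theorem wit_mem (β : ℕ) (h : lvA.orb.contains β = true) : ∃ g ∈ G0, Rep (look (tbl lvA β)) g :=
  exists_of_mem h

theorem wv : lvA.orb.contains 16 = true ∧ lvA.orb.contains 2 = true ∧ lvA.orb.contains 5 = true ∧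
    lvA.orb.contains 1 = true ∧ lvA.orb.contains 4 = true := by
  have := wit_valid
  simp only [Bool.and_eq_true] at this
  obtain ⟨⟨⟨⟨h1, h2⟩, h3⟩, h4⟩, h5⟩ := this
  exact ⟨h1, h2, h3, h4, h5⟩

theorem pow_mk_inv {g : Pm240} {t : ℕ} (hg : g ∈ G0) (hrep : Rep (look t) g) (v : Fn) (hv : v ∈ V) :
    mk v g⁻¹ ^ firstM t = 1 := by
  have := pow_Mof_K (mk_mem hv (G0.inv_mem hg))
  rw [show (mk v g⁻¹).right = g⁻¹ from rfl, Mof_inv, Mof_eq_firstM hg hrep] at this
  exact this

theorem inv_pow_ne {g : Pm240} (hg : g ∈ G0) {t : ℕ} (hrep : Rep (look t) g) {k : ℕ}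
    (h : pow0 t k = false) : g⁻¹ ^ k ≠ 1 := by
  rw [inv_pow]
  intro e
  rw [inv_eq_one, pow_eq_one_iff hg hrep, h] at e
  exact Bool.false_ne_true e

theorem left_sum_ne {g : Pm240} {t : ℕ} (hrep : Rep (look t) g) (k : ℕ) (x : Fin 240) {r : ℕ}
    (hr : nsum t k x.1 0 % 21 = r) (hr0 : r ≠ 0) :
    ∑ i ∈ Finset.range k, Multiplicative.toAdd (mk f0 g⁻¹).left (((mk f0 g⁻¹).right ^ i)⁻¹ x) ≠ 0 := by
  show ∑ i ∈ Finset.range k, f0 ((g⁻¹ ^ i)⁻¹ x) ≠ 0
  have e : ∀ i, (g⁻¹ ^ i)⁻¹ = g ^ i := fun i => by rw [inv_pow, inv_inv]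
  simp only [e]
  rw [sum_f0 hrep]
  intro h0
  rw [ZMod.natCast_eq_zero_iff] at h0
  have := Nat.mod_eq_zero_of_dvd h0
  omega

theorem exists_order9 : ∃ a ∈ K, orderOf a = 9 := by
  obtain ⟨g, hg, hrep⟩ := wit_mem 16 wv.1
  refine ⟨mk f0 g⁻¹, mk_mem f0_mem (G0.inv_mem hg), ?_⟩
  apply orderOf_eq_of (by norm_num)
  · have := pow_mk_inv hg hrep f0 f0_mem
    rw [wit3.1] at this
    exact this
  · intro p hp hd
    have := prime_pow_case hp (by norm_num : Nat.Prime 3) (show p ∣ 3 ^ 2 from hd)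
    subst this
    exact ne_one_of_left ⟨1, by norm_num⟩ (left_sum_ne hrep (9 / 3) ⟨1, by norm_num⟩ wit3.2 (by norm_num))

theorem exists_order15 : ∃ a ∈ K, orderOf a = 15 := by
  obtain ⟨g, hg, hrep⟩ := wit_mem 2 wv.2.1
  refine ⟨mk f0 g⁻¹, mk_mem f0_mem (G0.inv_mem hg), ?_⟩
  apply orderOf_eq_of (by norm_num)
  · have := pow_mk_inv hg hrep f0 f0_mem
    rw [wit5.1] at this
    exact this
  · intro p hp hd
    rcases prime_cases hp (by norm_num : Nat.Prime 3) (by norm_num : Nat.Prime 5) hd with rfl | rfl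
    · exact ne_one_of_left ⟨3, by norm_num⟩
        (left_sum_ne hrep (15 / 3) ⟨3, by norm_num⟩ wit5.2.1 (by norm_num))
    · exact ne_one_of_right (inv_pow_ne hg hrep wit5.2.2)

theorem exists_order8 : ∃ a ∈ K, orderOf a = 8 := by
  obtain ⟨g, hg, hrep⟩ := wit_mem 5 wv.2.2.1
  refine ⟨mk 0 g⁻¹, mk_mem V.zero_mem (G0.inv_mem hg), ?_⟩
  apply orderOf_eq_of (by norm_num)
  · have := pow_mk_inv hg hrep 0 V.zero_mem
    rw [wit8.1] at this
    exact this
  · intro p hp hd
    have := prime_pow_case hp Nat.prime_two (show p ∣ 2 ^ 3 from hd)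
    subst this
    exact ne_one_of_right (inv_pow_ne hg hrep wit8.2)

theorem exists_order10 : ∃ a ∈ K, orderOf a = 10 := by
  obtain ⟨g, hg, hrep⟩ := wit_mem 1 wv.2.2.2.1
  refine ⟨mk 0 g⁻¹, mk_mem V.zero_mem (G0.inv_mem hg), ?_⟩
  apply orderOf_eq_of (by norm_num)
  · have := pow_mk_inv hg hrep 0 V.zero_mem
    rw [wit10.1] at this
    exact this
  · intro p hp hd
    rcases prime_cases hp Nat.prime_two (by norm_num : Nat.Prime 5) hd with rfl | rfl
    · exact ne_one_of_right (inv_pow_ne hg hrep wit10.2.1)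
    · exact ne_one_of_right (inv_pow_ne hg hrep wit10.2.2)

theorem exists_order12 : ∃ a ∈ K, orderOf a = 12 := by
  obtain ⟨g, hg, hrep⟩ := wit_mem 4 wv.2.2.2.2
  refine ⟨mk 0 g⁻¹, mk_mem V.zero_mem (G0.inv_mem hg), ?_⟩
  apply orderOf_eq_of (by norm_num)
  · have := pow_mk_inv hg hrep 0 V.zero_mem
    rw [wit12.1] at this
    exact this
  · intro p hp hd
    have hd' : p ∣ 2 * 2 * 3 := hd
    rcases (Nat.Prime.dvd_mul hp).1 hd' with h | h
    · have := prime_pow_case hp Nat.prime_two (show p ∣ 2 ^ 2 from h)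
      subst this
      exact ne_one_of_right (inv_pow_ne hg hrep wit12.2.1)
    · have := (Nat.prime_dvd_prime_iff_eq hp (by norm_num : Nat.Prime 3)).1 h
      subst this
      exact ne_one_of_right (inv_pow_ne hg hrep wit12.2.2)

/-- the set of the element orders of the group -/
theorem range_orderOf_K : Set.range (orderOf : K → ℕ) = {m | m ∈ A10Spec.spec} := by
  ext m
  constructor
  · rintro ⟨a, rfl⟩
    rw [← Subgroup.orderOf_coe]
    exact orderOf_mem_spec a.2
  · intro hm
    have lift : ∀ n, (∃ a ∈ K, orderOf a = n) → ∃ a : K, orderOf a = n := by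
      rintro n ⟨a, ha, rfl⟩
      exact ⟨⟨a, ha⟩, Subgroup.orderOf_mk a ha⟩
    rcases A10Spec.cases_of_mem m hm with h | h | h | h | h | h
    · exact A10Spec.exists_orderOf_of_dvd (lift 8 exists_order8) (by norm_num) h
    · exact A10Spec.exists_orderOf_of_dvd (lift 9 exists_order9) (by norm_num) h
    · exact A10Spec.exists_orderOf_of_dvd (lift 10 exists_order10) (by norm_num) h
    · exact A10Spec.exists_orderOf_of_dvd (lift 12 exists_order12) (by norm_num) h
    · exact A10Spec.exists_orderOf_of_dvd (lift 15 exists_order15) (by norm_num) h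
    · exact A10Spec.exists_orderOf_of_dvd (lift 21 exists_order21) (by norm_num) h

end Cfsg.Agent.Helper14.A10K
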