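import Cfsg.Agent.Helper14.A10K

/-!
# Arbitrarily large groups with the element orders of the alternating group of degree ten: the
normal elementary abelian subgroup
-/

set_option autoImplicit false
set_option maxRecDepth 100000

namespace Cfsg.Agent.Helper14.A10K

open Cfsg.Agent.Helper14.PermChainN

/-- the normal elementary abelian 7-subgroup -/
def K7 : Subgroup K where
  carrier := {a | a.1.right = 1 ∧ ∀ x, (7 : ZMod 21) * Multiplicative.toAdd a.1.left x = 0}
  one_mem' := ⟨rfl, fun x => mul_zero _⟩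
  mul_mem' := by
    rintro a b ⟨ha1, ha2⟩ ⟨hb1, hb2⟩
    refine ⟨?_, ?_⟩
    · show a.1.right * b.1.right = 1
      rw [ha1, hb1, one_mul]
    · intro x
      show (7 : ZMod 21) * (Multiplicative.toAdd a.1.left x +
        Multiplicative.toAdd b.1.left (a.1.right⁻¹ x)) = 0
      rw [mul_add, ha2, hb2, add_zero]
  inv_mem' := by
    rintro a ⟨ha1, ha2⟩
    refine ⟨?_, ?_⟩
    · show a.1.right⁻¹ = 1
      rw [ha1, inv_one]
    · intro x
      show (7 : ZMod 21) * (-Multiplicative.toAdd a.1.left ((a.1.right⁻¹)⁻¹ x)) = 0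
      rw [mul_neg, ha2, neg_zero]

theorem conj_right (g n : KK) (hn : n.right = 1) : (g * n * g⁻¹).right = 1 := by
  show g.right * n.right * g.right⁻¹ = 1
  rw [hn, mul_one, mul_inv_cancel]

theorem conj_left (g n : KK) (hn : n.right = 1) (x : Fin 240) :
    Multiplicative.toAdd (g * n * g⁻¹).left x = Multiplicative.toAdd n.left (g.right⁻¹ x) := by
  show Multiplicative.toAdd g.left x + Multiplicative.toAdd n.left (g.right⁻¹ x) +
    (-Multiplicative.toAdd g.left ((g.right⁻¹)⁻¹ ((g.right * n.right)⁻¹ x))) = _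
  rw [hn, mul_one, inv_inv]
  have e : g.right (g.right⁻¹ x) = x := Equiv.apply_symm_apply g.right x
  rw [e]
  abel

instance K7_normal : K7.Normal := by
  constructor
  rintro n ⟨hn1, hn2⟩ g
  refine ⟨conj_right g.1 n.1 hn1, ?_⟩
  intro x
  show (7 : ZMod 21) * Multiplicative.toAdd (g.1 * n.1 * g.1⁻¹).left x = 0
  rw [conj_left g.1 n.1 hn1]
  exact hn2 _

theorem K7_ne_bot : K7 ≠ ⊥ := by
  intro h
  have hv : (fun x => (3 : ZMod 21) * f0 x) ∈ V := by
    have := V.nsmul_mem f0_mem 3
    convert this using 1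
    funext x
    simp [nsmul_eq_mul]
  have hmem : (⟨mk (fun x => (3 : ZMod 21) * f0 x) 1, mk_mem hv G0.one_mem⟩ : K) ∈ K7 := by
    refine ⟨rfl, ?_⟩
    intro x
    show (7 : ZMod 21) * ((3 : ZMod 21) * f0 x) = 0
    rw [← mul_assoc]
    have : (7 : ZMod 21) * 3 = 0 := by decide
    rw [this, zero_mul]
  rw [h, Subgroup.mem_bot] at hmem
  have h1 := congrArg (fun a : K => Multiplicative.toAdd a.1.left ⟨0, by norm_num⟩) hmem
  have h2 : (3 : ZMod 21) * f0 ⟨0, by norm_num⟩ = 0 := h1
  unfold f0 at h2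
  rw [wit_f.2] at h2
  revert h2
  decide

theorem K7_exp : ∀ a : K7, a ^ 7 = 1 := by
  rintro ⟨a, ha1, ha2⟩
  apply Subtype.ext
  apply Subtype.ext
  show a.1 ^ 7 = 1
  apply SemidirectProduct.ext
  · apply nn_ext
    intro x
    rw [pow_left]
    simp only [ha1, one_pow, inv_one, Equiv.Perm.one_apply, Finset.sum_const, Finset.card_range,
      nsmul_eq_mul]
    exact ha2 x
  · rw [pow_right, ha1, one_pow]
    rfl

instance KK_finite : Finite KK := Finite.of_equiv _ SemidirectProduct.equivProd.symm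

instance K_finite : Finite K := inferInstance

/-- arbitrarily large groups with the element orders of the alternating group of degree ten -/
theorem exists_large (N : ℕ) : ∃ (H : Type) (_ : Group H) (_ : Fintype H),
    N < Fintype.card H ∧ Set.range (orderOf : H → ℕ) = {m | m ∈ A10Spec.spec} := by
  obtain ⟨G', hG', hF', hcard, hsp⟩ := Cfsg.Agent.Helper17.exists_large_isospectral N (↥K)
    K7 K7_normal K7_ne_bot 7 (by norm_num) K7_exp
  obtain ⟨H, hH, hFH, hcardH, hspH⟩ := Cfsg.Agent.Helper17.exists_small_model G'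
  refine ⟨H, hH, hFH, ?_, by rw [hspH, hsp, range_orderOf_K]⟩
  rw [hcardH]
  calc N < 2 ^ N := Nat.lt_two_pow_self
    _ ≤ 2 ^ N * Nat.card K := Nat.le_mul_of_pos_right _ Nat.card_pos
    _ ≤ Nat.card G' := hcard

end Cfsg.Agent.Helper14.A10K
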