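import Cfsg.Agent.Helper14.A8D

/-!
# Checks for the split extension of an elementary abelian group of order 64 by the alternating group of degree eight
-/

set_option autoImplicit false

namespace Cfsg.Agent.Helper14.A8V

open Cfsg.Agent.Helper14.PermChainN Cfsg.Agent.Helper14.PermSpec

set_option maxRecDepth 1000000 in
set_option maxHeartbeats 4000000 in
theorem gens_good : levels.all (fun L => L.gens.all (goodB 64)) = true := by decide +kernel

set_option maxRecDepth 1000000 in
set_option maxHeartbeats 4000000 in
theorem chain_ok : chainOK 64 levels = true := by decide +kernel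

set_option maxRecDepth 1000000 in
set_option maxHeartbeats 4000000 in
theorem forest_ok : forestOK 64 lv1.gens forest reps = true := by decide +kernel

set_option maxRecDepth 1000000 in
set_option maxHeartbeats 4000000 in
theorem chunks_ok : lv1.orb = chunks.flatten := by decide +kernel

set_option maxRecDepth 1000000 in
set_option maxHeartbeats 4000000 in
theorem bases_ok : levels.all (fun L => bases.contains L.b) = true := by decide +kernel

set_option maxRecDepth 1000000 in
set_option maxHeartbeats 4000000 in
theorem affChk_ok : affChk = true := by decide +kernel

set_option maxRecDepth 1000000 in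
set_option maxHeartbeats 4000000 in
theorem gens_len : lv0.gens.length = 8 := by decide +kernel

set_option maxRecDepth 1000000 in
set_option maxHeartbeats 4000000 in
theorem transChk_ok : transChk = true := by decide +kernel

set_option maxRecDepth 1000000 in
set_option maxHeartbeats 4000000 in
theorem wordOrd7 : wordOrdChk 64 lv0.gens [7] 7 [1] 1 = true := by decide +kernel

set_option maxRecDepth 1000000 in
set_option maxHeartbeats 4000000 in
theorem wordOrd8 : wordOrdChk 64 lv0.gens [0, 6, 7, 7, 6, 7, 7, 7, 7] 8 [4] 0 = true := by decide +kernel

set_option maxRecDepth 1000000 in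
set_option maxHeartbeats 4000000 in
theorem wordOrd10 : wordOrdChk 64 lv0.gens [0, 6, 7, 6, 7, 7, 7, 7, 7] 10 [5, 2] 0 = true := by decide +kernel

set_option maxRecDepth 1000000 in
set_option maxHeartbeats 4000000 in
theorem wordOrd12 : wordOrdChk 64 lv0.gens [0, 6, 7, 6, 7, 7] 12 [6, 4] 2 = true := by decide +kernel

set_option maxRecDepth 1000000 in
set_option maxHeartbeats 4000000 in
theorem wordOrd15 : wordOrdChk 64 lv0.gens [6, 7, 7] 15 [5, 3] 1 = true := by decide +kernel

end Cfsg.Agent.Helper14.A8V
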