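import Cfsg.Agent.Helper14.A8D

/-!
# Check of the element orders, part 2
-/

set_option autoImplicit false

namespace Cfsg.Agent.Helper14.A8V

open Cfsg.Agent.Helper14.PermChainN Cfsg.Agent.Helper14.PermSpec

set_option maxRecDepth 1000000 in
set_option maxHeartbeats 4000000 in
theorem ordChk2_0 : ordChk5 7 (chunks.getD 0 []) = true := by decide +kernel

set_option maxRecDepth 1000000 in
set_option maxHeartbeats 4000000 in
theorem ordChk2_1 : ordChk5 7 (chunks.getD 1 []) = true := by decide +kernel

set_option maxRecDepth 1000000 in
set_option maxHeartbeats 4000000 in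
theorem ordChk2_2 : ordChk5 7 (chunks.getD 2 []) = true := by decide +kernel

set_option maxRecDepth 1000000 in
set_option maxHeartbeats 4000000 in
theorem ordChk2_3 : ordChk5 7 (chunks.getD 3 []) = true := by decide +kernel

set_option maxRecDepth 1000000 in
set_option maxHeartbeats 4000000 in
theorem ordChk2_4 : ordChk5 7 (chunks.getD 4 []) = true := by decide +kernel

set_option maxRecDepth 1000000 in
set_option maxHeartbeats 4000000 in
theorem ordChk2_5 : ordChk5 7 (chunks.getD 5 []) = true := by decide +kernel

set_option maxRecDepth 1000000 in
set_option maxHeartbeats 4000000 in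
theorem ordChk2_6 : ordChk5 7 (chunks.getD 6 []) = true := by decide +kernel


end Cfsg.Agent.Helper14.A8V
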