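import Cfsg.Agent.Helper14.A8C
import Cfsg.Agent.Helper14.A8O0
import Cfsg.Agent.Helper14.A8O1
import Cfsg.Agent.Helper14.A8O2

/-!
# The split extension of an elementary abelian group of order 64 by the alternating group of degree eight

The element orders of this group are 1, 2, 3, 4, 5, 6, 7, 8, 10, 12 and 15, and the translations form
a normal elementary abelian subgroup.
-/

set_option autoImplicit false
set_option maxRecDepth 100000

namespace Cfsg.Agent.Helper14.A8V

open Cfsg.Agent.Helper14.PermChainN Cfsg.Agent.Helper14.PermSpec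

attribute [local irreducible] lv0 lv1 lv2 lv3 lv4

/-- the permutations of 64 points -/
abbrev Pm64 : Type := Equiv.Perm (Fin 64)

/-- the group -/
noncomputable def H : Subgroup Pm64 := Grp 64 lv0.gens

theorem levels_eq : levels = lv0 :: rest := rfl

theorem hgood : ∀ L ∈ lv0 :: rest, ∀ y ∈ L.gens, goodB 64 y = true := by
  intro L hL y hy
  rw [← levels_eq] at hL
  exact List.all_eq_true.mp (List.all_eq_true.mp gens_good L hL) y hy

theorem hchain : chainOK 64 (lv0 :: rest) = true := chain_ok

theorem gens0_good : ∀ y ∈ lv0.gens, goodB 64 y = true := hgood lv0 (List.mem_cons_self ..)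

/-! ### the element orders -/

theorem ordChk5_0 : ∀ j < 7, ordChk5 0 (chunks.getD j []) = true := by
  intro j hj
  interval_cases j
  · exact ordChk0_0
  · exact ordChk0_1
  · exact ordChk0_2
  · exact ordChk0_3
  · exact ordChk0_4
  · exact ordChk0_5
  · exact ordChk0_6

theorem ordChk5_1 : ∀ j < 7, ordChk5 1 (chunks.getD j []) = true := by
  intro j hj
  interval_cases j
  · exact ordChk1_0
  · exact ordChk1_1
  · exact ordChk1_2
  · exact ordChk1_3
  · exact ordChk1_4
  · exact ordChk1_5
  · exact ordChk1_6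

theorem ordChk5_7 : ∀ j < 7, ordChk5 7 (chunks.getD j []) = true := by
  intro j hj
  interval_cases j
  · exact ordChk2_0
  · exact ordChk2_1
  · exact ordChk2_2
  · exact ordChk2_3
  · exact ordChk2_4
  · exact ordChk2_5
  · exact ordChk2_6

theorem mem_chunks {c : List ℕ} (hc : c ∈ chunks) : ∃ j < 7, c = chunks.getD j [] := by
  obtain ⟨j, hj, rfl⟩ := List.mem_iff_getElem.mp hc
  have hlen : chunks.length = 7 := rfl
  exact ⟨j, by rw [← hlen]; exact hj, by rw [List.getD_eq_getElem _ _ hj]⟩

theorem hchk : (reps.all fun r => allPaths (ordOK 15 allowed bases (lv0 :: rest)) rest [r]) = true := by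
  rw [List.all_eq_true]
  intro r hr
  show (lv1.orb.all fun b => lv2.orb.all fun c => lv3.orb.all fun d => lv4.orb.all fun e =>
    ordOK 15 allowed bases levels [r, b, c, d, e]) = true
  rw [List.all_eq_true]
  intro b hb
  rw [chunks_ok, List.mem_flatten] at hb
  obtain ⟨c, hc, hbc⟩ := hb
  obtain ⟨j, hj, rfl⟩ := mem_chunks hc
  have h1 : ordChk5 r (chunks.getD j []) = true := by
    simp only [reps, List.mem_cons, List.not_mem_nil, or_false] at hr
    rcases hr with rfl | rfl | rfl
    · exact ordChk5_0 j hj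
    · exact ordChk5_1 j hj
    · exact ordChk5_7 j hj
  exact List.all_eq_true.mp h1 b hbc

theorem allowed_dvd : ∀ L ∈ allowed, ∀ d < 16, d ∣ L → d ∈ allowed := by decide

theorem allowed_le : ∀ L ∈ allowed, 0 < L ∧ L < 16 := by decide

/-- the orders of the elements of the group -/
theorem orderOf_mem_allowed {g : Pm64} (hg : g ∈ H) : orderOf g ∈ allowed := by
  refine orderOf_mem_of_checks (n := 64) (L0 := lv0) (rest := rest) hgood hchain (fuel := 15)
    (allowed := allowed) (bases := bases) (reps := reps) (forest := forest) forest_ok ?_ ?_ ?_ ?_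
    hchk hg
  · decide
  · intro L hL
    rw [← levels_eq] at hL
    have := List.all_eq_true.mp bases_ok L hL
    simpa using this
  · intro L hL
    have := (allowed_le L hL).1
    omega
  · intro L hL d hd
    have h1 := allowed_le L hL
    have h2 : d ≤ L := Nat.le_of_dvd h1.1 hd
    exact allowed_dvd L hL d (by omega) hd

theorem exists_order15 : ∃ g ∈ H, orderOf g = 15 := by
  apply exists_of_wordOrdChk gens0_good (i0 := 1) (by norm_num) (by norm_num) _ wordOrd15
  intro p hp hpn
  have : p ≤ 15 := Nat.le_of_dvd (by norm_num) hpn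
  interval_cases p <;> first | (exfalso; revert hp; decide) | (exfalso; revert hpn; decide) | decide

theorem exists_order10 : ∃ g ∈ H, orderOf g = 10 := by
  apply exists_of_wordOrdChk gens0_good (i0 := 0) (by norm_num) (by norm_num) _ wordOrd10
  intro p hp hpn
  have : p ≤ 10 := Nat.le_of_dvd (by norm_num) hpn
  interval_cases p <;> first | (exfalso; revert hp; decide) | (exfalso; revert hpn; decide) | decide

theorem exists_order12 : ∃ g ∈ H, orderOf g = 12 := by
  apply exists_of_wordOrdChk gens0_good (i0 := 2) (by norm_num) (by norm_num) _ wordOrd12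
  intro p hp hpn
  have : p ≤ 12 := Nat.le_of_dvd (by norm_num) hpn
  interval_cases p <;> first | (exfalso; revert hp; decide) | (exfalso; revert hpn; decide) | decide

theorem exists_order8 : ∃ g ∈ H, orderOf g = 8 := by
  apply exists_of_wordOrdChk gens0_good (i0 := 0) (by norm_num) (by norm_num) _ wordOrd8
  intro p hp hpn
  have : p ≤ 8 := Nat.le_of_dvd (by norm_num) hpn
  interval_cases p <;> first | (exfalso; revert hp; decide) | (exfalso; revert hpn; decide) | decide

theorem exists_order7 : ∃ g ∈ H, orderOf g = 7 := by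
  apply exists_of_wordOrdChk gens0_good (i0 := 1) (by norm_num) (by norm_num) _ wordOrd7
  intro p hp hpn
  have : p ≤ 7 := Nat.le_of_dvd (by norm_num) hpn
  interval_cases p <;> first | (exfalso; revert hp; decide) | (exfalso; revert hpn; decide) | decide

theorem allowed_cases : ∀ m ∈ allowed, m ∣ 15 ∨ m ∣ 10 ∨ m ∣ 12 ∨ m ∣ 8 ∨ m ∣ 7 := by decide

/-- the set of the orders of the elements of the group -/
theorem range_orderOf_H : Set.range (orderOf : H → ℕ) = {m | m ∈ allowed} := by
  ext m
  constructor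
  · rintro ⟨g, rfl⟩
    rw [← Subgroup.orderOf_coe]
    exact orderOf_mem_allowed g.2
  · intro hm
    have key : ∃ g ∈ H, orderOf g = m := by
      rcases allowed_cases m hm with h | h | h | h | h
      · exact exists_of_dvd exists_order15 (by norm_num) h
      · exact exists_of_dvd exists_order10 (by norm_num) h
      · exact exists_of_dvd exists_order12 (by norm_num) h
      · exact exists_of_dvd exists_order8 (by norm_num) h
      · exact exists_of_dvd exists_order7 (by norm_num) h
    obtain ⟨g, hg, ho⟩ := key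
    exact ⟨⟨g, hg⟩, by rw [← ho, ← Subgroup.orderOf_coe]⟩

/-! ### the translations -/

/-- the translations -/
def V : Subgroup Pm64 where
  carrier := {g | ∃ c : ℕ, Rep (fun i => Nat.xor i c) g}
  mul_mem' := by
    rintro g g' ⟨c, hc⟩ ⟨c', hc'⟩
    refine ⟨Nat.xor c' c, rep_congr (rep_mul hc hc') (fun i _ => ?_)⟩
    exact (Nat.xor_assoc i c' c).symm
  one_mem' := ⟨0, fun i => (Nat.xor_zero i.1).symm⟩
  inv_mem' := by
    rintro g ⟨c, hc⟩
    have h1 : g * g = 1 := eq_one_of_rep (rep_mul hc hc) (fun i _ => Nat.xor_xor_cancel_right i c)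
    rw [inv_eq_of_mul_eq_one_left h1]
    exact ⟨c, hc⟩

theorem sq_eq_one_of_mem_V {g : Pm64} (hg : g ∈ V) : g ^ 2 = 1 := by
  obtain ⟨c, hc⟩ := hg
  rw [pow_two]
  exact eq_one_of_rep (rep_mul hc hc) (fun i _ => Nat.xor_xor_cancel_right i c)

theorem gen0_mem : lv0.gens.getD 0 0 ∈ lv0.gens := by
  have h : 0 < lv0.gens.length := by rw [gens_len]; norm_num
  rw [List.getD_eq_getElem _ _ h]
  exact List.getElem_mem h

theorem t0_mem_V : P 64 (lv0.gens.getD 0 0) ∈ V := by
  refine ⟨1, rep_congr (rep_P (gens0_good _ gen0_mem)) (fun i hi => ?_)⟩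
  exact (Nat.eq_of_beq_eq_true (allN_spec transChk_ok i hi)).symm

theorem t0_ne_one : P 64 (lv0.gens.getD 0 0) ≠ 1 := by
  intro h
  obtain ⟨c, hc⟩ := t0_mem_V
  have hc1 : Rep (fun i => Nat.xor i 1) (P 64 (lv0.gens.getD 0 0)) :=
    rep_congr (rep_P (gens0_good _ gen0_mem))
      (fun i hi => (Nat.eq_of_beq_eq_true (allN_spec transChk_ok i hi)).symm)
  have e := rep_apply hc1 (i := 0) (by norm_num)
  rw [h] at e
  exact absurd e (by decide)

theorem conj_mem_V {y : ℕ} (hy : y ∈ lv0.gens) {v : Pm64} (hv : v ∈ V) :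
    P 64 y * v * (P 64 y)⁻¹ ∈ V := by
  obtain ⟨c, hc⟩ := hv
  have hyg := gens0_good y hy
  have hc64 : c < 64 := by
    have e := rep_apply hc (i := 0) (by norm_num)
    have e2 : Nat.xor 0 c = c := Nat.zero_xor c
    rw [e2] at e
    rw [← e]
    exact (v ⟨0, by norm_num⟩).2
  have haff := List.all_eq_true.mp affChk_ok y hy
  refine ⟨Nat.xor (look y c) (look y 0), fun j => ?_⟩
  show (P 64 y (v ((P 64 y)⁻¹ j))).1 = Nat.xor j.1 (Nat.xor (look y c) (look y 0))
  have e1 : (P 64 y ((P 64 y)⁻¹ j)).1 = look y ((P 64 y)⁻¹ j).1 := rep_P hyg _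
  rw [show (P 64 y) ((P 64 y)⁻¹ j) = j from (P 64 y).apply_symm_apply j] at e1
  rw [rep_P hyg, hc]
  have e2 := Nat.eq_of_beq_eq_true (allN_spec (allN_spec haff c hc64) ((P 64 y)⁻¹ j).1
    ((P 64 y)⁻¹ j).2)
  show look y (Nat.xor ((P 64 y)⁻¹ j).1 c) = _
  rw [e2, ← e1]
  exact Nat.xor_assoc _ _ _

theorem H_le_normalizer : H ≤ Subgroup.normalizer (V : Set Pm64) := by
  unfold H Grp
  rw [Subgroup.closure_le]
  rintro g ⟨y, hy, rfl⟩
  exact mem_normalizer_of_conj_mem V _ (fun v hv => conj_mem_V hy hv)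

theorem V_normal : (V.subgroupOf H).Normal := Subgroup.normal_subgroupOf_of_le_normalizer H_le_normalizer

theorem V_ne_bot : V.subgroupOf H ≠ ⊥ := by
  intro h
  have hm : P 64 (lv0.gens.getD 0 0) ∈ H := P_mem_Grp gen0_mem
  have : (⟨P 64 (lv0.gens.getD 0 0), hm⟩ : H) ∈ V.subgroupOf H := by
    rw [Subgroup.mem_subgroupOf]
    exact t0_mem_V
  rw [h, Subgroup.mem_bot] at this
  exact t0_ne_one (congrArg Subtype.val this)

theorem V_exp : ∀ x : V.subgroupOf H, x ^ 2 = 1 := by
  intro x
  apply Subtype.ext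
  apply Subtype.ext
  show (x.1.1) ^ 2 = 1
  exact sq_eq_one_of_mem_V (Subgroup.mem_subgroupOf.mp x.2)

end Cfsg.Agent.Helper14.A8V
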