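import Cfsg.Agent.Helper14.A8V
import Cfsg.Agent.Helper17.SolvRad

/-!
# Arbitrarily large groups with the element orders 1, 2, 3, 4, 5, 6, 7, 8, 10, 12, 15
-/

set_option autoImplicit false

namespace Cfsg.Agent.Helper14.A8V

/-- arbitrarily large groups with the same element orders as the split extension of an elementary
abelian group of order 64 by the alternating group of degree eight -/
theorem exists_large (N : ℕ) : ∃ (K : Type) (_ : Group K) (_ : Fintype K),
    N < Fintype.card K ∧ Set.range (orderOf : K → ℕ) = {m | m ∈ allowed} := by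
  obtain ⟨G', hG', hF', hcard, hsp⟩ := Cfsg.Agent.Helper17.exists_large_isospectral N (↥H)
    (V.subgroupOf H) V_normal V_ne_bot 2 Nat.prime_two V_exp
  obtain ⟨K, hK, hFK, hcardK, hspK⟩ := Cfsg.Agent.Helper17.exists_small_model G'
  refine ⟨K, hK, hFK, ?_, by rw [hspK, hsp, range_orderOf_H]⟩
  rw [hcardK]
  calc N < 2 ^ N := Nat.lt_two_pow_self
    _ ≤ 2 ^ N * Nat.card H := Nat.le_mul_of_pos_right _ Nat.card_pos
    _ ≤ Nat.card G' := hcard

end Cfsg.Agent.Helper14.A8V
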