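import Mathlib
set_option autoImplicit false

/-! S2202 piece QB: the image of a non-cyclic, non-normal Sylow `2`-subgroup `T` in `G ⧸ N`
(`N` normal of odd order centralizing `T`) is again a non-cyclic non-normal Sylow `2`-subgroup,
and the core of its normalizer is trivial when `N` contains the core of `N_G(T)`. -/

namespace Cfsg.Agent.Helper14.AI

variable {G : Type*} [Group G]

theorem eq_one_of_odd_of_two_pow [Finite G] {N : Subgroup G} (hodd : Odd (Nat.card N)) {n : G}
    (hn : n ∈ N) {k : ℕ} (h : n ^ 2 ^ k = 1) : n = 1 := by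
  have h1 : orderOf n ∣ 2 ^ k := orderOf_dvd_of_pow_eq_one h
  have h2 : orderOf n ∣ Nat.card N := by
    have := orderOf_dvd_natCard (⟨n, hn⟩ : N)
    rwa [Subgroup.orderOf_mk] at this
  have h3 : Nat.Coprime (2 ^ k) (Nat.card N) :=
    Nat.Coprime.pow_left k (Nat.coprime_two_left.mpr hodd)
  have h4 := Nat.dvd_gcd h1 h2
  rw [Nat.Coprime.gcd_eq_one h3] at h4
  exact orderOf_eq_one_iff.mp (Nat.dvd_one.mp h4)

theorem mem_normalizer_of_conj_mem [Finite G] (H : Subgroup G) (y : G)
    (h : ∀ t ∈ H, y * t * y⁻¹ ∈ H) : y ∈ Subgroup.normalizer (H : Set G) := by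
  rw [Subgroup.mem_normalizer_iff]
  intro t
  constructor
  · exact h t
  · intro ht
    let f : H → H := fun t => ⟨y * t * y⁻¹, h t t.2⟩
    have hf : Function.Injective f := by
      intro a b hab
      have : y * (a : G) * y⁻¹ = y * (b : G) * y⁻¹ := congrArg Subtype.val hab
      apply Subtype.ext
      simpa using this
    obtain ⟨t', ht'⟩ := (Finite.injective_iff_surjective.mp hf) ⟨y * t * y⁻¹, ht⟩
    have : y * (t' : G) * y⁻¹ = y * t * y⁻¹ := congrArg Subtype.val ht'
    have h2 : (t' : G) = t := by simpa using this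
    rw [← h2]
    exact t'.2

theorem exists_sylow_quot [Finite G] (T : Sylow 2 G) (N : Subgroup G) [N.Normal]
    (hodd : Odd (Nat.card N))
    (hcomm : ∀ n ∈ N, ∀ t ∈ (T : Subgroup G), n * t = t * n)
    (hnc : ¬ IsCyclic ↥(T : Subgroup G)) (hnn : ¬ (T : Subgroup G).Normal) :
    ∃ T' : Sylow 2 (G ⧸ N),
      (T' : Subgroup (G ⧸ N)) = (T : Subgroup G).map (QuotientGroup.mk' N) ∧
      ¬ IsCyclic ↥(T' : Subgroup (G ⧸ N)) ∧ ¬ (T' : Subgroup (G ⧸ N)).Normal ∧
      Nat.card ↥(T' : Subgroup (G ⧸ N)) = Nat.card ↥(T : Subgroup G) ∧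
      ((Subgroup.normalizer ((T : Subgroup G) : Set G)).normalCore ≤ N →
        (Subgroup.normalizer ((T' : Subgroup (G ⧸ N)) : Set (G ⧸ N))).normalCore = ⊥) := by
  classical
  have hsurj : Function.Surjective (QuotientGroup.mk' N) := QuotientGroup.mk'_surjective N
  set T' : Sylow 2 (G ⧸ N) := T.mapSurjective hsurj with hT'
  have hT'coe : (T' : Subgroup (G ⧸ N)) = (T : Subgroup G).map (QuotientGroup.mk' N) :=
    Sylow.coe_mapSurjective hsurj T
  -- `T ∩ N = 1`
  have hTN : ∀ x ∈ (T : Subgroup G), x ∈ N → x = 1 := by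
    intro x hxT hxN
    obtain ⟨k, hk⟩ := T.2 ⟨x, hxT⟩
    have hk' : x ^ 2 ^ k = 1 := by simpa using congrArg Subtype.val hk
    exact eq_one_of_odd_of_two_pow hodd hxN hk'
  -- the isomorphism `T ≃* T'`
  let φ : (T : Subgroup G) →* (G ⧸ N) := (QuotientGroup.mk' N).comp (T : Subgroup G).subtype
  have hφinj : Function.Injective φ := by
    rw [injective_iff_map_eq_one]
    intro x hx
    have h1 : (QuotientGroup.mk' N) (x : G) = 1 := hx
    have h2 : (x : G) ∈ N := by
      rwa [QuotientGroup.mk'_apply, QuotientGroup.eq_one_iff] at h1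
    exact Subtype.ext (hTN x x.2 h2)
  have hφrange : φ.range = (T' : Subgroup (G ⧸ N)) := by
    rw [hT'coe, MonoidHom.range_comp, Subgroup.range_subtype]
  let ψ : (T : Subgroup G) ≃* (T' : Subgroup (G ⧸ N)) :=
    (MonoidHom.ofInjective hφinj).trans (MulEquiv.subgroupCongr hφrange)
  -- key lemma
  have hM : ∀ y : G,
      (QuotientGroup.mk' N) y ∈ Subgroup.normalizer ((T' : Subgroup (G ⧸ N)) : Set (G ⧸ N)) →
      y ∈ Subgroup.normalizer ((T : Subgroup G) : Set G) := by
    intro y hy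
    apply mem_normalizer_of_conj_mem
    intro t ht
    rw [Subgroup.mem_normalizer_iff] at hy
    have h1 : (QuotientGroup.mk' N) t ∈ (T' : Subgroup (G ⧸ N)) := by
      rw [hT'coe]; exact Subgroup.mem_map_of_mem _ ht
    have h2 := (hy _).mp h1
    rw [← map_inv, ← map_mul, ← map_mul, hT'coe] at h2
    obtain ⟨t₁, ht₁, h3⟩ := Subgroup.mem_map.mp h2
    rw [QuotientGroup.mk'_apply, QuotientGroup.mk'_apply, QuotientGroup.eq] at h3
    set n := t₁⁻¹ * (y * t * y⁻¹) with hn
    have hs : y * t * y⁻¹ = t₁ * n := by rw [hn]; group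
    obtain ⟨k, hk⟩ := T.2 ⟨t, ht⟩
    have hk' : t ^ 2 ^ k = 1 := by simpa using congrArg Subtype.val hk
    have hsk : (y * t * y⁻¹) ^ 2 ^ k = 1 := by
      rw [conj_pow, hk']; group
    have hcm : Commute t₁ n := (hcomm n h3 t₁ ht₁).symm
    rw [hs, hcm.mul_pow] at hsk
    have hnT : n ^ 2 ^ k ∈ (T : Subgroup G) := by
      have : n ^ 2 ^ k = (t₁ ^ 2 ^ k)⁻¹ := eq_inv_of_mul_eq_one_right hsk
      rw [this]
      exact (T : Subgroup G).inv_mem ((T : Subgroup G).pow_mem ht₁ _)
    have hn1 : n ^ 2 ^ k = 1 := hTN _ hnT (N.pow_mem h3 _)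
    have hn1' : n = 1 := eq_one_of_odd_of_two_pow hodd h3 hn1
    rw [hs, hn1', mul_one]
    exact ht₁
  refine ⟨T', hT'coe, ?_, ?_, ?_, ?_⟩
  · intro hcyc
    apply hnc
    exact isCyclic_of_surjective ψ.symm ψ.symm.surjective
  · intro hnorm
    apply hnn
    have htop : Subgroup.normalizer ((T : Subgroup G) : Set G) = ⊤ := by
      rw [eq_top_iff]
      intro y _
      apply hM
      rw [Subgroup.normalizer_eq_top_iff.mpr hnorm]
      exact Subgroup.mem_top _
    exact Subgroup.normalizer_eq_top_iff.mp htop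
  · exact (Nat.card_congr ψ.toEquiv).symm
  · intro hcore
    rw [Subgroup.eq_bot_iff_forall]
    intro z hz
    obtain ⟨x, rfl⟩ := hsurj z
    have hx : x ∈ (Subgroup.normalizer ((T : Subgroup G) : Set G)).normalCore := by
      intro b
      apply hM
      have := hz ((QuotientGroup.mk' N) b)
      rwa [← map_inv, ← map_mul, ← map_mul] at this
    have := hcore hx
    rw [QuotientGroup.mk'_apply, QuotientGroup.eq_one_iff]
    exact this

end Cfsg.Agent.Helper14.AI
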