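import Mathlib
import Cfsg.Prelude.Def_LieExceptional
import Cfsg.Prelude.Def_Involutions
import Cfsg.Agent.Helper18.AIDefs
set_option autoImplicit false

/-! S2202 piece SE: in the non-TI case the centralizer of `1 ≠ a ∈ K α ∩ K β` contains the point
stabilizers `G_α` and is strongly embedded. -/

namespace Cfsg.Agent.Helper14.AI

open Cfsg Cfsg.Agent.Helper18.AI Cfsg.Agent.Helper18.CT MulAction

variable {G : Type*} [Group G]

theorem exists_J {Ω : Type*} [MulAction G Ω] {K : Ω → Subgroup G} {e : ℕ} (h : Geo1 Ω K e)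
    {α β : Ω} (hp : PairOK1 Ω K e α β) : ∃ u : G, orderOf u = 2 ∧ u • α = β := by
  have h1 := hp.1
  have h2 : 0 < Nat.card {u : G // orderOf u = 2 ∧ u • α = β} := by
    rw [h1]; have := h.e_ge; omega
  obtain ⟨⟨u, hu⟩⟩ := (Nat.card_pos_iff.mp h2).1
  exact ⟨u, hu⟩

theorem Geo1.stabilizer_le_centralizer {Ω : Type*} [MulAction G Ω]
    {K : Ω → Subgroup G} {e : ℕ} (h : Geo1 Ω K e)
    (hp : ∀ α β : Ω, α ≠ β → PairOK1 Ω K e α β) {α β : Ω} (hab : α ≠ β) {a : G}
    (ha : a ∈ K α ⊓ K β) : stabilizer G α ≤ Subgroup.centralizer ({a} : Set G) := by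
  have hpab := hp α β hab
  obtain ⟨u, hu2, huab⟩ := exists_J h hpab
  obtain ⟨_, _, h3, h4, _⟩ := hpab
  intro x hx
  obtain ⟨c, hc, v, hv2, hvab, rfl⟩ := h3 u hu2 huab x hx
  rw [Subgroup.mem_centralizer_singleton_iff]
  have hca : c * a = a * c := h.K_comm α c hc a (Subgroup.mem_inf.mp ha).1
  have hua : u * a = a * u := h4 u hu2 huab a ha
  have hva : v * a = a * v := h4 v hv2 hvab a ha
  calc c * (u * v) * a = c * u * (v * a) := by group
    _ = c * u * (a * v) := by rw [hva]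
    _ = c * (u * a) * v := by group
    _ = c * (a * u) * v := by rw [hua]
    _ = (c * a) * u * v := by group
    _ = (a * c) * u * v := by rw [hca]
    _ = a * (c * (u * v)) := by group

theorem Geo1.isStronglyEmbedded_centralizer [Finite G] {Ω : Type*} [MulAction G Ω] [Finite Ω]
    {K : Ω → Subgroup G} {e : ℕ} (h : Geo1 Ω K e)
    (hp : ∀ α β : Ω, α ≠ β → PairOK1 Ω K e α β) {α β : Ω} (hab : α ≠ β) {a : G}
    (ha : a ∈ K α ⊓ K β) (hne : Subgroup.centralizer ({a} : Set G) ≠ ⊤) :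
    IsStronglyEmbedded (Subgroup.centralizer ({a} : Set G)) := by
  classical
  set Y := Subgroup.centralizer ({a} : Set G) with hY
  have hmemY : ∀ x : G, x ∈ Y ↔ x * a = a * x := fun x => by
    rw [hY, Subgroup.mem_centralizer_singleton_iff]
  -- stabilizers of points `δ` with `a ∈ K δ` lie in `Y`
  have hstab : ∀ δ : Ω, a ∈ K δ → stabilizer G δ ≤ Y := by
    intro δ hδ
    by_cases hδα : δ = α
    · subst hδα
      exact Geo1.stabilizer_le_centralizer h hp hab ha
    · exact Geo1.stabilizer_le_centralizer h hp hδα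
        (Subgroup.mem_inf.mpr ⟨hδ, (Subgroup.mem_inf.mp ha).1⟩)
  refine ⟨hne, ?_, ?_⟩
  · -- even order: an involution of `K α`
    have h1 : 0 < Nat.card {u : G // orderOf u = 2 ∧ u • α = α} := by
      rw [h.inv_card α]; have := h.e_ge; omega
    obtain ⟨⟨u, hu2, huα⟩⟩ := (Nat.card_pos_iff.mp h1).1
    have huK : u ∈ K α := h.K_inv α u hu2 huα
    have huY : u ∈ Y := by
      rw [hmemY]
      exact h.K_comm α u huK a (Subgroup.mem_inf.mp ha).1
    have h2 : orderOf (⟨u, huY⟩ : Y) = 2 := by rw [Subgroup.orderOf_mk]; exact hu2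
    have h3 : 2 ∣ Nat.card Y := by rw [← h2]; exact orderOf_dvd_natCard _
    exact even_iff_two_dvd.mpr h3
  · intro g hg
    by_contra hodd
    rw [Nat.not_odd_iff_even] at hodd
    have h2 : 2 ∣ Nat.card ↥(Y ⊓ Y.map (MulAut.conj g).toMonoidHom) := even_iff_two_dvd.mp hodd
    obtain ⟨t, ht⟩ := exists_prime_orderOf_dvd_card' (G := ↥(Y ⊓ Y.map (MulAut.conj g).toMonoidHom))
      2 h2
    have ht2 : orderOf (t : G) = 2 := by rw [Subgroup.orderOf_coe]; exact ht
    obtain ⟨htY, htg⟩ := Subgroup.mem_inf.mp t.2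
    obtain ⟨y, hyY, hyt⟩ := Subgroup.mem_map.mp htg
    have hyt' : g * y * g⁻¹ = (t : G) := hyt
    have hy2 : orderOf y = 2 := by
      have : orderOf (g * y * g⁻¹) = orderOf y := MulEquiv.orderOf_eq (MulAut.conj g) y
      rw [← this, hyt', ht2]
    obtain ⟨γ, hγ⟩ := h.inv_fix (t : G) ht2
    have htK : (t : G) ∈ K γ := h.K_inv γ _ ht2 hγ
    have haγ : a ∈ K γ := h.K_cent γ _ ht2 htK a ((hmemY _).mp htY).symm
    have hyγ' : y • (g⁻¹ • γ) = g⁻¹ • γ := by
      have : y = g⁻¹ * (t : G) * g := by rw [← hyt']; group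
      rw [this, mul_smul, mul_smul, smul_inv_smul, hγ]
    have hyK : y ∈ K (g⁻¹ • γ) := h.K_inv _ y hy2 hyγ'
    have haγ' : a ∈ K (g⁻¹ • γ) := h.K_cent _ y hy2 hyK a ((hmemY _).mp hyY).symm
    by_cases hγγ : g⁻¹ • γ = γ
    · apply hg
      have : g⁻¹ ∈ Y := hstab γ haγ (by rw [mem_stabilizer_iff]; exact hγγ)
      simpa using Y.inv_mem this
    · obtain ⟨u, hu2, hu⟩ := exists_J h (hp _ _ hγγ)
      obtain ⟨_, _, _, h4, _⟩ := hp _ _ hγγ
      have huY : u ∈ Y := by
        rw [hmemY]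
        exact h4 u hu2 hu a (Subgroup.mem_inf.mpr ⟨haγ', haγ⟩)
      have hug : u * g⁻¹ ∈ Y := hstab γ haγ (by rw [mem_stabilizer_iff, mul_smul]; exact hu)
      apply hg
      have : g⁻¹ ∈ Y := by
        have := Y.mul_mem (Y.inv_mem huY) hug
        simpa using this
      simpa using Y.inv_mem this

end Cfsg.Agent.Helper14.AI
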