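import Mathlib
import Cfsg.Prelude.Def_Characters
import Cfsg.Agent.Helper23.AVDefs

/-!
S4560 pieces W2: permutations of `2`-power order with a prescribed number of fixed points.
Also the auxiliary lemmas shared with W3 (prefix `w2_`).
-/

set_option autoImplicit false

namespace Cfsg.Agent.Helper23.AV

open MulAction

universe u v

/-- The number of fixed points of a permutation of `Fin n` in terms of the cycle type. -/
theorem w2_card_fixedBy (n : ℕ) (σ : Equiv.Perm (Fin n)) :
    Nat.card (fixedBy (Fin n) σ) = n - σ.cycleType.sum := by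
  have h1 : fixedBy (Fin n) σ = Function.fixedPoints σ := by
    ext a
    simp [Function.IsFixedPt, Function.fixedPoints]
  rw [h1, Nat.card_eq_fintype_card, Equiv.Perm.card_fixedPoints, Fintype.card_fin]

/-- A permutation of `Fin n` with a given cycle type. -/
theorem w2_exists_perm (n : ℕ) (m : Multiset ℕ) (h2 : ∀ a ∈ m, 2 ≤ a) (hsum : m.sum ≤ n) :
    ∃ σ : Equiv.Perm (Fin n), σ.cycleType = m ∧ Nat.card (fixedBy (Fin n) σ) = n - m.sum := by
  obtain ⟨σ, hσ⟩ := (Equiv.Perm.exists_with_cycleType_iff (Fin n)).2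
    ⟨by rw [Fintype.card_fin]; exact hsum, h2⟩
  exact ⟨σ, hσ, by rw [w2_card_fixedBy, hσ]⟩

/-- If `σ` has no cycle of length `2`, then `σ²` has the same fixed points as `σ`. -/
theorem w2_fixedBy_sq {α : Type v} [Fintype α] [DecidableEq α] (σ : Equiv.Perm α)
    (h : 2 ∉ σ.cycleType) : fixedBy α (σ ^ 2) = fixedBy α σ := by
  ext a
  simp only [mem_fixedBy, Equiv.Perm.smul_def]
  constructor
  · intro h2
    by_contra hne
    apply h
    -- the cycle of `a` has support `{a, σ a}`
    have hmem : a ∈ σ.support := Equiv.Perm.mem_support.2 hne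
    have hc : σ.cycleOf a ∈ σ.cycleFactorsFinset :=
      Equiv.Perm.cycleOf_mem_cycleFactorsFinset_iff.2 hmem
    have hsupp : (σ.cycleOf a).support = {a, σ a} := by
      ext y
      rw [Equiv.Perm.mem_support_cycleOf_iff' hne]
      constructor
      · rintro ⟨i, rfl⟩
        have h2' : (σ ^ (2 : ℤ)) a = a := by
          have : (σ ^ (2 : ℤ)) = σ ^ (2 : ℕ) := by norm_cast
          rw [this]; exact h2
        rcases Int.emod_two_eq_zero_or_one i with hi | hi
        · have hi2 : i = 2 * (i / 2) := by omega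
          have hval : (σ ^ i) a = a := by
            rw [hi2, zpow_mul]
            exact Equiv.Perm.zpow_apply_eq_self_of_apply_eq_self h2' _
          rw [hval]
          exact Finset.mem_insert_self _ _
        · have hi2 : i = 2 * (i / 2) + 1 := by omega
          have hσa : (σ ^ (2 : ℤ)) (σ a) = σ a := by
            have e : (σ ^ (2 : ℤ)) (σ a) = σ ((σ ^ (2 : ℤ)) a) := by
              have hc : σ ^ (2 : ℤ) * σ = σ * σ ^ (2 : ℤ) := ((Commute.refl σ).zpow_left 2).eq
              calc (σ ^ (2 : ℤ)) (σ a) = (σ ^ (2 : ℤ) * σ) a := rfl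
                _ = (σ * σ ^ (2 : ℤ)) a := by rw [hc]
                _ = σ ((σ ^ (2 : ℤ)) a) := rfl
            rw [e, h2']
          have hval : (σ ^ i) a = σ a := by
            rw [hi2, zpow_add, zpow_mul, zpow_one, Equiv.Perm.mul_apply]
            exact Equiv.Perm.zpow_apply_eq_self_of_apply_eq_self hσa _
          rw [hval]
          exact Finset.mem_insert_of_mem (Finset.mem_singleton_self _)
      · intro hy
        rw [Finset.mem_insert, Finset.mem_singleton] at hy
        rcases hy with rfl | rfl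
        · exact ⟨0, by simp⟩
        · exact ⟨1, by simp⟩
    rw [Equiv.Perm.cycleType_def, Multiset.mem_map]
    refine ⟨σ.cycleOf a, hc, ?_⟩
    show (σ.cycleOf a).support.card = 2
    rw [hsupp, Finset.card_pair]
    exact fun h' => hne h'.symm
  · intro h1
    rw [pow_two, Equiv.Perm.mul_apply, h1, h1]

/-- The lcm of a nonempty constant multiset. -/
theorem w2_lcm_replicate (k : ℕ) (hk : k ≠ 0) (a : ℕ) : (Multiset.replicate k a).lcm = a := by
  apply Nat.dvd_antisymm
  · rw [Multiset.lcm_dvd]
    intro b hb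
    rw [Multiset.eq_of_mem_replicate hb]
  · apply Multiset.dvd_lcm
    rw [Multiset.mem_replicate]
    exact ⟨hk, rfl⟩

/-- W2 -/
theorem exists_two_elt (n f k e : ℕ) (he : 1 ≤ e) (hk : 2 ≤ k) (hn : n = f + 2 ^ e * k) :
    ∃ σ : Equiv.Perm (Fin n), σ ∈ alternatingGroup (Fin n) ∧ (∃ j : ℕ, orderOf σ = 2 ^ j) ∧
      Nat.card (fixedBy (Fin n) σ) = f ∧
      (2 ≤ e → Nat.card (fixedBy (Fin n) (σ ^ 2)) = f) := by
  have h2e : 2 ≤ 2 ^ e := by
    calc 2 = 2 ^ 1 := by norm_num
      _ ≤ 2 ^ e := Nat.pow_le_pow_right (by norm_num) he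
  have heven2e : Even (2 ^ e) := by
    obtain ⟨e', rfl⟩ : ∃ e', e = e' + 1 := ⟨e - 1, by omega⟩
    exact ⟨2 ^ e', by ring⟩
  rcases Nat.even_or_odd k with hkev | hkodd
  · -- `k` cycles of length `2 ^ e`
    set m : Multiset ℕ := Multiset.replicate k (2 ^ e) with hm
    have hmsum : m.sum = 2 ^ e * k := by
      rw [hm, Multiset.sum_replicate, smul_eq_mul, mul_comm]
    have hmcard : Multiset.card m = k := by rw [hm, Multiset.card_replicate]
    have hm2 : ∀ a ∈ m, 2 ≤ a := by
      intro a ha
      rw [hm] at ha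
      rw [Multiset.eq_of_mem_replicate ha]
      exact h2e
    obtain ⟨σ, hσ, hfix⟩ := w2_exists_perm n m hm2 (by rw [hmsum, hn]; omega)
    refine ⟨σ, ?_, ?_, ?_, ?_⟩
    · rw [Equiv.Perm.mem_alternatingGroup, Equiv.Perm.sign_of_cycleType, hσ, hmsum, hmcard]
      apply Even.neg_one_pow
      exact Even.add (heven2e.mul_right k) hkev
    · refine ⟨e, ?_⟩
      rw [← Equiv.Perm.lcm_cycleType, hσ, hm]
      exact w2_lcm_replicate k (by omega) (2 ^ e)
    · rw [hfix, hmsum, hn]; omega
    · intro he2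
      have hno2 : 2 ∉ σ.cycleType := by
        rw [hσ, hm]
        intro h2
        have := Multiset.eq_of_mem_replicate h2
        have h4 : 4 ≤ 2 ^ e := by
          calc 4 = 2 ^ 2 := by norm_num
            _ ≤ 2 ^ e := Nat.pow_le_pow_right (by norm_num) he2
        omega
      rw [w2_fixedBy_sq σ hno2, hfix, hmsum, hn]; omega
  · -- one cycle of length `2 ^ (e + 1)` and `k - 2` cycles of length `2 ^ e`
    have hk3 : 3 ≤ k := by
      rcases hkodd with ⟨j, rfl⟩
      omega
    set m : Multiset ℕ := 2 ^ (e + 1) ::ₘ Multiset.replicate (k - 2) (2 ^ e) with hm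
    have hmsum : m.sum = 2 ^ e * k := by
      rw [hm, Multiset.sum_cons, Multiset.sum_replicate, smul_eq_mul, pow_succ]
      obtain ⟨k', rfl⟩ : ∃ k', k = k' + 2 := ⟨k - 2, by omega⟩
      simp only [Nat.add_sub_cancel]
      ring
    have hmcard : Multiset.card m = k - 1 := by
      rw [hm, Multiset.card_cons, Multiset.card_replicate]; omega
    have hm2 : ∀ a ∈ m, 2 ≤ a := by
      intro a ha
      rw [hm, Multiset.mem_cons] at ha
      rcases ha with rfl | ha
      · calc 2 ≤ 2 ^ e := h2e
          _ ≤ 2 ^ (e + 1) := Nat.pow_le_pow_right (by norm_num) (by omega)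
      · rw [Multiset.eq_of_mem_replicate ha]
        exact h2e
    obtain ⟨σ, hσ, hfix⟩ := w2_exists_perm n m hm2 (by rw [hmsum, hn]; omega)
    refine ⟨σ, ?_, ?_, ?_, ?_⟩
    · rw [Equiv.Perm.mem_alternatingGroup, Equiv.Perm.sign_of_cycleType, hσ, hmsum, hmcard]
      apply Even.neg_one_pow
      apply Even.add (heven2e.mul_right k)
      rcases hkodd with ⟨j, rfl⟩
      exact ⟨j, by omega⟩
    · refine ⟨e + 1, ?_⟩
      rw [← Equiv.Perm.lcm_cycleType, hσ, hm, Multiset.lcm_cons]
      have hdvd : (Multiset.replicate (k - 2) (2 ^ e)).lcm ∣ 2 ^ (e + 1) := by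
        rw [Multiset.lcm_dvd]
        intro a ha
        rw [Multiset.eq_of_mem_replicate ha]
        exact pow_dvd_pow 2 (by omega)
      have := lcm_eq_left_iff (2 ^ (e + 1)) ((Multiset.replicate (k - 2) (2 ^ e)).lcm)
        (by simp)
      exact this.2 hdvd
    · rw [hfix, hmsum, hn]; omega
    · intro he2
      have h4 : 4 ≤ 2 ^ e := by
        calc 4 = 2 ^ 2 := by norm_num
          _ ≤ 2 ^ e := Nat.pow_le_pow_right (by norm_num) he2
      have hno2 : 2 ∉ σ.cycleType := by
        rw [hσ, hm, Multiset.mem_cons]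
        rintro (h2 | h2)
        · have : 2 ^ e ≤ 2 ^ (e + 1) := Nat.pow_le_pow_right (by norm_num) (by omega)
          omega
        · have := Multiset.eq_of_mem_replicate h2
          omega
      rw [w2_fixedBy_sq σ hno2, hfix, hmsum, hn]; omega

end Cfsg.Agent.Helper23.AV
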