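import Mathlib
import Cfsg.Prelude.Def_Characters
import Cfsg.Agent.Helper23.AVDefs
import Cfsg.Agent.Helper14.AVW2

/-!
S4560 piece W3: elements of order `3` with a prescribed number of fixed points.
-/

set_option autoImplicit false

namespace Cfsg.Agent.Helper23.AV

open MulAction

universe u v

/-- W3 -/
theorem exists_three_elt (n f k : ℕ) (hk : 1 ≤ k) (hn : n = f + 3 * k) :
    ∃ σ : Equiv.Perm (Fin n), σ ∈ alternatingGroup (Fin n) ∧ orderOf σ = 3 ∧
      Nat.card (fixedBy (Fin n) σ) = f ∧ Nat.card (fixedBy (Fin n) (σ ^ 2)) = f := by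
  set m : Multiset ℕ := Multiset.replicate k 3 with hm
  have hmsum : m.sum = 3 * k := by
    rw [hm, Multiset.sum_replicate, smul_eq_mul, mul_comm]
  have hmcard : Multiset.card m = k := by rw [hm, Multiset.card_replicate]
  have hm2 : ∀ a ∈ m, 2 ≤ a := by
    intro a ha
    rw [hm] at ha
    rw [Multiset.eq_of_mem_replicate ha]
    norm_num
  obtain ⟨σ, hσ, hfix⟩ := w2_exists_perm n m hm2 (by rw [hmsum, hn]; omega)
  have hord : orderOf σ = 3 := by
    rw [← Equiv.Perm.lcm_cycleType, hσ, hm]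
    exact w2_lcm_replicate k (by omega) 3
  have hfix' : Nat.card (fixedBy (Fin n) σ) = f := by
    rw [hfix, hmsum, hn]; omega
  refine ⟨σ, ?_, hord, hfix', ?_⟩
  · rw [Equiv.Perm.mem_alternatingGroup, Equiv.Perm.sign_of_cycleType, hσ, hmsum, hmcard]
    apply Even.neg_one_pow
    exact ⟨2 * k, by ring⟩
  · have hsq : σ ^ 2 = σ⁻¹ := by
      have h3 : σ ^ 3 = 1 := by rw [← hord]; exact pow_orderOf_eq_one σ
      rw [eq_inv_iff_mul_eq_one, ← pow_succ]
      exact h3
    rw [hsq, MulAction.fixedBy_inv]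
    exact hfix'

end Cfsg.Agent.Helper23.AV
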