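import Mathlib
import Cfsg.Agent.S2530

set_option autoImplicit false

/-!
# Carmichael's presentation of the alternating group (even subgroup of the Coxeter group `A`)
-/

namespace Cfsg.Agent.Helper14.AltPres

open Equiv SemidirectProduct

/-- the relations -/
def rels (k : ℕ) : Set (FreeGroup (Fin k)) :=
  {g : FreeGroup (Fin k) | ∃ i : Fin k, i.val = 0 ∧ g = FreeGroup.of i ^ 3} ∪
   {g | ∃ i : Fin k, 1 ≤ i.val ∧ g = FreeGroup.of i ^ 2} ∪
   {g | ∃ i j : Fin k, j.val = i.val + 1 ∧ g = (FreeGroup.of i * FreeGroup.of j) ^ 3} ∪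
   {g | ∃ i j : Fin k, i.val + 1 < j.val ∧ g = (FreeGroup.of i * FreeGroup.of j) ^ 2}

/-- the presented group -/
abbrev G (k : ℕ) := PresentedGroup (rels k)

/-- generators -/
def x {k : ℕ} (i : Fin k) : G k := PresentedGroup.of i

theorem x_cube {k : ℕ} (i : Fin k) (hi : i.val = 0) : x i ^ 3 = 1 := by
  have : FreeGroup.of i ^ 3 ∈ rels k := Or.inl (Or.inl (Or.inl ⟨i, hi, rfl⟩))
  have h := PresentedGroup.one_of_mem this
  rwa [map_pow] at h

theorem x_sq {k : ℕ} (i : Fin k) (hi : 1 ≤ i.val) : x i ^ 2 = 1 := by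
  have : FreeGroup.of i ^ 2 ∈ rels k := Or.inl (Or.inl (Or.inr ⟨i, hi, rfl⟩))
  have h := PresentedGroup.one_of_mem this
  rwa [map_pow] at h

theorem x_adj {k : ℕ} (i j : Fin k) (hij : j.val = i.val + 1) : (x i * x j) ^ 3 = 1 := by
  have : (FreeGroup.of i * FreeGroup.of j) ^ 3 ∈ rels k := Or.inl (Or.inr ⟨i, j, hij, rfl⟩)
  have h := PresentedGroup.one_of_mem this
  rwa [map_pow, map_mul] at h

theorem x_far {k : ℕ} (i j : Fin k) (hij : i.val + 1 < j.val) : (x i * x j) ^ 2 = 1 := by
  have : (FreeGroup.of i * FreeGroup.of j) ^ 2 ∈ rels k := Or.inr ⟨i, j, hij, rfl⟩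
  have h := PresentedGroup.one_of_mem this
  rwa [map_pow, map_mul] at h

theorem x_inv {k : ℕ} (i : Fin k) (hi : 1 ≤ i.val) : (x i)⁻¹ = x i := by
  have := x_sq i hi
  rw [pow_two] at this
  exact inv_eq_of_mul_eq_one_right this

/-- the Coxeter numbers of type `A` -/
def mm (a b : ℕ) : ℕ := if a = b then 1 else if b + 1 = a ∨ a + 1 = b then 3 else 2

theorem mm_comm (a b : ℕ) : mm a b = mm b a := by
  unfold mm
  by_cases h : a = b
  · rw [if_pos h, if_pos h.symm]
  · rw [if_neg h, if_neg (Ne.symm h)]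
    by_cases h2 : b + 1 = a ∨ a + 1 = b
    · rw [if_pos h2, if_pos h2.symm]
    · rw [if_neg h2, if_neg (fun h3 => h2 h3.symm)]

theorem swap_pow {M : Type*} [Group M] (a b : M) (n : ℕ) (h : (a * b) ^ n = 1) :
    (b * a) ^ n = 1 := by
  have : b * a = a⁻¹ * (a * b) * a⁻¹⁻¹ := by group
  rw [this, conj_pow, h]; group

theorem key_lt {k : ℕ} (a b : Fin k) (hab : a.val < b.val) :
    (x a * x b) ^ mm (a.val + 1) (b.val + 1) = 1 := by
  unfold mm
  rw [if_neg (by omega)]
  by_cases h : b.val = a.val + 1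
  · rw [if_pos (by omega)]
    exact x_adj a b h
  · rw [if_neg (by omega)]
    exact x_far a b (by omega)

theorem key {k : ℕ} (a b : Fin k) :
    (x a * (x b)⁻¹) ^ mm (a.val + 1) (b.val + 1) = 1 := by
  rcases Nat.lt_trichotomy a.val b.val with h | h | h
  · rw [x_inv b (by omega)]
    exact key_lt a b h
  · have : a = b := Fin.ext h
    subst this
    rw [mul_inv_cancel, one_pow]
  · have h1 := key_lt b a h
    rw [mm_comm] at h1
    have h2 : x a * (x b)⁻¹ = (x b * x a)⁻¹ := by
      rw [mul_inv_rev, x_inv a (by omega)]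
    rw [h2, inv_pow, h1, inv_one]

theorem key0 {k : ℕ} (a : Fin k) : (x a) ^ mm (a.val + 1) 0 = 1 := by
  unfold mm
  rw [if_neg (by omega)]
  by_cases h : a.val = 0
  · rw [if_pos (by omega)]
    exact x_cube a h
  · rw [if_neg (by omega)]
    exact x_sq a (by omega)

/-! ### the inverting automorphism -/

theorem sig_rel (k : ℕ) : ∀ r ∈ rels k, FreeGroup.lift (fun i : Fin k => (x i)⁻¹) r = 1 := by
  intro r hr
  rcases hr with ((⟨i, hi, rfl⟩ | ⟨i, hi, rfl⟩) | ⟨i, j, hij, rfl⟩) | ⟨i, j, hij, rfl⟩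
  · rw [map_pow, FreeGroup.lift_apply_of, inv_pow, x_cube i hi, inv_one]
  · rw [map_pow, FreeGroup.lift_apply_of, inv_pow, x_sq i hi, inv_one]
  · rw [map_pow, map_mul, FreeGroup.lift_apply_of, FreeGroup.lift_apply_of, ← mul_inv_rev, inv_pow,
      swap_pow _ _ _ (x_adj i j hij), inv_one]
  · rw [map_pow, map_mul, FreeGroup.lift_apply_of, FreeGroup.lift_apply_of, ← mul_inv_rev, inv_pow,
      swap_pow _ _ _ (x_far i j hij), inv_one]

/-- the endomorphism inverting the generators -/
noncomputable def sig (k : ℕ) : G k →* G k := PresentedGroup.toGroup (sig_rel k)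

theorem sig_x {k : ℕ} (i : Fin k) : sig k (x i) = (x i)⁻¹ := PresentedGroup.toGroup.of _

theorem sig_sig (k : ℕ) : (sig k).comp (sig k) = MonoidHom.id _ := by
  apply PresentedGroup.ext
  intro i
  show sig k (sig k (x i)) = x i
  rw [sig_x, map_inv, sig_x, inv_inv]

theorem sig_sig_apply {k : ℕ} (g : G k) : sig k (sig k g) = g :=
  DFunLike.congr_fun (sig_sig k) g

/-- the automorphism inverting the generators -/
noncomputable def sigE (k : ℕ) : MulAut (G k) where
  toFun := sig k
  invFun := sig k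
  left_inv := sig_sig_apply
  right_inv := sig_sig_apply
  map_mul' := map_mul _

theorem sigE_apply {k : ℕ} (g : G k) : sigE k g = sig k g := rfl

theorem sigE_sq (k : ℕ) : sigE k * sigE k = 1 := by
  ext g
  show sig k (sig k g) = g
  exact sig_sig_apply g

/-- the cyclic group generated by the inverting automorphism -/
noncomputable abbrev C (k : ℕ) : Subgroup (MulAut (G k)) := Subgroup.zpowers (sigE k)

/-- the generator of `C` -/
noncomputable def sg (k : ℕ) : C k := ⟨sigE k, Subgroup.mem_zpowers _⟩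

theorem sg_sq (k : ℕ) : sg k * sg k = 1 := Subtype.ext (sigE_sq k)

/-- the extended group -/
abbrev Gh (k : ℕ) := G k ⋊[(C k).subtype] C k

/-- the `G`-parts of the Coxeter generators -/
def u {k : ℕ} (i : Fin (k + 1)) : G k := Fin.cases 1 (fun a => x a) i

@[simp] theorem u_zero {k : ℕ} : u (0 : Fin (k + 1)) = 1 := rfl
@[simp] theorem u_succ {k : ℕ} (a : Fin k) : u a.succ = x a := rfl

theorem sig_u {k : ℕ} (i : Fin (k + 1)) : sig k (u i) = (u i)⁻¹ := by
  refine Fin.cases ?_ (fun a => ?_) i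
  · simp
  · rw [u_succ, sig_x]

/-- the Coxeter generators of the extended group -/
noncomputable def t {k : ℕ} (i : Fin (k + 1)) : Gh k := inl (u i) * inr (sg k)

theorem t_mul_t {k : ℕ} (i j : Fin (k + 1)) : t i * t j = inl (u i * (u j)⁻¹) := by
  unfold t
  have h1 : inr (sg k) * inl (u j) = (inl ((u j)⁻¹) : Gh k) * inr (sg k) := by
    have := inl_aut (φ := (C k).subtype) (sg k) (u j)
    have e : (C k).subtype (sg k) (u j) = (u j)⁻¹ := by
      show sigE k (u j) = _
      rw [sigE_apply, sig_u]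
    rw [e] at this
    rw [this, map_inv, inv_mul_cancel_right]
  calc (inl (u i) * inr (sg k) * (inl (u j) * inr (sg k)) : Gh k)
      = inl (u i) * (inr (sg k) * inl (u j)) * inr (sg k) := by group
    _ = inl (u i) * (inl ((u j)⁻¹) * inr (sg k)) * inr (sg k) := by rw [h1]
    _ = inl (u i) * inl ((u j)⁻¹) * (inr (sg k) * inr (sg k)) := by group
    _ = inl (u i * (u j)⁻¹) := by
      rw [← map_mul, ← map_mul, sg_sq, map_one, mul_one]

theorem A_apply' (n : ℕ) (i j : Fin n) : (CoxeterMatrix.A n) i j = mm i.val j.val := by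
  rw [Cfsg.Agent.S2530.A_apply]
  unfold mm
  by_cases h : i = j
  · rw [if_pos h, if_pos (congrArg Fin.val h)]
  · rw [if_neg h, if_neg (fun e => h (Fin.ext e))]

theorem t_liftable (k : ℕ) : (CoxeterMatrix.A (k + 1)).IsLiftable (t (k := k)) := by
  intro i j
  rw [t_mul_t, ← map_pow, A_apply']
  suffices h : (u i * (u j)⁻¹) ^ mm i.val j.val = 1 by rw [h, map_one]
  refine Fin.cases ?_ (fun a => ?_) i
  · refine Fin.cases ?_ (fun b => ?_) j
    · simp
    · rw [u_zero, one_mul, u_succ, inv_pow, mm_comm]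
      have := key0 b
      simp only [Fin.val_succ, Fin.val_zero] at this ⊢
      rw [this, inv_one]
  · refine Fin.cases ?_ (fun b => ?_) j
    · rw [u_zero, inv_one, mul_one, u_succ]
      have := key0 a
      simpa using this
    · rw [u_succ, u_succ]
      have := key a b
      simpa using this

end Cfsg.Agent.Helper14.AltPres
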