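import Cfsg.Agent.Helper14.AltPres

set_option autoImplicit false

namespace Cfsg.Agent.Helper14.AltPres

open Equiv SemidirectProduct

variable {k : ℕ} (cs : CoxeterSystem (CoxeterMatrix.A (k + 1)) (Perm (Fin (k + 2))))

/-- the homomorphism from the symmetric group onto the extended group -/
noncomputable def Phi : Perm (Fin (k + 2)) →* Gh k := cs.lift ⟨t, t_liftable k⟩

theorem Phi_simple (i : Fin (k + 1)) : Phi cs (cs.simple i) = t i :=
  cs.lift_apply_simple (t_liftable k) i

theorem Phi_surjective : Function.Surjective (Phi cs) := by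
  rw [← MonoidHom.range_eq_top, eq_top_iff]
  have h0 : (inr (sg k) : Gh k) ∈ (Phi cs).range := by
    refine ⟨cs.simple 0, ?_⟩
    rw [Phi_simple]
    unfold t
    rw [u_zero, map_one, one_mul]
  have h1 : ∀ a : Fin k, (inl (x a) : Gh k) ∈ (Phi cs).range := by
    intro a
    refine ⟨cs.simple a.succ * cs.simple 0, ?_⟩
    rw [map_mul, Phi_simple, Phi_simple, t_mul_t, u_succ, u_zero, inv_one, mul_one]
  have h2 : ∀ g : G k, (inl g : Gh k) ∈ (Phi cs).range := by
    intro g
    have : ((Phi cs).range.comap (inl : G k →* Gh k)) = ⊤ := by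
      rw [eq_top_iff, ← PresentedGroup.closure_range_of, Subgroup.closure_le]
      rintro _ ⟨a, rfl⟩
      exact h1 a
    have hg : g ∈ ((Phi cs).range.comap (inl : G k →* Gh k)) := by rw [this]; trivial
    exact hg
  have h3 : ∀ c : C k, (inr c : Gh k) ∈ (Phi cs).range := by
    intro c
    obtain ⟨z, hz⟩ := Subgroup.mem_zpowers_iff.mp c.2
    have : c = sg k ^ z := Subtype.ext (by rw [← hz]; rfl)
    rw [this, map_zpow]
    exact (Phi cs).range.zpow_mem h0 z
  intro y _
  rw [← inl_left_mul_inr_right y]
  exact (Phi cs).range.mul_mem (h2 _) (h3 _)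

/-! ### the map to the symmetric group -/

theorem mm_far (a b : ℕ) (h : a + 1 < b ∨ b + 1 < a) : mm a b = 2 := by
  unfold mm
  split_ifs <;> omega

theorem mm_adj (a b : ℕ) (h : a + 1 = b ∨ b + 1 = a) : mm a b = 3 := by
  unfold mm
  split_ifs <;> omega

theorem simple_comm (i j : Fin (k + 1)) (h : mm i.val j.val = 2) :
    cs.simple i * cs.simple j = cs.simple j * cs.simple i := by
  have h1 := cs.simple_mul_simple_pow i j
  rw [A_apply', h, pow_two] at h1
  have h2 : cs.simple i * cs.simple j = (cs.simple i * cs.simple j)⁻¹ :=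
    (inv_eq_of_mul_eq_one_right h1).symm
  rw [h2, mul_inv_rev, cs.inv_simple, cs.inv_simple]

theorem f_rel : ∀ r ∈ rels k,
    FreeGroup.lift (fun a : Fin k => cs.simple a.succ * cs.simple 0) r = 1 := by
  intro r hr
  have hpow : ∀ (i j : Fin (k + 1)) (n : ℕ), mm i.val j.val = n →
      (cs.simple i * cs.simple j) ^ n = 1 := by
    intro i j n hn
    have := cs.simple_mul_simple_pow i j
    rwa [A_apply', hn] at this
  have hred : ∀ (a b : Fin k), 1 ≤ b.val →
      cs.simple a.succ * cs.simple 0 * (cs.simple b.succ * cs.simple 0) =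
        cs.simple a.succ * cs.simple b.succ := by
    intro a b hb
    have hc : cs.simple 0 * cs.simple b.succ = cs.simple b.succ * cs.simple 0 := by
      apply simple_comm
      rw [Fin.val_zero, Fin.val_succ]
      exact mm_far _ _ (by omega)
    calc cs.simple a.succ * cs.simple 0 * (cs.simple b.succ * cs.simple 0)
        = cs.simple a.succ * (cs.simple 0 * cs.simple b.succ) * cs.simple 0 := by group
      _ = cs.simple a.succ * cs.simple b.succ * (cs.simple 0 * cs.simple 0) := by rw [hc]; group
      _ = _ := by rw [cs.simple_mul_simple_self, mul_one]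
  rcases hr with ((⟨i, hi, rfl⟩ | ⟨i, hi, rfl⟩) | ⟨i, j, hij, rfl⟩) | ⟨i, j, hij, rfl⟩
  · rw [map_pow, FreeGroup.lift_apply_of]
    apply hpow
    rw [Fin.val_zero, Fin.val_succ]
    exact mm_adj _ _ (by omega)
  · rw [map_pow, FreeGroup.lift_apply_of]
    apply hpow
    rw [Fin.val_zero, Fin.val_succ]
    exact mm_far _ _ (by omega)
  · rw [map_pow, map_mul, FreeGroup.lift_apply_of, FreeGroup.lift_apply_of, hred i j (by omega)]
    apply hpow
    rw [Fin.val_succ, Fin.val_succ]
    exact mm_adj _ _ (by omega)
  · rw [map_pow, map_mul, FreeGroup.lift_apply_of, FreeGroup.lift_apply_of, hred i j (by omega)]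
    apply hpow
    rw [Fin.val_succ, Fin.val_succ]
    exact mm_far _ _ (by omega)

/-- the homomorphism `x a ↦ s_{a+1} s_0` -/
noncomputable def f : G k →* Perm (Fin (k + 2)) := PresentedGroup.toGroup (f_rel cs)

theorem f_x (a : Fin k) : f cs (x a) = cs.simple a.succ * cs.simple 0 :=
  PresentedGroup.toGroup.of _

theorem f_sig (g : G k) : f cs (sig k g) = cs.simple 0 * f cs g * cs.simple 0 := by
  have : (f cs).comp (sig k) =
      ((MulAut.conj (cs.simple 0)).toMonoidHom).comp (f cs) := by
    apply PresentedGroup.ext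
    intro a
    show f cs (sig k (x a)) = MulAut.conj (cs.simple 0) (f cs (x a))
    rw [sig_x, map_inv, f_x, MulAut.conj_apply, mul_inv_rev, cs.inv_simple, cs.inv_simple]
    have := cs.simple_mul_simple_self 0
    calc cs.simple 0 * cs.simple a.succ
        = cs.simple 0 * cs.simple a.succ * (cs.simple 0 * cs.simple 0) := by rw [this, mul_one]
      _ = _ := by group
  have h := DFunLike.congr_fun this g
  simp only [MonoidHom.comp_apply] at h
  rw [h]
  show MulAut.conj (cs.simple 0) (f cs g) = _
  rw [MulAut.conj_apply, cs.inv_simple]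

theorem cover (w : Perm (Fin (k + 2))) : w ∈ (f cs).range ∨ w * cs.simple 0 ∈ (f cs).range := by
  have hs0 := cs.simple_mul_simple_self 0
  have hconj : ∀ h ∈ (f cs).range, cs.simple 0 * h * cs.simple 0 ∈ (f cs).range := by
    rintro _ ⟨g, rfl⟩
    exact ⟨sig k g, f_sig cs g⟩
  have hgen : ∀ i : Fin (k + 1), cs.simple i * cs.simple 0 ∈ (f cs).range := by
    intro i
    refine Fin.cases ?_ (fun a => ?_) i
    · rw [hs0]; exact Subgroup.one_mem _
    · exact ⟨x a, f_x cs a⟩
  induction w using cs.simple_induction_left with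
  | one => left; exact Subgroup.one_mem _
  | mul_simple_left w i ih =>
    rcases ih with h | h
    · right
      have e : cs.simple i * w * cs.simple 0 =
          (cs.simple i * cs.simple 0) * (cs.simple 0 * w * cs.simple 0) := by
        calc cs.simple i * w * cs.simple 0
            = cs.simple i * (1 : Perm (Fin (k + 2))) * w * cs.simple 0 := by rw [mul_one]
          _ = _ := by rw [← hs0]; group
      rw [e]
      exact Subgroup.mul_mem _ (hgen i) (hconj w h)
    · left
      have e : cs.simple i * w =
          (cs.simple i * cs.simple 0) * (cs.simple 0 * (w * cs.simple 0) * cs.simple 0) := by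
        calc cs.simple i * w
            = cs.simple i * (1 : Perm (Fin (k + 2))) * w * (1 : Perm (Fin (k + 2))) := by
              rw [mul_one, mul_one]
          _ = _ := by rw [← hs0]; group
      rw [e]
      exact Subgroup.mul_mem _ (hgen i) (hconj _ h)

variable (hcs : ∀ i : Fin (k + 1), cs.simple i = Equiv.swap i.castSucc i.succ)

include hcs in
theorem sign_simple (i : Fin (k + 1)) : Perm.sign (cs.simple i) = -1 := by
  rw [hcs]
  apply Perm.sign_swap
  intro h
  have := congrArg Fin.val h
  simp at this

include hcs in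
theorem range_f : (f cs).range = alternatingGroup (Fin (k + 2)) := by
  apply le_antisymm
  · rintro _ ⟨g, rfl⟩
    have : ((alternatingGroup (Fin (k + 2))).comap (f cs)) = ⊤ := by
      rw [eq_top_iff, ← PresentedGroup.closure_range_of, Subgroup.closure_le]
      rintro _ ⟨a, rfl⟩
      show f cs (x a) ∈ alternatingGroup (Fin (k + 2))
      rw [f_x, Perm.mem_alternatingGroup, map_mul, sign_simple cs hcs, sign_simple cs hcs]
      rfl
    have hg : g ∈ ((alternatingGroup (Fin (k + 2))).comap (f cs)) := by rw [this]; trivial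
    exact hg
  · intro w hw
    rcases cover cs w with h | h
    · exact h
    · exfalso
      obtain ⟨g, hg⟩ := h
      have hmem : f cs g ∈ alternatingGroup (Fin (k + 2)) := by
        have : ((alternatingGroup (Fin (k + 2))).comap (f cs)) = ⊤ := by
          rw [eq_top_iff, ← PresentedGroup.closure_range_of, Subgroup.closure_le]
          rintro _ ⟨a, rfl⟩
          show f cs (x a) ∈ alternatingGroup (Fin (k + 2))
          rw [f_x, Perm.mem_alternatingGroup, map_mul, sign_simple cs hcs, sign_simple cs hcs]
          rfl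
        have hg' : g ∈ ((alternatingGroup (Fin (k + 2))).comap (f cs)) := by rw [this]; trivial
        exact hg'
      rw [hg, Perm.mem_alternatingGroup, map_mul, sign_simple cs hcs] at hmem
      rw [Perm.mem_alternatingGroup] at hw
      rw [hw] at hmem
      revert hmem
      decide

include hcs in
theorem x0_ne_one (hk : 1 ≤ k) : x (⟨0, hk⟩ : Fin k) ≠ 1 := by
  intro h
  have h1 := f_x cs (⟨0, hk⟩ : Fin k)
  rw [h, map_one] at h1
  -- s_1 * s_0 = 1 ⇒ s_1 = s_0
  have h2 : cs.simple (Fin.succ ⟨0, hk⟩) = cs.simple 0 := by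
    have := cs.simple_mul_simple_self 0
    have h3 : cs.simple (Fin.succ ⟨0, hk⟩) * cs.simple 0 = cs.simple 0 * cs.simple 0 := by
      rw [← h1, this]
    exact mul_right_cancel h3
  rw [hcs, hcs] at h2
  have h4 := congrArg (fun p : Perm (Fin (k + 2)) => p 0) h2
  simp only [Fin.castSucc_zero, Fin.succ_zero_eq_one] at h4
  rw [Equiv.swap_apply_left] at h4
  rw [Equiv.swap_apply_of_ne_of_ne] at h4
  · have := congrArg Fin.val h4
    simp at this
  · intro h5
    have := congrArg Fin.val h5
    simp at this
  · intro h5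
    have := congrArg Fin.val h5
    simp at this

include hcs in
theorem card_C (hk : 1 ≤ k) : Nat.card (C k) = 2 := by
  rw [Nat.card_zpowers]
  apply orderOf_eq_prime
  · rw [pow_two]; exact sigE_sq k
  · intro h
    have h1 : sigE k (x ⟨0, hk⟩) = x ⟨0, hk⟩ := by rw [h]; rfl
    rw [sigE_apply, sig_x] at h1
    -- x⁻¹ = x and x^3 = 1 ⇒ x = 1
    have h3 := x_cube (⟨0, hk⟩ : Fin k) rfl
    have h2 : x (⟨0, hk⟩ : Fin k) * x ⟨0, hk⟩ = 1 := by
      nth_rewrite 1 [← h1]
      exact inv_mul_cancel _
    rw [pow_succ, pow_two, h2, one_mul] at h3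
    exact x0_ne_one cs hcs hk h3

include hcs in
/-- **Carmichael's presentation of the alternating group**. -/
theorem main' (hk : 1 ≤ k) : Nonempty (G k ≃* alternatingGroup (Fin (k + 2))) := by
  have hsurj := Phi_surjective cs
  have : Finite (Gh k) := Finite.of_surjective _ hsurj
  have : Finite (G k) := Finite.of_injective _ (inl_injective (φ := (C k).subtype))
  have hcard1 : Nat.card (Gh k) ≤ Nat.card (Perm (Fin (k + 2))) :=
    Nat.card_le_card_of_surjective _ hsurj
  rw [SemidirectProduct.card, card_C cs hcs hk,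
    ← two_mul_nat_card_alternatingGroup (α := Fin (k + 2))] at hcard1
  have hcard : Nat.card (G k) ≤ Nat.card (alternatingGroup (Fin (k + 2))) := by omega
  have hmem : ∀ g, f cs g ∈ alternatingGroup (Fin (k + 2)) := by
    intro g
    rw [← range_f cs hcs]
    exact ⟨g, rfl⟩
  let f' : G k →* alternatingGroup (Fin (k + 2)) := (f cs).codRestrict _ hmem
  have hs : Function.Surjective f' := by
    rintro ⟨w, hw⟩
    rw [← range_f cs hcs] at hw
    obtain ⟨g, hg⟩ := hw
    exact ⟨g, Subtype.ext hg⟩
  exact ⟨MulEquiv.ofBijective f' (hs.bijective_of_nat_card_le hcard)⟩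

theorem main (k : ℕ) (hk : 1 ≤ k) : Nonempty (G k ≃* alternatingGroup (Fin (k + 2))) := by
  obtain ⟨cs, hcs⟩ := Cfsg.Agent.S2530.result (k + 1)
  exact main' cs hcs hk

end Cfsg.Agent.Helper14.AltPres
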