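import Mathlib
import Cfsg.Agent.Helper29.AltPronDefs
import Cfsg.Agent.Helper29.AltPronBasics

set_option autoImplicit false

/-!
# S2222 piece OSP: orbit counting when orbits split
-/

namespace Cfsg.Agent.Helper14.AltPron

open MulAction Equiv Cfsg.Agent.Helper29.AltPron
open scoped Pointwise Nat

variable {α : Type*} [Fintype α] [DecidableEq α]

/-- a surjection with a non-injective fibre loses at least one -/
theorem card_add_one_le_of_surj {A B : Type*} [Finite A] (f : A → B)
    (hf : Function.Surjective f) (a1 a2 : A) (h12 : a1 ≠ a2) (hf12 : f a1 = f a2) :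
    Nat.card B + 1 ≤ Nat.card A := by
  classical
  haveI := Fintype.ofFinite A
  haveI : Finite B := Finite.of_surjective f hf
  haveI := Fintype.ofFinite B
  rw [Nat.card_eq_fintype_card, Nat.card_eq_fintype_card]
  have hs : Set.SurjOn f ((Finset.univ.erase a2 : Finset A) : Set A)
      ((Finset.univ : Finset B) : Set B) := by
    intro b _
    obtain ⟨a, ha⟩ := hf b
    by_cases h : a = a2
    · refine ⟨a1, ?_, ?_⟩
      · simp [h12]
      · rw [hf12, ← h, ha]
    · exact ⟨a, by simp [h], ha⟩
  have := Finset.card_le_card_of_surjOn f hs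
  rw [Finset.card_univ, Finset.card_erase_of_mem (Finset.mem_univ _), Finset.card_univ] at this
  have hpos : 0 < Fintype.card A := Fintype.card_pos_iff.mpr ⟨a1⟩
  omega

/-- a surjection with two non-injective fibres over different points loses at least two -/
theorem card_add_two_le_of_surj {A B : Type*} [Finite A] (f : A → B)
    (hf : Function.Surjective f) (a1 a2 a1' a2' : A) (h12 : a1 ≠ a2) (hf12 : f a1 = f a2)
    (h12' : a1' ≠ a2') (hf12' : f a1' = f a2') (hne : f a1 ≠ f a1') :
    Nat.card B + 2 ≤ Nat.card A := by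
  classical
  haveI := Fintype.ofFinite A
  haveI : Finite B := Finite.of_surjective f hf
  haveI := Fintype.ofFinite B
  rw [Nat.card_eq_fintype_card, Nat.card_eq_fintype_card]
  have h22' : a2 ≠ a2' := by
    intro h; apply hne; rw [hf12, hf12', h]
  have h12'' : a1 ≠ a2' := by
    intro h; apply hne; rw [hf12', h]
  have h1'2 : a1' ≠ a2 := by
    intro h; apply hne; rw [hf12, h]
  have hs : Set.SurjOn f ((((Finset.univ : Finset A).erase a2).erase a2' : Finset A) : Set A)
      ((Finset.univ : Finset B) : Set B) := by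
    intro b _
    obtain ⟨a, ha⟩ := hf b
    by_cases h : a = a2
    · refine ⟨a1, ?_, ?_⟩
      · simp [h12, h12'']
      · rw [hf12, ← h, ha]
    · by_cases h' : a = a2'
      · refine ⟨a1', ?_, ?_⟩
        · simp [h12', h1'2]
        · rw [hf12', ← h', ha]
      · exact ⟨a, by simp [h, h'], ha⟩
  have := Finset.card_le_card_of_surjOn f hs
  rw [Finset.card_univ, Finset.card_erase_of_mem (by simp [h22'.symm]),
    Finset.card_erase_of_mem (Finset.mem_univ _), Finset.card_univ] at this
  have h3 : 2 ≤ Fintype.card A := by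
    have : ({a1, a2} : Finset A).card ≤ Fintype.card A := Finset.card_le_univ _
    rwa [Finset.card_pair h12] at this
  omega

/-- the natural map between orbit spaces -/
noncomputable def quotMap {Q P : Subgroup (Perm α)} (h : Q ≤ P) :
    orbitRel.Quotient Q α → orbitRel.Quotient P α :=
  Quotient.map' (s₁ := orbitRel Q α) (s₂ := orbitRel P α) id (by
    intro a b hab
    rw [orbitRel_apply] at hab ⊢
    exact orbit_subset_of_le h b hab)

theorem quotMap_mk {Q P : Subgroup (Perm α)} (h : Q ≤ P) (x : α) :
    quotMap h (Quotient.mk'' x) = Quotient.mk'' x := rfl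

theorem quotMap_surjective {Q P : Subgroup (Perm α)} (h : Q ≤ P) :
    Function.Surjective (quotMap h) := by
  intro b
  induction b using Quotient.inductionOn' with
  | h x => exact ⟨Quotient.mk'' x, rfl⟩

/-- a splitting orbit gives two different `Q`-orbits with the same `P`-orbit -/
theorem exists_split {Q P : Subgroup (Perm α)} (h : Q ≤ P) (x : α)
    (hx : orbit Q x ≠ orbit P x) :
    ∃ z : α, z ∈ orbit P x ∧ (Quotient.mk'' x : orbitRel.Quotient Q α) ≠ Quotient.mk'' z := by
  have hsub : orbit Q x ⊆ orbit P x := orbit_subset_of_le h x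
  have : ¬ orbit P x ⊆ orbit Q x := fun h' => hx (Set.Subset.antisymm hsub h')
  obtain ⟨z, hzP, hzQ⟩ := Set.not_subset.mp this
  refine ⟨z, hzP, ?_⟩
  intro heq
  apply hzQ
  have := Quotient.exact' heq
  rw [orbitRel_apply] at this
  -- x ∈ orbit Q z, so z ∈ orbit Q x
  exact (orbit_eq_iff.mpr this) ▸ mem_orbit_self z

theorem split1 : Split1 α := by
  intro Q P h x hx
  obtain ⟨z, hzP, hne⟩ := exists_split h x hx
  have hfeq : quotMap h (Quotient.mk'' x) = quotMap h (Quotient.mk'' z) := by
    rw [quotMap_mk, quotMap_mk]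
    apply Quotient.sound'
    rw [orbitRel_apply]
    exact (orbit_eq_iff.mpr hzP) ▸ mem_orbit_self x
  exact card_add_one_le_of_surj (quotMap h) (quotMap_surjective h) _ _ hne hfeq

theorem split2 : Split2 α := by
  intro Q P h x x' hxx' hx hx'
  obtain ⟨z, hzP, hne⟩ := exists_split h x hx
  obtain ⟨z', hzP', hne'⟩ := exists_split h x' hx'
  have hfeq : quotMap h (Quotient.mk'' x) = quotMap h (Quotient.mk'' z) := by
    rw [quotMap_mk, quotMap_mk]
    apply Quotient.sound'
    rw [orbitRel_apply]
    exact (orbit_eq_iff.mpr hzP) ▸ mem_orbit_self x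
  have hfeq' : quotMap h (Quotient.mk'' x') = quotMap h (Quotient.mk'' z') := by
    rw [quotMap_mk, quotMap_mk]
    apply Quotient.sound'
    rw [orbitRel_apply]
    exact (orbit_eq_iff.mpr hzP') ▸ mem_orbit_self x'
  have hnexx' : quotMap h (Quotient.mk'' x) ≠ quotMap h (Quotient.mk'' x') := by
    rw [quotMap_mk, quotMap_mk]
    intro heq
    have := Quotient.exact' heq
    rw [orbitRel_apply] at this
    exact hxx' (orbit_eq_iff.mpr this)
  exact card_add_two_le_of_surj (quotMap h) (quotMap_surjective h) _ _ _ _ hne hfeq hne' hfeq'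
    hnexx'

end Cfsg.Agent.Helper14.AltPron
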