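import Mathlib
import Cfsg.Agent.Helper29.AltPronDefs
import Cfsg.Agent.Helper29.AltPronBasics

set_option autoImplicit false

/-!
# S2222 piece UQ: at most one subgroup of index two over a point stabilizer
-/

namespace Cfsg.Agent.Helper14.AltPron

open MulAction Equiv Cfsg.Agent.Helper29.AltPron
open scoped Pointwise Nat

variable {α : Type*} [Fintype α] [DecidableEq α]

/-- two distinct subgroups of index two meet in a subgroup of index two of each -/
theorem card_inf_of_index_two {P Q Q' : Subgroup (Perm α)} (hQ : Q ≤ P) (hQ' : Q' ≤ P)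
    (hidx : 2 * Nat.card Q = Nat.card P) (hidx' : 2 * Nat.card Q' = Nat.card P) (hne : Q ≠ Q') :
    2 * Nat.card ↥(Q ⊓ Q') = Nat.card Q := by
  -- an element of Q outside Q'
  have hnle : ¬ Q ≤ Q' := by
    intro hle
    apply hne
    apply Subgroup.eq_of_le_of_card_ge hle
    omega
  obtain ⟨g', hg'Q, hg'Q'⟩ := SetLike.not_le_iff_exists.mp hnle
  have h2' : (Q'.subgroupOf P).index = 2 := index_subgroupOf_eq_two hQ' hidx'
  -- the index of R in Q
  have hidxR : ((Q ⊓ Q').subgroupOf Q).index = 2 := by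
    rw [Subgroup.index_eq_two_iff]
    refine ⟨⟨g', hg'Q⟩, ?_⟩
    intro b
    have hbP : (b : Perm α) ∈ P := hQ b.2
    have hmul := Subgroup.mul_mem_iff_of_index_two h2'
      (a := (⟨(b : Perm α), hbP⟩ : ↥P)) (b := (⟨g', hQ hg'Q⟩ : ↥P))
    simp only [Subgroup.mem_subgroupOf, Subgroup.coe_mul] at hmul
    have hbg : ((b * ⟨g', hg'Q⟩ : ↥Q) : Perm α) = (b : Perm α) * g' := rfl
    simp only [Subgroup.mem_subgroupOf, Subgroup.mem_inf, hbg]
    have hbgQ : (b : Perm α) * g' ∈ Q := Q.mul_mem b.2 hg'Q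
    by_cases hb : (b : Perm α) ∈ Q'
    · right
      refine ⟨⟨b.2, hb⟩, ?_⟩
      intro h
      exact hg'Q' ((hmul.mp h.2).mp hb)
    · left
      refine ⟨⟨hbgQ, ?_⟩, fun h => hb h.2⟩
      apply hmul.mpr
      constructor
      · intro h; exact absurd h hb
      · intro h; exact absurd h hg'Q'
  have h1 := Subgroup.card_mul_index ((Q ⊓ Q').subgroupOf Q)
  have h2 : Nat.card ((Q ⊓ Q').subgroupOf Q) = Nat.card ↥(Q ⊓ Q') :=
    Nat.card_congr (Subgroup.subgroupOfEquivOfLe inf_le_left).toEquiv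
  rw [hidxR, h2] at h1
  omega

theorem stab_eq_of_le {P Q : Subgroup (Perm α)} {ω : α} (hQ : Q ≤ P) (hst : stab P ω ≤ Q) :
    stab Q ω = stab P ω := by
  ext p
  rw [mem_stab, mem_stab]
  constructor
  · rintro ⟨hp, hpω⟩; exact ⟨hQ hp, hpω⟩
  · rintro ⟨hp, hpω⟩; exact ⟨hst (mem_stab.mpr ⟨hp, hpω⟩), hpω⟩

theorem uniqueIdx2 (hI : Inherit α) : UniqueIdx2 α := by
  intro P Q Q' hP ω hω hQ hQ' hidx hidx' hst hst'
  by_contra hne
  have hQne : Q ≠ ⊥ := by
    intro h; apply hω; rw [eq_bot_iff, ← h]; exact hst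
  obtain ⟨hQt, -⟩ := hI P Q hP hQ hidx hQne ω hst
  set R := Q ⊓ Q' with hR
  have hRQ : R ≤ Q := inf_le_left
  have hstR : stab P ω ≤ R := le_inf hst hst'
  have hRne : R ≠ ⊥ := by
    intro h; apply hω; rw [eq_bot_iff, ← h]; exact hstR
  have hRidx : 2 * Nat.card R = Nat.card Q := card_inf_of_index_two hQ hQ' hidx hidx' hne
  have hstQ : stab Q ω = stab P ω := stab_eq_of_le hQ hst
  have hstRR : stab R ω = stab P ω := stab_eq_of_le (hRQ.trans hQ) hstR
  obtain ⟨-, hno⟩ := hI Q R hQt hRQ hRidx hRne ω (hstQ ▸ hstR)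
  -- an element of P outside Q
  have hnle : ¬ P ≤ Q := by
    intro hle
    have := Subgroup.card_le_of_le hle
    have hpos : 0 < Nat.card Q := Nat.card_pos
    omega
  obtain ⟨g, hgP, hgQ⟩ := SetLike.not_le_iff_exists.mp hnle
  have hgω : g ω ∉ orbit Q ω := by
    intro hmem
    obtain ⟨q, hq, hqω⟩ := mem_orbit_sub.mp hmem
    apply hgQ
    have hmem2 : q⁻¹ * g ∈ stab P ω := by
      rw [mem_stab]
      refine ⟨P.mul_mem (P.inv_mem (hQ hq)) hgP, ?_⟩
      rw [Perm.mul_apply, ← hqω]; simp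
    have := Q.mul_mem hq (hst hmem2)
    rwa [mul_inv_cancel_left] at this
  have hsame := hno (g ω) hgω
  have hgQn : Normalizes g Q := normalizes_of_index_two hQ hidx hgP
  have hgQ'n : Normalizes g Q' := normalizes_of_index_two hQ' hidx' hgP
  have hgRn : Normalizes g R := by
    intro p
    rw [hR, Subgroup.mem_inf, Subgroup.mem_inf, ← hgQn p, ← hgQ'n p]
  rw [← image_orbit_of_normalizes g hgRn ω, ← image_orbit_of_normalizes g hgQn ω] at hsame
  have hcard : (orbit R ω).ncard = (orbit Q ω).ncard := by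
    have := congrArg Set.ncard hsame
    rwa [Set.ncard_image_of_injective _ g.injective, Set.ncard_image_of_injective _ g.injective]
      at this
  have h1 := card_stab_mul R ω
  have h2 := card_stab_mul Q ω
  rw [hstRR] at h1
  rw [hstQ, ← hcard] at h2
  have hpos : 0 < Nat.card R := Nat.card_pos
  omega

end Cfsg.Agent.Helper14.AltPron
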