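import Cfsg.Agent.Helper14.Coset2
import Cfsg.Agent.Helper14.PCore

set_option autoImplicit false

namespace Cfsg.Agent.Helper14

open Cfsg

variable {X : Type*} [Group X] {p : ℕ} [Fact p.Prime] (M₁ M₂ : Subgroup X)

/-- If a Sylow `p`-subgroup of `K ≤ M` has the order of a Sylow `p`-subgroup of the finite group `M`, then `O_p(M) ≤ K`. -/
theorem pCoreOf_le_of_sylow_card {M K : Subgroup X} [Finite M] (hKM : K ≤ M)
    (h : ∀ S : Sylow p ↥K, ∀ P : Sylow p ↥M, Nat.card S = Nat.card P) :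
    pCoreOf p M ≤ K := by
  obtain ⟨S⟩ : Nonempty (Sylow p ↥K) := inferInstance
  -- the image of S in X
  set S' : Subgroup X := (S : Subgroup ↥K).map K.subtype with hS'
  have hS'K : S' ≤ K := by
    rintro _ ⟨x, _, rfl⟩; exact x.2
  have hS'p : IsPGroup p ↥S' := S.isPGroup'.map _
  have hcard : Nat.card ↥S' = Nat.card ↥(S : Subgroup ↥K) :=
    Nat.card_congr ((S : Subgroup ↥K).equivMapOfInjective _ K.subtype_injective).symm.toEquiv
  have hsp : IsPGroup p ↥(S'.subgroupOf M) := hS'p.comap_subtype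
  obtain ⟨P, hP⟩ := hsp.exists_le_sylow
  have hcard2 : Nat.card ↥(S'.subgroupOf M) = Nat.card ↥S' :=
    Nat.card_congr (Subgroup.subgroupOfEquivOfLe (hS'K.trans hKM)).toEquiv
  have heq : S'.subgroupOf M = (P : Subgroup ↥M) := by
    apply Subgroup.eq_of_le_of_card_ge hP
    rw [hcard2, hcard]
    exact (h S P).ge
  have h1 : pCore p ↥M ≤ S'.subgroupOf M := by
    rw [heq]; exact pCore_le_sylow p P
  rintro _ ⟨x, hx, rfl⟩
  have := h1 hx
  rw [Subgroup.mem_subgroupOf] at this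
  exact hS'K this

theorem charP_pCoreOf_le_inf (h : IsCharPAmalgamPair p M₁ M₂) :
    pCoreOf p M₁ ≤ M₁ ⊓ M₂ ∧ pCoreOf p M₂ ≤ M₁ ⊓ M₂ := by
  obtain ⟨_, hf1, hf2, _, _, hsyl, _, _⟩ := h
  obtain ⟨P₁⟩ : Nonempty (Sylow p ↥M₁) := inferInstance
  obtain ⟨P₂⟩ : Nonempty (Sylow p ↥M₂) := inferInstance
  constructor
  · exact pCoreOf_le_of_sylow_card inf_le_left (fun S P => (hsyl S P P₂).1)
  · exact pCoreOf_le_of_sylow_card inf_le_right (fun S P => (hsyl S P₁ P).2)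

theorem vertexQ_le_neighbourKernel (h : IsCharPAmalgamPair p M₁ M₂) (δ : CosetVertex M₁ M₂) :
    vertexQ p δ ≤ neighbourKernel δ := by
  obtain ⟨h1, h2⟩ := charP_pCoreOf_le_inf M₁ M₂ h
  unfold neighbourKernel
  refine le_inf (pCoreOf_le p _) (le_iInf₂ fun μ hμ => ?_)
  rw [SimpleGraph.mem_neighborSet] at hμ
  rcases δ with a | a
  · obtain ⟨x, rfl⟩ := exists_rep_inl M₁ a
    obtain ⟨m, hm, rfl⟩ := (adj_inl_iff M₁ M₂ x μ).1 hμ
    have e : (Sum.inl ((x : X) : X ⧸ M₁) : CosetVertex M₁ M₂) = Sum.inl (((x * m : X)) : X ⧸ M₁) := by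
      congr 1; rw [QuotientGroup.eq]; simpa using hm
    show pCoreOf p (MulAction.stabilizer X (Sum.inl ((x : X) : X ⧸ M₁) : CosetVertex M₁ M₂)) ≤ _
    rw [e, stab_inl, stab_inr, pCoreOf_map_conj]
    exact Subgroup.map_mono (h1.trans inf_le_right)
  · obtain ⟨x, rfl⟩ := exists_rep_inr M₂ a
    obtain ⟨m, hm, rfl⟩ := (adj_inr_iff M₁ M₂ x μ).1 hμ
    have e : (Sum.inr ((x : X) : X ⧸ M₂) : CosetVertex M₁ M₂) = Sum.inr (((x * m : X)) : X ⧸ M₂) := by
      congr 1; rw [QuotientGroup.eq]; simpa using hm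
    show pCoreOf p (MulAction.stabilizer X (Sum.inr ((x : X) : X ⧸ M₂) : CosetVertex M₁ M₂)) ≤ _
    rw [e, stab_inl, stab_inr, pCoreOf_map_conj]
    exact Subgroup.map_mono (h2.trans inf_le_left)

end Cfsg.Agent.Helper14
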