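import Cfsg.Agent.Helper14.FrakM2

set_option autoImplicit false
set_option linter.unusedSectionVars false
set_option linter.style.haveILetI false

namespace Cfsg.Agent.Helper14

open Cfsg

open scoped Pointwise

section AsymA

variable {G : Type*} [Group G]

/-- Two conjugates of an asymmetric subgroup that normalize each other commute. -/
theorem asym_commute {Y : Subgroup G} (hasym : ¬ IsSymmetricIn Y) (A B : Subgroup G)
    (hA : ∃ a, A = Y.map (cj a)) (hB : ∃ b, B = Y.map (cj b))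
    (h1 : A ≤ Subgroup.normalizer (B : Set G)) (h2 : B ≤ Subgroup.normalizer (A : Set G)) :
    A ≤ Subgroup.centralizer (B : Set G) := by
  obtain ⟨a, rfl⟩ := hA
  obtain ⟨b, rfl⟩ := hB
  have e1 : (Y.map (cj a)).map (cj a⁻¹) = Y := map_cj_map_cj_inv Y a
  have e2 : (Y.map (cj b)).map (cj a⁻¹) = Y.map (cj (a⁻¹ * b)) := map_cj_mul Y a⁻¹ b
  have h1' : Y ≤ Subgroup.normalizer ((Y.map (cj (a⁻¹ * b)) : Subgroup G) : Set G) := by
    have := Subgroup.map_mono (f := cj a⁻¹) h1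
    rwa [map_cj_normalizer, e1, e2] at this
  have h2' : Y.map (cj (a⁻¹ * b)) ≤ Subgroup.normalizer (Y : Set G) := by
    have := Subgroup.map_mono (f := cj a⁻¹) h2
    rwa [map_cj_normalizer, e1, e2] at this
  have h4 : ⁅Y, Y.map (cj (a⁻¹ * b))⁆ ≤ Y ⊓ Y.map (cj (a⁻¹ * b)) :=
    le_inf (commutator_le_left_of_le_normalizer h2') (commutator_le_right_of_le_normalizer h1')
  have h5 : ⁅Y, Y.map (cj (a⁻¹ * b))⁆ = ⊥ := by
    by_contra hne
    exact hasym ⟨a⁻¹ * b, hne, h4⟩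
  have h6 : Y ≤ Subgroup.centralizer ((Y.map (cj (a⁻¹ * b)) : Subgroup G) : Set G) :=
    Subgroup.commutator_eq_bot_iff_le_centralizer.1 h5
  have h7 := Subgroup.map_mono (f := cj a) h6
  rw [map_cj_centralizer, map_cj_mul] at h7
  have : a * (a⁻¹ * b) = b := by group
  rwa [this] at h7

/-- The amalgam-type lemma: no critical pairs in the asymmetric case. -/
theorem asym_closure_le {Y L : Subgroup G} (hasym : ¬ IsSymmetricIn Y)
    (Yf Qf Nf : Bool → Subgroup G)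
    (hconj : ∀ i, ∃ a, Yf i = Y.map (cj a))
    (hYQ : ∀ i, Yf i ≤ Qf i) (hQL : ∀ i, Qf i ≤ L) (hLN : ∀ i, L ≤ Nf i)
    (hNQ : ∀ i, Nf i ≤ Subgroup.normalizer (Qf i : Set G))
    (hNY : ∀ i, Nf i ≤ Subgroup.normalizer (Yf i : Set G))
    (hcent : ∀ i, L ⊓ Subgroup.centralizer (Yf i : Set G) ≤ Qf i) :
    ∀ x ∈ ⨆ i, Nf i, ∀ i j, (Yf i).map (cj x) ≤ Qf j := by
  set U : Set G := ⋃ i, (Nf i : Set G) with hU
  have hUinv : U⁻¹ = U := by
    ext x
    rw [Set.mem_inv, hU, Set.mem_iUnion, Set.mem_iUnion]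
    constructor
    · rintro ⟨i, hi⟩
      exact ⟨i, by simpa using (Nf i).inv_mem hi⟩
    · rintro ⟨i, hi⟩
      exact ⟨i, (Nf i).inv_mem hi⟩
  have hinv : ∀ n : ℕ, ∀ w ∈ U ^ n, w⁻¹ ∈ U ^ n := by
    intro n w hw
    have : w⁻¹ ∈ (U ^ n)⁻¹ := Set.inv_mem_inv.2 hw
    rwa [← inv_pow, hUinv] at this
  -- the step
  have step : ∀ (w : G) (i j : Bool), (∃ k, (Yf i).map (cj w) ≤ Qf k) →
      (∃ k', (Yf j).map (cj w⁻¹) ≤ Qf k') → (Yf i).map (cj w) ≤ Qf j := by
    intro w i j ⟨k, hk⟩ ⟨k', hk'⟩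
    have hAL : (Yf i).map (cj w) ≤ L := hk.trans (hQL k)
    have h1 : (Yf i).map (cj w) ≤ Subgroup.normalizer (Yf j : Set G) :=
      hAL.trans ((hLN j).trans (hNY j))
    have h2 : Yf j ≤ Subgroup.normalizer (((Yf i).map (cj w) : Subgroup G) : Set G) := by
      have h3 : (Yf j).map (cj w⁻¹) ≤ Subgroup.normalizer (Yf i : Set G) :=
        hk'.trans ((hQL k').trans ((hLN i).trans (hNY i)))
      have := Subgroup.map_mono (f := cj w) h3
      rwa [map_cj_inv_map_cj, map_cj_normalizer] at this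
    have hAconj : ∃ a, (Yf i).map (cj w) = Y.map (cj a) := by
      obtain ⟨a, ha⟩ := hconj i
      exact ⟨w * a, by rw [ha, map_cj_mul]⟩
    have h4 := asym_commute hasym _ _ hAconj (hconj j) h1 h2
    exact (le_inf hAL h4).trans (hcent j)
  -- decomposition of U * U^n
  have dec : ∀ n : ℕ, (∀ w ∈ U ^ n, ∀ i j, (Yf i).map (cj w) ≤ Qf j) →
      ∀ w ∈ U ^ (n + 1), ∀ i, ∃ k, (Yf i).map (cj w) ≤ Qf k := by
    intro n ih w hw i
    rw [pow_succ', Set.mem_mul] at hw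
    obtain ⟨m, hm, w', hw', rfl⟩ := hw
    rw [hU, Set.mem_iUnion] at hm
    obtain ⟨k, hk⟩ := hm
    refine ⟨k, ?_⟩
    rw [← map_cj_mul]
    have h1 := Subgroup.map_mono (f := cj m) (ih w' hw' i k)
    rwa [mem_normalizer_iff_map_cj.1 (hNQ k hk)] at h1
  have key : ∀ n : ℕ, ∀ w ∈ U ^ n, ∀ i j, (Yf i).map (cj w) ≤ Qf j := by
    intro n
    induction n with
    | zero =>
      intro w hw i j
      rw [pow_zero, Set.mem_one] at hw
      subst hw
      apply step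
      · exact ⟨i, by rw [map_cj_one]; exact hYQ i⟩
      · exact ⟨j, by rw [inv_one, map_cj_one]; exact hYQ j⟩
    | succ n ih =>
      intro w hw i j
      exact step w i j (dec n ih w hw i) (dec n ih w⁻¹ (hinv _ w hw) j)
  intro x hx
  have hex : ∃ n : ℕ, x ∈ U ^ n := by
    rw [Subgroup.iSup_eq_closure] at hx
    induction hx using Subgroup.closure_induction with
    | mem y hy => exact ⟨1, by rw [pow_one]; exact hy⟩
    | one => exact ⟨0, by rw [pow_zero]; exact Set.mem_one.2 rfl⟩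
    | mul y z _ _ ihy ihz =>
      obtain ⟨a, ha⟩ := ihy
      obtain ⟨b, hb⟩ := ihz
      exact ⟨a + b, by rw [pow_add]; exact Set.mul_mem_mul ha hb⟩
    | inv y _ ihy =>
      obtain ⟨a, ha⟩ := ihy
      exact ⟨a, hinv a y ha⟩
  obtain ⟨n, hn⟩ := hex
  exact key n x hn

end AsymA

end Cfsg.Agent.Helper14
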