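import Cfsg.Agent.Helper14.Asym10

set_option autoImplicit false
set_option linter.unusedSectionVars false
set_option linter.style.haveILetI false

namespace Cfsg.Agent.Helper14

open Cfsg
open scoped commutatorElement

section AsymK

variable {G : Type*} [Group G] [Finite G] {p : ℕ} [Fact p.Prime]

namespace FrakMSetup

variable {S : Sylow p G} {Q M : Subgroup G} (h : FrakMSetup p S Q M)

include h

/-- `N_G(Y_M) = M†`. -/
theorem normalizer_Y_eq :
    Subgroup.normalizer (((largestPReducedOf p M) : Subgroup G) : Set G) =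
      M ⊔ Subgroup.centralizer (((largestPReducedOf p M) : Subgroup G) : Set G) := by
  apply le_antisymm _ h.le_normalizer_Y
  by_cases hY : largestPReducedOf p M = ⊥
  · have : Subgroup.centralizer (((largestPReducedOf p M) : Subgroup G) : Set G) = ⊤ := by
      rw [hY, Subgroup.coe_bot, Subgroup.centralizer_eq_top_iff_subset]
      intro x hx
      rw [Set.mem_singleton_iff] at hx
      rw [hx]; exact Subgroup.one_mem _
    rw [this, sup_top_eq]
    exact le_top
  · have hYp : IsPGroup p ↥(largestPReducedOf p M) :=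
      (pCoreOf_isPGroup p M).to_le (largestPReducedOf_le_pCoreOf (p := p) M)
    have hMN : M ≤ Subgroup.normalizer (((largestPReducedOf p M) : Subgroup G) : Set G) :=
      le_sup_left.trans h.le_normalizer_Y
    have h1 := normalizer_mem_charPSubgroups h.hQp h.hQ1 h.hQ S (largestPReducedOf p M) hY hYp
      (h.hSM.trans hMN)
    obtain ⟨X, hX, hNX⟩ := exists_le_maxCharP _ h1
    have := h.hM.2.2.1 X hX (hMN.trans hNX)
    rw [← this]; exact hNX

/-- S2854, the group-theoretic part. -/
theorem frakH_conj_Q (hasym : ¬ IsSymmetricIn (largestPReducedOf p M)) {H : Subgroup G}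
    (hH : IsInFrakH p M H) (Qg : Subgroup G) (hQgp : IsPGroup p ↥Qg)
    (hHQ : H ≤ Subgroup.normalizer (Qg : Set G)) :
    Qg ≤ pCoreOf p (H ⊔ Qg) ∧
    pCoreOf p (H ⊔ Qg) ≤ Subgroup.normalizer (((pCoreOf p M) : Subgroup G) : Set G) ∧
    H ⊔ Qg ≤ Subgroup.normalizer (H : Set G) ∧
    (pResidual p ↥H).map H.subtype = (pResidual p ↥(H ⊔ Qg)).map (H ⊔ Qg).subtype ∧
    IsPIrreducible p ↥(H ⊔ Qg) := by
  set Y := largestPReducedOf p M with hY
  set QM := pCoreOf p M with hQM
  set Ht := H ⊔ Qg with hHt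
  set R := (pResidual p ↥H).map H.subtype with hR
  have hQH : QM ≤ H := hH.2.1
  have hYQ : Y ≤ QM := largestPReducedOf_le_pCoreOf (p := p) M
  have hQp : IsPGroup p ↥QM := pCoreOf_isPGroup p M
  have hHHt : H ≤ Ht := le_sup_left
  obtain ⟨h3, h4, h5, h6⟩ := h.frakH_structure hH
  have hRcl : R = Subgroup.closure {b : G | b ∈ H ∧ Nat.Coprime (orderOf b) p} :=
    pResidualOf_eq_closure H
  -- (a)
  have hHtQ : Ht ≤ Subgroup.normalizer (Qg : Set G) := sup_le hHQ Subgroup.le_normalizer
  have ha : Qg ≤ pCoreOf p Ht := le_pCoreOf p le_sup_right hHtQ hQgp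
  -- (b)
  have hb : pCoreOf p Ht ≤ Subgroup.normalizer ((QM : Subgroup G) : Set G) := by
    have hP : IsPGroup p ↥(QM ⊔ pCoreOf p Ht) :=
      IsPGroup.to_sup_of_normal_right' hQp (pCoreOf_isPGroup p Ht)
        ((hQH.trans hHHt).trans (le_normalizer_pCoreOf p Ht))
    exact le_sup_right.trans
      (wc_le_normalizer (wcs_of_le_pGroup (h.wcs_QM hasym) hP le_sup_left))
  -- (e)
  have hQgQM : ∀ x : ↥H, Qg ≤ Subgroup.normalizer ((QM.map (cj (x : G)) : Subgroup G) : Set G) := by
    intro x
    have h1 : Qg.map (cj (x : G)) = Qg := mem_normalizer_iff_map_cj.1 (hHQ x.2)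
    rw [← map_cj_normalizer, ← h1]
    exact Subgroup.map_mono (ha.trans hb)
  have hQgH : Qg ≤ Subgroup.normalizer (H : Set G) := by
    apply le_normalizer_of_map_cj_le
    intro x hx
    conv_lhs => rw [← h6]
    rw [Subgroup.map_iSup]
    refine iSup_le fun y => ?_
    have h1 : (QM.map (cj (y : G))).map (cj x) = QM.map (cj (y : G)) :=
      mem_normalizer_iff_map_cj.1 (hQgQM y hx)
    rw [h1]
    conv_rhs => rw [← h6]
    exact le_iSup (fun x : ↥H => QM.map (cj (x : G))) y
  have he : Ht ≤ Subgroup.normalizer (H : Set G) := sup_le Subgroup.le_normalizer hQgH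
  -- `p'`-elements of `Ht` lie in `H`
  have hcopH : ∀ b ∈ Ht, Nat.Coprime (orderOf b) p → b ∈ H := fun b hb hc =>
    mem_of_coprime_of_mem_sup' H Qg hQgH hQgp hb hc
  -- (f)
  have hf : R = (pResidual p ↥Ht).map Ht.subtype := by
    rw [hRcl, pResidualOf_eq_closure Ht]
    congr 1
    ext b
    constructor
    · rintro ⟨hb, hc⟩; exact ⟨hHHt hb, hc⟩
    · rintro ⟨hb, hc⟩; exact ⟨hcopH b hb hc, hc⟩
  refine ⟨ha, hb, he, hf, ?_, ?_⟩
  · -- not `p`-closed
    intro hcl
    have h1 : QM ≤ pCoreOf p Ht :=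
      le_pCoreOf_of_isPClosed le_rfl Subgroup.le_normalizer hcl (hQH.trans hHHt) hQp
    have h2 : pCoreOf p Ht ⊓ H ≤ pCoreOf p H := by
      apply le_pCoreOf p inf_le_right _ ((pCoreOf_isPGroup p Ht).to_le inf_le_left)
      exact le_normalizer_inf (hHHt.trans (le_normalizer_pCoreOf p Ht)) Subgroup.le_normalizer
    exact hH.2.2.1 ((le_inf (hYQ.trans h1) (hYQ.trans hQH)).trans h2)
  · intro N hNn hNcl
    by_contra hRN
    set NG := N.map Ht.subtype with hNG
    have hNGHt : NG ≤ Ht := map_subtype_le _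
    have hHtNG : Ht ≤ Subgroup.normalizer (NG : Set G) := by
      have := (Subgroup.normal_subgroupOf_iff_le_normalizer hNGHt).1 (by
        rw [hNG, subgroupOf_map_subtype']; exact hNn)
      exact this
    set P₃ := (NG ⊔ QM) ⊓ H with hP₃
    have hQP₃ : QM ≤ P₃ := le_inf le_sup_right hQH
    have hP₃ne : P₃ ≠ H := by
      intro heq
      apply hRN
      have h1 : H ≤ NG ⊔ QM := by rw [← heq]; exact inf_le_left
      have h2 : R ≤ NG := by
        rw [hRcl, Subgroup.closure_le]
        rintro b ⟨hbH, hbc⟩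
        exact mem_of_coprime_of_mem_sup' NG QM ((hQH.trans hHHt).trans hHtNG) hQp (h1 hbH) hbc
      rw [hf, hNG] at h2
      exact (Subgroup.map_le_map_iff_of_injective Ht.subtype_injective).1 h2
    have hYP₃ : Y ≤ pCoreOf p P₃ := hH.2.2.2 P₃ hQP₃ (lt_of_le_of_ne inf_le_right hP₃ne)
    set Ut := pCoreOf p (NG ⊔ QM) with hUt
    have hNQHt : NG ⊔ QM ≤ Ht := sup_le hNGHt (hQH.trans hHHt)
    have hP₃U : pCoreOf p P₃ ≤ Ut := by
      apply pCoreOf_le_pCoreOf_of_normal inf_le_left
      exact le_normalizer_inf Subgroup.le_normalizer (hNQHt.trans he)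
    set BG := pCoreOf p NG with hBG
    have hBGn : Ht ≤ Subgroup.normalizer (BG : Set G) :=
      hHtNG.trans (normalizer_le_normalizer_pCoreOf NG)
    have hNY : ⁅NG, Y⁆ ≤ BG := by
      have h1 : ⁅NG, Y⁆ ≤ ⁅NG, Ut⁆ := Subgroup.commutator_mono le_rfl (hYP₃.trans hP₃U)
      have h2 : ⁅NG, Ut⁆ ≤ NG :=
        commutator_le_left_of_le_normalizer (((pCoreOf_le p _).trans hNQHt).trans hHtNG)
      have h3 : ⁅NG, Ut⁆ ≤ Ut :=
        commutator_le_right_of_le_normalizer (le_sup_left.trans (le_normalizer_pCoreOf p _))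
      have h4 : NG ⊓ Ut ≤ BG := by
        apply le_pCoreOf p inf_le_left _ ((pCoreOf_isPGroup p _).to_le inf_le_right)
        exact le_normalizer_inf Subgroup.le_normalizer
          (le_sup_left.trans (le_normalizer_pCoreOf p _))
      exact h1.trans ((le_inf h2 h3).trans h4)
    have hconj : ∀ x : ↥H, Y.map (cj (x : G)) ≤ commCent NG BG := by
      intro x
      have hxHt : (x : G) ∈ Ht := hHHt x.2
      apply le_commCent
      · refine (Subgroup.map_mono (hYQ.trans (hQH.trans hHHt))).trans ?_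
        have : Ht.map (cj (x : G)) = Ht :=
          mem_normalizer_iff_map_cj.1 (Subgroup.le_normalizer hxHt)
        rw [this]; exact hBGn
      · have h1 : NG.map (cj (x : G)) = NG := mem_normalizer_iff_map_cj.1 (hHtNG hxHt)
        have h2 : BG.map (cj (x : G)) = BG := mem_normalizer_iff_map_cj.1 (hBGn hxHt)
        have h3 := Subgroup.map_mono (f := cj (x : G)) hNY
        rw [Subgroup.map_commutator, h1, h2] at h3
        exact h3
    have hRC : R ≤ commCent NG BG := by
      have h1 : R ≤ ⨆ x : ↥H, Y.map (cj (x : G)) := by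
        rw [← h5]; exact le_sup_left
      exact h1.trans (iSup_le hconj)
    -- now `N` is `p`-closed
    apply hNcl
    set B : Subgroup ↥N := (BG.comap Ht.subtype).comap N.subtype with hB
    have hNmem : ∀ n : ↥N, ((n : ↥Ht) : G) ∈ NG := fun n => ⟨(n : ↥Ht), n.2, rfl⟩
    haveI hBn : B.Normal := by
      constructor
      intro b hb n
      show ((n * b * n⁻¹ : ↥N) : ↥Ht).1 ∈ BG
      have hb' : ((b : ↥Ht) : G) ∈ BG := hb
      have hn' := (le_normalizer_pCoreOf p NG) (hNmem n)
      exact ((Subgroup.mem_normalizer_iff.1 hn') _).1 hb'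
    have hBp : IsPGroup p ↥B := by
      have h1 : IsPGroup p ↥(BG.comap Ht.subtype) :=
        (pCoreOf_isPGroup p NG).comap_of_injective _ Ht.subtype_injective
      exact h1.comap_of_injective _ N.subtype_injective
    apply isPClosed_of_commutator_mem (p := p) B hBp
    intro x hx t
    have hxo : Nat.Coprime (orderOf ((x : ↥Ht) : G)) p := by
      rw [Subgroup.orderOf_coe, Subgroup.orderOf_coe]; exact hx
    have hxH : ((x : ↥Ht) : G) ∈ H := hcopH _ (x : ↥Ht).2 hxo
    have hxR : ((x : ↥Ht) : G) ∈ R := by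
      rw [hRcl]
      exact Subgroup.subset_closure ⟨hxH, hxo⟩
    exact (hRC hxR).2 _ (hNmem t)

end FrakMSetup

end AsymK

end Cfsg.Agent.Helper14
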