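import Cfsg.Agent.Helper14.WeaklyClosed

set_option autoImplicit false
set_option linter.unusedSectionVars false

namespace Cfsg.Agent.Helper14

open Cfsg
open scoped commutatorElement Pointwise

section General

variable {H : Type*} [Group H]

theorem map_subtype_map_conj (K : Subgroup H) (A : Subgroup ↥K) (k : ↥K) :
    (A.map (MulAut.conj k).toMonoidHom).map K.subtype = (A.map K.subtype).map (cj (k : H)) := by
  rw [Subgroup.map_map, Subgroup.map_map]
  congr 1

theorem map_mk_map_conj (N : Subgroup H) [N.Normal] (A : Subgroup H) (g : H) :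
    (A.map (QuotientGroup.mk' N)).map (MulAut.conj (QuotientGroup.mk' N g)).toMonoidHom =
      (A.map (cj g)).map (QuotientGroup.mk' N) := by
  rw [Subgroup.map_map, Subgroup.map_map]
  congr 1

instance pResidual_characteristic {p : ℕ} : (pResidual p H).Characteristic := by
  rw [Subgroup.characteristic_iff_map_le]
  intro ϕ
  unfold pResidual
  rw [MonoidHom.map_closure, Subgroup.closure_le]
  rintro _ ⟨x, hx, rfl⟩
  apply Subgroup.subset_closure
  show Nat.Coprime (orderOf (ϕ x)) p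
  have : orderOf (ϕ x) = orderOf x := orderOf_injective ϕ.toMonoidHom ϕ.injective x
  rw [this]; exact hx

/-- a `p'`-element of `N D` (`N` normal, `D` a `p`-group) lies in `N` -/
theorem mem_of_coprime_of_mem_sup {p : ℕ} [Fact p.Prime] (N D : Subgroup H) [hN : N.Normal]
    (hD : IsPGroup p ↥D) {g : H} (hg : g ∈ N ⊔ D) (hcop : Nat.Coprime (orderOf g) p) : g ∈ N := by
  have hg' : g ∈ ((N ⊔ D : Subgroup H) : Set H) := hg
  rw [Subgroup.normal_mul] at hg'
  obtain ⟨k, hk, y, hy, rfl⟩ := hg'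
  obtain ⟨m, hm⟩ := hD ⟨y, hy⟩
  have hm' : y ^ (p ^ m) = 1 := by
    have := congrArg Subtype.val hm
    simpa using this
  have hk1 : QuotientGroup.mk' N k = 1 := (QuotientGroup.eq_one_iff k).2 hk
  have e1 : QuotientGroup.mk' N (k * y) = QuotientGroup.mk' N y := by
    rw [map_mul, hk1, one_mul]
  have e2 : (QuotientGroup.mk' N (k * y)) ^ (p ^ m) = 1 := by
    rw [e1, ← map_pow, hm', map_one]
  have e3 : (QuotientGroup.mk' N (k * y)) ^ (orderOf (k * y)) = 1 := by
    rw [← map_pow, pow_orderOf_eq_one, map_one]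
  have e4 : orderOf (QuotientGroup.mk' N (k * y)) ∣ Nat.gcd (orderOf (k * y)) (p ^ m) :=
    Nat.dvd_gcd (orderOf_dvd_of_pow_eq_one e3) (orderOf_dvd_of_pow_eq_one e2)
  have e5 : Nat.gcd (orderOf (k * y)) (p ^ m) = 1 := Nat.Coprime.pow_right m hcop
  rw [e5, Nat.dvd_one, orderOf_eq_one_iff] at e4
  exact (QuotientGroup.eq_one_iff _).1 e4

end General

section

variable {H : Type*} [Group H] [Finite H] {p : ℕ} [Fact p.Prime]

/-- part (2) of S2839: `H`-conjugates of `Q` inside `K` are `K`-conjugates -/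
theorem wcs_conj_in_subgroup {Q : Subgroup H} (hQp : IsPGroup p ↥Q)
    (hwc : IsWeaklyClosedSubgroup p Q) {K : Subgroup H} (hQK : Q ≤ K) (g : H)
    (hg : Q.map (cj g) ≤ K) : ∃ k ∈ K, Q.map (cj g) = Q.map (cj k) := by
  obtain ⟨U, hU, hQU⟩ := exists_isSylowIn_ge hQK hQp
  obtain ⟨U', hU', hQgU'⟩ := exists_isSylowIn_ge hg (hQp.map (cj g))
  obtain ⟨k, hkK, hk⟩ := hU.exists_conj hU'
  refine ⟨k, hkK, ?_⟩
  have h1 : (Q.map (cj g)).map (cj k⁻¹) ≤ U := by
    have := Subgroup.map_mono (f := cj k⁻¹) hQgU'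
    rwa [hk, map_cj_map_cj_inv] at this
  rw [map_cj_mul] at h1
  have h2 : Q.map (cj (k⁻¹ * g)) = Q := (wcs_of_le_pGroup hwc hU.2.1 hQU).2 _ h1
  have e : g = k * (k⁻¹ * g) := by group
  conv_lhs => rw [e, ← map_cj_mul, h2]

/-- part (4) of S2839 -/
theorem wcs_normal_factorization {Q : Subgroup H} (hQp : IsPGroup p ↥Q)
    (hwc : IsWeaklyClosedSubgroup p Q) (N' : Subgroup H) [hN : N'.Normal] :
    (N' ⊓ Subgroup.normalizer (Q : Set H)) ⊔ (pResidual p ↥N').map N'.subtype = N' := by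
  set N₀ := (pResidual p ↥N').map N'.subtype with hN₀
  have hN₀N : N₀ ≤ N' := map_subtype_le _
  have hN₀n : N₀.Normal := inferInstance
  apply le_antisymm (sup_le inf_le_left hN₀N)
  set K := N' ⊔ Q with hK
  obtain ⟨U, hU, hQU⟩ := exists_isSylowIn_ge (le_sup_right : Q ≤ K) hQp
  have hUN : U ≤ Subgroup.normalizer (Q : Set H) :=
    wc_le_normalizer (wcs_of_le_pGroup hwc hU.2.1 hQU)
  -- O^p(K) ≤ N₀
  have hres : (pResidual p ↥K).map K.subtype ≤ N₀ := by
    rw [Subgroup.map_le_iff_le_comap]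
    unfold pResidual
    rw [Subgroup.closure_le]
    intro x hx
    have hx' : Nat.Coprime (orderOf x) p := hx
    have hxo : orderOf (x : H) = orderOf x := Subgroup.orderOf_coe x
    have hxN : (x : H) ∈ N' := mem_of_coprime_of_mem_sup N' Q hQp x.2 (hxo ▸ hx')
    show (x : H) ∈ N₀
    refine ⟨⟨(x : H), hxN⟩, ?_, rfl⟩
    apply Subgroup.subset_closure
    show Nat.Coprime (orderOf (⟨(x : H), hxN⟩ : ↥N')) p
    have : orderOf (⟨(x : H), hxN⟩ : ↥N') = orderOf (x : H) :=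
      (Subgroup.orderOf_coe (⟨(x : H), hxN⟩ : ↥N')).symm
    rw [this, hxo]; exact hx'
  intro n hn
  have hnK : n ∈ K := le_sup_left (a := N') hn
  have h1 : (⟨n, hnK⟩ : ↥K) ∈ ((pResidual p ↥K ⊔ (hU.toSylow : Subgroup ↥K) : Subgroup ↥K) : Set ↥K) := by
    rw [pResidual_sup_sylow hU.toSylow]; trivial
  rw [Subgroup.normal_mul] at h1
  obtain ⟨r, hr, t, ht, hrt⟩ := h1
  have hrt' : (r : H) * (t : H) = n := congrArg Subtype.val hrt
  have hrN₀ : (r : H) ∈ N₀ := hres ⟨r, hr, rfl⟩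
  have htU : (t : H) ∈ U := by
    have : (t : H) ∈ ((hU.toSylow : Sylow p ↥K) : Subgroup ↥K).map K.subtype := ⟨t, ht, rfl⟩
    rwa [hU.toSylow_map] at this
  have htN : (t : H) ∈ N' := by
    have : (t : H) = (r : H)⁻¹ * n := by rw [← hrt']; group
    rw [this]
    exact N'.mul_mem (N'.inv_mem (hN₀N hrN₀)) hn
  rw [← hrt']
  have : (r : H) * (t : H) = (r : H) * (t : H) := rfl
  rw [sup_comm]
  exact Subgroup.mul_mem_sup hrN₀ ⟨htN, hUN htU⟩

/-- part (5) of S2839 -/
theorem wcs_quotient {Q : Subgroup H} (hwc : IsWeaklyClosedSubgroup p Q) (N' : Subgroup H)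
    [hN : N'.Normal] : IsWeaklyClosedSubgroup p (Q.map (QuotientGroup.mk' N')) := by
  obtain ⟨T, hT⟩ := hwc
  set π := QuotientGroup.mk' N' with hπ
  have hsurj : Function.Surjective π := QuotientGroup.mk'_surjective N'
  refine ⟨T.mapSurjective hsurj, ?_⟩
  rw [Sylow.coe_mapSurjective]
  refine ⟨Subgroup.map_mono hT.1, ?_⟩
  intro gbar hgbar
  obtain ⟨g, rfl⟩ := hsurj gbar
  rw [map_mk_map_conj] at hgbar ⊢
  have hQp : IsPGroup p ↥Q := T.isPGroup'.to_le hT.1
  have h1 : Q.map (cj g) ≤ (T : Subgroup H) ⊔ N' := by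
    have := Subgroup.comap_mono (f := π) hgbar
    rw [Subgroup.comap_map_eq, Subgroup.comap_map_eq, QuotientGroup.ker_mk'] at this
    exact le_sup_left.trans this
  set M := (T : Subgroup H) ⊔ N' with hM
  have hTM : IsSylowIn p (T : Subgroup H) M := isSylowIn_of_sylow_le T le_sup_left
  obtain ⟨U', hU', hQgU'⟩ := exists_isSylowIn_ge h1 (hQp.map (cj g))
  obtain ⟨x, hxM, hx⟩ := hTM.exists_conj hU'
  have h2 : (Q.map (cj g)).map (cj x⁻¹) ≤ (T : Subgroup H) := by
    have := Subgroup.map_mono (f := cj x⁻¹) hQgU'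
    rwa [hx, map_cj_map_cj_inv] at this
  rw [map_cj_mul] at h2
  have h3 : Q.map (cj (x⁻¹ * g)) = Q := hT.2 _ h2
  have e : g = x * (x⁻¹ * g) := by group
  have h4 : Q.map (cj g) = Q.map (cj x) := by
    conv_lhs => rw [e, ← map_cj_mul, h3]
  have hx' : x ∈ ((T : Subgroup H) ⊔ N' : Subgroup H) := hxM
  have hx'' : x ∈ (((T : Subgroup H) ⊔ N' : Subgroup H) : Set H) := hx'
  rw [Subgroup.mul_normal] at hx''
  obtain ⟨t, ht, m, hm, rfl⟩ := hx''
  have hπ' : π (t * m) = π t := by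
    have hm1 : π m = 1 := (QuotientGroup.eq_one_iff m).2 hm
    rw [map_mul, hm1, mul_one]
  have hQt : Q.map (cj t) = Q := mem_normalizer_iff_map_cj.1 (wc_le_normalizer hT ht)
  rw [h4, ← map_mk_map_conj, hπ', map_mk_map_conj, hQt]

/-- S2839 -/
theorem wcs_subgroup_properties (Q : Subgroup H) (hQp : IsPGroup p ↥Q)
    (hwc : IsWeaklyClosedSubgroup p Q) (K : Subgroup H) (hQK : Q ≤ K) (N' : Subgroup H)
    [N'.Normal] :
    IsWeaklyClosedSubgroup p (Q.subgroupOf K) ∧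
    (∀ g : H, Q.map (cj g) ≤ K → ∃ k ∈ K, Q.map (cj g) = Q.map (cj k)) ∧
    IsParabolic p ((Subgroup.normalizer (Q : Set H)).subgroupOf K) ∧
    (N' ⊓ Subgroup.normalizer (Q : Set H)) ⊔ (pResidual p ↥N').map N'.subtype = N' ∧
    IsWeaklyClosedSubgroup p (Q.map (QuotientGroup.mk' N')) := by
  obtain ⟨TK, hTK⟩ := (hQp.comap_subtype (K := K)).exists_le_sylow
  set R := (TK : Subgroup ↥K).map K.subtype with hR
  have hRp : IsPGroup p ↥R := TK.isPGroup'.map _
  have hQR : Q ≤ R := by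
    intro x hx
    exact ⟨⟨x, hQK hx⟩, hTK (Subgroup.mem_subgroupOf.2 hx), rfl⟩
  have hwcR := wcs_of_le_pGroup hwc hRp hQR
  refine ⟨⟨TK, hTK, ?_⟩, fun g hg => wcs_conj_in_subgroup hQp hwc hQK g hg, ⟨TK, ?_⟩,
    wcs_normal_factorization hQp hwc N', wcs_quotient hwc N'⟩
  · intro k hk
    apply Subgroup.map_injective K.subtype_injective
    have h1 := Subgroup.map_mono (f := K.subtype) hk
    rw [map_subtype_map_conj, map_subtype_subgroupOf hQK] at h1 ⊢
    exact hwcR.2 _ h1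
  · intro x hx
    rw [Subgroup.mem_subgroupOf]
    exact wc_le_normalizer hwcR ⟨x, hx, rfl⟩

end

end Cfsg.Agent.Helper14
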