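import Cfsg.Agent.Helper14.PReduced4
import Cfsg.Agent.Helper14.WeaklyClosed2
import Cfsg.Agent.Helper14.FrattiniChain

set_option autoImplicit false
set_option linter.unusedSectionVars false

namespace Cfsg.Agent.Helper14

open Cfsg

variable {G : Type*} [Group G] [Finite G] {p : ℕ} [Fact p.Prime]

theorem wcs_subgroupOf_of_forall {Q' T K : Subgroup G} (hT : IsSylowIn p T K) (hQT : Q' ≤ T)
    (h : ∀ g ∈ K, Q'.map (cj g) ≤ T → Q'.map (cj g) = Q') :
    IsWeaklyClosedSubgroup p (Q'.subgroupOf K) := by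
  refine ⟨hT.toSylow, ?_, ?_⟩
  · intro x hx
    exact Subgroup.mem_subgroupOf.2 (hQT (Subgroup.mem_subgroupOf.1 hx))
  · intro k hk
    apply Subgroup.map_injective K.subtype_injective
    have h1 := Subgroup.map_mono (f := K.subtype) hk
    rw [map_subtype_map_conj, map_subtype_subgroupOf (hQT.trans hT.1)] at h1 ⊢
    rw [hT.toSylow_map] at h1
    exact h k.1 k.2 h1

/-- if `B ≤ M` is `p`-closed and normalized by `M`, its `p`-subgroups lie in `O_p(M)` -/
theorem le_pCoreOf_of_isPClosed {B M U : Subgroup G} (hBM : B ≤ M)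
    (hMB : M ≤ Subgroup.normalizer (B : Set G)) (hcl : IsPClosed p ↥B) (hUB : U ≤ B)
    (hU : IsPGroup p ↥U) : U ≤ pCoreOf p M := by
  obtain ⟨P₀, hP₀⟩ := (hU.comap_subtype (K := B)).exists_le_sylow
  have hn : (P₀ : Subgroup ↥B).Normal := hcl P₀
  have hc : (P₀ : Subgroup ↥B).Characteristic := Sylow.characteristic_of_normal P₀ hn
  have h1 : (P₀ : Subgroup ↥B).map B.subtype ≤ pCoreOf p M := by
    apply le_pCoreOf p ((map_subtype_le _).trans hBM)
    · apply le_normalizer_of_map_cj_le
      intro m hm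
      rw [map_cj_map_subtype_of_characteristic B _ (hMB hm)]
    · exact P₀.isPGroup'.map _
  intro u hu
  exact h1 ⟨⟨u, hUB hu⟩, hP₀ (Subgroup.mem_subgroupOf.2 hu), rfl⟩

theorem card_map_cj (A : Subgroup G) (g : G) : Nat.card ↥(A.map (cj g)) = Nat.card ↥A :=
  Nat.card_congr (A.equivMapOfInjective (cj g) (cj_injective g)).symm.toEquiv

/-- S2848 -/
theorem pCoreOf_wcs_dagger (S : Sylow p G) (M : Subgroup G) (hSM : (S : Subgroup G) ≤ M)
    (hcl : IsPClosed p ↥(M ⊓ Subgroup.centralizer (largestPReducedOf p M : Set G))) :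
    IsWeaklyClosedSubgroup p ((pCoreOf p M).subgroupOf
      (M ⊔ Subgroup.centralizer ((largestPReducedOf p M : Subgroup G) : Set G))) := by
  set Y := largestPReducedOf p M with hY
  set C := Subgroup.centralizer (Y : Set G) with hC
  have hYred := largestPReducedOf_isPReducedIn (p := p) M
  have hMC : M ≤ Subgroup.normalizer (C : Set G) :=
    hYred.2.1.trans (normalizer_le_normalizer_centralizer' Y)
  have hSS : IsSylowIn p (S : Subgroup G) M := isSylowIn_of_sylow_le S hSM
  have hQS : pCoreOf p M ≤ (S : Subgroup G) := pCoreOf_le_of_isSylowIn hSS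
  have hQC : pCoreOf p M ≤ C := pCoreOf_le_centralizer_largestPReducedOf M
  have hSC : (S : Subgroup G) ⊓ C ≤ pCoreOf p M := by
    refine le_pCoreOf_of_isPClosed (B := M ⊓ C) inf_le_left
      (le_normalizer_inf Subgroup.le_normalizer hMC) hcl (inf_le_inf_right _ hSM)
      (S.isPGroup'.to_le inf_le_left)
  refine wcs_subgroupOf_of_forall (T := (S : Subgroup G))
    (isSylowIn_of_sylow_le S (hSM.trans le_sup_left)) hQS ?_
  intro g hg hgS
  have hgC : g ∈ Subgroup.normalizer (C : Set G) := (sup_le hMC Subgroup.le_normalizer) hg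
  have h1 : (pCoreOf p M).map (cj g) ≤ C := by
    have := Subgroup.map_mono (f := cj g) hQC
    rwa [mem_normalizer_iff_map_cj.1 hgC] at this
  have h2 : (pCoreOf p M).map (cj g) ≤ pCoreOf p M := (le_inf hgS h1).trans hSC
  exact Subgroup.eq_of_le_of_card_ge h2 (card_map_cj _ g).ge

end Cfsg.Agent.Helper14
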