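import Cfsg.Agent.Helper14.FratStab
import Cfsg.Agent.Helper14.Large2

set_option autoImplicit false
set_option linter.unusedSectionVars false
set_option linter.style.haveILetI false

namespace Cfsg.Agent.Helper14

open Cfsg

open scoped commutatorElement

section FratStabB

variable {G : Type*} [Group G] [Finite G] {p : ℕ} [Fact p.Prime]

/-- Every member of `𝓛_G` lies in a maximal member. -/
theorem exists_le_maxCharP (N : Subgroup G) (hN : N ∈ charPSubgroups p G) :
    ∃ X ∈ maxCharPSubgroups p G, N ≤ X := by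
  obtain ⟨X, hNX, hX⟩ := (Set.toFinite (charPSubgroups p G)).exists_le_maximal hN
  refine ⟨X, ⟨hX.1, fun L hL hXL => ?_⟩, hNX⟩
  exact le_antisymm (hX.2 hL hXL) hXL

/-- In a group with a large `p`-subgroup, the normalizer of a nontrivial `p`-subgroup containing a
Sylow `p`-subgroup lies in `𝓛_G`. -/
theorem normalizer_mem_charPSubgroups {Q : Subgroup G} (hQp : IsPGroup p ↥Q) (hQ1 : Q ≠ ⊥)
    (hQ : IsLarge Q) (S : Sylow p G) (I : Subgroup G) (hI1 : I ≠ ⊥) (hIp : IsPGroup p ↥I)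
    (hSI : (S : Subgroup G) ≤ Subgroup.normalizer (I : Set G)) :
    Subgroup.normalizer (I : Set G) ∈ charPSubgroups p G := by
  have hle : I ≤ pCoreOf p (Subgroup.normalizer (I : Set G)) :=
    le_pCoreOf p Subgroup.le_normalizer le_rfl hIp
  have hcore : pCore p ↥(Subgroup.normalizer (I : Set G)) ≠ ⊥ := by
    intro h
    apply hI1
    rw [eq_bot_iff]
    have : pCoreOf p (Subgroup.normalizer (I : Set G)) = ⊥ := by
      unfold pCoreOf
      rw [h, Subgroup.map_bot]
    rw [← this]; exact hle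
  exact ⟨hcore, large_parabolic_charP hQp hQ1 hQ _ ⟨S, hSI⟩ hcore⟩

/-- S2864 -/
theorem le_pCoreOf_of_commutator_le (S : Sylow p G) (Q : Subgroup G) (hQp : IsPGroup p ↥Q)
    (hQ1 : Q ≠ ⊥) (hQ : IsLarge Q) (M : Subgroup G)
    (hSM : (S : Subgroup G) ≤ M) (hM : IsInFrakM p M) (I : Subgroup G) (hI1 : I ≠ ⊥)
    (hIp : IsPGroup p ↥I) (hIM : I ≤ M ∧ M ≤ Subgroup.normalizer ((I : Subgroup G) : Set G))
    (Y : Subgroup G)
    (hY : Y ≤ (pCoreOf p (M ⊔ Subgroup.centralizer
      (((largestPReducedOf p M) : Subgroup G) : Set G))))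
    (L : Subgroup G) (hYL : Y ≤ L) (A : Subgroup G) (hAp : IsPGroup p ↥A)
    (hAL : A ≤ L ∧ L ≤ Subgroup.normalizer ((A : Subgroup G) : Set G)) (hIA : I ≤ A)
    (hc : ⁅Y, A⁆ ≤ ⁅I, A⁆) : Y ≤ (pCoreOf p L) := by
  set Md := M ⊔ Subgroup.centralizer (((largestPReducedOf p M) : Subgroup G) : Set G) with hMd
  -- N_G(I) ≤ M†
  have hNI : Subgroup.normalizer (I : Set G) ≤ Md := by
    have h1 := normalizer_mem_charPSubgroups hQp hQ1 hQ S I hI1 hIp (hSM.trans hIM.2)
    obtain ⟨X, hX, hNX⟩ := exists_le_maxCharP _ h1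
    have := hM.2.2.1 X hX (hIM.2.trans hNX)
    rw [← hMd] at this
    rw [← this]; exact hNX
  have hCA : Subgroup.centralizer (A : Set G) ≤ Md := by
    refine le_trans ?_ hNI
    refine le_trans (Subgroup.centralizer_le ?_) (Subgroup.centralizer_le_normalizer _)
    exact hIA
  have hYMd : Y ≤ Md := hY.trans (pCoreOf_le p Md)
  -- work inside L
  haveI hA'n : (A.subgroupOf L).Normal :=
    (Subgroup.normal_subgroupOf_iff_le_normalizer hAL.1).2 hAL.2
  have hA'p : IsPGroup p ↥(A.subgroupOf L) := hAp.comap_subtype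
  set A' := A.subgroupOf L with hA'
  set Y' := Y.subgroupOf L with hY'
  set D₀ := Subgroup.centralizer (A' : Set ↥L) ⊔ Y' with hD₀
  -- Y' ≤ fratStab A'
  have hcomm : ⁅A', A'⁆ ≤ (frattini ↥A').map A'.subtype := by
    rw [← Subgroup.map_subtype_commutator]
    exact Subgroup.map_mono (Helper1.IsPGroup.commutator_le_frattini hA'p)
  have hAmap : A'.map L.subtype = A := Subgroup.map_subgroupOf_eq_of_le hAL.1
  have hYfs : Y' ≤ fratStab A' := by
    intro y hy a ha
    apply hcomm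
    have hyG : (y : G) ∈ Y := Subgroup.mem_subgroupOf.1 hy
    have haG : (a : G) ∈ A := Subgroup.mem_subgroupOf.1 ha
    have h1 : ⁅(y : G), (a : G)⁆ ∈ ⁅A, A⁆ :=
      (hc.trans (Subgroup.commutator_mono hIA le_rfl)) (Subgroup.commutator_mem_commutator hyG haG)
    have h2 : ⁅A, A⁆ = (⁅A', A'⁆).map L.subtype := by
      rw [Subgroup.map_commutator, hAmap]
    rw [h2] at h1
    obtain ⟨x, hx, hxe⟩ := h1
    have : x = y * a * y⁻¹ * a⁻¹ := by
      apply Subtype.ext
      have hxe' : (x : G) = ⁅(y : G), (a : G)⁆ := hxe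
      rw [hxe', commutatorElement_def]
      simp
    rw [← this]; exact hx
  have hD₀fs : D₀ ≤ fratStab A' := sup_le (centralizer_le_fratStab A') hYfs
  have hsn : D₀.IsSubnormal := isSubnormal_of_le_fratStab (p := p) A' hA'p D₀ le_sup_left hD₀fs
  have hcore : pCoreOf p D₀ ≤ pCore p ↥L := pCoreOf_le_pCore_of_isSubnormal hsn
  -- D₀ ≤ M†
  have hD₀Md : D₀ ≤ Md.subgroupOf L := by
    refine sup_le ?_ ?_
    · intro x hx
      rw [Subgroup.mem_subgroupOf]
      apply hCA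
      rw [Subgroup.mem_centralizer_iff]
      intro a ha
      have := (Subgroup.mem_centralizer_iff.1 hx) ⟨a, hAL.1 ha⟩ (Subgroup.mem_subgroupOf.2 ha)
      exact congrArg Subtype.val this
    · intro y hy
      exact Subgroup.mem_subgroupOf.2 (hYMd (Subgroup.mem_subgroupOf.1 hy))
  -- the normal p-subgroup of D₀ containing Y'
  set N' := (pCoreOf p Md).subgroupOf L ⊓ D₀ with hN'
  have hN'p : IsPGroup p ↥N' :=
    ((pCoreOf_isPGroup p Md).comap_subtype (K := L)).to_le inf_le_left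
  have hconj : ∀ d ∈ D₀, ∀ x ∈ N', d * x * d⁻¹ ∈ N' := by
    intro d hd x hx
    refine ⟨?_, D₀.mul_mem (D₀.mul_mem hd hx.2) (D₀.inv_mem hd)⟩
    show d * x * d⁻¹ ∈ (pCoreOf p Md).subgroupOf L
    rw [Subgroup.mem_subgroupOf]
    have hdM : (d : G) ∈ Md := Subgroup.mem_subgroupOf.1 (hD₀Md hd)
    have hxM : (x : G) ∈ pCoreOf p Md := Subgroup.mem_subgroupOf.1 hx.1
    have := (Subgroup.mem_normalizer_iff.1 (le_normalizer_pCoreOf p Md hdM) (x : G)).1 hxM
    simpa using this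
  have hnorm : D₀ ≤ Subgroup.normalizer (N' : Set ↥L) := by
    intro d hd
    rw [Subgroup.mem_normalizer_iff]
    intro x
    refine ⟨hconj d hd x, fun h => ?_⟩
    have := hconj d⁻¹ (D₀.inv_mem hd) _ h
    have e : d⁻¹ * (d * x * d⁻¹) * d⁻¹⁻¹ = x := by group
    rwa [e] at this
  have hN'le : N' ≤ pCoreOf p D₀ := le_pCoreOf p inf_le_right hnorm hN'p
  have hY'N' : Y' ≤ N' := by
    intro y hy
    refine ⟨?_, (le_sup_right : Y' ≤ D₀) hy⟩
    show y ∈ (pCoreOf p Md).subgroupOf L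
    rw [Subgroup.mem_subgroupOf]
    exact hY (Subgroup.mem_subgroupOf.1 hy)
  intro y hy
  have : (⟨y, hYL hy⟩ : ↥L) ∈ pCore p ↥L :=
    hcore (hN'le (hY'N' (Subgroup.mem_subgroupOf.2 hy)))
  exact ⟨⟨y, hYL hy⟩, this, rfl⟩

end FratStabB

end Cfsg.Agent.Helper14
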