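import Cfsg.Agent.Helper14.Asym1
import Cfsg.Agent.Helper14.FratStab2
import Cfsg.Agent.Helper14.FrakM

set_option autoImplicit false
set_option linter.unusedSectionVars false
set_option linter.style.haveILetI false

namespace Cfsg.Agent.Helper14

open Cfsg

section AsymB

variable {G : Type*} [Group G] [Finite G] {p : ℕ} [Fact p.Prime]

/-- `𝓛_G` is invariant under conjugation. -/
theorem charPSubgroups_map_cj {K : Subgroup G} (hK : K ∈ charPSubgroups p G) (g : G) :
    K.map (cj g) ∈ charPSubgroups p G := by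
  obtain ⟨h1, h2⟩ := hK
  have h2' : Subgroup.centralizer ((pCoreOf p K : Subgroup G) : Set G) ≤ pCoreOf p K := h2
  have e : pCoreOf p (K.map (cj g)) = (pCoreOf p K).map (cj g) := pCoreOf_map_conj p K g
  constructor
  · intro hbot
    have h3 : pCoreOf p (K.map (cj g)) = ⊥ := by
      unfold pCoreOf; rw [hbot, Subgroup.map_bot]
    rw [e] at h3
    exact pCoreOf_ne_bot h1 ((Subgroup.map_eq_bot_iff_of_injective _ (cj_injective g)).1 h3)
  · show Subgroup.centralizer ((pCoreOf p (K.map (cj g)) : Subgroup G) : Set G) ≤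
      pCoreOf p (K.map (cj g))
    rw [e, ← map_cj_centralizer]
    exact Subgroup.map_mono h2'

theorem maxCharPSubgroups_map_cj {K : Subgroup G} (hK : K ∈ maxCharPSubgroups p G) (g : G) :
    K.map (cj g) ∈ maxCharPSubgroups p G := by
  refine ⟨charPSubgroups_map_cj hK.1 g, ?_⟩
  intro L hL hKL
  have h1 : K ≤ L.map (cj g⁻¹) := (map_cj_le_iff K L g).1 hKL
  have h2 := hK.2 _ (charPSubgroups_map_cj hL g⁻¹) h1
  have := congrArg (Subgroup.map (cj g)) h2
  rwa [map_cj_inv_map_cj] at this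

/-- Standing hypotheses of the local structure theorem. -/
structure FrakMSetup (p : ℕ) [Fact p.Prime] (S : Sylow p G) (Q M : Subgroup G) : Prop where
  hQp : IsPGroup p ↥Q
  hQ1 : Q ≠ ⊥
  hQ : IsLarge Q
  hSM : (S : Subgroup G) ≤ M
  hM : IsInFrakM p M

namespace FrakMSetup

variable {S : Sylow p G} {Q M : Subgroup G} (h : FrakMSetup p S Q M)

include h

theorem le_normalizer_Y :
    M ⊔ Subgroup.centralizer (largestPReducedOf p M : Set G) ≤
      Subgroup.normalizer (largestPReducedOf p M : Set G) :=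
  sup_le (largestPReducedOf_isPReducedIn (p := p) M).2.1 (Subgroup.centralizer_le_normalizer _)

theorem le_normalizer_C :
    M ⊔ Subgroup.centralizer (largestPReducedOf p M : Set G) ≤
      Subgroup.normalizer
        ((Subgroup.centralizer (largestPReducedOf p M : Set G) : Subgroup G) : Set G) :=
  h.le_normalizer_Y.trans (normalizer_le_normalizer_centralizer' _)

theorem QM_le_S : pCoreOf p M ≤ (S : Subgroup G) :=
  pCoreOf_le_of_isSylowIn (isSylowIn_of_sylow_le S h.hSM)

theorem QM_ne_bot : pCoreOf p M ≠ ⊥ := pCoreOf_ne_bot h.hM.1.1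

theorem S_inf_C_le :
    (S : Subgroup G) ⊓ Subgroup.centralizer (largestPReducedOf p M : Set G) ≤ pCoreOf p M := by
  have hYred := largestPReducedOf_isPReducedIn (p := p) M
  have hMC : M ≤ Subgroup.normalizer
      ((Subgroup.centralizer (largestPReducedOf p M : Set G) : Subgroup G) : Set G) :=
    hYred.2.1.trans (normalizer_le_normalizer_centralizer' _)
  exact le_pCoreOf_of_isPClosed
    (B := M ⊓ Subgroup.centralizer (largestPReducedOf p M : Set G)) inf_le_left
    (le_normalizer_inf Subgroup.le_normalizer hMC) h.hM.2.2.2.2.1 (inf_le_inf_right _ h.hSM)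
    (S.isPGroup'.to_le inf_le_left)

theorem conj_QM_eq_of_le_S (g : G)
    (hg : g ∈ M ⊔ Subgroup.centralizer (largestPReducedOf p M : Set G))
    (hgS : (pCoreOf p M).map (cj g) ≤ (S : Subgroup G)) :
    (pCoreOf p M).map (cj g) = pCoreOf p M := by
  have hgC := h.le_normalizer_C hg
  have h1 : (pCoreOf p M).map (cj g) ≤
      Subgroup.centralizer (largestPReducedOf p M : Set G) := by
    have := Subgroup.map_mono (f := cj g) (pCoreOf_le_centralizer_largestPReducedOf (p := p) M)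
    rwa [mem_normalizer_iff_map_cj.1 hgC] at this
  have h2 : (pCoreOf p M).map (cj g) ≤ pCoreOf p M := (le_inf hgS h1).trans h.S_inf_C_le
  exact Subgroup.eq_of_le_of_card_ge h2 (card_map_cj _ g).ge

/-- `N_G(O_p(M)) ≤ M†` -/
theorem normalizer_QM_le :
    Subgroup.normalizer ((pCoreOf p M : Subgroup G) : Set G) ≤
      M ⊔ Subgroup.centralizer (largestPReducedOf p M : Set G) := by
  have hMN : M ≤ Subgroup.normalizer ((pCoreOf p M : Subgroup G) : Set G) :=
    le_normalizer_pCoreOf p M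
  have h1 := normalizer_mem_charPSubgroups h.hQp h.hQ1 h.hQ S (pCoreOf p M) h.QM_ne_bot
    (pCoreOf_isPGroup p M) (h.hSM.trans hMN)
  obtain ⟨X, hX, hNX⟩ := exists_le_maxCharP _ h1
  have := h.hM.2.2.1 X hX (hMN.trans hNX)
  rw [← this]; exact hNX

/-- `p`-subgroups of `M†` containing `O_p(M)` meet `C_G(Y_M)` inside `O_p(M)`, and `O_p(M)` is
weakly closed in them with respect to `M†`. -/
theorem exists_conj_le_S (L₁ : Subgroup G) (hL₁ : IsPGroup p ↥L₁)
    (hL₁Md : L₁ ≤ M ⊔ Subgroup.centralizer (largestPReducedOf p M : Set G)) :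
    ∃ m ∈ M ⊔ Subgroup.centralizer (largestPReducedOf p M : Set G),
      L₁.map (cj m) ≤ (S : Subgroup G) := by
  have hS : IsSylowIn p (S : Subgroup G)
      (M ⊔ Subgroup.centralizer (largestPReducedOf p M : Set G)) :=
    isSylowIn_of_sylow_le S (h.hSM.trans le_sup_left)
  obtain ⟨U, hU, hL₁U⟩ := exists_isSylowIn_ge hL₁Md hL₁
  obtain ⟨m, hm, hUS⟩ := hU.exists_conj hS
  exact ⟨m, hm, hUS ▸ Subgroup.map_mono hL₁U⟩

theorem pGroup_inf_C_le (L₁ : Subgroup G) (hL₁ : IsPGroup p ↥L₁)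
    (hL₁Md : L₁ ≤ M ⊔ Subgroup.centralizer (largestPReducedOf p M : Set G))
    (hQL₁ : pCoreOf p M ≤ L₁) :
    L₁ ⊓ Subgroup.centralizer (largestPReducedOf p M : Set G) ≤ pCoreOf p M := by
  obtain ⟨m, hm, hmS⟩ := h.exists_conj_le_S L₁ hL₁ hL₁Md
  have h1 : (pCoreOf p M).map (cj m) = pCoreOf p M :=
    h.conj_QM_eq_of_le_S m hm ((Subgroup.map_mono hQL₁).trans hmS)
  have hmC := h.le_normalizer_C hm
  have h2 : (L₁ ⊓ Subgroup.centralizer (largestPReducedOf p M : Set G)).map (cj m) ≤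
      pCoreOf p M := by
    rw [map_cj_inf, mem_normalizer_iff_map_cj.1 hmC]
    exact (inf_le_inf_right _ hmS).trans h.S_inf_C_le
  have h3 := (map_cj_le_iff _ _ m).1 h2
  have h4 : (pCoreOf p M).map (cj m⁻¹) = pCoreOf p M := by
    conv_lhs => rw [← h1]
    exact map_cj_map_cj_inv _ m
  rwa [h4] at h3

theorem conj_QM_eq (g : G)
    (hg : g ∈ M ⊔ Subgroup.centralizer (largestPReducedOf p M : Set G))
    (L₁ : Subgroup G) (hL₁ : IsPGroup p ↥L₁)
    (hL₁Md : L₁ ≤ M ⊔ Subgroup.centralizer (largestPReducedOf p M : Set G))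
    (hQL₁ : pCoreOf p M ≤ L₁) (hgL₁ : (pCoreOf p M).map (cj g) ≤ L₁) :
    (pCoreOf p M).map (cj g) = pCoreOf p M := by
  obtain ⟨m, hm, hmS⟩ := h.exists_conj_le_S L₁ hL₁ hL₁Md
  have h1 : (pCoreOf p M).map (cj m) = pCoreOf p M :=
    h.conj_QM_eq_of_le_S m hm ((Subgroup.map_mono hQL₁).trans hmS)
  have h2 : (pCoreOf p M).map (cj (m * g)) = pCoreOf p M := by
    apply h.conj_QM_eq_of_le_S (m * g) (Subgroup.mul_mem _ hm hg)
    rw [← map_cj_mul]
    exact (Subgroup.map_mono hgL₁).trans hmS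
  rw [← map_cj_mul] at h2
  have h3 := congrArg (Subgroup.map (cj m⁻¹)) h2
  rw [map_cj_map_cj_inv] at h3
  rw [h3]
  conv_lhs => rw [← h1]
  exact map_cj_map_cj_inv _ m

/-- `N_G(M†) = M†` and conjugates of `M` inside `M†` come from `M†`. -/
theorem mem_dagger_of_conj_le (g : G)
    (hg : M.map (cj g) ≤ M ⊔ Subgroup.centralizer (largestPReducedOf p M : Set G)) :
    g ∈ M ⊔ Subgroup.centralizer (largestPReducedOf p M : Set G) := by
  set Md := M ⊔ Subgroup.centralizer (largestPReducedOf p M : Set G) with hMd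
  have hmax : Md ∈ maxCharPSubgroups p G := h.hM.2.1
  -- N_G(Md) = Md
  have hN : Subgroup.normalizer (Md : Set G) ≤ Md := by
    set N := Subgroup.normalizer (Md : Set G) with hNdef
    have hMdN : Md ≤ N := Subgroup.le_normalizer
    have hpar : IsParabolic p N := ⟨S, (h.hSM.trans le_sup_left).trans hMdN⟩
    have hcore : pCore p ↥N ≠ ⊥ := by
      intro hbot
      have h1 : pCoreOf p Md ≤ pCoreOf p N :=
        le_pCoreOf p ((pCoreOf_le p Md).trans hMdN) (normalizer_le_normalizer_pCoreOf Md)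
          (pCoreOf_isPGroup p Md)
      have h2 : pCoreOf p N = ⊥ := by unfold pCoreOf; rw [hbot, Subgroup.map_bot]
      rw [h2] at h1
      exact pCoreOf_ne_bot hmax.1.1 (le_bot_iff.1 h1)
    have hNch : N ∈ charPSubgroups p G :=
      ⟨hcore, large_parabolic_charP h.hQp h.hQ1 h.hQ N hpar hcore⟩
    exact (hmax.2 N hNch hMdN).le
  have h1 : M ≤ Md.map (cj g⁻¹) := (map_cj_le_iff M Md g).1 hg
  have h2 := h.hM.2.2.1 _ (maxCharPSubgroups_map_cj hmax g⁻¹) h1
  have h3 : g⁻¹ ∈ Subgroup.normalizer (Md : Set G) := mem_normalizer_iff_map_cj.2 h2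
  have := hN h3
  simpa using Md.inv_mem this

end FrakMSetup

end AsymB

end Cfsg.Agent.Helper14
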