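import Cfsg.Agent.Helper14.Asym2
import Cfsg.Agent.Helper14.MinimalOver2

set_option autoImplicit false
set_option linter.unusedSectionVars false
set_option linter.style.haveILetI false

namespace Cfsg.Agent.Helper14

open Cfsg

section AsymC

variable {G : Type*} [Group G] [Finite G] {p : ℕ} [Fact p.Prime]

namespace FrakMSetup

variable {S : Sylow p G} {Q M : Subgroup G} (h : FrakMSetup p S Q M)

include h

/-- The key step: if `O_p(M) ⊴ L` (a `p`-group) and `g` normalizes `L`, then `g ∈ M†`. -/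
theorem mem_dagger_of_normalizes (hasym : ¬ IsSymmetricIn (largestPReducedOf p M))
    (L : Subgroup G) (hL : IsPGroup p ↥L) (hQL : pCoreOf p M ≤ L)
    (hLN : L ≤ Subgroup.normalizer ((pCoreOf p M : Subgroup G) : Set G)) (g : G)
    (hg : g ∈ Subgroup.normalizer (L : Set G)) :
    g ∈ M ⊔ Subgroup.centralizer (largestPReducedOf p M : Set G) := by
  set Y := largestPReducedOf p M with hY
  set QM := pCoreOf p M with hQM
  set N₁ := Subgroup.normalizer (QM : Set G) with hN₁
  set Md := M ⊔ Subgroup.centralizer (Y : Set G) with hMd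
  have hLg : L.map (cj g) = L := mem_normalizer_iff_map_cj.1 hg
  have hN₁Md : N₁ ≤ Md := h.normalizer_QM_le
  have hMN₁ : M ≤ N₁ := le_normalizer_pCoreOf p M
  by_cases hY1 : Y = ⊥
  · have : Subgroup.centralizer (Y : Set G) = ⊤ := by
      rw [hY1, eq_top_iff]
      intro x _
      rw [Subgroup.mem_centralizer_iff]
      intro y hy
      have : y = 1 := Subgroup.mem_bot.1 hy
      rw [this, one_mul, mul_one]
    rw [hMd, this, sup_top_eq]
    trivial
  have key := asym_closure_le (Y := Y) (L := L) hasym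
    (fun b => cond b Y (Y.map (cj g))) (fun b => cond b QM (QM.map (cj g)))
    (fun b => cond b N₁ (N₁.map (cj g)))
    (by
      intro i; cases i
      · exact ⟨g, rfl⟩
      · exact ⟨1, (map_cj_one Y).symm⟩)
    (by
      intro i; cases i
      · exact Subgroup.map_mono (largestPReducedOf_le_pCoreOf M)
      · exact largestPReducedOf_le_pCoreOf M)
    (by
      intro i; cases i
      · show QM.map (cj g) ≤ L
        rw [← hLg]; exact Subgroup.map_mono hQL
      · exact hQL)
    (by
      intro i; cases i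
      · show L ≤ N₁.map (cj g)
        conv_lhs => rw [← hLg]
        exact Subgroup.map_mono hLN
      · exact hLN)
    (by
      intro i; cases i
      · show N₁.map (cj g) ≤ Subgroup.normalizer ((QM.map (cj g) : Subgroup G) : Set G)
        rw [← map_cj_normalizer]
      · exact le_rfl)
    (by
      intro i; cases i
      · show N₁.map (cj g) ≤ Subgroup.normalizer ((Y.map (cj g) : Subgroup G) : Set G)
        rw [← map_cj_normalizer]
        exact Subgroup.map_mono (hN₁Md.trans h.le_normalizer_Y)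
      · exact hN₁Md.trans h.le_normalizer_Y)
    (by
      intro i; cases i
      · show L ⊓ Subgroup.centralizer ((Y.map (cj g) : Subgroup G) : Set G) ≤ QM.map (cj g)
        have := Subgroup.map_mono (f := cj g) (h.pGroup_inf_C_le L hL (hLN.trans hN₁Md) hQL)
        rwa [map_cj_inf, hLg, map_cj_centralizer] at this
      · exact h.pGroup_inf_C_le L hL (hLN.trans hN₁Md) hQL)
  set X : Subgroup G := ⨆ i : Bool, cond i N₁ (N₁.map (cj g)) with hX
  have hN₁X : N₁ ≤ X := le_iSup (fun i : Bool => cond i N₁ (N₁.map (cj g))) true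
  have hN₂X : N₁.map (cj g) ≤ X := le_iSup (fun i : Bool => cond i N₁ (N₁.map (cj g))) false
  have hYx : ∀ x ∈ X, Y.map (cj x) ≤ QM := fun x hx => key x hx true true
  -- the normal p-subgroup E of X
  set E : Subgroup G := ⨆ x : ↥X, Y.map (cj (x : G)) with hE
  have hEQ : E ≤ QM := iSup_le fun x => hYx x.1 x.2
  have hEX : E ≤ X := hEQ.trans ((pCoreOf_le p M).trans (hMN₁.trans hN₁X))
  have hXE : X ≤ Subgroup.normalizer (E : Set G) := by
    apply le_normalizer_of_map_cj_le
    intro n hn
    rw [hE, Subgroup.map_iSup]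
    refine iSup_le fun x => ?_
    rw [map_cj_mul]
    exact le_iSup (fun x : ↥X => Y.map (cj (x : G))) ⟨n * x, X.mul_mem hn x.2⟩
  have hYE : Y ≤ E := by
    have := le_iSup (fun x : ↥X => Y.map (cj (x : G))) (1 : ↥X)
    simp only [OneMemClass.coe_one, map_cj_one] at this
    exact this
  have hEp : IsPGroup p ↥E := (pCoreOf_isPGroup p M).to_le hEQ
  have hcore : pCore p ↥X ≠ ⊥ := by
    intro hbot
    have h1 : E ≤ pCoreOf p X := le_pCoreOf p hEX hXE hEp
    have h2 : pCoreOf p X = ⊥ := by unfold pCoreOf; rw [hbot, Subgroup.map_bot]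
    rw [h2] at h1
    exact hY1 (le_bot_iff.1 (hYE.trans h1))
  have hpar : IsParabolic p X := ⟨S, h.hSM.trans (hMN₁.trans hN₁X)⟩
  have hXch : X ∈ charPSubgroups p G :=
    ⟨hcore, large_parabolic_charP h.hQp h.hQ1 h.hQ X hpar hcore⟩
  obtain ⟨X', hX', hXX'⟩ := exists_le_maxCharP _ hXch
  have hX'eq := h.hM.2.2.1 X' hX' (hMN₁.trans (hN₁X.trans hXX'))
  have hXMd : X ≤ Md := by rw [hMd, ← hX'eq]; exact hXX'
  exact h.mem_dagger_of_conj_le g ((Subgroup.map_mono hMN₁).trans (hN₂X.trans hXMd))

theorem conj_QM_eq_of_normalizes (hasym : ¬ IsSymmetricIn (largestPReducedOf p M))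
    (L : Subgroup G) (hL : IsPGroup p ↥L) (hQL : pCoreOf p M ≤ L)
    (hLN : L ≤ Subgroup.normalizer ((pCoreOf p M : Subgroup G) : Set G)) (g : G)
    (hg : g ∈ Subgroup.normalizer (L : Set G)) :
    (pCoreOf p M).map (cj g) = pCoreOf p M := by
  have hgMd := h.mem_dagger_of_normalizes hasym L hL hQL hLN g hg
  have hLg : L.map (cj g) = L := mem_normalizer_iff_map_cj.1 hg
  apply h.conj_QM_eq g hgMd L hL (hLN.trans h.normalizer_QM_le) hQL
  rw [← hLg]; exact Subgroup.map_mono hQL

/-- S2850 (a) -/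
theorem normalizer_le_normalizer_QM (hasym : ¬ IsSymmetricIn (largestPReducedOf p M))
    (L : Subgroup G) (hL : IsPGroup p ↥L) (hQL : pCoreOf p M ≤ L) :
    Subgroup.normalizer (L : Set G) ≤
      Subgroup.normalizer ((pCoreOf p M : Subgroup G) : Set G) := by
  set N₁ := Subgroup.normalizer ((pCoreOf p M : Subgroup G) : Set G) with hN₁
  have hL₁p : IsPGroup p ↥(L ⊓ N₁) := hL.to_le inf_le_left
  have hQL₁ : pCoreOf p M ≤ L ⊓ N₁ := le_inf hQL Subgroup.le_normalizer
  have h1 : Subgroup.normalizer ((L ⊓ N₁ : Subgroup G) : Set G) ≤ N₁ := by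
    intro g hg
    exact mem_normalizer_iff_map_cj.2
      (h.conj_QM_eq_of_normalizes hasym (L ⊓ N₁) hL₁p hQL₁ inf_le_right g hg)
  have hLeq : L ⊓ N₁ = L := by
    by_contra hne
    have hlt : L ⊓ N₁ < L := lt_of_le_of_ne inf_le_left hne
    have := lt_inf_normalizer_of_lt hL hlt
    exact absurd (le_inf inf_le_left (inf_le_right.trans h1)) (not_le_of_gt this)
  have hLN : L ≤ N₁ := hLeq ▸ inf_le_right
  intro g hg
  exact mem_normalizer_iff_map_cj.2 (h.conj_QM_eq_of_normalizes hasym L hL hQL hLN g hg)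

end FrakMSetup

end AsymC

end Cfsg.Agent.Helper14
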