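import Cfsg.Agent.Helper14.Large2
import Cfsg.Agent.Helper14.Kieler
import Cfsg.Agent.Helper14.Stability
import Cfsg.Agent.Helper15.CharP
import Cfsg.Agent.Helper15.CharP2

set_option autoImplicit false
set_option linter.unusedSectionVars false
set_option linter.style.haveILetI false

namespace Cfsg.Agent.Helper14

open Cfsg
open scoped commutatorElement

section
variable {H : Type*} [Group H] [Finite H] {p : ℕ} [Fact p.Prime]

/-- Overgroups `M` of a weakly closed, self-centralizing `p`-subgroup `Q` inside a subgroup `K` of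
characteristic `p` have characteristic `p`. -/
theorem charP_of_wcs_overgroup {Q K M : Subgroup H} (hQp : IsPGroup p ↥Q)
    (hwc : IsWeaklyClosedSubgroup p Q) (hCQ : Subgroup.centralizer (Q : Set H) ≤ Q)
    (hK : Subgroup.centralizer (pCore p ↥K : Set ↥K) ≤ pCore p ↥K)
    (hQM : Q ≤ M) (hMK : M ≤ K) :
    M ⊓ Subgroup.centralizer (pCoreOf p M : Set H) ≤ pCoreOf p M := by
  set Q' : Subgroup ↥K := Q.subgroupOf K with hQ'
  have hQ'p : IsPGroup p ↥Q' := hQp.comap_subtype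
  obtain ⟨T', hT'⟩ := hQ'p.exists_le_sylow
  set T : Subgroup H := (T' : Subgroup ↥K).map K.subtype with hT
  have hTp : IsPGroup p ↥T := T'.isPGroup'.map _
  have hQT : Q ≤ T := by
    intro q hq
    exact ⟨⟨q, hMK (hQM hq)⟩, hT' (Subgroup.mem_subgroupOf.2 hq), rfl⟩
  have hTN : T ≤ Subgroup.normalizer (Q : Set H) := wc_le_normalizer (wcs_of_le_pGroup hwc hTp hQT)
  have hQ'n : (T' : Subgroup ↥K) ≤ Subgroup.normalizer (Q' : Set ↥K) := by
    intro t ht
    have htN : (t : H) ∈ Subgroup.normalizer (Q : Set H) := hTN ⟨t, ht, rfl⟩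
    rw [Subgroup.mem_normalizer_iff] at htN ⊢
    intro x
    rw [hQ', Subgroup.mem_subgroupOf, Subgroup.mem_subgroupOf]
    exact htN x
  have hC' : (T' : Subgroup ↥K) ⊓ Subgroup.centralizer (Q' : Set ↥K) ≤ Q' := by
    rintro t ⟨-, htc⟩
    rw [hQ', Subgroup.mem_subgroupOf]
    apply hCQ
    rw [Subgroup.mem_centralizer_iff]
    intro q hq
    have := Subgroup.mem_centralizer_iff.1 htc ⟨q, hMK (hQM hq)⟩ (Subgroup.mem_subgroupOf.2 hq)
    exact congrArg Subtype.val this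
  have hQ'M' : Q' ≤ M.subgroupOf K := by
    intro x hx
    rw [Subgroup.mem_subgroupOf] at hx ⊢
    exact hQM hx
  have h1 := Cfsg.Agent.Helper15.inf_centralizer_pCoreOf_le hK T' Q' hT' hQ'n hC'
    (M.subgroupOf K) hQ'M'
  have h2 := charP_of_ambient h1
  have h3 := Cfsg.Agent.Helper15.charP_of_mulEquiv p (Subgroup.subgroupOfEquivOfLe hMK) h2
  exact charP_ambient p h3


/-- `C_L(O_p(L)) ≤ O_p(L)` for `L ≥ Q`, `Q` weakly closed & self-centralizing, when `Q` and
`C_H(O_p(L))` lie in a subgroup `K` of characteristic `p`. -/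
theorem wcs_inf_centralizer_pCoreOf_le {Q K L : Subgroup H} (hQp : IsPGroup p ↥Q)
    (hwc : IsWeaklyClosedSubgroup p Q) (hCQ : Subgroup.centralizer (Q : Set H) ≤ Q)
    (hK : Subgroup.centralizer (pCore p ↥K : Set ↥K) ≤ pCore p ↥K)
    (hQK : Q ≤ K) (hQL : Q ≤ L)
    (hDK : Subgroup.centralizer ((pCoreOf p L : Subgroup H) : Set H) ≤ K) :
    L ⊓ Subgroup.centralizer ((pCoreOf p L : Subgroup H) : Set H) ≤ pCoreOf p L := by
  set P := pCoreOf p L with hP
  set D := Subgroup.centralizer (P : Set H) with hD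
  have hLP : L ≤ Subgroup.normalizer (P : Set H) := le_normalizer_pCoreOf p L
  have hLD : L ≤ Subgroup.normalizer (D : Set H) :=
    hLP.trans (normalizer_le_normalizer_centralizer' P)
  set E := L ⊓ D with hE
  have hLE : L ≤ Subgroup.normalizer (E : Set H) := le_normalizer_inf Subgroup.le_normalizer hLD
  set M' := E ⊔ Q with hM'
  have hM'K : M' ≤ K := sup_le (inf_le_right.trans hDK) hQK
  have hM'c := charP_of_wcs_overgroup hQp hwc hCQ hK (le_sup_right : Q ≤ M') hM'K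
  set U' := pCoreOf p M' with hU'
  have hM'U' : M' ≤ Subgroup.normalizer (U' : Set H) := le_normalizer_pCoreOf p M'
  have hM'E : M' ≤ Subgroup.normalizer (E : Set H) :=
    sup_le Subgroup.le_normalizer (hQL.trans hLE)
  have hU'E : U' ⊓ E ≤ P := by
    have h1 : U' ⊓ E ≤ pCoreOf p E := by
      apply le_pCoreOf p inf_le_right _ ((pCoreOf_isPGroup p M').to_le inf_le_left)
      exact le_normalizer_inf ((le_sup_left : E ≤ M').trans hM'U') Subgroup.le_normalizer
    have h2 : pCoreOf p E ≤ P := by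
      apply le_pCoreOf p ((pCoreOf_le p E).trans inf_le_left) _ (pCoreOf_isPGroup p E)
      exact hLE.trans (le_normalizer_pCoreOf' E)
    exact h1.trans h2
  have key : ∀ a ∈ E, (orderOf a).Coprime p → a = 1 := by
    intro a ha hcop
    have haM' : a ∈ M' := (le_sup_left : E ≤ M') ha
    have hac : a ∈ Subgroup.centralizer (U' : Set H) := by
      rw [Subgroup.mem_centralizer_iff]
      intro u hu
      have huM' : u ∈ M' := pCoreOf_le p M' hu
      have hz : u * a * u⁻¹ * a⁻¹ ∈ U' ⊓ E := by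
        constructor
        · have h1 : a * u⁻¹ * a⁻¹ ∈ U' :=
            (Subgroup.mem_normalizer_iff.1 (hM'U' haM') u⁻¹).1 (U'.inv_mem hu)
          have : u * a * u⁻¹ * a⁻¹ = u * (a * u⁻¹ * a⁻¹) := by group
          rw [this]; exact U'.mul_mem hu h1
        · have h1 : u * a * u⁻¹ ∈ E := (Subgroup.mem_normalizer_iff.1 (hM'E huM') a).1 ha
          exact E.mul_mem h1 (E.inv_mem ha)
      have hzP : u * a * u⁻¹ * a⁻¹ ∈ P := hU'E hz
      have hcomm : Commute (u * a * u⁻¹ * a⁻¹) a :=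
        (Subgroup.mem_centralizer_iff.1 ha.2 _ hzP)
      have hp : p.Prime := Fact.out
      obtain ⟨k, hk⟩ := (pCoreOf_isPGroup p M') ⟨_, hz.1⟩
      have hk' : (u * a * u⁻¹ * a⁻¹) ^ p ^ k = 1 := by simpa using congrArg Subtype.val hk
      obtain ⟨j, -, hj⟩ := (Nat.dvd_prime_pow hp).1 (orderOf_dvd_of_pow_eq_one hk')
      have h1 := Cfsg.Agent.Helper23.comm_eq_one_of_coprime u a hcomm
        (by rw [hj]; exact Nat.Coprime.pow_right j hcop)
      calc u * a = (u * a * u⁻¹ * a⁻¹) * a * u := by group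
        _ = a * u := by rw [h1, one_mul]
    have haU' : a ∈ U' := hM'c ⟨haM', hac⟩
    obtain ⟨k, hk⟩ := (pCoreOf_isPGroup p M') ⟨a, haU'⟩
    have hk' : a ^ p ^ k = 1 := by simpa using congrArg Subtype.val hk
    have h3 : orderOf a = 1 :=
      Nat.Coprime.eq_one_of_dvd (Nat.Coprime.pow_right k hcop) (orderOf_dvd_of_pow_eq_one hk')
    exact orderOf_eq_one_iff.1 h3
  have hEp : IsPGroup p ↥E := Cfsg.Agent.Helper15.isPGroup_of_forall_coprime_eq_one E key
  exact le_pCoreOf p inf_le_left hLE hEp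


/-- main step of S2842: `C_H(O_p(L))` normalizes `Q` -/
theorem wcs_centralizer_pCoreOf_le_normalizer {Q K L : Subgroup H} (hQp : IsPGroup p ↥Q)
    (hwc : IsWeaklyClosedSubgroup p Q) (hCQ : Subgroup.centralizer (Q : Set H) ≤ Q)
    (hK : Subgroup.centralizer (pCore p ↥K : Set ↥K) ≤ pCore p ↥K)
    (hQK : Q ≤ K) (hQL : Q ≤ L)
    (hDK : Subgroup.centralizer ((pCoreOf p L : Subgroup H) : Set H) ≤ K) :
    Subgroup.centralizer ((pCoreOf p L : Subgroup H) : Set H) ≤ Subgroup.normalizer (Q : Set H) := by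
  have hp : p.Prime := Fact.out
  have hEP := wcs_inf_centralizer_pCoreOf_le hQp hwc hCQ hK hQK hQL hDK
  set P := pCoreOf p L with hP
  set D := Subgroup.centralizer (P : Set H) with hD
  have hLP : L ≤ Subgroup.normalizer (P : Set H) := le_normalizer_pCoreOf p L
  have hLD : L ≤ Subgroup.normalizer (D : Set H) :=
    hLP.trans (normalizer_le_normalizer_centralizer' P)
  have hQD : Q ≤ Subgroup.normalizer (D : Set H) := hQL.trans hLD
  set M := D ⊔ Q with hM
  have hMK : M ≤ K := sup_le hDK hQK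
  have hMc := charP_of_wcs_overgroup hQp hwc hCQ hK (le_sup_right : Q ≤ M) hMK
  have hMD : M ≤ Subgroup.normalizer (D : Set H) := sup_le Subgroup.le_normalizer hQD
  have hDc := charP_of_normal_rel (le_sup_left : D ≤ M) hMD hMc
  set D₀ := pCoreOf p D with hD₀
  set U := pCoreOf p M with hU
  have hD₀D : D₀ ≤ D := pCoreOf_le p D
  have hMD₀ : M ≤ Subgroup.normalizer (D₀ : Set H) := hMD.trans (le_normalizer_pCoreOf' D)
  have hD₀U : D₀ ≤ U :=
    le_pCoreOf p (hD₀D.trans le_sup_left) hMD₀ (pCoreOf_isPGroup p D)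
  have hUQ : U ≤ Subgroup.normalizer (Q : Set H) := by
    have hR : IsPGroup p ↥(Q ⊔ U : Subgroup H) :=
      IsPGroup.to_sup_of_normal_right' hQp (pCoreOf_isPGroup p M)
        ((le_sup_right : Q ≤ M).trans (le_normalizer_pCoreOf p M))
    exact le_sup_right.trans (wc_le_normalizer (wcs_of_le_pGroup hwc hR le_sup_left))
  set Z₀ := P ⊓ D₀ with hZ₀
  have hQZ₀ : Q ≤ Subgroup.normalizer (Z₀ : Set H) :=
    le_normalizer_inf (hQL.trans hLP) ((le_sup_right : Q ≤ M).trans hMD₀)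
  -- `D` centralizes `Z₀`
  have hDZ₀ : ∀ d ∈ D, ∀ z ∈ Z₀, d * z * d⁻¹ = z := by
    intro d hd z hz
    have := Subgroup.mem_centralizer_iff.1 hd z hz.1
    rw [← this]; group
  -- `[q, x] ∈ Z₀`
  have hcomm : ∀ q ∈ Q, ∀ x ∈ D₀, q * x * q⁻¹ * x⁻¹ ∈ Z₀ := by
    intro q hq x hx
    have h1 : q * x * q⁻¹ * x⁻¹ ∈ Q := by
      have h2 : x * q⁻¹ * x⁻¹ ∈ Q :=
        (Subgroup.mem_normalizer_iff.1 (hUQ (hD₀U hx)) q⁻¹).1 (Q.inv_mem hq)
      have : q * x * q⁻¹ * x⁻¹ = q * (x * q⁻¹ * x⁻¹) := by group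
      rw [this]; exact Q.mul_mem hq h2
    have h2 : q * x * q⁻¹ * x⁻¹ ∈ D₀ := by
      have h3 : q * x * q⁻¹ ∈ D₀ :=
        (Subgroup.mem_normalizer_iff.1 (hMD₀ ((le_sup_right : Q ≤ M) hq)) x).1 hx
      exact D₀.mul_mem h3 (D₀.inv_mem hx)
    exact ⟨hEP ⟨hQL h1, hD₀D h2⟩, h2⟩
  -- the stability subgroup
  let S : Subgroup H :=
    { carrier := {g | g ∈ D ∧ ∀ x ∈ D₀, g * x * g⁻¹ * x⁻¹ ∈ Z₀}
      one_mem' := ⟨D.one_mem, fun x _ => by simp⟩
      mul_mem' := by
        rintro g h ⟨hg, hg'⟩ ⟨hh, hh'⟩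
        refine ⟨D.mul_mem hg hh, fun x hx => ?_⟩
        have hx₂ : h * x * h⁻¹ ∈ D₀ :=
          (Subgroup.mem_normalizer_iff.1 (hMD₀ ((le_sup_left : D ≤ M) hh)) x).1 hx
        have : g * h * x * (g * h)⁻¹ * x⁻¹ =
            (g * (h * x * h⁻¹) * g⁻¹ * (h * x * h⁻¹)⁻¹) * (h * x * h⁻¹ * x⁻¹) := by group
        rw [this]
        exact Z₀.mul_mem (hg' _ hx₂) (hh' x hx)
      inv_mem' := by
        rintro g ⟨hg, hg'⟩
        refine ⟨D.inv_mem hg, fun x hx => ?_⟩
        have hx' : g⁻¹ * x * g ∈ D₀ := by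
          have := (Subgroup.mem_normalizer_iff.1
            (hMD₀ ((le_sup_left : D ≤ M) (D.inv_mem hg))) x).1 hx
          simpa using this
        have h1 := hg' _ hx'
        have : g⁻¹ * x * g⁻¹⁻¹ * x⁻¹ = (g * (g⁻¹ * x * g) * g⁻¹ * (g⁻¹ * x * g)⁻¹)⁻¹ := by group
        rw [this]
        exact Z₀.inv_mem h1 }
  have hmemS : ∀ g, g ∈ S ↔ g ∈ D ∧ ∀ x ∈ D₀, g * x * g⁻¹ * x⁻¹ ∈ Z₀ := fun g => Iff.rfl
  -- `[Q, D] ≤ S`
  have hQDS : ⁅Q, D⁆ ≤ S := by
    rw [Subgroup.commutator_le]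
    intro q hq d hd
    rw [hmemS, commutatorElement_def]
    have hgD : q * d * q⁻¹ * d⁻¹ ∈ D := by
      have h1 : q * d * q⁻¹ ∈ D := (Subgroup.mem_normalizer_iff.1 (hQD hq) d).1 hd
      exact D.mul_mem h1 (D.inv_mem hd)
    refine ⟨hgD, fun x hx => ?_⟩
    have hx₁ : d⁻¹ * x * d ∈ D₀ := by
      have := (Subgroup.mem_normalizer_iff.1
        (hMD₀ ((le_sup_left : D ≤ M) (D.inv_mem hd))) x).1 hx
      simpa using this
    have hz₁ := hcomm q⁻¹ (Q.inv_mem hq) _ hx₁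
    rw [inv_inv] at hz₁
    set z₁ := q⁻¹ * (d⁻¹ * x * d) * q * (d⁻¹ * x * d)⁻¹ with hz₁def
    have hid : q * d * q⁻¹ * d⁻¹ * x * (q * d * q⁻¹ * d⁻¹)⁻¹ * x⁻¹ =
        (q * (d * z₁ * d⁻¹) * q⁻¹) * (q * x * q⁻¹ * x⁻¹) := by
      rw [hz₁def]; group
    rw [hid, hDZ₀ d hd z₁ hz₁]
    exact Z₀.mul_mem ((Subgroup.mem_normalizer_iff.1 (hQZ₀ hq) z₁).1 hz₁) (hcomm q hq x hx)
  -- elements of `S` are `p`-elements
  obtain ⟨s, hs⟩ := IsPGroup.iff_card.1 (pCoreOf_isPGroup p D)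
  have hSp : ∀ a ∈ S, a ^ (p ^ (3 * s)) = 1 := by
    intro a ha
    set N := Nat.card ↥D₀ with hN
    let C : ℕ → Subgroup H := fun i => match i with
      | 0 => ⊥
      | 1 => Z₀
      | _ => D₀
    have hCle : ∀ i, C i ≤ D₀ := by
      intro i
      match i with
      | 0 => exact bot_le
      | 1 => exact inf_le_right
      | (k + 2) => exact le_rfl
    have key := stab_chain a N 2 C rfl
      (by
        intro i hi u hu k
        have hak : a ^ k ∈ S := S.pow_mem ha k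
        rw [hmemS] at hak
        have hi' : i = 0 ∨ i = 1 := by omega
        rcases hi' with rfl | rfl
        · show _ ∈ (⊥ : Subgroup H)
          rw [Subgroup.mem_bot]
          have hu' : u ∈ Z₀ := hu
          have h5 := hDZ₀ _ hak.1 u hu'
          have h6 : u * a ^ k * u⁻¹ * (a ^ k)⁻¹ = u * (a ^ k * u * (a ^ k)⁻¹)⁻¹ := by group
          rw [h6, h5]; group
        · show _ ∈ Z₀
          have hu' : u ∈ D₀ := hu
          have h1 := hak.2 u⁻¹ (D₀.inv_mem hu')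
          rw [inv_inv] at h1
          have h2 := hDZ₀ u (hD₀D hu') _ h1
          have h6 : u * a ^ k * u⁻¹ * (a ^ k)⁻¹ = u * (a ^ k * u⁻¹ * (a ^ k)⁻¹ * u) * u⁻¹ := by
            group
          rw [h6, h2]; exact h1)
      (by
        intro i _ c hc
        exact card_pow_eq_one_of_mem (hCle i hc))
    have h2 := key 2 le_rfl
    have haD : a ∈ D := ((hmemS a).1 ha).1
    have hmem : a ^ (N ^ 2) ∈ D ⊓ Subgroup.centralizer (D₀ : Set H) := by
      refine ⟨D.pow_mem haD _, ?_⟩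
      show a ^ (N ^ 2) ∈ Subgroup.centralizer (D₀ : Set H)
      rw [Subgroup.mem_centralizer_iff]
      intro u hu
      exact (h2 u hu).symm
    have h3 := card_pow_eq_one_of_mem (hDc hmem)
    rw [← pow_mul, ← hN, hs] at h3
    have : p ^ (3 * s) = (p ^ s) ^ 2 * p ^ s := by ring
    rw [this]; exact h3
  have hQDp : IsPGroup p ↥(⁅Q, D⁆ : Subgroup H) := by
    intro g
    refine ⟨3 * s, ?_⟩
    apply Subtype.ext
    have := hSp g.1 (hQDS g.2)
    simpa using this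
  -- `Q [Q,D]` is a `p`-group, hence `Q` is weakly closed in it
  have hR : IsPGroup p ↥(Q ⊔ ⁅Q, D⁆ : Subgroup H) :=
    IsPGroup.to_sup_of_normal_right' hQp hQDp (Cfsg.Agent.Lead.le_normalizer_commutator_left Q D)
  have hwcR := wcs_of_le_pGroup hwc hR le_sup_left
  intro d hd
  rw [mem_normalizer_iff_map_cj]
  apply hwcR.2 d
  rintro _ ⟨q, hq, rfl⟩
  have : cj d q = (q * (q⁻¹ * d * q * d⁻¹)) := by rw [cj_apply]; group
  rw [this]
  refine Subgroup.mul_mem _ (Subgroup.mem_sup_left hq) (Subgroup.mem_sup_right ?_)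
  have h1 : ⁅q⁻¹, d⁆ ∈ ⁅Q, D⁆ := Subgroup.commutator_mem_commutator (Q.inv_mem hq) hd
  rw [commutatorElement_def, inv_inv] at h1
  exact h1


/-- S2842, uniform version -/
theorem wcs_centralizer_structure {Q K L : Subgroup H} (hQp : IsPGroup p ↥Q)
    (hwc : IsWeaklyClosedSubgroup p Q) (hCQ : Subgroup.centralizer (Q : Set H) ≤ Q)
    (hK : Subgroup.centralizer (pCore p ↥K : Set ↥K) ≤ pCore p ↥K)
    (hQK : Q ≤ K) (hQL : Q ≤ L)
    (hDK : Subgroup.centralizer ((pCoreOf p L : Subgroup H) : Set H) ≤ K) :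
    ⁅Q, Subgroup.centralizer ((pCoreOf p L : Subgroup H) : Set H)⁆ ≤ Q ⊓ pCoreOf p L ∧
    IsPGroup p ↥(Subgroup.centralizer ((pCoreOf p L : Subgroup H) : Set H)) ∧
    L ⊓ Subgroup.centralizer ((pCoreOf p L : Subgroup H) : Set H) ≤ pCoreOf p L := by
  have hp : p.Prime := Fact.out
  have hEP := wcs_inf_centralizer_pCoreOf_le hQp hwc hCQ hK hQK hQL hDK
  have hDQ := wcs_centralizer_pCoreOf_le_normalizer hQp hwc hCQ hK hQK hQL hDK
  set P := pCoreOf p L with hP
  set D := Subgroup.centralizer (P : Set H) with hD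
  have hPp : IsPGroup p ↥P := pCoreOf_isPGroup p L
  have hLP : L ≤ Subgroup.normalizer (P : Set H) := le_normalizer_pCoreOf p L
  have hLD : L ≤ Subgroup.normalizer (D : Set H) :=
    hLP.trans (normalizer_le_normalizer_centralizer' P)
  have hQD : Q ⊓ D ≤ P := (inf_le_inf_right D hQL).trans hEP
  have h1 : ⁅Q, D⁆ ≤ Q ⊓ P := by
    have ha : ⁅Q, D⁆ ≤ Q := commutator_le_left_of_le_normalizer hDQ
    have hb : ⁅Q, D⁆ ≤ D := commutator_le_right_of_le_normalizer (hQL.trans hLD)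
    exact le_inf ha ((le_inf ha hb).trans hQD)
  refine ⟨h1, ?_, hEP⟩
  have hPQ : P ≤ Subgroup.normalizer (Q : Set H) := by
    have hR : IsPGroup p ↥(Q ⊔ P : Subgroup H) :=
      IsPGroup.to_sup_of_normal_right' hQp hPp (hQL.trans hLP)
    exact le_sup_right.trans (wc_le_normalizer (wcs_of_le_pGroup hwc hR le_sup_left))
  apply Cfsg.Agent.Helper15.isPGroup_of_forall_coprime_eq_one
  intro a ha hcop
  set A := Subgroup.zpowers a with hA
  have hAD : A ≤ D := Subgroup.zpowers_le.2 ha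
  have hAc : (Nat.card ↥A).Coprime p := by rw [hA, Nat.card_zpowers]; exact hcop
  have hPA : P ≤ Subgroup.centralizer (A : Set H) := Subgroup.le_centralizer_iff.1 hAD
  have h2 := Cfsg.Agent.Lead.thompson_PQ p P A Q hPp hAc hQp hPA hPQ (hAD.trans hDQ)
    (hQD.trans hPA)
  have haQ : a ∈ Q := hCQ (h2 (Subgroup.mem_zpowers a))
  obtain ⟨k, hk⟩ := hQp ⟨a, haQ⟩
  have hk' : a ^ p ^ k = 1 := by simpa using congrArg Subtype.val hk
  have h3 : orderOf a = 1 :=
    Nat.Coprime.eq_one_of_dvd (Nat.Coprime.pow_right k hcop) (orderOf_dvd_of_pow_eq_one hk')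
  exact orderOf_eq_one_iff.1 h3

end

end Cfsg.Agent.Helper14
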