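import Cfsg.Agent.Helper14.Asym3
import Cfsg.Agent.Helper14.WcsCharP

set_option autoImplicit false
set_option linter.unusedSectionVars false
set_option linter.style.haveILetI false

namespace Cfsg.Agent.Helper14

open Cfsg

section AsymD

variable {G : Type*} [Group G] [Finite G] {p : ℕ} [Fact p.Prime]

theorem mem_centralizer_single_iff (x a : G) :
    x ∈ Subgroup.centralizer ({a} : Set G) ↔ a * x = x * a := by
  rw [Subgroup.mem_centralizer_iff]
  constructor
  · intro h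
    exact h a (Set.mem_singleton a)
  · intro h y hy
    rw [Set.mem_singleton_iff] at hy
    rw [hy]; exact h

namespace FrakMSetup

variable {S : Sylow p G} {Q M : Subgroup G} (h : FrakMSetup p S Q M)

include h

/-- S2850 (b) -/
theorem wcs_QM (hasym : ¬ IsSymmetricIn (largestPReducedOf p M)) :
    IsWeaklyClosedSubgroup p (pCoreOf p M) :=
  isWeaklyClosedSubgroup_of_normalizer_property (pCoreOf_isPGroup p M)
    (fun R hR hQR => h.normalizer_le_normalizer_QM hasym R hR hQR)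

/-- `p`-subgroups containing `O_p(M)` lie in `M†`. -/
theorem pGroup_le_dagger (hasym : ¬ IsSymmetricIn (largestPReducedOf p M))
    (P : Subgroup G) (hP : IsPGroup p ↥P) (hQP : pCoreOf p M ≤ P) :
    P ≤ M ⊔ Subgroup.centralizer (largestPReducedOf p M : Set G) :=
  (wc_le_normalizer (wcs_of_le_pGroup (h.wcs_QM hasym) hP hQP)).trans h.normalizer_QM_le

/-- S2850 (c) -/
theorem parabolic_inf_dagger (hasym : ¬ IsSymmetricIn (largestPReducedOf p M))
    (L : Subgroup G) (hQL : pCoreOf p M ≤ L) :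
    IsParabolic p ((L ⊓ (M ⊔ Subgroup.centralizer
      (((largestPReducedOf p M) : Subgroup G) : Set G))).subgroupOf L) := by
  obtain ⟨T, hT⟩ := ((pCoreOf_isPGroup p M).comap_subtype (K := L)).exists_le_sylow
  refine ⟨T, ?_⟩
  intro t ht
  rw [Subgroup.mem_subgroupOf]
  refine ⟨t.2, ?_⟩
  have hP : IsPGroup p ↥((T : Subgroup ↥L).map L.subtype) := T.isPGroup'.map _
  have hQP : pCoreOf p M ≤ (T : Subgroup ↥L).map L.subtype := by
    intro x hx
    exact ⟨⟨x, hQL hx⟩, hT (Subgroup.mem_subgroupOf.2 hx), rfl⟩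
  exact h.pGroup_le_dagger hasym _ hP hQP ⟨t, ht, rfl⟩

/-- S2850 (d) -/
theorem fusion_in_Y (hasym : ¬ IsSymmetricIn (largestPReducedOf p M))
    (x : G) (hx : x ∈ largestPReducedOf p M) (g : G)
    (hgx : g * x * g⁻¹ ∈ largestPReducedOf p M) : ∃ m ∈ M, m * x * m⁻¹ = g * x * g⁻¹ := by
  set Y := largestPReducedOf p M with hY
  set QM := pCoreOf p M with hQM
  have hQC : QM ≤ Subgroup.centralizer (Y : Set G) :=
    pCoreOf_le_centralizer_largestPReducedOf (p := p) M
  set K := Subgroup.centralizer ({g * x * g⁻¹} : Set G) with hK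
  have hQK : QM ≤ K := by
    intro q hq
    rw [hK, mem_centralizer_single_iff]
    exact (Subgroup.mem_centralizer_iff.1 (hQC hq)) _ hgx
  have hQgK : QM.map (cj g) ≤ K := by
    rintro _ ⟨q, hq, rfl⟩
    rw [hK, mem_centralizer_single_iff, cj_apply]
    have h1 : x * q = q * x := (Subgroup.mem_centralizer_iff.1 (hQC hq)) _ hx
    calc g * x * g⁻¹ * (g * q * g⁻¹) = g * (x * q) * g⁻¹ := by group
      _ = g * (q * x) * g⁻¹ := by rw [h1]
      _ = g * q * g⁻¹ * (g * x * g⁻¹) := by group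
  obtain ⟨k, hkK, hk⟩ := wcs_conj_in_subgroup (pCoreOf_isPGroup p M) (h.wcs_QM hasym) hQK g hQgK
  have hn : k⁻¹ * g ∈ Subgroup.normalizer (QM : Set G) := by
    rw [mem_normalizer_iff_map_cj, ← map_cj_mul, hk, map_cj_map_cj_inv]
  have hnMd := h.normalizer_QM_le hn
  have hmem : k⁻¹ * g ∈ ((M ⊔ Subgroup.centralizer (Y : Set G) : Subgroup G) : Set G) := hnMd
  have hMC : M ≤ Subgroup.normalizer
      ((Subgroup.centralizer (Y : Set G) : Subgroup G) : Set G) :=
    le_sup_left.trans h.le_normalizer_C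
  rw [Subgroup.coe_mul_of_left_le_normalizer_right M _ hMC, Set.mem_mul] at hmem
  obtain ⟨m, hm, c, hc, hmc⟩ := hmem
  refine ⟨m, hm, ?_⟩
  have h1 : x * c = c * x := (Subgroup.mem_centralizer_iff.1 hc) _ hx
  have h2 : g * x * g⁻¹ * k = k * (g * x * g⁻¹) := (mem_centralizer_single_iff _ _).1 hkK
  have h3 : (k⁻¹ * g) * x * (k⁻¹ * g)⁻¹ = g * x * g⁻¹ := by
    calc (k⁻¹ * g) * x * (k⁻¹ * g)⁻¹ = k⁻¹ * (g * x * g⁻¹ * k) := by group
      _ = k⁻¹ * (k * (g * x * g⁻¹)) := by rw [h2]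
      _ = g * x * g⁻¹ := by group
  rw [← h3, ← hmc]
  symm
  calc m * c * x * (m * c)⁻¹ = m * (c * x) * c⁻¹ * m⁻¹ := by group
    _ = m * (x * c) * c⁻¹ * m⁻¹ := by rw [h1]
    _ = m * x * m⁻¹ := by group

/-- S2850 -/
theorem asymmetric_main (hasym : ¬ IsSymmetricIn (largestPReducedOf p M)) :
    (∀ L : Subgroup G, IsPGroup p ↥L → (pCoreOf p M) ≤ L →
      Subgroup.normalizer ((L : Subgroup G) : Set G) ≤
        Subgroup.normalizer (((pCoreOf p M) : Subgroup G) : Set G) ∧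
      Subgroup.normalizer (((pCoreOf p M) : Subgroup G) : Set G) ≤
        (M ⊔ Subgroup.centralizer (((largestPReducedOf p M) : Subgroup G) : Set G))) ∧
    IsWeaklyClosedSubgroup p (pCoreOf p M) ∧
    (∀ L : Subgroup G, (pCoreOf p M) ≤ L → IsParabolic p ((L ⊓ (M ⊔ Subgroup.centralizer
      (((largestPReducedOf p M) : Subgroup G) : Set G))).subgroupOf L)) ∧
    (∀ x ∈ (largestPReducedOf p M), ∀ g : G, g * x * g⁻¹ ∈ (largestPReducedOf p M) →
      ∃ m ∈ M, m * x * m⁻¹ = g * x * g⁻¹) :=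
  ⟨fun L hL hQL => ⟨h.normalizer_le_normalizer_QM hasym L hL hQL, h.normalizer_QM_le⟩,
    h.wcs_QM hasym, fun L hQL => h.parabolic_inf_dagger hasym L hQL,
    fun x hx g hgx => h.fusion_in_Y hasym x hx g hgx⟩

end FrakMSetup

end AsymD

end Cfsg.Agent.Helper14
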