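import Cfsg.Agent.Helper14.Asym4

set_option autoImplicit false
set_option linter.unusedSectionVars false
set_option linter.style.haveILetI false

namespace Cfsg.Agent.Helper14

open Cfsg

section AsymE

variable {G : Type*} [Group G] [Finite G] {p : ℕ} [Fact p.Prime]

namespace FrakMSetup

variable {S : Sylow p G} {Q M : Subgroup G} (h : FrakMSetup p S Q M)

include h

/-- `O_p(M)` is a Sylow `p`-subgroup of `C_G(Y_M)`. -/
theorem isSylowIn_QM_centralizer :
    IsSylowIn p (pCoreOf p M) (Subgroup.centralizer (largestPReducedOf p M : Set G)) := by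
  refine ⟨pCoreOf_le_centralizer_largestPReducedOf (p := p) M, pCoreOf_isPGroup p M, ?_⟩
  intro R hRC hRp hQR
  have h1 := h.pGroup_inf_C_le R hRp (hRC.trans le_sup_right) hQR
  rw [inf_of_le_left hRC] at h1
  exact le_antisymm h1 hQR

/-- S2852 -/
theorem exists_frakH (hasym : ¬ IsSymmetricIn (largestPReducedOf p M))
    (htall : IsCharPTall p (largestPReducedOf p M)) : ∃ H : Subgroup G, IsInFrakH p M H := by
  set Y := largestPReducedOf p M with hY
  set QM := pCoreOf p M with hQM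
  set C := Subgroup.centralizer (Y : Set G) with hC
  obtain ⟨T, L, hTL, hLchar, hYL⟩ := htall
  have hYL' : ¬ Y ≤ pCoreOf p L := hYL
  have hT : IsSylowIn p ((T : Subgroup ↥C).map C.subtype) C := isSylowIn_of_sylow T
  obtain ⟨c, hcC, hc⟩ := h.isSylowIn_QM_centralizer.exists_conj hT
  -- conjugate L
  set L' := L.map (cj c⁻¹) with hL'
  have hQL' : QM ≤ L' := by
    rw [hL', ← map_cj_le_iff, ← hc]; exact hTL
  have hL'char : L' ⊓ Subgroup.centralizer (pCoreOf p L' : Set G) ≤ pCoreOf p L' :=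
    charP_ambient_map_cj p c⁻¹ (charP_ambient p hLchar)
  have hcY : Y.map (cj c) = Y :=
    mem_normalizer_iff_map_cj.1 (Subgroup.centralizer_le_normalizer _ hcC)
  have hYL'' : ¬ Y ≤ pCoreOf p L' := by
    intro hle
    apply hYL'
    have e : pCoreOf p L' = (pCoreOf p L).map (cj c⁻¹) := pCoreOf_map_conj p L c⁻¹
    rw [e] at hle
    have := (map_cj_le_iff Y (pCoreOf p L) c).2 hle
    rwa [hcY] at this
  -- minimal H
  set 𝒮 : Set (Subgroup G) := {H | QM ≤ H ∧ H ≤ L' ∧ ¬ Y ≤ pCoreOf p H} with h𝒮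
  obtain ⟨H, hHmin⟩ := (Set.toFinite 𝒮).exists_minimal ⟨L', hQL', le_rfl, hYL''⟩
  obtain ⟨⟨hQH, hHL', hYH⟩, hmin⟩ := hHmin
  refine ⟨H, ?_, hQH, hYH, ?_⟩
  · apply charP_of_ambient
    exact charP_of_wcs_overgroup (pCoreOf_isPGroup p M) (h.wcs_QM hasym) h.hM.1.2
      (charP_of_ambient hL'char) hQH hHL'
  · intro P hQP hPH
    by_contra hYP
    have := hmin ⟨hQP, hPH.le.trans hHL', hYP⟩ hPH.le
    exact absurd this (not_le_of_gt hPH)

end FrakMSetup

end AsymE

end Cfsg.Agent.Helper14
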