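import Cfsg.Agent.Helper14.Asym5
import Cfsg.Agent.Helper7.FStar

set_option autoImplicit false
set_option linter.unusedSectionVars false
set_option linter.style.haveILetI false

namespace Cfsg.Agent.Helper14

open Cfsg

section AsymF

variable {K : Type*} [Group K] [Finite K] {p : ℕ} [Fact p.Prime]

/-- transport of `O_p(L/A) = 1` along an equality `A = B` -/
theorem pCore_quotient_eq_bot_of_eq {L : Type*} [Group L] {A B : Subgroup L} [hA : A.Normal]
    [hB : B.Normal] (h : A = B) (hO : pCore p (L ⧸ A) = ⊥) : pCore p (L ⧸ B) = ⊥ := by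
  subst h
  exact hO

theorem mem_normalizer_subgroupOf {X : Type*} [Group X] {L D : Subgroup X} {f : ↥L}
    (hf : (f : X) ∈ Subgroup.normalizer (D : Set X)) :
    f ∈ Subgroup.normalizer ((D.subgroupOf L : Subgroup ↥L) : Set ↥L) := by
  rw [Subgroup.mem_normalizer_iff] at hf ⊢
  intro x
  rw [Subgroup.mem_subgroupOf, Subgroup.mem_subgroupOf]
  exact hf x

/-- If `O_p(K/C') = 1` and `D₂` is normalized by the preimage `F'` of `F*(K/C')`, and
`D₂ ∩ F'` acts as a `p`-group modulo `C'`, then `D₂ ≤ C'`. -/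
theorem le_of_normalized_by_fstar (C' : Subgroup K) [C'.Normal]
    (hO : pCore p (K ⧸ C') = ⊥) (D₂ : Subgroup K)
    (hnorm : (generalizedFittingSubgroup (K ⧸ C')).comap (QuotientGroup.mk' C') ≤
      Subgroup.normalizer (D₂ : Set K))
    (hp : ∀ x ∈ D₂ ⊓ (generalizedFittingSubgroup (K ⧸ C')).comap (QuotientGroup.mk' C'),
      ∃ k : ℕ, x ^ (p ^ k) ∈ C') :
    D₂ ≤ C' := by
  set π := QuotientGroup.mk' C' with hπ
  set Fs := generalizedFittingSubgroup (K ⧸ C') with hFs
  set F' := Fs.comap π with hF'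
  have hπs : Function.Surjective π := QuotientGroup.mk'_surjective C'
  haveI hFsn : Fs.Normal := Helper7.generalizedFittingSubgroup_normal _
  haveI hF'n : F'.Normal := hFsn.comap π
  -- the image of `D₂ ∩ F'`
  set X := (D₂ ⊓ F').map π with hX
  have hXFs : X ≤ Fs := by
    rintro _ ⟨x, hx, rfl⟩
    exact hx.2
  have hXp : IsPGroup p ↥X := by
    rintro ⟨_, x, hx, rfl⟩
    obtain ⟨k, hk⟩ := hp x hx
    refine ⟨k, ?_⟩
    apply Subtype.ext
    show (π x) ^ (p ^ k) = 1
    rw [← map_pow, hπ, QuotientGroup.mk'_apply, QuotientGroup.eq_one_iff]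
    exact hk
  have hXn : Fs ≤ Subgroup.normalizer (X : Set (K ⧸ C')) := by
    intro f hf
    obtain ⟨f₀, rfl⟩ := hπs f
    have hf₀ : f₀ ∈ F' := hf
    have h1 : f₀ ∈ Subgroup.normalizer ((D₂ ⊓ F' : Subgroup K) : Set K) := by
      have ha := hnorm hf₀
      rw [Subgroup.mem_normalizer_iff] at ha ⊢
      intro y
      rw [Subgroup.mem_inf, Subgroup.mem_inf, ← ha y]
      constructor
      · rintro ⟨h1, h2⟩
        exact ⟨h1, hF'n.conj_mem y h2 f₀⟩
      · rintro ⟨h1, h2⟩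
        refine ⟨h1, ?_⟩
        have := hF'n.conj_mem _ h2 f₀⁻¹
        simpa [mul_assoc] using this
    exact Subgroup.le_normalizer_map π ⟨f₀, h1, rfl⟩
  have hX1 : X ≤ pCoreOf p Fs := le_pCoreOf p hXFs hXn hXp
  have hcore : pCoreOf p Fs ≤ pCore p (K ⧸ C') := by
    apply le_pCore p _ (pCoreOf_isPGroup p Fs)
    have h2 := normalizer_le_normalizer_pCoreOf (p := p) Fs
    rw [Subgroup.normalizer_eq_top_iff.2 hFsn, top_le_iff] at h2
    exact Subgroup.normalizer_eq_top_iff.1 h2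
  have hXbot : X ≤ ⊥ := by
    rw [← hO]
    exact hX1.trans hcore
  have hDF : D₂ ⊓ F' ≤ C' := by
    intro x hx
    have : π x ∈ (⊥ : Subgroup (K ⧸ C')) := hXbot ⟨x, hx, rfl⟩
    rw [Subgroup.mem_bot, hπ, QuotientGroup.mk'_apply, QuotientGroup.eq_one_iff] at this
    exact this
  -- `D₂` centralizes `Fs` modulo `C'`
  have hcent : D₂.map π ≤ Subgroup.centralizer (Fs : Set (K ⧸ C')) := by
    rintro _ ⟨d, hd, rfl⟩
    rw [Subgroup.mem_centralizer_iff]
    intro f hf
    obtain ⟨f₀, rfl⟩ := hπs f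
    have hf₀ : f₀ ∈ F' := hf
    have hcm : d * f₀ * d⁻¹ * f₀⁻¹ ∈ D₂ ⊓ F' := by
      constructor
      · have ha := hnorm hf₀
        rw [Subgroup.mem_normalizer_iff] at ha
        have h3 : f₀ * d⁻¹ * f₀⁻¹ ∈ D₂ := (ha d⁻¹).1 (D₂.inv_mem hd)
        have := D₂.mul_mem hd h3
        simpa [mul_assoc] using this
      · have h3 : d * f₀ * d⁻¹ ∈ F' := hF'n.conj_mem f₀ hf₀ d
        exact F'.mul_mem h3 (F'.inv_mem hf₀)
    have h4 := hDF hcm
    have h5 : π (d * f₀ * d⁻¹ * f₀⁻¹) = 1 := by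
      rw [hπ, QuotientGroup.mk'_apply, QuotientGroup.eq_one_iff]
      exact h4
    rw [map_mul, map_mul, map_mul, map_inv, map_inv] at h5
    have h6 : π d * π f₀ = π f₀ * π d := by
      have := congrArg (fun z => z * π f₀ * π d) h5
      simpa [mul_assoc] using this
    exact h6.symm
  have hDFs : D₂.map π ≤ Fs := hcent.trans Helper7.centralizer_generalizedFitting_le
  intro d hd
  exact hDF ⟨hd, hDFs ⟨d, hd, rfl⟩⟩

end AsymF

end Cfsg.Agent.Helper14
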