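import Cfsg.Agent.Helper14.Asym6

set_option autoImplicit false
set_option linter.unusedSectionVars false
set_option linter.style.haveILetI false

namespace Cfsg.Agent.Helper14

open Cfsg

section AsymG

variable {G : Type*} [Group G] [Finite G] {p : ℕ} [Fact p.Prime]

namespace FrakMSetup

variable {S : Sylow p G} {Q M : Subgroup G} (h : FrakMSetup p S Q M)

include h

/-- `O_p(M† / C_{M†}(Y_M)) = 1`. -/
theorem pCore_dagger_quotient_eq_bot
    [hn : ((Subgroup.centralizer (((largestPReducedOf p M) : Subgroup G) : Set G)).subgroupOf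
      (M ⊔ Subgroup.centralizer (((largestPReducedOf p M) : Subgroup G) : Set G))).Normal] :
    pCore p (↥(M ⊔ Subgroup.centralizer (((largestPReducedOf p M) : Subgroup G) : Set G)) ⧸
      (Subgroup.centralizer (((largestPReducedOf p M) : Subgroup G) : Set G)).subgroupOf
        (M ⊔ Subgroup.centralizer (((largestPReducedOf p M) : Subgroup G) : Set G))) = ⊥ := by
  set Y := largestPReducedOf p M with hY
  set Md := M ⊔ Subgroup.centralizer (Y : Set G) with hMd
  have hYMd : Y ≤ Md := (largestPReducedOf_le (p := p) M).trans le_sup_left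
  have hred : IsPReducedIn p Y Md := by
    have h1 := largestPReducedOf_isPReducedIn (p := p) Md
    have h2 : Y = largestPReducedOf p Md := h.hM.2.2.2.1
    rw [← h2] at h1
    exact h1
  obtain ⟨-, -, hcn, hcore⟩ := (isPReducedNormal_subgroupOf_iff hYMd).2 hred
  exact @pCore_quotient_eq_bot_of_eq p _ ↥Md _ _ _ hcn hn (centralizer_subgroupOf_eq hYMd) hcore

/-- S2851: if `Y_M` is asymmetric and `H` has characteristic `p` and contains the preimage of
`F*(M†/C_{M†}(Y_M))`, then `Y_M ≤ Y_H`. -/
theorem largestPReducedOf_le_of_fstar_le (hasym : ¬ IsSymmetricIn (largestPReducedOf p M))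
    [hn : ((Subgroup.centralizer (((largestPReducedOf p M) : Subgroup G) : Set G)).subgroupOf
      (M ⊔ Subgroup.centralizer (((largestPReducedOf p M) : Subgroup G) : Set G))).Normal]
    (H : Subgroup G)
    (hFH : ((generalizedFittingSubgroup
      (↥(M ⊔ Subgroup.centralizer (((largestPReducedOf p M) : Subgroup G) : Set G)) ⧸
        (Subgroup.centralizer (((largestPReducedOf p M) : Subgroup G) : Set G)).subgroupOf
          (M ⊔ Subgroup.centralizer (((largestPReducedOf p M) : Subgroup G) : Set G)))).comap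
      (QuotientGroup.mk' ((Subgroup.centralizer
        (((largestPReducedOf p M) : Subgroup G) : Set G)).subgroupOf
          (M ⊔ Subgroup.centralizer (((largestPReducedOf p M) : Subgroup G) : Set G))))).map
      ((M ⊔ Subgroup.centralizer (((largestPReducedOf p M) : Subgroup G) : Set G))).subtype ≤ H)
    (hH : Subgroup.centralizer (pCore p ↥H : Set ↥H) ≤ pCore p ↥H) :
    largestPReducedOf p M ≤ largestPReducedOf p H := by
  have hO := h.pCore_dagger_quotient_eq_bot
  set Y := largestPReducedOf p M with hY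
  set C := Subgroup.centralizer (Y : Set G) with hC
  set Md := M ⊔ C with hMd
  set C' := C.subgroupOf Md with hC'
  set π := QuotientGroup.mk' C' with hπ
  set F' := (generalizedFittingSubgroup (↥Md ⧸ C')).comap π with hF'
  set QM := pCoreOf p M with hQM
  set R := pCoreOf p H with hR
  have hYM : Y ≤ M := largestPReducedOf_le (p := p) M
  have hCMd : C ≤ Md := le_sup_right
  have hYred := largestPReducedOf_isPReducedIn (p := p) M
  have hYel : IsElementaryAbelian p Y := hYred.2.2.1
  have hYC : Y ≤ C := by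
    intro a ha
    rw [hC, Subgroup.mem_centralizer_iff]
    intro b hb
    obtain ⟨⟨⟨hc⟩⟩, -⟩ := hYel
    exact congrArg Subtype.val (hc ⟨b, hb⟩ ⟨a, ha⟩)
  have hC'F' : C' ≤ F' := by
    intro x hx
    show π x ∈ generalizedFittingSubgroup (↥Md ⧸ C')
    have : π x = 1 := by
      rw [hπ, QuotientGroup.mk'_apply, QuotientGroup.eq_one_iff]; exact hx
    rw [this]; exact Subgroup.one_mem _
  have hCH : C ≤ H := by
    intro x hx
    apply hFH
    exact ⟨⟨x, hCMd hx⟩, hC'F' (Subgroup.mem_subgroupOf.2 hx), rfl⟩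
  have hQC : QM ≤ C := pCoreOf_le_centralizer_largestPReducedOf (p := p) M
  have hQH : QM ≤ H := hQC.trans hCH
  have hF'H : ∀ f : ↥Md, f ∈ F' → (f : G) ∈ H := fun f hf => hFH ⟨f, hf, rfl⟩
  -- a Sylow subgroup of `H` inside `M†`
  obtain ⟨T, hT, hQT⟩ := exists_isSylowIn_ge hQH (pCoreOf_isPGroup p M)
  have hTMd : T ≤ Md := h.pGroup_le_dagger hasym T hT.2.1 hQT
  have hRT : R ≤ T := pCoreOf_le_of_isSylowIn hT
  have hRMd : R ≤ Md := hRT.trans hTMd
  have hRH : R ≤ H := pCoreOf_le p H
  have hHR : H ≤ Subgroup.normalizer (R : Set G) := le_normalizer_pCoreOf p H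
  have hRp : IsPGroup p ↥R := pCoreOf_isPGroup p H
  -- key consequence of the abstract lemma
  have key : ∀ D : Subgroup G, D ≤ Md → H ≤ Subgroup.normalizer (D : Set G) →
      (∀ d ∈ D, ∃ k : ℕ, d ^ (p ^ k) ∈ C) → D ≤ C := by
    intro D hDMd hHD hDp
    have h1 : D.subgroupOf Md ≤ C' := by
      apply le_of_normalized_by_fstar (p := p) C' hO
      · intro f hf
        exact mem_normalizer_subgroupOf (hHD (hF'H f hf))
      · rintro x ⟨hxD, -⟩
        obtain ⟨k, hk⟩ := hDp (x : G) (Subgroup.mem_subgroupOf.1 hxD)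
        refine ⟨k, ?_⟩
        show x ^ (p ^ k) ∈ C.subgroupOf Md
        rw [Subgroup.mem_subgroupOf]
        simpa using hk
    intro d hd
    have : (⟨d, hDMd hd⟩ : ↥Md) ∈ C' := h1 (Subgroup.mem_subgroupOf.2 hd)
    exact Subgroup.mem_subgroupOf.1 this
  -- Step A: `O_p(H) ≤ C`
  have hRC : R ≤ C := by
    apply key R hRMd hHR
    intro d hd
    obtain ⟨k, hk⟩ := hRp ⟨d, hd⟩
    refine ⟨k, ?_⟩
    have : d ^ (p ^ k) = 1 := congrArg Subtype.val hk
    rw [this]; exact Subgroup.one_mem _
  -- Step B: `Y ≤ O_p(H)`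
  have hYcR : Y ≤ Subgroup.centralizer (R : Set G) := by
    rw [Subgroup.le_centralizer_iff]; exact hRC
  have hYR : Y ≤ R := fun y hy => charP_ambient p hH ⟨hCH (hYC hy), hYcR hy⟩
  -- Step C: `V = ⟨Y^H⟩`
  set V := ⨆ x : ↥H, Y.map (cj (x : G)) with hV
  have hYV : Y ≤ V := by
    have h1 := le_iSup (fun x : ↥H => Y.map (cj (x : G))) 1
    have h2 : Y.map (cj ((1 : ↥H) : G)) = Y := by
      rw [Subgroup.coe_one]; exact map_cj_one Y
    rw [h2] at h1
    exact h1
  have hconjR : ∀ x : ↥H, Y.map (cj (x : G)) ≤ R := by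
    intro x
    have h1 : R.map (cj (x : G)) = R := mem_normalizer_iff_map_cj.1 (hHR x.2)
    rw [← h1]
    exact Subgroup.map_mono hYR
  have hconjC : ∀ x : ↥H, R ≤ Subgroup.centralizer ((Y.map (cj (x : G)) : Subgroup G) : Set G) := by
    intro x
    rw [← map_cj_centralizer]
    have h1 : R.map (cj (x : G)) = R := mem_normalizer_iff_map_cj.1 (hHR x.2)
    rw [← h1]
    exact Subgroup.map_mono hRC
  have hVR : V ≤ R := iSup_le hconjR
  have hVel : IsElementaryAbelian p V := by
    apply isElementaryAbelian_iSup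
    · intro x; exact isElementaryAbelian_map_cj hYel _
    · intro x y
      exact (hconjR x).trans (hconjC y)
  have hHV : H ≤ Subgroup.normalizer (V : Set G) := by
    apply le_normalizer_of_map_cj_le
    intro g hg
    rw [hV, Subgroup.map_iSup]
    refine iSup_le fun x => ?_
    rw [map_cj_mul]
    exact le_iSup (fun x : ↥H => Y.map (cj (x : G))) (⟨g, hg⟩ * x)
  set CV := Subgroup.centralizer (V : Set G) with hCV
  have hCVC : CV ≤ C := Subgroup.centralizer_le hYV
  -- Step D
  have hVred : IsPReducedIn p V H := by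
    refine ⟨hVR.trans hRH, hHV, hVel, ?_⟩
    intro D hDH hHD hDp
    have hDN : D ≤ Subgroup.normalizer ((D ⊓ CV : Subgroup G) : Set G) :=
      le_normalizer_inf Subgroup.le_normalizer
        (hDH.trans (hHV.trans (normalizer_le_normalizer_centralizer' V)))
    have hP₀ : IsSylowIn p (T ⊓ D) D := sylow_inf_isSylowIn hT hDH hHD
    have h1 : D ≤ (T ⊓ D) ⊔ (D ⊓ CV) :=
      le_sylow_sup_of_pQuotient hP₀ inf_le_left hDN
        (fun d hd => by
          obtain ⟨k, hk⟩ := hDp d hd
          exact ⟨k, D.pow_mem hd _, hk⟩)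
    have hDMd : D ≤ Md :=
      h1.trans (sup_le (inf_le_left.trans hTMd) (inf_le_right.trans (hCVC.trans hCMd)))
    have hDC : D ≤ C := key D hDMd hHD (fun d hd => by
      obtain ⟨k, hk⟩ := hDp d hd
      exact ⟨k, hCVC hk⟩)
    rw [Subgroup.le_centralizer_iff]
    refine iSup_le fun x => ?_
    rw [← Subgroup.le_centralizer_iff, ← map_cj_centralizer]
    have h2 : D.map (cj (x : G)) = D := mem_normalizer_iff_map_cj.1 (hHD x.2)
    rw [← h2]
    exact Subgroup.map_mono hDC
  exact hYV.trans (le_largestPReducedOf hVred)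

end FrakMSetup

end AsymG

end Cfsg.Agent.Helper14
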