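import Cfsg.Agent.Helper14.Asym8

set_option autoImplicit false
set_option linter.unusedSectionVars false
set_option linter.style.haveILetI false

namespace Cfsg.Agent.Helper14

open Cfsg
open scoped commutatorElement

section AsymI

variable {G : Type*} [Group G] [Finite G] {p : ℕ} [Fact p.Prime]

namespace FrakMSetup

variable {S : Sylow p G} {Q M : Subgroup G} (h : FrakMSetup p S Q M)

include h

/-- minimality of members of `ℌ_G(O_p(M))` -/
theorem frakH_eq_of_le {H : Subgroup G} (hH : IsInFrakH p M H) (P : Subgroup G)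
    (hQP : pCoreOf p M ≤ P) (hPH : P ≤ H)
    (hYP : largestPReducedOf p M ≤ pCoreOf p P → largestPReducedOf p M ≤ pCoreOf p H) :
    P = H := by
  by_contra hne
  exact hH.2.2.1 (hYP (hH.2.2.2 P hQP (lt_of_le_of_ne hPH hne)))

/-- S2853 (part 1): Sylow subgroups of `H ∩ M†` are Sylow in `H`. -/
theorem frakH_sylow (hasym : ¬ IsSymmetricIn (largestPReducedOf p M)) {H : Subgroup G}
    (hQH : pCoreOf p M ≤ H)
    (T : Sylow p ↥(H ⊓ (M ⊔ Subgroup.centralizer (((largestPReducedOf p M) : Subgroup G) : Set G)))) :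
    ∃ P : Sylow p ↥H, ((P : Subgroup ↥H).map H.subtype) =
      (T : Subgroup ↥(H ⊓ (M ⊔ Subgroup.centralizer
        (((largestPReducedOf p M) : Subgroup G) : Set G)))).map
        (H ⊓ (M ⊔ Subgroup.centralizer (((largestPReducedOf p M) : Subgroup G) : Set G))).subtype := by
  obtain ⟨T₀, hT₀, hQT₀⟩ := exists_isSylowIn_ge hQH (pCoreOf_isPGroup p M)
  have hT₀Md : T₀ ≤ M ⊔ Subgroup.centralizer (((largestPReducedOf p M) : Subgroup G) : Set G) :=
    h.pGroup_le_dagger hasym T₀ hT₀.2.1 hQT₀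
  have hT₀' : IsSylowIn p T₀
      (H ⊓ (M ⊔ Subgroup.centralizer (((largestPReducedOf p M) : Subgroup G) : Set G))) :=
    ⟨le_inf hT₀.1 hT₀Md, hT₀.2.1, fun Q' hQ' hQ'p hle => hT₀.2.2 Q' (hQ'.trans inf_le_left) hQ'p hle⟩
  have hT := isSylowIn_of_sylow T
  obtain ⟨g, hg, hgT⟩ := hT₀'.exists_conj hT
  have hgH : g ∈ H := hg.1
  have h1 := hT₀.map_cj g
  have h2 : H.map (cj g) = H :=
    mem_normalizer_iff_map_cj.1 (Subgroup.le_normalizer hgH)
  rw [h2, ← hgT] at h1
  exact ⟨h1.toSylow, h1.toSylow_map⟩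

/-- S2853 (part 2): `O_p(H)` normalizes `O_p(M)` and `Y_M`. -/
theorem frakH_pCoreOf_le (hasym : ¬ IsSymmetricIn (largestPReducedOf p M)) {H : Subgroup G}
    (hQH : pCoreOf p M ≤ H) :
    pCoreOf p H ≤ Subgroup.normalizer (((pCoreOf p M) : Subgroup G) : Set G) ⊓
      Subgroup.normalizer (((largestPReducedOf p M) : Subgroup G) : Set G) := by
  obtain ⟨T₀, hT₀, hQT₀⟩ := exists_isSylowIn_ge hQH (pCoreOf_isPGroup p M)
  have h1 : pCoreOf p H ≤ T₀ := pCoreOf_le_of_isSylowIn hT₀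
  have h2 : T₀ ≤ Subgroup.normalizer (((pCoreOf p M) : Subgroup G) : Set G) :=
    wc_le_normalizer (wcs_of_le_pGroup (h.wcs_QM hasym) hT₀.2.1 hQT₀)
  exact le_inf (h1.trans h2) (h1.trans (h2.trans (h.normalizer_QM_le.trans h.le_normalizer_Y)))

/-- S2853 (parts 3–6). -/
theorem frakH_structure {H : Subgroup G} (hH : IsInFrakH p M H) :
    ⁅(pResidual p ↥H).map H.subtype, largestPReducedOf p M⁆ = (pResidual p ↥H).map H.subtype ∧
    (pResidual p ↥H).map H.subtype ⊔ pCoreOf p M = H ∧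
    (pResidual p ↥H).map H.subtype ⊔ largestPReducedOf p M =
      ⨆ x : ↥H, (largestPReducedOf p M).map (cj (x : G)) ∧
    ⨆ x : ↥H, (pCoreOf p M).map (cj (x : G)) = H := by
  set Y := largestPReducedOf p M with hY
  set QM := pCoreOf p M with hQM
  set R := (pResidual p ↥H).map H.subtype with hR
  set OH := pCoreOf p H with hOH
  have hQH : QM ≤ H := hH.2.1
  have hYQ : Y ≤ QM := largestPReducedOf_le_pCoreOf (p := p) M
  have hYH : Y ≤ H := hYQ.trans hQH
  have hQp : IsPGroup p ↥QM := pCoreOf_isPGroup p M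
  have hYp : IsPGroup p ↥Y := hQp.to_le hYQ
  have hRH : R ≤ H := map_subtype_le _
  have hHR : H ≤ Subgroup.normalizer (R : Set G) := by
    haveI : (pResidual p ↥H).Normal := pResidual_normal
    have := (Subgroup.normal_subgroupOf_iff_le_normalizer hRH).1 (by
      rw [hR, subgroupOf_map_subtype']; infer_instance)
    exact this
  have hQcY : QM ≤ Subgroup.centralizer (Y : Set G) :=
    pCoreOf_le_centralizer_largestPReducedOf (p := p) M
  -- conjugates
  have hsupH : ∀ A : Subgroup G, A ≤ H → (⨆ x : ↥H, A.map (cj (x : G))) ≤ H := by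
    intro A hAH
    refine iSup_le fun x => ?_
    rintro _ ⟨a, ha, rfl⟩
    rw [cj_apply]
    exact H.mul_mem (H.mul_mem x.2 (hAH ha)) (H.inv_mem x.2)
  have hsupN : ∀ A : Subgroup G, H ≤ Subgroup.normalizer
      ((⨆ x : ↥H, A.map (cj (x : G)) : Subgroup G) : Set G) := by
    intro A
    apply le_normalizer_of_map_cj_le
    intro g hg
    rw [Subgroup.map_iSup]
    refine iSup_le fun x => ?_
    rw [map_cj_mul]
    exact le_iSup (fun x : ↥H => A.map (cj (x : G))) (⟨g, hg⟩ * x)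
  have hsupge : ∀ A : Subgroup G, A ≤ ⨆ x : ↥H, A.map (cj (x : G)) := by
    intro A
    have h2 := le_iSup (fun x : ↥H => A.map (cj (x : G))) 1
    have h3 : A.map (cj ((1 : ↥H) : G)) = A := by
      rw [Subgroup.coe_one]; exact map_cj_one A
    rw [h3] at h2
    exact h2
  -- (6)
  have h6 : ⨆ x : ↥H, QM.map (cj (x : G)) = H := by
    apply h.frakH_eq_of_le hH _ (hsupge QM) (hsupH QM hQH)
    intro hle
    exact hle.trans (pCoreOf_le_pCoreOf_of_normal (hsupH QM hQH) (hsupN QM))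
  -- (4)
  have h4 : R ⊔ QM = H := by
    apply h.frakH_eq_of_le hH _ le_sup_right (sup_le hRH hQH)
    intro hle
    refine hle.trans (pCoreOf_le_pCoreOf_of_isSubnormal (sup_le hRH hQH) ?_)
    apply isSubnormal_of_pResidual_le (p := p)
    intro x hx
    rw [Subgroup.mem_subgroupOf]
    exact Subgroup.mem_sup_left ⟨x, hx, rfl⟩
  -- the normal closure of `Y`
  set NY := ⨆ x : ↥H, Y.map (cj (x : G)) with hNY
  have hNYH : NY ≤ H := hsupH Y hYH
  have hHNY : H ≤ Subgroup.normalizer (NY : Set G) := hsupN Y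
  have hYNY : Y ≤ NY := hsupge Y
  have ha : NY ⊔ QM = H := by
    apply h.frakH_eq_of_le hH _ le_sup_right (sup_le hNYH hQH)
    intro hle
    set H₁ := NY ⊔ QM with hH₁
    have h1 : Y ≤ pCoreOf p H₁ ⊓ NY := le_inf hle hYNY
    have h2 : pCoreOf p H₁ ⊓ NY ≤ pCoreOf p NY := by
      apply le_pCoreOf p inf_le_right _ ((pCoreOf_isPGroup p H₁).to_le inf_le_left)
      exact le_normalizer_inf ((le_sup_left : NY ≤ H₁).trans (le_normalizer_pCoreOf p H₁))
        Subgroup.le_normalizer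
    exact h1.trans (h2.trans (pCoreOf_le_pCoreOf_of_normal hNYH hHNY))
  -- (b) `p'`-elements of `H` lie in `NY`
  have hb : ∀ g ∈ H, Nat.Coprime (orderOf g) p → g ∈ NY := by
    intro g hg hcop
    rw [← ha] at hg
    exact mem_of_coprime_of_mem_sup' NY QM (hQH.trans hHNY) hQp hg hcop
  -- (c)
  set D := ⁅R, Y⁆ with hD
  have hDR : D ≤ R := commutator_le_left_of_le_normalizer (hYH.trans hHR)
  have hc : NY ≤ D ⊔ Y := by
    refine iSup_le fun x => ?_
    rintro _ ⟨y, hy, rfl⟩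
    have hx : (x : G) ∈ R ⊔ QM := by rw [h4]; exact x.2
    obtain ⟨r, hr, q, hq, hrq⟩ := (Helper7.mem_sup_of_le_normalizer (hQH.trans hHR)).1 hx
    have hqy : q * y = y * q := by
      have := (Subgroup.mem_centralizer_iff.1 (hQcY hq)) y hy
      exact this.symm
    rw [cj_apply, ← hrq]
    have e : r * q * y * (r * q)⁻¹ = ⁅r, y⁆ * y := by
      rw [commutatorElement_def, mul_inv_rev]
      calc r * q * y * (q⁻¹ * r⁻¹) = r * (q * y) * q⁻¹ * r⁻¹ := by group
        _ = r * (y * q) * q⁻¹ * r⁻¹ := by rw [hqy]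
        _ = r * y * r⁻¹ * y⁻¹ * y := by group
    rw [e]
    exact Subgroup.mul_mem _ (Subgroup.mem_sup_left (Subgroup.commutator_mem_commutator hr hy))
      (Subgroup.mem_sup_right hy)
  -- (d)
  have hYD : Y ≤ Subgroup.normalizer (D : Set G) :=
    le_normalizer_commutator_of_le_normalizer (hYH.trans hHR)
  have hd : ∀ g ∈ H, Nat.Coprime (orderOf g) p → g ∈ D := by
    intro g hg hcop
    exact mem_of_coprime_of_mem_sup' D Y hYD hYp (hc (hb g hg hcop)) hcop
  have hRcl : R = Subgroup.closure {b : G | b ∈ H ∧ Nat.Coprime (orderOf b) p} :=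
    pResidualOf_eq_closure H
  have hRD : R ≤ D := by
    rw [hRcl, Subgroup.closure_le]
    rintro b ⟨hbH, hbc⟩
    exact hd b hbH hbc
  have h3 : D = R := le_antisymm hDR hRD
  have hRNY : R ≤ NY := by
    rw [hRcl, Subgroup.closure_le]
    rintro b ⟨hbH, hbc⟩
    exact hb b hbH hbc
  refine ⟨h3, h4, ?_, h6⟩
  apply le_antisymm (sup_le hRNY hYNY)
  rw [← h3]
  exact hc

end FrakMSetup

end AsymI

end Cfsg.Agent.Helper14
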