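import Cfsg.Agent.Helper14.QdAlt4
import Cfsg.Agent.S2119

/-!
# Groups between `A_n` and `Aut(A_n)`: part A (`n ≠ 6`)
-/

set_option autoImplicit false
set_option linter.unusedSectionVars false

namespace Cfsg.Agent.Helper14.AutAltN

open Equiv Cfsg.Agent.Helper14.SylSn Cfsg.Agent.Helper14.QdAlt
open scoped commutatorElement

theorem abP_perm (p : ℕ) [Fact p.Prime] (n : ℕ) (hn : n < p ^ 2) :
    Cfsg.Agent.Helper11.AbP p (Perm (Fin n)) := by
  intro S hS a ha b hb
  obtain ⟨P, hP⟩ := hS.exists_le_sylow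
  have hlog : Nat.log p n ≤ 1 := by
    rcases Nat.eq_zero_or_pos n with h0 | h0
    · subst h0; simp
    · have := Nat.log_lt_of_lt_pow h0.ne' hn
      omega
  have hd : dS (P : Subgroup (Perm (Fin n))) 1 = ⊥ :=
    le_bot_iff.mp ((dS_anti _ hlog).trans (sylow_perm_dS_eq_bot p n P).le)
  have hc : ⁅a, b⁆ ∈ dS (P : Subgroup (Perm (Fin n))) 1 :=
    Subgroup.commutator_mem_commutator (hP ha) (hP hb)
  rw [hd, Subgroup.mem_bot, commutatorElement_eq_one_iff_mul_comm] at hc
  exact hc

/-- the degree used to find an element of prime order `r` in an alternating group -/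
def sz (r : ℕ) : ℕ := if r = 2 then 4 else r

theorem sz_le_sq (r : ℕ) (hr : r.Prime) : sz r ≤ r ^ 2 := by
  unfold sz
  split_ifs with h
  · subst h; norm_num
  · nlinarith [hr.two_le]

theorem dvd_card_alt (r : ℕ) [hr : Fact r.Prime] (a : ℕ) (h1 : r = 2 → a = 4) (h2 : r ≠ 2 → a = r) :
    r ∣ Nat.card (alternatingGroup (Fin a)) := by
  by_cases h : r = 2
  · obtain rfl := h1 h
    subst h
    have h1 : 2 * Fintype.card (alternatingGroup (Fin 4)) = Fintype.card (Perm (Fin 4)) :=
      two_mul_card_alternatingGroup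
    rw [Fintype.card_perm, Fintype.card_fin] at h1
    have h2 : (4 : ℕ).factorial = 24 := by decide
    rw [h2] at h1
    have h3 : Fintype.card (alternatingGroup (Fin 4)) = 12 := by omega
    rw [Nat.card_eq_fintype_card, h3]
    norm_num
  · obtain rfl := h2 h
    have hr2 : 2 ≤ a := hr.out.two_le
    have : Nontrivial (Fin a) := Fin.nontrivial_iff_two_le.mpr hr2
    have h1 : 2 * Fintype.card (alternatingGroup (Fin a)) = Fintype.card (Perm (Fin a)) :=
      two_mul_card_alternatingGroup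
    rw [Fintype.card_perm, Fintype.card_fin] at h1
    have h2 : a ∣ 2 * Fintype.card (alternatingGroup (Fin a)) := by
      rw [h1]; exact hr.out.dvd_factorial.mpr le_rfl
    have hcop : Nat.Coprime a 2 := by
      rw [Nat.coprime_primes hr.out Nat.prime_two]; exact h
    rw [Nat.card_eq_fintype_card]
    exact hcop.dvd_of_dvd_mul_left h2

theorem exists_order_alt (r : ℕ) [hr : Fact r.Prime] :
    ∃ x : alternatingGroup (Fin (sz r)), orderOf x = r :=
  exists_prime_orderOf_dvd_card' r
    (dvd_card_alt r (sz r) (fun h => by simp [sz, h]) (fun h => by simp [sz, h]))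

/-- an element of order `p * q` in `A_n` when `sz p + sz q ≤ n` -/
theorem exists_order_mul_alt (p q : ℕ) [hp : Fact p.Prime] [hq : Fact q.Prime] (hpq : p ≠ q)
    (n : ℕ) (hn : sz p + sz q ≤ n) :
    ∃ g : alternatingGroup (Fin n), orderOf g = p * q := by
  obtain ⟨x, hx⟩ := exists_order_alt p
  obtain ⟨y, hy⟩ := exists_order_alt q
  have hc : Fintype.card ((Fin (sz p) ⊕ Fin (sz q)) ⊕ Fin (n - sz p - sz q)) =
      Fintype.card (Fin n) := by
    rw [Fintype.card_sum, Fintype.card_sum, Fintype.card_fin, Fintype.card_fin, Fintype.card_fin,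
      Fintype.card_fin]
    omega
  let e : (Fin (sz p) ⊕ Fin (sz q)) ⊕ Fin (n - sz p - sz q) ≃ Fin n := Fintype.equivOfCardEq hc
  let s : Perm (Fin (sz p) ⊕ Fin (sz q)) :=
    Perm.sumCongrHom (Fin (sz p)) (Fin (sz q)) ((x : Perm (Fin (sz p))), (y : Perm (Fin (sz q))))
  have hs_sign : Perm.sign s = 1 := by
    show Perm.sign (Perm.sumCongr (x : Perm (Fin (sz p))) (y : Perm (Fin (sz q)))) = 1
    rw [Perm.sign_sumCongr, Perm.mem_alternatingGroup.mp x.2, Perm.mem_alternatingGroup.mp y.2,
      one_mul]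
  have hs_ord : orderOf s = p * q := by
    have h1 : orderOf s = orderOf (((x : Perm (Fin (sz p))), (y : Perm (Fin (sz q)))) :
        Perm (Fin (sz p)) × Perm (Fin (sz q))) :=
      orderOf_injective _ Perm.sumCongrHom_injective _
    rw [h1, Prod.orderOf_mk, Subgroup.orderOf_coe, Subgroup.orderOf_coe, hx, hy]
    exact ((Nat.coprime_primes hp.out hq.out).mpr hpq).lcm_eq_mul
  have hmem : jj e s ∈ alternatingGroup (Fin n) := by
    rw [Perm.mem_alternatingGroup, sign_jj, hs_sign]
  refine ⟨⟨jj e s, hmem⟩, ?_⟩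
  rw [← Subgroup.orderOf_coe]
  show orderOf (jj e s) = p * q
  rw [orderOf_injective _ (jj_injective e), hs_ord]

theorem sz_add_le (p q : ℕ) (hp : p.Prime) (hq : q.Prime) (hpq : p ≠ q) (n : ℕ)
    (h1 : p ^ 2 ≤ n) (h2 : q ^ 2 ≤ n) : sz p + sz q ≤ n := by
  have hp2 := hp.two_le
  have hq2 := hq.two_le
  unfold sz
  split_ifs with ha hb hb
  · exact absurd (ha.trans hb.symm) hpq
  · -- p = 2, q odd
    have hq3 : 3 ≤ q := by omega
    nlinarith
  · have hp3 : 3 ≤ p := by omega
    nlinarith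
  · have hp3 : 3 ≤ p := by omega
    have hq3 : 3 ≤ q := by omega
    rcases Nat.lt_or_ge p q with h | h
    · nlinarith
    · have : q < p := lt_of_le_of_ne h (Ne.symm hpq)
      nlinarith

end Cfsg.Agent.Helper14.AutAltN
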