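import Cfsg.Agent.Helper14.AutAltA

/-!
# Groups between `A_n` and `Aut(A_n)`: part B (automorphisms preserving 3-cycles; degree 6)

`exists_perm_conj'` is `Cfsg.Agent.Helper29.AutAlt.exists_perm_conj` with the hypothesis
`card ≠ 6` replaced by "`θ` maps 3-cycles to 3-cycles" (same proof).
-/

set_option autoImplicit false
set_option linter.unusedSectionVars false

namespace Cfsg.Agent.Helper14.AutAltN

open Equiv Equiv.Perm Cfsg.Agent.Helper29.AutAlt

section Main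
variable {α : Type*} [Fintype α] [DecidableEq α]

/-- Every automorphism of the alternating group of degree `n ≥ 4`, `n ≠ 6`, is induced by
conjugation by a permutation. -/
theorem exists_perm_conj' (h4 : 4 ≤ Fintype.card α)
    (θ : alternatingGroup α ≃* alternatingGroup α)
    (h3c : ∀ c : alternatingGroup α, (c : Perm α).IsThreeCycle →
      ((θ c : alternatingGroup α) : Perm α).IsThreeCycle) :
    ∃ π : Perm α, ∀ g : alternatingGroup α, ((θ g : alternatingGroup α) : Perm α) = π * g * π⁻¹ := by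
  classical
  -- four distinct points
  obtain ⟨u₁, u₂, x₀, x₁, h12, h10, h11, h20, h21, h01⟩ :
      ∃ u₁ u₂ x₀ x₁ : α, u₁ ≠ u₂ ∧ u₁ ≠ x₀ ∧ u₁ ≠ x₁ ∧ u₂ ≠ x₀ ∧ u₂ ≠ x₁ ∧ x₀ ≠ x₁ := by
    have h3 : 3 < Fintype.card α := by omega
    have hlt := Fintype.two_lt_card_iff.mp (by omega : 2 < Fintype.card α)
    obtain ⟨a, b, c, hab, hac, hbc⟩ := hlt
    have hlt' : ({a, b, c} : Finset α).card < (Finset.univ : Finset α).card := by
      rw [Finset.card_univ]
      exact lt_of_le_of_lt Finset.card_le_three h3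
    obtain ⟨d, -, hd⟩ := Finset.exists_mem_notMem_of_card_lt_card hlt'
    simp only [Finset.mem_insert, Finset.mem_singleton, not_or] at hd
    exact ⟨a, b, c, d, hab, hac, Ne.symm hd.1, hbc, Ne.symm hd.2.1, Ne.symm hd.2.2⟩
  -- the family
  have hmemA : ∀ x, u₁ ≠ x → u₂ ≠ x → cyc u₁ u₂ x ∈ alternatingGroup α := fun x h1 h2 =>
    (cyc_isThreeCycle h12 h1 h2).mem_alternatingGroup
  set d : α → Perm α := fun x =>
    if h : u₁ ≠ x ∧ u₂ ≠ x then
      ((θ ⟨cyc u₁ u₂ x, hmemA x h.1 h.2⟩ : alternatingGroup α) : Perm α) else 1 with hd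
  have hdval : ∀ x (h1 : u₁ ≠ x) (h2 : u₂ ≠ x),
      d x = ((θ ⟨cyc u₁ u₂ x, hmemA x h1 h2⟩ : alternatingGroup α) : Perm α) := by
    intro x h1 h2
    simp only [hd]
    rw [dif_pos ⟨h1, h2⟩]
  have hd3 : ∀ x, u₁ ≠ x → u₂ ≠ x → (d x).IsThreeCycle := by
    intro x h1 h2
    rw [hdval x h1 h2]
    exact h3c ⟨cyc u₁ u₂ x, hmemA x h1 h2⟩ (cyc_isThreeCycle h12 h1 h2)
  have hdrel : ∀ x y, u₁ ≠ x → u₂ ≠ x → u₁ ≠ y → u₂ ≠ y → x ≠ y → Rel (d x) (d y) := by
    intro x y h1 h2 h1' h2' hxy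
    rw [hdval x h1 h2, hdval y h1' h2']
    exact rel_map θ _ _ (cyc_rel h12 h1 h2 h1' h2' hxy)
  obtain ⟨a', hcommon, hmoved⟩ :=
    (hdrel x₀ x₁ h10 h20 h11 h21 h01).exists_common (hd3 _ h10 h20) (hd3 _ h11 h21)
  obtain ⟨b', hb'⟩ : ∃ b', b' = d x₀ a' := ⟨_, rfl⟩
  rw [← hb'] at hcommon hmoved
  have hall : ∀ x, u₁ ≠ x → u₂ ≠ x → d x a' = b' := by
    intro x h1 h2
    by_cases hx0 : x = x₀
    · rw [hx0, hb']
    by_cases hx1 : x = x₁
    · rw [hx1]; exact hcommon.symm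
    exact Rel.common_third (hd3 _ h10 h20) (hd3 _ h11 h21) (hd3 x h1 h2)
      (hdrel x₀ x₁ h10 h20 h11 h21 h01) (hdrel x₀ x h10 h20 h1 h2 (Ne.symm hx0))
      (hdrel x₁ x h11 h21 h1 h2 (Ne.symm hx1)) hmoved hb'.symm hcommon.symm
  have hmoved' : ∀ x, u₁ ≠ x → u₂ ≠ x → d x a' ≠ a' := by
    intro x h1 h2; rw [hall x h1 h2]; exact hmoved
  -- the permutation
  set π₀ : α → α := fun x =>
    if u₁ = x then a' else if u₂ = x then b' else d x b' with hπ₀
  have hπ1 : π₀ u₁ = a' := by simp [hπ₀]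
  have hπ2 : π₀ u₂ = b' := by simp [hπ₀, h12]
  have hπx : ∀ x, u₁ ≠ x → u₂ ≠ x → π₀ x = d x b' := by
    intro x h1 h2; simp only [hπ₀, if_neg h1, if_neg h2]
  have hx'a : ∀ x, u₁ ≠ x → u₂ ≠ x → d x b' ≠ a' := by
    intro x h1 h2
    have := (three_distinct (hd3 x h1 h2) (hmoved' x h1 h2)).1
    rwa [hall x h1 h2] at this
  have hx'b : ∀ x, u₁ ≠ x → u₂ ≠ x → d x b' ≠ b' := by
    intro x h1 h2
    have := (three_distinct (hd3 x h1 h2) (hmoved' x h1 h2)).2
    rwa [hall x h1 h2] at this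
  have hinj : Function.Injective π₀ := by
    intro x y hxy
    by_cases hx1 : u₁ = x
    · by_cases hy1 : u₁ = y
      · rw [← hx1, ← hy1]
      · exfalso
        rw [← hx1, hπ1] at hxy
        by_cases hy2 : u₂ = y
        · rw [← hy2, hπ2] at hxy; exact hmoved hxy.symm
        · rw [hπx y hy1 hy2] at hxy; exact hx'a y hy1 hy2 hxy.symm
    · by_cases hx2 : u₂ = x
      · by_cases hy1 : u₁ = y
        · exfalso
          rw [← hx2, hπ2, ← hy1, hπ1] at hxy; exact hmoved hxy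
        · by_cases hy2 : u₂ = y
          · rw [← hx2, ← hy2]
          · exfalso
            rw [← hx2, hπ2, hπx y hy1 hy2] at hxy; exact hx'b y hy1 hy2 hxy.symm
      · rw [hπx x hx1 hx2] at hxy
        by_cases hy1 : u₁ = y
        · exfalso
          rw [← hy1, hπ1] at hxy; exact hx'a x hx1 hx2 hxy
        · by_cases hy2 : u₂ = y
          · exfalso
            rw [← hy2, hπ2] at hxy; exact hx'b x hx1 hx2 hxy
          · rw [hπx y hy1 hy2] at hxy
            have heq : d x = d y := by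
              apply three_ext (hd3 x hx1 hx2) (hd3 y hy1 hy2) (hmoved' x hx1 hx2)
              · rw [hall x hx1 hx2, hall y hy1 hy2]
              · rw [hall x hx1 hx2, hxy]
            rw [hdval x hx1 hx2, hdval y hy1 hy2] at heq
            have h2 : (⟨cyc u₁ u₂ x, hmemA x hx1 hx2⟩ : alternatingGroup α) =
                ⟨cyc u₁ u₂ y, hmemA y hy1 hy2⟩ := θ.injective (Subtype.ext heq)
            have h3 : cyc u₁ u₂ x = cyc u₁ u₂ y := congrArg Subtype.val h2
            have h4 : cyc u₁ u₂ x u₂ = cyc u₁ u₂ y u₂ := by rw [h3]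
            rwa [cyc_apply_two hx1 hx2, cyc_apply_two hy1 hy2] at h4
  set π : Perm α := Equiv.ofBijective π₀ (Finite.injective_iff_bijective.mp hinj) with hπ
  have hπapp : ∀ x, π x = π₀ x := fun x => rfl
  -- conjugation by π agrees with θ on the family
  have hconj : ∀ x, u₁ ≠ x → u₂ ≠ x → π * cyc u₁ u₂ x * π⁻¹ = d x := by
    intro x h1 h2
    have e : π * cyc u₁ u₂ x * π⁻¹ = cyc a' b' (d x b') := by
      unfold cyc
      rw [mul_assoc π, mul_assoc (swap u₁ u₂), ← mul_assoc π, Equiv.mul_swap_eq_swap_mul,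
        mul_assoc, ← mul_assoc π, Equiv.mul_swap_eq_swap_mul, mul_assoc, mul_inv_cancel, mul_one,
        hπapp, hπapp, hπapp, hπ1, hπ2, hπx x h1 h2]
    rw [e]
    symm
    apply three_ext (hd3 x h1 h2)
      (cyc_isThreeCycle hmoved.symm (hx'a x h1 h2).symm (hx'b x h1 h2).symm) (hmoved' x h1 h2)
    · rw [hall x h1 h2, cyc_apply_one hmoved.symm (hx'a x h1 h2).symm]
    · rw [hall x h1 h2, cyc_apply_two (hx'a x h1 h2).symm (hx'b x h1 h2).symm]
  -- generation
  set S : Set (Perm α) := {s | ∃ x, u₁ ≠ x ∧ u₂ ≠ x ∧ s = cyc u₁ u₂ x} with hS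
  have hSmem : ∀ x (h1 : u₁ ≠ x) (h2 : u₂ ≠ x), cyc u₁ u₂ x ∈ S := fun x h1 h2 =>
    ⟨x, h1, h2, rfl⟩
  have hS3 : ∀ s ∈ S, s.IsThreeCycle := by
    rintro s ⟨x, h1, h2, rfl⟩
    exact cyc_isThreeCycle h12 h1 h2
  have hreach : ∀ w : α, ∃ g ∈ Subgroup.closure S, g u₁ = w := by
    intro w
    by_cases hw1 : u₁ = w
    · exact ⟨1, Subgroup.one_mem _, hw1⟩
    by_cases hw2 : u₂ = w
    · exact ⟨cyc u₁ u₂ x₀, Subgroup.subset_closure (hSmem x₀ h10 h20), by
        rw [cyc_apply_one h12 h10, hw2]⟩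
    · refine ⟨cyc u₁ u₂ w * cyc u₁ u₂ w, Subgroup.mul_mem _
        (Subgroup.subset_closure (hSmem w hw1 hw2)) (Subgroup.subset_closure (hSmem w hw1 hw2)), ?_⟩
      rw [Perm.mul_apply, cyc_apply_one h12 hw1, cyc_apply_two hw1 hw2]
  have htr : ∀ x y : α, ∃ g ∈ Subgroup.closure S, g x = y := by
    intro x y
    obtain ⟨gx, hgx, ex⟩ := hreach x
    obtain ⟨gy, hgy, ey⟩ := hreach y
    refine ⟨gy * gx⁻¹, Subgroup.mul_mem _ hgy (Subgroup.inv_mem _ hgx), ?_⟩
    rw [Perm.mul_apply, ← ex]; simp [ey]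
  have hgen : alternatingGroup α ≤ Subgroup.closure S :=
    alternatingGroup_le_closure S hS3 ⟨_, hSmem x₀ h10 h20⟩ htr
  have hSA : Subgroup.closure S ≤ alternatingGroup α := by
    rw [Subgroup.closure_le]
    intro s hs
    exact (hS3 s hs).mem_alternatingGroup
  refine ⟨π, ?_⟩
  have main : ∀ g ∈ Subgroup.closure S, ∀ hg : g ∈ alternatingGroup α,
      ((θ ⟨g, hg⟩ : alternatingGroup α) : Perm α) = π * g * π⁻¹ := by
    intro g hgS
    induction hgS using Subgroup.closure_induction with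
    | mem s hs =>
      intro hg
      obtain ⟨x, h1, h2, rfl⟩ := hs
      rw [hconj x h1 h2, hdval x h1 h2]
    | one =>
      intro hg
      have : (⟨1, hg⟩ : alternatingGroup α) = 1 := rfl
      rw [this, map_one]; simp
    | mul g h hg' hh' ihg ihh =>
      intro hgh
      have hgA := hSA hg'
      have hhA := hSA hh'
      have : (⟨g * h, hgh⟩ : alternatingGroup α) = ⟨g, hgA⟩ * ⟨h, hhA⟩ := rfl
      rw [this, map_mul, Subgroup.coe_mul, ihg hgA, ihh hhA]
      group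
    | inv g hg' ih =>
      intro hginv
      have hgA := hSA hg'
      have : (⟨g⁻¹, hginv⟩ : alternatingGroup α) = (⟨g, hgA⟩)⁻¹ := rfl
      rw [this, map_inv, Subgroup.coe_inv, ih hgA]
      group
  intro g
  exact main g.1 (hgen g.2) g.2

end Main

end Cfsg.Agent.Helper14.AutAltN
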