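import Cfsg.Agent.Helper14.AutAltB

/-!
# Groups between `A_n` and `Aut(A_n)`: part C (odd-order automorphisms of `A_6` preserve 3-cycles)
-/

set_option autoImplicit false
set_option linter.unusedSectionVars false

namespace Cfsg.Agent.Helper14.AutAltN

open Equiv Equiv.Perm

/-- the predicate "maps 3-cycles to 3-cycles" -/
def K3 {n : ℕ} (θ : MulAut (alternatingGroup (Fin n))) : Prop :=
  ∀ c : alternatingGroup (Fin n), (c : Perm (Fin n)).IsThreeCycle →
    ((θ c : alternatingGroup (Fin n)) : Perm (Fin n)).IsThreeCycle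

theorem K3_one {n : ℕ} : K3 (1 : MulAut (alternatingGroup (Fin n))) := fun _ hc => hc

theorem K3_mul {n : ℕ} {θ φ : MulAut (alternatingGroup (Fin n))} (hθ : K3 θ) (hφ : K3 φ) :
    K3 (θ * φ) := fun c hc => hθ _ (hφ c hc)

theorem K3_pow {n : ℕ} {θ : MulAut (alternatingGroup (Fin n))} (hθ : K3 θ) (j : ℕ) :
    K3 (θ ^ j) := by
  induction j with
  | zero => rw [pow_zero]; exact K3_one
  | succ j ih => rw [pow_succ]; exact K3_mul ih hθ

theorem K3_of_one {n : ℕ} (h5 : 5 ≤ n) (θ : MulAut (alternatingGroup (Fin n)))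
    (c0 : alternatingGroup (Fin n)) (h0 : (c0 : Perm (Fin n)).IsThreeCycle)
    (h1 : ((θ c0 : alternatingGroup (Fin n)) : Perm (Fin n)).IsThreeCycle) : K3 θ := by
  intro c hc
  have h5' : 5 ≤ Nat.card (Fin n) := by rw [Nat.card_eq_fintype_card, Fintype.card_fin]; exact h5
  obtain ⟨g, hg⟩ := isConj_iff.mp (alternatingGroup.isThreeCycle_isConj h5' h0 hc)
  have e : θ c = θ g * θ c0 * (θ g)⁻¹ := by
    rw [← hg, map_mul, map_mul, map_inv]
  rw [e]
  show (((θ g : alternatingGroup (Fin n)) : Perm (Fin n)) *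
    ((θ c0 : alternatingGroup (Fin n)) : Perm (Fin n)) *
    ((θ g : alternatingGroup (Fin n)) : Perm (Fin n))⁻¹).cycleType = {3}
  rw [cycleType_conj]
  exact h1

theorem cycleType_of_order_three (g : Perm (Fin 6)) (h : orderOf g = 3) :
    g.cycleType = {3} ∨ g.cycleType = {3, 3} := by
  obtain ⟨m, hm⟩ := cycleType_prime_order (σ := g) (by rw [h]; exact Nat.prime_three)
  rw [h] at hm
  have hs := sum_cycleType_le g
  rw [hm, Multiset.sum_replicate, smul_eq_mul, Fintype.card_fin] at hs
  have : m = 0 ∨ m = 1 := by omega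
  rcases this with rfl | rfl
  · left; rw [hm]; rfl
  · right; rw [hm]; rfl

theorem card_type3 :
    (Finset.univ.filter (fun g : Perm (Fin 6) => g.cycleType = {3})).card = 40 := by
  rw [card_of_cycleType]
  decide

theorem card_type33 :
    (Finset.univ.filter (fun g : Perm (Fin 6) => g.cycleType = {3, 3})).card = 40 := by
  rw [card_of_cycleType]
  decide

/-- 3-cycles of `A_6` -/
def C6 : Finset (alternatingGroup (Fin 6)) :=
  Finset.univ.filter (fun g => (g : Perm (Fin 6)).cycleType = {3})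

/-- elements of order 3 of `A_6` -/
noncomputable def T6 : Finset (alternatingGroup (Fin 6)) :=
  Finset.univ.filter (fun g => orderOf g = 3)

theorem mem_C6 {g : alternatingGroup (Fin 6)} : g ∈ C6 ↔ (g : Perm (Fin 6)).IsThreeCycle := by
  unfold C6
  rw [Finset.mem_filter]
  exact ⟨fun h => h.2, fun h => ⟨Finset.mem_univ _, h⟩⟩

theorem mem_T6 {g : alternatingGroup (Fin 6)} : g ∈ T6 ↔ orderOf g = 3 := by
  unfold T6
  rw [Finset.mem_filter]
  exact ⟨fun h => h.2, fun h => ⟨Finset.mem_univ _, h⟩⟩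

theorem card_C6 : C6.card = 40 := by
  have h : C6.map ⟨Subtype.val, Subtype.val_injective⟩ =
      Finset.univ.filter (fun g : Perm (Fin 6) => g.cycleType = {3}) := by
    ext g
    simp only [Finset.mem_map, Function.Embedding.coeFn_mk, Finset.mem_filter, Finset.mem_univ,
      true_and]
    constructor
    · rintro ⟨a, ha, rfl⟩
      exact mem_C6.mp ha
    · intro hg
      have hmem : g ∈ alternatingGroup (Fin 6) := IsThreeCycle.mem_alternatingGroup hg
      exact ⟨⟨g, hmem⟩, mem_C6.mpr hg, rfl⟩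
  rw [← Finset.card_map ⟨Subtype.val, Subtype.val_injective⟩, h]
  exact card_type3

theorem card_T6_le : T6.card ≤ 80 := by
  rw [← Finset.card_map ⟨Subtype.val, Subtype.val_injective⟩]
  have hsub : T6.map ⟨Subtype.val, Subtype.val_injective⟩ ⊆
      (Finset.univ.filter (fun g : Perm (Fin 6) => g.cycleType = {3})) ∪
      (Finset.univ.filter (fun g : Perm (Fin 6) => g.cycleType = {3, 3})) := by
    intro g hg
    simp only [Finset.mem_map, Function.Embedding.coeFn_mk] at hg
    obtain ⟨a, ha, rfl⟩ := hg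
    have ho : orderOf (a : Perm (Fin 6)) = 3 := by
      rw [Subgroup.orderOf_coe]; exact mem_T6.mp ha
    rw [Finset.mem_union, Finset.mem_filter, Finset.mem_filter]
    rcases cycleType_of_order_three _ ho with h | h
    · exact Or.inl ⟨Finset.mem_univ _, h⟩
    · exact Or.inr ⟨Finset.mem_univ _, h⟩
  refine (Finset.card_le_card hsub).trans ((Finset.card_union_le _ _).trans ?_)
  rw [card_type3, card_type33]

theorem K3_of_odd (θ : MulAut (alternatingGroup (Fin 6))) (hodd : Odd (orderOf θ)) : K3 θ := by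
  classical
  by_contra hk
  have hk2 : ¬ K3 (θ * θ) := by
    intro h2
    apply hk
    obtain ⟨j, hj⟩ := hodd
    have e : θ = (θ * θ) ^ (j + 1) := by
      rw [← pow_two, ← pow_mul]
      have : 2 * (j + 1) = orderOf θ + 1 := by omega
      rw [this, pow_succ, pow_orderOf_eq_one, one_mul]
    rw [e]
    exact K3_pow h2 _
  have hn1 : ∀ c ∈ C6, θ c ∉ C6 := by
    intro c hc hc'
    exact hk (K3_of_one (by norm_num) θ c (mem_C6.mp hc) (mem_C6.mp hc'))
  have hn2 : ∀ c ∈ C6, θ (θ c) ∉ C6 := by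
    intro c hc hc'
    exact hk2 (K3_of_one (by norm_num) (θ * θ) c (mem_C6.mp hc) (mem_C6.mp hc'))
  have hT : ∀ c ∈ C6, c ∈ T6 := by
    intro c hc
    rw [mem_T6, ← Subgroup.orderOf_coe]
    exact (mem_C6.mp hc).orderOf
  have hT1 : ∀ c ∈ C6, θ c ∈ T6 := by
    intro c hc
    rw [mem_T6, MulEquiv.orderOf_eq]
    exact mem_T6.mp (hT c hc)
  have hT2 : ∀ c ∈ C6, θ (θ c) ∈ T6 := by
    intro c hc
    rw [mem_T6, MulEquiv.orderOf_eq]
    exact mem_T6.mp (hT1 c hc)
  have hinj : Function.Injective (fun c : alternatingGroup (Fin 6) => θ c) := θ.injective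
  have hinj2 : Function.Injective (fun c : alternatingGroup (Fin 6) => θ (θ c)) :=
    θ.injective.comp θ.injective
  set D1 : Finset (alternatingGroup (Fin 6)) := C6.image (fun c => θ c) with hD1
  set D2 : Finset (alternatingGroup (Fin 6)) := C6.image (fun c => θ (θ c)) with hD2
  have c1 : D1.card = 40 := by rw [hD1, Finset.card_image_of_injective _ hinj, card_C6]
  have c2 : D2.card = 40 := by rw [hD2, Finset.card_image_of_injective _ hinj2, card_C6]
  have d01 : Disjoint C6 D1 := by
    rw [Finset.disjoint_left]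
    intro a ha ha'
    rw [hD1, Finset.mem_image] at ha'
    obtain ⟨c, hc, rfl⟩ := ha'
    exact hn1 c hc ha
  have d02 : Disjoint C6 D2 := by
    rw [Finset.disjoint_left]
    intro a ha ha'
    rw [hD2, Finset.mem_image] at ha'
    obtain ⟨c, hc, rfl⟩ := ha'
    exact hn2 c hc ha
  have d12 : Disjoint D1 D2 := by
    rw [Finset.disjoint_left]
    intro a ha ha'
    rw [hD1, Finset.mem_image] at ha
    rw [hD2, Finset.mem_image] at ha'
    obtain ⟨c, hc, rfl⟩ := ha
    obtain ⟨c', hc', h'⟩ := ha'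
    have : θ c' = c := θ.injective h'
    exact hn1 c' hc' (this ▸ hc)
  have hsub : C6 ∪ D1 ∪ D2 ⊆ T6 := by
    intro a ha
    rw [Finset.mem_union, Finset.mem_union] at ha
    rcases ha with (ha | ha) | ha
    · exact hT a ha
    · rw [hD1, Finset.mem_image] at ha
      obtain ⟨c, hc, rfl⟩ := ha
      exact hT1 c hc
    · rw [hD2, Finset.mem_image] at ha
      obtain ⟨c, hc, rfl⟩ := ha
      exact hT2 c hc
  have hcard : (C6 ∪ D1 ∪ D2).card = 120 := by
    rw [Finset.card_union_of_disjoint, Finset.card_union_of_disjoint d01, card_C6, c1, c2]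
    rw [Finset.disjoint_union_left]
    exact ⟨d02, d12⟩
  have := (Finset.card_le_card hsub).trans card_T6_le
  omega

end Cfsg.Agent.Helper14.AutAltN
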