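import Mathlib
import Cfsg.Prelude.Def_ChevB2
import Cfsg.Prelude.Def_ChevStructure
import Cfsg.Agent.Helper28.B2Defs
set_option autoImplicit false
open Matrix Cfsg.Lie Cfsg.Agent.Helper28.Sg Cfsg.Agent.Helper28.B2
open scoped commutatorElement

/-! S1083 piece COMM: the group `RB F` generated by the long and short root elements of `O₅(F)`
lies in the commutator subgroup `Ω₅(F)` as soon as `F` has an element `≠ 0, 1`. -/

namespace Cfsg.Agent.Helper14.B2COMM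

variable {F : Type*} [Field F]

/-- diagonal entries of the torus element `h_p(a)` -/
def hc (p : H4) (a : F) : J5 → F :=
  fun j => if j = Sum.inr p then a else if j = Sum.inr p.swap then a⁻¹ else 1

theorem hc_mul (p : H4) {a : F} (ha : a ≠ 0) (j : J5) : hc p a j * hc p a⁻¹ j = 1 := by
  unfold hc
  split_ifs <;> simp [ha]

theorem hc_mul' (p : H4) {a : F} (ha : a ≠ 0) (j : J5) : hc p a⁻¹ j * hc p a j = 1 := by
  rw [mul_comm]; exact hc_mul p ha j

theorem Q5_diag (p : H4) {a : F} (ha : a ≠ 0) (x : J5 → F) :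
    Q5 F (Matrix.diagonal (hc p a) *ᵥ x) = Q5 F x := by
  rw [Q5_apply, Q5_apply]
  simp only [Matrix.mulVec_diagonal]
  rcases p with p | p <;> fin_cases p <;> simp [hc] <;> field_simp

/-- the torus element `h_p(a)`: `δ_p ↦ a δ_p`, `δ_{p'} ↦ a⁻¹ δ_{p'}`, the other coordinate
vectors fixed -/
noncomputable def hD (p : H4) (a : F) (ha : a ≠ 0) : ↥(Cfsg.isometryGroup F ⇑(Q5 F)) :=
  ⟨⟨Matrix.diagonal (hc p a), Matrix.diagonal (hc p a⁻¹), by
      rw [Matrix.diagonal_mul_diagonal, ← Matrix.diagonal_one]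
      congr 1
      funext j
      exact hc_mul p ha j, by
      rw [Matrix.diagonal_mul_diagonal, ← Matrix.diagonal_one]
      congr 1
      funext j
      exact hc_mul' p ha j⟩, by
    rw [Cfsg.Agent.Helper28.IsoTransport.mem_isometryGroup_iff]
    intro x
    exact Q5_diag p ha x⟩

theorem hD_mulVec (p : H4) {a : F} (ha : a ≠ 0) (x : J5 → F) (j : J5) :
    (mt (Q5 F) (hD p a ha) *ᵥ x) j = hc p a j * x j := by
  show (Matrix.diagonal (hc p a) *ᵥ x) j = _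
  rw [Matrix.mulVec_diagonal]

theorem hD_d (p : H4) {a : F} (ha : a ≠ 0) : mt (Q5 F) (hD p a ha) *ᵥ d p = a • d p := by
  funext j
  rw [hD_mulVec, Pi.smul_apply, smul_eq_mul, d_apply]
  unfold hc
  split_ifs <;> simp

theorem hD_d_other (p q : H4) {a : F} (ha : a ≠ 0) (h1 : q ≠ p) (h2 : q ≠ p.swap) :
    mt (Q5 F) (hD p a ha) *ᵥ d q = d q := by
  funext j
  rw [hD_mulVec, d_apply]
  unfold hc
  by_cases hj : j = Sum.inr q
  · subst hj
    rw [if_neg (fun h => h1 (Sum.inr.inj h)), if_neg (fun h => h2 (Sum.inr.inj h)), one_mul]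
  · rw [if_neg hj, mul_zero]

theorem hD_z (p : H4) {a : F} (ha : a ≠ 0) : mt (Q5 F) (hD p a ha) *ᵥ z = z := by
  funext j
  rw [hD_mulVec, z_apply]
  unfold hc
  by_cases hj : j = Sum.inl ()
  · subst hj
    simp
  · rw [if_neg hj, mul_zero]

theorem hD_smul (p : H4) {a : F} (ha : a ≠ 0) (c : F) {v : J5 → F}
    (hv : mt (Q5 F) (hD p a ha) *ᵥ v = v) : mt (Q5 F) (hD p a ha) *ᵥ (c • v) = c • v := by
  rw [Matrix.mulVec_smul, hv]

/-- the key commutator identity -/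
theorem comm_sieg (p : H4) {a : F} (ha : a ≠ 0) (v : J5 → F) (huv : B (Q5 F) (d p) v = 0)
    (hv : mt (Q5 F) (hD p a ha) *ᵥ v = v) (huv' : B (Q5 F) (d p) ((a - 1) • v) = 0) :
    siegO (Q5 F) (d p) ((a - 1) • v) (Q5_d p) huv' =
      ⁅hD p a ha, siegO (Q5 F) (d p) v (Q5_d p) huv⁆ := by
  have hu' : Q5 F (mt (Q5 F) (hD p a ha) *ᵥ d p) = 0 := by
    rw [Cfsg.Agent.Helper28.Spin.isom_apply]; exact Q5_d p
  have huv2 : B (Q5 F) (mt (Q5 F) (hD p a ha) *ᵥ d p) (mt (Q5 F) (hD p a ha) *ᵥ v) = 0 := by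
    rw [B_isom]; exact huv
  have e1 := siegO_conj (Q5 F) (hD p a ha) (Q5_d p) huv hu' huv2
  have hu3 : Q5 F (a • (d p : J5 → F)) = 0 := Q5_smul_d a p
  have huv3 : B (Q5 F) (a • d p) v = 0 := B_smul_left_zero (Q5 F) a huv
  have huv4 : B (Q5 F) (d p) (a • v) = 0 := B_smul_right_zero (Q5 F) a huv
  have e2 : siegO (Q5 F) (mt (Q5 F) (hD p a ha) *ᵥ d p) (mt (Q5 F) (hD p a ha) *ᵥ v) hu' huv2 =
      siegO (Q5 F) (a • d p) v hu3 huv3 :=
    siegO_congr (Q5 F) hu' huv2 hu3 huv3 (hD_d p ha) hv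
  have e3 := siegO_smul (Q5 F) a (Q5_d p) huv hu3 huv3 huv4
  have hneg : B (Q5 F) (d p) (-v) = 0 := by rw [B_neg_right, huv, neg_zero]
  rw [commutatorElement_def, e1, e2, e3, siegO_inv (Q5 F) (Q5_d p) huv hneg,
    siegO_mul (Q5 F) (Q5_d p) huv4 hneg (B_add_right_zero (Q5 F) huv4 hneg)]
  apply siegO_congr
  · rfl
  · module

theorem B_d_d {p q : H4} (h : q ≠ p.swap) : B (Q5 F) (d p) (d q) = 0 := by
  rw [B_d, d_apply, if_neg (fun h' => h (Sum.inr.inj h').symm)]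

theorem B_d_z (p : H4) : B (Q5 F) (d p) (z : J5 → F) = 0 := by
  rw [B_d, z_apply, if_neg (by simp)]

theorem sL_self (p : H4) (c : F) (h : p ≠ p.swap) : sL p p c h = (1 : ↥(Cfsg.isometryGroup F ⇑(Q5 F))) := by
  apply O_ext
  intro x
  rw [sL_mulVec, mt_one_mulVec]
  module

theorem sL_mem (a : F) (ha : a ≠ 0) (ha1 : a ≠ 1) (p q : H4) (c : F) (h : q ≠ p.swap) :
    sL p q c h ∈ Cfsg.Omega F ⇑(Q5 F) := by
  by_cases hqp : q = p
  · subst hqp
    rw [sL_self]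
    exact Subgroup.one_mem _
  · have ha1' : a - 1 ≠ 0 := sub_ne_zero.mpr ha1
    have huv : B (Q5 F) (d p) (((a - 1)⁻¹ * c) • d q) = 0 :=
      B_smul_right_zero (Q5 F) _ (B_d_d h)
    have hv : mt (Q5 F) (hD p a ha) *ᵥ (((a - 1)⁻¹ * c) • d q) = ((a - 1)⁻¹ * c) • d q :=
      hD_smul p ha _ (hD_d_other p q ha hqp h)
    have huv' : B (Q5 F) (d p) ((a - 1) • (((a - 1)⁻¹ * c) • d q)) = 0 :=
      B_smul_right_zero (Q5 F) _ huv
    have key := comm_sieg p ha _ huv hv huv'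
    have : sL p q c h = siegO (Q5 F) (d p) ((a - 1) • (((a - 1)⁻¹ * c) • d q)) (Q5_d p) huv' := by
      unfold sL
      apply siegO_congr
      · rfl
      · rw [smul_smul, ← mul_assoc, mul_inv_cancel₀ ha1', one_mul]
    rw [this, key]
    exact Subgroup.commutator_mem_commutator (Subgroup.mem_top (hD p a ha)) (Subgroup.mem_top _)

theorem sS_mem (a : F) (ha : a ≠ 0) (ha1 : a ≠ 1) (p : H4) (c : F) :
    sS p c ∈ Cfsg.Omega F ⇑(Q5 F) := by
  have ha1' : a - 1 ≠ 0 := sub_ne_zero.mpr ha1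
  have huv : B (Q5 F) (d p) (((a - 1)⁻¹ * c) • (z : J5 → F)) = 0 :=
    B_smul_right_zero (Q5 F) _ (B_d_z p)
  have hv : mt (Q5 F) (hD p a ha) *ᵥ (((a - 1)⁻¹ * c) • z) = ((a - 1)⁻¹ * c) • z :=
    hD_smul p ha _ (hD_z p ha)
  have huv' : B (Q5 F) (d p) ((a - 1) • (((a - 1)⁻¹ * c) • (z : J5 → F))) = 0 :=
    B_smul_right_zero (Q5 F) _ huv
  have key := comm_sieg p ha _ huv hv huv'
  have : sS p c = siegO (Q5 F) (d p) ((a - 1) • (((a - 1)⁻¹ * c) • z)) (Q5_d p) huv' := by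
    unfold sS
    apply siegO_congr
    · rfl
    · rw [smul_smul, ← mul_assoc, mul_inv_cancel₀ ha1', one_mul]
  rw [this, key]
  exact Subgroup.commutator_mem_commutator (Subgroup.mem_top (hD p a ha)) (Subgroup.mem_top _)

/-- **S1083 piece COMM**: the root elements are commutators when `|F| ≥ 3`. -/
theorem RB_le_Omega {F : Type*} [Field F] (hF : ∃ a : F, a ≠ 0 ∧ a ≠ 1) :
    RB F ≤ Cfsg.Omega F ⇑(Q5 F) := by
  obtain ⟨a, ha, ha1⟩ := hF
  unfold RB
  rw [Subgroup.closure_le]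
  rintro g (⟨p, q, c, h, rfl⟩ | ⟨p, c, rfl⟩)
  · exact sL_mem a ha ha1 p q c h
  · exact sS_mem a ha ha1 p c

end Cfsg.Agent.Helper14.B2COMM
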