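import Mathlib
import Cfsg.Prelude.Def_ChevB2
import Cfsg.Prelude.Def_ChevStructure
import Cfsg.Agent.Helper28.B2Defs
set_option autoImplicit false
set_option linter.unusedTactic false
set_option linter.unreachableTactic false
open Matrix Cfsg.Lie Cfsg.Agent.Helper28.Sg Cfsg.Agent.Helper28.B2

/-! S1083 piece R3: the Steinberg relation (R3) `h_r(t) h_r(u) = h_r(t u)` for the explicit
`5 × 5` root matrices `Y` of type `B₂`. -/

namespace Cfsg.Agent.Helper14.B2R3

variable {F : Type*} [Field F]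

theorem neg_eq (r : ℕ) (hr : r < 8) : chevB2.neg r = 7 - r := by
  interval_cases r <;> rfl

theorem wordY_hWord (r : ℕ) (t : F) :
    wordY (chevB2.hWord r t) =
      Y r t * Y (chevB2.neg r) (-t⁻¹) * Y r t *
        (Y r (-1) * Y (chevB2.neg r) (-(-1 : F)⁻¹) * Y r (-1)) := by
  unfold ChevalleyDatum.hWord ChevalleyDatum.nWord wordY
  simp only [List.cons_append, List.nil_append, List.map_cons, List.map_nil, List.prod_cons,
    List.prod_nil, mul_one, mul_assoc]

/-- the diagonal of `h_r(t)` -/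
def hd (r : ℕ) (t : F) : Fin 5 → F :=
  match r with
  | 0 => ![1, t⁻¹, t⁻¹, t, t]
  | 1 => ![1, t⁻¹ ^ 2, 1, t ^ 2, 1]
  | 2 => ![1, 1, t⁻¹ ^ 2, 1, t ^ 2]
  | 3 => ![1, t⁻¹, t, t, t⁻¹]
  | 4 => ![1, t, t⁻¹, t⁻¹, t]
  | 5 => ![1, 1, t ^ 2, 1, t⁻¹ ^ 2]
  | 6 => ![1, t ^ 2, 1, t⁻¹ ^ 2, 1]
  | 7 => ![1, t, t, t⁻¹, t⁻¹]
  | _ => 1

set_option maxHeartbeats 1000000 in
theorem h0 {t : F} (ht : t ≠ 0) :
    wordY (chevB2.hWord 0 t) = Matrix.diagonal (hd 0 t) := by
  rw [wordY_hWord, neg_eq 0 (by norm_num)]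
  simp only [Y, hd]
  ext i j
  fin_cases i <;> fin_cases j <;>
    simp [Matrix.mul_apply, Fin.sum_univ_five, ht] <;> (try field_simp) <;> (try ring)

set_option maxHeartbeats 1000000 in
theorem h1 {t : F} (ht : t ≠ 0) :
    wordY (chevB2.hWord 1 t) = Matrix.diagonal (hd 1 t) := by
  rw [wordY_hWord, neg_eq 1 (by norm_num)]
  simp only [Y, hd]
  ext i j
  fin_cases i <;> fin_cases j <;>
    simp [Matrix.mul_apply, Fin.sum_univ_five, ht] <;> (try field_simp) <;> (try ring)

set_option maxHeartbeats 1000000 in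
theorem h2 {t : F} (ht : t ≠ 0) :
    wordY (chevB2.hWord 2 t) = Matrix.diagonal (hd 2 t) := by
  rw [wordY_hWord, neg_eq 2 (by norm_num)]
  simp only [Y, hd]
  ext i j
  fin_cases i <;> fin_cases j <;>
    simp [Matrix.mul_apply, Fin.sum_univ_five, ht] <;> (try field_simp) <;> (try ring)

set_option maxHeartbeats 1000000 in
theorem h3 {t : F} (ht : t ≠ 0) :
    wordY (chevB2.hWord 3 t) = Matrix.diagonal (hd 3 t) := by
  rw [wordY_hWord, neg_eq 3 (by norm_num)]
  simp only [Y, hd]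
  ext i j
  fin_cases i <;> fin_cases j <;>
    simp [Matrix.mul_apply, Fin.sum_univ_five, ht] <;> (try field_simp) <;> (try ring)

set_option maxHeartbeats 1000000 in
theorem h4 {t : F} (ht : t ≠ 0) :
    wordY (chevB2.hWord 4 t) = Matrix.diagonal (hd 4 t) := by
  rw [wordY_hWord, neg_eq 4 (by norm_num)]
  simp only [Y, hd]
  ext i j
  fin_cases i <;> fin_cases j <;>
    simp [Matrix.mul_apply, Fin.sum_univ_five, ht] <;> (try field_simp) <;> (try ring)

set_option maxHeartbeats 1000000 in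
theorem h5 {t : F} (ht : t ≠ 0) :
    wordY (chevB2.hWord 5 t) = Matrix.diagonal (hd 5 t) := by
  rw [wordY_hWord, neg_eq 5 (by norm_num)]
  simp only [Y, hd]
  ext i j
  fin_cases i <;> fin_cases j <;>
    simp [Matrix.mul_apply, Fin.sum_univ_five, ht] <;> (try field_simp) <;> (try ring)

set_option maxHeartbeats 1000000 in
theorem h6 {t : F} (ht : t ≠ 0) :
    wordY (chevB2.hWord 6 t) = Matrix.diagonal (hd 6 t) := by
  rw [wordY_hWord, neg_eq 6 (by norm_num)]
  simp only [Y, hd]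
  ext i j
  fin_cases i <;> fin_cases j <;>
    simp [Matrix.mul_apply, Fin.sum_univ_five, ht] <;> (try field_simp) <;> (try ring)

set_option maxHeartbeats 1000000 in
theorem h7 {t : F} (ht : t ≠ 0) :
    wordY (chevB2.hWord 7 t) = Matrix.diagonal (hd 7 t) := by
  rw [wordY_hWord, neg_eq 7 (by norm_num)]
  simp only [Y, hd]
  ext i j
  fin_cases i <;> fin_cases j <;>
    simp [Matrix.mul_apply, Fin.sum_univ_five, ht] <;> (try field_simp) <;> (try ring)

theorem hd_mul (r : ℕ) (t u : F) (i : Fin 5) :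
    hd r t i * hd r u i = hd r (t * u) i := by
  unfold hd
  split <;> fin_cases i <;> simp [mul_pow, mul_comm]

theorem wordY_hWord_eq (r : ℕ) (hr : r < 8) {t : F} (ht : t ≠ 0) :
    wordY (chevB2.hWord r t) = Matrix.diagonal (hd r t) := by
  interval_cases r
  · exact h0 ht
  · exact h1 ht
  · exact h2 ht
  · exact h3 ht
  · exact h4 ht
  · exact h5 ht
  · exact h6 ht
  · exact h7 ht

/-- **S1083 piece R3**: relation (R3) for the explicit `B₂` root matrices. -/
theorem Y_h {F : Type*} [Field F] (r : ℕ) (hr : r < 8) {t u : F} (ht : t ≠ 0) (hu : u ≠ 0) :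
    wordY (chevB2.hWord r t) * wordY (chevB2.hWord r u) = wordY (chevB2.hWord r (t * u)) := by
  rw [wordY_hWord_eq r hr ht, wordY_hWord_eq r hr hu, wordY_hWord_eq r hr (mul_ne_zero ht hu),
    Matrix.diagonal_mul_diagonal]
  congr 1
  funext i
  exact hd_mul r t u i

end Cfsg.Agent.Helper14.B2R3
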