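import Cfsg.Agent.Helper14.Asym11

set_option autoImplicit false
set_option linter.unusedSectionVars false
set_option linter.style.haveILetI false

namespace Cfsg.Agent.Helper14

open Cfsg

section BasicPropA

variable {G : Type*} [Group G] [Finite G] {p : ℕ} [Fact p.Prime]

/-- If `T ≤ A ≤ B` with `T` Sylow in `B` and `B` of characteristic `p`, the normal closure in `B`
of a `p`-reduced normal subgroup of `A` is `p`-reduced in `B`. -/
theorem isPReducedIn_iSup_conj {T A B W : Subgroup G} (hT : IsSylowIn p T B) (hTA : T ≤ A)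
    (hAB : A ≤ B)
    (hB : B ⊓ Subgroup.centralizer (pCoreOf p B : Set G) ≤ pCoreOf p B)
    (hW : IsPReducedIn p W A) :
    IsPReducedIn p (⨆ b : ↥B, W.map (cj (b : G))) B := by
  set R := pCoreOf p B with hR
  have hRT : R ≤ T := pCoreOf_le_of_isSylowIn hT
  have hRA : R ≤ A := hRT.trans hTA
  have hBR : B ≤ Subgroup.normalizer (R : Set G) := le_normalizer_pCoreOf p B
  have hRA' : R ≤ pCoreOf p A := le_pCoreOf p hRA (hAB.trans hBR) (pCoreOf_isPGroup p B)
  have hRcW : R ≤ Subgroup.centralizer (W : Set G) :=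
    hRA'.trans (pCoreOf_le_centralizer_of_isPReducedIn hW)
  have hWcR : W ≤ Subgroup.centralizer (R : Set G) := by
    rw [Subgroup.le_centralizer_iff]; exact hRcW
  have hWR : W ≤ R := fun w hw => hB ⟨hAB (hW.1 hw), hWcR hw⟩
  have hconjR : ∀ x : ↥B, W.map (cj (x : G)) ≤ R := by
    intro x
    have h1 : R.map (cj (x : G)) = R := mem_normalizer_iff_map_cj.1 (hBR x.2)
    rw [← h1]
    exact Subgroup.map_mono hWR
  have hconjC : ∀ x : ↥B, R ≤ Subgroup.centralizer ((W.map (cj (x : G)) : Subgroup G) : Set G) := by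
    intro x
    rw [← map_cj_centralizer]
    have h1 : R.map (cj (x : G)) = R := mem_normalizer_iff_map_cj.1 (hBR x.2)
    rw [← h1]
    exact Subgroup.map_mono hRcW
  set V := ⨆ x : ↥B, W.map (cj (x : G)) with hV
  have hWV : W ≤ V := by
    have h1 := le_iSup (fun x : ↥B => W.map (cj (x : G))) 1
    have h2 : W.map (cj ((1 : ↥B) : G)) = W := by
      rw [Subgroup.coe_one]; exact map_cj_one W
    rw [h2] at h1
    exact h1
  have hVR : V ≤ R := iSup_le hconjR
  have hVel : IsElementaryAbelian p V := by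
    apply isElementaryAbelian_iSup
    · intro x; exact isElementaryAbelian_map_cj hW.2.2.1 _
    · intro x y
      exact (hconjR x).trans (hconjC y)
  have hBV : B ≤ Subgroup.normalizer (V : Set G) := by
    apply le_normalizer_of_map_cj_le
    intro g hg
    rw [hV, Subgroup.map_iSup]
    refine iSup_le fun x => ?_
    rw [map_cj_mul]
    exact le_iSup (fun x : ↥B => W.map (cj (x : G))) (⟨g, hg⟩ * x)
  set CV := Subgroup.centralizer (V : Set G) with hCV
  have hCVW : CV ≤ Subgroup.centralizer (W : Set G) := Subgroup.centralizer_le hWV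
  refine ⟨hVR.trans (pCoreOf_le p B), hBV, hVel, ?_⟩
  intro D hDB hBD hDp
  have hDN : D ≤ Subgroup.normalizer ((D ⊓ CV : Subgroup G) : Set G) :=
    le_normalizer_inf Subgroup.le_normalizer
      (hDB.trans (hBV.trans (normalizer_le_normalizer_centralizer' V)))
  have hP₀ : IsSylowIn p (T ⊓ D) D := sylow_inf_isSylowIn hT hDB hBD
  have h1 : D ≤ (T ⊓ D) ⊔ (D ⊓ CV) :=
    le_sylow_sup_of_pQuotient hP₀ inf_le_left hDN
      (fun d hd => by
        obtain ⟨k, hk⟩ := hDp d hd
        exact ⟨k, D.pow_mem hd _, hk⟩)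
  have hDA : D ⊓ A ≤ Subgroup.centralizer (W : Set G) := by
    apply hW.2.2.2 (D ⊓ A) inf_le_right
    · exact le_normalizer_inf (hAB.trans hBD) Subgroup.le_normalizer
    · intro d hd
      obtain ⟨k, hk⟩ := hDp d hd.1
      exact ⟨k, hCVW hk⟩
  have hDW : D ≤ Subgroup.centralizer (W : Set G) := by
    refine h1.trans (sup_le ?_ (inf_le_right.trans hCVW))
    exact (le_inf inf_le_right (inf_le_left.trans hTA)).trans hDA
  rw [Subgroup.le_centralizer_iff]
  refine iSup_le fun x => ?_
  rw [← Subgroup.le_centralizer_iff, ← map_cj_centralizer]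
  have h2 : D.map (cj (x : G)) = D := mem_normalizer_iff_map_cj.1 (hBD x.2)
  rw [← h2]
  exact Subgroup.map_mono hDW

/-- monotonicity of `Y_L` along `T ≤ A ≤ B` (`B` of characteristic `p`) -/
theorem largestPReducedOf_mono {T A B : Subgroup G} (hT : IsSylowIn p T B) (hTA : T ≤ A)
    (hAB : A ≤ B)
    (hB : B ⊓ Subgroup.centralizer (pCoreOf p B : Set G) ≤ pCoreOf p B) :
    largestPReducedOf p A ≤ largestPReducedOf p B := by
  have h1 := isPReducedIn_iSup_conj hT hTA hAB hB (largestPReducedOf_isPReducedIn (p := p) A)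
  refine le_trans ?_ (le_largestPReducedOf h1)
  have h2 := le_iSup (fun x : ↥B => (largestPReducedOf p A).map (cj (x : G))) 1
  have h3 : (largestPReducedOf p A).map (cj ((1 : ↥B) : G)) = largestPReducedOf p A := by
    rw [Subgroup.coe_one]; exact map_cj_one _
  rw [h3] at h2
  exact h2

/-- members of `𝓛_H` have characteristic `p` in the ambient form -/
theorem charP_of_mem_charPSubgroups {L : Subgroup G} (hL : L ∈ charPSubgroups p G) :
    L ⊓ Subgroup.centralizer (pCoreOf p L : Set G) ≤ pCoreOf p L :=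
  inf_le_right.trans hL.2

/-- overgroups of a Sylow subgroup inside a member of `𝓛_H` lie in `𝓛_H` -/
theorem mem_charPSubgroups_of_le {T K N : Subgroup G} (hT : IsSylowIn p T N) (hTK : T ≤ K)
    (hKN : K ≤ N) (hN : N ∈ charPSubgroups p G) : K ∈ charPSubgroups p G := by
  have hON : pCoreOf p N ≤ K := (pCoreOf_le_of_isSylowIn hT).trans hTK
  have h1 : pCoreOf p N ≤ pCoreOf p K :=
    le_pCoreOf p hON (hKN.trans (le_normalizer_pCoreOf p N)) (pCoreOf_isPGroup p N)
  refine ⟨?_, ?_⟩
  · intro h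
    have h2 : pCoreOf p K = ⊥ := by
      unfold pCoreOf
      rw [h, Subgroup.map_bot]
    have h3 : pCoreOf p N = ⊥ := by
      rw [eq_bot_iff, ← h2]; exact h1
    exact (pCoreOf_ne_bot hN.1) h3
  · exact (Subgroup.centralizer_le h1).trans (hN.2.trans h1)

/-- `Y_L ≠ 1` for `L ∈ 𝓛_H` -/
theorem largestPReducedOf_ne_bot {L : Subgroup G} (hL : L ∈ charPSubgroups p G) :
    largestPReducedOf p L ≠ ⊥ := by
  obtain ⟨U, hU⟩ := exists_isSylowIn (p := p) L
  have hchar := charP_of_mem_charPSubgroups hL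
  have h1 : ozc p U ≤ largestPReducedOf p L :=
    (ozc_le_sylowCenterClosure' hU).trans
      (le_largestPReducedOf (isPReducedIn_sylowCenterClosure hchar))
  have hU1 : U ≠ ⊥ := by
    intro h
    have h2 : pCoreOf p L ≤ U := pCoreOf_le_of_isSylowIn hU
    rw [h, le_bot_iff] at h2
    exact (pCoreOf_ne_bot hL.1) h2
  have h3 : U ⊓ Subgroup.centralizer (U : Set G) ≠ ⊥ := inf_centralizer_ne_bot hU.2.1 hU1
  intro h
  apply h3
  apply eq_bot_of_omegaOne_eq_bot (p := p) (hU.2.1.to_le inf_le_left)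
  rw [eq_bot_iff, ← h]
  exact h1

/-- under parabolic characteristic `p`, normalizers of nontrivial `p`-subgroups containing a Sylow
subgroup lie in `𝓛_H` -/
theorem normalizer_mem_charPSubgroups_of_parabolic (hH : IsOfParabolicCharacteristic p G)
    (T : Sylow p G) {Y : Subgroup G} (hYp : IsPGroup p ↥Y) (hY1 : Y ≠ ⊥)
    (hTY : (T : Subgroup G) ≤ Subgroup.normalizer (Y : Set G)) :
    Subgroup.normalizer (Y : Set G) ∈ charPSubgroups p G := by
  have hle : Y ≤ pCoreOf p (Subgroup.normalizer (Y : Set G)) :=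
    le_pCoreOf p Subgroup.le_normalizer le_rfl hYp
  have hcore : pCore p ↥(Subgroup.normalizer (Y : Set G)) ≠ ⊥ := by
    intro h
    apply hY1
    rw [eq_bot_iff]
    have : pCoreOf p (Subgroup.normalizer (Y : Set G)) = ⊥ := by
      unfold pCoreOf
      rw [h, Subgroup.map_bot]
    rw [← this]; exact hle
  refine ⟨hcore, ?_⟩
  have hsub := hH Y hYp hY1 ⟨T, hTY⟩
  intro x hx
  have hxY : x ∈ Subgroup.centralizer (Y : Set G) := Subgroup.centralizer_le hle hx
  have hxN : x ∈ Subgroup.normalizer (Y : Set G) := Subgroup.centralizer_le_normalizer _ hxY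
  exact charP_ambient p hsub ⟨hxN, hx⟩

end BasicPropA

end Cfsg.Agent.Helper14
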