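import Cfsg.Agent.Helper14.PReduced6

set_option autoImplicit false
set_option linter.unusedSectionVars false

namespace Cfsg.Agent.Helper14

open Cfsg

variable {H : Type*} [Group H] {p : ℕ} [Fact p.Prime]

theorem map_subtype_omegaOne (L : Subgroup H) (B : Subgroup ↥L) :
    (omegaOne p B).map L.subtype = omegaOne p (B.map L.subtype) := by
  unfold omegaOne
  rw [MonoidHom.map_closure]
  congr 1
  ext x
  constructor
  · rintro ⟨y, ⟨hyB, hyp⟩, rfl⟩
    exact ⟨⟨y, hyB, rfl⟩, by
      have := congrArg Subtype.val hyp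
      simpa using this⟩
  · rintro ⟨⟨y, hyB, rfl⟩, hyp⟩
    exact ⟨y, ⟨hyB, Subtype.ext (by simpa using hyp)⟩, rfl⟩

theorem inf_centralizer_map_subtype (L : Subgroup H) (A : Subgroup ↥L) :
    (A ⊓ Subgroup.centralizer (A : Set ↥L)).map L.subtype =
      A.map L.subtype ⊓ Subgroup.centralizer ((A.map L.subtype : Subgroup H) : Set H) := by
  ext x
  constructor
  · rintro ⟨y, ⟨hyA, hyc⟩, rfl⟩
    have hyc' : y ∈ Subgroup.centralizer (A : Set ↥L) := hyc
    refine ⟨⟨y, hyA, rfl⟩, ?_⟩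
    show L.subtype y ∈ Subgroup.centralizer ((A.map L.subtype : Subgroup H) : Set H)
    rw [Subgroup.mem_centralizer_iff]
    rintro _ ⟨z, hz, rfl⟩
    exact congrArg Subtype.val (Subgroup.mem_centralizer_iff.1 hyc' z hz)
  · rintro ⟨⟨y, hyA, rfl⟩, hc⟩
    have hc' : L.subtype y ∈ Subgroup.centralizer ((A.map L.subtype : Subgroup H) : Set H) := hc
    refine ⟨y, ⟨hyA, ?_⟩, rfl⟩
    show y ∈ Subgroup.centralizer (A : Set ↥L)
    rw [Subgroup.mem_centralizer_iff]
    intro z hz
    apply Subtype.ext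
    exact Subgroup.mem_centralizer_iff.1 hc' z ⟨z, hz, rfl⟩

/-- ambient form of `Y_L = Ω₁Z(C_T(Y_L))` -/
theorem largestPReducedOf_eq_ozc {L T : Subgroup H} [Finite ↥L] (hT : IsSylowIn p T L)
    (hchar : L ⊓ Subgroup.centralizer (pCoreOf p L : Set H) ≤ pCoreOf p L) :
    largestPReducedOf p L =
      ozc p (T ⊓ Subgroup.centralizer ((largestPReducedOf p L : Subgroup H) : Set H)) := by
  have h := (largest_pReduced_structure (L := ↥L) (charP_of_ambient hchar) hT.toSylow
    (largestPReduced p ↥L) ⟨pReducedJoin_isPReducedNormal, fun V hV => le_pReducedJoin hV⟩ _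
    rfl).2.2
  have h2 := congrArg (Subgroup.map L.subtype) h
  rw [map_subtype_omegaOne, inf_centralizer_map_subtype] at h2
  have h3 : ((hT.toSylow : Subgroup ↥L) ⊓
      Subgroup.centralizer ((largestPReduced p ↥L : Subgroup ↥L) : Set ↥L)).map L.subtype =
      T ⊓ Subgroup.centralizer ((largestPReducedOf p L : Subgroup H) : Set H) := by
    have e1 : (largestPReduced p ↥L : Subgroup ↥L) = (largestPReducedOf p L).subgroupOf L :=
      (largestPReducedOf_subgroupOf L).symm
    rw [e1, centralizer_subgroupOf_eq (largestPReducedOf_le L)]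
    ext x
    constructor
    · rintro ⟨y, ⟨hyT, hyc⟩, rfl⟩
      exact ⟨Subgroup.mem_subgroupOf.1 hyT, Subgroup.mem_subgroupOf.1 hyc⟩
    · rintro ⟨hxT, hxc⟩
      exact ⟨⟨x, hT.1 hxT⟩, ⟨Subgroup.mem_subgroupOf.2 hxT, Subgroup.mem_subgroupOf.2 hxc⟩, rfl⟩
  rw [h3] at h2
  exact h2

theorem charP_ambient_of_pCoreOf_le {M K : Subgroup H}
    (hM : M ⊓ Subgroup.centralizer (pCoreOf p M : Set H) ≤ pCoreOf p M)
    (hKM : K ≤ M) (hQK : pCoreOf p M ≤ K) :
    K ⊓ Subgroup.centralizer (pCoreOf p K : Set H) ≤ pCoreOf p K := by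
  have h1 : pCoreOf p M ≤ pCoreOf p K :=
    le_pCoreOf p hQK (hKM.trans (le_normalizer_pCoreOf p M)) (pCoreOf_isPGroup p M)
  exact (le_inf (inf_le_left.trans hKM) (inf_le_right.trans (Subgroup.centralizer_le h1))).trans
    (hM.trans h1)

end Cfsg.Agent.Helper14

namespace Cfsg.Agent.Helper14

open Cfsg

variable {H : Type*} [Group H] [Finite H] {p : ℕ} [Fact p.Prime]

/-- S2824 -/
theorem largestPReducedOf_transfer (T : Sylow p H) (L M : Subgroup H)
    (hTL : (T : Subgroup H) ≤ L) (hTM : (T : Subgroup H) ≤ M)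
    (hL : L ⊓ Subgroup.centralizer (pCoreOf p L : Set H) ≤ pCoreOf p L)
    (hM : M ⊓ Subgroup.centralizer (pCoreOf p M : Set H) ≤ pCoreOf p M)
    (hfac : M ⊔ Subgroup.centralizer ((largestPReducedOf p L : Subgroup H) : Set H) =
      L ⊔ Subgroup.centralizer ((largestPReducedOf p L : Subgroup H) : Set H)) :
    largestPReducedOf p (M ⊓ Subgroup.normalizer
      (((T : Subgroup H) ⊓ Subgroup.centralizer ((largestPReducedOf p L : Subgroup H) : Set H) :
        Subgroup H) : Set H)) = largestPReducedOf p L ∧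
    L ⊔ Subgroup.centralizer ((largestPReducedOf p L : Subgroup H) : Set H) =
      (M ⊓ Subgroup.normalizer
      (((T : Subgroup H) ⊓ Subgroup.centralizer ((largestPReducedOf p L : Subgroup H) : Set H) :
        Subgroup H) : Set H)) ⊔
        Subgroup.centralizer ((largestPReducedOf p L : Subgroup H) : Set H) := by
  set Y := largestPReducedOf p L with hY
  set C := Subgroup.centralizer (Y : Set H) with hC
  set T₀ := (T : Subgroup H) ⊓ C with hT₀
  set Ls := M ⊓ Subgroup.normalizer (T₀ : Set H) with hLs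
  have hYred : IsPReducedIn p Y L := largestPReducedOf_isPReducedIn L
  have hCN : C ≤ Subgroup.normalizer (C : Set H) := Subgroup.le_normalizer
  have hLC : L ≤ Subgroup.normalizer (C : Set H) :=
    hYred.2.1.trans (normalizer_le_normalizer_centralizer' Y)
  have hMC : M ≤ Subgroup.normalizer (C : Set H) := by
    have h0 : M ≤ M ⊔ C := le_sup_left
    rw [hfac] at h0
    exact h0.trans (sup_le hLC hCN)
  have hTSL : IsSylowIn p (T : Subgroup H) L := isSylowIn_of_sylow_le T hTL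
  have hTSM : IsSylowIn p (T : Subgroup H) M := isSylowIn_of_sylow_le T hTM
  have hTT₀ : (T : Subgroup H) ≤ Subgroup.normalizer (T₀ : Set H) :=
    le_normalizer_inf Subgroup.le_normalizer (hTL.trans hLC)
  have hTLs : (T : Subgroup H) ≤ Ls := le_inf hTM hTT₀
  have hLsM : Ls ≤ M := inf_le_left
  -- Frattini
  have hMCn : M ≤ Subgroup.normalizer ((M ⊓ C : Subgroup H) : Set H) :=
    le_normalizer_inf Subgroup.le_normalizer hMC
  have hT₀S : IsSylowIn p T₀ (M ⊓ C) := by
    have h1 := sylow_inf_isSylowIn hTSM (inf_le_left : M ⊓ C ≤ M) hMCn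
    have h2 : (T : Subgroup H) ⊓ (M ⊓ C) = T₀ := by
      rw [hT₀, ← inf_assoc, inf_eq_left.2 hTM]
    rwa [h2] at h1
  have hfrat : M ≤ (M ⊓ C) ⊔ Ls :=
    frattini_ambient (p := p) (T := T₀) (N := M ⊓ C) (G := M) inf_le_left hMCn hT₀S
  have hsup : L ⊔ C = Ls ⊔ C := by
    apply le_antisymm
    · rw [← hfac]
      refine sup_le (hfrat.trans (sup_le (inf_le_right.trans le_sup_right) le_sup_left))
        le_sup_right
    · rw [← hfac]
      exact sup_le (hLsM.trans le_sup_left) le_sup_right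
  refine ⟨?_, hsup⟩
  -- Y ≤ Y_{Ls}
  have hYT : Y ≤ (T : Subgroup H) :=
    (largestPReducedOf_le_pCoreOf L).trans (pCoreOf_le_of_isSylowIn hTSL)
  have hYLs : Y ≤ Ls := hYT.trans hTLs
  have hYredLs : IsPReducedIn p Y Ls :=
    isPReducedIn_of_sup_centralizer_eq hYred hYLs hsup.symm
  set Y' := largestPReducedOf p Ls with hY'
  have hYY' : Y ≤ Y' := le_largestPReducedOf hYredLs
  -- Ls has characteristic p
  have hQMLs : pCoreOf p M ≤ Ls := (pCoreOf_le_of_isSylowIn hTSM).trans hTLs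
  have hLschar : Ls ⊓ Subgroup.centralizer (pCoreOf p Ls : Set H) ≤ pCoreOf p Ls :=
    charP_ambient_of_pCoreOf_le hM hLsM hQMLs
  have hTSLs : IsSylowIn p (T : Subgroup H) Ls := isSylowIn_of_sylow_le T hTLs
  -- C_T(Y') = T₀
  have hT₀p : IsPGroup p ↥T₀ := T.isPGroup'.to_le inf_le_left
  have hT₀Ls : T₀ ≤ Ls := inf_le_left.trans hTLs
  have h1 : T₀ ≤ pCoreOf p Ls := le_pCoreOf p hT₀Ls inf_le_right hT₀p
  have h2 : T₀ ≤ Subgroup.centralizer (Y' : Set H) :=
    h1.trans (pCoreOf_le_centralizer_largestPReducedOf Ls)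
  have h3 : (T : Subgroup H) ⊓ Subgroup.centralizer (Y' : Set H) = T₀ := by
    apply le_antisymm
    · exact inf_le_inf_left _ (Subgroup.centralizer_le hYY')
    · exact le_inf inf_le_left h2
  have e1 := largestPReducedOf_eq_ozc hTSLs hLschar
  have e2 := largestPReducedOf_eq_ozc hTSL hL
  rw [← hY', h3] at e1
  rw [← hY, ← hC, ← hT₀] at e2
  rw [e1, ← e2]

end Cfsg.Agent.Helper14
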