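import Cfsg.Agent.Helper14.BasicProp2
import Cfsg.Agent.Helper14.PReduced7

set_option autoImplicit false
set_option linter.unusedSectionVars false
set_option linter.style.haveILetI false

namespace Cfsg.Agent.Helper14

open Cfsg

section BasicPropC

variable {G : Type*} [Group G] [Finite G] {p : ℕ} [Fact p.Prime]

/-- S2847: existence of a member of `𝔐_H(T)` attached to `L ∈ 𝓛_H(T)`. -/
theorem exists_frakM_member (hH : IsOfParabolicCharacteristic p G) (T : Sylow p G)
    (L : Subgroup G) (hTL : (T : Subgroup G) ≤ L) (hL : L ∈ charPSubgroups p G) :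
    ∃ M Ls : Subgroup G, (T : Subgroup G) ≤ M ∧ IsInFrakM p M ∧ (T : Subgroup G) ≤ Ls ∧
      Ls ≤ M ∧ Ls ∈ charPSubgroups p G ∧
      largestPReducedOf p L = largestPReducedOf p Ls ∧
      largestPReducedOf p L ≤ largestPReducedOf p M ∧
      L ⊔ Subgroup.centralizer ((largestPReducedOf p L : Subgroup G) : Set G) =
        Ls ⊔ Subgroup.centralizer ((largestPReducedOf p L : Subgroup G) : Set G) := by
  set YL := largestPReducedOf p L with hYL
  set CL := Subgroup.centralizer (YL : Set G) with hCL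
  set N := L ⊔ CL with hN
  have hLCL : L ≤ Subgroup.normalizer (CL : Set G) :=
    (largestPReducedOf_isPReducedIn (p := p) L).2.1.trans (normalizer_le_normalizer_centralizer' _)
  have hNCL : N ≤ Subgroup.normalizer (CL : Set G) := sup_le hLCL Subgroup.le_normalizer
  have hCLN : CL ≤ N := le_sup_right
  -- the family `𝒳`
  let 𝒳 : Set (Subgroup G) := {X | X ∈ charPSubgroups p G ∧ (T : Subgroup G) ≤ X ∧
    YL ≤ largestPReducedOf p X ∧ N ≤ (X ⊓ N) ⊔ CL}
  have hL𝒳 : L ∈ 𝒳 := by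
    refine ⟨hL, hTL, le_rfl, ?_⟩
    have : L ⊓ N = L := inf_eq_left.2 le_sup_left
    rw [this]
  obtain ⟨X₀, hX₀, hX₀max⟩ := (Set.toFinite 𝒳).exists_maximalFor
    (fun X => Nat.card ↥(largestPReducedOf p X)) 𝒳 ⟨L, hL𝒳⟩
  let 𝒳' : Set (Subgroup G) := {X | X ∈ 𝒳 ∧
    Nat.card ↥(largestPReducedOf p X₀) ≤ Nat.card ↥(largestPReducedOf p X)}
  have hX₀' : X₀ ∈ 𝒳' := ⟨hX₀, le_rfl⟩
  obtain ⟨X, -, hXmem, hXmax⟩ := (Set.toFinite 𝒳').exists_le_maximal hX₀'
  obtain ⟨⟨hX, hTX, hYLX, hNX⟩, hXcard⟩ := hXmem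
  set YX := largestPReducedOf p X with hYX
  have hX𝒳 : X ∈ 𝒳 := ⟨hX, hTX, hYLX, hNX⟩
  -- key maximality properties
  have hK : ∀ X' ∈ 𝒳, YX ≤ largestPReducedOf p X' → largestPReducedOf p X' = YX := by
    intro X' hX' hle
    have h1 : Nat.card ↥YX ≤ Nat.card ↥(largestPReducedOf p X') := Subgroup.card_le_of_le hle
    have h2 : Nat.card ↥(largestPReducedOf p X') ≤ Nat.card ↥(largestPReducedOf p X₀) :=
      hX₀max hX' (hXcard.trans h1)
    exact (Subgroup.eq_of_le_of_card_ge hle (h2.trans hXcard)).symm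
  have hK2 : ∀ X' ∈ 𝒳, X ≤ X' → YX ≤ largestPReducedOf p X' → X' = X := by
    intro X' hX' hle hYle
    have h1 := hK X' hX' hYle
    have h2 : X' ∈ 𝒳' := ⟨hX', by rw [h1]; exact hXcard⟩
    exact le_antisymm (hXmax h2 hle) hle
  have hXchar := charP_of_mem_charPSubgroups hX
  have hMo : ∀ X' ∈ charPSubgroups p G, X ≤ X' → X' ∈ 𝒳 ∧ YX ≤ largestPReducedOf p X' := by
    intro X' hX' hle
    have hTX' : (T : Subgroup G) ≤ X' := hTX.trans hle
    have h1 : YX ≤ largestPReducedOf p X' :=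
      largestPReducedOf_mono (isSylowIn_of_sylow_le T hTX') hTX hle
        (charP_of_mem_charPSubgroups hX')
    refine ⟨⟨hX', hTX', hYLX.trans h1, hNX.trans ?_⟩, h1⟩
    exact sup_le_sup_right (inf_le_inf_right N hle) CL
  have hXmaxL : X ∈ maxCharPSubgroups p G := by
    refine ⟨hX, fun X' hX' hle => ?_⟩
    obtain ⟨h1, h2⟩ := hMo X' hX' hle
    exact hK2 X' h1 hle h2
  have hYXp : IsPGroup p ↥YX :=
    (pCoreOf_isPGroup p X).to_le (largestPReducedOf_le_pCoreOf (p := p) X)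
  have hXNY : X ≤ Subgroup.normalizer (YX : Set G) :=
    (largestPReducedOf_isPReducedIn (p := p) X).2.1
  have hNYX : Subgroup.normalizer (YX : Set G) = X := by
    have h1 := normalizer_mem_charPSubgroups_of_parabolic hH T hYXp
      (largestPReducedOf_ne_bot hX) (hTX.trans hXNY)
    exact hXmaxL.2 _ h1 hXNY
  set CX := Subgroup.centralizer (YX : Set G) with hCX
  have hCXX : CX ≤ X := by
    rw [← hNYX]; exact Subgroup.centralizer_le_normalizer _
  have hCXCL : CX ≤ CL := Subgroup.centralizer_le hYLX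
  have hXCX : X ≤ Subgroup.normalizer (CX : Set G) :=
    hXNY.trans (normalizer_le_normalizer_centralizer' _)
  -- the minimal `M`
  let 𝒴 : Set (Subgroup G) := {M | (T : Subgroup G) ≤ M ∧ M ≤ X ∧ X ≤ M ⊔ CX}
  have hX𝒴 : X ∈ 𝒴 := ⟨hTX, le_rfl, le_sup_left⟩
  obtain ⟨M, hMmem, hMmin⟩ := (Set.toFinite 𝒴).exists_minimal ⟨X, hX𝒴⟩
  obtain ⟨hTM, hMX, hXM⟩ := hMmem
  have hTSX : IsSylowIn p (T : Subgroup G) X := isSylowIn_of_sylow_le T hTX
  have hTSM : IsSylowIn p (T : Subgroup G) M := isSylowIn_of_sylow_le T hTM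
  have hM : M ∈ charPSubgroups p G := mem_charPSubgroups_of_le hTSX hTM hMX hX
  have hMsup : M ⊔ CX = X := le_antisymm (sup_le hMX hCXX) hXM
  have hYM : largestPReducedOf p M = YX := by
    apply le_antisymm
    · exact largestPReducedOf_mono hTSX hTM hMX hXchar
    · apply le_largestPReducedOf
      apply isPReducedIn_of_sup_centralizer_eq (largestPReducedOf_isPReducedIn (p := p) X)
      · exact ((largestPReducedOf_le_pCoreOf (p := p) X).trans
          (pCoreOf_le_of_isSylowIn hTSX)).trans hTM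
      · rw [hMsup]; exact (sup_eq_left.2 hCXX).symm
  -- `N ≤ (M ∩ N) C_L`
  have hMN : N ≤ (M ⊓ N) ⊔ CL := by
    refine hNX.trans (sup_le ?_ le_sup_right)
    intro x hx
    have hx1 : x ∈ CX ⊔ M := by rw [sup_comm, hMsup]; exact hx.1
    obtain ⟨c, hc, m, hm, hcm⟩ := (Helper7.mem_sup_of_le_normalizer (hMX.trans hXCX)).1 hx1
    have hmN : m ∈ N := by
      have : m = c⁻¹ * x := by rw [← hcm]; group
      rw [this]
      exact N.mul_mem (N.inv_mem (hCLN (hCXCL hc))) hx.2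
    rw [← hcm]
    exact Subgroup.mul_mem _ (Subgroup.mem_sup_right (hCXCL hc)) (Subgroup.mem_sup_left ⟨hm, hmN⟩)
  -- minimality in the form needed
  set D := M ⊓ CX with hD
  have hDM : D ≤ M := inf_le_left
  have hMD : M ≤ Subgroup.normalizer (D : Set G) :=
    le_normalizer_inf Subgroup.le_normalizer (hMX.trans hXCX)
  have hmin : ∀ M₁ : Subgroup G, M₁ ≤ M → (T : Subgroup G) ≤ M₁ → M ≤ M₁ ⊔ D → M ≤ M₁ := by
    intro M₁ hM₁M hTM₁ hle
    apply hMmin ⟨hTM₁, hM₁M.trans hMX, ?_⟩ hM₁M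
    refine hXM.trans (sup_le (hle.trans (sup_le le_sup_left (inf_le_right.trans le_sup_right)))
      le_sup_right)
  have hfrakM : IsInFrakM p M := by
    unfold IsInFrakM
    rw [hYM, hMsup]
    refine ⟨hM, hXmaxL, ?_, ?_, (isPClosed_of_min_supplement hTSM hDM hMD hmin).2,
      map_le_frattini_of_min_supplement hTSM hDM hMD hmin⟩
    · intro X' hX' hMX'
      have hTX' : (T : Subgroup G) ≤ X' := hTM.trans hMX'
      have h1 : YX ≤ largestPReducedOf p X' := by
        rw [← hYM]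
        exact largestPReducedOf_mono (isSylowIn_of_sylow_le T hTX') hTM hMX'
          (charP_of_mem_charPSubgroups hX'.1)
      have h2 : X' ∈ 𝒳 := by
        refine ⟨hX'.1, hTX', hYLX.trans h1, hMN.trans ?_⟩
        exact sup_le_sup_right (inf_le_inf_right N hMX') CL
      have h3 := hK X' h2 h1
      have h4 : X' ≤ X := by
        rw [← hNYX, ← h3]
        exact (largestPReducedOf_isPReducedIn (p := p) X').2.1
      exact (hX'.2 X hX h4).symm
    · rfl
  -- `L*`
  set M' := M ⊓ N with hM'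
  have hTM' : (T : Subgroup G) ≤ M' := le_inf hTM (hTL.trans le_sup_left)
  have hM'c : M' ∈ charPSubgroups p G := mem_charPSubgroups_of_le hTSM hTM' inf_le_left hM
  have hfac : M' ⊔ CL = L ⊔ CL := le_antisymm (sup_le inf_le_right le_sup_right) hMN
  obtain ⟨h1, h2⟩ := largestPReducedOf_transfer T L M' hTL hTM' (charP_of_mem_charPSubgroups hL)
    (charP_of_mem_charPSubgroups hM'c) hfac
  set Ls := M' ⊓ Subgroup.normalizer ((((T : Subgroup G) ⊓ CL : Subgroup G)) : Set G) with hLs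
  have hTLs : (T : Subgroup G) ≤ Ls :=
    le_inf hTM' (le_normalizer_inf Subgroup.le_normalizer (hTL.trans hLCL))
  have hLsM : Ls ≤ M := inf_le_left.trans inf_le_left
  refine ⟨M, Ls, hTM, hfrakM, hTLs, hLsM, mem_charPSubgroups_of_le hTSM hTLs hLsM hM, h1.symm, ?_,
    h2⟩
  rw [hYM]; exact hYLX

end BasicPropC

end Cfsg.Agent.Helper14
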