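import Cfsg.Agent.Helper14.WeaklyClosed3

set_option autoImplicit false
set_option linter.unusedSectionVars false

namespace Cfsg.Agent.Helper14

open Cfsg
open scoped commutatorElement Pointwise

section

variable {H : Type*} [Group H] [Finite H] {p : ℕ} [Fact p.Prime]

/-- all conjugates of a weakly closed `p`-subgroup `Q` lie in every subnormal subgroup containing `Q` -/
theorem wcs_conj_le_of_isSubnormal {Q : Subgroup H} (hQp : IsPGroup p ↥Q)
    (hwc : IsWeaklyClosedSubgroup p Q) {L : Subgroup H} (hL : L.IsSubnormal) (hQL : Q ≤ L) :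
    ∀ g : H, Q.map (cj g) ≤ L := by
  induction hL with
  | top => intro g; exact le_top
  | step A B hAB hB hN ih =>
    intro g
    have h1 := ih (hQL.trans hAB) g
    obtain ⟨k, hk, hgk⟩ := wcs_conj_in_subgroup hQp hwc (hQL.trans hAB) g h1
    rw [hgk]
    have hBN : B ≤ Subgroup.normalizer (A : Set H) :=
      (Subgroup.normal_subgroupOf_iff_le_normalizer hAB).1 hN
    have := Subgroup.map_mono (f := cj k) hQL
    rwa [mem_normalizer_iff_map_cj.1 (hBN hk)] at this

/-- the weak closure of `Q` in `K` is generated by the `K`-conjugates -/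
theorem weakClosure_eq_iSup_conj {Q : Subgroup H} (hQp : IsPGroup p ↥Q)
    (hwc : IsWeaklyClosedSubgroup p Q) {K : Subgroup H} (hQK : Q ≤ K) :
    weakClosure Q K = ⨆ k : ↥K, Q.map (cj (k : H)) := by
  unfold weakClosure
  apply le_antisymm
  · apply iSup_le
    rintro ⟨g, hg⟩
    obtain ⟨k, hk, hgk⟩ := wcs_conj_in_subgroup hQp hwc hQK g hg
    show Q.map (cj g) ≤ _
    rw [hgk]
    exact le_iSup (fun k : ↥K => Q.map (cj (k : H))) ⟨k, hk⟩
  · apply iSup_le
    intro k
    have hk : Q.map (cj (k : H)) ≤ K := by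
      have := Subgroup.map_mono (f := cj (k : H)) hQK
      rwa [map_cj_eq_self_of_mem k.2] at this
    exact le_iSup (fun g : {g : H // Q.map (MulAut.conj g).toMonoidHom ≤ K} =>
      Q.map (MulAut.conj (g : H)).toMonoidHom) ⟨(k : H), hk⟩

/-- S2840 -/
theorem weakClosure_eq_subnormalClosure (Q : Subgroup H) (hQp : IsPGroup p ↥Q)
    (hwc : IsWeaklyClosedSubgroup p Q) (K : Subgroup H) (hQK : Q ≤ K) (Kc : Subgroup H)
    (hKc : Kc = weakClosure Q K) :
    Kc = ⨆ k : ↥K, Q.map (cj ((k : H) : H)) ∧
    Kc = (subnormalClosure (Q.subgroupOf K)).map K.subtype := by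
  have h1 : Kc = ⨆ k : ↥K, Q.map (cj (k : H)) := by
    rw [hKc]; exact weakClosure_eq_iSup_conj hQp hwc hQK
  refine ⟨h1, ?_⟩
  have hwcK : IsWeaklyClosedSubgroup p (Q.subgroupOf K) :=
    (wcs_subgroup_properties Q hQp hwc K hQK ⊥).1
  have hQ'p : IsPGroup p ↥(Q.subgroupOf K) := hQp.comap_subtype
  have hKcK : Kc ≤ K := by
    rw [h1]
    apply iSup_le
    intro k
    have := Subgroup.map_mono (f := cj (k : H)) hQK
    rwa [map_cj_eq_self_of_mem k.2] at this
  have hKn : K ≤ Subgroup.normalizer (Kc : Set H) := by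
    apply le_normalizer_of_map_cj_le
    intro k' hk'
    rw [h1, Subgroup.map_iSup]
    apply iSup_le
    intro k
    rw [map_cj_mul]
    exact le_iSup (fun k : ↥K => Q.map (cj (k : H))) ⟨k' * k, K.mul_mem hk' k.2⟩
  apply le_antisymm
  · rw [h1]
    apply iSup_le
    intro k
    have h2 : (Q.subgroupOf K).map (cj k) ≤ subnormalClosure (Q.subgroupOf K) := by
      unfold subnormalClosure
      apply le_sInf
      rintro L ⟨hQL, hL⟩
      exact wcs_conj_le_of_isSubnormal hQ'p hwcK hL hQL k
    have h3 := Subgroup.map_mono (f := K.subtype) h2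
    have h4 := map_subtype_map_conj K (Q.subgroupOf K) k
    rw [map_subtype_subgroupOf hQK] at h4
    have h5 : ((Q.subgroupOf K).map (cj k)).map K.subtype = Q.map (cj (k : H)) := h4
    rwa [h5] at h3
  · have hn : (Kc.subgroupOf K).Normal :=
      (Subgroup.normal_subgroupOf_iff_le_normalizer hKcK).2 hKn
    have hQKc : Q ≤ Kc := by
      rw [h1]
      have := le_iSup (fun k : ↥K => Q.map (cj (k : H))) (1 : ↥K)
      have e : Q.map (cj (((1 : ↥K) : H))) = Q := by
        rw [Subgroup.coe_one]; exact map_cj_one Q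
      rwa [e] at this
    have h2 : subnormalClosure (Q.subgroupOf K) ≤ Kc.subgroupOf K := by
      unfold subnormalClosure
      apply sInf_le
      refine ⟨?_, hn.isSubnormal⟩
      intro x hx
      exact Subgroup.mem_subgroupOf.2 (hQKc (Subgroup.mem_subgroupOf.1 hx))
    have h3 := Subgroup.map_mono (f := K.subtype) h2
    rwa [map_subtype_subgroupOf hKcK] at h3

end

end Cfsg.Agent.Helper14
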