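import Cfsg.Agent.Helper14.Large2
import Cfsg.Agent.Helper14.WeaklyClosed4
import Cfsg.Agent.Helper14.Kieler
import Cfsg.Agent.Helper14.Amalgam6

set_option autoImplicit false
set_option linter.unusedSectionVars false
set_option linter.style.haveILetI false

namespace Cfsg.Agent.Helper14

open Cfsg
open scoped commutatorElement

section
variable {H : Type*} [Group H] [Finite H] {p : ℕ} [Fact p.Prime]

/-- a large `p`-subgroup `Q` normalizing a nontrivial `p`-subgroup `Y` is normalized by `C_H(Y)` -/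
theorem large_centralizer_le_normalizer {Q Y : Subgroup H} (hQp : IsPGroup p ↥Q)
    (hL : IsLarge Q) (hYp : IsPGroup p ↥Y) (hY1 : Y ≠ ⊥)
    (hQY : Q ≤ Subgroup.normalizer (Y : Set H)) :
    Subgroup.centralizer (Y : Set H) ≤ Subgroup.normalizer (Q : Set H) := by
  obtain ⟨y, hy, hy1⟩ := exists_ne_one_mem_inf_centralizer hQp hYp hQY hY1
  have hU : Subgroup.zpowers y ≤ Subgroup.centralizer (Q : Set H) :=
    Subgroup.zpowers_le.2 hy.2
  have hU1 : Subgroup.zpowers y ≠ ⊥ := by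
    intro h
    exact hy1 (Subgroup.zpowers_eq_bot.1 h)
  have h1 := hL.2 _ hU hU1
  have h2 : Subgroup.centralizer (Y : Set H) ≤
      Subgroup.centralizer ((Subgroup.zpowers y : Subgroup H) : Set H) :=
    Subgroup.centralizer_le (Subgroup.zpowers_le.2 hy.1)
  exact (h2.trans (Subgroup.centralizer_le_normalizer _)).trans h1

/-- S2843 -/
theorem large_weakClosure_centralizer (Q : Subgroup H) (hQp : IsPGroup p ↥Q) (hQ1 : Q ≠ ⊥)
    (hL : IsLarge Q) (L : Subgroup H) (hQL : Q ≤ L) (Y : Subgroup H) (hYp : IsPGroup p ↥Y)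
    (hY1 : Y ≠ ⊥) (hLY : L ≤ Subgroup.normalizer (Y : Set H)) :
    weakClosure Q L = weakClosure Q (L ⊔ Subgroup.centralizer (Y : Set H)) ∧
    ⁅weakClosure Q L, Subgroup.centralizer (Y : Set H)⁆ ≤ pCoreOf p (weakClosure Q L) ∧
    Subgroup.centralizer (Y : Set H) ≤ Subgroup.normalizer ((weakClosure Q L : Subgroup H) : Set H) := by
  have hwc := isWeaklyClosedSubgroup_of_isLarge hQp hQ1 hL
  set C := Subgroup.centralizer (Y : Set H) with hC
  set M := L ⊔ C with hM
  have hLC : L ≤ Subgroup.normalizer (C : Set H) :=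
    hLY.trans (normalizer_le_normalizer_centralizer' Y)
  have hMY : M ≤ Subgroup.normalizer (Y : Set H) :=
    sup_le hLY (Subgroup.centralizer_le_normalizer _)
  -- `C` normalizes every conjugate of `Q` normalizing `Y`
  have hconj : ∀ g : H, Q.map (cj g) ≤ Subgroup.normalizer (Y : Set H) →
      C ≤ Subgroup.normalizer ((Q.map (cj g) : Subgroup H) : Set H) := by
    intro g hg
    exact large_centralizer_le_normalizer (hQp.map _) (isLarge_map_cj hL g) hYp hY1 hg
  have hCQ : C ≤ Subgroup.normalizer (Q : Set H) :=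
    large_centralizer_le_normalizer hQp hL hYp hY1 (hQL.trans hLY)
  -- conjugates of `Q` in `M` lie in `L`
  have claim1 : ∀ g : H, Q.map (cj g) ≤ M → Q.map (cj g) ≤ L := by
    intro g hg
    obtain ⟨m, hm, hgm⟩ := wcs_conj_in_subgroup hQp hwc (hQL.trans le_sup_left) g hg
    have hm' : m ∈ ((L ⊔ C : Subgroup H) : Set H) := hm
    rw [Subgroup.coe_mul_of_left_le_normalizer_right L C hLC] at hm'
    obtain ⟨l, hl, c, hc, rfl⟩ := Set.mem_mul.1 hm'
    rw [hgm, ← map_cj_mul, mem_normalizer_iff_map_cj.1 (hCQ hc)]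
    have := Subgroup.map_mono (f := cj l) hQL
    rwa [map_cj_eq_self_of_mem hl] at this
  have h1 : weakClosure Q L = weakClosure Q M := by
    unfold weakClosure
    apply le_antisymm
    · apply iSup_le
      rintro ⟨g, hg⟩
      exact le_iSup (fun g : {g : H // Q.map (MulAut.conj g).toMonoidHom ≤ M} =>
        Q.map (MulAut.conj (g : H)).toMonoidHom) ⟨g, hg.trans le_sup_left⟩
    · apply iSup_le
      rintro ⟨g, hg⟩
      exact le_iSup (fun g : {g : H // Q.map (MulAut.conj g).toMonoidHom ≤ L} =>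
        Q.map (MulAut.conj (g : H)).toMonoidHom) ⟨g, claim1 g hg⟩
  -- `C` normalizes `L°`
  have h3 : C ≤ Subgroup.normalizer ((weakClosure Q L : Subgroup H) : Set H) := by
    unfold weakClosure
    apply le_normalizer_iSup_of_forall
    rintro ⟨g, hg⟩
    exact hconj g (hg.trans hLY)
  refine ⟨h1, ?_, h3⟩
  -- the commutator
  set L₀ := weakClosure Q L with hL₀
  have hL₀L : L₀ ≤ L := by
    rw [hL₀]
    unfold weakClosure
    apply iSup_le
    rintro ⟨g, hg⟩
    exact hg
  have hgen : ∀ g : H, Q.map (cj g) ≤ L → Q.map (cj g) ≤ L₀ := by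
    intro g hg
    rw [hL₀]
    unfold weakClosure
    exact le_iSup (fun g : {g : H // Q.map (MulAut.conj g).toMonoidHom ≤ L} =>
      Q.map (MulAut.conj (g : H)).toMonoidHom) ⟨g, hg⟩
  set N₀ := pCoreOf p L₀ with hN₀
  set D := C ⊓ L₀ with hD
  have hL₀D : L₀ ≤ Subgroup.normalizer (D : Set H) :=
    le_normalizer_inf (hL₀L.trans hLC) Subgroup.le_normalizer
  have hDN₀ : pCoreOf p D ≤ N₀ :=
    le_pCoreOf p ((pCoreOf_le p D).trans inf_le_right) (hL₀D.trans (le_normalizer_pCoreOf' D))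
      (pCoreOf_isPGroup p D)
  have hL₀N₀ : L₀ ≤ Subgroup.normalizer (N₀ : Set H) := le_normalizer_pCoreOf p L₀
  have hCN₀ : C ≤ Subgroup.normalizer (N₀ : Set H) := h3.trans (le_normalizer_pCoreOf' L₀)
  have hstep : ∀ g : H, Q.map (cj g) ≤ L → ⁅Q.map (cj g), C⁆ ≤ N₀ := by
    intro g hg
    have hCg := hconj g (hg.trans hLY)
    have ha : ⁅Q.map (cj g), C⁆ ≤ Q.map (cj g) := commutator_le_left_of_le_normalizer hCg
    have hb : ⁅Q.map (cj g), C⁆ ≤ C := commutator_le_right_of_le_normalizer (hg.trans hLC)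
    have hc : Q.map (cj g) ⊓ D ≤ pCoreOf p D := by
      apply le_pCoreOf p inf_le_right _ ((hQp.map (cj g)).to_le inf_le_left)
      exact le_normalizer_inf (inf_le_left.trans hCg) Subgroup.le_normalizer
    exact ((le_inf ha (le_inf hb (ha.trans (hgen g hg)))).trans hc).trans hDN₀
  -- the subgroup of elements centralizing `C` modulo `N₀`
  let S : Subgroup H :=
    { carrier := {x | x ∈ Subgroup.normalizer (N₀ : Set H) ∧ ∀ c ∈ C, x * c * x⁻¹ * c⁻¹ ∈ N₀}
      one_mem' := ⟨Subgroup.one_mem _, fun c _ => by simp⟩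
      mul_mem' := by
        rintro x y ⟨hx, hx'⟩ ⟨hy, hy'⟩
        refine ⟨Subgroup.mul_mem _ hx hy, fun c hc => ?_⟩
        have : x * y * c * (x * y)⁻¹ * c⁻¹ =
            (x * (y * c * y⁻¹ * c⁻¹) * x⁻¹) * (x * c * x⁻¹ * c⁻¹) := by group
        rw [this]
        exact N₀.mul_mem ((Subgroup.mem_normalizer_iff.1 hx _).1 (hy' c hc)) (hx' c hc)
      inv_mem' := by
        rintro x ⟨hx, hx'⟩
        refine ⟨Subgroup.inv_mem _ hx, fun c hc => ?_⟩
        have : x⁻¹ * c * x⁻¹⁻¹ * c⁻¹ = x⁻¹ * (x * c * x⁻¹ * c⁻¹)⁻¹ * x⁻¹⁻¹ := by group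
        rw [this]
        exact (Subgroup.mem_normalizer_iff.1 (Subgroup.inv_mem _ hx) _).1 (N₀.inv_mem (hx' c hc)) }
  have hmemS : ∀ x, x ∈ S ↔ x ∈ Subgroup.normalizer (N₀ : Set H) ∧
      ∀ c ∈ C, x * c * x⁻¹ * c⁻¹ ∈ N₀ := fun x => Iff.rfl
  have hL₀S : L₀ ≤ S := by
    rw [hL₀]
    unfold weakClosure
    apply iSup_le
    rintro ⟨g, hg⟩ x hx
    rw [hmemS]
    refine ⟨hL₀N₀ (hgen g hg hx), fun c hc => ?_⟩
    have := Subgroup.commutator_mem_commutator hx hc
    rw [commutatorElement_def] at this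
    exact hstep g hg this
  rw [Subgroup.commutator_le]
  intro x hx c hc
  rw [commutatorElement_def]
  exact ((hmemS x).1 (hL₀S hx)).2 c hc

end

end Cfsg.Agent.Helper14
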