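import Cfsg.Agent.Helper14.BasicProp3
import Cfsg.Agent.Helper14.Large3

set_option autoImplicit false
set_option linter.unusedSectionVars false
set_option linter.style.haveILetI false

namespace Cfsg.Agent.Helper14

open Cfsg

section BasicPropD

variable {G : Type*} [Group G] [Finite G] {p : ℕ} [Fact p.Prime]

theorem weakClosure_mono (Q : Subgroup G) {K₁ K₂ : Subgroup G} (h : K₁ ≤ K₂) :
    weakClosure Q K₁ ≤ weakClosure Q K₂ := by
  unfold weakClosure
  refine iSup_le fun g => ?_
  exact le_iSup (fun g : {g : G // Q.map (MulAut.conj g).toMonoidHom ≤ K₂} =>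
    Q.map (MulAut.conj (g : G)).toMonoidHom) ⟨g.1, g.2.trans h⟩

theorem le_normalizer_weakClosure (Q L : Subgroup G) :
    L ≤ Subgroup.normalizer ((weakClosure Q L : Subgroup G) : Set G) := by
  apply le_normalizer_of_map_cj_le
  intro l hl
  unfold weakClosure
  rw [Subgroup.map_iSup]
  refine iSup_le fun g => ?_
  have e : (Q.map (MulAut.conj (g : G)).toMonoidHom).map (cj l) = Q.map (cj (l * (g : G))) :=
    map_cj_mul Q l g
  rw [e]
  have hle : Q.map (MulAut.conj (l * (g : G))).toMonoidHom ≤ L := by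
    rw [← e]
    have h1 : L.map (cj l) = L := mem_normalizer_iff_map_cj.1 (Subgroup.le_normalizer hl)
    have h2 : (Q.map (MulAut.conj (g : G)).toMonoidHom).map (cj l) ≤ L.map (cj l) :=
      Subgroup.map_mono g.2
    exact h2.trans h1.le
  exact le_iSup (fun g : {g : G // Q.map (MulAut.conj g).toMonoidHom ≤ L} =>
    Q.map (MulAut.conj (g : G)).toMonoidHom) ⟨l * (g : G), hle⟩

theorem weakClosure_eq_of_le_normalizer {Q : Subgroup G} (hQp : IsPGroup p ↥Q) (hQ1 : Q ≠ ⊥)
    (hLg : IsLarge Q) {K : Subgroup G} (hQK : Q ≤ K)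
    (hKQ : K ≤ Subgroup.normalizer (Q : Set G)) : weakClosure Q K = Q := by
  apply le_antisymm
  · unfold weakClosure
    refine iSup_le fun g => ?_
    have hR : IsPGroup p ↥(Q.map (cj (g : G)) ⊔ Q) :=
      IsPGroup.to_sup_of_normal_right' (hQp.map _) hQp (g.2.trans hKQ)
    have := large_weakly_closed hQ1 hLg (g : G) _ hR le_sup_right le_sup_left
    exact this.le
  · unfold weakClosure
    have h1 : Q.map (MulAut.conj (1 : G)).toMonoidHom ≤ K := by
      have : Q.map (cj (1 : G)) = Q := map_cj_one Q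
      rw [show Q.map (MulAut.conj (1 : G)).toMonoidHom = Q from this]
      exact hQK
    have h2 := le_iSup (fun g : {g : G // Q.map (MulAut.conj g).toMonoidHom ≤ K} =>
      Q.map (MulAut.conj (g : G)).toMonoidHom) ⟨1, h1⟩
    have h3 : Q.map (MulAut.conj (1 : G)).toMonoidHom = Q := map_cj_one Q
    rw [h3] at h2
    exact h2

/-- S2846 -/
theorem exists_frakM_member_large (Q : Subgroup G) (hQp : IsPGroup p ↥Q) (hQ1 : Q ≠ ⊥)
    (hLg : IsLarge Q) (S : Sylow p G) (hQS : Q ≤ (S : Subgroup G)) (L : Subgroup G)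
    (hSL : (S : Subgroup G) ≤ L) (hL : L ∈ charPSubgroups p G) :
    ∃ M Ls : Subgroup G, (S : Subgroup G) ≤ M ∧ IsInFrakM p M ∧ (S : Subgroup G) ≤ Ls ∧ Ls ≤ M ∧
      Ls ∈ charPSubgroups p G ∧
      L ⊔ Subgroup.centralizer (((largestPReducedOf p L) : Subgroup G) : Set G) =
        Ls ⊔ Subgroup.centralizer (((largestPReducedOf p L) : Subgroup G) : Set G) ∧
      weakClosure Q L = weakClosure Q Ls ∧ weakClosure Q Ls ≤ weakClosure Q M ∧
      largestPReducedOf p L = largestPReducedOf p Ls ∧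
      largestPReducedOf p Ls ≤ largestPReducedOf p M ∧
      (¬ L ≤ Subgroup.normalizer ((Q : Subgroup G) : Set G) →
        ¬ Ls ≤ Subgroup.normalizer ((Q : Subgroup G) : Set G) ∧
        ¬ M ≤ Subgroup.normalizer ((Q : Subgroup G) : Set G)) := by
  have hH : IsOfParabolicCharacteristic p G := (large_local_structure Q hQp hQ1 hLg).2.2
  obtain ⟨M, Ls, hSM, hM, hSLs, hLsM, hLs, hY, hYM, hsup⟩ := exists_frakM_member hH S L hSL hL
  have hYp : IsPGroup p ↥(largestPReducedOf p L) :=
    (pCoreOf_isPGroup p L).to_le (largestPReducedOf_le_pCoreOf (p := p) L)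
  have hY1 : largestPReducedOf p L ≠ ⊥ := largestPReducedOf_ne_bot hL
  have hLY : L ≤ Subgroup.normalizer ((largestPReducedOf p L : Subgroup G) : Set G) :=
    (largestPReducedOf_isPReducedIn (p := p) L).2.1
  have hLsY : Ls ≤ Subgroup.normalizer ((largestPReducedOf p L : Subgroup G) : Set G) := by
    rw [hY]; exact (largestPReducedOf_isPReducedIn (p := p) Ls).2.1
  have hw1 := (large_weakClosure_centralizer Q hQp hQ1 hLg L (hQS.trans hSL) _ hYp hY1 hLY).1
  have hw2 := (large_weakClosure_centralizer Q hQp hQ1 hLg Ls (hQS.trans hSLs) _ hYp hY1 hLsY).1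
  have hw : weakClosure Q L = weakClosure Q Ls := by
    rw [hw1, hw2, hsup]
  refine ⟨M, Ls, hSM, hM, hSLs, hLsM, hLs, hsup, hw, weakClosure_mono Q hLsM, hY, ?_, ?_⟩
  · rw [← hY]; exact hYM
  · intro hLQ
    have key : ¬ Ls ≤ Subgroup.normalizer ((Q : Subgroup G) : Set G) := by
      intro hle
      apply hLQ
      have h1 := weakClosure_eq_of_le_normalizer hQp hQ1 hLg (hQS.trans hSLs) hle
      have h2 := le_normalizer_weakClosure Q L
      rw [hw, h1] at h2
      exact h2
    exact ⟨key, fun hle => key (hLsM.trans hle)⟩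

end BasicPropD

end Cfsg.Agent.Helper14
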