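import Mathlib
import Cfsg.Agent.Helper23.CMDefs
import Cfsg.Agent.Helper24.Abelian

set_option autoImplicit false

namespace Cfsg.Agent.Helper14.CMTWOP

open Cfsg Cfsg.Agent.Helper24

universe u

variable {G : Type u} [Group G] [Finite G]

/-- The sum of the squares of the degrees of two different irreducible characters is at most
`|G|`. -/
theorem irrDeg_sq_add_sq_le (χ₀ χ₁ : IrrCharacter G) (hne : χ₀ ≠ χ₁) :
    irrDeg χ₀ ^ 2 + irrDeg χ₁ ^ 2 ≤ Nat.card G := by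
  classical
  have : Fintype G := Fintype.ofFinite G
  have : Fintype (IrrCharacter G) := Fintype.ofFinite _
  rw [← sum_irrDeg_sq (G := G), ← Finset.sum_pair (f := fun χ : IrrCharacter G => irrDeg χ ^ 2) hne]
  exact Finset.sum_le_sum_of_subset (Finset.subset_univ _)

/-- Pure arithmetic: `n = u c₁ = v c₂` with `u`, `v` coprime, `c₁ ∣ d₀`, `c₂ ∣ d₁`, `d₀, d₁ > 0`
gives `d₀² + d₁² > n`. -/
theorem arith (n p q : ℕ) (hn : 0 < n) (hp : p.Prime) (hq : q.Prime) (hpq : p ≠ q)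
    (d₀ d₁ : ℕ) (hd₀ : 0 < d₀) (hd₁ : 0 < d₁)
    (h0 : ordCompl[p] n ∣ d₀) (h1 : ordCompl[q] n ∣ d₁) : n < d₀ ^ 2 + d₁ ^ 2 := by
  have hn0 : n ≠ 0 := hn.ne'
  set u := ordProj[p] n with hu
  set v := ordProj[q] n with hv
  set c₁ := ordCompl[p] n with hc₁
  set c₂ := ordCompl[q] n with hc₂
  have e1 : u * c₁ = n := Nat.ordProj_mul_ordCompl_eq_self n p
  have e2 : v * c₂ = n := Nat.ordProj_mul_ordCompl_eq_self n q
  have hcop : Nat.Coprime u v := by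
    rw [hu, hv]
    exact Nat.Coprime.pow _ _ ((Nat.coprime_primes hp hq).2 hpq)
  have huv : u * v ∣ n :=
    Nat.Coprime.mul_dvd_of_dvd_of_dvd hcop (Nat.ordProj_dvd n p) (Nat.ordProj_dvd n q)
  have huvle : u * v ≤ n := Nat.le_of_dvd hn huv
  have hupos : 0 < u := Nat.ordProj_pos n p
  have hvpos : 0 < v := Nat.ordProj_pos n q
  have hc₁pos : 0 < c₁ := Nat.ordCompl_pos p hn0
  have hc₂pos : 0 < c₂ := Nat.ordCompl_pos q hn0
  have hle0 : c₁ ≤ d₀ := Nat.le_of_dvd hd₀ h0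
  have hle1 : c₂ ≤ d₁ := Nat.le_of_dvd hd₁ h1
  -- `n * n = (u v) (c₁ c₂) ≤ n (c₁ c₂)`, so `n ≤ c₁ c₂`.
  have hnn : n * n = (u * v) * (c₁ * c₂) := by
    calc n * n = (u * c₁) * (v * c₂) := by rw [e1, e2]
      _ = (u * v) * (c₁ * c₂) := by ring
  have hncc : n ≤ c₁ * c₂ := by
    have h2 : n * n ≤ n * (c₁ * c₂) := by
      rw [hnn]; exact Nat.mul_le_mul_right _ huvle
    exact Nat.le_of_mul_le_mul_left h2 hn
  have h3 : 2 * (c₁ * c₂) ≤ c₁ ^ 2 + c₂ ^ 2 := by nlinarith [sq_nonneg ((c₁ : ℤ) - c₂)]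
  have h4 : c₁ ^ 2 ≤ d₀ ^ 2 := Nat.pow_le_pow_left hle0 2
  have h5 : c₂ ^ 2 ≤ d₁ ^ 2 := Nat.pow_le_pow_left hle1 2
  omega

end Cfsg.Agent.Helper14.CMTWOP

namespace Cfsg.Agent.Helper23.CM

open Cfsg Cfsg.Agent.Helper24

universe u

variable {G : Type u} [Group G] [Finite G]

/-- FW3c -/
theorem false_of_two_primes (p q : ℕ) (hp : p.Prime) (hq : q.Prime) (hpq : p ≠ q)
    (χ₀ χ₁ : IrrCharacter G) (hne : χ₀ ≠ χ₁)
    (h0 : ordCompl[p] (Nat.card G) ∣ irrDeg χ₀)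
    (h1 : ordCompl[q] (Nat.card G) ∣ irrDeg χ₁) : False := by
  have hle := Cfsg.Agent.Helper14.CMTWOP.irrDeg_sq_add_sq_le χ₀ χ₁ hne
  have hlt := Cfsg.Agent.Helper14.CMTWOP.arith (Nat.card G) p q Nat.card_pos hp hq hpq
    (irrDeg χ₀) (irrDeg χ₁) (irrDeg_pos χ₀) (irrDeg_pos χ₁) h0 h1
  omega

end Cfsg.Agent.Helper23.CM
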