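import Cfsg.Agent.Helper14.Coset

set_option autoImplicit false

namespace Cfsg.Agent.Helper14

open Cfsg

variable {X : Type*} [Group X] (M₁ M₂ : Subgroup X)

/-- If `T` fixes `v` and `r` normalizes `T` then `T` fixes `r⁻¹ • v`. -/
theorem fixes_of_normalizer {α : Type*} [MulAction X α] (T : Subgroup X) (v : α)
    (hT : T ≤ MulAction.stabilizer X v) (r : X) (hr : r ∈ Subgroup.normalizer (T : Set X)) :
    T ≤ MulAction.stabilizer X (r⁻¹ • v) := by
  intro t ht
  rw [MulAction.mem_stabilizer_iff, ← mul_smul]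
  have h1 : r * t * r⁻¹ ∈ T := (Subgroup.mem_normalizer_iff.1 hr t).1 ht
  have h2 := hT h1
  rw [MulAction.mem_stabilizer_iff] at h2
  have : t * r⁻¹ = r⁻¹ * (r * t * r⁻¹) := by group
  rw [this, mul_smul, h2]

theorem amalgam_normalizer_transitive (h : IsAmalgamPair M₁ M₂) (δ μ : CosetVertex M₁ M₂)
    (hμ : (cosetGraph M₁ M₂).Adj δ μ) (T : Subgroup X) (hT : T ≤ edgeStabilizer δ μ)
    (hδ : ∀ ν ν' : CosetVertex M₁ M₂, (cosetGraph M₁ M₂).Adj δ ν → (cosetGraph M₁ M₂).Adj δ ν' →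
      ∃ g ∈ Subgroup.normalizer (T : Set X) ⊓ MulAction.stabilizer X δ, g • ν = ν')
    (hμ' : ∀ ν ν' : CosetVertex M₁ M₂, (cosetGraph M₁ M₂).Adj μ ν → (cosetGraph M₁ M₂).Adj μ ν' →
      ∃ g ∈ Subgroup.normalizer (T : Set X) ⊓ MulAction.stabilizer X μ, g • ν = ν') : T = ⊥ := by
  obtain ⟨hgen, _, _, hcore⟩ := h
  have hconn := cosetGraph_connected M₁ M₂ hgen
  -- every vertex is moved to δ or μ by an element of N(T)
  have step : ∀ a b : CosetVertex M₁ M₂, (cosetGraph M₁ M₂).Adj a b →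
      (∃ r ∈ Subgroup.normalizer (T : Set X), r • b = δ ∨ r • b = μ) →
      (∃ r ∈ Subgroup.normalizer (T : Set X), r • a = δ ∨ r • a = μ) := by
    intro a b hadj ih
    obtain ⟨r, hr, hrb⟩ := ih
    have hadj' : (cosetGraph M₁ M₂).Adj (r • b) (r • a) := adj_smul M₁ M₂ r hadj.symm
    rcases hrb with hrb | hrb
    · rw [hrb] at hadj'
      obtain ⟨g, hg, hgv⟩ := hδ _ _ hadj' hμ
      refine ⟨g * r, Subgroup.mul_mem _ hg.1 hr, Or.inr ?_⟩
      rw [mul_smul, hgv]
    · rw [hrb] at hadj'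
      obtain ⟨g, hg, hgv⟩ := hμ' _ _ hadj' hμ.symm
      refine ⟨g * r, Subgroup.mul_mem _ hg.1 hr, Or.inl ?_⟩
      rw [mul_smul, hgv]
  have walk : ∀ a b : CosetVertex M₁ M₂, (cosetGraph M₁ M₂).Walk a b →
      (∃ r ∈ Subgroup.normalizer (T : Set X), r • b = δ ∨ r • b = μ) →
      (∃ r ∈ Subgroup.normalizer (T : Set X), r • a = δ ∨ r • a = μ) := by
    intro a b w
    induction w with
    | nil => exact id
    | cons hadj _ ih => exact fun hb => step _ _ hadj (ih hb)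
  have key : ∀ v : CosetVertex M₁ M₂, ∃ r ∈ Subgroup.normalizer (T : Set X), r • v = δ ∨ r • v = μ := by
    intro v
    obtain ⟨w⟩ := hconn.preconnected v δ
    exact walk v δ w ⟨1, Subgroup.one_mem _, Or.inl (one_smul _ _)⟩
  have hfix : ∀ v : CosetVertex M₁ M₂, T ≤ MulAction.stabilizer X v := by
    intro v
    obtain ⟨r, hr, hrv⟩ := key v
    have hv : v = r⁻¹ • (r • v) := by rw [inv_smul_smul]
    rw [hv]
    rcases hrv with hrv | hrv
    · rw [hrv]
      exact fixes_of_normalizer T δ (hT.trans inf_le_left) r hr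
    · rw [hrv]
      exact fixes_of_normalizer T μ (hT.trans inf_le_right) r hr
  have hinj := toPermHom_injective M₁ M₂ hcore
  rw [eq_bot_iff]
  intro t ht
  rw [Subgroup.mem_bot]
  apply hinj
  rw [map_one]
  ext v
  have := hfix v ht
  rw [MulAction.mem_stabilizer_iff] at this
  simpa using this

end Cfsg.Agent.Helper14
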