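import Mathlib

/-!
# A reflective Todd–Coxeter certificate checker for parabolic chains in Coxeter groups (part A)

`Cert` packages a coset table for a parabolic pair `J' ⊆ J` of a Coxeter group together with
justifications (deduction order) and orbit vectors in the integral reflection representation.
`Cert.checkUB` is a kernel-evaluable boolean check whose truth implies that
`par J ⊆ ⋃_c t_c · par J'`.
-/

set_option autoImplicit false
set_option linter.unusedSectionVars false

namespace Cfsg.Agent.Helper14.Cox

/-- alternating word `i j i j …` of given length -/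
def alt (i j : ℕ) : ℕ → List ℕ
  | 0 => []
  | k + 1 => i :: alt j i k

/-- fast membership test -/
def memb (y : ℕ) : List ℕ → Bool
  | [] => false
  | x :: xs => Nat.beq x y || memb y xs

theorem memb_iff {y : ℕ} {l : List ℕ} : memb y l = true ↔ y ∈ l := by
  induction l with
  | nil => simp [memb]
  | cons x xs ih =>
    simp only [memb, Bool.or_eq_true, List.mem_cons, ih]
    constructor
    · rintro (h | h)
      · exact Or.inl (Nat.eq_of_beq_eq_true h).symm
      · exact Or.inr h
    · rintro (h | h)
      · left; rw [h]; exact Nat.beq_refl x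
      · exact Or.inr h

/-- fast test `o = some c` -/
def optIs (o : Option ℕ) (c : ℕ) : Bool :=
  match o with
  | some c' => Nat.beq c' c
  | none => false

theorem optIs_iff {o : Option ℕ} {c : ℕ} : optIs o c = true ↔ o = some c := by
  cases o with
  | none => simp [optIs]
  | some c' =>
    simp only [optIs, Option.some.injEq]
    exact ⟨Nat.eq_of_beq_eq_true, fun h => h ▸ Nat.beq_refl c'⟩

/-- balanced binary tree with least-significant-bit-first indexing (fast lookups in the kernel) -/
inductive BT (α : Type) where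
  | leaf : α → BT α
  | node : BT α → BT α → BT α

/-- lookup (junk values out of range) -/
def BT.get {α : Type} : BT α → ℕ → α
  | .leaf a, _ => a
  | .node l r, i => if i % 2 = 0 then l.get (i / 2) else r.get (i / 2)

/-- certificate for one step `J' ⊆ J` of a parabolic chain.
`E` holds, for each coset `c`, the list over generators `s` of edge codes
`tab + 1024 * (time + 1024 * (i + 8 * (j + 8 * (k0 + 16 * c0))))`;
`prt` holds `gen + 8 * parent`. -/
structure Cert where
  J : List ℕ
  J' : List ℕ
  N : ℕ
  reps : BT (List ℕ)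
  E : BT (List ℕ)
  mm : List (List ℕ)
  b : List ℤ
  vecs : BT (List ℤ)
  prt : BT ℕ

namespace Cert

variable (C : Cert)

def rep (c : ℕ) : List ℕ := C.reps.get c
def edge (c s : ℕ) : ℕ := (C.E.get c).getD s 0
def tab (c s : ℕ) : ℕ := C.edge c s % 1024
def time (c s : ℕ) : ℕ := C.edge c s / 1024 % 1024
def hi (c s : ℕ) : ℕ := C.edge c s / 1048576 % 8
def hj (c s : ℕ) : ℕ := C.edge c s / 8388608 % 8
def hk (c s : ℕ) : ℕ := C.edge c s / 67108864 % 16
def hc (c s : ℕ) : ℕ := C.edge c s / 1073741824
def m (i j : ℕ) : ℕ := (C.mm.getD i []).getD j 0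
def vec (c : ℕ) : List ℤ := C.vecs.get c
def pp (c : ℕ) : ℕ := C.prt.get c / 8
def ps (c : ℕ) : ℕ := C.prt.get c % 8

/-- trace a word (from its end) through edges of time `< τ` -/
def trace (τ c0 : ℕ) : List ℕ → Option ℕ
  | [] => some c0
  | y :: rest =>
    match trace τ c0 rest with
    | none => none
    | some c => if C.time c y < τ then some (C.tab c y) else none

/-- relator justification -/
def relOK (c s : ℕ) : Bool :=
  memb (C.hi c s) C.J && memb (C.hj c s) C.J && decide (C.hc c s < C.N) &&
    (match (alt (C.hi c s) (C.hj c s) (2 * C.m (C.hi c s) (C.hj c s))).drop (C.hk c s) with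
     | [] => false
     | x :: B => decide (x = s) && optIs (C.trace (C.time c s) (C.hc c s) B) c &&
        optIs (C.trace (C.time c s) (C.hc c s)
          ((alt (C.hi c s) (C.hj c s) (2 * C.m (C.hi c s) (C.hj c s))).take (C.hk c s)).reverse)
            (C.tab c s))

def edgeOK (c s : ℕ) : Bool :=
  decide (C.rep (C.tab c s) = s :: C.rep c) || decide (C.rep c = s :: C.rep (C.tab c s)) ||
    (decide (c = 0) && memb s C.J' && decide (C.tab c s = 0)) || C.relOK c s

def checkUB : Bool :=
  decide (0 < C.N) && decide (C.rep 0 = []) &&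
    (List.range C.N).all fun c => C.J.all fun s => decide (C.tab c s < C.N) && C.edgeOK c s

end Cert

section Group

variable {n : ℕ} {M : CoxeterMatrix (Fin n)} {W : Type*} [Group W] (cs : CoxeterSystem M W)

/-- `ℕ`-indexed simple reflections (junk value `1` out of range) -/
def sp (k : ℕ) : W := if h : k < n then cs.simple ⟨k, h⟩ else 1

theorem sp_of_lt {k : ℕ} (h : k < n) : sp cs k = cs.simple ⟨k, h⟩ := by
  unfold sp; rw [dif_pos h]

theorem sp_mul_self (k : ℕ) : sp cs k * sp cs k = 1 := by
  unfold sp
  split_ifs with h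
  · exact cs.simple_mul_simple_self _
  · exact one_mul _

theorem sp_inv (k : ℕ) : (sp cs k)⁻¹ = sp cs k :=
  (eq_inv_of_mul_eq_one_left (sp_mul_self cs k)).symm

/-- product of a word -/
def wp (l : List ℕ) : W := (l.map (sp cs)).prod

@[simp] theorem wp_nil : wp cs [] = 1 := rfl

@[simp] theorem wp_cons (s : ℕ) (l : List ℕ) : wp cs (s :: l) = sp cs s * wp cs l := by
  unfold wp; rw [List.map_cons, List.prod_cons]

theorem wp_append (l l' : List ℕ) : wp cs (l ++ l') = wp cs l * wp cs l' := by
  unfold wp; rw [List.map_append, List.prod_append]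

theorem wp_reverse (l : List ℕ) : wp cs l.reverse = (wp cs l)⁻¹ := by
  induction l with
  | nil => simp
  | cons s l ih =>
    rw [List.reverse_cons, wp_append, ih, wp_cons, wp_cons, wp_nil, mul_one, mul_inv_rev, sp_inv]

theorem alt_two (i j k : ℕ) : alt i j (2 * (k + 1)) = i :: j :: alt i j (2 * k) := by
  have : 2 * (k + 1) = 2 * k + 1 + 1 := by ring
  rw [this]
  rfl

theorem mem_alt {i j y : ℕ} : ∀ {L : ℕ}, y ∈ alt i j L → y = i ∨ y = j := by
  intro L
  induction L generalizing i j with
  | zero => intro h; simp [alt] at h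
  | succ L ih =>
    intro h
    simp only [alt, List.mem_cons] at h
    rcases h with h | h
    · exact Or.inl h
    · exact (ih h).symm

theorem wp_alt (i j k : ℕ) : wp cs (alt i j (2 * k)) = (sp cs i * sp cs j) ^ k := by
  induction k with
  | zero => rw [Nat.mul_zero, pow_zero]; rfl
  | succ k ih => rw [alt_two, wp_cons, wp_cons, ih, pow_succ', mul_assoc]

theorem wp_alt_rel {i j : ℕ} (hi : i < n) (hj : j < n) :
    wp cs (alt i j (2 * M ⟨i, hi⟩ ⟨j, hj⟩)) = 1 := by
  rw [wp_alt, sp_of_lt cs hi, sp_of_lt cs hj]
  exact cs.simple_mul_simple_pow _ _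

/-- parabolic subgroup generated by the simple reflections with index in `J` -/
def par (J : List ℕ) : Subgroup W := Subgroup.closure {w | ∃ s ∈ J, w = sp cs s}

theorem sp_mem_par {J : List ℕ} {s : ℕ} (hs : s ∈ J) : sp cs s ∈ par cs J :=
  Subgroup.subset_closure ⟨s, hs, rfl⟩

theorem par_mono {J J' : List ℕ} (h : ∀ s ∈ J', s ∈ J) : par cs J' ≤ par cs J := by
  apply Subgroup.closure_mono
  rintro w ⟨s, hs, rfl⟩
  exact ⟨s, h s hs, rfl⟩

theorem par_nil : par cs [] = ⊥ := by
  unfold par
  rw [Subgroup.closure_eq_bot_iff]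
  rintro w ⟨s, hs, -⟩
  simp at hs

theorem par_range : par cs (List.range n) = ⊤ := by
  rw [eq_top_iff, ← cs.subgroup_closure_range_simple]
  apply Subgroup.closure_mono
  rintro w ⟨i, rfl⟩
  exact ⟨i.1, List.mem_range.mpr i.2, (sp_of_lt cs i.2).symm⟩

end Group

end Cfsg.Agent.Helper14.Cox
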