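import Cfsg.Agent.Helper14.CoxA

/-!
# Certificate checker, part B: soundness of `checkUB` (coset cover and the upper bound)
-/

set_option autoImplicit false
set_option linter.unusedSectionVars false

namespace Cfsg.Agent.Helper14.Cox

variable {n : ℕ} {M : CoxeterMatrix (Fin n)} {W : Type*} [Group W] (cs : CoxeterSystem M W)
variable (C : Cert)

/-- the Coxeter matrix agrees with the certificate's table, on all of `Fin n` -/
def MatOK (M : CoxeterMatrix (Fin n)) (C : Cert) : Prop :=
  (∀ i j : Fin n, M i j = C.m i j) ∧ (∀ s ∈ C.J, s < n)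

/-- coset representative -/
def tt (c : ℕ) : W := wp cs (C.rep c)

/-- edge correctness -/
def Claim (c s : ℕ) : Prop :=
  (tt cs C (C.tab c s))⁻¹ * sp cs s * tt cs C c ∈ par cs C.J'

section
variable (hM : MatOK M C) (hchk : C.checkUB = true)
include hM hchk

theorem N_pos : 0 < C.N := by
  unfold Cert.checkUB at hchk
  simp only [Bool.and_eq_true, decide_eq_true_eq] at hchk
  exact hchk.1.1

theorem rep_zero : C.rep 0 = [] := by
  unfold Cert.checkUB at hchk
  simp only [Bool.and_eq_true, decide_eq_true_eq] at hchk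
  exact hchk.1.2

theorem tab_lt {c s : ℕ} (hc : c < C.N) (hs : s ∈ C.J) : C.tab c s < C.N := by
  unfold Cert.checkUB at hchk
  simp only [Bool.and_eq_true, decide_eq_true_eq, List.all_eq_true, List.mem_range] at hchk
  exact (hchk.2 c hc s hs).1

theorem edge_ok {c s : ℕ} (hc : c < C.N) (hs : s ∈ C.J) : C.edgeOK c s = true := by
  unfold Cert.checkUB at hchk
  simp only [Bool.and_eq_true, decide_eq_true_eq, List.all_eq_true, List.mem_range] at hchk
  exact (hchk.2 c hc s hs).2

theorem trace_sound (τ : ℕ)
    (ih : ∀ c < C.N, ∀ s ∈ C.J, C.time c s < τ → Claim cs C c s)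
    (c0 : ℕ) (hc0 : c0 < C.N) :
    ∀ (word : List ℕ) (c1 : ℕ), (∀ y ∈ word, y ∈ C.J) → C.trace τ c0 word = some c1 →
      c1 < C.N ∧ (tt cs C c1)⁻¹ * wp cs word * tt cs C c0 ∈ par cs C.J' := by
  intro word
  induction word with
  | nil =>
    intro c1 _ h
    simp only [Cert.trace, Option.some.injEq] at h
    subst h
    refine ⟨hc0, ?_⟩
    rw [wp_nil, mul_one, inv_mul_cancel]
    exact Subgroup.one_mem _
  | cons y rest ih2 =>
    intro c1 hJ h
    simp only [Cert.trace] at h
    cases hr : C.trace τ c0 rest with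
    | none => rw [hr] at h; simp at h
    | some c2 =>
      rw [hr] at h
      simp only at h
      split_ifs at h with ht
      simp only [Option.some.injEq] at h
      subst h
      obtain ⟨hc2, hmem⟩ := ih2 c2 (fun y' hy' => hJ y' (List.mem_cons_of_mem _ hy')) hr
      have hy : y ∈ C.J := hJ y (List.mem_cons_self ..)
      refine ⟨tab_lt C hM hchk hc2 hy, ?_⟩
      have hcl := ih c2 hc2 y hy ht
      unfold Claim at hcl
      have := Subgroup.mul_mem _ hcl hmem
      convert this using 1
      rw [wp_cons]
      group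

theorem claim_all : ∀ τ : ℕ, ∀ c < C.N, ∀ s ∈ C.J, C.time c s < τ → Claim cs C c s := by
  intro τ
  induction τ with
  | zero => intro c _ s _ h; exact absurd h (Nat.not_lt_zero _)
  | succ τ ih =>
    intro c hc s hs ht
    have he := edge_ok C hM hchk hc hs
    unfold Cert.edgeOK at he
    simp only [Bool.or_eq_true, Bool.and_eq_true, decide_eq_true_eq, memb_iff] at he
    rcases he with ((h1 | h2) | h3) | h4
    · -- cons
      unfold Claim tt
      rw [h1, wp_cons]
      have : (sp cs s * wp cs (C.rep c))⁻¹ * sp cs s * wp cs (C.rep c) = 1 := by group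
      rw [this]; exact Subgroup.one_mem _
    · -- uncons
      unfold Claim tt
      rw [h2, wp_cons]
      have : (wp cs (C.rep (C.tab c s)))⁻¹ * sp cs s * (sp cs s * wp cs (C.rep (C.tab c s))) =
          (wp cs (C.rep (C.tab c s)))⁻¹ * (sp cs s * sp cs s) * wp cs (C.rep (C.tab c s)) := by
        group
      rw [this, sp_mul_self, mul_one, inv_mul_cancel]
      exact Subgroup.one_mem _
    · -- generator of the subgroup
      obtain ⟨⟨hc0, hs'⟩, ht0⟩ := h3
      unfold Claim tt
      rw [ht0, hc0, rep_zero C hM hchk, wp_nil, inv_one, one_mul, mul_one]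
      exact sp_mem_par cs hs'
    · -- relator
      unfold Cert.relOK at h4
      simp only [Bool.and_eq_true, decide_eq_true_eq, memb_iff] at h4
      obtain ⟨⟨⟨hi, hj⟩, hc0⟩, hmatch⟩ := h4
      set R := alt (C.hi c s) (C.hj c s) (2 * C.m (C.hi c s) (C.hj c s)) with hR
      have hRJ : ∀ y ∈ R, y ∈ C.J := by
        intro y hy
        rcases mem_alt hy with rfl | rfl
        · exact hi
        · exact hj
      cases hd : R.drop (C.hk c s) with
      | nil => rw [hd] at hmatch; simp at hmatch
      | cons x B =>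
        rw [hd] at hmatch
        simp only [Bool.and_eq_true, decide_eq_true_eq, optIs_iff] at hmatch
        obtain ⟨⟨hx, hB⟩, hA⟩ := hmatch
        subst hx
        have hle : C.time c x ≤ τ := Nat.lt_succ_iff.mp ht
        have ih' : ∀ c' < C.N, ∀ s' ∈ C.J, C.time c' s' < C.time c x → Claim cs C c' s' :=
          fun c' hc' s' hs' h' => ih c' hc' s' hs' (lt_of_lt_of_le h' hle)
        have hBJ : ∀ y ∈ B, y ∈ C.J := by
          intro y hy
          apply hRJ
          apply List.mem_of_mem_drop (i := C.hk c x)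
          rw [hd]
          exact List.mem_cons_of_mem _ hy
        have hAJ : ∀ y ∈ (R.take (C.hk c x)).reverse, y ∈ C.J := by
          intro y hy
          exact hRJ y (List.mem_of_mem_take (List.mem_reverse.mp hy))
        obtain ⟨-, hu⟩ := trace_sound cs C hM hchk (C.time c x) ih' (C.hc c x) hc0 B c hBJ hB
        obtain ⟨-, hv⟩ := trace_sound cs C hM hchk (C.time c x) ih' (C.hc c x) hc0 _ _ hAJ hA
        -- the relator
        have hi' : C.hi c x < n := hM.2 _ hi
        have hj' : C.hj c x < n := hM.2 _ hj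
        have hrel : wp cs R = 1 := by
          rw [hR, ← hM.1 ⟨C.hi c x, hi'⟩ ⟨C.hj c x, hj'⟩]
          exact wp_alt_rel cs hi' hj'
        have hsplit : R = R.take (C.hk c x) ++ x :: B := by
          rw [← hd, List.take_append_drop]
        have hrel2 : wp cs (R.take (C.hk c x)) * (sp cs x * wp cs B) = 1 := by
          rw [← wp_cons, ← wp_append, ← hsplit, hrel]
        have hrev : wp cs (R.take (C.hk c x)).reverse = sp cs x * wp cs B := by
          rw [wp_reverse]
          exact inv_eq_of_mul_eq_one_right hrel2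
        rw [hrev] at hv
        unfold Claim
        have := Subgroup.mul_mem _ hv (Subgroup.inv_mem _ hu)
        convert this using 1
        group

end

theorem cover (hM : MatOK M C) (hchk : C.checkUB = true) :
    ∀ w ∈ par cs C.J, ∃ c < C.N, (tt cs C c)⁻¹ * w ∈ par cs C.J' := by
  intro w hw
  unfold par at hw
  induction hw using Subgroup.closure_induction_left with
  | one =>
    refine ⟨0, N_pos C hM hchk, ?_⟩
    unfold tt
    rw [rep_zero C hM hchk, wp_nil, inv_one, one_mul]
    exact Subgroup.one_mem _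
  | mul_left x hx y _ ih =>
    obtain ⟨s, hs, rfl⟩ := hx
    obtain ⟨c, hc, hmem⟩ := ih
    refine ⟨C.tab c s, tab_lt C hM hchk hc hs, ?_⟩
    have hcl := claim_all cs C hM hchk (C.time c s + 1) c hc s hs (Nat.lt_succ_self _)
    unfold Claim at hcl
    have := Subgroup.mul_mem _ hcl hmem
    convert this using 1
    group
  | inv_mul_cancel x hx y _ ih =>
    obtain ⟨s, hs, rfl⟩ := hx
    obtain ⟨c, hc, hmem⟩ := ih
    refine ⟨C.tab c s, tab_lt C hM hchk hc hs, ?_⟩
    have hcl := claim_all cs C hM hchk (C.time c s + 1) c hc s hs (Nat.lt_succ_self _)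
    unfold Claim at hcl
    have := Subgroup.mul_mem _ hcl hmem
    rw [sp_inv]
    convert this using 1
    group

theorem finite_and_card_le (hM : MatOK M C) (hchk : C.checkUB = true)
    [Finite (par cs C.J')] :
    Finite (par cs C.J) ∧ Nat.card (par cs C.J) ≤ C.N * Nat.card (par cs C.J') := by
  let f : Fin C.N × par cs C.J' → W := fun x => tt cs C x.1 * x.2
  let D := {x : Fin C.N × par cs C.J' // f x ∈ par cs C.J}
  let g : D → par cs C.J := fun x => ⟨f x.1, x.2⟩
  have hg : Function.Surjective g := by
    rintro ⟨w, hw⟩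
    obtain ⟨c, hc, hmem⟩ := cover cs C hM hchk w hw
    have hfx : f (⟨c, hc⟩, ⟨_, hmem⟩) = w := by
      show tt cs C c * ((tt cs C c)⁻¹ * w) = w
      group
    exact ⟨⟨(⟨c, hc⟩, ⟨_, hmem⟩), by rw [hfx]; exact hw⟩, Subtype.ext hfx⟩
  have hfin : Finite (par cs C.J) := Finite.of_surjective g hg
  refine ⟨hfin, ?_⟩
  calc Nat.card (par cs C.J) ≤ Nat.card D := Nat.card_le_card_of_surjective g hg
    _ ≤ Nat.card (Fin C.N × par cs C.J') :=
        Nat.card_le_card_of_injective Subtype.val Subtype.val_injective
    _ = C.N * Nat.card (par cs C.J') := by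
        rw [Nat.card_prod, Nat.card_eq_fintype_card, Fintype.card_fin]

end Cfsg.Agent.Helper14.Cox
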