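import Cfsg.Agent.Helper14.CoxD

set_option autoImplicit false
set_option maxRecDepth 1000000
set_option maxHeartbeats 0

namespace Cfsg.Agent.Helper14.Cox

def certB2_0 : Cert where
  J := [0, 1]
  J' := [0]
  N := 4
  reps := (.node (.node (.leaf []) (.leaf [0, 1])) (.node (.leaf [1]) (.leaf [1, 0, 1])))
  E := (.node (.node (.leaf [0, 1]) (.leaf [1, 3])) (.node (.leaf [2, 0]) (.leaf [276825091, 2])))
  mm := [[1, 4], [4, 1]]
  b := [0, 1]
  vecs := (.node (.node (.leaf [0, 1]) (.leaf [(-2), 1])) (.node (.leaf [2, (-1)]) (.leaf [0, (-1)])))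
  prt := (.node (.node (.leaf 0) (.leaf 8)) (.node (.leaf 1) (.leaf 17)))

theorem certB2_0_UB : certB2_0.checkUB = true := by decide +kernel

theorem certB2_0_LB : certB2_0.checkLB 2 = true := by decide +kernel

theorem certB2_0_mat : MatOK (CoxeterMatrix.B 2) certB2_0 :=
  matOK_of_check _ (by decide +kernel)

end Cfsg.Agent.Helper14.Cox
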