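import Cfsg.Agent.Helper14.CoxD

set_option autoImplicit false
set_option maxRecDepth 1000000
set_option maxHeartbeats 0

namespace Cfsg.Agent.Helper14.Cox

def certB2_1 : Cert where
  J := [0]
  J' := []
  N := 2
  reps := (.node (.leaf []) (.leaf [0]))
  E := (.node (.leaf [1, 0]) (.leaf [0, 0]))
  mm := [[1, 4], [4, 1]]
  b := [1, 0]
  vecs := (.node (.leaf [1, 0]) (.leaf [(-1), 1]))
  prt := (.node (.leaf 0) (.leaf 0))

theorem certB2_1_UB : certB2_1.checkUB = true := by decide +kernel

theorem certB2_1_LB : certB2_1.checkLB 2 = true := by decide +kernel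

theorem certB2_1_mat : MatOK (CoxeterMatrix.B 2) certB2_1 :=
  matOK_of_check _ (by decide +kernel)

end Cfsg.Agent.Helper14.Cox
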