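import Cfsg.Agent.Helper14.CoxB2Main

set_option autoImplicit false
set_option maxRecDepth 1000000

namespace Cfsg.Agent.Helper14.Cox

theorem rho_injB2 : Function.Injective (rho csB2 relB2) := by
  rw [injective_iff_map_eq_one]
  intro w hw
  have hfix : ∀ v, actv csB2 relB2 w v = v := fun v => by
    unfold actv; rw [hw, Matrix.one_mulVec]
  have h0 : w ∈ par csB2 certB2_0.J := by rw [topB2]; trivial
  have h1 : w ∈ par csB2 certB2_0.J' :=
    fix_mem csB2 relB2 certB2_0 certB2_0_mat certB2_0_UB certB2_0_LB h0 (hfix _)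
  have h2 : w ∈ par csB2 certB2_1.J' :=
    fix_mem csB2 relB2 certB2_1 certB2_1_mat certB2_1_UB certB2_1_LB h1 (hfix _)
  have hb : par csB2 certB2_1.J' = ⊥ := par_nil _
  rw [hb] at h2
  exact Subgroup.mem_bot.mp h2

/-- matrix of the Coxeter element -/
def coxMatB2 : Matrix (Fin 2) (Fin 2) ℤ := ((List.finRange 2).map (sref (CoxeterMatrix.B 2))).prod

theorem coxMatB2_pow : coxMatB2 ^ 4 = 1 := by decide +kernel

theorem coxMatB2_ne_2 : coxMatB2 ^ 2 ≠ 1 := by decide +kernel

theorem rho_coxB2 : rho csB2 relB2 (((List.finRange 2).map ((CoxeterMatrix.B 2)).simple).prod) = coxMatB2 := by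
  rw [map_list_prod, List.map_map]
  unfold coxMatB2
  congr 1
  apply List.map_congr_left
  intro i _
  exact rho_simple csB2 relB2 i

theorem orderOf_coxB2 : orderOf (((List.finRange 2).map ((CoxeterMatrix.B 2)).simple).prod) = 4 := by
  rw [← orderOf_injective (rho csB2 relB2) rho_injB2, rho_coxB2]
  apply orderOf_eq_of_pow_and_pow_div_prime (by norm_num) coxMatB2_pow
  intro q hq hdvd
  have hcases : q = 2 := by
    have hle : q ≤ 4 := Nat.le_of_dvd (by norm_num) hdvd
    interval_cases q <;> first | omega | (exfalso; revert hq; decide) | (exfalso; revert hdvd; decide)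
  subst hcases
  exact coxMatB2_ne_2

end Cfsg.Agent.Helper14.Cox
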