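import Cfsg.Agent.Helper14.CoxB20
import Cfsg.Agent.Helper14.CoxB21

set_option autoImplicit false
set_option maxRecDepth 1000000

namespace Cfsg.Agent.Helper14.Cox

theorem relB2 : RelOK (CoxeterMatrix.B 2) := by
  unfold RelOK
  decide +kernel

/-- the canonical Coxeter system -/
noncomputable abbrev csB2 := ((CoxeterMatrix.B 2)).toCoxeterSystem

theorem chainB2 :
    (Finite (par csB2 certB2_0.J) ∧ Nat.card (par csB2 certB2_0.J) = 8) ∧
    (Finite (par csB2 certB2_1.J) ∧ Nat.card (par csB2 certB2_1.J) = 2) := by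
  have e : par csB2 certB2_1.J' = ⊥ := par_nil _
  have f2 : Finite (par csB2 certB2_1.J') := by rw [e]; infer_instance
  have c2 : Nat.card (par csB2 certB2_1.J') = 1 := by rw [e]; exact Subgroup.card_bot
  obtain ⟨g1, d1⟩ := @step _ _ _ _ csB2 relB2 certB2_1 certB2_1_mat certB2_1_UB certB2_1_LB f2
  have e1 : Nat.card (par csB2 certB2_1.J) = 2 := d1.trans (by rw [c2]; rfl)
  have f1 : Finite (par csB2 certB2_0.J') := g1
  have c1 : Nat.card (par csB2 certB2_0.J') = 2 := e1
  obtain ⟨g0, d0⟩ := @step _ _ _ _ csB2 relB2 certB2_0 certB2_0_mat certB2_0_UB certB2_0_LB f1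
  have e0 : Nat.card (par csB2 certB2_0.J) = 8 := d0.trans (by rw [c1]; rfl)
  exact ⟨⟨g0, e0⟩, ⟨g1, e1⟩⟩

theorem topB2 : par csB2 certB2_0.J = ⊤ := par_range _

theorem finiteB2 : Finite ((CoxeterMatrix.B 2)).Group := by
  have h := chainB2.1.1
  rw [topB2] at h
  exact Finite.of_equiv _ Subgroup.topEquiv.toEquiv

theorem cardB2 : Nat.card ((CoxeterMatrix.B 2)).Group = 8 := by
  have h := chainB2.1.2
  rw [topB2, Subgroup.card_top] at h
  exact h

end Cfsg.Agent.Helper14.Cox
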