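import Cfsg.Agent.Helper14.CoxB

/-!
# Certificate checker, part C: the integral reflection representation and the lower bound
-/

set_option autoImplicit false
set_option linter.unusedSectionVars false

namespace Cfsg.Agent.Helper14.Cox

/-- off-diagonal Cartan entry from a Coxeter number -/
def cartOf (m : ℕ) (lt : Bool) : ℤ :=
  match m with
  | 2 => 0
  | 3 => -1
  | 4 => if lt then -1 else -2
  | 6 => if lt then -1 else -3
  | _ => 0

/-- fast equality test on integer lists -/
def leq : List ℤ → List ℤ → Bool
  | [], [] => true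
  | x :: xs, y :: ys => decide (x = y) && leq xs ys
  | _, _ => false

theorem leq_iff : ∀ {a b : List ℤ}, leq a b = true ↔ a = b
  | [], [] => by simp [leq]
  | [], _ :: _ => by simp [leq]
  | _ :: _, [] => by simp [leq]
  | x :: xs, y :: ys => by
    simp only [leq, Bool.and_eq_true, decide_eq_true_eq, List.cons.injEq, leq_iff]

/-- fast `Nodup` test -/
def nodupb : List (List ℤ) → Bool
  | [] => true
  | x :: xs => !(xs.any fun y => leq x y) && nodupb xs

theorem nodup_of_nodupb : ∀ {l : List (List ℤ)}, nodupb l = true → l.Nodup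
  | [], _ => List.nodup_nil
  | x :: xs, h => by
    simp only [nodupb, Bool.and_eq_true, Bool.not_eq_true', List.any_eq_false, leq_iff] at h
    rw [List.nodup_cons]
    exact ⟨fun hx => h.1 x hx rfl, nodup_of_nodupb h.2⟩

namespace Cert
variable (C : Cert)

def cartN (i k : ℕ) : ℤ := if i = k then 2 else cartOf (C.m i k) (decide (i < k))

/-- list version of the action of the `s`-th simple reflection on `ℤ^nn` -/
def lact (nn s : ℕ) (l : List ℤ) : List ℤ :=
  (List.range nn).map fun k => l.getD k 0 - l.getD s 0 * C.cartN s k

def checkLB (nn : ℕ) : Bool :=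
  decide (C.rep 0 = []) && leq (C.vec 0) C.b &&
  (C.J'.all fun s => memb s C.J && leq (C.lact nn s C.b) C.b) &&
  ((List.range C.N).all fun c => decide ((C.vec c).length = nn) &&
    (decide (c = 0) ||
      (decide (C.pp c < c) && memb (C.ps c) C.J &&
        decide (C.rep c = C.ps c :: C.rep (C.pp c)) &&
        leq (C.vec c) (C.lact nn (C.ps c) (C.vec (C.pp c)))))) &&
  nodupb ((List.range C.N).map C.vec)

end Cert

section Rep

variable {n : ℕ} (M : CoxeterMatrix (Fin n))

/-- Cartan-type integer matrix attached to a Coxeter matrix -/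
def cart (i k : Fin n) : ℤ := if i = k then 2 else cartOf (M i k) (decide (i < k))

/-- matrix of the `i`-th simple reflection on `ℤ^n` (weight coordinates) -/
def sref (i : Fin n) : Matrix (Fin n) (Fin n) ℤ :=
  Matrix.of fun k l => (if k = l then 1 else 0) - (if l = i then cart M i k else 0)

theorem sref_mulVec (i : Fin n) (v : Fin n → ℤ) :
    (sref M i).mulVec v = fun k => v k - v i * cart M i k := by
  funext k
  simp only [sref, Matrix.mulVec, dotProduct, Matrix.of_apply, sub_mul, Finset.sum_sub_distrib,
    ite_mul, one_mul, zero_mul, Finset.sum_ite_eq, Finset.mem_univ, if_true, Finset.sum_ite_eq']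
  ring

variable {M} {W : Type*} [Group W] (cs : CoxeterSystem M W)

/-- the relations hold for the reflection matrices -/
def RelOK (M : CoxeterMatrix (Fin n)) : Prop := ∀ i j : Fin n, (sref M i * sref M j) ^ M i j = 1

variable (hrel : RelOK M)

/-- the integral reflection representation -/
noncomputable def rho : W →* Matrix (Fin n) (Fin n) ℤ := cs.lift ⟨sref M, hrel⟩

theorem rho_simple (i : Fin n) : rho cs hrel (cs.simple i) = sref M i :=
  cs.lift_apply_simple hrel i

/-- action on vectors -/
noncomputable def actv (w : W) (v : Fin n → ℤ) : Fin n → ℤ := (rho cs hrel w).mulVec v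

theorem actv_one (v : Fin n → ℤ) : actv cs hrel 1 v = v := by
  unfold actv; rw [map_one, Matrix.one_mulVec]

theorem actv_mul (w w' : W) (v : Fin n → ℤ) :
    actv cs hrel (w * w') v = actv cs hrel w (actv cs hrel w' v) := by
  unfold actv; rw [map_mul, Matrix.mulVec_mulVec]

theorem actv_inv_of_fix {w : W} {v : Fin n → ℤ} (h : actv cs hrel w v = v) :
    actv cs hrel w⁻¹ v = v := by
  calc actv cs hrel w⁻¹ v = actv cs hrel w⁻¹ (actv cs hrel w v) := by rw [h]
    _ = v := by rw [← actv_mul, inv_mul_cancel, actv_one]

/-- vector attached to a list -/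
def iota (l : List ℤ) : Fin n → ℤ := fun k => l.getD k 0

theorem iota_injective {l l' : List ℤ} (hl : l.length = n) (hl' : l'.length = n)
    (h : iota (n := n) l = iota l') : l = l' := by
  apply List.ext_getElem (hl.trans hl'.symm)
  intro k h1 h2
  have := congrFun h ⟨k, hl ▸ h1⟩
  simp only [iota] at this
  rwa [List.getD_eq_getElem _ _ h1, List.getD_eq_getElem _ _ h2] at this

variable (C : Cert)

theorem cartN_eq (hM : MatOK M C) (i k : Fin n) : C.cartN i k = cart M i k := by
  unfold Cert.cartN cart
  rw [hM.1 i k]
  by_cases h : i = k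
  · rw [if_pos h, if_pos (congrArg Fin.val h)]
  · rw [if_neg h, if_neg (fun e => h (Fin.ext e))]
    rfl

theorem actv_sp (hM : MatOK M C) {s : ℕ} (hs : s < n) (l : List ℤ) :
    actv cs hrel (sp cs s) (iota l) = iota (C.lact n s l) := by
  unfold actv
  rw [sp_of_lt cs hs, rho_simple, sref_mulVec]
  funext k
  simp only [iota, Cert.lact]
  have hlen : (k : ℕ) < ((List.range n).map
      fun k => l.getD k 0 - l.getD s 0 * C.cartN s k).length := by
    rw [List.length_map, List.length_range]; exact k.2
  rw [List.getD_eq_getElem _ _ hlen]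
  simp only [List.getElem_map, List.getElem_range]
  rw [← cartN_eq C hM ⟨s, hs⟩ k]

end Rep

end Cfsg.Agent.Helper14.Cox
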