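import Cfsg.Agent.Helper14.CoxC

set_option autoImplicit false

namespace Cfsg.Agent.Helper14.Cox

section

variable {n : ℕ} (M : CoxeterMatrix (Fin n))

theorem cart_self (i : Fin n) : cart M i i = 2 := by
  unfold cart; rw [if_pos rfl]

theorem offdiag_zero_of_comm (A : Matrix (Fin n) (Fin n) ℤ) (i l : Fin n) (hil : l ≠ i)
    (h : A * sref M i = sref M i * A) : A i l = 0 := by
  have h1 : (A * sref M i) i l = A i l := by
    simp [Matrix.mul_apply, sref, hil]
  have h2 : (sref M i * A) i l = - A i l := by
    simp only [Matrix.mul_apply, sref, Matrix.of_apply, sub_mul, Finset.sum_sub_distrib, ite_mul,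
      one_mul, zero_mul, Finset.sum_ite_eq, Finset.sum_ite_eq', Finset.mem_univ, if_true,
      cart_self]
    ring
  rw [h, h2] at h1
  omega

theorem diag_eq_of_comm (A : Matrix (Fin n) (Fin n) ℤ) (hoff : ∀ i l, l ≠ i → A i l = 0)
    (i k : Fin n) (hc : cart M i k ≠ 0) (h : A * sref M i = sref M i * A) : A k k = A i i := by
  by_cases hki : k = i
  · rw [hki]
  have h1 : (A * sref M i) k i = - (A k k * cart M i k) := by
    rw [Matrix.mul_apply, Finset.sum_eq_single k]
    · simp [sref, hki]
    · intro b _ hb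
      rw [hoff k b hb, zero_mul]
    · intro hk; exact absurd (Finset.mem_univ k) hk
  have h2 : (sref M i * A) k i = - (cart M i k * A i i) := by
    rw [Matrix.mul_apply, Finset.sum_eq_single i]
    · simp [sref, hki]
    · intro b _ hb
      rw [hoff b i (Ne.symm hb), mul_zero]
    · intro hk; exact absurd (Finset.mem_univ i) hk
  rw [h, h2] at h1
  have h3 : cart M i k * (A k k - A i i) = 0 := by linarith
  rcases mul_eq_zero.mp h3 with h4 | h4
  · exact absurd h4 hc
  · linarith

theorem scalar_of_comm (A : Matrix (Fin n) (Fin n) ℤ)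
    (h : ∀ i, A * sref M i = sref M i * A) (p : Fin n → Fin n) (r : Fin n)
    (hp : ∀ k, cart M (p k) k ≠ 0) (hr : ∀ k, p^[n] k = r) :
    A = (A r r) • (1 : Matrix (Fin n) (Fin n) ℤ) := by
  have hoff : ∀ i l, l ≠ i → A i l = 0 := fun i l hil => offdiag_zero_of_comm M A i l hil (h i)
  have hstep : ∀ k, A k k = A (p k) (p k) := fun k =>
    diag_eq_of_comm M A hoff (p k) k (hp k) (h (p k))
  have hiter : ∀ j k, A k k = A (p^[j] k) (p^[j] k) := by
    intro j
    induction j with
    | zero => intro k; rfl
    | succ j ih =>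
      intro k
      rw [Function.iterate_succ_apply, hstep k]
      exact ih (p k)
  ext a b
  rw [Matrix.smul_apply, Matrix.one_apply]
  by_cases hab : a = b
  · subst hab
    rw [if_pos rfl, hiter n a, hr a]
    simp
  · rw [if_neg hab, hoff a b (Ne.symm hab)]
    simp

end

section

variable {n : ℕ} {M : CoxeterMatrix (Fin n)} {W : Type*} [Group W] (cs : CoxeterSystem M W)
  (hrel : RelOK M)

theorem rho_center_cases (p : Fin n → Fin n) (r : Fin n)
    (hp : ∀ k, cart M (p k) k ≠ 0) (hr : ∀ k, p^[n] k = r) {z : W}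
    (hz : z ∈ Subgroup.center W) : rho cs hrel z = 1 ∨ rho cs hrel z = -1 := by
  have hcomm : ∀ i, rho cs hrel z * sref M i = sref M i * rho cs hrel z := by
    intro i
    rw [← rho_simple cs hrel i, ← map_mul, ← map_mul]
    congr 1
    exact (Subgroup.mem_center_iff.mp hz (cs.simple i)).symm
  obtain ⟨a, ha⟩ : ∃ a : ℤ, rho cs hrel z = a • (1 : Matrix (Fin n) (Fin n) ℤ) :=
    ⟨_, scalar_of_comm M (rho cs hrel z) hcomm p r hp hr⟩
  have hinv : rho cs hrel z * rho cs hrel z⁻¹ = 1 := by
    rw [← map_mul, mul_inv_cancel, map_one]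
  have hrr : a * (rho cs hrel z⁻¹) r r = 1 := by
    have := congrFun (congrFun hinv r) r
    rw [ha, Matrix.smul_mul, Matrix.one_mul, Matrix.smul_apply, Matrix.one_apply_eq] at this
    exact this
  rcases Int.eq_one_or_neg_one_of_mul_eq_one hrr with h1 | h1
  · left; rw [ha, h1, one_smul]
  · right; rw [ha, h1, neg_smul, one_smul]

theorem center_of_neg_one (hinj : Function.Injective (rho cs hrel)) (p : Fin n → Fin n)
    (r : Fin n) (hp : ∀ k, cart M (p k) k ≠ 0) (hr : ∀ k, p^[n] k = r) (c : W) (m : ℕ)
    (hm : rho cs hrel c ^ m = -1) :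
    Nat.card (Subgroup.center W) = 2 ∧ Subgroup.center W ≤ Subgroup.zpowers c := by
  set z0 := c ^ m with hz0
  have hρ : rho cs hrel z0 = -1 := by rw [hz0, map_pow, hm]
  have hcen : z0 ∈ Subgroup.center W := by
    rw [Subgroup.mem_center_iff]
    intro g
    apply hinj
    rw [map_mul, map_mul, hρ]
    simp
  have hne : z0 ≠ 1 := by
    intro e
    have h1 : rho cs hrel z0 = 1 := by rw [e, map_one]
    rw [hρ] at h1
    have := congrFun (congrFun h1 r) r
    rw [Matrix.neg_apply, Matrix.one_apply_eq] at this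
    omega
  have hsq : z0 ^ 2 = 1 := by
    apply hinj
    rw [map_pow, hρ, map_one]
    simp
  have hord : orderOf z0 = 2 := orderOf_eq_prime hsq hne
  have heq : Subgroup.center W = Subgroup.zpowers z0 := by
    apply le_antisymm
    · intro z hz
      rcases rho_center_cases cs hrel p r hp hr hz with h1 | h1
      · have : z = 1 := hinj (by rw [h1, map_one])
        rw [this]; exact Subgroup.one_mem _
      · have : z = z0 := hinj (by rw [h1, hρ])
        rw [this]; exact Subgroup.mem_zpowers z0
    · rw [Subgroup.zpowers_le]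
      exact hcen
  refine ⟨?_, ?_⟩
  · rw [heq, Nat.card_zpowers, hord]
  · rw [heq, Subgroup.zpowers_le]
    exact Subgroup.npow_mem_zpowers c m

theorem center_trivial (hinj : Function.Injective (rho cs hrel)) (p : Fin n → Fin n)
    (r : Fin n) (hp : ∀ k, cart M (p k) k ≠ 0) (hr : ∀ k, p^[n] k = r)
    (hno : ∀ w, rho cs hrel w ≠ -1) : Subgroup.center W = ⊥ := by
  rw [eq_bot_iff]
  intro z hz
  rcases rho_center_cases cs hrel p r hp hr hz with h1 | h1
  · have : z = 1 := hinj (by rw [h1, map_one])
    rw [this]; exact Subgroup.one_mem _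
  · exact absurd h1 (hno z)

/-- a `W`-invariant functional mod `q` which distinguishes `v` from `-v` rules out `-1`. -/
theorem no_neg_one (q : ℕ) (F : Fin n → ZMod q)
    (hF : ∀ i, Matrix.vecMul F ((Int.castRingHom (ZMod q)).mapMatrix (sref M i)) = F)
    (r : Fin n) (hFr : - F r ≠ F r) : ∀ w, rho cs hrel w ≠ -1 := by
  have key : ∀ w, Matrix.vecMul F ((Int.castRingHom (ZMod q)).mapMatrix (rho cs hrel w)) = F := by
    intro w
    induction w using cs.simple_induction with
    | simple i => rw [rho_simple]; exact hF i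
    | one => rw [map_one, map_one, Matrix.vecMul_one]
    | mul w w' hw hw' => rw [map_mul, map_mul, ← Matrix.vecMul_vecMul, hw, hw']
  intro w hw
  have h := key w
  rw [hw, map_neg, map_one, Matrix.vecMul_neg, Matrix.vecMul_one] at h
  exact hFr (congrFun h r)

end

end Cfsg.Agent.Helper14.Cox
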