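import Cfsg.Agent.Helper14.CoxD4Main

set_option autoImplicit false
set_option maxRecDepth 1000000

namespace Cfsg.Agent.Helper14.Cox

theorem rho_injD4 : Function.Injective (rho csD4 relD4) := by
  rw [injective_iff_map_eq_one]
  intro w hw
  have hfix : ∀ v, actv csD4 relD4 w v = v := fun v => by
    unfold actv; rw [hw, Matrix.one_mulVec]
  have h0 : w ∈ par csD4 certD4_0.J := by rw [topD4]; trivial
  have h1 : w ∈ par csD4 certD4_0.J' :=
    fix_mem csD4 relD4 certD4_0 certD4_0_mat certD4_0_UB certD4_0_LB h0 (hfix _)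
  have h2 : w ∈ par csD4 certD4_1.J' :=
    fix_mem csD4 relD4 certD4_1 certD4_1_mat certD4_1_UB certD4_1_LB h1 (hfix _)
  have h3 : w ∈ par csD4 certD4_2.J' :=
    fix_mem csD4 relD4 certD4_2 certD4_2_mat certD4_2_UB certD4_2_LB h2 (hfix _)
  have h4 : w ∈ par csD4 certD4_3.J' :=
    fix_mem csD4 relD4 certD4_3 certD4_3_mat certD4_3_UB certD4_3_LB h3 (hfix _)
  have hb : par csD4 certD4_3.J' = ⊥ := par_nil _
  rw [hb] at h4
  exact Subgroup.mem_bot.mp h4

/-- matrix of the Coxeter element -/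
def coxMatD4 : Matrix (Fin 4) (Fin 4) ℤ := ((List.finRange 4).map (sref Cfsg.Lie.coxeterD4)).prod

theorem coxMatD4_pow : coxMatD4 ^ 6 = 1 := by decide +kernel

theorem coxMatD4_ne_2 : coxMatD4 ^ 3 ≠ 1 := by decide +kernel

theorem coxMatD4_ne_3 : coxMatD4 ^ 2 ≠ 1 := by decide +kernel

theorem rho_coxD4 : rho csD4 relD4 (((List.finRange 4).map (Cfsg.Lie.coxeterD4).simple).prod) = coxMatD4 := by
  rw [map_list_prod, List.map_map]
  unfold coxMatD4
  congr 1
  apply List.map_congr_left
  intro i _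
  exact rho_simple csD4 relD4 i

theorem orderOf_coxD4 : orderOf (((List.finRange 4).map (Cfsg.Lie.coxeterD4).simple).prod) = 6 := by
  rw [← orderOf_injective (rho csD4 relD4) rho_injD4, rho_coxD4]
  apply orderOf_eq_of_pow_and_pow_div_prime (by norm_num) coxMatD4_pow
  intro q hq hdvd
  have hcases : q = 2 ∨ q = 3 := by
    have hle : q ≤ 6 := Nat.le_of_dvd (by norm_num) hdvd
    interval_cases q <;> first | omega | (exfalso; revert hq; decide) | (exfalso; revert hdvd; decide)
  rcases hcases with rfl | rfl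
  · exact coxMatD4_ne_2
  · exact coxMatD4_ne_3

end Cfsg.Agent.Helper14.Cox
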