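import Cfsg.Agent.Helper14.CoxE6Main

set_option autoImplicit false
set_option maxRecDepth 1000000

namespace Cfsg.Agent.Helper14.Cox

theorem rho_injE6 : Function.Injective (rho csE6 relE6) := by
  rw [injective_iff_map_eq_one]
  intro w hw
  have hfix : ∀ v, actv csE6 relE6 w v = v := fun v => by
    unfold actv; rw [hw, Matrix.one_mulVec]
  have h0 : w ∈ par csE6 certE6_0.J := by rw [topE6]; trivial
  have h1 : w ∈ par csE6 certE6_0.J' :=
    fix_mem csE6 relE6 certE6_0 certE6_0_mat certE6_0_UB certE6_0_LB h0 (hfix _)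
  have h2 : w ∈ par csE6 certE6_1.J' :=
    fix_mem csE6 relE6 certE6_1 certE6_1_mat certE6_1_UB certE6_1_LB h1 (hfix _)
  have h3 : w ∈ par csE6 certE6_2.J' :=
    fix_mem csE6 relE6 certE6_2 certE6_2_mat certE6_2_UB certE6_2_LB h2 (hfix _)
  have h4 : w ∈ par csE6 certE6_3.J' :=
    fix_mem csE6 relE6 certE6_3 certE6_3_mat certE6_3_UB certE6_3_LB h3 (hfix _)
  have h5 : w ∈ par csE6 certE6_4.J' :=
    fix_mem csE6 relE6 certE6_4 certE6_4_mat certE6_4_UB certE6_4_LB h4 (hfix _)
  have h6 : w ∈ par csE6 certE6_5.J' :=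
    fix_mem csE6 relE6 certE6_5 certE6_5_mat certE6_5_UB certE6_5_LB h5 (hfix _)
  have hb : par csE6 certE6_5.J' = ⊥ := par_nil _
  rw [hb] at h6
  exact Subgroup.mem_bot.mp h6

/-- matrix of the Coxeter element -/
def coxMatE6 : Matrix (Fin 6) (Fin 6) ℤ := ((List.finRange 6).map (sref CoxeterMatrix.E₆)).prod

theorem coxMatE6_pow : coxMatE6 ^ 12 = 1 := by decide +kernel

theorem coxMatE6_ne_2 : coxMatE6 ^ 6 ≠ 1 := by decide +kernel

theorem coxMatE6_ne_3 : coxMatE6 ^ 4 ≠ 1 := by decide +kernel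

theorem rho_coxE6 : rho csE6 relE6 (((List.finRange 6).map (CoxeterMatrix.E₆).simple).prod) = coxMatE6 := by
  rw [map_list_prod, List.map_map]
  unfold coxMatE6
  congr 1
  apply List.map_congr_left
  intro i _
  exact rho_simple csE6 relE6 i

theorem orderOf_coxE6 : orderOf (((List.finRange 6).map (CoxeterMatrix.E₆).simple).prod) = 12 := by
  rw [← orderOf_injective (rho csE6 relE6) rho_injE6, rho_coxE6]
  apply orderOf_eq_of_pow_and_pow_div_prime (by norm_num) coxMatE6_pow
  intro q hq hdvd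
  have hcases : q = 2 ∨ q = 3 := by
    have hle : q ≤ 12 := Nat.le_of_dvd (by norm_num) hdvd
    interval_cases q <;> first | omega | (exfalso; revert hq; decide) | (exfalso; revert hdvd; decide)
  rcases hcases with rfl | rfl
  · exact coxMatE6_ne_2
  · exact coxMatE6_ne_3

end Cfsg.Agent.Helper14.Cox
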