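import Cfsg.Agent.Helper14.CoxE7Main

set_option autoImplicit false
set_option maxRecDepth 1000000

namespace Cfsg.Agent.Helper14.Cox

theorem rho_injE7 : Function.Injective (rho csE7 relE7) := by
  rw [injective_iff_map_eq_one]
  intro w hw
  have hfix : ∀ v, actv csE7 relE7 w v = v := fun v => by
    unfold actv; rw [hw, Matrix.one_mulVec]
  have h0 : w ∈ par csE7 certE7_0.J := by rw [topE7]; trivial
  have h1 : w ∈ par csE7 certE7_0.J' :=
    fix_mem csE7 relE7 certE7_0 certE7_0_mat certE7_0_UB certE7_0_LB h0 (hfix _)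
  have h2 : w ∈ par csE7 certE7_1.J' :=
    fix_mem csE7 relE7 certE7_1 certE7_1_mat certE7_1_UB certE7_1_LB h1 (hfix _)
  have h3 : w ∈ par csE7 certE7_2.J' :=
    fix_mem csE7 relE7 certE7_2 certE7_2_mat certE7_2_UB certE7_2_LB h2 (hfix _)
  have h4 : w ∈ par csE7 certE7_3.J' :=
    fix_mem csE7 relE7 certE7_3 certE7_3_mat certE7_3_UB certE7_3_LB h3 (hfix _)
  have h5 : w ∈ par csE7 certE7_4.J' :=
    fix_mem csE7 relE7 certE7_4 certE7_4_mat certE7_4_UB certE7_4_LB h4 (hfix _)
  have h6 : w ∈ par csE7 certE7_5.J' :=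
    fix_mem csE7 relE7 certE7_5 certE7_5_mat certE7_5_UB certE7_5_LB h5 (hfix _)
  have h7 : w ∈ par csE7 certE7_6.J' :=
    fix_mem csE7 relE7 certE7_6 certE7_6_mat certE7_6_UB certE7_6_LB h6 (hfix _)
  have hb : par csE7 certE7_6.J' = ⊥ := par_nil _
  rw [hb] at h7
  exact Subgroup.mem_bot.mp h7

/-- matrix of the Coxeter element -/
def coxMatE7 : Matrix (Fin 7) (Fin 7) ℤ := ((List.finRange 7).map (sref CoxeterMatrix.E₇)).prod

theorem coxMatE7_pow : coxMatE7 ^ 18 = 1 := by decide +kernel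

theorem coxMatE7_ne_2 : coxMatE7 ^ 9 ≠ 1 := by decide +kernel

theorem coxMatE7_ne_3 : coxMatE7 ^ 6 ≠ 1 := by decide +kernel

theorem rho_coxE7 : rho csE7 relE7 (((List.finRange 7).map (CoxeterMatrix.E₇).simple).prod) = coxMatE7 := by
  rw [map_list_prod, List.map_map]
  unfold coxMatE7
  congr 1
  apply List.map_congr_left
  intro i _
  exact rho_simple csE7 relE7 i

theorem orderOf_coxE7 : orderOf (((List.finRange 7).map (CoxeterMatrix.E₇).simple).prod) = 18 := by
  rw [← orderOf_injective (rho csE7 relE7) rho_injE7, rho_coxE7]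
  apply orderOf_eq_of_pow_and_pow_div_prime (by norm_num) coxMatE7_pow
  intro q hq hdvd
  have hcases : q = 2 ∨ q = 3 := by
    have hle : q ≤ 18 := Nat.le_of_dvd (by norm_num) hdvd
    interval_cases q <;> first | omega | (exfalso; revert hq; decide) | (exfalso; revert hdvd; decide)
  rcases hcases with rfl | rfl
  · exact coxMatE7_ne_2
  · exact coxMatE7_ne_3

end Cfsg.Agent.Helper14.Cox
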