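import Cfsg.Agent.Helper14.CoxE8Main

set_option autoImplicit false
set_option maxRecDepth 1000000

namespace Cfsg.Agent.Helper14.Cox

theorem rho_injE8 : Function.Injective (rho csE8 relE8) := by
  rw [injective_iff_map_eq_one]
  intro w hw
  have hfix : ∀ v, actv csE8 relE8 w v = v := fun v => by
    unfold actv; rw [hw, Matrix.one_mulVec]
  have h0 : w ∈ par csE8 certE8_0.J := by rw [topE8]; trivial
  have h1 : w ∈ par csE8 certE8_0.J' :=
    fix_mem csE8 relE8 certE8_0 certE8_0_mat certE8_0_UB certE8_0_LB h0 (hfix _)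
  have h2 : w ∈ par csE8 certE8_1.J' :=
    fix_mem csE8 relE8 certE8_1 certE8_1_mat certE8_1_UB certE8_1_LB h1 (hfix _)
  have h3 : w ∈ par csE8 certE8_2.J' :=
    fix_mem csE8 relE8 certE8_2 certE8_2_mat certE8_2_UB certE8_2_LB h2 (hfix _)
  have h4 : w ∈ par csE8 certE8_3.J' :=
    fix_mem csE8 relE8 certE8_3 certE8_3_mat certE8_3_UB certE8_3_LB h3 (hfix _)
  have h5 : w ∈ par csE8 certE8_4.J' :=
    fix_mem csE8 relE8 certE8_4 certE8_4_mat certE8_4_UB certE8_4_LB h4 (hfix _)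
  have h6 : w ∈ par csE8 certE8_5.J' :=
    fix_mem csE8 relE8 certE8_5 certE8_5_mat certE8_5_UB certE8_5_LB h5 (hfix _)
  have h7 : w ∈ par csE8 certE8_6.J' :=
    fix_mem csE8 relE8 certE8_6 certE8_6_mat certE8_6_UB certE8_6_LB h6 (hfix _)
  have h8 : w ∈ par csE8 certE8_7.J' :=
    fix_mem csE8 relE8 certE8_7 certE8_7_mat certE8_7_UB certE8_7_LB h7 (hfix _)
  have hb : par csE8 certE8_7.J' = ⊥ := par_nil _
  rw [hb] at h8
  exact Subgroup.mem_bot.mp h8

/-- matrix of the Coxeter element -/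
def coxMatE8 : Matrix (Fin 8) (Fin 8) ℤ := ((List.finRange 8).map (sref CoxeterMatrix.E₈)).prod

theorem coxMatE8_pow : coxMatE8 ^ 30 = 1 := by decide +kernel

theorem coxMatE8_ne_2 : coxMatE8 ^ 15 ≠ 1 := by decide +kernel

theorem coxMatE8_ne_3 : coxMatE8 ^ 10 ≠ 1 := by decide +kernel

theorem coxMatE8_ne_5 : coxMatE8 ^ 6 ≠ 1 := by decide +kernel

theorem rho_coxE8 : rho csE8 relE8 (((List.finRange 8).map (CoxeterMatrix.E₈).simple).prod) = coxMatE8 := by
  rw [map_list_prod, List.map_map]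
  unfold coxMatE8
  congr 1
  apply List.map_congr_left
  intro i _
  exact rho_simple csE8 relE8 i

theorem orderOf_coxE8 : orderOf (((List.finRange 8).map (CoxeterMatrix.E₈).simple).prod) = 30 := by
  rw [← orderOf_injective (rho csE8 relE8) rho_injE8, rho_coxE8]
  apply orderOf_eq_of_pow_and_pow_div_prime (by norm_num) coxMatE8_pow
  intro q hq hdvd
  have hcases : q = 2 ∨ q = 3 ∨ q = 5 := by
    have hle : q ≤ 30 := Nat.le_of_dvd (by norm_num) hdvd
    interval_cases q <;> first | omega | (exfalso; revert hq; decide) | (exfalso; revert hdvd; decide)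
  rcases hcases with rfl | rfl | rfl
  · exact coxMatE8_ne_2
  · exact coxMatE8_ne_3
  · exact coxMatE8_ne_5

end Cfsg.Agent.Helper14.Cox
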