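import Cfsg.Agent.Helper14.CoxF4Main

set_option autoImplicit false
set_option maxRecDepth 1000000

namespace Cfsg.Agent.Helper14.Cox

theorem rho_injF4 : Function.Injective (rho csF4 relF4) := by
  rw [injective_iff_map_eq_one]
  intro w hw
  have hfix : ∀ v, actv csF4 relF4 w v = v := fun v => by
    unfold actv; rw [hw, Matrix.one_mulVec]
  have h0 : w ∈ par csF4 certF4_0.J := by rw [topF4]; trivial
  have h1 : w ∈ par csF4 certF4_0.J' :=
    fix_mem csF4 relF4 certF4_0 certF4_0_mat certF4_0_UB certF4_0_LB h0 (hfix _)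
  have h2 : w ∈ par csF4 certF4_1.J' :=
    fix_mem csF4 relF4 certF4_1 certF4_1_mat certF4_1_UB certF4_1_LB h1 (hfix _)
  have h3 : w ∈ par csF4 certF4_2.J' :=
    fix_mem csF4 relF4 certF4_2 certF4_2_mat certF4_2_UB certF4_2_LB h2 (hfix _)
  have h4 : w ∈ par csF4 certF4_3.J' :=
    fix_mem csF4 relF4 certF4_3 certF4_3_mat certF4_3_UB certF4_3_LB h3 (hfix _)
  have hb : par csF4 certF4_3.J' = ⊥ := par_nil _
  rw [hb] at h4
  exact Subgroup.mem_bot.mp h4

/-- matrix of the Coxeter element -/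
def coxMatF4 : Matrix (Fin 4) (Fin 4) ℤ := ((List.finRange 4).map (sref CoxeterMatrix.F₄)).prod

theorem coxMatF4_pow : coxMatF4 ^ 12 = 1 := by decide +kernel

theorem coxMatF4_ne_2 : coxMatF4 ^ 6 ≠ 1 := by decide +kernel

theorem coxMatF4_ne_3 : coxMatF4 ^ 4 ≠ 1 := by decide +kernel

theorem rho_coxF4 : rho csF4 relF4 (((List.finRange 4).map (CoxeterMatrix.F₄).simple).prod) = coxMatF4 := by
  rw [map_list_prod, List.map_map]
  unfold coxMatF4
  congr 1
  apply List.map_congr_left
  intro i _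
  exact rho_simple csF4 relF4 i

theorem orderOf_coxF4 : orderOf (((List.finRange 4).map (CoxeterMatrix.F₄).simple).prod) = 12 := by
  rw [← orderOf_injective (rho csF4 relF4) rho_injF4, rho_coxF4]
  apply orderOf_eq_of_pow_and_pow_div_prime (by norm_num) coxMatF4_pow
  intro q hq hdvd
  have hcases : q = 2 ∨ q = 3 := by
    have hle : q ≤ 12 := Nat.le_of_dvd (by norm_num) hdvd
    interval_cases q <;> first | omega | (exfalso; revert hq; decide) | (exfalso; revert hdvd; decide)
  rcases hcases with rfl | rfl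
  · exact coxMatF4_ne_2
  · exact coxMatF4_ne_3

end Cfsg.Agent.Helper14.Cox
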