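import Cfsg.Agent.Helper14.CoxG2Main

set_option autoImplicit false
set_option maxRecDepth 1000000

namespace Cfsg.Agent.Helper14.Cox

theorem rho_injG2 : Function.Injective (rho csG2 relG2) := by
  rw [injective_iff_map_eq_one]
  intro w hw
  have hfix : ∀ v, actv csG2 relG2 w v = v := fun v => by
    unfold actv; rw [hw, Matrix.one_mulVec]
  have h0 : w ∈ par csG2 certG2_0.J := by rw [topG2]; trivial
  have h1 : w ∈ par csG2 certG2_0.J' :=
    fix_mem csG2 relG2 certG2_0 certG2_0_mat certG2_0_UB certG2_0_LB h0 (hfix _)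
  have h2 : w ∈ par csG2 certG2_1.J' :=
    fix_mem csG2 relG2 certG2_1 certG2_1_mat certG2_1_UB certG2_1_LB h1 (hfix _)
  have hb : par csG2 certG2_1.J' = ⊥ := par_nil _
  rw [hb] at h2
  exact Subgroup.mem_bot.mp h2

/-- matrix of the Coxeter element -/
def coxMatG2 : Matrix (Fin 2) (Fin 2) ℤ := ((List.finRange 2).map (sref CoxeterMatrix.G₂)).prod

theorem coxMatG2_pow : coxMatG2 ^ 6 = 1 := by decide +kernel

theorem coxMatG2_ne_2 : coxMatG2 ^ 3 ≠ 1 := by decide +kernel

theorem coxMatG2_ne_3 : coxMatG2 ^ 2 ≠ 1 := by decide +kernel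

theorem rho_coxG2 : rho csG2 relG2 (((List.finRange 2).map (CoxeterMatrix.G₂).simple).prod) = coxMatG2 := by
  rw [map_list_prod, List.map_map]
  unfold coxMatG2
  congr 1
  apply List.map_congr_left
  intro i _
  exact rho_simple csG2 relG2 i

theorem orderOf_coxG2 : orderOf (((List.finRange 2).map (CoxeterMatrix.G₂).simple).prod) = 6 := by
  rw [← orderOf_injective (rho csG2 relG2) rho_injG2, rho_coxG2]
  apply orderOf_eq_of_pow_and_pow_div_prime (by norm_num) coxMatG2_pow
  intro q hq hdvd
  have hcases : q = 2 ∨ q = 3 := by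
    have hle : q ≤ 6 := Nat.le_of_dvd (by norm_num) hdvd
    interval_cases q <;> first | omega | (exfalso; revert hq; decide) | (exfalso; revert hdvd; decide)
  rcases hcases with rfl | rfl
  · exact coxMatG2_ne_2
  · exact coxMatG2_ne_3

end Cfsg.Agent.Helper14.Cox
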