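import Cfsg.Agent.Helper14.CoxCen
import Cfsg.Agent.Helper14.CoxB2Inj
import Cfsg.Agent.Helper14.CoxG2Inj
import Cfsg.Agent.Helper14.CoxD4Inj
import Cfsg.Agent.Helper14.CoxF4Inj
import Cfsg.Agent.Helper14.CoxE6Inj
import Cfsg.Agent.Helper14.CoxE7Inj
import Cfsg.Agent.Helper14.CoxE8Inj

set_option autoImplicit false
set_option maxRecDepth 1000000

namespace Cfsg.Agent.Helper14.Cox

theorem cenB2 : Nat.card (Subgroup.center (CoxeterMatrix.B 2).Group) = 2 ∧
    Subgroup.center (CoxeterMatrix.B 2).Group ≤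
      Subgroup.zpowers ((List.finRange 2).map (CoxeterMatrix.B 2).simple).prod := by
  apply center_of_neg_one csB2 relB2 rho_injB2 ![0, 0] 0 (by decide +kernel) (by decide +kernel) _ 2
  rw [rho_coxB2]
  decide +kernel

theorem cenG2 : Nat.card (Subgroup.center (CoxeterMatrix.G₂).Group) = 2 ∧
    Subgroup.center (CoxeterMatrix.G₂).Group ≤
      Subgroup.zpowers ((List.finRange 2).map (CoxeterMatrix.G₂).simple).prod := by
  apply center_of_neg_one csG2 relG2 rho_injG2 ![0, 0] 0 (by decide +kernel) (by decide +kernel) _ 3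
  rw [rho_coxG2]
  decide +kernel

theorem cenD4 : Nat.card (Subgroup.center (Cfsg.Lie.coxeterD4).Group) = 2 ∧
    Subgroup.center (Cfsg.Lie.coxeterD4).Group ≤
      Subgroup.zpowers ((List.finRange 4).map (Cfsg.Lie.coxeterD4).simple).prod := by
  apply center_of_neg_one csD4 relD4 rho_injD4 ![1, 1, 1, 1] 1 (by decide +kernel)
    (by decide +kernel) _ 3
  rw [rho_coxD4]
  decide +kernel

theorem cenF4 : Nat.card (Subgroup.center (CoxeterMatrix.F₄).Group) = 2 ∧
    Subgroup.center (CoxeterMatrix.F₄).Group ≤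
      Subgroup.zpowers ((List.finRange 4).map (CoxeterMatrix.F₄).simple).prod := by
  apply center_of_neg_one csF4 relF4 rho_injF4 ![0, 0, 1, 2] 0 (by decide +kernel)
    (by decide +kernel) _ 6
  rw [rho_coxF4]
  decide +kernel

theorem cenE7 : Nat.card (Subgroup.center (CoxeterMatrix.E₇).Group) = 2 ∧
    Subgroup.center (CoxeterMatrix.E₇).Group ≤
      Subgroup.zpowers ((List.finRange 7).map (CoxeterMatrix.E₇).simple).prod := by
  apply center_of_neg_one csE7 relE7 rho_injE7 ![0, 3, 0, 2, 3, 4, 5] 0 (by decide +kernel)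
    (by decide +kernel) _ 9
  rw [rho_coxE7]
  decide +kernel

theorem cenE8 : Nat.card (Subgroup.center (CoxeterMatrix.E₈).Group) = 2 ∧
    Subgroup.center (CoxeterMatrix.E₈).Group ≤
      Subgroup.zpowers ((List.finRange 8).map (CoxeterMatrix.E₈).simple).prod := by
  apply center_of_neg_one csE8 relE8 rho_injE8 ![0, 3, 0, 2, 3, 4, 5, 6] 0 (by decide +kernel)
    (by decide +kernel) _ 15
  rw [rho_coxE8]
  decide +kernel

theorem cenE6 : Subgroup.center (CoxeterMatrix.E₆).Group = ⊥ := by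
  apply center_trivial csE6 relE6 rho_injE6 ![0, 3, 0, 2, 3, 4] 0 (by decide +kernel)
    (by decide +kernel)
  apply no_neg_one csE6 relE6 3 ![1, 0, 2, 0, 1, 2] (by decide +kernel) 0
  decide +kernel

end Cfsg.Agent.Helper14.Cox
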