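import Cfsg.Agent.Helper14.CoxC

/-!
# Certificate checker, part D: soundness of `checkLB`, the step theorem
-/

set_option autoImplicit false
set_option linter.unusedSectionVars false

namespace Cfsg.Agent.Helper14.Cox

variable {n : ℕ} {M : CoxeterMatrix (Fin n)} {W : Type*} [Group W] (cs : CoxeterSystem M W)
variable (hrel : RelOK M) (C : Cert)

section
variable (hM : MatOK M C) (hchk : C.checkLB n = true)
include hM hchk

theorem lb_rep_zero : C.rep 0 = [] := by
  unfold Cert.checkLB at hchk
  simp only [Bool.and_eq_true, decide_eq_true_eq, leq_iff] at hchk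
  exact hchk.1.1.1.1

theorem lb_vec_zero : C.vec 0 = C.b := by
  unfold Cert.checkLB at hchk
  simp only [Bool.and_eq_true, decide_eq_true_eq, leq_iff] at hchk
  exact hchk.1.1.1.2

theorem lb_J' {s : ℕ} (hs : s ∈ C.J') : s ∈ C.J ∧ C.lact n s C.b = C.b := by
  unfold Cert.checkLB at hchk
  simp only [Bool.and_eq_true, decide_eq_true_eq, List.all_eq_true, leq_iff, memb_iff] at hchk
  exact hchk.1.1.2 s hs

theorem lb_len {c : ℕ} (hc : c < C.N) : (C.vec c).length = n := by
  unfold Cert.checkLB at hchk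
  simp only [Bool.and_eq_true, decide_eq_true_eq, List.all_eq_true, List.mem_range, leq_iff,
    memb_iff] at hchk
  exact (hchk.1.2 c hc).1

theorem lb_step {c : ℕ} (hc : c < C.N) (hc0 : c ≠ 0) :
    C.pp c < c ∧ C.ps c ∈ C.J ∧
      C.rep c = C.ps c :: C.rep (C.pp c) ∧
      C.vec c = C.lact n (C.ps c) (C.vec (C.pp c)) := by
  unfold Cert.checkLB at hchk
  simp only [Bool.and_eq_true, decide_eq_true_eq, List.all_eq_true, List.mem_range,
    Bool.or_eq_true, leq_iff, memb_iff] at hchk
  rcases (hchk.1.2 c hc).2 with h | h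
  · exact absurd h hc0
  · exact ⟨h.1.1.1, h.1.1.2, h.1.2, h.2⟩

theorem lb_inj {c c' : ℕ} (hc : c < C.N) (hc' : c' < C.N) (h : C.vec c = C.vec c') : c = c' := by
  unfold Cert.checkLB at hchk
  simp only [Bool.and_eq_true] at hchk
  exact List.inj_on_of_nodup_map (nodup_of_nodupb hchk.2) (List.mem_range.mpr hc)
    (List.mem_range.mpr hc') h

theorem fix_par' : ∀ p ∈ par cs C.J', actv cs hrel p (iota C.b) = iota C.b := by
  intro p hp
  unfold par at hp
  induction hp using Subgroup.closure_induction with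
  | mem x hx =>
    obtain ⟨s, hs, rfl⟩ := hx
    obtain ⟨hsJ, hfix⟩ := lb_J' C hM hchk hs
    rw [actv_sp cs hrel C hM (hM.2 s hsJ), hfix]
  | one => exact actv_one cs hrel _
  | mul x y _ _ hx hy => rw [actv_mul, hy, hx]
  | inv x _ hx => exact actv_inv_of_fix cs hrel hx

theorem rep_spec : ∀ c < C.N, tt cs C c ∈ par cs C.J ∧
    actv cs hrel (tt cs C c) (iota C.b) = iota (C.vec c) := by
  intro c
  induction c using Nat.strong_induction_on with
  | _ c ih =>
    intro hc
    by_cases hc0 : c = 0
    · subst hc0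
      unfold tt
      rw [lb_rep_zero C hM hchk, wp_nil, lb_vec_zero C hM hchk]
      exact ⟨Subgroup.one_mem _, actv_one cs hrel _⟩
    · obtain ⟨hp, hs, hr, hv⟩ := lb_step C hM hchk hc hc0
      obtain ⟨h1, h2⟩ := ih _ hp (hp.trans hc)
      unfold tt at h1 h2 ⊢
      rw [hr, wp_cons]
      refine ⟨Subgroup.mul_mem _ (sp_mem_par cs hs) h1, ?_⟩
      rw [actv_mul, h2, actv_sp cs hrel C hM (hM.2 _ hs), ← hv]

include hrel in
theorem card_ge [Finite (par cs C.J)] :
    C.N * Nat.card (par cs C.J') ≤ Nat.card (par cs C.J) := by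
  have hle : par cs C.J' ≤ par cs C.J := par_mono cs (fun s hs => (lb_J' C hM hchk hs).1)
  let f : Fin C.N × par cs C.J' → par cs C.J := fun x =>
    ⟨tt cs C x.1 * x.2, Subgroup.mul_mem _ (rep_spec cs hrel C hM hchk x.1 x.1.2).1 (hle x.2.2)⟩
  have hf : Function.Injective f := by
    rintro ⟨c, p⟩ ⟨c', p'⟩ h
    have h0 : tt cs C c * p = tt cs C c' * p' := congrArg Subtype.val h
    have h1 := congrArg (fun w => actv cs hrel w (iota C.b)) h0
    simp only [actv_mul, fix_par' cs hrel C hM hchk _ p.2, fix_par' cs hrel C hM hchk _ p'.2,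
      (rep_spec cs hrel C hM hchk c c.2).2, (rep_spec cs hrel C hM hchk c' c'.2).2] at h1
    have h2 := iota_injective (lb_len C hM hchk c.2) (lb_len C hM hchk c'.2) h1
    have h3 : (c : ℕ) = c' := lb_inj C hM hchk c.2 c'.2 h2
    have h4 : c = c' := Fin.ext h3
    subst h4
    have h5 : (p : W) = p' := mul_left_cancel h0
    rw [Subtype.ext h5]
  calc C.N * Nat.card (par cs C.J') = Nat.card (Fin C.N × par cs C.J') := by
        rw [Nat.card_prod, Nat.card_fin]
    _ ≤ Nat.card (par cs C.J) := Nat.card_le_card_of_injective f hf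

end

include hrel in
/-- the step theorem: index of `par J'` in `par J` is exactly `N` -/
theorem step (hM : MatOK M C) (hU : C.checkUB = true) (hL : C.checkLB n = true)
    [Finite (par cs C.J')] :
    Finite (par cs C.J) ∧ Nat.card (par cs C.J) = C.N * Nat.card (par cs C.J') := by
  obtain ⟨hfin, hle⟩ := finite_and_card_le cs C hM hU
  exact ⟨hfin, le_antisymm hle (card_ge cs hrel C hM hL)⟩

/-- elements of `par J` fixing the base vector lie in `par J'` -/
theorem fix_mem (hM : MatOK M C) (hU : C.checkUB = true) (hL : C.checkLB n = true)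
    {w : W} (hw : w ∈ par cs C.J) (hfix : actv cs hrel w (iota C.b) = iota C.b) :
    w ∈ par cs C.J' := by
  obtain ⟨c, hc, hmem⟩ := cover cs C hM hU w hw
  have e : w = tt cs C c * ((tt cs C c)⁻¹ * w) := by group
  rw [e, actv_mul, fix_par' cs hrel C hM hL _ hmem, (rep_spec cs hrel C hM hL c hc).2,
    ← lb_vec_zero C hM hL] at hfix
  have h2 := iota_injective (lb_len C hM hL hc) (lb_len C hM hL (N_pos C hM hU)) hfix
  have h3 : c = 0 := lb_inj C hM hL hc (N_pos C hM hU) h2
  subst h3
  have : tt cs C 0 = 1 := by unfold tt; rw [lb_rep_zero C hM hL, wp_nil]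
  rw [this, inv_one, one_mul] at hmem
  exact hmem

/-- boolean check for `MatOK` -/
def matCheck (M : CoxeterMatrix (Fin n)) (C : Cert) : Bool :=
  ((List.finRange n).all fun i => (List.finRange n).all fun j => Nat.beq (M.M i j) (C.m i j)) &&
    C.J.all fun s => Nat.blt s n

theorem matOK_of_check (h : matCheck M C = true) : MatOK M C := by
  unfold matCheck at h
  simp only [Bool.and_eq_true, List.all_eq_true, List.mem_finRange, true_implies] at h
  refine ⟨fun i j => ?_, fun s hs => ?_⟩
  · exact Nat.eq_of_beq_eq_true (h.1 i j)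
  · have := h.2 s hs
    rwa [Nat.blt_eq] at this

/-- boolean check for `RelOK`, evaluating matrix entries -/
theorem relOK_of_forall (h : ∀ i j : Fin n, (sref M i * sref M j) ^ M.M i j = 1) : RelOK M := h

end Cfsg.Agent.Helper14.Cox
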