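import Cfsg.Agent.Helper14.CoxD
import Cfsg.Prelude.Def_ChevStructure

set_option autoImplicit false
set_option maxRecDepth 1000000
set_option maxHeartbeats 0

namespace Cfsg.Agent.Helper14.Cox

def certD4_0 : Cert where
  J := [0, 1, 2, 3]
  J' := [0, 1, 2]
  N := 8
  reps := (.node (.node (.node (.leaf []) (.leaf [2, 1, 3])) (.node (.leaf [1, 3]) (.leaf [1, 2, 0, 1, 3]))) (.node (.node (.leaf [3]) (.leaf [2, 0, 1, 3])) (.node (.leaf [0, 1, 3]) (.leaf [3, 1, 2, 0, 1, 3]))))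
  E := (.node (.node (.node (.leaf [0, 0, 0, 1]) (.leaf [2298479621, 1225787396, 2, 2241857540])) (.node (.leaf [3, 1, 4, 227542018]) (.leaf [4437576710, 5, 3440380934, 7]))) (.node (.node (.leaf [159384577, 2, 161481729, 0]) (.leaf [2216690692, 6, 3, 3315600389])) (.node (.leaf [2, 1283459075, 5, 2239760387]) (.leaf [6601838599, 5529145351, 6603935751, 6]))))
  mm := [[1, 3, 2, 2], [3, 1, 3, 3], [2, 3, 1, 2], [2, 3, 2, 1]]
  b := [0, 0, 0, 1]
  vecs := (.node (.node (.node (.leaf [0, 0, 0, 1]) (.leaf [1, 0, (-1), 0])) (.node (.leaf [1, (-1), 1, 0]) (.leaf [0, (-1), 0, 1]))) (.node (.node (.leaf [0, 1, 0, (-1)]) (.leaf [(-1), 1, (-1), 0])) (.node (.leaf [(-1), 0, 1, 0]) (.leaf [0, 0, 0, (-1)]))))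
  prt := (.node (.node (.node (.leaf 0) (.leaf 18)) (.node (.leaf 9) (.leaf 41))) (.node (.node (.leaf 3) (.leaf 26)) (.node (.leaf 16) (.leaf 51))))

theorem certD4_0_UB : certD4_0.checkUB = true := by decide +kernel

theorem certD4_0_LB : certD4_0.checkLB 4 = true := by decide +kernel

theorem certD4_0_mat : MatOK Cfsg.Lie.coxeterD4 certD4_0 :=
  matOK_of_check _ (by decide +kernel)

end Cfsg.Agent.Helper14.Cox
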