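import Cfsg.Agent.Helper14.CoxD
import Cfsg.Prelude.Def_ChevStructure

set_option autoImplicit false
set_option maxRecDepth 1000000
set_option maxHeartbeats 0

namespace Cfsg.Agent.Helper14.Cox

def certD4_1 : Cert where
  J := [0, 1, 2]
  J' := [0, 1]
  N := 4
  reps := (.node (.node (.leaf []) (.leaf [1, 2])) (.node (.leaf [2]) (.leaf [0, 1, 2])))
  E := (.node (.node (.leaf [0, 0, 1, 0]) (.leaf [3, 1, 219153410, 0])) (.node (.leaf [150995969, 2, 0, 0]) (.leaf [2, 1283459075, 2231371779, 0])))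
  mm := [[1, 3, 2, 2], [3, 1, 3, 3], [2, 3, 1, 2], [2, 3, 2, 1]]
  b := [0, 0, 1, 0]
  vecs := (.node (.node (.leaf [0, 0, 1, 0]) (.leaf [1, (-1), 0, 1])) (.node (.leaf [0, 1, (-1), 0]) (.leaf [(-1), 0, 0, 1])))
  prt := (.node (.node (.leaf 0) (.leaf 9)) (.node (.leaf 2) (.leaf 16)))

theorem certD4_1_UB : certD4_1.checkUB = true := by decide +kernel

theorem certD4_1_LB : certD4_1.checkLB 4 = true := by decide +kernel

theorem certD4_1_mat : MatOK Cfsg.Lie.coxeterD4 certD4_1 :=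
  matOK_of_check _ (by decide +kernel)

end Cfsg.Agent.Helper14.Cox
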