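import Cfsg.Agent.Helper14.CoxD
import Cfsg.Prelude.Def_ChevStructure

set_option autoImplicit false
set_option maxRecDepth 1000000
set_option maxHeartbeats 0

namespace Cfsg.Agent.Helper14.Cox

def certD4_2 : Cert where
  J := [0, 1]
  J' := [0]
  N := 3
  reps := (.node (.node (.leaf []) (.leaf [0, 1])) (.leaf [1]))
  E := (.node (.node (.leaf [0, 1, 0, 0]) (.leaf [1, 209716226, 0, 0])) (.leaf [2, 0, 0, 0]))
  mm := [[1, 3, 2, 2], [3, 1, 3, 3], [2, 3, 1, 2], [2, 3, 2, 1]]
  b := [0, 1, 0, 0]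
  vecs := (.node (.node (.leaf [0, 1, 0, 0]) (.leaf [(-1), 0, 1, 1])) (.leaf [1, (-1), 1, 1]))
  prt := (.node (.node (.leaf 0) (.leaf 8)) (.leaf 1))

theorem certD4_2_UB : certD4_2.checkUB = true := by decide +kernel

theorem certD4_2_LB : certD4_2.checkLB 4 = true := by decide +kernel

theorem certD4_2_mat : MatOK Cfsg.Lie.coxeterD4 certD4_2 :=
  matOK_of_check _ (by decide +kernel)

end Cfsg.Agent.Helper14.Cox
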