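import Cfsg.Agent.Helper14.CoxD

set_option autoImplicit false
set_option maxRecDepth 1000000
set_option maxHeartbeats 0

namespace Cfsg.Agent.Helper14.Cox

def certE6_5 : Cert where
  J := [1]
  J' := []
  N := 2
  reps := (.node (.leaf []) (.leaf [1]))
  E := (.node (.leaf [0, 1, 0, 0, 0, 0]) (.leaf [0, 0, 0, 0, 0, 0]))
  mm := [[1, 2, 3, 2, 2, 2], [2, 1, 2, 3, 2, 2], [3, 2, 1, 3, 2, 2], [2, 3, 3, 1, 3, 2], [2, 2, 2, 3, 1, 3], [2, 2, 2, 2, 3, 1]]
  b := [0, 1, 0, 0, 0, 0]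
  vecs := (.node (.leaf [0, 1, 0, 0, 0, 0]) (.leaf [0, (-1), 0, 1, 0, 0]))
  prt := (.node (.leaf 0) (.leaf 1))

theorem certE6_5_UB : certE6_5.checkUB = true := by decide +kernel

theorem certE6_5_LB : certE6_5.checkLB 6 = true := by decide +kernel

theorem certE6_5_mat : MatOK CoxeterMatrix.E₆ certE6_5 :=
  matOK_of_check _ (by decide +kernel)

end Cfsg.Agent.Helper14.Cox
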