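import Cfsg.Agent.Helper14.CoxE60
import Cfsg.Agent.Helper14.CoxE61
import Cfsg.Agent.Helper14.CoxE62
import Cfsg.Agent.Helper14.CoxE63
import Cfsg.Agent.Helper14.CoxE64
import Cfsg.Agent.Helper14.CoxE65

set_option autoImplicit false
set_option maxRecDepth 1000000

namespace Cfsg.Agent.Helper14.Cox

theorem relE6 : RelOK CoxeterMatrix.E₆ := by
  unfold RelOK
  decide +kernel

/-- the canonical Coxeter system -/
noncomputable abbrev csE6 := (CoxeterMatrix.E₆).toCoxeterSystem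

theorem chainE6 :
    (Finite (par csE6 certE6_0.J) ∧ Nat.card (par csE6 certE6_0.J) = 51840) ∧
    (Finite (par csE6 certE6_1.J) ∧ Nat.card (par csE6 certE6_1.J) = 1920) ∧
    (Finite (par csE6 certE6_2.J) ∧ Nat.card (par csE6 certE6_2.J) = 192) ∧
    (Finite (par csE6 certE6_3.J) ∧ Nat.card (par csE6 certE6_3.J) = 24) ∧
    (Finite (par csE6 certE6_4.J) ∧ Nat.card (par csE6 certE6_4.J) = 6) ∧
    (Finite (par csE6 certE6_5.J) ∧ Nat.card (par csE6 certE6_5.J) = 2) := by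
  have e : par csE6 certE6_5.J' = ⊥ := par_nil _
  have f6 : Finite (par csE6 certE6_5.J') := by rw [e]; infer_instance
  have c6 : Nat.card (par csE6 certE6_5.J') = 1 := by rw [e]; exact Subgroup.card_bot
  obtain ⟨g5, d5⟩ := @step _ _ _ _ csE6 relE6 certE6_5 certE6_5_mat certE6_5_UB certE6_5_LB f6
  have e5 : Nat.card (par csE6 certE6_5.J) = 2 := d5.trans (by rw [c6]; rfl)
  have f5 : Finite (par csE6 certE6_4.J') := g5
  have c5 : Nat.card (par csE6 certE6_4.J') = 2 := e5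
  obtain ⟨g4, d4⟩ := @step _ _ _ _ csE6 relE6 certE6_4 certE6_4_mat certE6_4_UB certE6_4_LB f5
  have e4 : Nat.card (par csE6 certE6_4.J) = 6 := d4.trans (by rw [c5]; rfl)
  have f4 : Finite (par csE6 certE6_3.J') := g4
  have c4 : Nat.card (par csE6 certE6_3.J') = 6 := e4
  obtain ⟨g3, d3⟩ := @step _ _ _ _ csE6 relE6 certE6_3 certE6_3_mat certE6_3_UB certE6_3_LB f4
  have e3 : Nat.card (par csE6 certE6_3.J) = 24 := d3.trans (by rw [c4]; rfl)
  have f3 : Finite (par csE6 certE6_2.J') := g3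
  have c3 : Nat.card (par csE6 certE6_2.J') = 24 := e3
  obtain ⟨g2, d2⟩ := @step _ _ _ _ csE6 relE6 certE6_2 certE6_2_mat certE6_2_UB certE6_2_LB f3
  have e2 : Nat.card (par csE6 certE6_2.J) = 192 := d2.trans (by rw [c3]; rfl)
  have f2 : Finite (par csE6 certE6_1.J') := g2
  have c2 : Nat.card (par csE6 certE6_1.J') = 192 := e2
  obtain ⟨g1, d1⟩ := @step _ _ _ _ csE6 relE6 certE6_1 certE6_1_mat certE6_1_UB certE6_1_LB f2
  have e1 : Nat.card (par csE6 certE6_1.J) = 1920 := d1.trans (by rw [c2]; rfl)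
  have f1 : Finite (par csE6 certE6_0.J') := g1
  have c1 : Nat.card (par csE6 certE6_0.J') = 1920 := e1
  obtain ⟨g0, d0⟩ := @step _ _ _ _ csE6 relE6 certE6_0 certE6_0_mat certE6_0_UB certE6_0_LB f1
  have e0 : Nat.card (par csE6 certE6_0.J) = 51840 := d0.trans (by rw [c1]; rfl)
  exact ⟨⟨g0, e0⟩, ⟨g1, e1⟩, ⟨g2, e2⟩, ⟨g3, e3⟩, ⟨g4, e4⟩, ⟨g5, e5⟩⟩

theorem topE6 : par csE6 certE6_0.J = ⊤ := par_range _

theorem finiteE6 : Finite (CoxeterMatrix.E₆).Group := by
  have h := chainE6.1.1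
  rw [topE6] at h
  exact Finite.of_equiv _ Subgroup.topEquiv.toEquiv

theorem cardE6 : Nat.card (CoxeterMatrix.E₆).Group = 51840 := by
  have h := chainE6.1.2
  rw [topE6, Subgroup.card_top] at h
  exact h

end Cfsg.Agent.Helper14.Cox
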