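import Cfsg.Agent.Helper14.CoxD

set_option autoImplicit false
set_option maxRecDepth 1000000
set_option maxHeartbeats 0

namespace Cfsg.Agent.Helper14.Cox

def certE7_0 : Cert where
  J := [0, 1, 2, 3, 4, 5, 6]
  J' := [0, 1, 2, 3, 4, 5]
  N := 56
  reps := (.node (.node (.node (.node (.node (.node (.leaf []) (.leaf [6, 4, 5, 1, 3, 4, 2, 3, 0, 2, 1, 3, 4, 5, 6])) (.node (.leaf [4, 2, 3, 0, 2, 1, 3, 4, 5, 6]) (.leaf [1, 3, 4, 5, 6, 2, 3, 4, 5, 1, 3, 4, 2, 3, 0, 2, 1, 3, 4, 5, 6]))) (.node (.node (.leaf [0, 2, 3, 4, 5, 6]) (.leaf [6, 0, 2, 3, 4, 5, 1, 3, 4, 2, 3, 0, 2, 1, 3, 4, 5, 6])) (.leaf [6, 5, 4, 2, 3, 0, 2, 1, 3, 4, 5, 6]))) (.node (.node (.node (.leaf [3, 4, 5, 6]) (.leaf [5, 6, 4, 5, 1, 3, 4, 2, 3, 0, 2, 1, 3, 4, 5, 6])) (.node (.leaf [5, 4, 2, 3, 0, 2, 1, 3, 4, 5, 6]) (.leaf [3, 2, 1, 3, 4, 5, 6, 0, 2, 3, 4, 5, 1, 3, 4, 2, 3, 0, 2, 1, 3, 4, 5, 6]))) (.node (.node (.leaf [4, 3,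 2, 1, 3, 4, 5, 6]) (.leaf [4, 5, 6, 2, 3, 4, 5, 1, 3, 4, 2, 3, 0, 2, 1, 3, 4, 5, 6])) (.leaf [4, 5, 1, 3, 4, 2, 3, 0, 2, 1, 3, 4, 5, 6])))) (.node (.node (.node (.node (.leaf [5, 6]) (.leaf [2, 3, 4, 5, 1, 3, 4, 2, 3, 0, 2, 1, 3, 4, 5, 6])) (.node (.leaf [6, 5, 4, 3, 2, 1, 3, 4, 5, 6]) (.leaf [2, 3, 4, 5, 6, 0, 2, 3, 4, 5, 1, 3, 4, 2, 3, 0, 2, 1, 3, 4, 5, 6]))) (.node (.node (.leaf [3, 2, 1, 3, 4, 5, 6]) (.leaf [4, 5, 6, 3, 4, 5, 1, 3, 4, 2, 3, 0, 2, 1, 3, 4, 5, 6])) (.leaf [4, 5, 3, 4, 2, 3, 0, 2, 1, 3, 4, 5, 6]))) (.node (.node (.node (.leaf [2, 3, 4, 5, 6]) (.leaf [6, 2, 3, 4, 5, 1, 3, 4, 2, 3, 0, 2, 1, 3, 4, 5, 6])) (.node (.leaf [1, 3, 4, 2, 3, 0, 2, 1, 3, 4, 5, 6]) (.leaf [5, 4, 3, 2, 1, 3, 4, 5, 6, 0, 2, 3, 4, 5, 1, 3, 4, 2, 3, 0, 2, 1, 3, 4, 5, 6]))) (.node (.node (.leaf [4, 3, 0, 2, 1, 3, 4, 5, 6]) (.leaf [3, 4, 5, 6, 2, 3, 4, 5, 1, 3, 4, 2, 3, 0, 2, 1, 3, 4, 5, 6])) (.leaf [6,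 4, 5, 3, 4, 2, 3, 0, 2, 1, 3, 4, 5, 6]))))) (.node (.node (.node (.node (.node (.leaf [6]) (.leaf [5, 6, 4, 5, 3, 4, 2, 3, 0, 2, 1, 3, 4, 5, 6])) (.node (.leaf [5, 4, 3, 0, 2, 1, 3, 4, 5, 6]) (.leaf [1, 3, 4, 5, 6, 0, 2, 3, 4, 5, 1, 3, 4, 2, 3, 0, 2, 1, 3, 4, 5, 6]))) (.node (.node (.leaf [0, 2, 1, 3, 4, 5, 6]) (.leaf [5, 6, 2, 3, 4, 5, 1, 3, 4, 2, 3, 0, 2, 1, 3, 4, 5, 6])) (.leaf [5, 1, 3, 4, 2, 3, 0, 2, 1, 3, 4, 5, 6]))) (.node (.node (.node (.leaf [1, 3, 4, 5, 6]) (.leaf [0, 2, 3, 4, 5, 1, 3, 4, 2, 3, 0, 2, 1, 3, 4, 5, 6])) (.node (.leaf [6, 5, 4, 3, 0, 2, 1, 3, 4, 5, 6]) (.leaf [4, 3, 2, 1, 3, 4, 5, 6, 0, 2, 3, 4, 5, 1, 3, 4, 2, 3, 0, 2, 1, 3, 4, 5, 6]))) (.node (.node (.leaf [2, 3, 0, 2, 1, 3, 4, 5, 6]) (.leaf [4, 5, 6, 0, 2, 3, 4, 5, 1, 3, 4, 2, 3, 0, 2, 1, 3, 4, 5, 6])) (.leaf [6, 5, 1, 3, 4, 2, 3, 0, 2, 1, 3, 4, 5, 6])))) (.node (.node (.node (.node (.leaf [4, 5, 6]) (.leaf [6,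 3, 4, 5, 1, 3, 4, 2, 3, 0, 2, 1, 3, 4, 5, 6])) (.node (.leaf [3, 4, 2, 3, 0, 2, 1, 3, 4, 5, 6]) (.leaf [2, 1, 3, 4, 5, 6, 0, 2, 3, 4, 5, 1, 3, 4, 2, 3, 0, 2, 1, 3, 4, 5, 6]))) (.node (.node (.leaf [3, 0, 2, 1, 3, 4, 5, 6]) (.leaf [5, 6, 0, 2, 3, 4, 5, 1, 3, 4, 2, 3, 0, 2, 1, 3, 4, 5, 6])) (.leaf [6, 5, 3, 4, 2, 3, 0, 2, 1, 3, 4, 5, 6]))) (.node (.node (.node (.leaf [2, 1, 3, 4, 5, 6]) (.leaf [5, 6, 3, 4, 5, 1, 3, 4, 2, 3, 0, 2, 1, 3, 4, 5, 6])) (.node (.leaf [5, 3, 4, 2, 3, 0, 2, 1, 3, 4, 5, 6]) (.leaf [6, 5, 4, 3, 2, 1, 3, 4, 5, 6, 0, 2, 3, 4, 5, 1, 3, 4, 2, 3, 0, 2, 1, 3, 4, 5, 6]))) (.node (.node (.leaf [5, 4, 3, 2, 1, 3, 4, 5, 6]) (.leaf [3, 4, 5, 6, 0, 2, 3, 4, 5, 1, 3, 4, 2, 3, 0, 2, 1, 3, 4, 5, 6])) (.leaf [3, 4, 5, 1, 3, 4, 2, 3, 0, 2, 1, 3, 4, 5, 6]))))))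
  E := (.node (.node (.node (.node (.node (.node (.leaf [0, 0, 0, 0, 0, 0, 1]) (.leaf [30249332768, 27999079454, 30251429920, 30252467235, 26950501405, 36, 28])) (.node (.leaf [13035904016, 14127472656, 11899241486, 19, 13, 20, 14080287760]) (.leaf [49534735409, 46, 49477074992, 47472197680, 49493852208, 49502240816, 49510629424]))) (.node (.node (.leaf [6, 6577719305, 4513076232, 6534730760, 6543119368, 6551507976, 6559896584]) (.leaf [36580623398, 39914059816, 37799082024, 39916156968, 39917205544, 43, 37])) (.leaf [19478357016, 21660444696, 18343791637, 21662533659, 21663590424, 17369671704, 20]))) (.node (.node (.node (.leaf [3380613124, 5, 6, 3, 2385513476, 3333426180, 3341814788]) (.leaf [34535912484, 32292999201, 34538009636, 34539046951, 31318881316, 32, 30321683492])) (.node (.leaf [16257130516, 17357087764, 15121516561, 17359176727, 14139008020, 16, 24]) (.leaf [54920235060,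 53847541812, 52774848564, 51, 53, 54873050164, 54881438772]))) (.node (.node (.leaf [10905192462, 10906245132, 10907293708, 7687116812, 10, 15, 10859060236]) (.leaf [44191190061, 44192250924, 41964014634, 46, 41, 41049667628, 44145063980])) (.leaf [27011329052, 24775755802, 27013426204, 31, 25, 23869794332, 32])))) (.node (.node (.node (.node (.leaf [1249904642, 1250953218, 1252001794, 1253050370, 3, 1, 256902146]) (.leaf [37, 33438052386, 31, 30293372962, 33388769314, 33397157922, 38])) (.node (.leaf [16290680853, 16291733522, 16292782098, 16293830674, 16294879250, 13074702354, 15]) (.leaf [49543135282, 50617910323, 47, 48546989106, 50568643634, 50577032242, 50585420850]))) (.node (.node (.leaf [7675577355, 6602888202, 5530194954, 7, 12, 7628396554, 7636785162]) (.leaf [42043718698, 42044766250, 42045803564, 38825637930, 39, 37828441130, 41997579306])) (.leaf [24863844378, 24864884764,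 24865941530, 21645764634, 23, 20648567834, 30]))) (.node (.node (.node (.leaf [8, 4447011847, 4, 3449819142, 4397731846, 4406120454, 4414509062]) (.leaf [36691772456, 36692833318, 33376175139, 34588341286, 36695979046, 41, 34])) (.node (.leaf [20543710230, 19, 20486038550, 17407419414, 20502815766, 25, 20519595030]) (.leaf [57084497974, 57085546550, 57086595126, 57087643702, 56014950454, 53, 55]))) (.node (.node (.leaf [10808723468, 11979987982, 11981030416, 9834601486, 11, 17, 11932803086]) (.leaf [47404027951, 48, 45258652718, 44, 44261456942, 47356853294, 47365241902])) (.leaf [28101848094, 28102888480, 28103945246, 25940732958, 24803017755, 33, 26]))))) (.node (.node (.node (.node (.node (.leaf [184550401, 185598977, 186647553, 187696129, 188744705, 2, 0]) (.leaf [32388427809, 32389468196, 32390524961, 32391573537, 29171396641, 30, 28174198817])) (.node (.leaf [12957256719, 15209603089,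 15210645524, 15211700241, 11991523345, 14, 21]) (.leaf [49460286512, 47, 51, 48545940529, 50567595057, 50575983665, 50584372273]))) (.node (.node (.leaf [7, 6517950472, 5586819081, 11, 7616862217, 7625250825, 7633639433]) (.leaf [40978352171, 40979413033, 37670094887, 38883309609, 44, 38, 36764136489])) (.leaf [23798491161, 20481836055, 23800588313, 21702387737, 28, 22, 29]))) (.node (.node (.node (.leaf [4437578757, 4, 7, 3448770565, 4396683269, 4405071877, 4413460485]) (.leaf [34, 36582732837, 33504113701, 36599510053, 36607898661, 36616287269, 40])) (.node (.leaf [16179531794, 18439218197, 18440260632, 18441315349, 18442363925, 15222187029, 17]) (.leaf [56002366517, 56003415093, 56004463669, 54931770421, 52, 54, 55956230197]))) (.node (.node (.leaf [10888419341, 11963210765, 11, 9892273165, 16, 11922317325, 11930705933]) (.leaf [44094721068, 46339735597, 45315276845, 47, 43, 43197152301,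 46292548653])) (.leaf [27028106269, 24777852955, 27030203421, 25997356061, 27032290336, 23812124701, 25])))) (.node (.node (.node (.node (.leaf [2315258883, 2316307459, 2317356035, 4, 2, 1321207811, 2269120515]) (.leaf [33470559267, 32372699171, 33472644134, 30163338272, 31376551971, 39, 31])) (.node (.leaf [17339260947, 22, 15193874451, 16, 14196678675, 23, 17300465683]) (.leaf [51690619955, 50543461426, 49, 52, 52716128307, 52724516915, 52732905523]))) (.node (.node (.leaf [7586448394, 8750372875, 13, 9, 14, 9775881227, 9784269835]) (.leaf [40874543145, 43126897707, 42094050347, 43128994859, 45, 40, 39985362987])) (.leaf [24880621595, 24881661981, 22710069275, 21573404696, 24884806686, 20590898203, 23]))) (.node (.node (.node (.leaf [9, 4372562950, 5, 10, 5471474695, 5479863303, 5488251911]) (.leaf [37757138983, 35593925671, 37759223849, 34457258020, 42, 35, 33542909991])) (.node (.leaf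 [20577264663, 20578305049, 18415100951, 17277387796, 26, 19, 27]) (.leaf [58166629431, 58167678007, 58168726583, 58169775159, 58170823735, 57098130487, 54]))) (.node (.node (.leaf [13061065745, 13062118415, 13063166991, 13064215567, 10917780495, 12, 18]) (.leaf [47314898990, 49, 50, 45, 46408941615, 48430596143, 48438984751])) (.leaf [30224166943, 28077730847, 34, 28, 27081583647, 30176979999, 35]))))))
  mm := [[1, 2, 3, 2, 2, 2, 2], [2, 1, 2, 3, 2, 2, 2], [3, 2, 1, 3, 2, 2, 2], [2, 3, 3, 1, 3, 2, 2], [2, 2, 2, 3, 1, 3, 2], [2, 2, 2, 2, 3, 1, 3], [2, 2, 2, 2, 2, 3, 1]]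
  b := [0, 0, 0, 0, 0, 0, 1]
  vecs := (.node (.node (.node (.node (.node (.node (.leaf [0, 0, 0, 0, 0, 0, 1]) (.leaf [0, (-1), 0, 1, (-1), 1, (-1)])) (.node (.leaf [0, 0, (-1), 1, (-1), 1, 0]) (.leaf [1, (-1), 0, 0, 0, 0, 0]))) (.node (.node (.leaf [(-1), 1, 0, 0, 0, 0, 0]) (.leaf [(-1), 0, 0, 0, 0, 1, (-1)])) (.leaf [0, 0, (-1), 1, 0, 0, (-1)]))) (.node (.node (.node (.leaf [0, 1, 1, (-1), 0, 0, 0]) (.leaf [0, (-1), 0, 1, 0, (-1), 0])) (.node (.leaf [0, 0, (-1), 1, 0, (-1), 1]) (.leaf [0, 0, 0, (-1), 1, 0, 0]))) (.node (.node (.leaf [1, 0, 0, 0, (-1), 1, 0]) (.leaf [1, 0, (-1), 1, (-1), 0, 0])) (.leaf [0, (-1), 0, 1, (-1), 0, 1])))) (.node (.node (.node (.node (.leaf [0, 0, 0, 0, 1, (-1), 0]) (.leaf [1, 0, (-1), 0, 0, 0, 1])) (.node (.leaf [1, 0, 0, 0, 0, 0, (-1)]) (.leaf [0, 1, (-1), 0, 0, 0, 0]))) (.node (.node (.leaf [1, 0, 0, (-1), 1, 0, 0]) (.leaf [0, 0, 1, 0, (-1), 0, 0])) (.leaf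 [0, 1, 0, 0, (-1), 0, 1]))) (.node (.node (.node (.leaf [1, 1, (-1), 0, 0, 0, 0]) (.leaf [1, 0, (-1), 0, 0, 1, (-1)])) (.node (.leaf [0, (-1), 0, 0, 0, 1, 0]) (.leaf [0, 0, 0, 0, 0, (-1), 1]))) (.node (.node (.leaf [(-1), 0, 1, 0, (-1), 1, 0]) (.leaf [1, 1, 0, (-1), 0, 0, 0])) (.leaf [0, 1, 0, 0, (-1), 1, (-1)]))))) (.node (.node (.node (.node (.node (.leaf [0, 0, 0, 0, 0, 1, (-1)]) (.leaf [0, 1, 0, 0, 0, (-1), 0])) (.node (.leaf [(-1), 0, 1, 0, 0, (-1), 1]) (.leaf [(-1), (-1), 1, 0, 0, 0, 0]))) (.node (.node (.leaf [(-1), (-1), 0, 1, 0, 0, 0]) (.leaf [1, 0, (-1), 0, 1, (-1), 0])) (.leaf [0, (-1), 0, 0, 1, (-1), 1]))) (.node (.node (.node (.leaf [0, (-1), 1, 0, 0, 0, 0]) (.leaf [(-1), 0, 0, 0, 0, 0, 1])) (.node (.leaf [(-1), 0, 1, 0, 0, 0, (-1)]) (.leaf [0, 0, 0, 0, (-1), 1, 0]))) (.node (.node (.leaf [0, 0, (-1), 0, 1, 0, 0]) (.leaf [(-1), 0, 0, 1, (-1), 0, 0])) (.leaf [0, (-1), 0, 0,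 1, 0, (-1)])))) (.node (.node (.node (.node (.leaf [0, 0, 0, 1, (-1), 0, 0]) (.leaf [0, 0, 1, (-1), 0, 1, (-1)])) (.node (.leaf [0, 1, 0, (-1), 0, 1, 0]) (.leaf [0, (-1), (-1), 1, 0, 0, 0]))) (.node (.node (.leaf [(-1), 0, 1, (-1), 1, 0, 0]) (.leaf [(-1), 0, 0, 0, 1, (-1), 0])) (.leaf [0, 1, 0, (-1), 1, 0, (-1)]))) (.node (.node (.node (.leaf [1, (-1), (-1), 1, 0, 0, 0]) (.leaf [0, 0, 1, (-1), 1, (-1), 0])) (.node (.leaf [0, 1, 0, (-1), 1, (-1), 1]) (.leaf [0, 0, 0, 0, 0, 0, (-1)]))) (.node (.node (.leaf [1, 0, 0, 0, 0, (-1), 1]) (.leaf [(-1), 1, 1, (-1), 0, 0, 0])) (.leaf [0, 0, 1, (-1), 0, 0, 1]))))))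
  prt := (.node (.node (.node (.node (.node (.node (.leaf 0) (.leaf 230)) (.node (.leaf 108) (.leaf 369))) (.node (.node (.leaf 48) (.leaf 302)) (.leaf 166))) (.node (.node (.node (.leaf 27) (.leaf 261)) (.node (.leaf 133) (.leaf 411))) (.node (.node (.leaf 84) (.leaf 332)) (.leaf 204)))) (.node (.node (.node (.node (.leaf 13) (.leaf 250)) (.node (.leaf 126) (.leaf 378))) (.node (.node (.leaf 59) (.leaf 316)) (.leaf 188))) (.node (.node (.node (.leaf 34) (.leaf 278)) (.node (.leaf 153) (.leaf 429))) (.node (.node (.leaf 92) (.leaf 355)) (.leaf 214))))) (.node (.node (.node (.node (.node (.leaf 6) (.leaf 245)) (.node (.leaf 117) (.leaf 377))) (.node (.node (.leaf 56) (.leaf 309)) (.leaf 181))) (.node (.node (.node (.leaf 33) (.leaf 272)) (.node (.leaf 142) (.leaf 420))) (.node (.node (.leaf 90) (.leaf 348)) (.leaf 206)))) (.node (.node (.node (.node (.leaf 20) (.leaf 254)) (.node (.leaf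 131) (.leaf 394))) (.node (.node (.leaf 75) (.leaf 325)) (.leaf 190))) (.node (.node (.node (.leaf 42) (.leaf 285)) (.node (.leaf 157) (.leaf 438))) (.node (.node (.leaf 101) (.leaf 363)) (.leaf 227))))))

theorem certE7_0_UB : certE7_0.checkUB = true := by decide +kernel

theorem certE7_0_LB : certE7_0.checkLB 7 = true := by decide +kernel

theorem certE7_0_mat : MatOK CoxeterMatrix.E₇ certE7_0 :=
  matOK_of_check _ (by decide +kernel)

end Cfsg.Agent.Helper14.Cox
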