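import Cfsg.Agent.Helper14.CoxD

set_option autoImplicit false
set_option maxRecDepth 1000000
set_option maxHeartbeats 0

namespace Cfsg.Agent.Helper14.Cox

def certE7_2 : Cert where
  J := [1, 2, 3, 4, 5]
  J' := [1, 2, 3, 4]
  N := 10
  reps := (.node (.node (.node (.node (.leaf []) (.leaf [4, 3, 2, 1, 3, 4, 5])) (.leaf [1, 3, 4, 5])) (.node (.leaf [4, 5]) (.leaf [2, 1, 3, 4, 5]))) (.node (.node (.node (.leaf [5]) (.leaf [5, 4, 3, 2, 1, 3, 4, 5])) (.leaf [2, 3, 4, 5])) (.node (.leaf [3, 4, 5]) (.leaf [3, 2, 1, 3, 4, 5]))))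
  E := (.node (.node (.node (.node (.leaf [0, 0, 0, 0, 0, 1, 0]) (.leaf [0, 7685018632, 7686067208, 6613373960, 7, 9, 0])) (.leaf [0, 3, 6, 2375027716, 3322940420, 3331329028, 0])) (.node (.leaf [0, 1242564610, 1243613186, 3, 1, 247464962, 0]) (.leaf [0, 3298821125, 4, 7, 4397731846, 4406120454, 0]))) (.node (.node (.node (.leaf [0, 177210369, 178258945, 179307521, 2, 0, 0]) (.leaf [0, 8767150089, 8768198665, 8769247241, 7696553993, 8, 0])) (.leaf [0, 3373270022, 3, 2376076293, 3323988997, 3332377605, 0])) (.node (.leaf [0, 4, 5, 2, 1311770627, 2259683331, 0]) (.leaf [0, 5529145351, 4456452103, 6, 8, 6554653703, 0]))))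
  mm := [[1, 2, 3, 2, 2, 2, 2], [2, 1, 2, 3, 2, 2, 2], [3, 2, 1, 3, 2, 2, 2], [2, 3, 3, 1, 3, 2, 2], [2, 2, 2, 3, 1, 3, 2], [2, 2, 2, 2, 3, 1, 3], [2, 2, 2, 2, 2, 3, 1]]
  b := [0, 0, 0, 0, 0, 1, 0]
  vecs := (.node (.node (.node (.node (.leaf [0, 0, 0, 0, 0, 1, 0]) (.leaf [1, 0, 0, 0, (-1), 1, 1])) (.leaf [0, (-1), 1, 0, 0, 0, 1])) (.node (.leaf [0, 0, 0, 1, (-1), 0, 1]) (.leaf [1, (-1), (-1), 1, 0, 0, 1]))) (.node (.node (.node (.leaf [0, 0, 0, 0, 1, (-1), 1]) (.leaf [1, 0, 0, 0, 0, (-1), 2])) (.leaf [1, 1, (-1), 0, 0, 0, 1])) (.node (.leaf [0, 1, 1, (-1), 0, 0, 1]) (.leaf [1, 0, 0, (-1), 1, 0, 1]))))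
  prt := (.node (.node (.node (.node (.leaf 0) (.leaf 60)) (.leaf 25)) (.node (.leaf 12) (.leaf 34))) (.node (.node (.node (.leaf 5) (.leaf 69)) (.leaf 26)) (.node (.leaf 19) (.leaf 51))))

theorem certE7_2_UB : certE7_2.checkUB = true := by decide +kernel

theorem certE7_2_LB : certE7_2.checkLB 7 = true := by decide +kernel

theorem certE7_2_mat : MatOK CoxeterMatrix.E₇ certE7_2 :=
  matOK_of_check _ (by decide +kernel)

end Cfsg.Agent.Helper14.Cox
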