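import Cfsg.Agent.Helper14.CoxD

set_option autoImplicit false
set_option maxRecDepth 1000000
set_option maxHeartbeats 0

namespace Cfsg.Agent.Helper14.Cox

def certE7_3 : Cert where
  J := [1, 2, 3, 4]
  J' := [1, 2, 3]
  N := 8
  reps := (.node (.node (.node (.leaf []) (.leaf [2, 3, 4])) (.node (.leaf [3, 4]) (.leaf [3, 2, 1, 3, 4]))) (.node (.node (.leaf [4]) (.leaf [2, 1, 3, 4])) (.node (.leaf [1, 3, 4]) (.leaf [4, 3, 2, 1, 3, 4]))))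
  E := (.node (.node (.node (.leaf [0, 0, 0, 0, 1, 0, 0]) (.leaf [0, 2299528197, 2, 1302333444, 2250246148, 0, 0])) (.node (.leaf [0, 3, 4, 1, 238027778, 0, 0]) (.leaf [0, 4455402502, 3382709254, 5, 7, 0, 0]))) (.node (.node (.leaf [0, 168821761, 169870337, 2, 0, 0, 0]) (.leaf [0, 2225079300, 3, 6, 3323988997, 0, 0])) (.node (.leaf [0, 2, 5, 1301284867, 2249197571, 0, 0]) (.leaf [0, 6611275783, 6612324359, 5539631111, 6, 0, 0]))))
  mm := [[1, 2, 3, 2, 2, 2, 2], [2, 1, 2, 3, 2, 2, 2], [3, 2, 1, 3, 2, 2, 2], [2, 3, 3, 1, 3, 2, 2], [2, 2, 2, 3, 1, 3, 2], [2, 2, 2, 2, 3, 1, 3], [2, 2, 2, 2, 2, 3, 1]]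
  b := [0, 0, 0, 0, 1, 0, 0]
  vecs := (.node (.node (.node (.leaf [0, 0, 0, 0, 1, 0, 0]) (.leaf [1, 1, (-1), 0, 0, 1, 0])) (.node (.leaf [0, 1, 1, (-1), 0, 1, 0]) (.leaf [1, 0, 0, (-1), 1, 1, 0]))) (.node (.node (.leaf [0, 0, 0, 1, (-1), 1, 0]) (.leaf [1, (-1), (-1), 1, 0, 1, 0])) (.node (.leaf [0, (-1), 1, 0, 0, 1, 0]) (.leaf [1, 0, 0, 0, (-1), 2, 0]))))
  prt := (.node (.node (.node (.leaf 0) (.leaf 18)) (.node (.leaf 11) (.leaf 43))) (.node (.node (.leaf 4) (.leaf 26)) (.node (.leaf 17) (.leaf 52))))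

theorem certE7_3_UB : certE7_3.checkUB = true := by decide +kernel

theorem certE7_3_LB : certE7_3.checkLB 7 = true := by decide +kernel

theorem certE7_3_mat : MatOK CoxeterMatrix.E₇ certE7_3 :=
  matOK_of_check _ (by decide +kernel)

end Cfsg.Agent.Helper14.Cox
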