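import Cfsg.Agent.Helper14.CoxD

set_option autoImplicit false
set_option maxRecDepth 1000000
set_option maxHeartbeats 0

namespace Cfsg.Agent.Helper14.Cox

def certE7_4 : Cert where
  J := [1, 2, 3]
  J' := [1, 3]
  N := 4
  reps := (.node (.node (.leaf []) (.leaf [3, 2])) (.node (.leaf [2]) (.leaf [1, 3, 2])))
  E := (.node (.node (.leaf [0, 0, 1, 0, 0, 0, 0]) (.leaf [0, 3, 161481730, 1, 0, 0, 0])) (.node (.leaf [0, 152044545, 0, 2, 0, 0, 0]) (.leaf [0, 2, 2232420355, 1301284867, 0, 0, 0])))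
  mm := [[1, 2, 3, 2, 2, 2, 2], [2, 1, 2, 3, 2, 2, 2], [3, 2, 1, 3, 2, 2, 2], [2, 3, 3, 1, 3, 2, 2], [2, 2, 2, 3, 1, 3, 2], [2, 2, 2, 2, 3, 1, 3], [2, 2, 2, 2, 2, 3, 1]]
  b := [0, 0, 1, 0, 0, 0, 0]
  vecs := (.node (.node (.leaf [0, 0, 1, 0, 0, 0, 0]) (.leaf [1, 1, 0, (-1), 1, 0, 0])) (.node (.leaf [1, 0, (-1), 1, 0, 0, 0]) (.leaf [1, (-1), 0, 0, 1, 0, 0])))
  prt := (.node (.node (.leaf 0) (.leaf 11)) (.node (.leaf 2) (.leaf 17)))

theorem certE7_4_UB : certE7_4.checkUB = true := by decide +kernel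

theorem certE7_4_LB : certE7_4.checkLB 7 = true := by decide +kernel

theorem certE7_4_mat : MatOK CoxeterMatrix.E₇ certE7_4 :=
  matOK_of_check _ (by decide +kernel)

end Cfsg.Agent.Helper14.Cox
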