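import Cfsg.Agent.Helper14.CoxE70
import Cfsg.Agent.Helper14.CoxE71
import Cfsg.Agent.Helper14.CoxE72
import Cfsg.Agent.Helper14.CoxE73
import Cfsg.Agent.Helper14.CoxE74
import Cfsg.Agent.Helper14.CoxE75
import Cfsg.Agent.Helper14.CoxE76

set_option autoImplicit false
set_option maxRecDepth 1000000

namespace Cfsg.Agent.Helper14.Cox

theorem relE7 : RelOK CoxeterMatrix.E₇ := by
  unfold RelOK
  decide +kernel

/-- the canonical Coxeter system -/
noncomputable abbrev csE7 := (CoxeterMatrix.E₇).toCoxeterSystem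

theorem chainE7 :
    (Finite (par csE7 certE7_0.J) ∧ Nat.card (par csE7 certE7_0.J) = 2903040) ∧
    (Finite (par csE7 certE7_1.J) ∧ Nat.card (par csE7 certE7_1.J) = 51840) ∧
    (Finite (par csE7 certE7_2.J) ∧ Nat.card (par csE7 certE7_2.J) = 1920) ∧
    (Finite (par csE7 certE7_3.J) ∧ Nat.card (par csE7 certE7_3.J) = 192) ∧
    (Finite (par csE7 certE7_4.J) ∧ Nat.card (par csE7 certE7_4.J) = 24) ∧
    (Finite (par csE7 certE7_5.J) ∧ Nat.card (par csE7 certE7_5.J) = 6) ∧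
    (Finite (par csE7 certE7_6.J) ∧ Nat.card (par csE7 certE7_6.J) = 2) := by
  have e : par csE7 certE7_6.J' = ⊥ := par_nil _
  have f7 : Finite (par csE7 certE7_6.J') := by rw [e]; infer_instance
  have c7 : Nat.card (par csE7 certE7_6.J') = 1 := by rw [e]; exact Subgroup.card_bot
  obtain ⟨g6, d6⟩ := @step _ _ _ _ csE7 relE7 certE7_6 certE7_6_mat certE7_6_UB certE7_6_LB f7
  have e6 : Nat.card (par csE7 certE7_6.J) = 2 := d6.trans (by rw [c7]; rfl)
  have f6 : Finite (par csE7 certE7_5.J') := g6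
  have c6 : Nat.card (par csE7 certE7_5.J') = 2 := e6
  obtain ⟨g5, d5⟩ := @step _ _ _ _ csE7 relE7 certE7_5 certE7_5_mat certE7_5_UB certE7_5_LB f6
  have e5 : Nat.card (par csE7 certE7_5.J) = 6 := d5.trans (by rw [c6]; rfl)
  have f5 : Finite (par csE7 certE7_4.J') := g5
  have c5 : Nat.card (par csE7 certE7_4.J') = 6 := e5
  obtain ⟨g4, d4⟩ := @step _ _ _ _ csE7 relE7 certE7_4 certE7_4_mat certE7_4_UB certE7_4_LB f5
  have e4 : Nat.card (par csE7 certE7_4.J) = 24 := d4.trans (by rw [c5]; rfl)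
  have f4 : Finite (par csE7 certE7_3.J') := g4
  have c4 : Nat.card (par csE7 certE7_3.J') = 24 := e4
  obtain ⟨g3, d3⟩ := @step _ _ _ _ csE7 relE7 certE7_3 certE7_3_mat certE7_3_UB certE7_3_LB f4
  have e3 : Nat.card (par csE7 certE7_3.J) = 192 := d3.trans (by rw [c4]; rfl)
  have f3 : Finite (par csE7 certE7_2.J') := g3
  have c3 : Nat.card (par csE7 certE7_2.J') = 192 := e3
  obtain ⟨g2, d2⟩ := @step _ _ _ _ csE7 relE7 certE7_2 certE7_2_mat certE7_2_UB certE7_2_LB f3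
  have e2 : Nat.card (par csE7 certE7_2.J) = 1920 := d2.trans (by rw [c3]; rfl)
  have f2 : Finite (par csE7 certE7_1.J') := g2
  have c2 : Nat.card (par csE7 certE7_1.J') = 1920 := e2
  obtain ⟨g1, d1⟩ := @step _ _ _ _ csE7 relE7 certE7_1 certE7_1_mat certE7_1_UB certE7_1_LB f2
  have e1 : Nat.card (par csE7 certE7_1.J) = 51840 := d1.trans (by rw [c2]; rfl)
  have f1 : Finite (par csE7 certE7_0.J') := g1
  have c1 : Nat.card (par csE7 certE7_0.J') = 51840 := e1
  obtain ⟨g0, d0⟩ := @step _ _ _ _ csE7 relE7 certE7_0 certE7_0_mat certE7_0_UB certE7_0_LB f1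
  have e0 : Nat.card (par csE7 certE7_0.J) = 2903040 := d0.trans (by rw [c1]; rfl)
  exact ⟨⟨g0, e0⟩, ⟨g1, e1⟩, ⟨g2, e2⟩, ⟨g3, e3⟩, ⟨g4, e4⟩, ⟨g5, e5⟩, ⟨g6, e6⟩⟩

theorem topE7 : par csE7 certE7_0.J = ⊤ := par_range _

theorem finiteE7 : Finite (CoxeterMatrix.E₇).Group := by
  have h := chainE7.1.1
  rw [topE7] at h
  exact Finite.of_equiv _ Subgroup.topEquiv.toEquiv

theorem cardE7 : Nat.card (CoxeterMatrix.E₇).Group = 2903040 := by
  have h := chainE7.1.2
  rw [topE7, Subgroup.card_top] at h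
  exact h

end Cfsg.Agent.Helper14.Cox
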