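import Cfsg.Agent.Helper14.CoxD

set_option autoImplicit false
set_option maxRecDepth 1000000
set_option maxHeartbeats 0

namespace Cfsg.Agent.Helper14.Cox

def certE8_2 : Cert where
  J := [0, 1, 2, 3, 4, 5]
  J' := [1, 2, 3, 4, 5]
  N := 27
  reps := (.node (.node (.node (.node (.node (.leaf []) (.leaf [4, 5, 2, 3, 4, 1, 3, 2, 0])) (.node (.leaf [3, 4, 1, 3, 2, 0]) (.leaf [3, 2, 1, 3, 4, 5, 0, 2, 3, 4, 1, 3, 2, 0]))) (.node (.node (.leaf [1, 3, 2, 0]) (.leaf [1, 3, 4, 5, 2, 3, 4, 1, 3, 2, 0])) (.leaf [0, 2, 3, 4, 1, 3, 2, 0]))) (.node (.node (.node (.leaf [2, 0]) (.leaf [3, 4, 5, 2, 3, 4, 1, 3, 2, 0])) (.node (.leaf [2, 3, 4, 1, 3, 2, 0]) (.leaf [5, 4, 3, 2, 1, 3, 4, 5, 0, 2, 3, 4, 1, 3, 2, 0]))) (.node (.node (.leaf [4, 1, 3, 2, 0]) (.leaf [2, 3, 4, 5, 0, 2, 3, 4, 1, 3, 2, 0])) (.leaf [4, 5, 3, 4, 1, 3, 2, 0])))) (.node (.node (.node (.node (.leaf [0]) (.leaf [4, 5, 0, 2,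 3, 4, 1, 3, 2, 0])) (.node (.leaf [5, 4, 1, 3, 2, 0]) (.leaf [4, 3, 2, 1, 3, 4, 5, 0, 2, 3, 4, 1, 3, 2, 0]))) (.node (.node (.leaf [4, 3, 2, 0]) (.leaf [1, 3, 4, 5, 0, 2, 3, 4, 1, 3, 2, 0])) (.leaf [5, 2, 3, 4, 1, 3, 2, 0]))) (.node (.node (.node (.leaf [3, 2, 0]) (.leaf [3, 4, 5, 0, 2, 3, 4, 1, 3, 2, 0])) (.leaf [5, 3, 4, 1, 3, 2, 0])) (.node (.node (.leaf [5, 4, 3, 2, 0]) (.leaf [2, 1, 3, 4, 5, 0, 2, 3, 4, 1, 3, 2, 0])) (.leaf [5, 0, 2, 3, 4, 1, 3, 2, 0])))))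
  E := (.node (.node (.node (.node (.node (.leaf [1, 0, 0, 0, 0, 0, 0, 0]) (.leaf [14126417937, 14127471632, 11899242510, 18, 13, 10984888336, 0, 0])) (.node (.leaf [6601839624, 5529145352, 10, 6, 4532998152, 11, 0, 0]) (.leaf [24855455768, 23782762520, 22710069272, 23, 25, 24808270872, 0, 0]))) (.node (.node (.leaf [3363834884, 3, 3306163204, 2375027716, 6, 3331330052, 0, 0]) (.leaf [19469963285, 18, 19412295700, 17407418388, 19429072916, 19437461524, 0, 0])) (.leaf [10, 10812921868, 8808044556, 10829699084, 10838087692, 15, 0, 0]))) (.node (.node (.node (.leaf [150995970, 1225787394, 1, 3, 1176504322, 1184892930, 0, 0]) (.leaf [17339255827, 20, 15193873426, 16, 14196677650, 17292074002, 0, 0])) (.node (.leaf [12, 8741983242, 8, 6671045642, 8692700170, 13, 0, 0]) (.leaf [27019718682, 27020767258, 27021815834, 27022864410, 25950171162, 25, 0, 0]))) (.node (.node (.leaf [4462743558,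 3300918277, 4464840710, 8, 4, 9, 0, 0]) (.leaf [19478355990, 20553139223, 19, 18482209814, 20503864342, 20512252950, 0, 0])) (.leaf [11978939406, 11979986958, 11981031440, 9834600462, 11, 8837403662, 0, 0])))) (.node (.node (.node (.node (.leaf [0, 75498497, 2, 92275713, 100664321, 109052929, 0, 0]) (.leaf [14029948944, 16274956305, 15250497553, 19, 15, 13132373009, 0, 0])) (.node (.leaf [6618616841, 5449451527, 6620713993, 6621758475, 4475327497, 6, 0, 0]) (.leaf [25937587225, 25938635801, 25939684377, 24866991129, 24, 26, 0, 0]))) (.node (.node (.leaf [3389000709, 3390047238, 3391097861, 2318404613, 3, 7, 0, 0]) (.leaf [19395514388, 19, 23, 18481161237, 20502815765, 20511204373, 0, 0])) (.leaf [10913580047, 10914633741, 8679064587, 9892272141, 16, 10, 0, 0]))) (.node (.node (.node (.leaf [2306869251, 4, 1235224579, 2, 5, 2259684355, 0, 0]) (.leaf [17250126866, 21, 22, 17,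 16344162323, 18365816851, 0, 0])) (.leaf [8766101515, 7676630027, 8768193549, 6539969545, 14, 8, 0, 0])) (.node (.node (.leaf [5544873991, 5545920521, 5546971143, 5548019719, 3401584647, 5, 0, 0]) (.leaf [21625840663, 20478690326, 21, 24, 22651349015, 22659737623, 0, 0])) (.leaf [10809771021, 13062118415, 12029271055, 13064215567, 17, 12, 0, 0])))))
  mm := [[1, 2, 3, 2, 2, 2, 2, 2], [2, 1, 2, 3, 2, 2, 2, 2], [3, 2, 1, 3, 2, 2, 2, 2], [2, 3, 3, 1, 3, 2, 2, 2], [2, 2, 2, 3, 1, 3, 2, 2], [2, 2, 2, 2, 3, 1, 3, 2], [2, 2, 2, 2, 2, 3, 1, 3], [2, 2, 2, 2, 2, 2, 3, 1]]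
  b := [1, 0, 0, 0, 0, 0, 0, 0]
  vecs := (.node (.node (.node (.node (.node (.leaf [1, 0, 0, 0, 0, 0, 0, 0]) (.leaf [1, 0, (-1), 1, (-1), 0, 1, 0])) (.node (.leaf [0, 0, 1, (-1), 0, 1, 0, 0]) (.leaf [0, 0, 0, (-1), 1, 0, 1, 0]))) (.node (.node (.leaf [0, (-1), 0, 0, 1, 0, 0, 0]) (.leaf [1, (-1), 0, 0, 0, 0, 1, 0])) (.leaf [(-1), 0, 0, 0, 0, 1, 0, 0]))) (.node (.node (.node (.leaf [0, 0, (-1), 1, 0, 0, 0, 0]) (.leaf [1, 1, 0, (-1), 0, 0, 1, 0])) (.node (.leaf [1, 0, (-1), 0, 0, 1, 0, 0]) (.leaf [0, 0, 0, 0, 0, (-1), 2, 0]))) (.node (.node (.leaf [0, (-1), 0, 1, (-1), 1, 0, 0]) (.leaf [0, 1, (-1), 0, 0, 0, 1, 0])) (.leaf [0, 0, 1, 0, (-1), 0, 1, 0])))) (.node (.node (.node (.node (.leaf [(-1), 0, 1, 0, 0, 0, 0, 0]) (.leaf [(-1), 0, 0, 1, (-1), 0, 1, 0])) (.node (.leaf [0, (-1), 0, 1, 0, (-1), 1, 0]) (.leaf [0, 0, 0, 0, (-1), 1, 1, 0]))) (.node (.node (.leaf [0, 1, 0, 0, (-1),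 1, 0, 0]) (.leaf [(-1), (-1), 1, 0, 0, 0, 1, 0])) (.leaf [1, 0, (-1), 0, 1, (-1), 1, 0]))) (.node (.node (.node (.leaf [0, 1, 0, (-1), 1, 0, 0, 0]) (.leaf [(-1), 1, 1, (-1), 0, 0, 1, 0])) (.leaf [0, 0, 1, (-1), 1, (-1), 1, 0])) (.node (.node (.leaf [0, 1, 0, 0, 0, (-1), 1, 0]) (.leaf [0, (-1), (-1), 1, 0, 0, 1, 0])) (.leaf [(-1), 0, 0, 0, 1, (-1), 1, 0])))))
  prt := (.node (.node (.node (.node (.node (.leaf 0) (.leaf 108)) (.node (.leaf 51) (.leaf 187))) (.node (.node (.leaf 25) (.leaf 145)) (.leaf 80))) (.node (.node (.node (.leaf 10) (.leaf 131)) (.node (.leaf 66) (.leaf 205))) (.node (.node (.leaf 36) (.leaf 154)) (.leaf 92)))) (.node (.node (.node (.node (.leaf 0) (.leaf 124)) (.node (.leaf 53) (.leaf 196))) (.node (.node (.leaf 28) (.leaf 153)) (.leaf 85))) (.node (.node (.node (.leaf 19) (.leaf 139)) (.leaf 69)) (.node (.node (.leaf 45) (.leaf 170)) (.leaf 101)))))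

theorem certE8_2_UB : certE8_2.checkUB = true := by decide +kernel

theorem certE8_2_LB : certE8_2.checkLB 8 = true := by decide +kernel

theorem certE8_2_mat : MatOK CoxeterMatrix.E₈ certE8_2 :=
  matOK_of_check _ (by decide +kernel)

end Cfsg.Agent.Helper14.Cox
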