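import Cfsg.Agent.Helper14.CoxD

set_option autoImplicit false
set_option maxRecDepth 1000000
set_option maxHeartbeats 0

namespace Cfsg.Agent.Helper14.Cox

def certE8_3 : Cert where
  J := [1, 2, 3, 4, 5]
  J' := [1, 2, 3, 4]
  N := 10
  reps := (.node (.node (.node (.node (.leaf []) (.leaf [4, 3, 2, 1, 3, 4, 5])) (.leaf [1, 3, 4, 5])) (.node (.leaf [4, 5]) (.leaf [2, 1, 3, 4, 5]))) (.node (.node (.node (.leaf [5]) (.leaf [5, 4, 3, 2, 1, 3, 4, 5])) (.leaf [2, 3, 4, 5])) (.node (.leaf [3, 4, 5]) (.leaf [3, 2, 1, 3, 4, 5]))))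
  E := (.node (.node (.node (.node (.leaf [0, 0, 0, 0, 0, 1, 0, 0]) (.leaf [0, 7685018632, 7686067208, 6613373960, 7, 9, 0, 0])) (.leaf [0, 3, 6, 2375027716, 3322940420, 3331329028, 0, 0])) (.node (.leaf [0, 1242564610, 1243613186, 3, 1, 247464962, 0, 0]) (.leaf [0, 3298821125, 4, 7, 4397731846, 4406120454, 0, 0]))) (.node (.node (.node (.leaf [0, 177210369, 178258945, 179307521, 2, 0, 0, 0]) (.leaf [0, 8767150089, 8768198665, 8769247241, 7696553993, 8, 0, 0])) (.leaf [0, 3373270022, 3, 2376076293, 3323988997, 3332377605, 0, 0])) (.node (.leaf [0, 4, 5, 2, 1311770627, 2259683331, 0, 0]) (.leaf [0, 5529145351, 4456452103, 6, 8, 6554653703, 0, 0]))))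
  mm := [[1, 2, 3, 2, 2, 2, 2, 2], [2, 1, 2, 3, 2, 2, 2, 2], [3, 2, 1, 3, 2, 2, 2, 2], [2, 3, 3, 1, 3, 2, 2, 2], [2, 2, 2, 3, 1, 3, 2, 2], [2, 2, 2, 2, 3, 1, 3, 2], [2, 2, 2, 2, 2, 3, 1, 3], [2, 2, 2, 2, 2, 2, 3, 1]]
  b := [0, 0, 0, 0, 0, 1, 0, 0]
  vecs := (.node (.node (.node (.node (.leaf [0, 0, 0, 0, 0, 1, 0, 0]) (.leaf [1, 0, 0, 0, (-1), 1, 1, 0])) (.leaf [0, (-1), 1, 0, 0, 0, 1, 0])) (.node (.leaf [0, 0, 0, 1, (-1), 0, 1, 0]) (.leaf [1, (-1), (-1), 1, 0, 0, 1, 0]))) (.node (.node (.node (.leaf [0, 0, 0, 0, 1, (-1), 1, 0]) (.leaf [1, 0, 0, 0, 0, (-1), 2, 0])) (.leaf [1, 1, (-1), 0, 0, 0, 1, 0])) (.node (.leaf [0, 1, 1, (-1), 0, 0, 1, 0]) (.leaf [1, 0, 0, (-1), 1, 0, 1, 0]))))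
  prt := (.node (.node (.node (.node (.leaf 0) (.leaf 60)) (.leaf 25)) (.node (.leaf 12) (.leaf 34))) (.node (.node (.node (.leaf 5) (.leaf 69)) (.leaf 26)) (.node (.leaf 19) (.leaf 51))))

theorem certE8_3_UB : certE8_3.checkUB = true := by decide +kernel

theorem certE8_3_LB : certE8_3.checkLB 8 = true := by decide +kernel

theorem certE8_3_mat : MatOK CoxeterMatrix.E₈ certE8_3 :=
  matOK_of_check _ (by decide +kernel)

end Cfsg.Agent.Helper14.Cox
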