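import Cfsg.Agent.Helper14.CoxE80
import Cfsg.Agent.Helper14.CoxE81
import Cfsg.Agent.Helper14.CoxE82
import Cfsg.Agent.Helper14.CoxE83
import Cfsg.Agent.Helper14.CoxE84
import Cfsg.Agent.Helper14.CoxE85
import Cfsg.Agent.Helper14.CoxE86
import Cfsg.Agent.Helper14.CoxE87

set_option autoImplicit false
set_option maxRecDepth 1000000

namespace Cfsg.Agent.Helper14.Cox

theorem relE8 : RelOK CoxeterMatrix.E₈ := by
  unfold RelOK
  decide +kernel

/-- the canonical Coxeter system -/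
noncomputable abbrev csE8 := (CoxeterMatrix.E₈).toCoxeterSystem

theorem chainE8 :
    (Finite (par csE8 certE8_0.J) ∧ Nat.card (par csE8 certE8_0.J) = 696729600) ∧
    (Finite (par csE8 certE8_1.J) ∧ Nat.card (par csE8 certE8_1.J) = 2903040) ∧
    (Finite (par csE8 certE8_2.J) ∧ Nat.card (par csE8 certE8_2.J) = 51840) ∧
    (Finite (par csE8 certE8_3.J) ∧ Nat.card (par csE8 certE8_3.J) = 1920) ∧
    (Finite (par csE8 certE8_4.J) ∧ Nat.card (par csE8 certE8_4.J) = 192) ∧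
    (Finite (par csE8 certE8_5.J) ∧ Nat.card (par csE8 certE8_5.J) = 24) ∧
    (Finite (par csE8 certE8_6.J) ∧ Nat.card (par csE8 certE8_6.J) = 6) ∧
    (Finite (par csE8 certE8_7.J) ∧ Nat.card (par csE8 certE8_7.J) = 2) := by
  have e : par csE8 certE8_7.J' = ⊥ := par_nil _
  have f8 : Finite (par csE8 certE8_7.J') := by rw [e]; infer_instance
  have c8 : Nat.card (par csE8 certE8_7.J') = 1 := by rw [e]; exact Subgroup.card_bot
  obtain ⟨g7, d7⟩ := @step _ _ _ _ csE8 relE8 certE8_7 certE8_7_mat certE8_7_UB certE8_7_LB f8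
  have e7 : Nat.card (par csE8 certE8_7.J) = 2 := d7.trans (by rw [c8]; rfl)
  have f7 : Finite (par csE8 certE8_6.J') := g7
  have c7 : Nat.card (par csE8 certE8_6.J') = 2 := e7
  obtain ⟨g6, d6⟩ := @step _ _ _ _ csE8 relE8 certE8_6 certE8_6_mat certE8_6_UB certE8_6_LB f7
  have e6 : Nat.card (par csE8 certE8_6.J) = 6 := d6.trans (by rw [c7]; rfl)
  have f6 : Finite (par csE8 certE8_5.J') := g6
  have c6 : Nat.card (par csE8 certE8_5.J') = 6 := e6
  obtain ⟨g5, d5⟩ := @step _ _ _ _ csE8 relE8 certE8_5 certE8_5_mat certE8_5_UB certE8_5_LB f6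
  have e5 : Nat.card (par csE8 certE8_5.J) = 24 := d5.trans (by rw [c6]; rfl)
  have f5 : Finite (par csE8 certE8_4.J') := g5
  have c5 : Nat.card (par csE8 certE8_4.J') = 24 := e5
  obtain ⟨g4, d4⟩ := @step _ _ _ _ csE8 relE8 certE8_4 certE8_4_mat certE8_4_UB certE8_4_LB f5
  have e4 : Nat.card (par csE8 certE8_4.J) = 192 := d4.trans (by rw [c5]; rfl)
  have f4 : Finite (par csE8 certE8_3.J') := g4
  have c4 : Nat.card (par csE8 certE8_3.J') = 192 := e4
  obtain ⟨g3, d3⟩ := @step _ _ _ _ csE8 relE8 certE8_3 certE8_3_mat certE8_3_UB certE8_3_LB f4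
  have e3 : Nat.card (par csE8 certE8_3.J) = 1920 := d3.trans (by rw [c4]; rfl)
  have f3 : Finite (par csE8 certE8_2.J') := g3
  have c3 : Nat.card (par csE8 certE8_2.J') = 1920 := e3
  obtain ⟨g2, d2⟩ := @step _ _ _ _ csE8 relE8 certE8_2 certE8_2_mat certE8_2_UB certE8_2_LB f3
  have e2 : Nat.card (par csE8 certE8_2.J) = 51840 := d2.trans (by rw [c3]; rfl)
  have f2 : Finite (par csE8 certE8_1.J') := g2
  have c2 : Nat.card (par csE8 certE8_1.J') = 51840 := e2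
  obtain ⟨g1, d1⟩ := @step _ _ _ _ csE8 relE8 certE8_1 certE8_1_mat certE8_1_UB certE8_1_LB f2
  have e1 : Nat.card (par csE8 certE8_1.J) = 2903040 := d1.trans (by rw [c2]; rfl)
  have f1 : Finite (par csE8 certE8_0.J') := g1
  have c1 : Nat.card (par csE8 certE8_0.J') = 2903040 := e1
  obtain ⟨g0, d0⟩ := @step _ _ _ _ csE8 relE8 certE8_0 certE8_0_mat certE8_0_UB certE8_0_LB f1
  have e0 : Nat.card (par csE8 certE8_0.J) = 696729600 := d0.trans (by rw [c1]; rfl)
  exact ⟨⟨g0, e0⟩, ⟨g1, e1⟩, ⟨g2, e2⟩, ⟨g3, e3⟩, ⟨g4, e4⟩, ⟨g5, e5⟩, ⟨g6, e6⟩, ⟨g7, e7⟩⟩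

theorem topE8 : par csE8 certE8_0.J = ⊤ := par_range _

theorem finiteE8 : Finite (CoxeterMatrix.E₈).Group := by
  have h := chainE8.1.1
  rw [topE8] at h
  exact Finite.of_equiv _ Subgroup.topEquiv.toEquiv

theorem cardE8 : Nat.card (CoxeterMatrix.E₈).Group = 696729600 := by
  have h := chainE8.1.2
  rw [topE8, Subgroup.card_top] at h
  exact h

end Cfsg.Agent.Helper14.Cox
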