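import Cfsg.Agent.Helper14.CoxD

set_option autoImplicit false
set_option maxRecDepth 1000000
set_option maxHeartbeats 0

namespace Cfsg.Agent.Helper14.Cox

def certF4_0 : Cert where
  J := [0, 1, 2, 3]
  J' := [0, 1, 2]
  N := 24
  reps := (.node (.node (.node (.node (.node (.leaf []) (.leaf [1, 2, 3, 2, 1, 2, 0, 1, 2, 3])) (.leaf [1, 2, 0, 1, 2, 3])) (.node (.node (.leaf [0, 1, 2, 3]) (.leaf [2, 0, 1, 2, 3, 2, 1, 2, 0, 1, 2, 3])) (.leaf [3, 2, 1, 2, 0, 1, 2, 3]))) (.node (.node (.node (.leaf [2, 3]) (.leaf [0, 1, 2, 3, 2, 1, 2, 0, 1, 2, 3])) (.leaf [2, 1, 2, 0, 1, 2, 3])) (.node (.node (.leaf [2, 0, 1, 2, 3]) (.leaf [2, 1, 2, 0, 1, 2, 3, 2, 1, 2, 0, 1, 2, 3])) (.leaf [2, 3, 2, 1, 2, 0, 1, 2, 3])))) (.node (.node (.node (.node (.leaf [3]) (.leaf [0, 1, 2, 3, 1, 2, 0, 1, 2, 3])) (.leaf [3, 2, 0, 1, 2, 3])) (.node (.node (.leaf [2, 1, 2, 3]) (.leaf [1, 2, 0, 1, 2, 3, 2, 1, 2, 0, 1, 2, 3])) (.leaf [2,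 3, 1, 2, 0, 1, 2, 3]))) (.node (.node (.node (.leaf [1, 2, 3]) (.leaf [2, 1, 2, 3, 2, 1, 2, 0, 1, 2, 3])) (.leaf [3, 1, 2, 0, 1, 2, 3])) (.node (.node (.leaf [3, 2, 1, 2, 3]) (.leaf [3, 2, 1, 2, 0, 1, 2, 3, 2, 1, 2, 0, 1, 2, 3])) (.leaf [1, 2, 3, 1, 2, 0, 1, 2, 3])))))
  E := (.node (.node (.node (.node (.node (.leaf [0, 0, 0, 1]) (.leaf [18, 14, 19, 14051969039])) (.leaf [5511318536, 6, 10, 11])) (.node (.node (.leaf [3, 2357201924, 6, 3313503236]) (.leaf [17249076243, 21, 18, 18482207764])) (.leaf [10896806924, 10897855500, 14, 10]))) (.node (.node (.node (.leaf [1224738818, 3, 1, 228590594]) (.leaf [16, 15242107922, 20, 16198405137])) (.leaf [8740933642, 4581232650, 8, 12])) (.node (.node (.leaf [3290432517, 8, 4, 9]) (.leaf [22699581462, 19613622294, 21, 23])) (.leaf [13035902990, 16, 12, 8744076301])))) (.node (.node (.node (.node (.leaf [159384577, 160433153, 2, 0]) (.leaf [15, 14168365073, 16190019601,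 16243493906])) (.leaf [5438965767, 6602884107, 4456452105, 6])) (.node (.node (.leaf [3372221446, 1360005125, 3, 7]) (.leaf [20543708181, 20, 22, 21568167957])) (.leaf [11962160141, 15, 11, 8818525198]))) (.node (.node (.node (.leaf [4, 2, 5, 2240808963]) (.leaf [17330865172, 13171169299, 16, 16334723091])) (.leaf [7658803211, 6521095177, 13, 8])) (.node (.node (.leaf [5528094729, 5529144327, 3382709255, 5]) (.leaf [23781712919, 23782761495, 22710068247, 22])) (.leaf [17, 13, 9882833935, 14104397840])))))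
  mm := [[1, 3, 2, 2], [3, 1, 4, 2], [2, 4, 1, 3], [2, 2, 3, 1]]
  b := [0, 0, 0, 1]
  vecs := (.node (.node (.node (.node (.node (.leaf [0, 0, 0, 1]) (.leaf [2, (-2), 1, (-1)])) (.leaf [0, (-2), 1, 1])) (.node (.node (.leaf [(-2), 0, 1, 0]) (.leaf [(-2), 2, (-1), 0])) (.leaf [0, 0, 1, (-2)]))) (.node (.node (.node (.leaf [0, 2, (-1), 0]) (.leaf [(-2), 0, 1, (-1)])) (.leaf [0, 0, (-1), 2])) (.node (.node (.leaf [(-2), 2, (-1), 1]) (.leaf [0, 0, (-1), 1])) (.leaf [0, 2, (-1), (-1)])))) (.node (.node (.node (.node (.leaf [0, 0, 1, (-1)]) (.leaf [(-2), 0, 0, 1])) (.leaf [(-2), 2, 0, (-1)])) (.node (.node (.leaf [2, 0, (-1), 1]) (.leaf [0, (-2), 1, 0])) (.leaf [0, 2, (-2), 1]))) (.node (.node (.node (.leaf [2, (-2), 1, 0]) (.leaf [2, 0, (-1), 0])) (.leaf [0, (-2), 2, (-1)])) (.node (.node (.leaf [2, 0, 0, (-1)]) (.leaf [0, 0, 0, (-1)])) (.leaf [2, (-2), 0, 1])))))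
  prt := (.node (.node (.node (.node (.node (.leaf 0) (.leaf 113)) (.leaf 49)) (.node (.node (.leaf 24) (.leaf 146)) (.leaf 83))) (.node (.node (.node (.leaf 10) (.leaf 128)) (.leaf 66)) (.node (.node (.leaf 34) (.leaf 170)) (.leaf 98)))) (.node (.node (.node (.node (.leaf 3) (.leaf 120)) (.leaf 51)) (.node (.node (.leaf 26) (.leaf 161)) (.leaf 90))) (.node (.node (.node (.leaf 17) (.leaf 130)) (.leaf 67)) (.node (.node (.leaf 43) (.leaf 179)) (.leaf 105)))))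

theorem certF4_0_UB : certF4_0.checkUB = true := by decide +kernel

theorem certF4_0_LB : certF4_0.checkLB 4 = true := by decide +kernel

theorem certF4_0_mat : MatOK CoxeterMatrix.F₄ certF4_0 :=
  matOK_of_check _ (by decide +kernel)

end Cfsg.Agent.Helper14.Cox
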