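import Cfsg.Agent.Helper14.CoxD

set_option autoImplicit false
set_option maxRecDepth 1000000
set_option maxHeartbeats 0

namespace Cfsg.Agent.Helper14.Cox

def certF4_1 : Cert where
  J := [0, 1, 2]
  J' := [0, 1]
  N := 8
  reps := (.node (.node (.node (.leaf []) (.leaf [2, 1, 2])) (.node (.leaf [1, 2]) (.leaf [1, 2, 0, 1, 2]))) (.node (.node (.leaf [2]) (.leaf [2, 0, 1, 2])) (.node (.leaf [0, 1, 2]) (.leaf [2, 1, 2, 0, 1, 2]))))
  E := (.node (.node (.node (.leaf [0, 0, 1, 0]) (.leaf [2298479621, 286262276, 2, 0])) (.node (.leaf [3, 1, 4, 0]) (.leaf [4437575686, 5, 7, 0]))) (.node (.node (.leaf [150995969, 2, 0, 0]) (.leaf [2216690692, 6, 3, 0])) (.node (.leaf [2, 1283459075, 5, 0]) (.leaf [6593448967, 3507489799, 6, 0]))))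
  mm := [[1, 3, 2, 2], [3, 1, 4, 2], [2, 4, 1, 3], [2, 2, 3, 1]]
  b := [0, 0, 1, 0]
  vecs := (.node (.node (.node (.leaf [0, 0, 1, 0]) (.leaf [2, 0, (-1), 2])) (.node (.leaf [2, (-2), 1, 1]) (.leaf [0, (-2), 1, 2]))) (.node (.node (.leaf [0, 2, (-1), 1]) (.leaf [(-2), 2, (-1), 2])) (.node (.leaf [(-2), 0, 1, 1]) (.leaf [0, 0, (-1), 3]))))
  prt := (.node (.node (.node (.leaf 0) (.leaf 18)) (.node (.leaf 9) (.leaf 41))) (.node (.node (.leaf 2) (.leaf 26)) (.node (.leaf 16) (.leaf 50))))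

theorem certF4_1_UB : certF4_1.checkUB = true := by decide +kernel

theorem certF4_1_LB : certF4_1.checkLB 4 = true := by decide +kernel

theorem certF4_1_mat : MatOK CoxeterMatrix.F₄ certF4_1 :=
  matOK_of_check _ (by decide +kernel)

end Cfsg.Agent.Helper14.Cox
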