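import Cfsg.Agent.Helper14.CoxF40
import Cfsg.Agent.Helper14.CoxF41
import Cfsg.Agent.Helper14.CoxF42
import Cfsg.Agent.Helper14.CoxF43

set_option autoImplicit false
set_option maxRecDepth 1000000

namespace Cfsg.Agent.Helper14.Cox

theorem relF4 : RelOK CoxeterMatrix.F₄ := by
  unfold RelOK
  decide +kernel

/-- the canonical Coxeter system -/
noncomputable abbrev csF4 := (CoxeterMatrix.F₄).toCoxeterSystem

theorem chainF4 :
    (Finite (par csF4 certF4_0.J) ∧ Nat.card (par csF4 certF4_0.J) = 1152) ∧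
    (Finite (par csF4 certF4_1.J) ∧ Nat.card (par csF4 certF4_1.J) = 48) ∧
    (Finite (par csF4 certF4_2.J) ∧ Nat.card (par csF4 certF4_2.J) = 6) ∧
    (Finite (par csF4 certF4_3.J) ∧ Nat.card (par csF4 certF4_3.J) = 2) := by
  have e : par csF4 certF4_3.J' = ⊥ := par_nil _
  have f4 : Finite (par csF4 certF4_3.J') := by rw [e]; infer_instance
  have c4 : Nat.card (par csF4 certF4_3.J') = 1 := by rw [e]; exact Subgroup.card_bot
  obtain ⟨g3, d3⟩ := @step _ _ _ _ csF4 relF4 certF4_3 certF4_3_mat certF4_3_UB certF4_3_LB f4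
  have e3 : Nat.card (par csF4 certF4_3.J) = 2 := d3.trans (by rw [c4]; rfl)
  have f3 : Finite (par csF4 certF4_2.J') := g3
  have c3 : Nat.card (par csF4 certF4_2.J') = 2 := e3
  obtain ⟨g2, d2⟩ := @step _ _ _ _ csF4 relF4 certF4_2 certF4_2_mat certF4_2_UB certF4_2_LB f3
  have e2 : Nat.card (par csF4 certF4_2.J) = 6 := d2.trans (by rw [c3]; rfl)
  have f2 : Finite (par csF4 certF4_1.J') := g2
  have c2 : Nat.card (par csF4 certF4_1.J') = 6 := e2
  obtain ⟨g1, d1⟩ := @step _ _ _ _ csF4 relF4 certF4_1 certF4_1_mat certF4_1_UB certF4_1_LB f2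
  have e1 : Nat.card (par csF4 certF4_1.J) = 48 := d1.trans (by rw [c2]; rfl)
  have f1 : Finite (par csF4 certF4_0.J') := g1
  have c1 : Nat.card (par csF4 certF4_0.J') = 48 := e1
  obtain ⟨g0, d0⟩ := @step _ _ _ _ csF4 relF4 certF4_0 certF4_0_mat certF4_0_UB certF4_0_LB f1
  have e0 : Nat.card (par csF4 certF4_0.J) = 1152 := d0.trans (by rw [c1]; rfl)
  exact ⟨⟨g0, e0⟩, ⟨g1, e1⟩, ⟨g2, e2⟩, ⟨g3, e3⟩⟩

theorem topF4 : par csF4 certF4_0.J = ⊤ := par_range _

theorem finiteF4 : Finite (CoxeterMatrix.F₄).Group := by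
  have h := chainF4.1.1
  rw [topF4] at h
  exact Finite.of_equiv _ Subgroup.topEquiv.toEquiv

theorem cardF4 : Nat.card (CoxeterMatrix.F₄).Group = 1152 := by
  have h := chainF4.1.2
  rw [topF4, Subgroup.card_top] at h
  exact h

end Cfsg.Agent.Helper14.Cox
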