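import Cfsg.Agent.Helper14.CoxD

set_option autoImplicit false
set_option maxRecDepth 1000000
set_option maxHeartbeats 0

namespace Cfsg.Agent.Helper14.Cox

def certG2_0 : Cert where
  J := [0, 1]
  J' := [0]
  N := 6
  reps := (.node (.node (.node (.leaf []) (.leaf [0, 1, 0, 1])) (.leaf [0, 1])) (.node (.node (.leaf [1]) (.leaf [1, 0, 1, 0, 1])) (.leaf [1, 0, 1])))
  E := (.node (.node (.node (.leaf [0, 1]) (.leaf [3, 5])) (.leaf [1, 3])) (.node (.node (.leaf [2, 0]) (.leaf [411042821, 4])) (.leaf [4, 2])))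
  mm := [[1, 6], [6, 1]]
  b := [0, 1]
  vecs := (.node (.node (.node (.leaf [0, 1]) (.leaf [(-3), 1])) (.leaf [(-3), 2])) (.node (.node (.leaf [3, (-1)]) (.leaf [0, (-1)])) (.leaf [3, (-2)])))
  prt := (.node (.node (.node (.leaf 0) (.leaf 24)) (.leaf 8)) (.node (.node (.leaf 1) (.leaf 33)) (.leaf 17)))

theorem certG2_0_UB : certG2_0.checkUB = true := by decide +kernel

theorem certG2_0_LB : certG2_0.checkLB 2 = true := by decide +kernel

theorem certG2_0_mat : MatOK CoxeterMatrix.G₂ certG2_0 :=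
  matOK_of_check _ (by decide +kernel)

end Cfsg.Agent.Helper14.Cox
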