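import Cfsg.Agent.Helper14.CoxG20
import Cfsg.Agent.Helper14.CoxG21

set_option autoImplicit false
set_option maxRecDepth 1000000

namespace Cfsg.Agent.Helper14.Cox

theorem relG2 : RelOK CoxeterMatrix.G₂ := by
  unfold RelOK
  decide +kernel

/-- the canonical Coxeter system -/
noncomputable abbrev csG2 := (CoxeterMatrix.G₂).toCoxeterSystem

theorem chainG2 :
    (Finite (par csG2 certG2_0.J) ∧ Nat.card (par csG2 certG2_0.J) = 12) ∧
    (Finite (par csG2 certG2_1.J) ∧ Nat.card (par csG2 certG2_1.J) = 2) := by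
  have e : par csG2 certG2_1.J' = ⊥ := par_nil _
  have f2 : Finite (par csG2 certG2_1.J') := by rw [e]; infer_instance
  have c2 : Nat.card (par csG2 certG2_1.J') = 1 := by rw [e]; exact Subgroup.card_bot
  obtain ⟨g1, d1⟩ := @step _ _ _ _ csG2 relG2 certG2_1 certG2_1_mat certG2_1_UB certG2_1_LB f2
  have e1 : Nat.card (par csG2 certG2_1.J) = 2 := d1.trans (by rw [c2]; rfl)
  have f1 : Finite (par csG2 certG2_0.J') := g1
  have c1 : Nat.card (par csG2 certG2_0.J') = 2 := e1
  obtain ⟨g0, d0⟩ := @step _ _ _ _ csG2 relG2 certG2_0 certG2_0_mat certG2_0_UB certG2_0_LB f1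
  have e0 : Nat.card (par csG2 certG2_0.J) = 12 := d0.trans (by rw [c1]; rfl)
  exact ⟨⟨g0, e0⟩, ⟨g1, e1⟩⟩

theorem topG2 : par csG2 certG2_0.J = ⊤ := par_range _

theorem finiteG2 : Finite (CoxeterMatrix.G₂).Group := by
  have h := chainG2.1.1
  rw [topG2] at h
  exact Finite.of_equiv _ Subgroup.topEquiv.toEquiv

theorem cardG2 : Nat.card (CoxeterMatrix.G₂).Group = 12 := by
  have h := chainG2.1.2
  rw [topG2, Subgroup.card_top] at h
  exact h

end Cfsg.Agent.Helper14.Cox
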