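import Cfsg.Agent.Helper14.CoxC

set_option autoImplicit false

namespace Cfsg.Agent.Helper14.Cox

/-- generator alphabet: `0 ↦ c`, `1 ↦ a`, anything else `↦ b` -/
def gen3 {G : Type*} (c a b : G) (j : ℕ) : G := if j = 0 then c else if j = 1 then a else b

section

variable {n : ℕ} {M : CoxeterMatrix (Fin n)} {W : Type*} [Group W] (cs : CoxeterSystem M W)
  (hrel : RelOK M)

theorem rho_gen3_word (c : W) (C : Matrix (Fin n) (Fin n) ℤ) (hC : rho cs hrel c = C)
    (t1 t2 : Fin n) (l : List ℕ) :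
    rho cs hrel ((l.map (gen3 c (cs.simple t1) (cs.simple t2))).prod) =
      (l.map (gen3 C (sref M t1) (sref M t2))).prod := by
  rw [map_list_prod, List.map_map]
  congr 1
  apply List.map_congr_left
  intro j _
  simp only [Function.comp, gen3]
  split_ifs
  · exact hC
  · exact rho_simple cs hrel t1
  · exact rho_simple cs hrel t2

theorem gen3_word_mem (H : Subgroup W) (c a b : W) (hc : c ∈ H) (ha : a ∈ H) (hb : b ∈ H)
    (l : List ℕ) : (l.map (gen3 c a b)).prod ∈ H := by
  apply Subgroup.list_prod_mem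
  intro x hx
  obtain ⟨j, _, rfl⟩ := List.mem_map.mp hx
  unfold gen3
  split_ifs
  · exact hc
  · exact ha
  · exact hb

/-- if `s_i w = w s_{t0}` for a word `w` in `c, s_{t1}, s_{t2}` (checked on matrices), and
`c, s_{t0}, s_{t1}, s_{t2} ∈ H`, then `s_i ∈ H`. -/
theorem simple_mem_of_conj_word (hinj : Function.Injective (rho cs hrel)) (H : Subgroup W)
    (c : W) (C : Matrix (Fin n) (Fin n) ℤ) (hC : rho cs hrel c = C) (t1 t2 : Fin n)
    (hc : c ∈ H) (h1 : cs.simple t1 ∈ H) (h2 : cs.simple t2 ∈ H) (i t0 : Fin n)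
    (ht0 : cs.simple t0 ∈ H) (l : List ℕ)
    (hchk : sref M i * (l.map (gen3 C (sref M t1) (sref M t2))).prod =
      (l.map (gen3 C (sref M t1) (sref M t2))).prod * sref M t0) : cs.simple i ∈ H := by
  set w := (l.map (gen3 c (cs.simple t1) (cs.simple t2))).prod with hw
  have hwH : w ∈ H := gen3_word_mem H c _ _ hc h1 h2 l
  have hrw : rho cs hrel w = (l.map (gen3 C (sref M t1) (sref M t2))).prod :=
    rho_gen3_word cs hrel c C hC t1 t2 l
  have heq : cs.simple i * w = w * cs.simple t0 := by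
    apply hinj
    rw [map_mul, map_mul, hrw, rho_simple, rho_simple]
    exact hchk
  have : cs.simple i = w * cs.simple t0 * w⁻¹ := by
    rw [← heq, mul_inv_cancel_right]
  rw [this]
  exact H.mul_mem (H.mul_mem hwH ht0) (H.inv_mem hwH)

/-- if `s_i = w` for a word `w` in `c, s_{t1}, s_{t2}` (checked on matrices), and
`c, s_{t1}, s_{t2} ∈ H`, then `s_i ∈ H`. -/
theorem simple_mem_of_word (hinj : Function.Injective (rho cs hrel)) (H : Subgroup W)
    (c : W) (C : Matrix (Fin n) (Fin n) ℤ) (hC : rho cs hrel c = C) (t1 t2 : Fin n)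
    (hc : c ∈ H) (h1 : cs.simple t1 ∈ H) (h2 : cs.simple t2 ∈ H) (i : Fin n) (l : List ℕ)
    (hchk : sref M i = (l.map (gen3 C (sref M t1) (sref M t2))).prod) : cs.simple i ∈ H := by
  have hwH := gen3_word_mem H c _ _ hc h1 h2 l
  have hrw := rho_gen3_word cs hrel c C hC t1 t2 l
  have : cs.simple i = (l.map (gen3 c (cs.simple t1) (cs.simple t2))).prod := by
    apply hinj
    rw [hrw, rho_simple]
    exact hchk
  rw [this]
  exact hwH

theorem eq_top_of_simple_mem (H : Subgroup W) (h : ∀ i, cs.simple i ∈ H) : H = ⊤ := by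
  rw [eq_top_iff, ← cs.subgroup_closure_range_simple, Subgroup.closure_le]
  rintro w ⟨i, rfl⟩
  exact h i

theorem simple_ne_of_sref_ne (hrel' : RelOK M) {i j : Fin n} (h : sref M i ≠ sref M j) :
    cs.simple i ≠ cs.simple j := by
  intro e
  have hrel := hrel'
  apply h
  rw [← rho_simple cs hrel i, ← rho_simple cs hrel j, e]

end

end Cfsg.Agent.Helper14.Cox
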