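import Cfsg.Agent.Helper14.CoxE8Inj
import Cfsg.Agent.Helper14.CoxGen

set_option autoImplicit false
set_option maxRecDepth 1000000

namespace Cfsg.Agent.Helper14.Cox

theorem genE8 (H : Subgroup (CoxeterMatrix.E₈).Group)
    (hc : ((List.finRange 8).map (CoxeterMatrix.E₈).simple).prod ∈ H)
    (h1 : (CoxeterMatrix.E₈).simple 0 ∈ H) (h2 : (CoxeterMatrix.E₈).simple 0 ∈ H) : H = ⊤ := by
  apply eq_top_of_simple_mem csE8
  have key := simple_mem_of_conj_word csE8 relE8 rho_injE8 H _ coxMatE8 rho_coxE8 0 0 hc h1 h2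
  have key2 := simple_mem_of_word csE8 relE8 rho_injE8 H _ coxMatE8 rho_coxE8 0 0 hc h1 h2
  intro i
  fin_cases i
  · exact h1
  · exact key 1 0 h1 [0, 0, 1, 0, 0, 1, 0, 0, 0, 1] (by decide +kernel)
  · exact key 2 0 h1 [0] (by decide +kernel)
  · exact key 3 0 h1 [0, 0, 0, 0, 1, 0, 0, 0] (by decide +kernel)
  · exact key 4 0 h1 [0, 0, 0, 0, 0, 1, 0, 0, 0] (by decide +kernel)
  · exact key 5 0 h1 [0, 0, 0, 0, 0, 0, 1, 0, 0, 0] (by decide +kernel)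
  · exact key 6 0 h1 [0, 0, 0, 0, 0, 0, 0, 1, 0, 0, 0] (by decide +kernel)
  · exact key 7 0 h1 [0, 0, 0, 0, 0, 0, 0, 0, 1, 0, 0, 0] (by decide +kernel)

end Cfsg.Agent.Helper14.Cox
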