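import Cfsg.Agent.Helper14.CoxF4Inj
import Cfsg.Agent.Helper14.CoxGen

set_option autoImplicit false
set_option maxRecDepth 1000000

namespace Cfsg.Agent.Helper14.Cox

theorem genF4 (H : Subgroup (CoxeterMatrix.F₄).Group)
    (hc : ((List.finRange 4).map (CoxeterMatrix.F₄).simple).prod ∈ H)
    (h1 : (CoxeterMatrix.F₄).simple 0 ∈ H) (h2 : (CoxeterMatrix.F₄).simple 2 ∈ H) : H = ⊤ := by
  apply eq_top_of_simple_mem csF4
  have key := simple_mem_of_conj_word csF4 relF4 rho_injF4 H _ coxMatF4 rho_coxF4 0 2 hc h1 h2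
  have key2 := simple_mem_of_word csF4 relF4 rho_injF4 H _ coxMatF4 rho_coxF4 0 2 hc h1 h2
  intro i
  fin_cases i
  · exact h1
  · exact key 1 0 h1 [0] (by decide +kernel)
  · exact h2
  · exact key 3 2 h2 [0] (by decide +kernel)

end Cfsg.Agent.Helper14.Cox
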