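import Cfsg.Agent.Helper14.CoxG2Inj
import Cfsg.Agent.Helper14.CoxGen

set_option autoImplicit false
set_option maxRecDepth 1000000

namespace Cfsg.Agent.Helper14.Cox

theorem genG2 (H : Subgroup (CoxeterMatrix.G₂).Group)
    (hc : ((List.finRange 2).map (CoxeterMatrix.G₂).simple).prod ∈ H)
    (h1 : (CoxeterMatrix.G₂).simple 0 ∈ H) (h2 : (CoxeterMatrix.G₂).simple 0 ∈ H) : H = ⊤ := by
  apply eq_top_of_simple_mem csG2
  have key := simple_mem_of_conj_word csG2 relG2 rho_injG2 H _ coxMatG2 rho_coxG2 0 0 hc h1 h2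
  have key2 := simple_mem_of_word csG2 relG2 rho_injG2 H _ coxMatG2 rho_coxG2 0 0 hc h1 h2
  intro i
  fin_cases i
  · exact h1
  · exact key2 1 [1, 0] (by decide +kernel)

end Cfsg.Agent.Helper14.Cox
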