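import Cfsg.Agent.Helper14.DihedralInv2
import Cfsg.Agent.Helper14.PCore

set_option autoImplicit false
set_option linter.unusedSectionVars false
set_option linter.style.haveILetI false

namespace Cfsg.Agent.Helper14

open Cfsg

section DihQuot

theorem zmod_two_mul_eq_zero {r : ℕ} [Fact r.Prime] (hr : r ≠ 2) (k : ZMod r)
    (h : (2 : ZMod r) * k = 0) : k = 0 := by
  have hpp : r.Prime := Fact.out
  rcases mul_eq_zero.1 h with h5 | h5
  · have : ((2 : ℕ) : ZMod r) = 0 := by exact_mod_cast h5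
    rw [ZMod.natCast_eq_zero_iff] at this
    exact absurd ((Nat.prime_dvd_prime_iff_eq hpp Nat.prime_two).1 this) hr
  · exact h5

variable {G : Type*} [Group G] [Finite G] {r : ℕ} [Fact r.Prime]

/-- Hypotheses bundle. -/
structure DihQuotData (r : ℕ) [Fact r.Prime] (Q : Subgroup G) (R : Sylow r G) where
  hr : r ≠ 2
  normal : Q.Normal
  two : IsPGroup 2 ↥Q
  φ : G →* DihedralGroup r
  surj : Function.Surjective φ
  ker : φ.ker = Q
  cent : Q ⊓ Subgroup.centralizer ((R : Subgroup G) : Set G) = ⊥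

namespace DihQuotData

variable {Q : Subgroup G} {R : Sylow r G} (D : DihQuotData r Q R)

include D

theorem mem_Q_iff (x : G) : x ∈ Q ↔ D.φ x = 1 := by
  constructor
  · intro h
    have : x ∈ D.φ.ker := by rw [D.ker]; exact h
    exact MonoidHom.mem_ker.1 this
  · intro h
    have : x ∈ D.φ.ker := MonoidHom.mem_ker.2 h
    rwa [D.ker] at this

theorem disj : ∀ x, x ∈ (R : Subgroup G) → x ∈ Q → x = 1 := by
  intro x hxR hxQ
  have := IsPGroup.disjoint_of_ne r 2 D.hr (R : Subgroup G) Q R.2 D.two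
  exact Subgroup.disjoint_def.1 this hxR hxQ

theorem phi_rot (x : G) (hx : x ∈ (R : Subgroup G)) : ∃ k, D.φ x = DihedralGroup.r k := by
  have hpp : r.Prime := Fact.out
  rcases h : D.φ x with k | i
  · exact ⟨k, rfl⟩
  · exfalso
    obtain ⟨n, hn⟩ := R.2 ⟨x, hx⟩
    have h1 : x ^ r ^ n = 1 := by
      have := congrArg Subtype.val hn
      simpa using this
    have h2 : (D.φ x) ^ r ^ n = 1 := by rw [← map_pow, h1, map_one]
    rw [h] at h2
    have h3 := orderOf_dvd_of_pow_eq_one h2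
    rw [DihedralGroup.orderOf_sr] at h3
    have h4 := Nat.Prime.dvd_of_dvd_pow Nat.prime_two h3
    exact D.hr ((Nat.prime_dvd_prime_iff_eq Nat.prime_two hpp).1 h4).symm

theorem inj_R (x y : G) (hx : x ∈ (R : Subgroup G)) (hy : y ∈ (R : Subgroup G))
    (h : D.φ x = D.φ y) : x = y := by
  have h1 : x⁻¹ * y ∈ Q := by
    rw [D.mem_Q_iff, map_mul, map_inv, h, inv_mul_cancel]
  have := D.disj _ ((R : Subgroup G).mul_mem ((R : Subgroup G).inv_mem hx) hy) h1
  exact (inv_mul_eq_one.1 this)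

theorem normalizer_inf (x : G) (hxN : x ∈ Subgroup.normalizer ((R : Subgroup G) : Set G))
    (hxQ : x ∈ Q) : x = 1 := by
  haveI := D.normal
  have h1 : x ∈ Subgroup.centralizer ((R : Subgroup G) : Set G) := by
    rw [Subgroup.mem_centralizer_iff]
    intro y hy
    have hy' : y ∈ (R : Subgroup G) := hy
    have h2 : x * y * x⁻¹ * y⁻¹ ∈ (R : Subgroup G) :=
      (R : Subgroup G).mul_mem ((Subgroup.mem_normalizer_iff.1 hxN y).1 hy')
        ((R : Subgroup G).inv_mem hy')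
    have h3 : x * y * x⁻¹ * y⁻¹ ∈ Q := by
      have : x * y * x⁻¹ * y⁻¹ = x * (y * x⁻¹ * y⁻¹) := by group
      rw [this]
      exact Q.mul_mem hxQ (D.normal.conj_mem _ (Q.inv_mem hxQ) y)
    have h4 := D.disj _ h2 h3
    have h5 : x * y * x⁻¹ = y := by
      have := mul_inv_eq_one.1 h4
      exact this
    calc y * x = (x * y * x⁻¹) * x := by rw [h5]
      _ = x * y := by group
  have h2 : x ∈ Q ⊓ Subgroup.centralizer ((R : Subgroup G) : Set G) := ⟨hxQ, h1⟩
  rw [D.cent] at h2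
  exact Subgroup.mem_bot.1 h2

theorem inj_N (x y : G) (hx : x ∈ Subgroup.normalizer ((R : Subgroup G) : Set G))
    (hy : y ∈ Subgroup.normalizer ((R : Subgroup G) : Set G))
    (h : D.φ x = D.φ y) : x = y := by
  have h1 : x⁻¹ * y ∈ Q := by
    rw [D.mem_Q_iff, map_mul, map_inv, h, inv_mul_cancel]
  have := D.normalizer_inf _ (Subgroup.mul_mem _ (Subgroup.inv_mem _ hx) hy) h1
  exact (inv_mul_eq_one.1 this)

/-- A nontrivial element of `R` generates `R`: every rotation is the image of a power. -/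
theorem exists_pow_of_rot (ρ : G) (hρ : ρ ∈ (R : Subgroup G)) (hρ1 : ρ ≠ 1) (j : ZMod r) :
    ∃ m : ℕ, D.φ (ρ ^ m) = DihedralGroup.r j := by
  obtain ⟨k, hk⟩ := D.phi_rot ρ hρ
  have hk0 : k ≠ 0 := by
    rintro rfl
    rw [DihedralGroup.r_zero] at hk
    exact hρ1 (D.inj_R ρ 1 hρ (Subgroup.one_mem _) (by rw [hk, map_one]))
  refine ⟨(k⁻¹ * j).val, ?_⟩
  rw [map_pow, hk, DihedralGroup.r_pow, ZMod.natCast_val, ZMod.cast_id', id]
  congr 1
  field_simp

theorem mem_zpowers_of_mem (ρ : G) (hρ : ρ ∈ (R : Subgroup G)) (hρ1 : ρ ≠ 1) (x : G)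
    (hx : x ∈ (R : Subgroup G)) : ∃ m : ℕ, x = ρ ^ m := by
  obtain ⟨j, hj⟩ := D.phi_rot x hx
  obtain ⟨m, hm⟩ := D.exists_pow_of_rot ρ hρ hρ1 j
  exact ⟨m, D.inj_R _ _ hx ((R : Subgroup G).pow_mem hρ m) (by rw [hj, hm])⟩

theorem R_ne_bot : ∃ ρ : G, ρ ∈ (R : Subgroup G) ∧ ρ ≠ 1 := by
  have h1 : r ∣ Nat.card G := by
    have := Subgroup.card_dvd_of_surjective D.φ D.surj
    rw [DihedralGroup.nat_card] at this
    exact (Dvd.intro_left 2 rfl).trans this
  have h2 := R.ne_bot_of_dvd_card h1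
  by_contra hcon
  have hcon : ∀ ρ : G, ρ ∈ (R : Subgroup G) → ρ = 1 := by
    intro ρ hρ
    by_contra h
    exact hcon ⟨ρ, hρ, h⟩
  apply h2
  rw [eq_bot_iff]
  intro x hx
  exact Subgroup.mem_bot.2 (hcon x hx)

theorem map_normalizer :
    (Subgroup.normalizer ((R : Subgroup G) : Set G)).map D.φ = ⊤ := by
  haveI := dihedral_rot_normal r
  obtain ⟨ρ, hρ, hρ1⟩ := D.R_ne_bot
  set C : Subgroup (DihedralGroup r) := Subgroup.zpowers (DihedralGroup.r 1) with hC
  have hRH : (R : Subgroup G) ≤ C.comap D.φ := by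
    intro x hx
    rw [Subgroup.mem_comap, hC, dihedral_mem_rot_iff]
    exact D.phi_rot x hx
  have h1 : Subgroup.normalizer ((R : Subgroup G) : Set G) ⊔ C.comap D.φ = ⊤ :=
    Sylow.normalizer_sup_eq_top' R hRH
  have h2 : (Subgroup.normalizer ((R : Subgroup G) : Set G) ⊔ C.comap D.φ).map D.φ = ⊤ := by
    rw [h1, ← MonoidHom.range_eq_map, MonoidHom.range_eq_top]
    exact D.surj
  rw [Subgroup.map_sup, Subgroup.map_comap_eq_self_of_surjective D.surj] at h2
  have h3 : C ≤ (Subgroup.normalizer ((R : Subgroup G) : Set G)).map D.φ := by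
    intro y hy
    rw [hC, dihedral_mem_rot_iff] at hy
    obtain ⟨j, rfl⟩ := hy
    obtain ⟨m, hm⟩ := D.exists_pow_of_rot ρ hρ hρ1 j
    exact ⟨ρ ^ m, Subgroup.le_normalizer ((R : Subgroup G).pow_mem hρ m), hm⟩
  rwa [sup_of_le_left h3] at h2

theorem nonempty_equiv :
    Nonempty (↥(Subgroup.normalizer ((R : Subgroup G) : Set G)) ≃* DihedralGroup r) := by
  refine ⟨MulEquiv.ofBijective (D.φ.comp (Subgroup.subtype _)) ⟨?_, ?_⟩⟩
  · intro x y h
    exact Subtype.ext (D.inj_N x.1 y.1 x.2 y.2 h)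
  · intro y
    have : y ∈ (Subgroup.normalizer ((R : Subgroup G) : Set G)).map D.φ := by
      rw [D.map_normalizer]; trivial
    obtain ⟨x, hx, rfl⟩ := this
    exact ⟨⟨x, hx⟩, rfl⟩

end DihQuotData

end DihQuot

end Cfsg.Agent.Helper14
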