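import Cfsg.Agent.Helper14.DihQuot

set_option autoImplicit false
set_option linter.unusedSectionVars false
set_option linter.style.haveILetI false

namespace Cfsg.Agent.Helper14

open Cfsg

section DihQuotB

theorem mem_centralizer_single {G : Type*} [Group G] (x a : G) :
    x ∈ Subgroup.centralizer ({a} : Set G) ↔ a * x = x * a := by
  rw [Subgroup.mem_centralizer_iff]
  constructor
  · intro h
    exact h a (Set.mem_singleton a)
  · intro h y hy
    rw [Set.mem_singleton_iff] at hy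
    rw [hy]; exact h

variable {G : Type*} [Group G] [Finite G] {r : ℕ} [Fact r.Prime]

namespace DihQuotData

variable {Q : Subgroup G} {R : Sylow r G} (D : DihQuotData r Q R)

include D

theorem phi_refl (a : G) (ha : a * a = 1) (haQ : a ∉ Q) : ∃ i, D.φ a = DihedralGroup.sr i := by
  rcases h : D.φ a with k | i
  · exfalso
    have h1 : D.φ a * D.φ a = 1 := by rw [← map_mul, ha, map_one]
    rw [h, DihedralGroup.r_mul_r, DihedralGroup.one_def] at h1
    have h2 : k + k = 0 := by injection h1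
    have h3 : k = 0 := zmod_two_mul_eq_zero D.hr k (by linear_combination h2)
    apply haQ
    rw [D.mem_Q_iff, h, h3, DihedralGroup.r_zero]
  · exact ⟨i, rfl⟩

theorem not_mem_Q_of_normalizer (a : G)
    (haN : a ∈ Subgroup.normalizer ((R : Subgroup G) : Set G)) (ha1 : a ≠ 1) : a ∉ Q :=
  fun h => ha1 (D.normalizer_inf a haN h)

/-- An element of `Q` commuting with a nontrivial element of `R` is trivial. -/
theorem cent_sigma (σ : G) (hσ : σ ∈ (R : Subgroup G)) (hσ1 : σ ≠ 1) (c : G) (hc : c ∈ Q)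
    (hcomm : c * σ = σ * c) : c = 1 := by
  have h1 : c ∈ Subgroup.centralizer ((R : Subgroup G) : Set G) := by
    rw [Subgroup.mem_centralizer_iff]
    intro y hy
    obtain ⟨m, rfl⟩ := D.mem_zpowers_of_mem σ hσ hσ1 y hy
    have : Commute c σ := hcomm
    exact (this.pow_right m).eq.symm
  have h2 : c ∈ Q ⊓ Subgroup.centralizer ((R : Subgroup G) : Set G) := ⟨hc, h1⟩
  rw [D.cent] at h2
  exact Subgroup.mem_bot.1 h2

theorem frobenius (σ : G) (hσ : σ ∈ (R : Subgroup G)) (hσ1 : σ ≠ 1) (y : G) (hy : y ∈ Q) :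
    ∃ q ∈ Q, q * σ * q⁻¹ = y * σ := by
  haveI := D.normal
  let f : Q → Q := fun q => ⟨q.1 * σ * q.1⁻¹ * σ⁻¹, by
    have : q.1 * σ * q.1⁻¹ * σ⁻¹ = q.1 * (σ * q.1⁻¹ * σ⁻¹) := by group
    rw [this]
    exact Q.mul_mem q.2 (D.normal.conj_mem _ (Q.inv_mem q.2) σ)⟩
  have hinj : Function.Injective f := by
    intro q q' h
    have h1 : q.1 * σ * q.1⁻¹ * σ⁻¹ = q'.1 * σ * q'.1⁻¹ * σ⁻¹ := congrArg Subtype.val h
    have h2 : q.1 * σ * q.1⁻¹ = q'.1 * σ * q'.1⁻¹ := mul_right_cancel h1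
    have h3 : (q'.1⁻¹ * q.1) * σ = σ * (q'.1⁻¹ * q.1) := by
      calc (q'.1⁻¹ * q.1) * σ = q'.1⁻¹ * (q.1 * σ * q.1⁻¹) * q.1 := by group
        _ = q'.1⁻¹ * (q'.1 * σ * q'.1⁻¹) * q.1 := by rw [h2]
        _ = σ * (q'.1⁻¹ * q.1) := by group
    have h4 := D.cent_sigma σ hσ hσ1 _ (Q.mul_mem (Q.inv_mem q'.2) q.2) h3
    apply Subtype.ext
    have := inv_mul_eq_one.1 h4
    exact this.symm
  have hsurj := (Finite.injective_iff_surjective.1 hinj)
  obtain ⟨q, hq⟩ := hsurj ⟨y, hy⟩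
  refine ⟨q.1, q.2, ?_⟩
  have h1 : q.1 * σ * q.1⁻¹ * σ⁻¹ = y := congrArg Subtype.val hq
  rw [← h1]; group

/-- Key lemma. -/
theorem key (a a' : G) (haN : a ∈ Subgroup.normalizer ((R : Subgroup G) : Set G))
    (hσ : a * a' ∈ (R : Subgroup G)) (hσ1 : a * a' ≠ 1)
    (u v : G) (hu : u * u = 1) (hv : v * v = 1) (huQ : u * a⁻¹ ∈ Q) (hvQ : v * a'⁻¹ ∈ Q) :
    ∃ q ∈ Q, q * a * q⁻¹ = u ∧ q * a' * q⁻¹ = v := by
  have hφu : D.φ u = D.φ a := by
    have := (D.mem_Q_iff _).1 huQ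
    rw [map_mul, map_inv] at this
    exact mul_inv_eq_one.1 this
  have hφv : D.φ v = D.φ a' := by
    have := (D.mem_Q_iff _).1 hvQ
    rw [map_mul, map_inv] at this
    exact mul_inv_eq_one.1 this
  have hy : u * v * (a * a')⁻¹ ∈ Q := by
    rw [D.mem_Q_iff, map_mul, map_mul, map_inv, map_mul, hφu, hφv, mul_inv_cancel]
  obtain ⟨q, hq, hqσ⟩ := D.frobenius (a * a') hσ hσ1 _ hy
  have hqσ' : q * (a * a') * q⁻¹ = u * v := by rw [hqσ]; group
  have hφq : D.φ q = 1 := (D.mem_Q_iff q).1 hq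
  -- u' = q⁻¹ u q, v' = q⁻¹ v q
  have huv' : (q⁻¹ * u * q) * (q⁻¹ * v * q) = a * a' := by
    calc (q⁻¹ * u * q) * (q⁻¹ * v * q) = q⁻¹ * (u * v) * q := by group
      _ = q⁻¹ * (q * (a * a') * q⁻¹) * q := by rw [hqσ']
      _ = a * a' := by group
  have hu' : (q⁻¹ * u * q) * (q⁻¹ * u * q) = 1 := by
    calc (q⁻¹ * u * q) * (q⁻¹ * u * q) = q⁻¹ * (u * u) * q := by group
      _ = 1 := by rw [hu]; group
  have hv' : (q⁻¹ * v * q) * (q⁻¹ * v * q) = 1 := by
    calc (q⁻¹ * v * q) * (q⁻¹ * v * q) = q⁻¹ * (v * v) * q := by group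
      _ = 1 := by rw [hv]; group
  obtain ⟨u', hu'def⟩ : ∃ u', u' = q⁻¹ * u * q := ⟨_, rfl⟩
  obtain ⟨v', hv'def⟩ : ∃ v', v' = q⁻¹ * v * q := ⟨_, rfl⟩
  rw [← hu'def, ← hv'def] at huv'
  rw [← hu'def] at hu'
  rw [← hv'def] at hv'
  have hu'inv : u'⁻¹ = u' := inv_eq_of_mul_eq_one_left hu'
  have hv'inv : v'⁻¹ = v' := inv_eq_of_mul_eq_one_left hv'
  -- u' inverts σ
  have hinv : u' * (a * a') * u'⁻¹ = (a * a')⁻¹ := by
    rw [← huv', mul_inv_rev, hu'inv, hv'inv]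
    calc u' * (u' * v') * u' = (u' * u') * v' * u' := by group
      _ = v' * u' := by rw [hu']; group
  -- u' normalizes R
  have hfwd : ∀ h, h ∈ (R : Subgroup G) → u' * h * u'⁻¹ ∈ (R : Subgroup G) := by
    intro h hh
    obtain ⟨m, rfl⟩ := D.mem_zpowers_of_mem (a * a') hσ hσ1 h hh
    have : u' * (a * a') ^ m * u'⁻¹ = (u' * (a * a') * u'⁻¹) ^ m := by
      rw [conj_pow]
    rw [this, hinv]
    exact (R : Subgroup G).pow_mem ((R : Subgroup G).inv_mem hσ) m
  have hu'N : u' ∈ Subgroup.normalizer ((R : Subgroup G) : Set G) := by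
    rw [Subgroup.mem_normalizer_iff]
    intro h
    refine ⟨hfwd h, fun hh => ?_⟩
    have := hfwd _ hh
    rw [hu'inv] at this
    have h2 : u' * (u' * h * u') * u' = h := by
      calc u' * (u' * h * u') * u' = (u' * u') * h * (u' * u') := by group
        _ = h := by rw [hu']; group
    rwa [h2] at this
  have hu'Q : u' * a⁻¹ ∈ Q := by
    rw [D.mem_Q_iff, hu'def, map_mul, map_mul, map_mul, map_inv, map_inv, hφq, hφu]
    group
  have hu'a : u' = a := by
    have h1 := D.normalizer_inf _ (Subgroup.mul_mem _ hu'N (Subgroup.inv_mem _ haN)) hu'Q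
    exact mul_inv_eq_one.1 h1
  have hv'a : v' = a' := by
    rw [hu'a] at huv'
    exact mul_left_cancel huv'
  refine ⟨q, hq, ?_, ?_⟩
  · rw [← hu'a, hu'def]; group
  · rw [← hv'a, hv'def]; group

end DihQuotData

end DihQuotB

end Cfsg.Agent.Helper14
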