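import Cfsg.Agent.Helper14.DihQuot2

set_option autoImplicit false
set_option linter.unusedSectionVars false
set_option linter.style.haveILetI false

namespace Cfsg.Agent.Helper14

open Cfsg

section DihQuotC

variable {G : Type*} [Group G] [Finite G] {r : ℕ} [Fact r.Prime]

namespace DihQuotData

variable {Q : Subgroup G} {R : Sylow r G} (D : DihQuotData r Q R)

include D

/-- `σ = a * (ρ a ρ⁻¹)` lies in `R` and is nontrivial. -/
theorem sigma_mem (a ρ : G) (haN : a ∈ Subgroup.normalizer ((R : Subgroup G) : Set G))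
    (ha : a * a = 1) (hρ : ρ ∈ (R : Subgroup G)) :
    a * (ρ * a * ρ⁻¹) ∈ (R : Subgroup G) := by
  have hainv : a⁻¹ = a := inv_eq_of_mul_eq_one_left ha
  have h1 : a * ρ * a⁻¹ ∈ (R : Subgroup G) := (Subgroup.mem_normalizer_iff.1 haN ρ).1 hρ
  have h2 : a * (ρ * a * ρ⁻¹) = (a * ρ * a⁻¹) * ρ⁻¹ := by rw [hainv]; group
  rw [h2]
  exact (R : Subgroup G).mul_mem h1 ((R : Subgroup G).inv_mem hρ)

theorem sigma_ne_one (a ρ : G) (haN : a ∈ Subgroup.normalizer ((R : Subgroup G) : Set G))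
    (ha : a * a = 1) (ha1 : a ≠ 1) (hρ : ρ ∈ (R : Subgroup G)) (hρ1 : ρ ≠ 1) :
    a * (ρ * a * ρ⁻¹) ≠ 1 := by
  intro h
  obtain ⟨i, hi⟩ := D.phi_refl a ha (D.not_mem_Q_of_normalizer a haN ha1)
  obtain ⟨k, hk⟩ := D.phi_rot ρ hρ
  have h1 : D.φ (a * (ρ * a * ρ⁻¹)) = 1 := by rw [h, map_one]
  rw [map_mul, map_mul, map_mul, map_inv, hi, hk, DihedralGroup.inv_r, DihedralGroup.r_mul_sr,
    DihedralGroup.sr_mul_r, DihedralGroup.sr_mul_sr, DihedralGroup.one_def] at h1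
  have h2 : i - k + -k - i = 0 := by injection h1
  have h3 : k = 0 := zmod_two_mul_eq_zero D.hr k (by linear_combination -h2)
  apply hρ1
  apply D.inj_R ρ 1 hρ (Subgroup.one_mem _)
  rw [hk, h3, DihedralGroup.r_zero, map_one]

theorem conj_involution (a b : G) (haN : a ∈ Subgroup.normalizer ((R : Subgroup G) : Set G))
    (ha : a * a = 1) (ha1 : a ≠ 1) (hb : b * b = 1) (hbQ : b ∉ Q) :
    ∃ g : G, g * a * g⁻¹ = b := by
  obtain ⟨ρ, hρ, hρ1⟩ := D.R_ne_bot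
  obtain ⟨i, hi⟩ := D.phi_refl a ha (D.not_mem_Q_of_normalizer a haN ha1)
  obtain ⟨j, hj⟩ := D.phi_refl b hb hbQ
  have h2 : (2 : ZMod r) ≠ 0 := by
    intro h
    have := zmod_two_mul_eq_zero D.hr 1 (by rw [h, zero_mul])
    exact one_ne_zero this
  obtain ⟨g, hg⟩ := D.surj (DihedralGroup.r ((2 : ZMod r)⁻¹ * (i - j)))
  set m := (2 : ZMod r)⁻¹ * (i - j) with hm
  have hmm : m + m = i - j := by
    rw [hm]; field_simp; ring
  have hu : (g⁻¹ * b * g) * (g⁻¹ * b * g) = 1 := by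
    calc (g⁻¹ * b * g) * (g⁻¹ * b * g) = g⁻¹ * (b * b) * g := by group
      _ = 1 := by rw [hb]; group
  have huQ : (g⁻¹ * b * g) * a⁻¹ ∈ Q := by
    rw [D.mem_Q_iff, map_mul, map_mul, map_mul, map_inv, map_inv, hg, hi, hj,
      DihedralGroup.inv_r, DihedralGroup.r_mul_sr, DihedralGroup.sr_mul_r, DihedralGroup.inv_sr,
      DihedralGroup.sr_mul_sr, DihedralGroup.one_def]
    congr 1
    linear_combination -hmm
  have ha' : (ρ * a * ρ⁻¹) * (ρ * a * ρ⁻¹) = 1 := by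
    calc (ρ * a * ρ⁻¹) * (ρ * a * ρ⁻¹) = ρ * (a * a) * ρ⁻¹ := by group
      _ = 1 := by rw [ha]; group
  obtain ⟨q, -, hq, -⟩ := D.key a (ρ * a * ρ⁻¹) haN (D.sigma_mem a ρ haN ha hρ)
    (D.sigma_ne_one a ρ haN ha ha1 hρ hρ1) (g⁻¹ * b * g) (ρ * a * ρ⁻¹) hu ha' huQ
    (by rw [mul_inv_cancel]; exact Q.one_mem)
  refine ⟨g * q, ?_⟩
  calc g * q * a * (g * q)⁻¹ = g * (q * a * q⁻¹) * g⁻¹ := by group
    _ = b := by rw [hq]; group

theorem card_sq (a : G) (haN : a ∈ Subgroup.normalizer ((R : Subgroup G) : Set G))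
    (ha : a * a = 1) (ha1 : a ≠ 1) :
    Nat.card ↥(Q ⊓ Subgroup.centralizer ({a} : Set G)) ^ 2 = Nat.card ↥Q := by
  haveI := D.normal
  obtain ⟨ρ, hρ, hρ1⟩ := D.R_ne_bot
  obtain ⟨a', ha'def⟩ : ∃ a', a' = ρ * a * ρ⁻¹ := ⟨_, rfl⟩
  have hσ : a * a' ∈ (R : Subgroup G) := by rw [ha'def]; exact D.sigma_mem a ρ haN ha hρ
  have hσ1 : a * a' ≠ 1 := by rw [ha'def]; exact D.sigma_ne_one a ρ haN ha ha1 hρ hρ1
  have ha' : a' * a' = 1 := by
    rw [ha'def]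
    calc (ρ * a * ρ⁻¹) * (ρ * a * ρ⁻¹) = ρ * (a * a) * ρ⁻¹ := by group
      _ = 1 := by rw [ha]; group
  have ha'inv : a'⁻¹ = a' := inv_eq_of_mul_eq_one_left ha'
  -- C_Q(a) ≃ C_Q(a')
  have e1 : Nat.card ↥(Q ⊓ Subgroup.centralizer ({a} : Set G)) =
      Nat.card ↥(Q ⊓ Subgroup.centralizer ({a'} : Set G)) := by
    refine Nat.card_congr ⟨fun x => ⟨ρ * x.1 * ρ⁻¹, ?_, ?_⟩, fun y => ⟨ρ⁻¹ * y.1 * ρ, ?_, ?_⟩,
      ?_, ?_⟩
    · exact D.normal.conj_mem _ x.2.1 ρ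
    · have := (mem_centralizer_single _ _).1 x.2.2
      show _ ∈ Subgroup.centralizer ({a'} : Set G)
      rw [mem_centralizer_single, ha'def]
      calc ρ * a * ρ⁻¹ * (ρ * x.1 * ρ⁻¹) = ρ * (a * x.1) * ρ⁻¹ := by group
        _ = ρ * (x.1 * a) * ρ⁻¹ := by rw [this]
        _ = ρ * x.1 * ρ⁻¹ * (ρ * a * ρ⁻¹) := by group
    · have := D.normal.conj_mem _ y.2.1 ρ⁻¹
      rwa [inv_inv] at this
    · have h0 := (mem_centralizer_single _ _).1 y.2.2
      have this : ρ * a * ρ⁻¹ * y.1 = y.1 * (ρ * a * ρ⁻¹) := by rw [← ha'def]; exact h0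
      show _ ∈ Subgroup.centralizer ({a} : Set G)
      rw [mem_centralizer_single]
      calc a * (ρ⁻¹ * y.1 * ρ) = ρ⁻¹ * (ρ * a * ρ⁻¹ * y.1) * ρ := by group
        _ = ρ⁻¹ * (y.1 * (ρ * a * ρ⁻¹)) * ρ := by rw [this]
        _ = ρ⁻¹ * y.1 * ρ * a := by group
    · intro x; apply Subtype.ext; simp only []; group
    · intro y; apply Subtype.ext; simp only []; group
  -- product bijection
  have e2 : Nat.card (↥(Q ⊓ Subgroup.centralizer ({a} : Set G)) ×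
      ↥(Q ⊓ Subgroup.centralizer ({a'} : Set G))) = Nat.card ↥Q := by
    refine Nat.card_congr (Equiv.ofBijective
      (fun x => (⟨x.1.1 * x.2.1, Q.mul_mem x.1.2.1 x.2.2.1⟩ : ↥Q)) ⟨?_, ?_⟩)
    · rintro ⟨x, y⟩ ⟨x', y'⟩ h
      have h1 : x.1 * y.1 = x'.1 * y'.1 := congrArg Subtype.val h
      have h2 : x'.1⁻¹ * x.1 = y'.1 * y.1⁻¹ := by
        calc x'.1⁻¹ * x.1 = x'.1⁻¹ * (x.1 * y.1) * y.1⁻¹ := by group
          _ = x'.1⁻¹ * (x'.1 * y'.1) * y.1⁻¹ := by rw [h1]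
          _ = y'.1 * y.1⁻¹ := by group
      have h3 : x'.1⁻¹ * x.1 ∈ Q ⊓ Subgroup.centralizer ({a} : Set G) :=
        Subgroup.mul_mem _ (Subgroup.inv_mem _ x'.2) x.2
      have h4 : x'.1⁻¹ * x.1 ∈ Q ⊓ Subgroup.centralizer ({a'} : Set G) := by
        rw [h2]; exact Subgroup.mul_mem _ y'.2 (Subgroup.inv_mem _ y.2)
      have h5 := (mem_centralizer_single _ _).1 h3.2
      have h6 := (mem_centralizer_single _ _).1 h4.2
      have h7 : x'.1⁻¹ * x.1 * (a * a') = (a * a') * (x'.1⁻¹ * x.1) := by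
        calc x'.1⁻¹ * x.1 * (a * a') = (x'.1⁻¹ * x.1 * a) * a' := by group
          _ = (a * (x'.1⁻¹ * x.1)) * a' := by rw [h5]
          _ = a * ((x'.1⁻¹ * x.1) * a') := by group
          _ = a * (a' * (x'.1⁻¹ * x.1)) := by rw [h6]
          _ = (a * a') * (x'.1⁻¹ * x.1) := by group
      have h8 := D.cent_sigma (a * a') hσ hσ1 _ h3.1 h7
      have hxx : x = x' := by
        apply Subtype.ext
        exact (inv_mul_eq_one.1 h8).symm
      have hyy : y = y' := by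
        apply Subtype.ext
        rw [hxx] at h1
        exact mul_left_cancel h1
      rw [hxx, hyy]
    · intro q
      have hv : (q.1 * a' * q.1⁻¹) * (q.1 * a' * q.1⁻¹) = 1 := by
        calc (q.1 * a' * q.1⁻¹) * (q.1 * a' * q.1⁻¹) = q.1 * (a' * a') * q.1⁻¹ := by group
          _ = 1 := by rw [ha']; group
      have hvQ : (q.1 * a' * q.1⁻¹) * a'⁻¹ ∈ Q := by
        have : (q.1 * a' * q.1⁻¹) * a'⁻¹ = q.1 * (a' * q.1⁻¹ * a'⁻¹) := by group
        rw [this]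
        exact Q.mul_mem q.2 (D.normal.conj_mem _ (Q.inv_mem q.2) a')
      obtain ⟨q₀, hq₀, h1, h2⟩ := D.key a a' haN hσ hσ1 a (q.1 * a' * q.1⁻¹) ha hv
        (by rw [mul_inv_cancel]; exact Q.one_mem) hvQ
      have hx : q₀ ∈ Q ⊓ Subgroup.centralizer ({a} : Set G) := by
        refine ⟨hq₀, ?_⟩
        show _ ∈ Subgroup.centralizer ({a} : Set G)
        rw [mem_centralizer_single]
        calc a * q₀ = (q₀ * a * q₀⁻¹) * q₀ := by rw [h1]
          _ = q₀ * a := by group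
      have hy : q₀⁻¹ * q.1 ∈ Q ⊓ Subgroup.centralizer ({a'} : Set G) := by
        refine ⟨Q.mul_mem (Q.inv_mem hq₀) q.2, ?_⟩
        show _ ∈ Subgroup.centralizer ({a'} : Set G)
        rw [mem_centralizer_single]
        calc a' * (q₀⁻¹ * q.1) = q₀⁻¹ * (q₀ * a' * q₀⁻¹) * q.1 := by group
          _ = q₀⁻¹ * (q.1 * a' * q.1⁻¹) * q.1 := by rw [h2]
          _ = q₀⁻¹ * q.1 * a' := by group
      refine ⟨(⟨q₀, hx⟩, ⟨q₀⁻¹ * q.1, hy⟩), ?_⟩
      apply Subtype.ext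
      simp only []
      group
  rw [← e2, Nat.card_prod, ← e1, sq]

end DihQuotData

end DihQuotC

end Cfsg.Agent.Helper14
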