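import Mathlib
import Cfsg.Prelude.Def_LocalEven
import Cfsg.Agent.Helper11.DihedralLift
import Cfsg.Agent.Helper26.Involves
import Cfsg.Agent.Helper14.Conj

set_option autoImplicit false
set_option linter.unusedSectionVars false

namespace Cfsg.Agent.Helper14

open Cfsg

section DihedralInv

variable {G : Type*} [Group G]

/-- (3) ⇒ (2) -/
theorem normalizes_of_inverts {p : ℕ} [Fact p.Prime] (hp : p ≠ 2) (x y : G)
    (hy : ∃ k : ℕ, orderOf y = p ^ k) (hy1 : y ≠ 1) (hxy : x * y * x⁻¹ = y⁻¹) :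
    IsPGroup p ↥(Subgroup.zpowers y) ∧ x ∈ Subgroup.normalizer (Subgroup.zpowers y : Set G) ∧
      x ∉ Subgroup.centralizer (Subgroup.zpowers y : Set G) := by
  have hpp : p.Prime := Fact.out
  obtain ⟨k, hk⟩ := hy
  refine ⟨?_, ?_, ?_⟩
  · apply IsPGroup.of_card (n := k)
    rw [Nat.card_zpowers, hk]
  · rw [mem_normalizer_iff_map_cj]
    rw [MonoidHom.map_zpowers, cj_apply, hxy, Subgroup.zpowers_inv]
  · intro hc
    have h1 : y * x = x * y :=
      (Subgroup.mem_centralizer_iff.1 hc) y (Subgroup.mem_zpowers y)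
    have h2 : y⁻¹ = y := by rw [← hxy, ← h1, mul_inv_cancel_right]
    have h3 : y ^ 2 = 1 := by
      rw [pow_two]
      nth_rewrite 1 [← h2]
      exact inv_mul_cancel y
    have h4 : orderOf y ∣ 2 := orderOf_dvd_of_pow_eq_one h3
    rw [hk] at h4
    have h5 : k = 0 := by
      by_contra hk0
      have : p ∣ 2 := (dvd_pow_self p hk0).trans h4
      exact hp ((Nat.prime_dvd_prime_iff_eq hpp Nat.prime_two).1 this)
    rw [h5, pow_zero, orderOf_eq_one_iff] at hk
    exact hy1 hk

/-- (2) ⇒ (3) -/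
theorem exists_inverts_of_normalizes [Finite G] {p : ℕ} [Fact p.Prime] (x : G) (P : Subgroup G)
    (hx : ∃ k : ℕ, orderOf x = 2 ^ k) (hP : IsPGroup p ↥P)
    (hxN : x ∈ Subgroup.normalizer (P : Set G)) (hxC : x ∉ Subgroup.centralizer (P : Set G)) :
    ∃ x' y : G, (∃ k : ℕ, orderOf x' = 2 ^ k) ∧ (∃ k : ℕ, orderOf y = p ^ k) ∧ y ≠ 1 ∧
      x' * y * x'⁻¹ = y⁻¹ := by
  classical
  have hpp : p.Prime := Fact.out
  obtain ⟨k, hk⟩ := hx
  have hex : ∃ j : ℕ, x ^ (2 ^ j) ∈ Subgroup.centralizer (P : Set G) :=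
    ⟨k, by rw [← hk, pow_orderOf_eq_one]; exact Subgroup.one_mem _⟩
  have hj := Nat.find_spec hex
  have hjmin := fun m => Nat.find_min hex (m := m)
  set j := Nat.find hex with hjdef
  have hj0 : j ≠ 0 := by
    intro h0
    rw [h0, pow_zero, pow_one] at hj
    exact hxC hj
  obtain ⟨i, hi⟩ : ∃ i, j = i + 1 := ⟨j - 1, by omega⟩
  set x' := x ^ (2 ^ i) with hx'
  have hx'C : x' ∉ Subgroup.centralizer (P : Set G) := hjmin i (by omega)
  have hx'2 : x' * x' ∈ Subgroup.centralizer (P : Set G) := by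
    have : x' * x' = x ^ (2 ^ j) := by
      rw [hx', ← pow_add, hi, pow_succ, mul_two]
    rw [this]; exact hj
  have hx'N : x' ∈ Subgroup.normalizer (P : Set G) := Subgroup.pow_mem _ hxN _
  have hx'ord : ∃ l : ℕ, orderOf x' = 2 ^ l := by
    have : orderOf x' ∣ 2 ^ k := by rw [← hk]; exact orderOf_pow_dvd _
    obtain ⟨l, _, hl⟩ := (Nat.dvd_prime_pow Nat.prime_two).1 this
    exact ⟨l, hl⟩
  -- an element not centralized
  have hu : ∃ u ∈ P, u * x' ≠ x' * u := by
    by_contra hcon
    push Not at hcon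
    exact hx'C (Subgroup.mem_centralizer_iff.2 fun u hu => hcon u hu)
  obtain ⟨u, huP, hune⟩ := hu
  have hconj : x' * u * x'⁻¹ ∈ P := (Subgroup.mem_normalizer_iff.1 hx'N u).1 huP
  refine ⟨x', u⁻¹ * (x' * u * x'⁻¹), hx'ord, ?_, ?_, ?_⟩
  · have hyP : u⁻¹ * (x' * u * x'⁻¹) ∈ P := P.mul_mem (P.inv_mem huP) hconj
    obtain ⟨l, hl⟩ := hP ⟨_, hyP⟩
    have hl' : (u⁻¹ * (x' * u * x'⁻¹)) ^ (p ^ l) = 1 := by
      have := congrArg Subtype.val hl
      simpa using this
    obtain ⟨l', _, hl''⟩ := (Nat.dvd_prime_pow hpp).1 (orderOf_dvd_of_pow_eq_one hl')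
    exact ⟨l', hl''⟩
  · intro h1
    apply hune
    have : x' * u * x'⁻¹ = u := by
      have := congrArg (fun t => u * t) h1
      simpa using this
    calc u * x' = (x' * u * x'⁻¹) * x' := by rw [this]
      _ = x' * u := by group
  · have hcomm : u * (x' * x') = (x' * x') * u :=
      (Subgroup.mem_centralizer_iff.1 hx'2) u huP
    have h2 : x' * x' * u * x'⁻¹ * x'⁻¹ = u := by
      rw [← hcomm]; group
    calc x' * (u⁻¹ * (x' * u * x'⁻¹)) * x'⁻¹
        = (x' * u * x'⁻¹)⁻¹ * (x' * x' * u * x'⁻¹ * x'⁻¹) := by group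
      _ = (x' * u * x'⁻¹)⁻¹ * u := by rw [h2]
      _ = (u⁻¹ * (x' * u * x'⁻¹))⁻¹ := by group

end DihedralInv

section DihedralInvA

variable {G : Type*} [Group G]

/-- a 2-element inverting an element of order `p` (odd) gives a dihedral section -/
theorem involves_dihedral_of_inverts_prime {p : ℕ} [Fact p.Prime] (hp : p ≠ 2) (x y : G) (k : ℕ)
    (hx : orderOf x = 2 ^ k) (hy : orderOf y = p) (hxy : x * y * x⁻¹ = y⁻¹) :
    Involves (DihedralGroup p) G := by
  have hpp : p.Prime := Fact.out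
  set K : Subgroup G := Subgroup.closure {x, y} with hK
  have hxK : x ∈ K := Subgroup.subset_closure (by simp)
  have hyK : y ∈ K := Subgroup.subset_closure (by simp)
  -- x^2 commutes with y
  have hxy' : x * y⁻¹ * x⁻¹ = y := by
    have := congrArg (fun t => t⁻¹) hxy
    simpa [mul_assoc] using this
  have hcomm : x * x * y = y * (x * x) := by
    calc x * x * y = x * (x * y * x⁻¹) * x := by group
      _ = x * y⁻¹ * x := by rw [hxy]
      _ = (x * y⁻¹ * x⁻¹) * (x * x) := by group
      _ = y * (x * x) := by rw [hxy']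
  have hKle : K ≤ Subgroup.centralizer {x * x} := by
    rw [hK, Subgroup.closure_le]
    rintro g (rfl | rfl)
    · show g ∈ Subgroup.centralizer {g * g}
      rw [Subgroup.mem_centralizer_iff]
      rintro _ rfl
      group
    · show g ∈ Subgroup.centralizer {x * x}
      rw [Subgroup.mem_centralizer_iff]
      rintro _ rfl
      exact hcomm
  set xK : K := ⟨x, hxK⟩ with hxKdef
  set yK : K := ⟨y, hyK⟩ with hyKdef
  have hcentral : ∀ g : K, Commute g (xK * xK) := by
    intro g
    have := Subgroup.mem_centralizer_iff.1 (hKle g.2) (x * x) rfl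
    apply Subtype.ext
    exact this.symm
  set N : Subgroup K := Subgroup.zpowers (xK * xK) with hN
  have hNn : N.Normal := ⟨fun n hn g => by
    obtain ⟨i, rfl⟩ := Subgroup.mem_zpowers_iff.1 hn
    have hc : Commute g ((xK * xK) ^ i) := (hcentral g).zpow_right i
    rw [hc.eq, mul_inv_cancel_right]
    exact hn⟩
  set a : K ⧸ N := (yK : K ⧸ N) with ha_def
  set b : K ⧸ N := (xK : K ⧸ N) with hb_def
  have ha : a ^ p = 1 := by
    rw [ha_def, ← QuotientGroup.mk_pow]
    have : yK ^ p = 1 := by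
      apply Subtype.ext
      show y ^ p = 1
      rw [← hy, pow_orderOf_eq_one]
    rw [this]; rfl
  have hb : b * b = 1 := by
    rw [hb_def, ← QuotientGroup.mk_mul, QuotientGroup.eq_one_iff]
    exact Subgroup.mem_zpowers _
  have hbinv : b⁻¹ = b := inv_eq_of_mul_eq_one_left hb
  have hab : b * a * b = a⁻¹ := by
    nth_rewrite 2 [← hbinv]
    rw [ha_def, hb_def, ← QuotientGroup.mk_inv, ← QuotientGroup.mk_mul, ← QuotientGroup.mk_mul,
      ← QuotientGroup.mk_inv]
    congr 1
    apply Subtype.ext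
    exact hxy
  -- a ≠ 1
  have ha1 : a ≠ 1 := by
    intro h1
    rw [ha_def, QuotientGroup.eq_one_iff] at h1
    obtain ⟨i, hi⟩ := Subgroup.mem_zpowers_iff.1 h1
    have hi' : (x * x) ^ i = y := by
      have := congrArg Subtype.val hi
      simpa using this
    have hyx : y ∈ Subgroup.zpowers x := by
      rw [← hi']
      exact Subgroup.zpow_mem _ (Subgroup.mul_mem _ (Subgroup.mem_zpowers x) (Subgroup.mem_zpowers x)) i
    have := orderOf_dvd_of_mem_zpowers hyx
    rw [hy, hx] at this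
    have h2 : p ∣ 2 := hpp.dvd_of_dvd_pow this
    exact hp ((Nat.prime_dvd_prime_iff_eq hpp Nat.prime_two).1 h2)
  have hn : orderOf a = p := by
    have hdvd : orderOf a ∣ p := orderOf_dvd_of_pow_eq_one ha
    rcases (Nat.dvd_prime hpp).1 hdvd with h | h
    · exact absurd (orderOf_eq_one_iff.1 h) ha1
    · exact h
  have hba : b ∉ Subgroup.zpowers a := by
    intro hmem
    obtain ⟨i, hi⟩ := Subgroup.mem_zpowers_iff.1 hmem
    have hc : Commute b a := by
      rw [← hi]
      exact (Commute.refl a).zpow_left i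
    have h1 : a = a⁻¹ := by
      rw [← hab, hc.eq, mul_assoc, hb, mul_one]
    have h2 : a ^ 2 = 1 := by
      rw [pow_two]
      nth_rewrite 1 [h1]
      exact inv_mul_cancel a
    have h3 : p ∣ 2 := by
      rw [← hn]; exact orderOf_dvd_of_pow_eq_one h2
    exact hp ((Nat.prime_dvd_prime_iff_eq hpp Nat.prime_two).1 h3)
  set φ := Helper11.dihedralLift p a b ha hb hab with hφ
  have hinj : Function.Injective φ := Helper11.dihedralLift_injective p a b ha hb hab hn hba
  have hsurj : Function.Surjective φ := by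
    rw [← MonoidHom.range_eq_top]
    -- comap to K
    have hcomap : (φ.range).comap (QuotientGroup.mk' N) = ⊤ := by
      apply top_unique
      rw [← Subgroup.closure_closure_coe_preimage (k := ({x, y} : Set G)), Subgroup.closure_le]
      rintro ⟨g, hg⟩ hg'
      have hg'' : g = x ∨ g = y := hg'
      rw [SetLike.mem_coe, Subgroup.mem_comap]
      rcases hg'' with rfl | rfl
      · refine ⟨DihedralGroup.sr 0, ?_⟩
        rw [hφ, Helper11.dihedralLift_sr, Helper11.zmodPow_zero, mul_one]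
        rfl
      · refine ⟨DihedralGroup.r ((1 : ℤ) : ZMod p), ?_⟩
        rw [hφ, Helper11.dihedralLift_r, Helper11.zmodPow_intCast]
        simp
        rfl
    apply top_unique
    intro q _
    obtain ⟨g, rfl⟩ := QuotientGroup.mk_surjective q
    have : g ∈ (φ.range).comap (QuotientGroup.mk' N) := by rw [hcomap]; trivial
    exact this
  let e : DihedralGroup p ≃* K ⧸ N := MulEquiv.ofBijective φ ⟨hinj, hsurj⟩
  exact Helper26.involves_of_surjective K (e.symm.toMonoidHom.comp (QuotientGroup.mk' N))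
    (e.symm.surjective.comp (QuotientGroup.mk'_surjective N))

end DihedralInvA

end Cfsg.Agent.Helper14
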