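import Cfsg.Agent.Helper14.DihedralInv

set_option autoImplicit false
set_option linter.unusedSectionVars false
set_option linter.style.haveILetI false

namespace Cfsg.Agent.Helper14

open Cfsg

section DihedralInvB

variable {G : Type*} [Group G]

theorem dihedral_r_mem (n : ℕ) (i : ZMod n) :
    DihedralGroup.r i ∈ Subgroup.zpowers (DihedralGroup.r 1 : DihedralGroup n) := by
  rw [Subgroup.mem_zpowers_iff]
  refine ⟨(ZMod.cast i : ℤ), ?_⟩
  rw [DihedralGroup.r_one_zpow, ZMod.intCast_zmod_cast]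

theorem dihedral_mem_rot_iff (n : ℕ) (g : DihedralGroup n) :
    g ∈ Subgroup.zpowers (DihedralGroup.r 1 : DihedralGroup n) ↔ ∃ i, g = DihedralGroup.r i := by
  constructor
  · intro h
    obtain ⟨i, rfl⟩ := Subgroup.mem_zpowers_iff.1 h
    exact ⟨_, DihedralGroup.r_one_zpow i⟩
  · rintro ⟨i, rfl⟩
    exact dihedral_r_mem n i

theorem dihedral_rot_normal (n : ℕ) :
    (Subgroup.zpowers (DihedralGroup.r 1 : DihedralGroup n)).Normal := ⟨fun x hx g => by
  obtain ⟨i, rfl⟩ := (dihedral_mem_rot_iff n x).1 hx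
  rcases g with j | j
  · rw [DihedralGroup.inv_r, DihedralGroup.r_mul_r, DihedralGroup.r_mul_r]
    exact dihedral_r_mem n _
  · rw [DihedralGroup.inv_sr, DihedralGroup.sr_mul_r, DihedralGroup.sr_mul_sr]
    exact dihedral_r_mem n _⟩

theorem dihedral_commute_aux {p : ℕ} [Fact p.Prime] (hp : p ≠ 2) (i j : ZMod p)
    (h : (DihedralGroup.r i : DihedralGroup p) * DihedralGroup.sr j =
      DihedralGroup.sr j * DihedralGroup.r i) : i = 0 := by
  have hpp : p.Prime := Fact.out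
  rw [DihedralGroup.r_mul_sr, DihedralGroup.sr_mul_r] at h
  have h3 : j - i = j + i := by
    injection h
  have h4 : (2 : ZMod p) * i = 0 := by linear_combination -h3
  rcases mul_eq_zero.1 h4 with h5 | h5
  · have : ((2 : ℕ) : ZMod p) = 0 := by exact_mod_cast h5
    rw [ZMod.natCast_eq_zero_iff] at this
    exact absurd ((Nat.prime_dvd_prime_iff_eq hpp Nat.prime_two).1 this) hp
  · exact h5

/-- (1) ⇒ (2) -/
theorem exists_normalizes_of_involves_dihedral [Finite G] {p : ℕ} [Fact p.Prime] (hp : p ≠ 2)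
    (h : Involves (DihedralGroup p) G) :
    ∃ (x : G) (P : Subgroup G), (∃ k : ℕ, orderOf x = 2 ^ k) ∧ IsPGroup p ↥P ∧
      x ∈ Subgroup.normalizer (P : Set G) ∧ x ∉ Subgroup.centralizer (P : Set G) := by
  classical
  have hpp : p.Prime := Fact.out
  obtain ⟨K, f, hf⟩ := Helper26.exists_surjective_of_involves h
  set Z : Subgroup (DihedralGroup p) := Subgroup.zpowers (DihedralGroup.r 1) with hZ
  haveI : Z.Normal := dihedral_rot_normal p
  set H : Subgroup K := Z.comap f with hH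
  haveI : H.Normal := Subgroup.Normal.comap inferInstance f
  obtain ⟨P⟩ : Nonempty (Sylow p H) := inferInstance
  set P' : Subgroup K := (P : Subgroup H).map H.subtype with hP'
  have hfrat : Subgroup.normalizer (P' : Set K) ⊔ H = ⊤ := Sylow.normalizer_sup_eq_top P
  -- element of P not killed by f
  have hu : ∃ u ∈ P', f u ≠ 1 := by
    by_contra hcon
    push Not at hcon
    set fH : H →* DihedralGroup p := f.comp H.subtype with hfH
    have hle : (P : Subgroup H) ≤ fH.ker := by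
      intro u hu
      rw [MonoidHom.mem_ker]
      exact hcon u.1 (Subgroup.mem_map_of_mem _ hu)
    have hrange : fH.range = Z := by
      rw [hfH, MonoidHom.range_comp, Subgroup.range_subtype, hH,
        Subgroup.map_comap_eq_self_of_surjective hf]
    have hidx : fH.ker.index = p := by
      rw [Subgroup.index_ker, hrange, hZ, Nat.card_zpowers, DihedralGroup.orderOf_r_one]
    have hdvd : p ∣ (P : Subgroup H).index := by
      have := Subgroup.index_dvd_of_le hle
      rwa [hidx] at this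
    exact P.not_dvd_index hdvd
  obtain ⟨u, huP, hfu⟩ := hu
  have huH : u ∈ H := by
    obtain ⟨v, _, rfl⟩ := Subgroup.mem_map.1 huP
    exact v.2
  obtain ⟨i, hi⟩ := (dihedral_mem_rot_iff p (f u)).1 huH
  have hi0 : i ≠ 0 := by
    rintro rfl
    rw [DihedralGroup.r_zero] at hi
    exact hfu hi
  -- element of the normalizer mapping to a reflection
  obtain ⟨b, hb⟩ := hf (DihedralGroup.sr 0)
  have hbtop : b ∈ Subgroup.normalizer (P' : Set K) ⊔ H := by rw [hfrat]; trivial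
  have hbtop' : b ∈ ((Subgroup.normalizer (P' : Set K) ⊔ H : Subgroup K) : Set K) := hbtop
  rw [Subgroup.mul_normal] at hbtop'
  obtain ⟨n, hn, c, hc, rfl⟩ := Set.mem_mul.1 hbtop'
  obtain ⟨j, hj⟩ := (dihedral_mem_rot_iff p (f c)).1 hc
  have hfn : f n = DihedralGroup.sr (-j) := by
    have : f n = f (n * c) * (f c)⁻¹ := by rw [map_mul, mul_inv_cancel_right]
    rw [this, hb, hj, DihedralGroup.inv_r, DihedralGroup.sr_mul_r, zero_add]
  -- 2-part of n
  obtain ⟨a, m, hm, hnm⟩ := Nat.exists_eq_pow_mul_and_not_dvd (orderOf_pos n).ne' 2 (by norm_num)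
  have hmodd : Odd m := Nat.odd_iff.2 (Nat.two_dvd_ne_zero.1 hm)
  set x : K := n ^ m with hx
  have hxord : orderOf x = 2 ^ a := by
    have hm0 : m ≠ 0 := by rintro rfl; simp at hm
    rw [hx, orderOf_pow' n hm0, hnm, Nat.gcd_eq_right (Dvd.intro_left _ rfl),
      Nat.mul_div_cancel _ (Nat.pos_of_ne_zero hm0)]
  have hfx : f x = DihedralGroup.sr (-j) := by
    rw [hx, map_pow, hfn]
    obtain ⟨t, rfl⟩ := hmodd
    rw [pow_succ, pow_mul, pow_two, DihedralGroup.sr_mul_self, one_pow, one_mul]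
  have hxN : x ∈ Subgroup.normalizer (P' : Set K) := Subgroup.pow_mem _ hn _
  have hxC : x ∉ Subgroup.centralizer (P' : Set K) := by
    intro hc
    have h1 : u * x = x * u := Subgroup.mem_centralizer_iff.1 hc u huP
    have h2 := congrArg f h1
    rw [map_mul, map_mul, hfx, hi] at h2
    exact hi0 (dihedral_commute_aux hp _ _ h2)
  refine ⟨(x : G), P'.map K.subtype, ⟨a, ?_⟩, ?_, ?_, ?_⟩
  · rw [Subgroup.orderOf_coe, hxord]
  · have h1 : IsPGroup p P' := P.2.map H.subtype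
    exact h1.map K.subtype
  · exact Subgroup.le_normalizer_map K.subtype (Subgroup.mem_map_of_mem _ hxN)
  · intro hc
    apply hxC
    rw [Subgroup.mem_centralizer_iff]
    intro v hv
    apply Subtype.ext
    exact Subgroup.mem_centralizer_iff.1 hc (v : G) (Subgroup.mem_map_of_mem K.subtype hv)

/-- (3) ⇒ (1), general `p`-power order -/
theorem involves_dihedral_of_inverts {p : ℕ} [Fact p.Prime] (hp : p ≠ 2) (x y : G)
    (hx : ∃ k : ℕ, orderOf x = 2 ^ k) (hy : ∃ k : ℕ, orderOf y = p ^ k) (hy1 : y ≠ 1)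
    (hxy : x * y * x⁻¹ = y⁻¹) : Involves (DihedralGroup p) G := by
  have hpp : p.Prime := Fact.out
  obtain ⟨k, hk⟩ := hx
  obtain ⟨m, hm⟩ := hy
  have hm0 : m ≠ 0 := by
    rintro rfl
    rw [pow_zero, orderOf_eq_one_iff] at hm
    exact hy1 hm
  obtain ⟨l, rfl⟩ : ∃ l, m = l + 1 := ⟨m - 1, by omega⟩
  have hord : orderOf (y ^ (p ^ l)) = p := by
    rw [orderOf_pow_of_dvd (pow_ne_zero l hpp.ne_zero) (by rw [hm]; exact pow_dvd_pow p (by omega)),
      hm, pow_succ, Nat.mul_div_cancel_left _ (pow_pos hpp.pos l)]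
  have hinv : x * y ^ (p ^ l) * x⁻¹ = (y ^ (p ^ l))⁻¹ := by
    rw [← conj_pow, hxy, inv_pow]
  exact involves_dihedral_of_inverts_prime hp x (y ^ (p ^ l)) k hk hord hinv

theorem dihedral_involved_iff [Finite G] {p : ℕ} [Fact p.Prime] (hp : p ≠ 2) :
    (Involves (DihedralGroup p) G ↔ ∃ (x : G) (P : Subgroup G), (∃ k : ℕ, orderOf x = 2 ^ k) ∧
      IsPGroup p ↥P ∧ x ∈ Subgroup.normalizer (P : Set G) ∧
        x ∉ Subgroup.centralizer (P : Set G)) ∧
    (Involves (DihedralGroup p) G ↔ ∃ x y : G, (∃ k : ℕ, orderOf x = 2 ^ k) ∧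
      (∃ k : ℕ, orderOf y = p ^ k) ∧ y ≠ 1 ∧ x * y * x⁻¹ = y⁻¹) := by
  have h12 := exists_normalizes_of_involves_dihedral (G := G) hp
  have h23 : (∃ (x : G) (P : Subgroup G), (∃ k : ℕ, orderOf x = 2 ^ k) ∧
      IsPGroup p ↥P ∧ x ∈ Subgroup.normalizer (P : Set G) ∧
        x ∉ Subgroup.centralizer (P : Set G)) → ∃ x y : G, (∃ k : ℕ, orderOf x = 2 ^ k) ∧
      (∃ k : ℕ, orderOf y = p ^ k) ∧ y ≠ 1 ∧ x * y * x⁻¹ = y⁻¹ := by
    rintro ⟨x, P, hx, hP, hN, hC⟩
    exact exists_inverts_of_normalizes x P hx hP hN hC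
  have h31 : (∃ x y : G, (∃ k : ℕ, orderOf x = 2 ^ k) ∧
      (∃ k : ℕ, orderOf y = p ^ k) ∧ y ≠ 1 ∧ x * y * x⁻¹ = y⁻¹) →
      Involves (DihedralGroup p) G := by
    rintro ⟨x, y, hx, hy, hy1, hxy⟩
    exact involves_dihedral_of_inverts hp x y hx hy hy1 hxy
  exact ⟨⟨h12, fun h => h31 (h23 h)⟩, ⟨fun h => h23 (h12 h), h31⟩⟩

end DihedralInvB

end Cfsg.Agent.Helper14
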