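import Mathlib

set_option autoImplicit false

/-!
# Groups generated by involutions with the folding (exchange) condition : lengths and exchange
-/

namespace Cfsg.Agent.Helper14.ExchCox

variable {W : Type*} [Group W] {ι : Type*} (s : ι → W)

/-- word product -/
def wp (l : List ι) : W := (l.map s).prod

@[simp] theorem wp_nil : wp s [] = 1 := rfl

theorem wp_cons (a : ι) (l : List ι) : wp s (a :: l) = s a * wp s l := by
  simp [wp]

theorem wp_append (l l' : List ι) : wp s (l ++ l') = wp s l * wp s l' := by
  simp [wp]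

theorem wp_singleton (a : ι) : wp s [a] = s a := by simp [wp]

/-- word length -/
noncomputable def len (w : W) : ℕ := sInf {n | ∃ l : List ι, l.length = n ∧ wp s l = w}

theorem len_wp_le (l : List ι) : len s (wp s l) ≤ l.length :=
  Nat.sInf_le ⟨l, rfl, rfl⟩

/-- the hypotheses: generating involutions with the folding condition -/
structure Hyp : Prop where
  sq : ∀ i, s i * s i = 1
  ne_one : ∀ i, s i ≠ 1
  gen : ∀ w : W, ∃ l, wp s l = w
  fold : ∀ (u : W) (r t : ι), len s u ≤ len s (s r * u) →
    len s (s r * (u * s t)) ≤ len s (u * s t) → s r * u = u * s t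

variable {s}

theorem exists_reduced (h : Hyp s) (w : W) : ∃ l : List ι, wp s l = w ∧ l.length = len s w := by
  have hne : {n | ∃ l : List ι, l.length = n ∧ wp s l = w}.Nonempty := by
    obtain ⟨l, hl⟩ := h.gen w
    exact ⟨l.length, l, rfl, hl⟩
  obtain ⟨l, hl1, hl2⟩ := Nat.sInf_mem hne
  exact ⟨l, hl2, hl1⟩

theorem len_mul_le (h : Hyp s) (w w' : W) : len s (w * w') ≤ len s w + len s w' := by
  obtain ⟨l, hl, hl'⟩ := exists_reduced h w
  obtain ⟨m, hm, hm'⟩ := exists_reduced h w'
  have := len_wp_le s (l ++ m)
  rw [wp_append, hl, hm, List.length_append, hl', hm'] at this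
  exact this

theorem len_one : len s (1 : W) = 0 := by
  have := len_wp_le s ([] : List ι)
  simpa using this

theorem eq_one_of_len_eq_zero (h : Hyp s) {w : W} (hw : len s w = 0) : w = 1 := by
  obtain ⟨l, hl, hl'⟩ := exists_reduced h w
  rw [hw, List.length_eq_zero_iff] at hl'
  rw [← hl, hl', wp_nil]

theorem len_simple_le (i : ι) : len s (s i) ≤ 1 := by
  have := len_wp_le s [i]
  rwa [wp_singleton] at this

theorem len_simple_mul_le (h : Hyp s) (r : ι) (w : W) : len s (s r * w) ≤ len s w + 1 := by
  have := len_mul_le h (s r) w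
  have := len_simple_le (s := s) r
  omega

theorem simple_mul_cancel (h : Hyp s) (r : ι) (w : W) : s r * (s r * w) = w := by
  rw [← mul_assoc, h.sq, one_mul]

theorem mul_simple_cancel (h : Hyp s) (r : ι) (w : W) : w * s r * s r = w := by
  rw [mul_assoc, h.sq, mul_one]

theorem len_le_simple_mul (h : Hyp s) (r : ι) (w : W) : len s w ≤ len s (s r * w) + 1 := by
  have := len_simple_mul_le h r (s r * w)
  rwa [simple_mul_cancel h] at this

/-- reduced words -/
def Red (s : ι → W) (l : List ι) : Prop := len s (wp s l) = l.length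

theorem Red.append_left (h : Hyp s) {l l' : List ι} (hr : Red s (l ++ l')) : Red s l := by
  unfold Red at hr ⊢
  rw [wp_append, List.length_append] at hr
  have h1 := len_mul_le h (wp s l) (wp s l')
  have h2 := len_wp_le s l
  have h3 := len_wp_le s l'
  omega

theorem Red.append_right (h : Hyp s) {l l' : List ι} (hr : Red s (l ++ l')) : Red s l' := by
  unfold Red at hr ⊢
  rw [wp_append, List.length_append] at hr
  have h1 := len_mul_le h (wp s l) (wp s l')
  have h2 := len_wp_le s l
  have h3 := len_wp_le s l'
  omega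

theorem Red.tail (h : Hyp s) {a : ι} {l : List ι} (hr : Red s (a :: l)) : Red s l :=
  Red.append_right h (l := [a]) hr

theorem red_of_length_eq {l : List ι} {w : W} (hw : wp s l = w) (hl : l.length = len s w) :
    Red s l := by
  unfold Red; rw [hw, hl]

/-- exchange condition for reduced words -/
theorem word_exchange (h : Hyp s) : ∀ (l : List ι) (r : ι), Red s l →
    len s (s r * wp s l) ≤ len s (wp s l) →
    ∃ l₁ t l₂, l = l₁ ++ t :: l₂ ∧ s r * wp s l₁ = wp s l₁ * s t := by
  intro l
  induction l using List.reverseRecOn with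
  | nil =>
    intro r _ hle
    exfalso
    rw [wp_nil, mul_one, len_one] at hle
    exact h.ne_one r (eq_one_of_len_eq_zero h (Nat.le_zero.mp hle))
  | append_singleton l' t ih =>
    intro r hred hle
    have hred' : Red s l' := Red.append_left h hred
    rw [wp_append, wp_singleton] at hle
    rcases Nat.lt_or_ge (len s (s r * wp s l')) (len s (wp s l')) with hlt | hge
    · obtain ⟨l₁, t', l₂, hl, he⟩ := ih r hred' hlt.le
      exact ⟨l₁, t', l₂ ++ [t], by rw [hl]; simp, he⟩
    · exact ⟨l', t, [], rfl, h.fold _ r t hge hle⟩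

/-- consequence: the product after exchange -/
theorem exchange_prod (h : Hyp s) {l₁ l₂ : List ι} {t r : ι}
    (he : s r * wp s l₁ = wp s l₁ * s t) :
    s r * wp s (l₁ ++ t :: l₂) = wp s (l₁ ++ l₂) := by
  rw [wp_append, wp_cons, wp_append, ← mul_assoc, he, mul_assoc, ← mul_assoc (s t), h.sq, one_mul]

end Cfsg.Agent.Helper14.ExchCox
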