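import Cfsg.Agent.Helper14.ExchCoxA

set_option autoImplicit false

/-!
# Tits' word lemma (Bourbaki IV.1.5 Prop. 5) for a group target
-/

namespace Cfsg.Agent.Helper14.ExchCox

variable {ι : Type*}

/-- alternating word of length `k` starting with `a` -/
def alt (a b : ι) : ℕ → List ι
  | 0 => []
  | k + 1 => a :: alt b a k

@[simp] theorem length_alt (a b : ι) (k : ℕ) : (alt a b k).length = k := by
  induction k generalizing a b with
  | zero => rfl
  | succ k ih => simp [alt, ih]

theorem alt_succ_concat (a b : ι) (k : ℕ) :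
    alt a b (k + 1) = alt a b k ++ [if Even k then a else b] := by
  induction k generalizing a b with
  | zero => simp [alt]
  | succ k ih =>
    show a :: alt b a (k + 1) = (a :: alt b a k) ++ _
    rw [ih b a, List.cons_append]
    congr 2
    by_cases hk : Even k
    · have : ¬ Even (k + 1) := by rw [Nat.even_add_one]; exact not_not.mpr hk
      rw [if_pos hk, if_neg this]
    · have : Even (k + 1) := by rw [Nat.even_add_one]; exact hk
      rw [if_neg hk, if_pos this]

theorem alt_prod_mul_inv {G : Type*} [Group G] (g : ι → G) (hg : ∀ i, g i * g i = 1) (a b : ι)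
    (k : ℕ) : wp g (alt a b k) * (wp g (alt b a k))⁻¹ = (g a * g b) ^ k := by
  induction k generalizing a b with
  | zero => simp [alt]
  | succ k ih =>
    have hinv : ∀ i, (g i)⁻¹ = g i := fun i => inv_eq_of_mul_eq_one_right (hg i)
    show wp g (a :: alt b a k) * (wp g (b :: alt a b k))⁻¹ = _
    rw [wp_cons, wp_cons, mul_inv_rev, hinv b]
    have e : g a * wp g (alt b a k) * ((wp g (alt a b k))⁻¹ * g b)
        = g a * (wp g (alt b a k) * (wp g (alt a b k))⁻¹) * g b := by group
    rw [e, ih b a]
    have e2 : g a * g b = g a * (g b * g a) * (g a)⁻¹ := by group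
    rw [pow_succ, e2, conj_pow]
    rw [hinv a]
    have : g a * (g b * g a) ^ k * g a * (g a * (g b * g a) * g a)
        = g a * (g b * g a) ^ k * (g a * g a) * (g b * g a) * g a := by group
    rw [this, hg a, mul_one]
    have : g a * (g b * g a) ^ k * (g b * g a) * g a = g a * (g b * g a) ^ k * g b * (g a * g a) := by
      group
    rw [this, hg a, mul_one]

theorem pow_eq_one_of_alt_eq {G : Type*} [Group G] (g : ι → G) (hg : ∀ i, g i * g i = 1) (a b : ι)
    (k : ℕ) (he : wp g (alt a b k) = wp g (alt b a k)) : (g a * g b) ^ k = 1 := by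
  rw [← alt_prod_mul_inv g hg, he, mul_inv_cancel]

theorem alt_eq_of_pow_eq_one {G : Type*} [Group G] (g : ι → G) (hg : ∀ i, g i * g i = 1) (a b : ι)
    (k : ℕ) (he : (g a * g b) ^ k = 1) : wp g (alt a b k) = wp g (alt b a k) := by
  rw [← alt_prod_mul_inv g hg] at he
  exact mul_inv_eq_one.mp he

variable {W : Type*} [Group W] {s : ι → W} {Γ : Type*} [Group Γ] (f : ι → Γ)

/-- the statement of the word lemma at length `q` -/
def PP (s : ι → W) (f : ι → Γ) (q : ℕ) : Prop :=
  ∀ l l' : List ι, l.length = q → l'.length = q → Red s l → wp s l = wp s l' → wp f l = wp f l'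

variable {f}

theorem same_head (h : Hyp s) {q : ℕ} (IH : ∀ q' < q, PP s f q') {a : ι} {L L' : List ι}
    (hl : (a :: L).length = q) (hl' : (a :: L').length = q) (hr : Red s (a :: L))
    (he : wp s (a :: L) = wp s (a :: L')) : wp f (a :: L) = wp f (a :: L') := by
  rw [wp_cons, wp_cons] at he ⊢
  have he' : wp s L = wp s L' := mul_left_cancel he
  rw [List.length_cons] at hl hl'
  rw [IH L.length (by omega) L L' rfl (by omega) (Red.tail h hr) he']

theorem same_last (h : Hyp s) {q : ℕ} (IH : ∀ q' < q, PP s f q') {c : ι} {L L' : List ι}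
    (hl : (L ++ [c]).length = q) (hl' : (L' ++ [c]).length = q) (hr : Red s (L ++ [c]))
    (he : wp s (L ++ [c]) = wp s (L' ++ [c])) : wp f (L ++ [c]) = wp f (L' ++ [c]) := by
  rw [wp_append, wp_append] at he ⊢
  have he' : wp s L = wp s L' := mul_right_cancel he
  rw [List.length_append, List.length_singleton] at hl hl'
  rw [IH L.length (by omega) L L' rfl (by omega) (Red.append_left h hr) he']

theorem rotate (h : Hyp s) {q : ℕ} (IH : ∀ q' < q, PP s f q') {b : ι} {Y z : List ι}
    (hy : (b :: Y).length = q) (hz : z.length = q) (hry : Red s (b :: Y))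
    (he : wp s (b :: Y) = wp s z) :
    wp f (b :: Y) = wp f z ∨
      ∃ z₁ t, z = z₁ ++ [t] ∧ wp s (b :: z₁) = wp s z ∧ wp f (b :: z₁) = wp f (b :: Y) := by
  have hlenz : len s (wp s z) = q := by rw [← he, hry, hy]
  have hrz : Red s z := by unfold Red; rw [hlenz, hz]
  have hle : len s (s b * wp s z) ≤ len s (wp s z) := by
    have e1 : s b * wp s z = wp s Y := by rw [← he, wp_cons, simple_mul_cancel h]
    rw [e1, hlenz]
    have := len_wp_le s Y
    rw [List.length_cons] at hy
    omega
  obtain ⟨z₁, t, z₂, hzz, hex⟩ := word_exchange h z b hrz hle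
  have hprod : s b * wp s z = wp s (z₁ ++ z₂) := by rw [hzz]; exact exchange_prod h hex
  have hv : wp s (b :: (z₁ ++ z₂)) = wp s z := by
    rw [wp_cons, ← hprod, simple_mul_cancel h]
  have hvlen : (b :: (z₁ ++ z₂)).length = q := by
    rw [← hz, hzz]; simp; omega
  have hrv : Red s (b :: (z₁ ++ z₂)) := by unfold Red; rw [hv, hlenz, hvlen]
  have h1 : wp f (b :: Y) = wp f (b :: (z₁ ++ z₂)) :=
    same_head h IH hy hvlen hry (he.trans hv.symm)
  rcases List.eq_nil_or_concat z₂ with hz2 | ⟨z₂', c, hz2⟩
  · right
    subst hz2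
    rw [List.append_nil] at hv h1
    exact ⟨z₁, t, hzz, hv, h1.symm⟩
  · left
    rw [List.concat_eq_append] at hz2
    subst hz2
    have e1 : b :: (z₁ ++ (z₂' ++ [c])) = (b :: (z₁ ++ z₂')) ++ [c] := by simp
    have e2 : z = (z₁ ++ t :: z₂') ++ [c] := by rw [hzz]; simp
    rw [h1, e1, e2]
    apply same_last h IH
    · rw [← e1]; exact hvlen
    · rw [← e2]; exact hz
    · rw [← e1]; exact hrv
    · rw [← e1, ← e2]; exact hv

theorem iter (h : Hyp s) (fsq : ∀ i, f i * f i = 1)
    (braid : ∀ a b q, (s a * s b) ^ q = 1 → (f a * f b) ^ q = 1)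
    {q : ℕ} (IH : ∀ q' < q, PP s f q') (w : W) (hw : len s w = q) :
    ∀ (n j : ℕ) (a b : ι) (T : List ι) (t' : ι), T.length = n → j + 1 + n = q →
      (alt b a j ++ (T ++ [t'])).head? = some b →
      wp s (alt b a j ++ (T ++ [t'])) = w → wp s (alt a b (j + 1) ++ T) = w →
      wp f (alt b a j ++ (T ++ [t'])) = wp f (alt a b (j + 1) ++ T) := by
  intro n
  induction n with
  | zero =>
    intro j a b T t' hT hq hhead hy hz
    rw [List.length_eq_zero_iff] at hT
    subst hT
    rw [List.append_nil] at hz ⊢
    rw [List.nil_append] at hy hhead ⊢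
    -- y = alt b a j ++ [t'] starts with b
    obtain ⟨Y, hY⟩ : ∃ Y, alt b a j ++ [t'] = b :: Y := by
      cases hyy : alt b a j ++ [t'] with
      | nil => simp at hyy
      | cons x Y =>
        rw [hyy] at hhead
        simp only [List.head?_cons, Option.some.injEq] at hhead
        exact ⟨Y, by rw [hhead]⟩
    have hylen : (alt b a j ++ [t']).length = q := by simp; omega
    have hzlen : (alt a b (j + 1)).length = q := by simp; omega
    rw [hY] at hy hylen ⊢
    have hry : Red s (b :: Y) := by unfold Red; rw [hy, hw, hylen]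
    rcases rotate h IH hylen hzlen hry (hy.trans hz.symm) with h1 | ⟨z₁, t, hz1, hv, hfv⟩
    · exact h1
    · rw [alt_succ_concat] at hz1
      have hz1' : alt a b j = z₁ := (List.append_inj' hz1 rfl).1
      subst hz1'
      rw [← hfv]
      have e : b :: alt a b j = alt b a (j + 1) := rfl
      rw [e] at hv ⊢
      have hpow : (s b * s a) ^ (j + 1) = 1 := pow_eq_one_of_alt_eq s h.sq b a (j + 1) hv
      exact alt_eq_of_pow_eq_one f fsq b a (j + 1) (braid b a (j + 1) hpow)
  | succ n ih =>
    intro j a b T t' hT hq hhead hy hz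
    obtain ⟨Y, hY⟩ : ∃ Y, alt b a j ++ (T ++ [t']) = b :: Y := by
      cases hyy : alt b a j ++ (T ++ [t']) with
      | nil => simp at hyy
      | cons x Y =>
        rw [hyy] at hhead
        simp only [List.head?_cons, Option.some.injEq] at hhead
        exact ⟨Y, by rw [hhead]⟩
    have hylen : (alt b a j ++ (T ++ [t'])).length = q := by simp; omega
    have hzlen : (alt a b (j + 1) ++ T).length = q := by simp; omega
    have hry : Red s (b :: Y) := by unfold Red; rw [← hY, hy, hw, hylen]
    have hrot := rotate h IH (hY ▸ hylen) hzlen hry ((hY ▸ hy).trans hz.symm)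
    rw [← hY] at hrot
    rcases hrot with h1 | ⟨z₁, t, hz1, hv, hfv⟩
    · exact h1
    · -- T = T₀ ++ [t₀]
      rcases List.eq_nil_or_concat T with hT0 | ⟨T₀, t₀, hT0⟩
      · rw [hT0] at hT; simp at hT
      rw [List.concat_eq_append] at hT0
      subst hT0
      have hz1' : alt a b (j + 1) ++ T₀ = z₁ := by
        rw [← List.append_assoc] at hz1
        exact (List.append_inj' hz1 rfl).1
      subst hz1'
      rw [← hfv]
      -- apply ih to the pair (z, v)
      have hT₀ : T₀.length = n := by
        rw [List.length_append, List.length_singleton] at hT; omega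
      have e : b :: (alt a b (j + 1) ++ T₀) = alt b a (j + 1 + 1) ++ T₀ := rfl
      rw [e] at hv ⊢
      have := ih (j + 1) b a T₀ t₀ hT₀ (by omega) (by simp [alt]) hz (hv.trans hz)
      exact this.symm

/-- **Tits' word lemma** : two reduced words for the same element have the same image. -/
theorem word_lemma (h : Hyp s) (fsq : ∀ i, f i * f i = 1)
    (braid : ∀ a b q, (s a * s b) ^ q = 1 → (f a * f b) ^ q = 1) : ∀ q, PP s f q := by
  intro q
  induction q using Nat.strong_induction_on with
  | _ q IH =>
    intro l l' hl hl' hr he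
    -- y := l', z := l ; both nonempty unless q = 0
    cases l' with
    | nil =>
      have : q = 0 := by simpa using hl'.symm
      subst this
      rw [List.length_eq_zero_iff] at hl
      rw [hl]
    | cons b Y =>
      have hw : len s (wp s l) = q := by rw [hr, hl]
      have hry : Red s (b :: Y) := by unfold Red; rw [← he, hw, hl']
      rcases rotate h IH hl' hl hry he.symm with h1 | ⟨z₁, t, hz1, hv, hfv⟩
      · exact h1.symm
      · rw [← hfv]
        -- pair (y, z) := (l, b :: z₁) with l = z₁ ++ [t]
        cases hl0 : l with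
        | nil => rw [hl0] at hz1; simp at hz1
        | cons a' Z =>
          have hq : 0 + 1 + z₁.length = q := by
            rw [← hl, hz1]; simp; omega
          have := iter h fsq braid IH (wp s l) hw z₁.length 0 b a' z₁ t rfl hq
            (by
              show (z₁ ++ [t]).head? = some a'
              rw [← hz1, hl0]; rfl)
            (by show wp s ([] ++ (z₁ ++ [t])) = wp s l; rw [List.nil_append, ← hz1])
            (by show wp s (b :: [] ++ z₁) = wp s l; exact hv)
          rw [← hl0]
          have e : ([] : List ι) ++ (z₁ ++ [t]) = l := by rw [List.nil_append, ← hz1]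
          show wp f l = wp f (b :: z₁)
          rw [show alt a' b 0 = [] from rfl, e] at this
          exact this

end Cfsg.Agent.Helper14.ExchCox
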