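import Cfsg.Agent.Helper14.ExchCoxB

set_option autoImplicit false

/-!
# The folding/exchange condition implies a Coxeter system (Bourbaki IV.1.6 Thm 1)
-/

namespace Cfsg.Agent.Helper14.ExchCox

variable {ι : Type*} {W : Type*} [Group W] {s : ι → W} {Γ : Type*} [Group Γ] {f : ι → Γ}

section Hom

variable (h : Hyp s) (fsq : ∀ i, f i * f i = 1)
  (braid : ∀ a b q, (s a * s b) ^ q = 1 → (f a * f b) ^ q = 1)

/-- the map defined through reduced words -/
noncomputable def gmap (h : Hyp s) (f : ι → Γ) (w : W) : Γ :=
  wp f (Classical.choose (exists_reduced h w))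

include fsq braid in
theorem gmap_eq {l : List ι} {w : W} (hw : wp s l = w) (hl : l.length = len s w) :
    gmap h f w = wp f l := by
  unfold gmap
  obtain ⟨h1, h2⟩ := Classical.choose_spec (exists_reduced h w)
  refine word_lemma h fsq braid (len s w) _ _ h2 hl ?_ (h1.trans hw.symm)
  exact red_of_length_eq h1 h2

include fsq braid in
theorem gmap_simple_mul (r : ι) (w : W) : gmap h f (s r * w) = f r * gmap h f w := by
  obtain ⟨l, hl1, hl2⟩ := exists_reduced h w
  have hgw : gmap h f w = wp f l := gmap_eq h fsq braid hl1 hl2
  rcases Nat.lt_or_ge (len s w) (len s (s r * w)) with hlt | hge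
  · -- r :: l is reduced
    have hle := len_simple_mul_le h r w
    have h1 : wp s (r :: l) = s r * w := by rw [wp_cons, hl1]
    have h2 : (r :: l).length = len s (s r * w) := by rw [List.length_cons]; omega
    rw [gmap_eq h fsq braid h1 h2, wp_cons, hgw]
  · have hred : Red s l := red_of_length_eq hl1 hl2
    obtain ⟨l₁, t, l₂, hll, hex⟩ := word_exchange h l r hred (by rw [hl1]; exact hge)
    have hprod : s r * w = wp s (l₁ ++ l₂) := by
      rw [← hl1, hll]; exact exchange_prod h hex
    have hlen : l.length = (l₁ ++ l₂).length + 1 := by rw [hll]; simp; omega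
    have hge' := len_le_simple_mul h r w
    have hle' := len_wp_le s (l₁ ++ l₂)
    rw [← hprod] at hle'
    have h2 : (l₁ ++ l₂).length = len s (s r * w) := by omega
    have h3 : wp s (r :: (l₁ ++ l₂)) = w := by
      rw [wp_cons, ← hprod, simple_mul_cancel h]
    have h4 : (r :: (l₁ ++ l₂)).length = len s w := by rw [List.length_cons]; omega
    rw [gmap_eq h fsq braid hprod.symm h2, gmap_eq h fsq braid h3 h4, wp_cons, ← mul_assoc, fsq,
      one_mul]

include fsq braid in
theorem gmap_one : gmap h f (1 : W) = 1 := by
  have := gmap_eq h fsq braid (l := []) (w := (1 : W)) rfl (by rw [len_one]; rfl)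
  rw [this]; rfl

include fsq braid in
theorem gmap_wp_mul (l : List ι) (w : W) : gmap h f (wp s l * w) = wp f l * gmap h f w := by
  induction l with
  | nil => simp
  | cons a l ih =>
    rw [wp_cons, wp_cons, mul_assoc, gmap_simple_mul h fsq braid, ih, mul_assoc]

include fsq braid in
theorem gmap_mul (w w' : W) : gmap h f (w * w') = gmap h f w * gmap h f w' := by
  obtain ⟨l, hl⟩ := h.gen w
  have h1 := gmap_wp_mul h fsq braid l 1
  rw [mul_one, gmap_one h fsq braid, mul_one] at h1
  rw [← hl, gmap_wp_mul h fsq braid, h1]

/-- the homomorphism `W →* Γ` with `s i ↦ f i` -/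
noncomputable def ghom : W →* Γ where
  toFun := gmap h f
  map_one' := gmap_one h fsq braid
  map_mul' := gmap_mul h fsq braid

theorem ghom_simple (i : ι) : ghom h fsq braid (s i) = f i := by
  show gmap h f (s i) = f i
  have := gmap_simple_mul h fsq braid i 1
  rw [mul_one, gmap_one h fsq braid, mul_one] at this
  exact this

theorem ghom_wp (l : List ι) : ghom h fsq braid (wp s l) = wp f l := by
  unfold wp
  rw [map_list_prod, List.map_map]
  congr 1
  apply List.map_congr_left
  intro i _
  exact ghom_simple h fsq braid i

end Hom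

section Cox

variable (h : Hyp s) (hinj : Function.Injective s)

/-- the Coxeter matrix of orders of products -/
noncomputable def ordMatrix (s : ι → W) (h : Hyp s) (hinj : Function.Injective s) :
    CoxeterMatrix ι where
  M := Matrix.of fun a b => orderOf (s a * s b)
  isSymm := by
    ext a b
    simp only [Matrix.transpose_apply, Matrix.of_apply]
    exact SemiconjBy.orderOf_eq (s a)
      (show SemiconjBy (s a) (s b * s a) (s a * s b) from (mul_assoc _ _ _).symm)
  diagonal i := by
    simp only [Matrix.of_apply]
    rw [h.sq, orderOf_one]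
  off_diagonal a b hab := by
    simp only [Matrix.of_apply]
    intro h1
    rw [orderOf_eq_one_iff] at h1
    apply hab
    apply hinj
    have : s a * s b = s b * s b := by rw [h1, h.sq]
    exact mul_right_cancel this

theorem ordMatrix_apply (a b : ι) : ordMatrix s h hinj a b = orderOf (s a * s b) := rfl

theorem liftable : (ordMatrix s h hinj).IsLiftable s := by
  intro a b
  rw [ordMatrix_apply]
  exact pow_orderOf_eq_one _

theorem braid_cox (a b : ι) (q : ℕ) (hq : (s a * s b) ^ q = 1) :
    ((ordMatrix s h hinj).simple a * (ordMatrix s h hinj).simple b) ^ q = 1 := by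
  have hdvd : orderOf (s a * s b) ∣ q := orderOf_dvd_of_pow_eq_one hq
  obtain ⟨c, rfl⟩ := hdvd
  rw [pow_mul]
  have := (ordMatrix s h hinj).toCoxeterSystem.simple_mul_simple_pow a b
  rw [ordMatrix_apply] at this
  rw [CoxeterMatrix.toCoxeterSystem_simple] at this
  rw [this, one_pow]

theorem fsq_cox (i : ι) : (ordMatrix s h hinj).simple i * (ordMatrix s h hinj).simple i = 1 := by
  have := (ordMatrix s h hinj).toCoxeterSystem.simple_mul_simple_self i
  rwa [CoxeterMatrix.toCoxeterSystem_simple] at this

/-- the isomorphism `W ≃* M.Group` -/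
noncomputable def coxEquiv : W ≃* (ordMatrix s h hinj).Group where
  toFun := ghom h (fsq_cox h hinj) (braid_cox h hinj)
  invFun := (ordMatrix s h hinj).toCoxeterSystem.lift ⟨s, liftable h hinj⟩
  left_inv w := by
    obtain ⟨l, rfl⟩ := h.gen w
    rw [ghom_wp]
    unfold wp
    rw [map_list_prod, List.map_map]
    congr 1
    apply List.map_congr_left
    intro i _
    simp only [Function.comp]
    have := (ordMatrix s h hinj).toCoxeterSystem.lift_apply_simple (liftable h hinj) i
    rwa [CoxeterMatrix.toCoxeterSystem_simple] at this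
  right_inv x := by
    have key : (ghom h (fsq_cox h hinj) (braid_cox h hinj)).comp
        ((ordMatrix s h hinj).toCoxeterSystem.lift ⟨s, liftable h hinj⟩) = MonoidHom.id _ := by
      apply (ordMatrix s h hinj).toCoxeterSystem.ext_simple
      intro i
      rw [MonoidHom.comp_apply, CoxeterSystem.lift_apply_simple, ghom_simple,
        CoxeterMatrix.toCoxeterSystem_simple]
      rfl
    exact DFunLike.congr_fun key x
  map_mul' := map_mul _

include h hinj in
/-- **Main abstract theorem** : a group generated by involutions with the folding condition is a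
Coxeter group. -/
theorem exists_coxeterSystem : ∃ (M : CoxeterMatrix ι) (cs : CoxeterSystem M W),
    ∀ i, cs.simple i = s i := by
  refine ⟨ordMatrix s h hinj, ⟨coxEquiv h hinj⟩, ?_⟩
  intro i
  show (coxEquiv h hinj).symm (PresentedGroup.of i) = s i
  show (ordMatrix s h hinj).toCoxeterSystem.lift ⟨s, liftable h hinj⟩ (PresentedGroup.of i) = s i
  have := (ordMatrix s h hinj).toCoxeterSystem.lift_apply_simple (liftable h hinj) i
  rwa [CoxeterMatrix.toCoxeterSystem_simple] at this

end Cox

end Cfsg.Agent.Helper14.ExchCox
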