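import Mathlib
import Cfsg.Prelude.Def_Transfer
import Cfsg.Agent.Helper1.PGroup
import Cfsg.Agent.Helper9.HomCount

set_option autoImplicit false
set_option linter.unusedSectionVars false

namespace Cfsg.Agent.Helper14

open Cfsg

open scoped commutatorElement

section ExtraPlus

variable {E : Type*} [Group E] [Finite E]

theorem extraspecial_commutator_mem (hE : IsExtraspecial 2 E) (x y : E) :
    ⁅x, y⁆ ∈ Subgroup.center E := by
  rw [← hE.1.2.2]
  exact Subgroup.commutator_mem_commutator (Subgroup.mem_top x) (Subgroup.mem_top y)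

theorem extraspecial_sq_mem (hE : IsExtraspecial 2 E) (x : E) : x ^ 2 ∈ Subgroup.center E := by
  rw [← hE.1.2.1]
  exact Helper1.IsPGroup.pow_mem_frattini hE.1.1 x

theorem extraspecial_center_sq (hE : IsExtraspecial 2 E) {c : E} (hc : c ∈ Subgroup.center E) :
    c ^ 2 = 1 := by
  have h : (⟨c, hc⟩ : ↥(Subgroup.center E)) ^ 2 = 1 := by
    rw [← hE.2]
    exact pow_card_eq_one'
  exact congrArg Subtype.val h

theorem extraspecial_pow_four (hE : IsExtraspecial 2 E) (x : E) : x ^ 4 = 1 := by
  have : x ^ 4 = (x ^ 2) ^ 2 := by rw [← pow_mul]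
  rw [this]
  exact extraspecial_center_sq hE (extraspecial_sq_mem hE x)

theorem extraspecial_orderOf_eq_four_iff (hE : IsExtraspecial 2 E) (x : E) :
    orderOf x = 4 ↔ x ^ 2 ≠ 1 := by
  constructor
  · intro h h2
    have := orderOf_dvd_of_pow_eq_one h2
    rw [h] at this
    omega
  · intro h2
    have hd : orderOf x ∣ 2 ^ 2 := orderOf_dvd_of_pow_eq_one (extraspecial_pow_four hE x)
    obtain ⟨k, hk, hk2⟩ := (Nat.dvd_prime_pow Nat.prime_two).1 hd
    interval_cases k
    · exfalso; apply h2
      rw [pow_zero, orderOf_eq_one_iff] at hk2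
      rw [hk2, one_pow]
    · exfalso; apply h2
      rw [pow_one] at hk2
      rw [← hk2, pow_orderOf_eq_one]
    · exact hk2

/-- an elementary abelian subgroup of order `2^(m+1)` is self-centralizing -/
theorem extraspecial_centralizer_eq (hE : IsExtraspecial 2 E) (m : ℕ)
    (hcard : Nat.card E = 2 ^ (2 * m + 1)) (A : Subgroup E) (hA : IsElementaryAbelian 2 A)
    (hAc : Nat.card A = 2 ^ (m + 1)) : Subgroup.centralizer (A : Set E) = A := by
  have hle : A ≤ Subgroup.centralizer (A : Set E) := by
    intro a ha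
    rw [Subgroup.mem_centralizer_iff]
    intro b hb
    have := hA.1.is_comm.comm ⟨b, hb⟩ ⟨a, ha⟩
    exact congrArg Subtype.val this
  have key := Helper9.relIndex_centralizer_eq (p := 2) (Subgroup.center E) ⊤ A hE.2
    (fun x _ => by
      rw [Subgroup.mem_centralizer_iff]
      intro c hc
      exact (Subgroup.mem_center_iff.1 hc x).symm)
    (fun x _ => by
      rw [Subgroup.mem_centralizer_iff]
      intro c hc
      exact (Subgroup.mem_center_iff.1 hc x).symm)
    (fun a _ b _ => extraspecial_commutator_mem hE a b)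
  rw [Subgroup.relIndex_top_right, Subgroup.coe_top, Subgroup.centralizer_univ] at key
  -- |A ∩ Z| ≤ 2
  have h1 : (Subgroup.center E).relIndex A * Nat.card ↥((Subgroup.center E).subgroupOf A) =
      Nat.card ↥A := by
    rw [Subgroup.relIndex]
    exact Subgroup.index_mul_card _
  have h2 : Nat.card ↥((Subgroup.center E).subgroupOf A) ≤ 2 := by
    rw [← hE.2]
    apply Nat.card_le_card_of_injective
      (fun x : ↥((Subgroup.center E).subgroupOf A) =>
        (⟨((x : ↥A) : E), Subgroup.mem_subgroupOf.1 x.2⟩ : ↥(Subgroup.center E)))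
    intro x y hxy
    apply Subtype.ext
    apply Subtype.ext
    have := congrArg Subtype.val hxy
    exact this
  have h3 : (Subgroup.centralizer (A : Set E)).index * Nat.card ↥(Subgroup.centralizer (A : Set E)) =
      Nat.card E := Subgroup.index_mul_card _
  rw [key] at h3
  set idx := (Subgroup.center E).relIndex A with hidx
  set k := Nat.card ↥((Subgroup.center E).subgroupOf A) with hk
  set c := Nat.card ↥(Subgroup.centralizer (A : Set E)) with hc
  have h4 : 2 ^ m ≤ idx := by
    have : 2 ^ (m + 1) ≤ idx * 2 := by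
      rw [← hAc, ← h1]
      exact Nat.mul_le_mul_left _ h2
    rw [pow_succ] at this
    omega
  have h5 : c ≤ 2 ^ (m + 1) := by
    have : c * 2 ^ m ≤ 2 ^ (m + 1) * 2 ^ m := by
      calc c * 2 ^ m ≤ c * idx := Nat.mul_le_mul_left _ h4
        _ = idx * c := mul_comm _ _
        _ = 2 ^ (2 * m + 1) := by rw [h3, hcard]
        _ = 2 ^ (m + 1) * 2 ^ m := by rw [← pow_add]; congr 1; omega
    exact Nat.le_of_mul_le_mul_right this (by positivity)
  symm
  apply Subgroup.eq_of_le_of_card_ge hle
  rw [hAc]
  exact h5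

end ExtraPlus

end Cfsg.Agent.Helper14
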