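import Cfsg.Agent.Helper14.ExtraPlus

set_option autoImplicit false
set_option linter.unusedSectionVars false

namespace Cfsg.Agent.Helper14

open Cfsg

open scoped commutatorElement

section ExtraPlus2

variable {E : Type*} [Group E] [Finite E]

/-- the commutator character `a ↦ [a, x]` on a subgroup -/
def commChar (hE : IsExtraspecial 2 E) (A : Subgroup E) (x : E) : ↥A →* ↥(Subgroup.center E) where
  toFun a := ⟨⁅(a : E), x⁆, extraspecial_commutator_mem hE _ _⟩
  map_one' := by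
    apply Subtype.ext
    show ⁅(1 : E), x⁆ = 1
    simp
  map_mul' a b := by
    apply Subtype.ext
    show ⁅(a : E) * (b : E), x⁆ = ⁅(a : E), x⁆ * ⁅(b : E), x⁆
    have hc : ∀ g : E, g * ⁅(b : E), x⁆ = ⁅(b : E), x⁆ * g :=
      Subgroup.mem_center_iff.1 (extraspecial_commutator_mem hE (b : E) x)
    have h1 : ⁅(a : E) * (b : E), x⁆ = (a : E) * ⁅(b : E), x⁆ * (x * (a : E)⁻¹ * x⁻¹) := by
      simp only [commutatorElement_def]
      group
    rw [h1, hc (a : E), mul_assoc, ← hc]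
    simp only [commutatorElement_def]
    group

theorem commChar_apply (hE : IsExtraspecial 2 E) (A : Subgroup E) (x : E) (a : ↥A) :
    ((commChar hE A x a : ↥(Subgroup.center E)) : E) = ⁅(a : E), x⁆ := rfl

theorem sq_mul_eq_one_iff {A : Subgroup E}
    (hA : IsElementaryAbelian 2 A) (x : E) (a : ↥A) :
    ((a : E) * x) ^ 2 = 1 ↔ ⁅(a : E), x⁆ = (x ^ 2)⁻¹ := by
  have ha : (a : E)⁻¹ = (a : E) := by
    have h2 := hA.2 a a.2
    rw [pow_two] at h2
    exact inv_eq_of_mul_eq_one_left h2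
  have h1 : ((a : E) * x) ^ 2 = ⁅(a : E), x⁆ * x ^ 2 := by
    rw [commutatorElement_def, ha, pow_two, pow_two]
    group
  rw [h1, mul_eq_one_iff_eq_inv]

/-- for `x ∉ A = C_E(A)`, exactly half of the `a ∈ A` have `(a x)² = 1` -/
theorem extraspecial_count_coset (hE : IsExtraspecial 2 E) {A : Subgroup E}
    (hA : IsElementaryAbelian 2 A) (hCA : Subgroup.centralizer (A : Set E) = A) (x : E)
    (hx : x ∉ A) : 2 * Nat.card {a : ↥A // ((a : E) * x) ^ 2 = 1} = Nat.card ↥A := by
  set χ := commChar hE A x with hχ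
  -- nontrivial
  have hne : ∃ a₀ : ↥A, χ a₀ ≠ 1 := by
    by_contra hcon
    push Not at hcon
    apply hx
    rw [← hCA, Subgroup.mem_centralizer_iff]
    intro a ha
    have h1 := congrArg Subtype.val (hcon ⟨a, ha⟩)
    rw [commChar_apply] at h1
    have h2 : ⁅a, x⁆ = 1 := h1
    rw [commutatorElement_eq_one_iff_mul_comm] at h2
    exact h2
  obtain ⟨a₀, ha₀⟩ := hne
  have hZ2 : Nat.card ↥(Subgroup.center E) = 2 := hE.2
  have hsurj : Function.Surjective χ := by
    intro c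
    by_cases hc : c = 1
    · exact ⟨1, by rw [hc, map_one]⟩
    · refine ⟨a₀, ?_⟩
      obtain ⟨y, hy1, hy2⟩ := (Nat.card_eq_two_iff' (1 : ↥(Subgroup.center E))).1 hZ2
      rw [hy2 c hc, hy2 (χ a₀) ha₀]
  have hcard : Nat.card ↥A = 2 * Nat.card ↥χ.ker := by
    rw [Subgroup.card_eq_card_quotient_mul_card_subgroup χ.ker,
      Nat.card_congr (QuotientGroup.quotientKerEquivOfSurjective χ hsurj).toEquiv, hZ2]
  have hc : (x ^ 2)⁻¹ ∈ Subgroup.center E := Subgroup.inv_mem _ (extraspecial_sq_mem hE x)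
  have hfib : Nat.card {a : ↥A // ((a : E) * x) ^ 2 = 1} = Nat.card ↥χ.ker := by
    have e1 : {a : ↥A // ((a : E) * x) ^ 2 = 1} ≃ (χ ⁻¹' {⟨(x ^ 2)⁻¹, hc⟩} : Set ↥A) := by
      apply Equiv.subtypeEquivRight
      intro a
      rw [sq_mul_eq_one_iff hA x a, Set.mem_preimage, Set.mem_singleton_iff, Subtype.ext_iff,
        commChar_apply]
    rw [Nat.card_congr e1]
    exact Nat.card_congr (MonoidHom.fiberEquivKerOfSurjective hsurj _)
  rw [hfib, hcard]

end ExtraPlus2

end Cfsg.Agent.Helper14
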