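import Cfsg.Agent.Helper14.ExtraPlus2

set_option autoImplicit false
set_option linter.unusedSectionVars false
set_option linter.style.haveILetI false

namespace Cfsg.Agent.Helper14

open Cfsg

section ExtraPlus3

variable {E : Type*} [Group E] [Finite E]

/-- number of solutions of `x² = 1` in a plus-type extraspecial group -/
theorem extraspecial_plus_sq_count (hE : IsExtraspecial 2 E) (m : ℕ)
    (hcard : Nat.card E = 2 ^ (2 * m + 1)) (A : Subgroup E) (hA : IsElementaryAbelian 2 A)
    (hAc : Nat.card A = 2 ^ (m + 1)) :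
    2 * Nat.card {x : E // x ^ 2 = 1} = Nat.card E + Nat.card ↥A := by
  classical
  have hCA := extraspecial_centralizer_eq hE m hcard A hA hAc
  haveI : Fintype E := Fintype.ofFinite E
  set j := Nat.card {x : E // x ^ 2 = 1} with hj
  set nA := Nat.card ↥A with hnA
  -- the double sum
  have hsum1 : ∑ x : E, ∑ a : ↥A, (if ((a : E) * x) ^ 2 = 1 then 1 else 0 : ℕ) = nA * j := by
    rw [Finset.sum_comm]
    have : ∀ a : ↥A, ∑ x : E, (if ((a : E) * x) ^ 2 = 1 then 1 else 0 : ℕ) = j := by
      intro a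
      rw [hj, Nat.card_eq_fintype_card, Fintype.card_subtype, Finset.card_filter]
      exact Equiv.sum_comp (Equiv.mulLeft (a : E)) (fun y => (if y ^ 2 = 1 then 1 else 0 : ℕ))
    rw [Finset.sum_congr rfl (fun a _ => this a), Finset.sum_const, Finset.card_univ, smul_eq_mul,
      hnA, Nat.card_eq_fintype_card]
  have hc : ∀ x : E, 2 * ∑ a : ↥A, (if ((a : E) * x) ^ 2 = 1 then 1 else 0 : ℕ) =
      nA + (if x ∈ A then nA else 0) := by
    intro x
    have hcnt : ∑ a : ↥A, (if ((a : E) * x) ^ 2 = 1 then 1 else 0 : ℕ) =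
        Nat.card {a : ↥A // ((a : E) * x) ^ 2 = 1} := by
      rw [Nat.card_eq_fintype_card, Fintype.card_subtype, Finset.card_filter]
    rw [hcnt]
    by_cases hx : x ∈ A
    · rw [if_pos hx]
      have : Nat.card {a : ↥A // ((a : E) * x) ^ 2 = 1} = nA := by
        rw [hnA]
        apply Nat.card_congr
        apply Equiv.subtypeUnivEquiv
        intro a
        exact hA.2 _ (A.mul_mem a.2 hx)
      rw [this]; ring
    · rw [if_neg hx, extraspecial_count_coset hE hA hCA x hx, add_zero]
  have hind : ∑ x : E, (if x ∈ A then nA else 0 : ℕ) = nA * nA := by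
    have h1 : ∀ x : E, (if x ∈ A then nA else 0 : ℕ) = nA * (if x ∈ A then 1 else 0) := by
      intro x; split_ifs <;> simp
    rw [Finset.sum_congr rfl (fun x _ => h1 x), ← Finset.mul_sum, ← Finset.card_filter,
      ← Fintype.card_subtype]
    congr 1
    rw [hnA, Nat.card_eq_fintype_card]
  have hsum2 : 2 * (nA * j) = Nat.card E * nA + nA * nA := by
    rw [← hsum1, Finset.mul_sum, Finset.sum_congr rfl (fun x _ => hc x), Finset.sum_add_distrib,
      Finset.sum_const, Finset.card_univ, smul_eq_mul, hind, Nat.card_eq_fintype_card]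
  have hpos : 0 < nA := by rw [hAc]; positivity
  have : nA * (2 * j) = nA * (Nat.card E + nA) := by
    rw [mul_add, mul_comm nA (Nat.card E), ← hsum2]; ring
  exact Nat.eq_of_mul_eq_mul_left hpos this

end ExtraPlus3

end Cfsg.Agent.Helper14

namespace Cfsg.Agent.Helper14

open Cfsg

section ExtraPlus4

variable {E : Type*} [Group E] [Finite E]

/-- S2880 -/
theorem extraspecial_plus_order_four_count (m : ℕ) (hE : IsExtraspecial 2 E)
    (hcard : Nat.card E = 2 ^ (2 * m + 1))
    (hplus : ∃ A : Subgroup E, IsElementaryAbelian 2 A ∧ Nat.card A = 2 ^ (m + 1)) :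
    Nat.card {x : E // orderOf x = 4} = 2 ^ (2 * m) - 2 ^ m := by
  classical
  obtain ⟨A, hA, hAc⟩ := hplus
  have hcount := extraspecial_plus_sq_count hE m hcard A hA hAc
  haveI : Fintype E := Fintype.ofFinite E
  have h1 : Nat.card {x : E // orderOf x = 4} = Nat.card {x : E // ¬ x ^ 2 = 1} := by
    apply Nat.card_congr
    apply Equiv.subtypeEquivRight
    intro x
    exact extraspecial_orderOf_eq_four_iff hE x
  have h2 : Nat.card {x : E // ¬ x ^ 2 = 1} = Nat.card E - Nat.card {x : E // x ^ 2 = 1} := by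
    rw [Nat.card_eq_fintype_card, Nat.card_eq_fintype_card, Nat.card_eq_fintype_card,
      Fintype.card_subtype_compl]
  rw [h1, h2, hcard]
  rw [hcard, hAc] at hcount
  have e1 : 2 ^ (2 * m + 1) = 2 * 2 ^ (2 * m) := by rw [pow_succ]; ring
  have e2 : 2 ^ (m + 1) = 2 * 2 ^ m := by rw [pow_succ]; ring
  rw [e1, e2] at hcount
  rw [e1]
  omega

end ExtraPlus4

end Cfsg.Agent.Helper14
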