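import Cfsg.Agent.Helper14.ExtraPlus3

set_option autoImplicit false
set_option linter.unusedSectionVars false
set_option linter.style.haveILetI false

namespace Cfsg.Agent.Helper14

open Cfsg

section ExtraPlus5

variable {E : Type*} [Group E] [Finite E]

theorem four_dvd_of_five_dvd (m : ℕ) (h : 5 ∣ 2 ^ (2 * m) - 2 ^ m) : 4 ∣ m := by
  have e : 2 ^ (2 * m) - 2 ^ m = 2 ^ m * (2 ^ m - 1) := by
    rw [Nat.mul_sub, mul_one, ← pow_add]; congr 2; omega
  rw [e] at h
  have hcop : Nat.Coprime 5 (2 ^ m) := Nat.Coprime.pow_right m (by norm_num)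
  have h2 : 5 ∣ 2 ^ m - 1 := hcop.dvd_of_dvd_mul_left h
  have hpos : 1 ≤ 2 ^ m := Nat.one_le_two_pow
  have h3 : 2 ^ m % 5 = 1 := by omega
  have hm : m = 4 * (m / 4) + m % 4 := (Nat.div_add_mod m 4).symm
  have h4 : 2 ^ m % 5 = 2 ^ (m % 4) % 5 := by
    conv_lhs => rw [hm, pow_add, pow_mul, Nat.mul_mod, Nat.pow_mod]
    norm_num
  have hr : m % 4 < 4 := Nat.mod_lt _ (by norm_num)
  rw [h4] at h3
  apply Nat.dvd_of_mod_eq_zero
  generalize m % 4 = r at h3 hr
  interval_cases r
  · rfl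
  · norm_num at h3
  · norm_num at h3
  · norm_num at h3

/-- S2881 -/
theorem extraspecial_plus_order_five_aut (m : ℕ) (hE : IsExtraspecial 2 E)
    (hcard : Nat.card E = 2 ^ (2 * m + 1))
    (hplus : ∃ A : Subgroup E, IsElementaryAbelian 2 A ∧ Nat.card A = 2 ^ (m + 1))
    (ω : E ≃* E) (hω : orderOf ω = 5) (hfix : ∀ x : E, ω x = x ↔ x ∈ Subgroup.center E) :
    4 ∣ m := by
  classical
  apply four_dvd_of_five_dvd
  rw [← extraspecial_plus_order_four_count m hE hcard hplus]
  haveI : Fintype E := Fintype.ofFinite E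
  set X := {x : E // orderOf x = 4} with hX
  let f : Function.End X := fun x => ⟨ω x.1, by rw [MulEquiv.orderOf_eq]; exact x.2⟩
  have hfpow : ∀ (k : ℕ) (x : X), ((f ^ k) x).1 = (ω ^ k) x.1 := by
    intro k
    induction k with
    | zero => intro x; rfl
    | succ k ih =>
      intro x
      rw [pow_succ', pow_succ']
      show (f ((f ^ k) x)).1 = ω ((ω ^ k) x.1)
      rw [← ih x]
  have hf5 : f ^ 5 ^ 1 = 1 := by
    funext x
    apply Subtype.ext
    rw [pow_one, hfpow, ← hω, pow_orderOf_eq_one]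
    rfl
  haveI : Fact (Nat.Prime 5) := ⟨by norm_num⟩
  have hmod := Equiv.Perm.card_fixedPoints_modEq (p := 5) (n := 1) hf5
  have hempty : Fintype.card (Function.fixedPoints f) = 0 := by
    rw [Fintype.card_eq_zero_iff]
    constructor
    rintro ⟨x, hx⟩
    have h1 : ω x.1 = x.1 := congrArg Subtype.val hx
    have h2 := (hfix x.1).1 h1
    have h3 := extraspecial_center_sq hE h2
    exact (extraspecial_orderOf_eq_four_iff hE x.1).1 x.2 h3
  rw [hempty] at hmod
  rw [Nat.card_eq_fintype_card]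
  exact (Nat.modEq_zero_iff_dvd.1 hmod)

end ExtraPlus5

end Cfsg.Agent.Helper14
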