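import Mathlib

/-!
# A computable model of the field with sixteen elements

The elements are the numbers below 16, read as polynomials over the field with two elements modulo
`x ^ 4 + x + 1`; the operations are bit operations on natural numbers, which the kernel evaluates fast.
-/

set_option autoImplicit false

namespace Cfsg.Agent.Helper14

/-- carry-less multiplication of two numbers below 16 -/
def clmul (a b : ℕ) : ℕ :=
  (if a.testBit 0 then b else 0) ^^^ (if a.testBit 1 then b <<< 1 else 0) ^^^
    (if a.testBit 2 then b <<< 2 else 0) ^^^ (if a.testBit 3 then b <<< 3 else 0)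

/-- reduction of a number below 128 modulo `x ^ 4 + x + 1` -/
def red16 (c : ℕ) : ℕ :=
  let c1 := if c.testBit 6 then c ^^^ 76 else c
  let c2 := if c1.testBit 5 then c1 ^^^ 38 else c1
  if c2.testBit 4 then c2 ^^^ 19 else c2

/-- multiplication in the field with sixteen elements, on codes -/
def mul16 (a b : ℕ) : ℕ := red16 (clmul a b)

/-- the field with sixteen elements -/
structure F16 where
  /-- the code of the element -/
  v : Fin 16
  deriving DecidableEq

namespace F16

/-- the equivalence with the numbers below 16 -/
def equivFin : F16 ≃ Fin 16 := ⟨F16.v, F16.mk, fun _ => rfl, fun _ => rfl⟩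

instance : Fintype F16 := Fintype.ofEquiv (Fin 16) equivFin.symm

/-- the element with a given code -/
def ofNat (n : ℕ) : F16 := ⟨Fin.ofNat 16 n⟩

/-- addition -/
def add (a b : F16) : F16 := ofNat (a.v.val ^^^ b.v.val)

/-- multiplication -/
def mul (a b : F16) : F16 := ofNat (mul16 a.v.val b.v.val)

/-- inversion: the fourteenth power -/
def inv (a : F16) : F16 :=
  let a2 := mul a a
  let a4 := mul a2 a2
  let a8 := mul a4 a4
  mul a8 (mul a4 a2)

instance : Zero F16 := ⟨ofNat 0⟩
instance : One F16 := ⟨ofNat 1⟩
instance : Add F16 := ⟨add⟩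
instance : Mul F16 := ⟨mul⟩
instance : Neg F16 := ⟨id⟩
instance : Inv F16 := ⟨inv⟩

theorem add_assoc' : ∀ a b c : F16, a + b + c = a + (b + c) := by decide +kernel
theorem zero_add' : ∀ a : F16, 0 + a = a := by decide +kernel
theorem add_zero' : ∀ a : F16, a + 0 = a := by decide +kernel
theorem neg_add_cancel' : ∀ a : F16, -a + a = 0 := by decide +kernel
theorem add_comm' : ∀ a b : F16, a + b = b + a := by decide +kernel
theorem left_distrib' : ∀ a b c : F16, a * (b + c) = a * b + a * c := by decide +kernel
theorem right_distrib' : ∀ a b c : F16, (a + b) * c = a * c + b * c := by decide +kernel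
theorem zero_mul' : ∀ a : F16, 0 * a = 0 := by decide +kernel
theorem mul_zero' : ∀ a : F16, a * 0 = 0 := by decide +kernel
theorem mul_assoc' : ∀ a b c : F16, a * b * c = a * (b * c) := by decide +kernel
theorem one_mul' : ∀ a : F16, 1 * a = a := by decide +kernel
theorem mul_one' : ∀ a : F16, a * 1 = a := by decide +kernel
theorem mul_comm' : ∀ a b : F16, a * b = b * a := by decide +kernel
theorem mul_inv_cancel' : ∀ a : F16, a ≠ 0 → a * a⁻¹ = 1 := by decide +kernel
theorem inv_zero' : (0 : F16)⁻¹ = 0 := by decide +kernel

instance : CommRing F16 where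
  add_assoc := add_assoc'
  zero_add := zero_add'
  add_zero := add_zero'
  nsmul := nsmulRec
  zsmul := zsmulRec
  neg_add_cancel := neg_add_cancel'
  add_comm := add_comm'
  left_distrib := left_distrib'
  right_distrib := right_distrib'
  zero_mul := zero_mul'
  mul_zero := mul_zero'
  mul_assoc := mul_assoc'
  one_mul := one_mul'
  mul_one := mul_one'
  mul_comm := mul_comm'

instance : Field F16 where
  exists_pair_ne := ⟨0, 1, by decide⟩
  mul_inv_cancel := mul_inv_cancel'
  inv_zero := inv_zero'
  nnqsmul := _
  nnqsmul_def := fun _ _ => rfl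
  qsmul := _
  qsmul_def := fun _ _ => rfl

theorem card : Fintype.card F16 = 16 := by decide

theorem add_def (a b : F16) : a + b = ofNat (a.v.val ^^^ b.v.val) := rfl

theorem mul_def (a b : F16) : a * b = ofNat (mul16 a.v.val b.v.val) := rfl

end F16

end Cfsg.Agent.Helper14
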