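import Mathlib
import Cfsg.Agent.Helper16.F3Basic

/-!
# Fischer rank-3 package, piece DIAMC

In the primitive setting two non-commuting members of `D` have a common member commuting with both: the
commuting graph has diameter two.
-/

set_option autoImplicit false
set_option linter.unusedVariables false
set_option linter.unusedSectionVars false

namespace Cfsg.Agent.Helper16.F3

variable {G : Type*} [Group G] [Finite G] {D : Set G}

namespace DIAMC

/-- the relation: equal, or at distance at most two in the commuting graph -/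
def Rel (D : Set G) (x y : G) : Prop :=
  x = y ∨ (x ∈ D ∧ y ∈ D ∧ (Commute x y ∨ ∃ e ∈ D, Commute e x ∧ Commute e y))

omit [Finite G] in
/-- a path of length three in the commuting graph can be shortened -/
theorem geo (hD : Cfsg.IsThreeTranspositionGroup D) {u0 u1 u2 u3 : G} (h0 : u0 ∈ D) (h1 : u1 ∈ D)
    (h2 : u2 ∈ D) (h3 : u3 ∈ D) (c01 : Commute u0 u1) (c12 : Commute u1 u2)
    (c23 : Commute u2 u3) : Rel D u0 u3 := by
  by_cases c03 : Commute u0 u3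
  · exact Or.inr ⟨h0, h3, Or.inl c03⟩
  by_cases c13 : Commute u1 u3
  · exact Or.inr ⟨h0, h3, Or.inr ⟨u1, h1, c01.symm, c13⟩⟩
  by_cases c02 : Commute u0 u2
  · exact Or.inr ⟨h0, h3, Or.inr ⟨u2, h2, c02.symm, c23⟩⟩
  have s0 := sq hD h0
  have s1 := sq hD h1
  have s3 := sq hD h3
  have i0 := inv_eq hD h0
  have i1 := inv_eq hD h1
  have i3 := inv_eq hD h3
  have b13 : u3 * u1 * u3 = u1 * u3 * u1 := braid hD h1 h3 c13
  have b03 : u3 * u0 * u3 = u0 * u3 * u0 := braid hD h0 h3 c03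
  -- the conjugating element
  have hg3 : (u0 * u3 * u1) * u3 * (u0 * u3 * u1)⁻¹ = u1 := by
    calc (u0 * u3 * u1) * u3 * (u0 * u3 * u1)⁻¹ = u0 * (u3 * u1 * u3) * u1⁻¹ * u3⁻¹ * u0⁻¹ := by group
      _ = u0 * (u1 * u3 * u1) * u1 * u3 * u0 := by rw [b13, i0, i1, i3]
      _ = u0 * u1 * (u3 * (u1 * u1) * u3) * u0 := by group
      _ = u0 * u1 * u0 := by rw [s1, mul_one, s3, mul_one]
      _ = u1 := by rw [c01.eq, mul_assoc, s0, mul_one]
  have hg0 : (u0 * u3 * u1) * u0 * (u0 * u3 * u1)⁻¹ = u3 := by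
    calc (u0 * u3 * u1) * u0 * (u0 * u3 * u1)⁻¹ = u0 * u3 * (u1 * u0) * u1⁻¹ * u3⁻¹ * u0⁻¹ := by group
      _ = u0 * u3 * (u0 * u1) * u1 * u3 * u0 := by rw [← c01.eq, i0, i1, i3]
      _ = (u0 * u3 * u0) * (u1 * u1) * u3 * u0 := by group
      _ = (u3 * u0 * u3) * u3 * u0 := by rw [s1, mul_one, b03]
      _ = u3 * u0 * (u3 * u3) * u0 := by group
      _ = u3 := by rw [s3, mul_one, mul_assoc, s0, mul_one]
  refine Or.inr ⟨h0, h3, Or.inr ⟨(u0 * u3 * u1)⁻¹ * u2 * (u0 * u3 * u1), ?_, ?_, ?_⟩⟩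
  · have := conj_mem hD (u0 * u3 * u1)⁻¹ h2
    rwa [inv_inv] at this
  · -- commutes with `u0`
    apply (Commute.conj_iff (u0 * u3 * u1)).mp
    rw [hg0]
    have e : (u0 * u3 * u1) * ((u0 * u3 * u1)⁻¹ * u2 * (u0 * u3 * u1)) * (u0 * u3 * u1)⁻¹ = u2 := by
      group
    rw [e]
    exact c23
  · -- commutes with `u3`
    apply (Commute.conj_iff (u0 * u3 * u1)).mp
    rw [hg3]
    have e : (u0 * u3 * u1) * ((u0 * u3 * u1)⁻¹ * u2 * (u0 * u3 * u1)) * (u0 * u3 * u1)⁻¹ = u2 := by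
      group
    rw [e]
    exact c12.symm

end DIAMC

open DIAMC in
/-- DIAMC -/
theorem diam_comm (h : Prim D) {d b : G} (hd : d ∈ D) (hb : b ∈ D) (hnc : ¬ Commute d b) :
    ∃ e ∈ D, Commute e d ∧ Commute e b := by
  have hD := h.tt
  have hsymm : ∀ x y, Rel D x y → Rel D y x := by
    rintro x y (rfl | ⟨hx, hy, hxy | ⟨a, ha, h1, h2⟩⟩)
    · exact Or.inl rfl
    · exact Or.inr ⟨hy, hx, Or.inl hxy.symm⟩
    · exact Or.inr ⟨hy, hx, Or.inr ⟨a, ha, h2, h1⟩⟩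
  have step : ∀ x z w, Rel D x z → z ∈ D → w ∈ D → Commute z w → Rel D x w := by
    rintro x z w (rfl | ⟨hx, hz, hxz | ⟨a, ha, h1, h2⟩⟩) hz' hw hzw
    · exact Or.inr ⟨hz', hw, Or.inl hzw⟩
    · exact Or.inr ⟨hx, hw, Or.inr ⟨z, hz, hxz.symm, hzw⟩⟩
    · exact geo hD hx ha hz hw h1.symm h2 hzw
  have htrans : ∀ x y z, Rel D x y → Rel D y z → Rel D x z := by
    rintro x y z hxy (rfl | ⟨hy, hz, hyz | ⟨e, he, h1, h2⟩⟩)
    · exact hxy
    · exact step x y z hxy hy hz hyz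
    · exact step x e z (step x y e hxy hy he h1.symm) he hz h2
  have hinv : ∀ g x y, Rel D x y → Rel D (g * x * g⁻¹) (g * y * g⁻¹) := by
    rintro g x y (rfl | ⟨hx, hy, hxy | ⟨a, ha, h1, h2⟩⟩)
    · exact Or.inl rfl
    · exact Or.inr ⟨conj_mem hD g hx, conj_mem hD g hy, Or.inl ((Commute.conj_iff g).mpr hxy)⟩
    · exact Or.inr ⟨conj_mem hD g hx, conj_mem hD g hy, Or.inr ⟨g * a * g⁻¹, conj_mem hD g ha,
        (Commute.conj_iff g).mpr h1, (Commute.conj_iff g).mpr h2⟩⟩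
  obtain ⟨a, ha, c, hc, hac, hcomm⟩ := h.hw
  have hall := rel_univ h (Rel D) (fun x _ => Or.inl rfl) hsymm htrans hinv ha hc hac
    (Or.inr ⟨ha, hc, Or.inl hcomm⟩)
  rcases hall d hd b hb with h1 | ⟨_, _, h1 | h1⟩
  · exact absurd (h1 ▸ Commute.refl d) hnc
  · exact absurd h1 hnc
  · exact h1

end Cfsg.Agent.Helper16.F3
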