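import Mathlib
import Cfsg.Agent.Helper16.F3Basic

/-!
# Fischer rank-3 package, piece DIAMN

In the primitive setting two different commuting members of `D` have a common member commuting with
neither: the non-commuting graph has diameter two.
-/

set_option autoImplicit false
set_option linter.unusedVariables false
set_option linter.unusedSectionVars false

namespace Cfsg.Agent.Helper16.F3

variable {G : Type*} [Group G] [Finite G] {D : Set G}

namespace DIAMN

/-- the relation: equal, or at distance at most two in the non-commuting graph -/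
def Rel (D : Set G) (x y : G) : Prop :=
  x = y ∨ (x ∈ D ∧ y ∈ D ∧ (¬ Commute x y ∨ ∃ a ∈ D, ¬ Commute a x ∧ ¬ Commute a y))

omit [Finite G] in
theorem comm_conj (hD : Cfsg.IsThreeTranspositionGroup D) {y : G} (hy : y ∈ D) {a b : G}
    (h : Commute a b) : Commute (y * a * y) (y * b * y) := by
  have := (Commute.conj_iff y).mpr h
  rwa [inv_eq hD hy] at this

omit [Finite G] in
theorem conj_conj (hD : Cfsg.IsThreeTranspositionGroup D) {y : G} (hy : y ∈ D) (a : G) :
    y * (y * a * y) * y = a := by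
  have h := sq hD hy
  calc y * (y * a * y) * y = (y * y) * a * (y * y) := by group
    _ = a := by rw [h, one_mul, mul_one]

omit [Finite G] in
theorem conj_of_comm (hD : Cfsg.IsThreeTranspositionGroup D) {y : G} (hy : y ∈ D) {a : G}
    (h : Commute y a) : y * a * y = a := by
  rw [h.eq, mul_assoc, sq hD hy, mul_one]

omit [Finite G] in
/-- a path of length three in the non-commuting graph can be shortened -/
theorem geo (hD : Cfsg.IsThreeTranspositionGroup D) {u0 u1 u2 u3 : G} (h0 : u0 ∈ D) (h1 : u1 ∈ D)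
    (h2 : u2 ∈ D) (h3 : u3 ∈ D) (n01 : ¬ Commute u0 u1) (n12 : ¬ Commute u1 u2)
    (n23 : ¬ Commute u2 u3) : Rel D u0 u3 := by
  by_cases c03 : Commute u0 u3
  swap
  · exact Or.inr ⟨h0, h3, Or.inl c03⟩
  by_cases c02 : Commute u0 u2
  swap
  · exact Or.inr ⟨h0, h3, Or.inr ⟨u2, h2, fun h => c02 h.symm, n23⟩⟩
  by_cases c13 : Commute u1 u3
  swap
  · exact Or.inr ⟨h0, h3, Or.inr ⟨u1, h1, fun h => n01 h.symm, c13⟩⟩
  refine Or.inr ⟨h0, h3, Or.inr ⟨u2 * u1 * u2, conj_mem' hD h2 h1, ?_, ?_⟩⟩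
  · intro ht
    apply n01
    -- conjugate by `u2`
    have h := comm_conj hD h2 ht
    rw [conj_conj hD h2, conj_of_comm hD h2 c02.symm] at h
    exact h.symm
  · intro ht
    apply n12
    have h := comm_conj hD h2 ht
    rw [conj_conj hD h2, braid hD h3 h2 (fun h => n23 h.symm)] at h
    have h' := comm_conj hD h3 h
    rw [conj_conj hD h3, conj_of_comm hD h3 c13.symm] at h'
    exact h'

end DIAMN

open DIAMN in
/-- DIAMN -/
theorem diam_noncomm (h : Prim D) {d e : G} (hd : d ∈ D) (he : e ∈ D) (hne : d ≠ e)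
    (hc : Commute d e) : ∃ a ∈ D, ¬ Commute a d ∧ ¬ Commute a e := by
  have hD := h.tt
  have hsymm : ∀ x y, Rel D x y → Rel D y x := by
    rintro x y (rfl | ⟨hx, hy, hxy | ⟨a, ha, h1, h2⟩⟩)
    · exact Or.inl rfl
    · exact Or.inr ⟨hy, hx, Or.inl fun h => hxy h.symm⟩
    · exact Or.inr ⟨hy, hx, Or.inr ⟨a, ha, h2, h1⟩⟩
  -- a path of length two followed by an edge
  have step : ∀ x z w, Rel D x z → z ∈ D → w ∈ D → ¬ Commute z w → Rel D x w := by
    rintro x z w (rfl | ⟨hx, hz, hxz | ⟨a, ha, h1, h2⟩⟩) hz' hw hzw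
    · exact Or.inr ⟨hz', hw, Or.inl hzw⟩
    · exact Or.inr ⟨hx, hw, Or.inr ⟨z, hz, fun h => hxz h.symm, hzw⟩⟩
    · exact geo hD hx ha hz hw (fun h => h1 h.symm) h2 hzw
  have htrans : ∀ x y z, Rel D x y → Rel D y z → Rel D x z := by
    rintro x y z hxy (rfl | ⟨hy, hz, hyz | ⟨b, hb, h1, h2⟩⟩)
    · exact hxy
    · exact step x y z hxy hy hz hyz
    · exact step x b z (step x y b hxy hy hb (fun h => h1 h.symm)) hb hz h2
  have hinv : ∀ g x y, Rel D x y → Rel D (g * x * g⁻¹) (g * y * g⁻¹) := by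
    rintro g x y (rfl | ⟨hx, hy, hxy | ⟨a, ha, h1, h2⟩⟩)
    · exact Or.inl rfl
    · exact Or.inr ⟨conj_mem hD g hx, conj_mem hD g hy, Or.inl fun h => hxy ((Commute.conj_iff g).mp h)⟩
    · exact Or.inr ⟨conj_mem hD g hx, conj_mem hD g hy, Or.inr ⟨g * a * g⁻¹, conj_mem hD g ha,
        fun h => h1 ((Commute.conj_iff g).mp h), fun h => h2 ((Commute.conj_iff g).mp h)⟩⟩
  obtain ⟨a, ha, had⟩ := exists_noncomm h hd
  have hall := rel_univ h (Rel D) (fun x _ => Or.inl rfl) hsymm htrans hinv ha hd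
    (ne_of_not_commute had) (Or.inr ⟨ha, hd, Or.inl had⟩)
  rcases hall d hd e he with h1 | ⟨_, _, h1 | h1⟩
  · exact absurd h1 hne
  · exact absurd hc h1
  · exact h1

end Cfsg.Agent.Helper16.F3
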