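import Mathlib
import Cfsg.Agent.Helper16.F3Basic

/-!
# Fischer rank-3 package, piece LEMC

Two members `e₁`, `e₂` of `D` commuting with `d` and not conjugate under the centraliser of `d` cannot be
separated in both directions by members not commuting with `d`.
-/

set_option autoImplicit false
set_option linter.unusedVariables false
set_option linter.unusedSectionVars false

namespace Cfsg.Agent.Helper16.F3

open Equiv

variable {G : Type*} [Group G] [Finite G] {D : Set G}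

namespace LEMC

omit [Finite G] in
/-- in the `S₄` generated by a string `x, y, z`, an element exchanging `x` and `z` -/
theorem exists_swap (hD : Cfsg.IsThreeTranspositionGroup D) {x y z : G} (hx : x ∈ D) (hy : y ∈ D)
    (hz : z ∈ D) (hne : x ≠ z) (hc : Commute x z) (h1 : ¬ Commute x y) (h2 : ¬ Commute y z) :
    ∃ g : G, g * x * g⁻¹ = z ∧ g * z * g⁻¹ = x ∧
      ∀ w : G, Commute w x → Commute w y → Commute w z → Commute w g := by
  obtain ⟨φ, -, e1, e2, e3, -⟩ :=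
    Cfsg.Agent.Helper4.ThreeTransS4.string_hom hD.1 hD.2.1 hx hy hz hne hc h1 h2
  let w0 : Perm (Fin 4) := swap 1 2 * (swap 0 1 * swap 2 3 * swap 1 2 * swap 2 3 * swap 0 1)
  have hw0 : φ w0 = y * (x * z * y * z * x) := by
    show φ (swap 1 2 * (swap 0 1 * swap 2 3 * swap 1 2 * swap 2 3 * swap 0 1)) = _
    simp only [map_mul, e1, e2, e3]
  have i1 : w0 * swap 0 1 * w0⁻¹ = swap 2 3 := by decide
  have i2 : w0 * swap 2 3 * w0⁻¹ = swap 0 1 := by decide
  refine ⟨φ w0, ?_, ?_, ?_⟩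
  · rw [← e1, ← e3, ← map_inv, ← map_mul, ← map_mul, i1]
  · rw [← e1, ← e3, ← map_inv, ← map_mul, ← map_mul, i2]
  · intro w hwx hwy hwz
    rw [hw0]
    exact hwy.mul_right ((((hwx.mul_right hwz).mul_right hwy).mul_right hwz).mul_right hwx)

end LEMC

open LEMC in
/-- LEMC -/
theorem lemC (hD : Cfsg.IsThreeTranspositionGroup D) {d e₁ e₂ a a' : G} (hd : d ∈ D)
    (he₁ : e₁ ∈ D) (he₂ : e₂ ∈ D) (ha : a ∈ D) (ha' : a' ∈ D) (h1 : e₁ ≠ d) (h2 : e₂ ≠ d)
    (hc1 : Commute d e₁) (hc2 : Commute d e₂)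
    (hne : ∀ g : G, Commute g d → g * e₁ * g⁻¹ ≠ e₂)
    (had : ¬ Commute a d) (hae1 : Commute a e₁) (hae2 : ¬ Commute a e₂)
    (ha'd : ¬ Commute a' d) (ha'e2 : Commute a' e₂) (ha'e1 : ¬ Commute a' e₁) : False := by
  -- `e₁` and `e₂` commute
  have h12 : Commute e₁ e₂ := by
    by_contra hnc
    obtain ⟨hzD, hswap, -, -⟩ := third hD he₁ he₂ hnc
    apply hne (e₂ * e₁ * e₂) _ hswap
    exact ((hc2.mul_right hc1).mul_right hc2).symm
  -- the element exchanging `d` and `e₂`, commuting with `e₁`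
  obtain ⟨g, hg1, hg2, hg3⟩ := exists_swap hD hd ha he₂ (Ne.symm h2) hc2 (fun h => had h.symm) hae2
  have hge1 : Commute e₁ g := hg3 e₁ hc1.symm hae1.symm h12
  -- the element exchanging `d` and `e₁`, commuting with `e₂`
  obtain ⟨g', hg'1, hg'2, hg'3⟩ :=
    exists_swap hD hd ha' he₁ (Ne.symm h1) hc1 (fun h => ha'd h.symm) ha'e1
  have hg'e2 : Commute e₂ g' := hg'3 e₂ hc2.symm ha'e2.symm h12.symm
  -- the inverse conjugations
  have hi1 : g'⁻¹ * e₁ * g' = d := by rw [← hg'1]; group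
  have hi2 : g'⁻¹ * d * g' = e₁ := by rw [← hg'2]; group
  have hk1 : (g' * g * g'⁻¹) * d * (g' * g * g'⁻¹)⁻¹ = d := by
    calc (g' * g * g'⁻¹) * d * (g' * g * g'⁻¹)⁻¹ = g' * (g * (g'⁻¹ * d * g') * g⁻¹) * g'⁻¹ := by group
      _ = g' * (g * e₁ * g⁻¹) * g'⁻¹ := by rw [hi2]
      _ = g' * e₁ * g'⁻¹ := by rw [← hge1.eq, mul_inv_cancel_right]
      _ = d := hg'2
  have hk2 : (g' * g * g'⁻¹) * e₁ * (g' * g * g'⁻¹)⁻¹ = e₂ := by
    calc (g' * g * g'⁻¹) * e₁ * (g' * g * g'⁻¹)⁻¹ = g' * (g * (g'⁻¹ * e₁ * g') * g⁻¹) * g'⁻¹ := by group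
      _ = g' * (g * d * g⁻¹) * g'⁻¹ := by rw [hi1]
      _ = g' * e₂ * g'⁻¹ := by rw [hg1]
      _ = e₂ := by rw [← hg'e2.eq, mul_inv_cancel_right]
  apply hne (g' * g * g'⁻¹) _ hk2
  have e : (g' * g * g'⁻¹) * d = d * (g' * g * g'⁻¹) := by
    calc (g' * g * g'⁻¹) * d = ((g' * g * g'⁻¹) * d * (g' * g * g'⁻¹)⁻¹) * (g' * g * g'⁻¹) := by group
      _ = d * (g' * g * g'⁻¹) := by rw [hk1]
  exact e

end Cfsg.Agent.Helper16.F3
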