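import Mathlib
import Cfsg.Agent.Helper16.F3Basic

/-!
# Fischer rank-3 package, piece VLEM

In the primitive setting, for two different commuting members `d`, `e` of `D` some member commutes with
`e` but not with `d`.
-/

set_option autoImplicit false
set_option linter.unusedVariables false

namespace Cfsg.Agent.Helper16.F3

variable {G : Type*} [Group G] [Finite G] {D : Set G}

namespace VLEM

/-- the members of `D` not commuting with `t` -/
def nonComm (D : Set G) (t : G) : Set G := {a | a ∈ D ∧ ¬ Commute a t}

omit [Finite G] in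
theorem image_nonComm (hinv : ∀ g : G, ∀ d ∈ D, g * d * g⁻¹ ∈ D) (g t : G) :
    (fun a => g * a * g⁻¹) '' nonComm D t = nonComm D (g * t * g⁻¹) := by
  ext x
  constructor
  · rintro ⟨a, ⟨haD, hat⟩, rfl⟩
    exact ⟨hinv g a haD, fun hc => hat ((Commute.conj_iff g).mp hc)⟩
  · rintro ⟨hxD, hxt⟩
    refine ⟨g⁻¹ * x * g, ⟨?_, ?_⟩, by group⟩
    · have := hinv g⁻¹ x hxD
      rwa [inv_inv] at this
    · intro hc
      apply hxt
      have e : x = g * (g⁻¹ * x * g) * g⁻¹ := by group
      rw [e]
      exact (Commute.conj_iff g).mpr hc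

/-- the elements whose conjugation preserves the set of members not commuting with `d` -/
def stab (D : Set G) (d : G) : Subgroup G where
  carrier := {k | (fun a => k * a * k⁻¹) '' nonComm D d = nonComm D d}
  one_mem' := by
    show (fun a => (1 : G) * a * (1 : G)⁻¹) '' nonComm D d = nonComm D d
    have e : (fun a : G => (1 : G) * a * (1 : G)⁻¹) = id := by
      funext a
      simp
    rw [e, Set.image_id]
  mul_mem' := by
    intro k1 k2 h1 h2
    show (fun a => (k1 * k2) * a * (k1 * k2)⁻¹) '' nonComm D d = nonComm D d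
    have e : (fun a : G => (k1 * k2) * a * (k1 * k2)⁻¹) =
        (fun a => k1 * a * k1⁻¹) ∘ (fun a => k2 * a * k2⁻¹) := by
      funext a
      simp only [Function.comp_apply]
      group
    rw [e, Set.image_comp]
    have h2' : (fun a => k2 * a * k2⁻¹) '' nonComm D d = nonComm D d := h2
    rw [h2']
    exact h1
  inv_mem' := by
    intro k hk
    show (fun a => k⁻¹ * a * k⁻¹⁻¹) '' nonComm D d = nonComm D d
    have hk' : (fun a => k * a * k⁻¹) '' nonComm D d = nonComm D d := hk
    conv_lhs => rw [← hk']
    rw [← Set.image_comp]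
    have e : (fun a : G => k⁻¹ * a * k⁻¹⁻¹) ∘ (fun a => k * a * k⁻¹) = id := by
      funext a
      simp only [Function.comp_apply, id]
      group
    rw [e, Set.image_id]

omit [Finite G] in
theorem mem_stab {d k : G} : k ∈ stab D d ↔ (fun a => k * a * k⁻¹) '' nonComm D d = nonComm D d :=
  Iff.rfl

end VLEM

open VLEM in
/-- VLEM -/
theorem vlem (h : Prim D) {d e : G} (hd : d ∈ D) (he : e ∈ D) (hne : e ≠ d) (hc : Commute e d) :
    ∃ x ∈ D, Commute x e ∧ ¬ Commute x d := by
  have hD := h.tt
  have hinv := hD.2.1
  by_contra hcon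
  push Not at hcon
  -- the members not commuting with `d` do not commute with `e`
  have hsub : nonComm D d ⊆ nonComm D e := by
    rintro a ⟨haD, had⟩
    exact ⟨haD, fun hae => had (hcon a haD hae)⟩
  obtain ⟨g, hg⟩ := exists_conj h hd he
  have himg := image_nonComm hinv g d
  rw [hg] at himg
  have hcard : (nonComm D e).ncard = (nonComm D d).ncard := by
    rw [← himg]
    apply Set.ncard_image_of_injective
    intro a b hab
    have h1 : g * a * g⁻¹ = g * b * g⁻¹ := hab
    exact mul_left_cancel (mul_right_cancel h1)
  have heq : nonComm D d = nonComm D e :=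
    Set.eq_of_subset_of_ncard_le hsub (le_of_eq hcard) (Set.toFinite _)
  -- the stabiliser is everything
  have htop : stab D d = ⊤ := by
    apply centralizer_max h hd (stab D d) (x := g)
    · intro k hk
      rw [mem_stab, image_nonComm hinv]
      have e1 : k * d * k⁻¹ = d := by rw [hk.eq, mul_inv_cancel_right]
      rw [e1]
    · rw [mem_stab, himg, heq]
    · intro hgd
      apply hne
      rw [← hg, hgd.eq, mul_inv_cancel_right]
  have hall : ∀ x ∈ D, nonComm D x = nonComm D d := by
    intro x hx
    obtain ⟨k, hk⟩ := exists_conj h hd hx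
    have hk1 : k ∈ stab D d := by rw [htop]; exact Subgroup.mem_top k
    rw [mem_stab, image_nonComm hinv, hk] at hk1
    exact hk1
  obtain ⟨a, haD, had⟩ := exists_noncomm h hd
  have h1 : d ∈ nonComm D a := ⟨hd, fun hda => had hda.symm⟩
  rw [hall a haD] at h1
  exact h1.2 (Commute.refl d)

end Cfsg.Agent.Helper16.F3
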