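import Cfsg.Agent.Helper15.Sidki

set_option autoImplicit false
set_option linter.unusedSectionVars false

namespace Cfsg.Agent.Helper14

open Cfsg

variable {G : Type*} [Group G] [Finite G]

/-- S3195 -/
theorem fourGroup_inf_pCore_ne_bot (A : Subgroup G) (hA : IsKleinFour ↥A)
    (h : ∀ a ∈ A, a ≠ 1 → ∀ g : G, A ⊓ Subgroup.centralizer ({g * a * g⁻¹} : Set G) ≠ ⊥) :
    A ⊓ pCore 2 G ≠ ⊥ := by
  have hsq : ∀ a ∈ A, a ^ 2 = 1 := by
    intro a ha
    have h1 : (⟨a, ha⟩ : ↥A) ^ 2 = 1 := by
      have := Monoid.pow_exponent_eq_one (⟨a, ha⟩ : ↥A)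
      rwa [hA.exponent_two] at this
    exact congrArg Subtype.val h1
  have hcomm : ∀ a ∈ A, ∀ b ∈ A, a * b = b * a := by
    intro a ha b hb
    have h1 : (a * b) ^ 2 = 1 := hsq _ (A.mul_mem ha hb)
    have ha2 : a * a = 1 := by rw [← pow_two]; exact hsq a ha
    have hb2 : b * b = 1 := by rw [← pow_two]; exact hsq b hb
    rw [pow_two] at h1
    -- abab = 1, so ab = b⁻¹a⁻¹ = ba
    have hainv : a⁻¹ = a := inv_eq_of_mul_eq_one_right ha2
    have hbinv : b⁻¹ = b := inv_eq_of_mul_eq_one_right hb2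
    have : a * b = (a * b)⁻¹ := (inv_eq_of_mul_eq_one_right h1).symm
    rw [this, mul_inv_rev, hainv, hbinv]
  have hel : IsElementaryAbelian 2 A := by
    refine ⟨⟨⟨?_⟩⟩, hsq⟩
    rintro ⟨a, ha⟩ ⟨b, hb⟩
    exact Subtype.ext (hcomm a ha b hb)
  have hne : A ≠ ⊥ := by
    intro hb
    have h1 : Nat.card ↥A = 4 := hA.card_four
    rw [hb, Subgroup.card_bot] at h1
    omega
  have h4 : Nat.card ↥A ≤ 4 := le_of_eq hA.card_four
  apply Helper15.sidki_four A hel hne _ h4
  intro x v hv hodd hinv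
  by_cases hv1 : v = 1
  · -- then x = x⁻¹, so x = 1
    obtain ⟨w, hw, hw1⟩ : ∃ w ∈ A, w ≠ 1 := by
      by_contra hcon
      apply hne
      rw [eq_bot_iff]
      intro w hw
      rw [Subgroup.mem_bot]
      by_contra hw1
      exact hcon ⟨w, hw, hw1⟩
    refine ⟨w, hw, hw1, ?_⟩
    rw [hv1] at hinv
    have hx2 : x * x = 1 := by
      have : x = x⁻¹ := by simpa using hinv
      calc x * x = x * x⁻¹ := by rw [← this]
        _ = 1 := mul_inv_cancel x
    have hx1 : x = 1 := by
      have hd : orderOf x ∣ 2 := orderOf_dvd_of_pow_eq_one (by rw [pow_two]; exact hx2)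
      have : orderOf x = 1 := by
        rcases (Nat.dvd_prime Nat.prime_two).1 hd with h1 | h2
        · exact h1
        · rw [h2] at hodd; exact absurd hodd (by decide)
      exact orderOf_eq_one_iff.1 this
    rw [hx1]; simp
  · -- `x * v` is a conjugate of `v`
    obtain ⟨k, hk⟩ := hodd
    set g := x ^ (k + 1) with hg
    have hvx : ∀ n : ℕ, v * x ^ n = (x ^ n)⁻¹ * v := by
      intro n
      have h1 : v * x ^ n * v⁻¹ = (x ^ n)⁻¹ := by
        rw [← conj_pow, hinv, inv_pow]
      calc v * x ^ n = v * x ^ n * v⁻¹ * v := by group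
        _ = (x ^ n)⁻¹ * v := by rw [h1]
    have hxo : x ^ (2 * k + 1) = 1 := by rw [← hk]; exact pow_orderOf_eq_one x
    have hconj : g * v * g⁻¹ = x * v := by
      have h1 : v * g⁻¹ = g * v := by
        have := hvx (k + 1)
        have h2 : v * (x ^ (k + 1))⁻¹ = x ^ (k + 1) * v := by
          have h3 : v * (x ^ (k + 1))⁻¹ * v⁻¹ = ((x ^ (k + 1))⁻¹)⁻¹ := by
            have h4 : v * x⁻¹ * v⁻¹ = (x⁻¹)⁻¹ := by
              have := congrArg (fun z => z⁻¹) hinv
              simpa [mul_assoc] using this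
            rw [← inv_pow, ← conj_pow, h4, inv_pow]
          calc v * (x ^ (k + 1))⁻¹ = v * (x ^ (k + 1))⁻¹ * v⁻¹ * v := by group
            _ = x ^ (k + 1) * v := by rw [h3, inv_inv]
        exact h2
      calc g * v * g⁻¹ = g * (v * g⁻¹) := by group
        _ = g * (g * v) := by rw [h1]
        _ = x ^ (k + 1 + (k + 1)) * v := by rw [hg, pow_add]; group
        _ = x ^ (2 * k + 1) * x * v := by
            have : k + 1 + (k + 1) = 2 * k + 1 + 1 := by ring
            rw [this, pow_succ]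
        _ = x * v := by rw [hxo, one_mul]
    have hne' := h v hv hv1 g
    rw [hconj] at hne'
    obtain ⟨w, hw, hw1⟩ : ∃ w ∈ A ⊓ Subgroup.centralizer ({x * v} : Set G), w ≠ 1 := by
      by_contra hcon
      apply hne'
      rw [eq_bot_iff]
      intro w hw
      rw [Subgroup.mem_bot]
      by_contra hw1
      exact hcon ⟨w, hw, hw1⟩
    refine ⟨w, hw.1, hw1, ?_⟩
    have h1 : (x * v) * w = w * (x * v) :=
      (Subgroup.mem_centralizer_iff.1 hw.2) (x * v) (Set.mem_singleton _)
    have h2 : v * w = w * v := hcomm v hv w hw.1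
    -- x v w = w x v, v w = w v => x w v = w x v => x w = w x
    have h3 : x * w * v = w * x * v := by
      calc x * w * v = x * (w * v) := by group
        _ = x * (v * w) := by rw [h2]
        _ = (x * v) * w := by group
        _ = w * (x * v) := h1
        _ = w * x * v := by group
    exact (mul_right_cancel h3).symm

end Cfsg.Agent.Helper14
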