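import Mathlib

/-!
# Generic lemmas for the group of order 320

* fixed point congruence for the conjugation action of an element of prime order on a subgroup it normalises;
* the bound for an extension of a finite subgroup by one element normalising it.
-/

set_option autoImplicit false

namespace Cfsg.Agent.Helper14.G320

variable {Γ : Type*} [Group Γ]

/-- conjugation action of a subgroup `Q ≤ N(K)` on `K`. -/
@[instance_reducible]
def conjOn (Q K : Subgroup Γ) (h : Q ≤ Subgroup.normalizer (K : Set Γ)) : MulAction Q K where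
  smul u k := ⟨(u : Γ) * k * (u : Γ)⁻¹, (Subgroup.mem_normalizer_iff.mp (h u.2) k).mp k.2⟩
  one_smul k := by
    apply Subtype.ext
    show ((1 : Q) : Γ) * k * ((1 : Q) : Γ)⁻¹ = k
    simp
  mul_smul u v k := by
    apply Subtype.ext
    show ((u * v : Q) : Γ) * k * ((u * v : Q) : Γ)⁻¹ = (u : Γ) * ((v : Γ) * k * (v : Γ)⁻¹) * (u : Γ)⁻¹
    simp [mul_assoc]

/-- If `y` has prime order `r` and normalises the finite subgroup `K`, then `|K| ≡ |C_K(y)|` modulo `r`. -/
theorem card_modEq_card_inf_centralizer [Finite Γ] (K : Subgroup Γ) (r : ℕ) [Fact r.Prime] (y : Γ)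
    (hy : orderOf y = r) (hyN : y ∈ Subgroup.normalizer (K : Set Γ)) :
    Nat.card K ≡ Nat.card ↥(K ⊓ Subgroup.centralizer ({y} : Set Γ)) [MOD r] := by
  classical
  have hQ : Subgroup.zpowers y ≤ Subgroup.normalizer (K : Set Γ) := by
    rw [Subgroup.zpowers_le]; exact hyN
  let _ := conjOn (Subgroup.zpowers y) K hQ
  have hp : IsPGroup r (Subgroup.zpowers y) := by
    rw [IsPGroup.iff_card, Nat.card_zpowers, hy]
    exact ⟨1, (pow_one r).symm⟩
  have key := hp.card_modEq_card_fixedPoints K
  have hmem : ∀ k : K, k ∈ MulAction.fixedPoints (Subgroup.zpowers y) K ↔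
      (k : Γ) ∈ Subgroup.centralizer ({y} : Set Γ) := by
    intro k
    rw [MulAction.mem_fixedPoints, Subgroup.mem_centralizer_iff]
    constructor
    · intro hk x hx
      rw [Set.mem_singleton_iff] at hx
      subst hx
      have h1 := hk ⟨x, Subgroup.mem_zpowers x⟩
      have h2 : x * (k : Γ) * x⁻¹ = k := congrArg Subtype.val h1
      calc x * (k : Γ) = x * k * x⁻¹ * x := by group
        _ = k * x := by rw [h2]
    · intro hk u
      apply Subtype.ext
      show (u : Γ) * (k : Γ) * (u : Γ)⁻¹ = k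
      have hu : (u : Γ) ∈ Subgroup.centralizer ({(k : Γ)} : Set Γ) := by
        have h1 : Subgroup.zpowers y ≤ Subgroup.centralizer ({(k : Γ)} : Set Γ) := by
          rw [Subgroup.zpowers_le, Subgroup.mem_centralizer_iff]
          intro x hx
          rw [Set.mem_singleton_iff] at hx
          subst hx
          exact (hk y (Set.mem_singleton y)).symm
        exact h1 u.2
      have h2 := Subgroup.mem_centralizer_iff.mp hu (k : Γ) (Set.mem_singleton _)
      rw [← h2, mul_assoc, mul_inv_cancel, mul_one]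
  have hcard : Nat.card (MulAction.fixedPoints (Subgroup.zpowers y) K) =
      Nat.card ↥(K ⊓ Subgroup.centralizer ({y} : Set Γ)) := by
    apply Nat.card_congr
    exact
      { toFun := fun k => ⟨(k.1 : Γ), k.1.2, (hmem k.1).mp k.2⟩
        invFun := fun k => ⟨⟨k.1, k.2.1⟩, (hmem ⟨k.1, k.2.1⟩).mpr k.2.2⟩
        left_inv := fun k => rfl
        right_inv := fun k => rfl }
  rw [hcard] at key
  exact key

/-- a criterion for membership in the normaliser of a closure. -/
theorem mem_normalizer_closure {S : Set Γ} {g : Γ}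
    (h1 : ∀ s ∈ S, g * s * g⁻¹ ∈ Subgroup.closure S)
    (h2 : ∀ s ∈ S, g⁻¹ * s * g ∈ Subgroup.closure S) :
    g ∈ Subgroup.normalizer (Subgroup.closure S : Set Γ) := by
  have key : ∀ x : Γ, (∀ s ∈ S, x * s * x⁻¹ ∈ Subgroup.closure S) →
      ∀ h ∈ Subgroup.closure S, x * h * x⁻¹ ∈ Subgroup.closure S := by
    intro x hx h hh
    have : Subgroup.closure S ≤ (Subgroup.closure S).comap (MulAut.conj x).toMonoidHom := by
      rw [Subgroup.closure_le]
      intro s hs
      exact hx s hs
    exact this hh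
  rw [Subgroup.mem_normalizer_iff]
  intro h
  constructor
  · exact key g h1 h
  · intro hh
    have := key g⁻¹ (by simpa using h2) _ hh
    simpa [mul_assoc] using this

/-- The extension of a finite subgroup `K` by an element `x` normalising it with `x ^ n ∈ K`:
the join is finite of order at most `n * |K|`. -/
theorem card_sup_zpowers_le (K : Subgroup Γ) [Finite K] (x : Γ) (n : ℕ) (hn : 0 < n)
    (hx : x ^ n ∈ K) (hnorm : ∀ k ∈ K, x * k * x⁻¹ ∈ K) :
    Finite ↥(K ⊔ Subgroup.zpowers x) ∧ Nat.card ↥(K ⊔ Subgroup.zpowers x) ≤ n * Nat.card K := by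
  classical
  -- the set of the elements `k * x ^ i`
  let f : K × Fin n → Γ := fun p => (p.1 : Γ) * x ^ (p.2 : ℕ)
  have hpow : ∀ i : ℕ, ∀ k ∈ K, x ^ i * k * (x ^ i)⁻¹ ∈ K := by
    intro i
    induction i with
    | zero => intro k hk; simpa using hk
    | succ i ih =>
      intro k hk
      have := hnorm _ (ih k hk)
      have e : x ^ (i + 1) * k * (x ^ (i + 1))⁻¹ = x * (x ^ i * k * (x ^ i)⁻¹) * x⁻¹ := by
        rw [pow_succ']; group
      rw [e]; exact this
  -- every power of `x` is in the range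
  have hxpow : ∀ i : ℕ, ∃ p, f p = x ^ i := by
    intro i
    have h1 : x ^ i = (x ^ n) ^ (i / n) * x ^ (i % n) := by
      rw [← pow_mul, ← pow_add, Nat.div_add_mod]
    refine ⟨(⟨(x ^ n) ^ (i / n), K.pow_mem hx _⟩, ⟨i % n, Nat.mod_lt _ hn⟩), ?_⟩
    exact h1.symm
  -- the range is closed under left multiplication by `K` and by `x`
  have hK : ∀ k ∈ K, ∀ p, ∃ p', f p' = k * f p := by
    intro k hk p
    exact ⟨(⟨k * p.1, K.mul_mem hk p.1.2⟩, p.2), by simp only [f]; rw [Subgroup.coe_mk, mul_assoc]⟩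
  have hX : ∀ p, ∃ p', f p' = x * f p := by
    intro p
    obtain ⟨p1, hp1⟩ := hxpow ((p.2 : ℕ) + 1)
    have hk' := hnorm _ p.1.2
    obtain ⟨p2, hp2⟩ := hK _ hk' p1
    refine ⟨p2, ?_⟩
    rw [hp2, hp1]
    simp only [f]
    rw [pow_succ']
    group
  have hXinv : ∀ p, ∃ p', f p' = x⁻¹ * f p := by
    intro p
    -- `x⁻¹ = x ^ (n - 1) * (x ^ n)⁻¹`
    have hiter : ∀ i : ℕ, ∀ p, ∃ p', f p' = x ^ i * f p := by
      intro i
      induction i with
      | zero => intro p; exact ⟨p, by simp⟩
      | succ i ih =>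
        intro p
        obtain ⟨p1, hp1⟩ := ih p
        obtain ⟨p2, hp2⟩ := hX p1
        exact ⟨p2, by rw [hp2, hp1, pow_succ', mul_assoc]⟩
    obtain ⟨p1, hp1⟩ := hK _ (K.inv_mem hx) p
    obtain ⟨p2, hp2⟩ := hiter (n - 1) p1
    refine ⟨p2, ?_⟩
    rw [hp2, hp1]
    have : x⁻¹ = x ^ (n - 1) * (x ^ n)⁻¹ := by
      have h2 : x ^ n = x ^ (n - 1) * x := by
        rw [← pow_succ, Nat.sub_add_cancel hn]
      rw [h2]; group
    rw [this]; group
  have hcl : ∀ g ∈ Subgroup.closure ((K : Set Γ) ∪ {x}), g ∈ Set.range f := by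
    intro g hg'
    induction hg' using Subgroup.closure_induction_left with
    | one => exact ⟨(1, ⟨0, hn⟩), by simp [f]⟩
    | mul_left y hy z _ ih =>
      obtain ⟨p, hp⟩ := ih
      rcases hy with hy | hy
      · obtain ⟨p', hp'⟩ := hK y hy p
        exact ⟨p', by rw [hp', hp]⟩
      · rw [Set.mem_singleton_iff] at hy
        subst hy
        obtain ⟨p', hp'⟩ := hX p
        exact ⟨p', by rw [hp', hp]⟩
    | inv_mul_cancel y hy z _ ih =>
      obtain ⟨p, hp⟩ := ih
      rcases hy with hy | hy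
      · obtain ⟨p', hp'⟩ := hK y⁻¹ (K.inv_mem hy) p
        exact ⟨p', by rw [hp', hp]⟩
      · rw [Set.mem_singleton_iff] at hy
        subst hy
        obtain ⟨p', hp'⟩ := hXinv p
        exact ⟨p', by rw [hp', hp]⟩
  have hsub : ((K ⊔ Subgroup.zpowers x : Subgroup Γ) : Set Γ) ⊆ Set.range f := by
    intro g hg
    apply hcl
    have : K ⊔ Subgroup.zpowers x = Subgroup.closure ((K : Set Γ) ∪ {x}) := by
      rw [Subgroup.closure_union, Subgroup.closure_eq, Subgroup.zpowers_eq_closure]
    rw [← this]; exact hg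
  have hfin : (Set.range f).Finite := Set.finite_range f
  have hfin2 : ((K ⊔ Subgroup.zpowers x : Subgroup Γ) : Set Γ).Finite := hfin.subset hsub
  refine ⟨hfin2.to_subtype, ?_⟩
  have h1 : Nat.card ↥(K ⊔ Subgroup.zpowers x) =
      ((K ⊔ Subgroup.zpowers x : Subgroup Γ) : Set Γ).ncard := rfl
  rw [h1]
  calc ((K ⊔ Subgroup.zpowers x : Subgroup Γ) : Set Γ).ncard ≤ (Set.range f).ncard :=
        Set.ncard_le_ncard hsub hfin
    _ ≤ Nat.card (K × Fin n) := by
        rw [← Set.image_univ]
        calc (f '' Set.univ).ncard ≤ (Set.univ : Set (K × Fin n)).ncard :=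
              Set.ncard_image_le (Set.finite_univ)
          _ = Nat.card (K × Fin n) := Set.ncard_univ _
    _ = n * Nat.card K := by
        rw [Nat.card_prod, Nat.card_eq_fintype_card (α := Fin n), Fintype.card_fin, mul_comm]

end Cfsg.Agent.Helper14.G320
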