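import Mathlib
import Cfsg.Agent.Helper14.G320A

/-!
# The relations of the group of order 320 and the bound for the group they present
-/

set_option autoImplicit false

namespace Cfsg.Agent.Helper14.G320

section rel

variable {Γ : Type*} [Group Γ]

/-- the relators, as elements of a group, for a tuple `b1 b2 a0 a1 a2 a3 q`. -/
def relList (b1 b2 a0 a1 a2 a3 q : Γ) : List Γ :=
  [q ^ 5, b1 * b1, b2 * b2,
   (b1 * b2) * (b2 * b1)⁻¹,
   (b1 * a0) * (a0 * b1)⁻¹, (b1 * a1) * (a1 * b1)⁻¹, (b1 * a2) * (a2 * b1)⁻¹,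
   (b1 * a3) * (a3 * b1)⁻¹, (b1 * q) * (q * b1)⁻¹,
   (b2 * a0) * (a0 * b2)⁻¹, (b2 * a1) * (a1 * b2)⁻¹, (b2 * a2) * (a2 * b2)⁻¹,
   (b2 * a3) * (a3 * b2)⁻¹, (b2 * q) * (q * b2)⁻¹,
   (a0 * a0) * (b1 * b2)⁻¹, (a1 * a1) * (b1 * b2)⁻¹, (a2 * a2) * (b1 * b2)⁻¹,
   (a3 * a3) * (b1 * b2)⁻¹,
   (a1 * a0) * (a0 * a1 * b1)⁻¹, (a2 * a1) * (a1 * a2 * b1)⁻¹, (a3 * a2) * (a2 * a3 * b1)⁻¹,
   (a2 * a0) * (a0 * a2 * b2)⁻¹, (a3 * a1) * (a1 * a3 * b2)⁻¹, (a3 * a0) * (a0 * a3 * b2)⁻¹,
   (q * a0) * (a1 * q)⁻¹, (q * a1) * (a2 * q)⁻¹, (q * a2) * (a3 * q)⁻¹,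
   (a0 * a1 * a2 * a3 * (q * a3)) * q⁻¹]

/-- the relations hold for a tuple. -/
def Rel (b1 b2 a0 a1 a2 a3 q : Γ) : Prop := ∀ r ∈ relList b1 b2 a0 a1 a2 a3 q, r = 1

theorem rel_iff (b1 b2 a0 a1 a2 a3 q : Γ) : Rel b1 b2 a0 a1 a2 a3 q ↔
    (q ^ 5 = 1 ∧ b1 * b1 = 1 ∧ b2 * b2 = 1 ∧ b1 * b2 = b2 * b1 ∧
     b1 * a0 = a0 * b1 ∧ b1 * a1 = a1 * b1 ∧ b1 * a2 = a2 * b1 ∧ b1 * a3 = a3 * b1 ∧
     b1 * q = q * b1 ∧
     b2 * a0 = a0 * b2 ∧ b2 * a1 = a1 * b2 ∧ b2 * a2 = a2 * b2 ∧ b2 * a3 = a3 * b2 ∧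
     b2 * q = q * b2 ∧
     a0 * a0 = b1 * b2 ∧ a1 * a1 = b1 * b2 ∧ a2 * a2 = b1 * b2 ∧ a3 * a3 = b1 * b2 ∧
     a1 * a0 = a0 * a1 * b1 ∧ a2 * a1 = a1 * a2 * b1 ∧ a3 * a2 = a2 * a3 * b1 ∧
     a2 * a0 = a0 * a2 * b2 ∧ a3 * a1 = a1 * a3 * b2 ∧ a3 * a0 = a0 * a3 * b2 ∧
     q * a0 = a1 * q ∧ q * a1 = a2 * q ∧ q * a2 = a3 * q ∧
     a0 * a1 * a2 * a3 * (q * a3) = q) := by
  unfold Rel relList
  simp only [List.forall_mem_cons, List.not_mem_nil, false_imp_iff, implies_true, and_true,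
    mul_inv_eq_one]

theorem relList_map {Δ : Type*} [Group Δ] (f : Γ →* Δ) (b1 b2 a0 a1 a2 a3 q : Γ) :
    (relList b1 b2 a0 a1 a2 a3 q).map f = relList (f b1) (f b2) (f a0) (f a1) (f a2) (f a3) (f q) := by
  simp only [relList, List.map_cons, List.map_nil, map_mul, map_inv, map_pow]

theorem Rel.map {Δ : Type*} [Group Δ] (f : Γ →* Δ) {b1 b2 a0 a1 a2 a3 q : Γ}
    (h : Rel b1 b2 a0 a1 a2 a3 q) : Rel (f b1) (f b2) (f a0) (f a1) (f a2) (f a3) (f q) := by
  intro r hr
  rw [← relList_map] at hr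
  obtain ⟨r0, hr0, rfl⟩ := List.mem_map.mp hr
  rw [h r0 hr0, map_one]

/-- one step of the chain of cyclic extensions. -/
theorem step (S : Set Γ) (x : Γ) (n m : ℕ) (hn : 0 < n)
    (hS : Finite ↥(Subgroup.closure S) ∧ Nat.card ↥(Subgroup.closure S) ≤ m)
    (hx : x ^ n ∈ Subgroup.closure S)
    (hconj : ∀ s ∈ S, x * s * x⁻¹ ∈ Subgroup.closure S) :
    Finite ↥(Subgroup.closure (insert x S)) ∧ Nat.card ↥(Subgroup.closure (insert x S)) ≤ n * m := by
  have hfin := hS.1
  have hnorm : ∀ k ∈ Subgroup.closure S, x * k * x⁻¹ ∈ Subgroup.closure S := by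
    intro k hk
    have : Subgroup.closure S ≤ (Subgroup.closure S).comap (MulAut.conj x).toMonoidHom := by
      rw [Subgroup.closure_le]
      intro s hs
      exact hconj s hs
    exact this hk
  have key := card_sup_zpowers_le (Subgroup.closure S) x n hn hx hnorm
  have e : Subgroup.closure (insert x S) = Subgroup.closure S ⊔ Subgroup.zpowers x := by
    rw [Set.insert_eq, Subgroup.closure_union, Subgroup.zpowers_eq_closure, sup_comm]
  rw [e]
  exact ⟨key.1, key.2.trans (Nat.mul_le_mul_left n hS.2)⟩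

/-- a group generated by a tuple satisfying the relations is finite of order at most 320. -/
theorem card_le_of_rel {b1 b2 a0 a1 a2 a3 q : Γ} (h : Rel b1 b2 a0 a1 a2 a3 q)
    (hgen : Subgroup.closure ({q, a3, a2, a1, a0, b2, b1} : Set Γ) = ⊤) :
    Finite Γ ∧ Nat.card Γ ≤ 320 := by
  rw [rel_iff] at h
  obtain ⟨hq5, hb1, hb2, hb12, hb1a0, hb1a1, hb1a2, hb1a3, hb1q, hb2a0, hb2a1, hb2a2, hb2a3, hb2q,
    ha0, ha1, ha2, ha3, c01, c12, c23, c02, c13, c03, q0, q1, q2, q3⟩ := h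
  -- conjugation formulas
  have cj : ∀ x y : Γ, x * y = y * x → x * y * x⁻¹ = y := by
    intro x y hxy; rw [hxy, mul_assoc, mul_inv_cancel, mul_one]
  have cj2 : ∀ x y c : Γ, x * y = y * x * c → c * x = x * c → x * y * x⁻¹ = y * c := by
    intro x y c hxy hc
    rw [hxy, mul_assoc y, ← hc, mul_assoc, mul_assoc, mul_inv_cancel, mul_one]
  have cj3 : ∀ x y z : Γ, x * y = z * x → x * y * x⁻¹ = z := by
    intro x y z hxy; rw [hxy, mul_assoc, mul_inv_cancel, mul_one]
  have s0 : Finite ↥(Subgroup.closure (∅ : Set Γ)) ∧ Nat.card ↥(Subgroup.closure (∅ : Set Γ)) ≤ 1 := by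
    rw [Subgroup.closure_empty]
    exact ⟨inferInstance, by simp⟩
  have s1 := step ∅ b1 2 1 (by norm_num) s0 (by rw [pow_two, hb1]; exact Subgroup.one_mem _)
    (by intro s hs; exact absurd hs (Set.notMem_empty s))
  have s2 := step {b1} b2 2 _ (by norm_num) (by simpa using s1)
    (by rw [pow_two, hb2]; exact Subgroup.one_mem _)
    (by
      intro s hs
      rw [Set.mem_singleton_iff] at hs; subst hs
      rw [cj _ _ hb12.symm]; exact Subgroup.subset_closure (by simp))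
  have s3 := step {b2, b1} a0 2 _ (by norm_num) s2
    (by rw [pow_two, ha0]
        exact Subgroup.mul_mem _ (Subgroup.subset_closure (by simp)) (Subgroup.subset_closure (by simp)))
    (by
      intro s hs
      rcases hs with rfl | rfl
      · rw [cj _ _ hb2a0.symm]; exact Subgroup.subset_closure (by simp)
      · rw [cj _ _ hb1a0.symm]; exact Subgroup.subset_closure (by simp))
  have s4 := step {a0, b2, b1} a1 2 _ (by norm_num) s3
    (by rw [pow_two, ha1]
        exact Subgroup.mul_mem _ (Subgroup.subset_closure (by simp)) (Subgroup.subset_closure (by simp)))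
    (by
      intro s hs
      rcases hs with rfl | rfl | rfl
      · rw [cj2 _ _ _ c01 hb1a1]
        exact Subgroup.mul_mem _ (Subgroup.subset_closure (by simp)) (Subgroup.subset_closure (by simp))
      · rw [cj _ _ hb2a1.symm]; exact Subgroup.subset_closure (by simp)
      · rw [cj _ _ hb1a1.symm]; exact Subgroup.subset_closure (by simp))
  have s5 := step {a1, a0, b2, b1} a2 2 _ (by norm_num) s4
    (by rw [pow_two, ha2]
        exact Subgroup.mul_mem _ (Subgroup.subset_closure (by simp)) (Subgroup.subset_closure (by simp)))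
    (by
      intro s hs
      rcases hs with rfl | rfl | rfl | rfl
      · rw [cj2 _ _ _ c12 hb1a2]
        exact Subgroup.mul_mem _ (Subgroup.subset_closure (by simp)) (Subgroup.subset_closure (by simp))
      · rw [cj2 _ _ _ c02 hb2a2]
        exact Subgroup.mul_mem _ (Subgroup.subset_closure (by simp)) (Subgroup.subset_closure (by simp))
      · rw [cj _ _ hb2a2.symm]; exact Subgroup.subset_closure (by simp)
      · rw [cj _ _ hb1a2.symm]; exact Subgroup.subset_closure (by simp))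
  have s6 := step {a2, a1, a0, b2, b1} a3 2 _ (by norm_num) s5
    (by rw [pow_two, ha3]
        exact Subgroup.mul_mem _ (Subgroup.subset_closure (by simp)) (Subgroup.subset_closure (by simp)))
    (by
      intro s hs
      rcases hs with rfl | rfl | rfl | rfl | rfl
      · rw [cj2 _ _ _ c23 hb1a3]
        exact Subgroup.mul_mem _ (Subgroup.subset_closure (by simp)) (Subgroup.subset_closure (by simp))
      · rw [cj2 _ _ _ c13 hb2a3]
        exact Subgroup.mul_mem _ (Subgroup.subset_closure (by simp)) (Subgroup.subset_closure (by simp))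
      · rw [cj2 _ _ _ c03 hb2a3]
        exact Subgroup.mul_mem _ (Subgroup.subset_closure (by simp)) (Subgroup.subset_closure (by simp))
      · rw [cj _ _ hb2a3.symm]; exact Subgroup.subset_closure (by simp)
      · rw [cj _ _ hb1a3.symm]; exact Subgroup.subset_closure (by simp))
  have s7 := step {a3, a2, a1, a0, b2, b1} q 5 _ (by norm_num) s6
    (by rw [hq5]; exact Subgroup.one_mem _)
    (by
      intro s hs
      rcases hs with rfl | rfl | rfl | rfl | rfl | rfl
      · -- q a3 q⁻¹ = (a0 a1 a2 a3)⁻¹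
        have e : q * s * q⁻¹ = (a0 * a1 * a2 * s)⁻¹ := by
          rw [eq_inv_iff_mul_eq_one]
          calc q * s * q⁻¹ * (a0 * a1 * a2 * s)
              = q * s * q⁻¹ * (a0 * a1 * a2 * s) * ((q * s) * (q * s)⁻¹) := by
                rw [mul_inv_cancel, mul_one]
            _ = q * s * q⁻¹ * (a0 * a1 * a2 * s * (q * s)) * (q * s)⁻¹ := by
                simp only [mul_assoc]
            _ = 1 := by
                rw [q3]; group
        rw [e]
        apply Subgroup.inv_mem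
        exact Subgroup.mul_mem _ (Subgroup.mul_mem _ (Subgroup.mul_mem _
          (Subgroup.subset_closure (by simp)) (Subgroup.subset_closure (by simp)))
          (Subgroup.subset_closure (by simp))) (Subgroup.subset_closure (by simp))
      · rw [cj3 _ _ _ q2]; exact Subgroup.subset_closure (by simp)
      · rw [cj3 _ _ _ q1]; exact Subgroup.subset_closure (by simp)
      · rw [cj3 _ _ _ q0]; exact Subgroup.subset_closure (by simp)
      · rw [cj _ _ hb2q.symm]; exact Subgroup.subset_closure (by simp)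
      · rw [cj _ _ hb1q.symm]; exact Subgroup.subset_closure (by simp))
  rw [hgen] at s7
  obtain ⟨hf, hc⟩ := s7
  have e : (⊤ : Subgroup Γ) ≃ Γ := Subgroup.topEquiv.toEquiv
  refine ⟨Finite.of_equiv _ e, ?_⟩
  rw [← Nat.card_congr e]
  exact hc

end rel

end Cfsg.Agent.Helper14.G320
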