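import Mathlib
import Cfsg.Agent.Helper14.G320A

/-!
# A group of order 80 whose derived subgroup has order 16

The derived subgroup is elementary abelian and the elements of order 5 act on it without fixed points.
-/

set_option autoImplicit false

namespace Cfsg.Agent.Helper14.G320

open scoped commutatorElement

variable {Δ : Type*} [Group Δ] [Finite Δ]

instance fact_two : Fact (Nat.Prime 2) := ⟨Nat.prime_two⟩
instance fact_five : Fact (Nat.Prime 5) := ⟨by norm_num⟩

/-- a divisor of 16 congruent to 16 modulo 5 is 1 or 16. -/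
theorem card_cases {n : ℕ} (h1 : n ∣ 16) (h2 : 16 ≡ n [MOD 5]) : n = 1 ∨ n = 16 := by
  have h3 : n ≤ 16 := Nat.le_of_dvd (by norm_num) h1
  unfold Nat.ModEq at h2
  interval_cases n <;> simp_all

/-- A subgroup of `K` normalised by the fixed point free element `y` of order 5 is trivial or all of `K`,
when `K` has order 16. -/
theorem eq_bot_or_eq (K : Subgroup Δ) (hK : Nat.card K = 16) (y : Δ) (hy : orderOf y = 5)
    (hfix : ∀ k ∈ K, y * k = k * y → k = 1) (L : Subgroup Δ) (hL : L ≤ K)
    (hyL : y ∈ Subgroup.normalizer (L : Set Δ)) : L = ⊥ ∨ L = K := by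
  have h1 := card_modEq_card_inf_centralizer L 5 y hy hyL
  have h2 : L ⊓ Subgroup.centralizer ({y} : Set Δ) = ⊥ := by
    rw [eq_bot_iff]
    intro k hk
    rw [Subgroup.mem_bot]
    apply hfix k (hL hk.1)
    exact (Subgroup.mem_centralizer_iff.mp hk.2 y (Set.mem_singleton y))
  rw [h2, Subgroup.card_bot] at h1
  have h3 : Nat.card L ∣ 16 := hK ▸ Subgroup.card_dvd_of_le hL
  have h4 : 16 ≡ Nat.card L [MOD 5] := by
    have : (16 : ℕ) ≡ 1 [MOD 5] := by decide
    exact this.trans h1.symm
  rcases card_cases h3 h4 with h | h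
  · left; exact Subgroup.eq_bot_of_card_eq L h
  · right; exact Subgroup.eq_of_le_of_card_ge hL (by rw [h, hK])

omit [Finite Δ] in
theorem commutatorElement_mul_central {c1 c2 : Δ} (h1 : ∀ g, c1 * g = g * c1)
    (h2 : ∀ g, c2 * g = g * c2) (k1 k2 : Δ) : ⁅k1 * c1, k2 * c2⁆ = ⁅k1, k2⁆ := by
  rw [commutatorElement_def, commutatorElement_def]
  have e1 : (k1 * c1)⁻¹ = k1⁻¹ * c1⁻¹ := by
    rw [mul_inv_rev]
    have := h1 k1⁻¹
    calc c1⁻¹ * k1⁻¹ = c1⁻¹ * (k1⁻¹ * c1) * c1⁻¹ := by group
      _ = c1⁻¹ * (c1 * k1⁻¹) * c1⁻¹ := by rw [this]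
      _ = k1⁻¹ * c1⁻¹ := by group
  have e2 : (k2 * c2)⁻¹ = k2⁻¹ * c2⁻¹ := by
    rw [mul_inv_rev]
    have := h2 k2⁻¹
    calc c2⁻¹ * k2⁻¹ = c2⁻¹ * (k2⁻¹ * c2) * c2⁻¹ := by group
      _ = c2⁻¹ * (c2 * k2⁻¹) * c2⁻¹ := by rw [this]
      _ = k2⁻¹ * c2⁻¹ := by group
  rw [e1, e2]
  calc k1 * c1 * (k2 * c2) * (k1⁻¹ * c1⁻¹) * (k2⁻¹ * c2⁻¹)
      = k1 * (c1 * (k2 * c2 * k1⁻¹)) * c1⁻¹ * (k2⁻¹ * c2⁻¹) := by group
    _ = k1 * ((k2 * c2 * k1⁻¹) * c1) * c1⁻¹ * (k2⁻¹ * c2⁻¹) := by rw [h1]
    _ = k1 * k2 * (c2 * (k1⁻¹ * k2⁻¹)) * c2⁻¹ := by group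
    _ = k1 * k2 * ((k1⁻¹ * k2⁻¹) * c2) * c2⁻¹ := by rw [h2]
    _ = k1 * k2 * k1⁻¹ * k2⁻¹ := by group

/-- the main structure statement for the quotient. -/
theorem quot_main (K : Subgroup Δ) [hKn : K.Normal] (hK : Nat.card K = 16)
    (hcomm : commutator Δ = K) (y : Δ) (hy : orderOf y = 5)
    (hgen : K ⊔ Subgroup.zpowers y = ⊤) :
    (∀ k ∈ K, y * k = k * y → k = 1) ∧ (∀ k ∈ K, ∀ l ∈ K, k * l = l * k) ∧
      (∀ k ∈ K, k * k = 1) := by
  have hyN : ∀ L : Subgroup Δ, L.Normal → y ∈ Subgroup.normalizer (L : Set Δ) := by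
    intro L hL
    rw [Subgroup.normalizer_eq_top_iff.mpr hL]
    exact Subgroup.mem_top y
  have hp : IsPGroup 2 K := IsPGroup.of_card (n := 4) (by rw [hK]; norm_num)
  have hnt : Nontrivial K := by
    rw [← Finite.one_lt_card_iff_nontrivial, hK]; norm_num
  -- the fixed points
  have hfix : ∀ k ∈ K, y * k = k * y → k = 1 := by
    have h1 := card_modEq_card_inf_centralizer K 5 y hy (hyN K hKn)
    rw [hK] at h1
    have h3 : Nat.card ↥(K ⊓ Subgroup.centralizer ({y} : Set Δ)) ∣ 16 :=
      hK ▸ Subgroup.card_dvd_of_le inf_le_left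
    rcases card_cases h3 h1 with h | h
    · have hb := Subgroup.eq_bot_of_card_eq _ h
      intro k hk hyk
      have : k ∈ K ⊓ Subgroup.centralizer ({y} : Set Δ) := by
        refine Subgroup.mem_inf.mpr ⟨hk, ?_⟩
        rw [Subgroup.mem_centralizer_iff]
        intro x hx
        rw [Set.mem_singleton_iff] at hx
        subst hx
        exact hyk
      rw [hb] at this
      exact Subgroup.mem_bot.mp this
    · exfalso
      have he : K ⊓ Subgroup.centralizer ({y} : Set Δ) = K :=
        Subgroup.eq_of_le_of_card_ge inf_le_left (by rw [h, hK])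
      have hyK : ∀ k ∈ K, y * k = k * y := by
        intro k hk
        have : k ∈ K ⊓ Subgroup.centralizer ({y} : Set Δ) := by rw [he]; exact hk
        exact Subgroup.mem_centralizer_iff.mp this.2 y (Set.mem_singleton y)
      -- powers of `y` are central
      have hcen : ∀ c ∈ Subgroup.zpowers y, ∀ g : Δ, c * g = g * c := by
        intro c hc g
        have hg : g ∈ K ⊔ Subgroup.zpowers y := by rw [hgen]; exact Subgroup.mem_top g
        obtain ⟨k, hk, z, hz, rfl⟩ := Subgroup.mem_sup_of_normal_left.mp hg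
        have h1 : c * k = k * c := by
          have : c ∈ Subgroup.centralizer ({k} : Set Δ) := by
            have h2 : Subgroup.zpowers y ≤ Subgroup.centralizer ({k} : Set Δ) := by
              rw [Subgroup.zpowers_le, Subgroup.mem_centralizer_iff]
              intro x hx
              rw [Set.mem_singleton_iff] at hx
              subst hx
              exact (hyK x hk).symm
            exact h2 hc
          exact (Subgroup.mem_centralizer_iff.mp this k (Set.mem_singleton k)).symm
        have h2 : c * z = z * c := by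
          obtain ⟨i, rfl⟩ := Subgroup.mem_zpowers_iff.mp hc
          obtain ⟨j, rfl⟩ := Subgroup.mem_zpowers_iff.mp hz
          rw [← zpow_add, ← zpow_add, add_comm]
        rw [← mul_assoc, h1, mul_assoc, h2, mul_assoc]
      have hle : commutator Δ ≤ ⁅K, K⁆ := by
        rw [commutator_def, Subgroup.commutator_le]
        intro g1 _ g2 _
        have hg1 : g1 ∈ K ⊔ Subgroup.zpowers y := by rw [hgen]; exact Subgroup.mem_top g1
        have hg2 : g2 ∈ K ⊔ Subgroup.zpowers y := by rw [hgen]; exact Subgroup.mem_top g2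
        obtain ⟨k1, hk1, c1, hc1, rfl⟩ := Subgroup.mem_sup_of_normal_left.mp hg1
        obtain ⟨k2, hk2, c2, hc2, rfl⟩ := Subgroup.mem_sup_of_normal_left.mp hg2
        rw [commutatorElement_mul_central (hcen c1 hc1) (hcen c2 hc2)]
        exact Subgroup.commutator_mem_commutator hk1 hk2
      rw [hcomm] at hle
      have hnil : Group.IsNilpotent K := hp.isNilpotent
      have hlt := Group.IsSolvable.commutator_lt_top_of_nontrivial K
      have hmap : (commutator K).map K.subtype = K := by
        apply le_antisymm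
        · intro x hx
          obtain ⟨x', _, rfl⟩ := hx
          exact x'.2
        · rw [Subgroup.map_subtype_commutator]; exact hle
      have htop : commutator K = ⊤ := by
        apply Subgroup.map_injective K.subtype_injective
        rw [hmap, ← MonoidHom.range_eq_map, Subgroup.range_subtype]
      exact (ne_of_lt hlt) htop
  refine ⟨hfix, ?_⟩
  -- the centre
  have hab : ∀ k ∈ K, ∀ l ∈ K, k * l = l * k := by
    let L : Subgroup Δ := K ⊓ Subgroup.centralizer (K : Set Δ)
    have hLn : L.Normal := inferInstance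
    have hLne : L ≠ ⊥ := by
      have := hp.center_nontrivial
      obtain ⟨z, hz⟩ := exists_ne (1 : Subgroup.center K)
      intro hb
      apply hz
      have hzL : (z : Δ) ∈ L := by
        refine Subgroup.mem_inf.mpr ⟨z.1.2, ?_⟩
        rw [Subgroup.mem_centralizer_iff]
        intro k hk
        have := Subgroup.mem_center_iff.mp z.2 ⟨k, hk⟩
        exact congrArg Subtype.val this
      rw [hb, Subgroup.mem_bot] at hzL
      apply Subtype.ext
      apply Subtype.ext
      exact hzL
    rcases eq_bot_or_eq K hK y hy hfix L inf_le_left (hyN L hLn) with h | h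
    · exact absurd h hLne
    · intro k hk l hl
      have : l ∈ L := by rw [h]; exact hl
      exact Subgroup.mem_centralizer_iff.mp this.2 k hk
  refine ⟨hab, ?_⟩
  -- the elements of order at most 2
  let Ω : Subgroup Δ :=
    { carrier := {k | k ∈ K ∧ k * k = 1}
      one_mem' := ⟨K.one_mem, by simp⟩
      mul_mem' := by
        rintro k l ⟨hk, hk2⟩ ⟨hl, hl2⟩
        refine ⟨K.mul_mem hk hl, ?_⟩
        calc k * l * (k * l) = k * (l * k) * l := by group
          _ = k * (k * l) * l := by rw [hab l hl k hk]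
          _ = (k * k) * (l * l) := by group
          _ = 1 := by rw [hk2, hl2, mul_one]
      inv_mem' := by
        rintro k ⟨hk, hk2⟩
        refine ⟨K.inv_mem hk, ?_⟩
        rw [← mul_inv_rev, hk2, inv_one] }
  have hΩK : Ω ≤ K := fun k hk => hk.1
  have hΩn : y ∈ Subgroup.normalizer (Ω : Set Δ) := by
    rw [Subgroup.mem_normalizer_iff]
    intro k
    constructor
    · rintro ⟨hk, hk2⟩
      refine ⟨hKn.conj_mem k hk y, ?_⟩
      calc y * k * y⁻¹ * (y * k * y⁻¹) = y * (k * k) * y⁻¹ := by group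
        _ = 1 := by rw [hk2]; group
    · rintro ⟨hk, hk2⟩
      have h1 : k = y⁻¹ * (y * k * y⁻¹) * y⁻¹⁻¹ := by group
      refine ⟨by rw [h1]; exact hKn.conj_mem _ hk y⁻¹, ?_⟩
      calc k * k = y⁻¹ * (y * k * y⁻¹ * (y * k * y⁻¹)) * y := by group
        _ = 1 := by rw [hk2]; group
  have hΩne : Ω ≠ ⊥ := by
    obtain ⟨x, hx⟩ := exists_prime_orderOf_dvd_card' (G := K) 2 (by rw [hK]; norm_num)
    intro hb
    have hxΩ : (x : Δ) ∈ Ω := by
      refine ⟨x.2, ?_⟩
      have : x ^ 2 = 1 := by rw [← hx]; exact pow_orderOf_eq_one x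
      have h2 : ((x ^ 2 : K) : Δ) = 1 := by rw [this]; rfl
      rw [← pow_two]
      exact h2
    rw [hb, Subgroup.mem_bot] at hxΩ
    have : x = 1 := Subtype.ext hxΩ
    rw [this, orderOf_one] at hx
    norm_num at hx
  rcases eq_bot_or_eq K hK y hy hfix Ω hΩK hΩn with h | h
  · exact absurd h hΩne
  · intro k hk
    have : k ∈ Ω := by rw [h]; exact hk
    exact this.2

end Cfsg.Agent.Helper14.G320
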