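import Mathlib
import Cfsg.Agent.Helper14.G320A
import Cfsg.Agent.Helper14.G320C

/-!
# The structure of a group of order 320 whose derived subgroup has order 64 and centre a four-group
-/

set_option autoImplicit false

namespace Cfsg.Agent.Helper14.G320

open scoped commutatorElement

/-- conjugation -/
def cj {G : Type*} [Group G] (q x : G) : G := q * x * q⁻¹

section cj

variable {G : Type*} [Group G]

theorem cj_mul (q x y : G) : cj q (x * y) = cj q x * cj q y := by unfold cj; group

theorem cj_inv (q x : G) : cj q x⁻¹ = (cj q x)⁻¹ := by unfold cj; group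

theorem cj_one (q : G) : cj q 1 = 1 := by unfold cj; group

theorem cj_map {H : Type*} [Group H] (f : G →* H) (q x : G) : f (cj q x) = cj (f q) (f x) := by
  unfold cj; rw [map_mul, map_mul, map_inv]

theorem cj_of_comm {q x : G} (h : x * q = q * x) : cj q x = x := by
  unfold cj; rw [← h, mul_assoc, mul_inv_cancel, mul_one]

theorem cj_five {q : G} (h : q ^ 5 = 1) (x : G) : cj q (cj q (cj q (cj q (cj q x)))) = x := by
  have e : q * q * q * q * q = 1 := by rw [← h]; simp [pow_succ]
  unfold cj
  calc q * (q * (q * (q * (q * x * q⁻¹) * q⁻¹) * q⁻¹) * q⁻¹) * q⁻¹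
      = (q * q * q * q * q) * x * (q * q * q * q * q)⁻¹ := by group
    _ = x := by rw [e]; group

theorem cj_inv_eq {q : G} (h : q ^ 5 = 1) (x : G) : q⁻¹ * x * q = cj q (cj q (cj q (cj q x))) := by
  have e : q * q * q * q * q = 1 := by rw [← h]; simp [pow_succ]
  unfold cj
  calc q⁻¹ * x * q = q⁻¹ * x * q * (q * q * q * q * q)⁻¹ := by rw [e]; group
    _ = (q * q * q * q * q) * (q⁻¹ * x * q) * (q * q * q * q * q)⁻¹ := by rw [e]; group
    _ = q * (q * (q * (q * x * q⁻¹) * q⁻¹) * q⁻¹) * q⁻¹ := by group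

end cj

/-- the facts about the group used to find the generators. -/
structure Setup {G : Type*} [Group G] (P Z : Subgroup G) (q : G) : Prop where
  ZP : Z ≤ P
  Pn : P.Normal
  q5 : q ^ 5 = 1
  gen : P ⊔ Subgroup.zpowers q = ⊤
  Zcen : ∀ z ∈ Z, ∀ g : G, z * g = g * z
  Zsq : ∀ z ∈ Z, z * z = 1
  comm : ∀ x ∈ P, ∀ y ∈ P, x * y * x⁻¹ * y⁻¹ ∈ Z
  sq : ∀ x ∈ P, x * x ∈ Z
  ne : ∃ a ∈ P, a ∉ Z
  commP : commutator G = P
  span : ∀ a ∈ P, a ∉ Z → ∀ x ∈ P,
    ∃ w ∈ Subgroup.closure ({a, cj q a, cj q (cj q a), cj q (cj q (cj q a))} : Set G),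
      ∃ z ∈ Z, x = w * z
  norm : ∀ a ∈ P, a * cj q a * cj q (cj q a) * cj q (cj q (cj q a)) *
    cj q (cj q (cj q (cj q a))) ∈ Z

variable {G : Type*} [Group G] [Finite G]

theorem exists_setup (hG : Nat.card G = 320) (hD : Nat.card (commutator G) = 64)
    (hZ : IsKleinFour (Subgroup.center (commutator G))) :
    ∃ (Z : Subgroup G) (q : G), Setup (commutator G) Z q := by
  classical
  set P : Subgroup G := commutator G with hPdef
  have hPn : P.Normal := inferInstance
  let Z : Subgroup G := (Subgroup.center P).map P.subtype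
  have hZn : Z.Normal := inferInstance
  have hZP : Z ≤ P := by
    rintro _ ⟨z, _, rfl⟩
    exact z.2
  have hZmem : ∀ z : G, z ∈ Z ↔ z ∈ P ∧ ∀ p ∈ P, p * z = z * p := by
    intro z
    constructor
    · rintro ⟨z', hz', rfl⟩
      refine ⟨z'.2, ?_⟩
      intro p hp
      have := Subgroup.mem_center_iff.mp hz' ⟨p, hp⟩
      exact congrArg Subtype.val this
    · rintro ⟨hz, hc⟩
      refine ⟨⟨z, hz⟩, ?_, rfl⟩
      rw [SetLike.mem_coe, Subgroup.mem_center_iff]
      intro p
      apply Subtype.ext
      exact hc p.1 p.2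
  have hZcard : Nat.card Z = 4 := by
    have e := Subgroup.equivMapOfInjective (Subgroup.center P) P.subtype P.subtype_injective
    rw [← Nat.card_congr e.toEquiv]
    exact hZ.card_four
  have hZsq : ∀ z ∈ Z, z * z = 1 := by
    rintro _ ⟨z, hz, rfl⟩
    have h1 := Monoid.pow_exponent_eq_one (⟨z, hz⟩ : Subgroup.center P)
    rw [hZ.exponent_two] at h1
    have h2 : ((⟨z, hz⟩ : Subgroup.center P) ^ 2 : Subgroup.center P).1.1 = 1 := by rw [h1]; rfl
    rw [← pow_two]
    exact h2
  -- the element of order 5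
  obtain ⟨q, hq⟩ := exists_prime_orderOf_dvd_card' (G := G) 5 (by rw [hG]; norm_num)
  have hq5 : q ^ 5 = 1 := by rw [← hq]; exact pow_orderOf_eq_one q
  have hqP : q ∉ P := by
    intro h
    have := Subgroup.orderOf_dvd_natCard P h
    rw [hq, hD] at this
    norm_num at this
  have hgen : P ⊔ Subgroup.zpowers q = ⊤ := by
    apply Subgroup.eq_top_of_card_eq
    have h1 : 64 ∣ Nat.card ↥(P ⊔ Subgroup.zpowers q) := hD ▸ Subgroup.card_dvd_of_le le_sup_left
    have h2 : 5 ∣ Nat.card ↥(P ⊔ Subgroup.zpowers q) := by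
      have := Subgroup.card_dvd_of_le (le_sup_right : Subgroup.zpowers q ≤ P ⊔ Subgroup.zpowers q)
      rwa [Nat.card_zpowers, hq] at this
    have h3 : 64 * 5 ∣ Nat.card ↥(P ⊔ Subgroup.zpowers q) :=
      Nat.Coprime.mul_dvd_of_dvd_of_dvd (by norm_num) h1 h2
    have h4 : Nat.card ↥(P ⊔ Subgroup.zpowers q) ∣ 320 := hG ▸ Subgroup.card_subgroup_dvd_card _
    rw [hG]
    exact Nat.dvd_antisymm h4 h3
  -- `q` centralises `Z`
  have hqZ : ∀ z ∈ Z, q * z = z * q := by
    have hyN : q ∈ Subgroup.normalizer (Z : Set G) := by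
      rw [Subgroup.normalizer_eq_top_iff.mpr hZn]; exact Subgroup.mem_top q
    have h1 := card_modEq_card_inf_centralizer Z 5 q hq hyN
    rw [hZcard] at h1
    have h3 : Nat.card ↥(Z ⊓ Subgroup.centralizer ({q} : Set G)) ∣ 4 :=
      hZcard ▸ Subgroup.card_dvd_of_le inf_le_left
    have h4 : Nat.card ↥(Z ⊓ Subgroup.centralizer ({q} : Set G)) = 4 := by
      have h5 : Nat.card ↥(Z ⊓ Subgroup.centralizer ({q} : Set G)) ≤ 4 :=
        Nat.le_of_dvd (by norm_num) h3
      unfold Nat.ModEq at h1
      interval_cases Nat.card ↥(Z ⊓ Subgroup.centralizer ({q} : Set G)) <;> simp_all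
    have he : Z ⊓ Subgroup.centralizer ({q} : Set G) = Z :=
      Subgroup.eq_of_le_of_card_ge inf_le_left (by rw [h4, hZcard])
    intro z hz
    have : z ∈ Z ⊓ Subgroup.centralizer ({q} : Set G) := by rw [he]; exact hz
    exact Subgroup.mem_centralizer_iff.mp this.2 q (Set.mem_singleton q)
  have hZcen : ∀ z ∈ Z, ∀ g : G, z * g = g * z := by
    intro z hz g
    have hg : g ∈ P ⊔ Subgroup.zpowers q := by rw [hgen]; exact Subgroup.mem_top g
    obtain ⟨p, hp, c, hc, rfl⟩ := Subgroup.mem_sup_of_normal_left.mp hg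
    have h1 : z * p = p * z := (((hZmem z).mp hz).2 p hp).symm
    have h2 : z * c = c * z := by
      have : c ∈ Subgroup.centralizer ({z} : Set G) := by
        have h3 : Subgroup.zpowers q ≤ Subgroup.centralizer ({z} : Set G) := by
          rw [Subgroup.zpowers_le, Subgroup.mem_centralizer_iff]
          intro x hx
          rw [Set.mem_singleton_iff] at hx
          subst hx
          exact (hqZ x hz).symm
        exact h3 hc
      exact Subgroup.mem_centralizer_iff.mp this z (Set.mem_singleton z)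
    rw [← mul_assoc, h1, mul_assoc, h2, mul_assoc]
  -- the quotient
  let π : G →* G ⧸ Z := QuotientGroup.mk' Z
  have hπs : Function.Surjective π := QuotientGroup.mk'_surjective Z
  have hker : π.ker = Z := QuotientGroup.ker_mk' Z
  have hπ1 : ∀ g : G, π g = 1 ↔ g ∈ Z := by
    intro g
    exact QuotientGroup.eq_one_iff g
  let K : Subgroup (G ⧸ Z) := P.map π
  have hKn : K.Normal := Subgroup.Normal.map hPn π hπs
  have hPidx : P.index = 5 := by
    have := Subgroup.index_mul_card P
    rw [hD, hG] at this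
    omega
  have hQcard : Nat.card (G ⧸ Z) = 80 := by
    have := Subgroup.card_eq_card_quotient_mul_card_subgroup Z
    rw [hG, hZcard] at this
    omega
  have hKcard : Nat.card K = 16 := by
    have h1 : K.index = 5 := by
      rw [Subgroup.index_map_eq P hπs (by rw [hker]; exact hZP), hPidx]
    have := Subgroup.index_mul_card K
    rw [h1, hQcard] at this
    omega
  have hKcomm : commutator (G ⧸ Z) = K := by
    rw [commutator_def, ← Subgroup.map_top_of_surjective π hπs, ← Subgroup.map_commutator,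
      ← commutator_def]
  let y : G ⧸ Z := π q
  have hy5 : y ^ 5 = 1 := by
    show π q ^ 5 = 1
    rw [← map_pow, hq5, map_one]
  have hy : orderOf y = 5 := by
    have h1 := orderOf_dvd_of_pow_eq_one hy5
    rcases (Nat.dvd_prime (by norm_num : Nat.Prime 5)).mp h1 with h | h
    · exfalso
      rw [orderOf_eq_one_iff] at h
      exact hqP (hZP ((hπ1 q).mp h))
    · exact h
  have hgen' : K ⊔ Subgroup.zpowers y = ⊤ := by
    have := congrArg (Subgroup.map π) hgen
    rw [Subgroup.map_sup, MonoidHom.map_zpowers, Subgroup.map_top_of_surjective π hπs] at this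
    exact this
  obtain ⟨hfix, hab, hsq⟩ := quot_main K hKcard hKcomm y hy hgen'
  have hKmem : ∀ x ∈ P, π x ∈ K := fun x hx => Subgroup.mem_map_of_mem π hx
  -- translation
  have hcomm : ∀ x ∈ P, ∀ x' ∈ P, x * x' * x⁻¹ * x'⁻¹ ∈ Z := by
    intro x hx x' hx'
    rw [← hπ1]
    have := hab _ (hKmem x hx) _ (hKmem x' hx')
    rw [map_mul, map_mul, map_mul, map_inv, map_inv, this]
    group
  have hsq' : ∀ x ∈ P, x * x ∈ Z := by
    intro x hx
    rw [← hπ1, map_mul]
    exact hsq _ (hKmem x hx)
  have hne : ∃ a ∈ P, a ∉ Z := by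
    by_contra hcon
    have : P ≤ Z := by
      intro p hp
      by_contra hpz
      exact hcon ⟨p, hp, hpz⟩
    have := Subgroup.card_le_of_le this
    rw [hD, hZcard] at this
    omega
  -- the norm
  have hKcj : ∀ k ∈ K, cj y k ∈ K := fun k hk => hKn.conj_mem k hk y
  have hnorm : ∀ k ∈ K, k * cj y k * cj y (cj y k) * cj y (cj y (cj y k)) *
      cj y (cj y (cj y (cj y k))) = 1 := by
    intro k hk
    have h1 := hKcj k hk
    have h2 := hKcj _ h1
    have h3 := hKcj _ h2
    have h4 := hKcj _ h3
    set n := k * cj y k * cj y (cj y k) * cj y (cj y (cj y k)) * cj y (cj y (cj y (cj y k)))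
      with hn
    have hnK : n ∈ K := K.mul_mem (K.mul_mem (K.mul_mem (K.mul_mem hk h1) h2) h3) h4
    apply hfix n hnK
    have e1 : cj y n = cj y k * cj y (cj y k) * cj y (cj y (cj y k)) *
        cj y (cj y (cj y (cj y k))) * k := by
      rw [hn, cj_mul, cj_mul, cj_mul, cj_mul, cj_five hy5]
    have e2 : cj y n = n := by
      rw [e1, hn]
      have hm : cj y k * cj y (cj y k) * cj y (cj y (cj y k)) * cj y (cj y (cj y (cj y k))) ∈ K :=
        K.mul_mem (K.mul_mem (K.mul_mem h1 h2) h3) h4
      rw [hab _ hm _ hk]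
      simp only [mul_assoc]
    have e3 : y * n * y⁻¹ = n := e2
    calc y * n = y * n * y⁻¹ * y := by group
      _ = n * y := by rw [e3]
  have hnorm' : ∀ a ∈ P, a * cj q a * cj q (cj q a) * cj q (cj q (cj q a)) *
      cj q (cj q (cj q (cj q a))) ∈ Z := by
    intro a ha
    rw [← hπ1]
    simp only [map_mul, cj_map]
    exact hnorm _ (hKmem a ha)
  -- the span
  have hspan : ∀ a ∈ P, a ∉ Z → ∀ x ∈ P,
      ∃ w ∈ Subgroup.closure ({a, cj q a, cj q (cj q a), cj q (cj q (cj q a))} : Set G),
        ∃ z ∈ Z, x = w * z := by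
    intro a ha haZ x hx
    set k := π a with hk
    have hkK : k ∈ K := hKmem a ha
    have hk1 : k ≠ 1 := fun h => haZ ((hπ1 a).mp h)
    let S : Set (G ⧸ Z) := {k, cj y k, cj y (cj y k), cj y (cj y (cj y k))}
    have h1 := hKcj k hkK
    have h2 := hKcj _ h1
    have h3 := hKcj _ h2
    have hSK : Subgroup.closure S ≤ K := by
      rw [Subgroup.closure_le]
      rintro s (rfl | rfl | rfl | rfl)
      · exact hkK
      · exact h1
      · exact h2
      · exact h3
    have h4eq : cj y (cj y (cj y (cj y k))) = (k * cj y k * cj y (cj y k) * cj y (cj y (cj y k)))⁻¹ := by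
      rw [eq_inv_iff_mul_eq_one]
      have := hnorm k hkK
      have hm : k * cj y k * cj y (cj y k) * cj y (cj y (cj y k)) ∈ K :=
        K.mul_mem (K.mul_mem (K.mul_mem hkK h1) h2) h3
      rw [hab _ (hKcj _ h3) _ hm]
      exact this
    have h4S : cj y (cj y (cj y (cj y k))) ∈ Subgroup.closure S := by
      rw [h4eq]
      apply Subgroup.inv_mem
      exact Subgroup.mul_mem _ (Subgroup.mul_mem _ (Subgroup.mul_mem _
        (Subgroup.subset_closure (by simp [S])) (Subgroup.subset_closure (by simp [S])))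
        (Subgroup.subset_closure (by simp [S]))) (Subgroup.subset_closure (by simp [S]))
    have hN : y ∈ Subgroup.normalizer (Subgroup.closure S : Set (G ⧸ Z)) := by
      apply mem_normalizer_closure
      · rintro s (rfl | rfl | rfl | rfl)
        · exact Subgroup.subset_closure (by simp [S, cj])
        · exact Subgroup.subset_closure (by simp [S, cj])
        · exact Subgroup.subset_closure (by simp [S, cj])
        · exact h4S
      · rintro s (rfl | rfl | rfl | rfl)
        · rw [cj_inv_eq hy5]; exact h4S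
        · have : y⁻¹ * cj y k * y = k := by unfold cj; group
          rw [this]; exact Subgroup.subset_closure (by simp [S])
        · have : y⁻¹ * cj y (cj y k) * y = cj y k := by unfold cj; group
          rw [this]; exact Subgroup.subset_closure (by simp [S])
        · have : y⁻¹ * cj y (cj y (cj y k)) * y = cj y (cj y k) := by unfold cj; group
          rw [this]; exact Subgroup.subset_closure (by simp [S])
    have hSne : Subgroup.closure S ≠ ⊥ := by
      intro hb
      have : k ∈ Subgroup.closure S := Subgroup.subset_closure (by simp [S])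
      rw [hb, Subgroup.mem_bot] at this
      exact hk1 this
    have hSeq : Subgroup.closure S = K := by
      rcases eq_bot_or_eq K hKcard y hy hfix _ hSK hN with h | h
      · exact absurd h hSne
      · exact h
    have hS' : S = π '' ({a, cj q a, cj q (cj q a), cj q (cj q (cj q a))} : Set G) := by
      simp only [S, Set.image_insert_eq, Set.image_singleton, cj_map, hk]
      rfl
    have hxK : π x ∈ Subgroup.closure S := by rw [hSeq]; exact hKmem x hx
    rw [hS', ← MonoidHom.map_closure] at hxK
    obtain ⟨w, hw, hwx⟩ := hxK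
    refine ⟨w, hw, w⁻¹ * x, ?_, by group⟩
    rw [← hπ1, map_mul, map_inv, hwx]
    group
  exact ⟨Z, q, ⟨hZP, hPn, hq5, hgen, hZcen, hZsq, hcomm, hsq', hne, rfl, hspan, hnorm'⟩⟩

end Cfsg.Agent.Helper14.G320
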