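import Mathlib
import Cfsg.Agent.Helper14.G320B
import Cfsg.Agent.Helper14.G320D

/-!
# Generators and relations in a group of order 320 with derived subgroup of order 64 and centre a four-group
-/

set_option autoImplicit false
set_option linter.unusedSimpArgs false

namespace Cfsg.Agent.Helper14.G320

open scoped commutatorElement

section aux

variable {G : Type*} [Group G]

theorem tail {x y z : G} (h : x * y = z) (t : G) : x * (y * t) = z * t := by
  rw [← mul_assoc, h]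

/-- the commutation rule from the value of a commutator. -/
theorem comm_rule {x y c : G} (h : x * y * x⁻¹ * y⁻¹ = c) (hc : ∀ g, c * g = g * c)
    (hc2 : c * c = 1) : y * x = x * y * c := by
  have h1 : x * y = c * (y * x) := by rw [← h]; group
  have h2 : c⁻¹ = c := inv_eq_of_mul_eq_one_left hc2
  calc y * x = c⁻¹ * (c * (y * x)) := by group
    _ = c * (x * y) := by rw [← h1, h2]
    _ = x * y * c := hc _

/-- five factors each multiplied by a central involution -/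
theorem prod_five_central {w : G} (hc : ∀ g, w * g = g * w) (hw : w * w = 1) (x0 x1 x2 x3 x4 : G) :
    (x0 * w) * (x1 * w) * (x2 * w) * (x3 * w) * (x4 * w) = x0 * x1 * x2 * x3 * x4 * w := by
  have e1 : (x0 * w) * (x1 * w) = x0 * x1 := by
    calc (x0 * w) * (x1 * w) = x0 * (w * x1) * w := by group
      _ = x0 * (x1 * w) * w := by rw [hc]
      _ = x0 * x1 * (w * w) := by group
      _ = x0 * x1 := by rw [hw, mul_one]
  have e2 : (x0 * x1) * (x2 * w) * (x3 * w) = x0 * x1 * x2 * x3 := by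
    calc (x0 * x1) * (x2 * w) * (x3 * w) = x0 * x1 * x2 * (w * x3) * w := by group
      _ = x0 * x1 * x2 * (x3 * w) * w := by rw [hc]
      _ = x0 * x1 * x2 * x3 * (w * w) := by group
      _ = x0 * x1 * x2 * x3 := by rw [hw, mul_one]
  rw [e1, e2]
  group

end aux

variable {G : Type*} [Group G]

theorem exists_rel_of_setup {P Z : Subgroup G} {q : G} (S : Setup P Z q) :
    ∃ b1 b2 a0 a1 a2 a3 : G, Rel b1 b2 a0 a1 a2 a3 q ∧
      Subgroup.closure ({q, a3, a2, a1, a0, b2, b1} : Set G) = ⊤ := by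
  have hPn := S.Pn
  have hcjP : ∀ x ∈ P, cj q x ∈ P := fun x hx => hPn.conj_mem x hx q
  have hcjZ : ∀ z ∈ Z, cj q z = z := fun z hz => cj_of_comm (S.Zcen z hz q)
  -- the normalised element
  obtain ⟨a', ha'P, ha'Z⟩ := S.ne
  set w := a' * cj q a' * cj q (cj q a') * cj q (cj q (cj q a')) * cj q (cj q (cj q (cj q a')))
    with hw
  have hwZ : w ∈ Z := S.norm a' ha'P
  have hwc := S.Zcen w hwZ
  have hww := S.Zsq w hwZ
  set a0 := a' * w with ha0
  have ha0P : a0 ∈ P := P.mul_mem ha'P (S.ZP hwZ)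
  have ha0Z : a0 ∉ Z := by
    intro h
    apply ha'Z
    have : a' = a0 * w⁻¹ := by rw [ha0]; group
    rw [this]
    exact Z.mul_mem h (Z.inv_mem hwZ)
  set a1 := cj q a0 with ha1
  set a2 := cj q a1 with ha2
  set a3 := cj q a2 with ha3
  set a4 := cj q a3 with ha4
  have ha1P := hcjP a0 ha0P
  have ha2P := hcjP a1 ha1P
  have ha3P := hcjP a2 ha2P
  have ha4P := hcjP a3 ha3P
  have e1 : a1 = cj q a' * w := by rw [ha1, ha0, cj_mul, hcjZ w hwZ]
  have e2 : a2 = cj q (cj q a') * w := by rw [ha2, e1, cj_mul, hcjZ w hwZ]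
  have e3 : a3 = cj q (cj q (cj q a')) * w := by rw [ha3, e2, cj_mul, hcjZ w hwZ]
  have e4 : a4 = cj q (cj q (cj q (cj q a'))) * w := by rw [ha4, e3, cj_mul, hcjZ w hwZ]
  have hN : a0 * a1 * a2 * a3 * a4 = 1 := by
    rw [e1, e2, e3, e4, ha0, prod_five_central hwc hww, ← hw, hww]
  have ha5 : cj q a4 = a0 := by
    rw [ha4, ha3, ha2, ha1]; exact cj_five S.q5 a0
  -- the central elements
  set b1 := a0 * a1 * a0⁻¹ * a1⁻¹ with hb1
  set b2 := a0 * a2 * a0⁻¹ * a2⁻¹ with hb2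
  set u := a0 * a0 with hu
  have hb1Z : b1 ∈ Z := S.comm a0 ha0P a1 ha1P
  have hb2Z : b2 ∈ Z := S.comm a0 ha0P a2 ha2P
  have huZ : u ∈ Z := S.sq a0 ha0P
  have cb1 := S.Zcen b1 hb1Z
  have cb2 := S.Zcen b2 hb2Z
  have cu := S.Zcen u huZ
  have sb1 := S.Zsq b1 hb1Z
  have sb2 := S.Zsq b2 hb2Z
  have su := S.Zsq u huZ
  have hcjcomm : ∀ x y : G, cj q (x * y * x⁻¹ * y⁻¹) = cj q x * cj q y * (cj q x)⁻¹ * (cj q y)⁻¹ := by
    intro x y; rw [cj_mul, cj_mul, cj_mul, cj_inv, cj_inv]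
  -- commutators
  have k12 : a1 * a2 * a1⁻¹ * a2⁻¹ = b1 := by
    have h := hcjcomm a0 a1
    rw [← hb1, hcjZ b1 hb1Z] at h
    exact h.symm
  have k23 : a2 * a3 * a2⁻¹ * a3⁻¹ = b1 := by
    have h := hcjcomm a1 a2
    rw [k12, hcjZ b1 hb1Z] at h
    exact h.symm
  have k13 : a1 * a3 * a1⁻¹ * a3⁻¹ = b2 := by
    have h := hcjcomm a0 a2
    rw [← hb2, hcjZ b2 hb2Z] at h
    exact h.symm
  have k03 : a0 * a3 * a0⁻¹ * a3⁻¹ = b2 := by
    have hZ3 : a0 * a3 * a0⁻¹ * a3⁻¹ ∈ Z := S.comm a0 ha0P a3 ha3P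
    have h1 : cj q (cj q (a0 * a3 * a0⁻¹ * a3⁻¹)) = a0 * a3 * a0⁻¹ * a3⁻¹ := by
      rw [hcjZ _ hZ3, hcjZ _ hZ3]
    have h2 : cj q (cj q (a0 * a3 * a0⁻¹ * a3⁻¹)) = a2 * a0 * a2⁻¹ * a0⁻¹ := by
      rw [hcjcomm, hcjcomm]
      have : cj q (cj q a3) = a0 := ha5
      rw [this]
    have h3 : a2 * a0 * a2⁻¹ * a0⁻¹ = b2⁻¹ := by rw [hb2]; group
    rw [← h1, h2, h3]
    exact inv_eq_of_mul_eq_one_left sb2
  have r10 : a1 * a0 = a0 * a1 * b1 := comm_rule rfl cb1 sb1
  have r21 : a2 * a1 = a1 * a2 * b1 := comm_rule k12 cb1 sb1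
  have r32 : a3 * a2 = a2 * a3 * b1 := comm_rule k23 cb1 sb1
  have r20 : a2 * a0 = a0 * a2 * b2 := comm_rule rfl cb2 sb2
  have r31 : a3 * a1 = a1 * a3 * b2 := comm_rule k13 cb2 sb2
  have r30 : a3 * a0 = a0 * a3 * b2 := comm_rule k03 cb2 sb2
  -- squares
  have q0 : a0 * a0 = u := rfl
  have q1 : a1 * a1 = u := by rw [ha1, ← cj_mul, ← hu, hcjZ u huZ]
  have q2 : a2 * a2 = u := by rw [ha2, ← cj_mul, q1, hcjZ u huZ]
  have q3 : a3 * a3 = u := by rw [ha3, ← cj_mul, q2, hcjZ u huZ]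
  have q4 : a4 * a4 = u := by rw [ha4, ← cj_mul, q3, hcjZ u huZ]
  -- the value of `u`
  have hub : u = b1 * b2 := by
    have hs : a0 * a1 * a2 * a3 * (a0 * a1 * a2 * a3) = b1 * b2 := by
      simp only [mul_assoc, r10, tail r10, r21, tail r21, r32, tail r32, r20, tail r20, r31, tail r31,
        r30, tail r30, q0, tail q0, q1, tail q1, q2, tail q2, q3, tail q3,
        cb1 a0, tail (cb1 a0), cb1 a1, tail (cb1 a1), cb1 a2, tail (cb1 a2), cb1 a3, tail (cb1 a3),
        cb2 a0, tail (cb2 a0), cb2 a1, tail (cb2 a1), cb2 a2, tail (cb2 a2), cb2 a3, tail (cb2 a3),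
        cu a0, tail (cu a0), cu a1, tail (cu a1), cu a2, tail (cu a2), cu a3, tail (cu a3),
        cb2 b1, tail (cb2 b1), cu b1, tail (cu b1), cu b2, tail (cu b2),
        sb1, tail sb1, sb2, tail sb2, su, tail su, one_mul, mul_one]
    have h4 : a4 = (a0 * a1 * a2 * a3)⁻¹ := by
      rw [eq_inv_iff_mul_eq_one]
      have : a4 * (a0 * a1 * a2 * a3) = a4 * (a0 * a1 * a2 * a3 * a4) * a4⁻¹ := by group
      rw [this, hN]; group
    have h5 : u = (b1 * b2)⁻¹ := by
      rw [← q4, h4, ← mul_inv_rev, hs]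
    rw [h5, mul_inv_rev]
    rw [inv_eq_of_mul_eq_one_left sb1, inv_eq_of_mul_eq_one_left sb2]
    exact cb2 b1
  refine ⟨b1, b2, a0, a1, a2, a3, ?_, ?_⟩
  · rw [rel_iff]
    refine ⟨S.q5, sb1, sb2, cb1 b2, cb1 a0, cb1 a1, cb1 a2, cb1 a3, cb1 q, cb2 a0, cb2 a1, cb2 a2,
      cb2 a3, cb2 q, ?_, ?_, ?_, ?_, r10, r21, r32, r20, r31, r30, ?_, ?_, ?_, ?_⟩
    · rw [q0, hub]
    · rw [q1, hub]
    · rw [q2, hub]
    · rw [q3, hub]
    · rw [ha1]; unfold cj; group
    · rw [ha2]; unfold cj; group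
    · rw [ha3]; unfold cj; group
    · have : q * a3 = a4 * q := by rw [ha4]; unfold cj; group
      rw [this, ← mul_assoc, hN, one_mul]
  · -- generation
    set K := Subgroup.closure ({q, a3, a2, a1, a0, b2, b1} : Set G) with hK
    have hqK : q ∈ K := Subgroup.subset_closure (by simp)
    have hAK : Subgroup.closure ({a0, cj q a0, cj q (cj q a0), cj q (cj q (cj q a0))} : Set G) ≤ K := by
      rw [Subgroup.closure_le]
      rintro s (rfl | rfl | rfl | rfl)
      · exact Subgroup.subset_closure (by simp)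
      · exact Subgroup.subset_closure (by simp [ha1])
      · exact Subgroup.subset_closure (by simp [ha2, ha1])
      · exact Subgroup.subset_closure (by simp [ha3, ha2, ha1])
    have hdec : ∀ g : G, ∃ k ∈ K, ∃ z ∈ Z, g = k * z := by
      intro g
      have hg : g ∈ P ⊔ Subgroup.zpowers q := by rw [S.gen]; exact Subgroup.mem_top g
      have := hPn
      obtain ⟨p, hp, c, hc, rfl⟩ := Subgroup.mem_sup_of_normal_left.mp hg
      obtain ⟨x, hx, z, hz, rfl⟩ := S.span a0 ha0P ha0Z p hp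
      have hcK : c ∈ K := by
        have : Subgroup.zpowers q ≤ K := by rw [Subgroup.zpowers_le]; exact hqK
        exact this hc
      refine ⟨x * c, K.mul_mem (hAK hx) hcK, z, hz, ?_⟩
      rw [mul_assoc, S.Zcen z hz c, mul_assoc]
    have hcomm : commutator G ≤ K := by
      rw [commutator_def, Subgroup.commutator_le]
      intro g1 _ g2 _
      obtain ⟨k1, hk1, z1, hz1, rfl⟩ := hdec g1
      obtain ⟨k2, hk2, z2, hz2, rfl⟩ := hdec g2
      rw [commutatorElement_mul_central (S.Zcen z1 hz1) (S.Zcen z2 hz2)]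
      rw [commutatorElement_def]
      exact K.mul_mem (K.mul_mem (K.mul_mem hk1 hk2) (K.inv_mem hk1)) (K.inv_mem hk2)
    rw [S.commP] at hcomm
    rw [eq_top_iff, ← S.gen]
    apply sup_le hcomm
    rw [Subgroup.zpowers_le]
    exact hqK

end Cfsg.Agent.Helper14.G320
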