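import Mathlib
import Cfsg.Agent.Helper14.G320B

/-!
# The group presented by the relations of the group of order 320
-/

set_option autoImplicit false

namespace Cfsg.Agent.Helper14.G320

/-- the free generators -/
def fg (i : Fin 7) : FreeGroup (Fin 7) := FreeGroup.of i

/-- the relators -/
def rels : Set (FreeGroup (Fin 7)) :=
  {r | r ∈ relList (fg 0) (fg 1) (fg 2) (fg 3) (fg 4) (fg 5) (fg 6)}

/-- the presented group -/
abbrev PG : Type := PresentedGroup rels

/-- its generators -/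
def pg (i : Fin 7) : PG := PresentedGroup.of i

theorem pg_rel : Rel (pg 0) (pg 1) (pg 2) (pg 3) (pg 4) (pg 5) (pg 6) := by
  intro r hr
  have h := relList_map (PresentedGroup.mk rels) (fg 0) (fg 1) (fg 2) (fg 3) (fg 4) (fg 5) (fg 6)
  have h2 : relList (pg 0) (pg 1) (pg 2) (pg 3) (pg 4) (pg 5) (pg 6) =
      (relList (fg 0) (fg 1) (fg 2) (fg 3) (fg 4) (fg 5) (fg 6)).map (PresentedGroup.mk rels) := by
    rw [h]; rfl
  rw [h2] at hr
  obtain ⟨r0, hr0, rfl⟩ := List.mem_map.mp hr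
  exact PresentedGroup.one_of_mem hr0

theorem pg_gen : Subgroup.closure ({pg 6, pg 5, pg 4, pg 3, pg 2, pg 1, pg 0} : Set PG) = ⊤ := by
  rw [eq_top_iff, ← PresentedGroup.closure_range_of]
  apply Subgroup.closure_mono
  rintro _ ⟨i, rfl⟩
  fin_cases i <;> simp [pg]

theorem card_PG : Finite PG ∧ Nat.card PG ≤ 320 := card_le_of_rel pg_rel pg_gen

section hom

variable {Γ : Type*} [Group Γ]

/-- the homomorphism to a group with a tuple satisfying the relations -/
def toGrp (x : Fin 7 → Γ) (h : Rel (x 0) (x 1) (x 2) (x 3) (x 4) (x 5) (x 6)) : PG →* Γ :=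
  PresentedGroup.toGroup (f := x) (by
    intro r hr
    have h1 := relList_map (FreeGroup.lift x) (fg 0) (fg 1) (fg 2) (fg 3) (fg 4) (fg 5) (fg 6)
    have h2 : FreeGroup.lift x r ∈ (relList (fg 0) (fg 1) (fg 2) (fg 3) (fg 4) (fg 5) (fg 6)).map
        (FreeGroup.lift x) := List.mem_map.mpr ⟨r, hr, rfl⟩
    rw [h1] at h2
    simp only [fg, FreeGroup.lift_apply_of] at h2
    exact h _ h2)

theorem toGrp_pg (x : Fin 7 → Γ) (h : Rel (x 0) (x 1) (x 2) (x 3) (x 4) (x 5) (x 6)) (i : Fin 7) :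
    toGrp x h (pg i) = x i := PresentedGroup.toGroup.of _

theorem range_toGrp (x : Fin 7 → Γ) (h : Rel (x 0) (x 1) (x 2) (x 3) (x 4) (x 5) (x 6)) :
    (toGrp x h).range = Subgroup.closure ({x 6, x 5, x 4, x 3, x 2, x 1, x 0} : Set Γ) := by
  rw [MonoidHom.range_eq_map, ← pg_gen, MonoidHom.map_closure]
  congr 1
  simp only [Set.image_insert_eq, Set.image_singleton, toGrp_pg]

theorem bijective_toGrp [Finite Γ] (hΓ : Nat.card Γ = 320) (x : Fin 7 → Γ)
    (h : Rel (x 0) (x 1) (x 2) (x 3) (x 4) (x 5) (x 6))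
    (hgen : Subgroup.closure ({x 6, x 5, x 4, x 3, x 2, x 1, x 0} : Set Γ) = ⊤) :
    Function.Bijective (toGrp x h) := by
  have hs : Function.Surjective (toGrp x h) := by
    rw [← MonoidHom.range_eq_top, range_toGrp, hgen]
  obtain ⟨hf, hc⟩ := card_PG
  exact hs.bijective_of_nat_card_le (by rw [hΓ]; exact hc)

end hom

end Cfsg.Agent.Helper14.G320
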