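import Mathlib
import Cfsg.Agent.Helper2.UnitaryCenter
import Cfsg.Prelude.Def_Classical

/-!
# Base change of the special unitary group of degree 3 along an isomorphism of fields of order 16
-/

set_option autoImplicit false

namespace Cfsg.Agent.Helper14.G320

open Matrix Cfsg.Agent.Helper2.Herm

variable {F1 F2 : Type*} [Field F1] [Fintype F1] [Field F2] [Fintype F2]

theorem map_mem_SU (h1 : Fintype.card F1 = 4 ^ 2) (h2 : Fintype.card F2 = 4 ^ 2) (φ : F1 →+* F2)
    (g : SpecialLinearGroup (Fin 3) F1) (hg : g ∈ Cfsg.SU 3 F1 4) :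
    SpecialLinearGroup.map φ g ∈ Cfsg.SU 3 F2 4 := by
  rw [mem_SU_iff_isON h2]
  have hON := (mem_SU_iff_isON h1 g).mp hg
  intro j k
  have hjk := hON j k
  unfold Cfsg.hermForm at hjk ⊢
  simp only [cols] at hjk ⊢
  have := congrArg φ hjk
  rw [map_sum] at this
  simp only [map_mul, map_pow] at this
  simp only [SpecialLinearGroup.map_apply_coe, RingHom.mapMatrix_apply, Matrix.map_apply]
  rw [this]
  split_ifs <;> simp

/-- the homomorphism -/
noncomputable def bcHom (h1 : Fintype.card F1 = 4 ^ 2) (h2 : Fintype.card F2 = 4 ^ 2) (φ : F1 →+* F2) :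
    ↥(Cfsg.SU 3 F1 4) →* ↥(Cfsg.SU 3 F2 4) :=
  ((SpecialLinearGroup.map φ).comp (Cfsg.SU 3 F1 4).subtype).codRestrict (Cfsg.SU 3 F2 4)
    (fun g => map_mem_SU h1 h2 φ g.1 g.2)

theorem bcHom_apply (h1 : Fintype.card F1 = 4 ^ 2) (h2 : Fintype.card F2 = 4 ^ 2) (φ : F1 →+* F2)
    (g : ↥(Cfsg.SU 3 F1 4)) (i j : Fin 3) : (bcHom h1 h2 φ g).1.1 i j = φ (g.1.1 i j) := rfl

/-- the isomorphism -/
noncomputable def bcEquiv (h1 : Fintype.card F1 = 4 ^ 2) (h2 : Fintype.card F2 = 4 ^ 2) (φ : F1 ≃+* F2) :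
    ↥(Cfsg.SU 3 F1 4) ≃* ↥(Cfsg.SU 3 F2 4) :=
  { bcHom h1 h2 (φ : F1 →+* F2) with
    invFun := bcHom h2 h1 (φ.symm : F2 →+* F1)
    left_inv := by
      intro g
      apply Subtype.ext
      apply Subtype.ext
      apply Matrix.ext
      intro i j
      show (bcHom h2 h1 (φ.symm : F2 →+* F1) (bcHom h1 h2 (φ : F1 →+* F2) g)).1.1 i j = g.1.1 i j
      rw [bcHom_apply, bcHom_apply]
      simp
    right_inv := by
      intro g
      apply Subtype.ext
      apply Subtype.ext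
      apply Matrix.ext
      intro i j
      show (bcHom h1 h2 (φ : F1 →+* F2) (bcHom h2 h1 (φ.symm : F2 →+* F1) g)).1.1 i j = g.1.1 i j
      rw [bcHom_apply, bcHom_apply]
      simp }

end Cfsg.Agent.Helper14.G320
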