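import Mathlib
import Cfsg.Agent.Helper13.SU33Spec
import Cfsg.Agent.Helper2.UnitaryCenter
import Cfsg.Agent.Helper2.UnitarySU
import Cfsg.Agent.Helper14.F16

set_option autoImplicit false
set_option linter.style.haveILetI false

/-!
# Element orders of `SU₃(4)`: every element has order dividing 4, 10, 13 or 15
-/

namespace Cfsg.Agent.Helper14.SU316

open Cfsg.Agent.Helper13.SL33Spec Cfsg.Agent.Helper2.Herm Cfsg.Agent.Helper14

set_option maxRecDepth 100000 in
theorem coef_cases16 : ∀ a : F16, coef a (a ^ 4) 4 = (0, 0, 1) ∨ coef a (a ^ 4) 10 = (0, 0, 1) ∨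
    coef a (a ^ 4) 13 = (0, 0, 1) ∨ coef a (a ^ 4) 15 = (0, 0, 1) := by decide +kernel

section generic

variable {F : Type*} [Field F] [Fintype F]

theorem exists_phi (hF : Fintype.card F = 16) : ∃ φ : F16 →+* F, Function.Bijective φ := by
  have e : F16 ≃+* F := FiniteField.ringEquivOfCardEq (K := F16) (K' := F) (by rw [F16.card, hF])
  exact ⟨e.toRingHom, e.bijective⟩

local notation "SL3" => Matrix.SpecialLinearGroup (Fin 3) F

theorem c2_eq_of_mem_SU (hF : Fintype.card F = 4 ^ 2) (g : SL3) (hg : g ∈ Cfsg.SU 3 F 4) :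
    c2 g.1 = g.1.trace ^ 4 := by
  have hON := (mem_SU_iff_isON hF g).mp hg
  have h1 := conjTranspose_mul_self hF hON
  have hadj : (g.1.map (cj hF)).transpose = g.1.adjugate := by
    have h2 : g.1 * g.1.adjugate = 1 := by
      rw [Matrix.mul_adjugate, g.2, one_smul]
    calc (g.1.map (cj hF)).transpose
        = (g.1.map (cj hF)).transpose * (g.1 * g.1.adjugate) := by rw [h2, mul_one]
      _ = ((g.1.map (cj hF)).transpose * g.1) * g.1.adjugate := by rw [mul_assoc]
      _ = g.1.adjugate := by rw [h1, one_mul]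
  rw [Cfsg.Agent.Helper13.SU33Spec.c2_eq_trace_adjugate, ← hadj, Matrix.trace_transpose]
  simp only [Matrix.trace, Matrix.diag_apply, Matrix.map_apply, cj_apply]
  rw [← cj_apply hF, map_sum]
  rfl

theorem pow_cases (hF : Fintype.card F = 16) (g : Cfsg.SU 3 F 4) :
    g ^ 4 = 1 ∨ g ^ 10 = 1 ∨ g ^ 13 = 1 ∨ g ^ 15 = 1 := by
  have hF' : Fintype.card F = 4 ^ 2 := by rw [hF]; norm_num
  obtain ⟨φ, hφ⟩ := exists_phi hF
  obtain ⟨a, ha⟩ := hφ.surjective g.1.1.trace
  have hc2 := c2_eq_of_mem_SU hF' g.1 g.2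
  have key : ∀ n : ℕ, coef a (a ^ 4) n = (0, 0, 1) → g ^ n = 1 := by
    intro n hn
    apply Subtype.ext
    apply Subtype.ext
    rw [Subgroup.coe_pow, Matrix.SpecialLinearGroup.coe_pow, pow_eq g.1.1 g.1.2 n, hc2, ← ha,
      ← map_pow, Cfsg.Agent.Helper13.SU33Spec.coef_map, hn]
    simp
  rcases coef_cases16 a with h | h | h | h
  · exact Or.inl (key 4 h)
  · exact Or.inr (Or.inl (key 10 h))
  · exact Or.inr (Or.inr (Or.inl (key 13 h)))
  · exact Or.inr (Or.inr (Or.inr (key 15 h)))

/-- the order of every element divides 4, 10, 13 or 15 -/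
theorem orderOf_dvd_cases (hF : Fintype.card F = 16) (g : Cfsg.SU 3 F 4) :
    orderOf g ∣ 4 ∨ orderOf g ∣ 10 ∨ orderOf g ∣ 13 ∨ orderOf g ∣ 15 := by
  rcases pow_cases hF g with h | h | h | h
  · exact Or.inl (orderOf_dvd_of_pow_eq_one h)
  · exact Or.inr (Or.inl (orderOf_dvd_of_pow_eq_one h))
  · exact Or.inr (Or.inr (Or.inl (orderOf_dvd_of_pow_eq_one h)))
  · exact Or.inr (Or.inr (Or.inr (orderOf_dvd_of_pow_eq_one h)))

/-! ### explicit elements -/

abbrev M16 := Matrix (Fin 3) (Fin 3) F16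

/-- unitarity of a matrix over the model. -/
def IsU (M : M16) : Prop :=
  ∀ j k : Fin 3, ∑ i, M i j * (M i k) ^ 4 = if j = k then 1 else 0

instance : DecidablePred IsU := fun M => by unfold IsU; infer_instance

/-- an element of `SL₃` from a matrix over the model. -/
noncomputable def mkSL (φ : F16 →+* F) (M : M16) (hdet : M.det = 1) : SL3 :=
  ⟨φ.mapMatrix M, by rw [← RingHom.map_det, hdet, map_one]⟩

theorem mkSL_mem (hF : Fintype.card F = 4 ^ 2) (φ : F16 →+* F) (M : M16) (hdet : M.det = 1)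
    (hU : IsU M) : mkSL φ M hdet ∈ Cfsg.SU 3 F 4 := by
  rw [mem_SU_iff_isON hF]
  intro j k
  unfold Cfsg.hermForm
  simp only [cols, mkSL, RingHom.mapMatrix_apply, Matrix.map_apply]
  have := congrArg φ (hU j k)
  rw [map_sum] at this
  simp only [map_mul, map_pow] at this
  rw [this]
  split_ifs <;> simp

/-- an element of `SU₃(4)` from a matrix over the model. -/
noncomputable def mkSU (hF : Fintype.card F = 4 ^ 2) (φ : F16 →+* F) (M : M16) (hdet : M.det = 1)
    (hU : IsU M) : Cfsg.SU 3 F 4 :=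
  ⟨mkSL φ M hdet, mkSL_mem hF φ M hdet hU⟩

theorem orderOf_mkSU (hF : Fintype.card F = 4 ^ 2) (φ : F16 →+* F) (hφ : Function.Injective φ)
    (M : M16) (hdet : M.det = 1) (hU : IsU M) : orderOf (mkSU hF φ M hdet hU) = orderOf M := by
  rw [orderOf_eq_orderOf_iff]
  intro n
  constructor
  · intro h
    have h1 : (((mkSU hF φ M hdet hU) ^ n : Cfsg.SU 3 F 4) : SL3) = 1 := by rw [h]; rfl
    have h2 : ((((mkSU hF φ M hdet hU) ^ n : Cfsg.SU 3 F 4) : SL3) : Matrix (Fin 3) (Fin 3) F)
        = 1 := by rw [h1]; rfl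
    rw [Subgroup.coe_pow, Matrix.SpecialLinearGroup.coe_pow] at h2
    change (φ.mapMatrix M) ^ n = 1 at h2
    rw [← map_pow, ← map_one (φ.mapMatrix : M16 →+* Matrix (Fin 3) (Fin 3) F)] at h2
    have hinj : Function.Injective (φ.mapMatrix : M16 →+* Matrix (Fin 3) (Fin 3) F) := by
      intro A B hAB
      apply Matrix.ext
      intro i j
      have := congrFun (congrFun hAB i) j
      simp only [RingHom.mapMatrix_apply, Matrix.map_apply] at this
      exact hφ this
    exact hinj h2
  · intro h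
    apply Subtype.ext
    apply Subtype.ext
    rw [Subgroup.coe_pow, Matrix.SpecialLinearGroup.coe_pow]
    change (φ.mapMatrix M) ^ n = 1
    rw [← map_pow, h, map_one]

/-- the element with a given code -/
abbrev c (n : ℕ) : F16 := F16.ofNat n

def m13 : M16 := !![c 10, c 11, c 3; c 3, c 12, c 2; c 3, c 3, c 8]
def m15 : M16 := !![c 1, c 7, c 3; c 11, c 12, c 13; c 3, c 2, c 15]
def m10 : M16 := !![c 7, c 10, c 13; c 8, c 8, c 8; c 11, c 8, c 3]

set_option maxRecDepth 100000 in
theorem m13_det : m13.det = 1 := by rw [Matrix.det_fin_three]; decide +kernel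
set_option maxRecDepth 100000 in
theorem m15_det : m15.det = 1 := by rw [Matrix.det_fin_three]; decide +kernel
set_option maxRecDepth 100000 in
theorem m10_det : m10.det = 1 := by rw [Matrix.det_fin_three]; decide +kernel
set_option maxRecDepth 100000 in
theorem m13_U : IsU m13 := by decide +kernel
set_option maxRecDepth 100000 in
theorem m15_U : IsU m15 := by decide +kernel
set_option maxRecDepth 100000 in
theorem m10_U : IsU m10 := by decide +kernel

instance fact13 : Fact (Nat.Prime 13) := ⟨by norm_num⟩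

set_option maxRecDepth 100000 in
theorem order_m13 : orderOf m13 = 13 :=
  orderOf_eq_prime (by decide +kernel) (by decide +kernel)

set_option maxRecDepth 100000 in
theorem order_m10 : orderOf m10 = 10 := by
  apply orderOf_eq_of_pow_and_pow_div_prime (by norm_num)
  · decide +kernel
  · intro p hp hd
    have h10 : (10 : ℕ) = 2 * 5 := by norm_num
    rw [h10] at hd
    rcases (Nat.Prime.dvd_mul hp).mp hd with h | h
    · have := (Nat.prime_dvd_prime_iff_eq hp Nat.prime_two).mp h
      subst this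
      decide +kernel
    · have := (Nat.prime_dvd_prime_iff_eq hp Nat.prime_five).mp h
      subst this
      decide +kernel

set_option maxRecDepth 100000 in
theorem order_m15 : orderOf m15 = 15 := by
  apply orderOf_eq_of_pow_and_pow_div_prime (by norm_num)
  · decide +kernel
  · intro p hp hd
    have h15 : (15 : ℕ) = 3 * 5 := by norm_num
    rw [h15] at hd
    rcases (Nat.Prime.dvd_mul hp).mp hd with h | h
    · have := (Nat.prime_dvd_prime_iff_eq hp Nat.prime_three).mp h
      subst this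
      decide +kernel
    · have := (Nat.prime_dvd_prime_iff_eq hp Nat.prime_five).mp h
      subst this
      decide +kernel

instance : Finite (Cfsg.SU 3 F 4) := by
  classical
  infer_instance

theorem exists_orders (hF : Fintype.card F = 16) :
    (∃ g : Cfsg.SU 3 F 4, orderOf g = 10) ∧ (∃ g : Cfsg.SU 3 F 4, orderOf g = 13) ∧
      (∃ g : Cfsg.SU 3 F 4, orderOf g = 15) := by
  have hF' : Fintype.card F = 4 ^ 2 := by rw [hF]; norm_num
  obtain ⟨φ, hφ⟩ := exists_phi hF
  refine ⟨⟨mkSU hF' φ m10 m10_det m10_U, ?_⟩, ⟨mkSU hF' φ m13 m13_det m13_U, ?_⟩,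
    ⟨mkSU hF' φ m15 m15_det m15_U, ?_⟩⟩
  · rw [orderOf_mkSU hF' φ hφ.injective, order_m10]
  · rw [orderOf_mkSU hF' φ hφ.injective, order_m13]
  · rw [orderOf_mkSU hF' φ hφ.injective, order_m15]

theorem center_SU (hF : Fintype.card F = 16) : Subgroup.center (Cfsg.SU 3 F 4) = ⊥ := by
  have hF' : Fintype.card F = 4 ^ 2 := by rw [hF]; norm_num
  have h := card_center_SU hF' 3 (by norm_num)
  rw [show Nat.gcd 3 (4 + 1) = 1 by norm_num] at h
  exact Subgroup.card_eq_one.mp h

/-- `SU₃(4) ≃* PSU₃(4)`. -/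
noncomputable def eSU (hF : Fintype.card F = 16) : Cfsg.SU 3 F 4 ≃* Cfsg.PSU 3 F 4 :=
  (QuotientGroup.quotientBot).symm.trans (QuotientGroup.quotientMulEquivOfEq (center_SU hF).symm)

theorem card_SU16 (hF : Fintype.card F = 16) : Nat.card (Cfsg.SU 3 F 4) = 62400 := by
  have hF' : Fintype.card F = 4 ^ 2 := by rw [hF]; norm_num
  have h := card_SU_closed hF' 3 (by norm_num)
  have e : (4 : ℕ) ^ (3 * (3 - 1) / 2) *
      ∏ i ∈ Finset.range 3, (if Even i then 4 ^ (i + 1) + 1 else 4 ^ (i + 1) - 1) = 5 * 62400 := by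
    decide
  rw [e] at h
  omega

theorem card_PSU16 (hF : Fintype.card F = 16) : Nat.card (Cfsg.PSU 3 F 4) = 62400 := by
  rw [← Nat.card_congr (eSU hF).toEquiv, card_SU16 hF]

end generic

end Cfsg.Agent.Helper14.SU316
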