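import Mathlib
import Cfsg.Agent.Helper14.SU316
import Cfsg.Agent.Helper14.G320Data
import Cfsg.Agent.Helper14.G320F

/-!
# The centraliser of an involution in `SU₃(4)` over the model of the field with 16 elements
-/

set_option autoImplicit false

namespace Cfsg.Agent.Helper14.G320

open Cfsg.Agent.Helper14 Cfsg.Agent.Helper14.SU316 Matrix

/-- the group over the model -/
abbrev Γ16 : Type := ↥(Cfsg.SU 3 F16 4)

theorem card16 : Fintype.card F16 = 4 ^ 2 := by rw [F16.card]; norm_num

instance : Finite Γ16 := by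
  have : Finite (Matrix.SpecialLinearGroup (Fin 3) F16) := by
    apply Finite.of_injective (fun g => g.1) ; intro a b h; exact Subtype.ext h
  infer_instance

/-- the matrix of an element -/
def mat (g : Γ16) : M16 := g.1.1

theorem mat_one : mat 1 = 1 := rfl

theorem mat_mul (g k : Γ16) : mat (g * k) = mat g * mat k := rfl

theorem mat_injective : Function.Injective mat := by
  intro g k h
  apply Subtype.ext
  apply Subtype.ext
  exact h

/-- an element from a matrix -/
noncomputable def mk (M : M16) (hdet : M.det = 1) (hU : IsU M) : Γ16 :=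
  mkSU card16 (RingHom.id F16) M hdet hU

theorem mat_mk (M : M16) (hdet : M.det = 1) (hU : IsU M) : mat (mk M hdet hU) = M := rfl

/-- the elements -/
noncomputable def eB1 : Γ16 := mk mB1 mB1_det mB1_U
noncomputable def eB2 : Γ16 := mk mB2 mB2_det mB2_U
noncomputable def eA0 : Γ16 := mk mA0 mA0_det mA0_U
noncomputable def eA1 : Γ16 := mk mA1 mA1_det mA1_U
noncomputable def eA2 : Γ16 := mk mA2 mA2_det mA2_U
noncomputable def eA3 : Γ16 := mk mA3 mA3_det mA3_U
noncomputable def eQ : Γ16 := mk mQ mQ_det mQ_U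
noncomputable def eS0 : Γ16 := mk mS0 mS0_det mS0_U
noncomputable def eS1 : Γ16 := mk mS1 mS1_det mS1_U
noncomputable def eS2 : Γ16 := mk mS2 mS2_det mS2_U

theorem mat_eB1 : mat eB1 = mB1 := rfl
theorem mat_eB2 : mat eB2 = mB2 := rfl
theorem mat_eA0 : mat eA0 = mA0 := rfl
theorem mat_eA1 : mat eA1 = mA1 := rfl
theorem mat_eA2 : mat eA2 = mA2 := rfl
theorem mat_eA3 : mat eA3 = mA3 := rfl
theorem mat_eQ : mat eQ = mQ := rfl
theorem mat_eS0 : mat eS0 = mS0 := rfl
theorem mat_eS1 : mat eS1 = mS1 := rfl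
theorem mat_eS2 : mat eS2 = mS2 := rfl

theorem eQ_five : eQ * eQ * eQ * eQ * eQ = 1 := by
  apply mat_injective
  simp only [mat_mul, mat_one, mat_eQ]
  decide +kernel

theorem model_rel : Rel eB1 eB2 eA0 eA1 eA2 eA3 eQ := by
  rw [rel_iff]
  refine ⟨?_, ?_, ?_, ?_, ?_, ?_, ?_, ?_, ?_, ?_, ?_, ?_, ?_, ?_, ?_, ?_, ?_, ?_, ?_, ?_, ?_, ?_,
    ?_, ?_, ?_, ?_, ?_, ?_⟩
  · rw [← eQ_five]; simp [pow_succ]
  all_goals
    apply mat_injective
    simp only [mat_mul, mat_one, mat_eB1, mat_eB2, mat_eA0, mat_eA1, mat_eA2, mat_eA3, mat_eQ]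
    decide +kernel


/-! ### the involution -/

theorem orderOf_eB1 : orderOf eB1 = 2 := by
  have h := (rel_iff _ _ _ _ _ _ _).mp model_rel
  have h2 : eB1 ^ 2 = 1 := by rw [pow_two]; exact h.2.1
  have h1 : eB1 ≠ 1 := by
    intro h3
    have : mat eB1 = mat 1 := by rw [h3]
    rw [mat_eB1, mat_one] at this
    revert this
    decide +kernel
  exact orderOf_eq_prime h2 h1

/-! ### the 320 elements -/

/-- powers of a matrix, by recursion -/
def mpw (M : M16) : ℕ → M16
  | 0 => 1
  | n + 1 => mpw M n * M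

theorem mat_pow (g : Γ16) (n : ℕ) : mat (g ^ n) = mpw (mat g) n := by
  induction n with
  | zero => rw [pow_zero]; rfl
  | succ n ih => rw [pow_succ, mat_mul, ih]; rfl

/-- the code of a matrix -/
def encM (M : M16) : ℕ :=
  (M 0 0).v.val + 16 * ((M 0 1).v.val + 16 * ((M 0 2).v.val + 16 * ((M 1 0).v.val +
    16 * ((M 1 1).v.val + 16 * ((M 1 2).v.val + 16 * ((M 2 0).v.val + 16 * ((M 2 1).v.val +
    16 * (M 2 2).v.val)))))))

/-- the matrix of the `n`-th normal form -/
def nfMat (n : ℕ) : M16 :=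
  mpw mQ (n / 64) * mpw mA0 (n / 4 % 2) * mpw mA1 (n / 8 % 2) * mpw mA2 (n / 16 % 2) *
    mpw mA3 (n / 32 % 2) * mpw mB1 (n % 2) * mpw mB2 (n / 2 % 2)

/-- the `n`-th normal form -/
noncomputable def nfΓ (n : ℕ) : Γ16 :=
  eQ ^ (n / 64) * eA0 ^ (n / 4 % 2) * eA1 ^ (n / 8 % 2) * eA2 ^ (n / 16 % 2) *
    eA3 ^ (n / 32 % 2) * eB1 ^ (n % 2) * eB2 ^ (n / 2 % 2)

theorem mat_nfΓ (n : ℕ) : mat (nfΓ n) = nfMat n := by
  simp only [nfΓ, nfMat, mat_mul, mat_pow, mat_eB1, mat_eB2, mat_eA0, mat_eA1, mat_eA2, mat_eA3,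
    mat_eQ]

theorem nf_length : nfCodes.length = 320 := by decide +kernel

theorem nf_check : ∀ n : Fin 320, encM (nfMat n) = nfCodes.getD n 0 := by decide +kernel

theorem nf_nodup : nfCodes.Nodup := by decide +kernel

theorem nfΓ_inj (n m : Fin 320) (h : nfΓ n = nfΓ m) : n = m := by
  have h1 : nfMat n = nfMat m := by rw [← mat_nfΓ, ← mat_nfΓ, h]
  have h2 : nfCodes.getD n 0 = nfCodes.getD m 0 := by rw [← nf_check, ← nf_check, h1]
  have hn : (n : ℕ) < nfCodes.length := by rw [nf_length]; exact n.2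
  have hm : (m : ℕ) < nfCodes.length := by rw [nf_length]; exact m.2
  rw [List.getD_eq_getElem _ _ hn, List.getD_eq_getElem _ _ hm] at h2
  exact Fin.ext ((List.Nodup.getElem_inj_iff nf_nodup).mp h2)

/-- the subgroup generated by the elements -/
noncomputable def Hmod : Subgroup Γ16 := Subgroup.closure {eQ, eA3, eA2, eA1, eA0, eB2, eB1}

theorem nfΓ_mem (n : ℕ) : nfΓ n ∈ Hmod := by
  unfold nfΓ Hmod
  refine Subgroup.mul_mem _ (Subgroup.mul_mem _ (Subgroup.mul_mem _ (Subgroup.mul_mem _
    (Subgroup.mul_mem _ (Subgroup.mul_mem _ ?_ ?_) ?_) ?_) ?_) ?_) ?_ <;>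
  · apply Subgroup.pow_mem
    exact Subgroup.subset_closure (by simp)

theorem card_Hmod_ge : 320 ≤ Nat.card Hmod := by
  have hinj : Function.Injective (fun n : Fin 320 => (⟨nfΓ n, nfΓ_mem n⟩ : Hmod)) := by
    intro n m h
    exact nfΓ_inj n m (congrArg Subtype.val h)
  have := Nat.card_le_card_of_injective _ hinj
  simpa using this

/-! ### the conjugates of the involution -/

/-- the matrix with a given code -/
def decM (n : ℕ) : M16 :=
  Matrix.of fun i j => F16.ofNat ((n >>> (4 * (3 * i.val + j.val))) % 16)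

/-- the matrices of the generators used for the conjugations -/
def genM (k : ℕ) : M16 := if k = 0 then mS0 else if k = 1 then mS1 else mS2

/-- the generators used for the conjugations -/
noncomputable def genΓ (k : ℕ) : Γ16 := if k = 0 then eS0 else if k = 1 then eS1 else eS2

theorem mat_genΓ (k : ℕ) : mat (genΓ k) = genM k := by
  unfold genΓ genM
  split_ifs <;> rfl

theorem cls_length : clsCodes.length = 195 := by decide +kernel

theorem cls_zero : decM (clsCodes.getD 0 0) = mB1 := by decide +kernel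

theorem cls_check : ∀ i : Fin 195, i.val = 0 ∨ (parIdx.getD i 0 < i.val ∧
    genM (genIdx.getD i 0) * decM (clsCodes.getD (parIdx.getD i 0) 0) =
      decM (clsCodes.getD i 0) * genM (genIdx.getD i 0)) := by decide +kernel

theorem cls_enc : ∀ i : Fin 195, encM (decM (clsCodes.getD i 0)) = clsCodes.getD i 0 := by
  decide +kernel

theorem cls_nodup : clsCodes.Nodup := by decide +kernel

theorem conj_exists : ∀ i : ℕ, i < 195 → ∃ g : Γ16, mat (g * eB1 * g⁻¹) = decM (clsCodes.getD i 0) := by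
  intro i
  induction i using Nat.strong_induction_on with
  | _ i ih =>
    intro hi
    rcases cls_check ⟨i, hi⟩ with h | ⟨hp, hc⟩
    · have : i = 0 := h
      subst this
      refine ⟨1, ?_⟩
      rw [one_mul, inv_one, mul_one, mat_eB1, cls_zero]
    · simp only at hp hc
      obtain ⟨g, hg⟩ := ih _ hp (lt_trans hp hi)
      set s := genΓ (genIdx.getD i 0) with hs
      refine ⟨s * g, ?_⟩
      have e1 : s * g * eB1 * (s * g)⁻¹ = s * (g * eB1 * g⁻¹) * s⁻¹ := by group
      rw [e1]
      set x := g * eB1 * g⁻¹ with hx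
      have e2 : mat (s * x * s⁻¹) = mat (s * x * s⁻¹ * s) * mat s⁻¹ := by
        rw [← mat_mul]; congr 1; group
      have e3 : s * x * s⁻¹ * s = s * x := by group
      rw [e2, e3, mat_mul, hg, hs, mat_genΓ, hc, Matrix.mul_assoc, ← mat_genΓ, ← mat_mul,
        mul_inv_cancel, mat_one, Matrix.mul_one]

/-- a lower bound for the index of a centraliser from distinct conjugates -/
theorem card_centralizer_mul_le {Γ : Type*} [Group Γ] [Finite Γ] (t : Γ) (n : ℕ) (s : Fin n → Γ)
    (hs : Function.Injective s) (hconj : ∀ i, ∃ g : Γ, g * t * g⁻¹ = s i) :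
    Nat.card (Subgroup.centralizer ({t} : Set Γ)) * n ≤ Nat.card Γ := by
  choose g hg using hconj
  let f : Fin n × Subgroup.centralizer ({t} : Set Γ) → Γ := fun p => g p.1 * (p.2 : Γ)
  have hcomm : ∀ c : Subgroup.centralizer ({t} : Set Γ), (c : Γ) * t * (c : Γ)⁻¹ = t := by
    intro c
    have h := Subgroup.mem_centralizer_iff.1 c.2 t (Set.mem_singleton t)
    rw [← h, mul_assoc, mul_inv_cancel, mul_one]
  have hf : ∀ p, f p * t * (f p)⁻¹ = s p.1 := by
    intro p
    have : f p * t * (f p)⁻¹ = g p.1 * ((p.2 : Γ) * t * (p.2 : Γ)⁻¹) * (g p.1)⁻¹ := by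
      simp only [f]; group
    rw [this, hcomm, hg]
  have hinj : Function.Injective f := by
    intro p q hpq
    have h1 : s p.1 = s q.1 := by rw [← hf p, ← hf q, hpq]
    have h2 : p.1 = q.1 := hs h1
    have h3 : g p.1 * (p.2 : Γ) = g q.1 * (q.2 : Γ) := hpq
    rw [h2] at h3
    have h4 : (p.2 : Γ) = (q.2 : Γ) := mul_left_cancel h3
    exact Prod.ext h2 (Subtype.ext h4)
  have := Nat.card_le_card_of_injective f hinj
  rw [Nat.card_prod, Nat.card_eq_fintype_card (α := Fin n), Fintype.card_fin, mul_comm] at this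
  exact this

theorem card_centralizer_le : Nat.card (Subgroup.centralizer ({eB1} : Set Γ16)) ≤ 320 := by
  have key : ∀ i : Fin 195, ∃ s : Γ16, (∃ g : Γ16, g * eB1 * g⁻¹ = s) ∧
      mat s = decM (clsCodes.getD i 0) := by
    intro i
    obtain ⟨g, hg⟩ := conj_exists i i.2
    exact ⟨_, ⟨g, rfl⟩, hg⟩
  choose s hs1 hs2 using key
  have hinj : Function.Injective s := by
    intro i j hij
    have h1 : decM (clsCodes.getD i 0) = decM (clsCodes.getD j 0) := by rw [← hs2, ← hs2, hij]
    have h2 : clsCodes.getD i 0 = clsCodes.getD j 0 := by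
      calc clsCodes.getD i 0 = encM (decM (clsCodes.getD i 0)) := (cls_enc i).symm
        _ = encM (decM (clsCodes.getD j 0)) := by rw [h1]
        _ = clsCodes.getD j 0 := cls_enc j
    have hn : (i : ℕ) < clsCodes.length := by rw [cls_length]; exact i.2
    have hm : (j : ℕ) < clsCodes.length := by rw [cls_length]; exact j.2
    rw [List.getD_eq_getElem _ _ hn, List.getD_eq_getElem _ _ hm] at h2
    exact Fin.ext ((List.Nodup.getElem_inj_iff cls_nodup).mp h2)
  have h := card_centralizer_mul_le eB1 195 s hinj hs1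
  have hc : Nat.card Γ16 = 62400 := card_SU16 F16.card
  rw [hc] at h
  omega

/-! ### the conclusion -/

/-- the tuple of the generators -/
noncomputable def xs : Fin 7 → Γ16 := ![eB1, eB2, eA0, eA1, eA2, eA3, eQ]

theorem xs_rel : Rel (xs 0) (xs 1) (xs 2) (xs 3) (xs 4) (xs 5) (xs 6) := model_rel

theorem Hmod_le : Hmod ≤ Subgroup.centralizer ({eB1} : Set Γ16) := by
  have h := (rel_iff _ _ _ _ _ _ _).mp model_rel
  obtain ⟨-, -, -, hb12, hb1a0, hb1a1, hb1a2, hb1a3, hb1q, -⟩ := h
  unfold Hmod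
  rw [Subgroup.closure_le]
  rintro x (rfl | rfl | rfl | rfl | rfl | rfl | rfl) <;>
    rw [SetLike.mem_coe, Subgroup.mem_centralizer_iff] <;> intro y hy <;>
    rw [Set.mem_singleton_iff] at hy <;> subst hy
  · exact hb1q
  · exact hb1a3
  · exact hb1a2
  · exact hb1a1
  · exact hb1a0
  · exact hb12
  · rfl

theorem Hmod_eq : Hmod = Subgroup.centralizer ({eB1} : Set Γ16) :=
  Subgroup.eq_of_le_of_card_ge Hmod_le (card_centralizer_le.trans card_Hmod_ge)

theorem range_eq : (toGrp xs xs_rel).range = Subgroup.centralizer ({eB1} : Set Γ16) := by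
  rw [range_toGrp, ← Hmod_eq]
  rfl

theorem injective_toGrp : Function.Injective (toGrp xs xs_rel) := by
  obtain ⟨hf, hc⟩ := card_PG
  have hs : Function.Surjective (toGrp xs xs_rel).rangeRestrict :=
    MonoidHom.rangeRestrict_surjective _
  have hle : Nat.card PG ≤ Nat.card (toGrp xs xs_rel).range := by
    rw [range_eq, ← Hmod_eq]
    exact hc.trans card_Hmod_ge
  have hb := hs.bijective_of_nat_card_le hle
  intro a b hab
  apply hb.1
  exact Subtype.ext hab

/-- the presented group is the centraliser of the involution -/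
theorem model_iso : Nonempty (PG ≃* Subgroup.centralizer ({eB1} : Set Γ16)) := by
  have e1 : PG ≃* (toGrp xs xs_rel).range := MonoidHom.ofInjective injective_toGrp
  have e2 : (toGrp xs xs_rel).range ≃* Subgroup.centralizer ({eB1} : Set Γ16) :=
    MulEquiv.subgroupCongr range_eq
  exact ⟨e1.trans e2⟩

end Cfsg.Agent.Helper14.G320
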