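import Mathlib

/-!
# GL₂(ℤ/2ᵏ): ring-level lemmas

Cayley–Hamilton for 2×2 matrices, consequence for a four-group whose involutions are conjugate,
elements of `ZMod (2^k)` killed by `2`, and the kernel of reduction mod 2 being a 2-group.
-/

set_option autoImplicit false

namespace Cfsg.Agent.Helper14.GL2Z

open Matrix

section CH

variable {R : Type*} [CommRing R]

theorem ch2 (M : Matrix (Fin 2) (Fin 2) R) :
    M * M = M.trace • M - M.det • (1 : Matrix (Fin 2) (Fin 2) R) := by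
  ext i j
  fin_cases i <;> fin_cases j <;>
    simp [Matrix.mul_apply, Fin.sum_univ_two, Matrix.trace, Matrix.det_fin_two] <;> ring

theorem trace_smul_eq_two (t : Matrix (Fin 2) (Fin 2) R) (h : t * t = 1) (hd : t.det = 1) :
    t.trace • t = (2 : R) • (1 : Matrix (Fin 2) (Fin 2) R) := by
  have := ch2 t
  rw [h, hd, one_smul] at this
  have h2 : t.trace • t = (1 : Matrix (Fin 2) (Fin 2) R) + 1 := by
    rw [eq_sub_iff_add_eq] at this
    exact this.symm
  rw [h2, two_smul]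

theorem two_smul_of_ch (t1 t2 t3 : Matrix (Fin 2) (Fin 2) R) (h1 : t1 * t1 = 1) (h3 : t3 * t3 = 1)
    (h12 : t1 * t2 = t3) (htr : t1.trace = t3.trace) (hd1 : t1.det = 1) (hd3 : t3.det = 1) :
    (2 : R) • t2 = (2 : R) • (1 : Matrix (Fin 2) (Fin 2) R) := by
  have e1 := trace_smul_eq_two t1 h1 hd1
  have e3 := trace_smul_eq_two t3 h3 hd3
  calc (2 : R) • t2 = ((2 : R) • (1 : Matrix (Fin 2) (Fin 2) R)) * t2 := by
        rw [smul_mul_assoc, one_mul]
    _ = (t1.trace • t1) * t2 := by rw [e1]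
    _ = t1.trace • (t1 * t2) := by rw [smul_mul_assoc]
    _ = t3.trace • t3 := by rw [h12, htr]
    _ = _ := e3

end CH

section ZM

variable {k : ℕ}

theorem two_pow_eq_zero : ((2 : ZMod (2 ^ k)) ^ k) = 0 := by
  have := ZMod.natCast_self (2 ^ k)
  push_cast at this
  exact this

theorem eq_of_two_mul_eq_zero (hk : 1 ≤ k) (r : ZMod (2 ^ k)) (h : 2 * r = 0) :
    r = 0 ∨ r = (2 : ZMod (2 ^ k)) ^ (k - 1) := by
  have : NeZero (2 ^ k) := ⟨by positivity⟩
  have hr : ((2 * r.val : ℕ) : ZMod (2 ^ k)) = 0 := by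
    push_cast; rw [ZMod.natCast_zmod_val]; exact h
  rw [ZMod.natCast_eq_zero_iff] at hr
  have hlt := ZMod.val_lt r
  obtain ⟨m, hm⟩ := hr
  have h2k : 2 ^ k = 2 * 2 ^ (k - 1) := by
    rw [← pow_succ']; congr 1; omega
  have hval : r.val = 2 ^ (k - 1) * m := by
    have : 2 * r.val = 2 * (2 ^ (k - 1) * m) := by rw [hm, h2k]; ring
    exact Nat.eq_of_mul_eq_mul_left (by norm_num) this
  have hm2 : m < 2 := by
    by_contra hcon
    push Not at hcon
    have : 2 ^ (k - 1) * 2 ≤ 2 ^ (k - 1) * m := Nat.mul_le_mul_left _ hcon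
    have hlt' : r.val < 2 * 2 ^ (k - 1) := by rw [← h2k]; exact hlt
    omega
  interval_cases m
  · left
    rw [mul_zero] at hval
    exact (ZMod.val_eq_zero r).mp hval
  · right
    rw [mul_one] at hval
    have : r = ((r.val : ℕ) : ZMod (2 ^ k)) := (ZMod.natCast_zmod_val r).symm
    rw [this, hval]; push_cast; rfl

theorem mul_eq_zero_of_two_mul (hk : 2 ≤ k) (r s : ZMod (2 ^ k)) (hr : 2 * r = 0) (hs : 2 * s = 0) :
    r * s = 0 := by
  rcases eq_of_two_mul_eq_zero (by omega) r hr with h | h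
  · rw [h, zero_mul]
  · rw [h]
    have : (2 : ZMod (2 ^ k)) ^ (k - 1) = 2 ^ (k - 2) * 2 := by
      rw [← pow_succ]; congr 1; omega
    rw [this, mul_assoc, hs, mul_zero]

theorem two_pow_pred_ne_zero (hk : 1 ≤ k) : (2 : ZMod (2 ^ k)) ^ (k - 1) ≠ 0 := by
  intro h
  have h' : ((2 ^ (k - 1) : ℕ) : ZMod (2 ^ k)) = 0 := by push_cast; exact h
  rw [ZMod.natCast_eq_zero_iff] at h'
  have := Nat.le_of_dvd (by positivity) h'
  have h2k : 2 ^ k = 2 * 2 ^ (k - 1) := by
    rw [← pow_succ']; congr 1; omega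
  have hpos : 0 < 2 ^ (k - 1) := by positivity
  omega

theorem two_mul_two_pow_pred (hk : 1 ≤ k) : (2 : ZMod (2 ^ k)) * 2 ^ (k - 1) = 0 := by
  rw [← pow_succ']
  have : k - 1 + 1 = k := by omega
  rw [this]; exact two_pow_eq_zero

/-- elements in the kernel of reduction mod 2 are multiples of 2 -/
theorem exists_two_mul_of_cast (hk : 1 ≤ k) (r : ZMod (2 ^ k))
    (h : ZMod.castHom (dvd_pow_self 2 (by omega : k ≠ 0)) (ZMod 2) r = 0) :
    ∃ c : ZMod (2 ^ k), r = 2 * c := by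
  have : NeZero (2 ^ k) := ⟨by positivity⟩
  have hr : r = ((r.val : ℕ) : ZMod (2 ^ k)) := (ZMod.natCast_zmod_val r).symm
  rw [hr, map_natCast, ZMod.natCast_eq_zero_iff] at h
  obtain ⟨m, hm⟩ := h
  refine ⟨(m : ZMod (2 ^ k)), ?_⟩
  rw [hr, hm]; push_cast; ring

end ZM

end Cfsg.Agent.Helper14.GL2Z
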