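import Cfsg.Agent.Helper14.GL2Z1

/-!
# GL₂(ℤ/2ᵏ): the subgroup E = {g | 2g = 2}, the congruence kernel, Sylow 3-subgroups
-/

set_option autoImplicit false

namespace Cfsg.Agent.Helper14.GL2Z

open Matrix

variable {k : ℕ}

/-- `E = {g | 2 • g = 2 • 1}` -/
def EE (k : ℕ) : Subgroup (GL (Fin 2) (ZMod (2 ^ k))) where
  carrier := {g | (2 : ZMod (2 ^ k)) • (g : Matrix (Fin 2) (Fin 2) (ZMod (2 ^ k))) =
    (2 : ZMod (2 ^ k)) • (1 : Matrix (Fin 2) (Fin 2) (ZMod (2 ^ k)))}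
  one_mem' := by simp
  mul_mem' := by
    intro a b ha hb
    simp only [Set.mem_ofPred_eq] at *
    rw [Units.val_mul, ← smul_mul_assoc, ha, smul_mul_assoc, one_mul, hb]
  inv_mem' := by
    intro a ha
    simp only [Set.mem_ofPred_eq] at *
    calc (2 : ZMod (2 ^ k)) • ((a⁻¹ : GL (Fin 2) (ZMod (2 ^ k))) : Matrix (Fin 2) (Fin 2) (ZMod (2 ^ k)))
        = ((2 : ZMod (2 ^ k)) • (1 : Matrix (Fin 2) (Fin 2) (ZMod (2 ^ k)))) *
            ((a⁻¹ : GL (Fin 2) (ZMod (2 ^ k))) : Matrix (Fin 2) (Fin 2) (ZMod (2 ^ k))) := by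
          rw [smul_mul_assoc, one_mul]
      _ = ((2 : ZMod (2 ^ k)) • (a : Matrix (Fin 2) (Fin 2) (ZMod (2 ^ k)))) *
            ((a⁻¹ : GL (Fin 2) (ZMod (2 ^ k))) : Matrix (Fin 2) (Fin 2) (ZMod (2 ^ k))) := by rw [ha]
      _ = (2 : ZMod (2 ^ k)) • ((a * a⁻¹ : GL (Fin 2) (ZMod (2 ^ k))) :
            Matrix (Fin 2) (Fin 2) (ZMod (2 ^ k))) := by rw [smul_mul_assoc, Units.val_mul]
      _ = _ := by rw [mul_inv_cancel, Units.val_one]

theorem mem_EE (g : GL (Fin 2) (ZMod (2 ^ k))) : g ∈ EE k ↔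
    (2 : ZMod (2 ^ k)) • (g : Matrix (Fin 2) (Fin 2) (ZMod (2 ^ k))) =
    (2 : ZMod (2 ^ k)) • (1 : Matrix (Fin 2) (Fin 2) (ZMod (2 ^ k))) := Iff.rfl

theorem conj_mem_EE (a g : GL (Fin 2) (ZMod (2 ^ k))) (hg : g ∈ EE k) : a * g * a⁻¹ ∈ EE k := by
  rw [mem_EE] at *
  rw [Units.val_mul, Units.val_mul]
  calc (2 : ZMod (2 ^ k)) • ((a : Matrix (Fin 2) (Fin 2) (ZMod (2 ^ k))) * g *
        ((a⁻¹ : GL (Fin 2) (ZMod (2 ^ k))) : Matrix (Fin 2) (Fin 2) (ZMod (2 ^ k))))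
      = (a : Matrix (Fin 2) (Fin 2) (ZMod (2 ^ k))) * ((2 : ZMod (2 ^ k)) • g) *
        ((a⁻¹ : GL (Fin 2) (ZMod (2 ^ k))) : Matrix (Fin 2) (Fin 2) (ZMod (2 ^ k))) := by
        rw [Matrix.mul_smul, Matrix.smul_mul]
    _ = (a : Matrix (Fin 2) (Fin 2) (ZMod (2 ^ k))) * ((2 : ZMod (2 ^ k)) • 1) *
        ((a⁻¹ : GL (Fin 2) (ZMod (2 ^ k))) : Matrix (Fin 2) (Fin 2) (ZMod (2 ^ k))) := by rw [hg]
    _ = (2 : ZMod (2 ^ k)) • ((a : Matrix (Fin 2) (Fin 2) (ZMod (2 ^ k))) *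
        ((a⁻¹ : GL (Fin 2) (ZMod (2 ^ k))) : Matrix (Fin 2) (Fin 2) (ZMod (2 ^ k)))) := by
        rw [Matrix.mul_smul, mul_one, Matrix.smul_mul]
    _ = _ := by rw [← Units.val_mul, mul_inv_cancel, Units.val_one]

theorem entry_of_mem_EE (hk : 1 ≤ k) (g : GL (Fin 2) (ZMod (2 ^ k))) (hg : g ∈ EE k) (i j : Fin 2) :
    (g : Matrix (Fin 2) (Fin 2) (ZMod (2 ^ k))) i j - (1 : Matrix (Fin 2) (Fin 2) (ZMod (2 ^ k))) i j = 0 ∨
    (g : Matrix (Fin 2) (Fin 2) (ZMod (2 ^ k))) i j - (1 : Matrix (Fin 2) (Fin 2) (ZMod (2 ^ k))) i j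
      = (2 : ZMod (2 ^ k)) ^ (k - 1) := by
  apply eq_of_two_mul_eq_zero hk
  rw [mem_EE] at hg
  have := congrFun (congrFun hg i) j
  simp only [Matrix.smul_apply, smul_eq_mul] at this
  rw [mul_sub, this, sub_self]

theorem card_EE_le (hk : 1 ≤ k) : Nat.card (EE k) ≤ 16 := by
  classical
  have : NeZero (2 ^ k) := ⟨by positivity⟩
  let Φ : EE k → (Fin 2 → Fin 2 → Bool) := fun e i j =>
    decide (((e : GL (Fin 2) (ZMod (2 ^ k))) : Matrix (Fin 2) (Fin 2) (ZMod (2 ^ k))) i j =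
      (1 : Matrix (Fin 2) (Fin 2) (ZMod (2 ^ k))) i j)
  have hinj : Function.Injective Φ := by
    intro e e' h
    apply Subtype.ext
    apply Units.ext
    ext i j
    have hij := congrFun (congrFun h i) j
    simp only [Φ, decide_eq_decide] at hij
    have h0 := two_pow_pred_ne_zero hk
    rcases entry_of_mem_EE hk e.1 e.2 i j with h1 | h1 <;>
      rcases entry_of_mem_EE hk e'.1 e'.2 i j with h2 | h2
    · rw [sub_eq_zero] at h1 h2; rw [h1, h2]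
    · exfalso
      rw [sub_eq_zero] at h1
      have := hij.mp h1
      rw [this, sub_self] at h2
      exact h0 h2.symm
    · exfalso
      rw [sub_eq_zero] at h2
      have := hij.mpr h2
      rw [this, sub_self] at h1
      exact h0 h1.symm
    · have := h1.trans h2.symm
      exact sub_left_injective this
  have := Nat.card_le_card_of_injective Φ hinj
  have h16 : Nat.card (Fin 2 → Fin 2 → Bool) = 16 := by
    rw [Nat.card_eq_fintype_card]; simp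
  omega

/-- the central element `1 + 2^(k-1)` -/
def zz (k : ℕ) (hk : 2 ≤ k) : GL (Fin 2) (ZMod (2 ^ k)) where
  val := (1 + (2 : ZMod (2 ^ k)) ^ (k - 1)) • (1 : Matrix (Fin 2) (Fin 2) (ZMod (2 ^ k)))
  inv := (1 + (2 : ZMod (2 ^ k)) ^ (k - 1)) • (1 : Matrix (Fin 2) (Fin 2) (ZMod (2 ^ k)))
  val_inv := by
    rw [smul_mul_smul_comm, mul_one]
    have h2 := two_mul_two_pow_pred (k := k) (by omega)
    have hh := mul_eq_zero_of_two_mul hk _ _ h2 h2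
    have : (1 + (2 : ZMod (2 ^ k)) ^ (k - 1)) * (1 + (2 : ZMod (2 ^ k)) ^ (k - 1)) = 1 := by
      have : (1 + (2 : ZMod (2 ^ k)) ^ (k - 1)) * (1 + (2 : ZMod (2 ^ k)) ^ (k - 1))
          = 1 + 2 * 2 ^ (k - 1) + 2 ^ (k - 1) * 2 ^ (k - 1) := by ring
      rw [this, h2, hh]; ring
    rw [this, one_smul]
  inv_val := by
    rw [smul_mul_smul_comm, mul_one]
    have h2 := two_mul_two_pow_pred (k := k) (by omega)
    have hh := mul_eq_zero_of_two_mul hk _ _ h2 h2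
    have : (1 + (2 : ZMod (2 ^ k)) ^ (k - 1)) * (1 + (2 : ZMod (2 ^ k)) ^ (k - 1)) = 1 := by
      have : (1 + (2 : ZMod (2 ^ k)) ^ (k - 1)) * (1 + (2 : ZMod (2 ^ k)) ^ (k - 1))
          = 1 + 2 * 2 ^ (k - 1) + 2 ^ (k - 1) * 2 ^ (k - 1) := by ring
      rw [this, h2, hh]; ring
    rw [this, one_smul]

theorem zz_mem (hk : 2 ≤ k) : zz k hk ∈ EE k := by
  rw [mem_EE]
  show (2 : ZMod (2 ^ k)) • ((1 + (2 : ZMod (2 ^ k)) ^ (k - 1)) • (1 : Matrix (Fin 2) (Fin 2) (ZMod (2 ^ k)))) = _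
  rw [smul_smul, mul_add, mul_one, two_mul_two_pow_pred (by omega), add_zero]

theorem zz_ne_one (hk : 2 ≤ k) : zz k hk ≠ 1 := by
  intro h
  have h1 : ((zz k hk : GL (Fin 2) (ZMod (2 ^ k))) : Matrix (Fin 2) (Fin 2) (ZMod (2 ^ k))) 0 0 =
      (1 : Matrix (Fin 2) (Fin 2) (ZMod (2 ^ k))) 0 0 := by rw [h]; rfl
  have h2 : ((zz k hk : GL (Fin 2) (ZMod (2 ^ k))) : Matrix (Fin 2) (Fin 2) (ZMod (2 ^ k))) 0 0 =
      1 + (2 : ZMod (2 ^ k)) ^ (k - 1) := by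
    show ((1 + (2 : ZMod (2 ^ k)) ^ (k - 1)) • (1 : Matrix (Fin 2) (Fin 2) (ZMod (2 ^ k)))) 0 0 = _
    simp
  rw [h2] at h1
  simp only [Matrix.one_apply_eq] at h1
  have : (2 : ZMod (2 ^ k)) ^ (k - 1) = 0 := by
    have := h1
    rwa [add_eq_left] at this
  exact two_pow_pred_ne_zero (by omega) this

theorem zz_comm (hk : 2 ≤ k) (x : GL (Fin 2) (ZMod (2 ^ k))) : x * zz k hk * x⁻¹ = zz k hk := by
  have : x * zz k hk = zz k hk * x := by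
    apply Units.ext
    rw [Units.val_mul, Units.val_mul]
    show (x : Matrix (Fin 2) (Fin 2) (ZMod (2 ^ k))) *
      ((1 + (2 : ZMod (2 ^ k)) ^ (k - 1)) • (1 : Matrix (Fin 2) (Fin 2) (ZMod (2 ^ k)))) =
      ((1 + (2 : ZMod (2 ^ k)) ^ (k - 1)) • (1 : Matrix (Fin 2) (Fin 2) (ZMod (2 ^ k)))) * _
    rw [Matrix.mul_smul, Matrix.smul_mul, mul_one, one_mul]
  rw [this, mul_assoc, mul_inv_cancel, mul_one]

end Cfsg.Agent.Helper14.GL2Z
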