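import Cfsg.Agent.Helper14.GL2Z2

/-!
# GL₂(ℤ/2ᵏ): congruence kernel is a 2-group; elements of order 3 generate conjugate subgroups
-/

set_option autoImplicit false

namespace Cfsg.Agent.Helper14.GL2Z

open Matrix

variable {k : ℕ}

theorem pow_two_pow_eq {R : Type*} [CommRing R] (X B : Matrix (Fin 2) (Fin 2) R)
    (h : X = 1 + (2 : R) • B) :
    ∀ m : ℕ, ∃ B' : Matrix (Fin 2) (Fin 2) R, X ^ (2 ^ m) = 1 + ((2 : R) ^ (m + 1)) • B' := by
  intro m
  induction m with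
  | zero => exact ⟨B, by simpa using h⟩
  | succ m ih =>
    obtain ⟨B', hB'⟩ := ih
    refine ⟨B' + ((2 : R) ^ m) • (B' * B'), ?_⟩
    rw [pow_succ, pow_mul, hB', pow_two]
    rw [add_mul, mul_add, mul_add, one_mul, mul_one, one_mul, smul_mul_smul_comm]
    module

/-- reduction mod 2 -/
noncomputable def red (k : ℕ) (hk : 1 ≤ k) : GL (Fin 2) (ZMod (2 ^ k)) →* GL (Fin 2) (ZMod 2) :=
  Matrix.GeneralLinearGroup.map (ZMod.castHom (dvd_pow_self 2 (by omega : k ≠ 0)) (ZMod 2))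

theorem exists_eq_one_add (hk : 1 ≤ k) (g : GL (Fin 2) (ZMod (2 ^ k))) (hg : g ∈ (red k hk).ker) :
    ∃ B : Matrix (Fin 2) (Fin 2) (ZMod (2 ^ k)),
      (g : Matrix (Fin 2) (Fin 2) (ZMod (2 ^ k))) = 1 + (2 : ZMod (2 ^ k)) • B := by
  rw [MonoidHom.mem_ker] at hg
  have hent : ∀ i j : Fin 2, ∃ c : ZMod (2 ^ k),
      (g : Matrix (Fin 2) (Fin 2) (ZMod (2 ^ k))) i j -
        (1 : Matrix (Fin 2) (Fin 2) (ZMod (2 ^ k))) i j = 2 * c := by
    intro i j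
    apply exists_two_mul_of_cast hk
    have h1 : (red k hk g : Matrix (Fin 2) (Fin 2) (ZMod 2)) i j =
        (1 : Matrix (Fin 2) (Fin 2) (ZMod 2)) i j := by rw [hg]; rfl
    rw [red, Matrix.GeneralLinearGroup.map_apply] at h1
    rw [map_sub, h1]
    by_cases hij : i = j
    · subst hij
      rw [Matrix.one_apply_eq, Matrix.one_apply_eq, map_one, sub_self]
    · rw [Matrix.one_apply_ne hij, Matrix.one_apply_ne hij, map_zero, sub_self]
  choose c hc using hent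
  refine ⟨Matrix.of c, ?_⟩
  ext i j
  have := hc i j
  simp only [Matrix.add_apply, Matrix.smul_apply, Matrix.of_apply, smul_eq_mul]
  rw [← this]; ring

theorem isPGroup_ker (hk : 1 ≤ k) : IsPGroup 2 (red k hk).ker := by
  intro g
  obtain ⟨B, hB⟩ := exists_eq_one_add hk g.1 g.2
  obtain ⟨B', hB'⟩ := pow_two_pow_eq _ B hB (k - 1)
  refine ⟨k - 1, ?_⟩
  apply Subtype.ext
  apply Units.ext
  rw [Subgroup.coe_pow, Units.val_pow_eq_pow_val, hB']
  have : k - 1 + 1 = k := by omega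
  rw [this, two_pow_eq_zero, zero_smul, add_zero]
  rfl

theorem card_GL2 : Nat.card (GL (Fin 2) (ZMod 2)) = 6 := by
  have : Fact (Nat.Prime 2) := ⟨Nat.prime_two⟩
  rw [Matrix.card_GL_field]
  simp [Fin.prod_univ_two]

theorem card_eq (hk : 1 ≤ k) : ∃ a m : ℕ, m ∣ 6 ∧ Nat.card (GL (Fin 2) (ZMod (2 ^ k))) = 2 ^ a * m := by
  have : NeZero (2 ^ k) := ⟨by positivity⟩
  have : Fact (Nat.Prime 2) := ⟨Nat.prime_two⟩
  obtain ⟨a, ha⟩ := (isPGroup_ker hk).exists_card_eq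
  refine ⟨a, Nat.card (red k hk).range, ?_, ?_⟩
  · rw [← card_GL2]; exact Subgroup.card_subgroup_dvd_card _
  · rw [← ha, ← Subgroup.index_ker, Subgroup.card_mul_index]

theorem not_three_dvd_index (hk : 1 ≤ k) (x : GL (Fin 2) (ZMod (2 ^ k))) (hx : orderOf x = 3) :
    ¬ 3 ∣ (Subgroup.zpowers x).index := by
  have : NeZero (2 ^ k) := ⟨by positivity⟩
  obtain ⟨a, m, hm, hcard⟩ := card_eq hk
  intro h3
  have h1 := Subgroup.card_mul_index (Subgroup.zpowers x)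
  rw [Nat.card_zpowers, hx, hcard] at h1
  obtain ⟨j, hj⟩ := h3
  have h9 : 9 ∣ 2 ^ a * m := ⟨j, by rw [← h1, hj]; ring⟩
  have hcop : Nat.Coprime 9 (2 ^ a) := by
    apply Nat.Coprime.pow_right; decide
  have h9m : 9 ∣ m := hcop.dvd_of_dvd_mul_left h9
  have := Nat.le_of_dvd (by norm_num) (h9m.trans hm)
  omega

theorem exists_conj (hk : 1 ≤ k) (x1 x2 : GL (Fin 2) (ZMod (2 ^ k))) (h1 : orderOf x1 = 3)
    (h2 : orderOf x2 = 3) : ∃ g : GL (Fin 2) (ZMod (2 ^ k)),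
      g * x1 * g⁻¹ = x2 ∨ g * x1 * g⁻¹ = x2⁻¹ := by
  have : NeZero (2 ^ k) := ⟨by positivity⟩
  have : Fact (Nat.Prime 3) := ⟨Nat.prime_three⟩
  have hp : ∀ x : GL (Fin 2) (ZMod (2 ^ k)), orderOf x = 3 → IsPGroup 3 (Subgroup.zpowers x) := by
    intro x hx
    apply IsPGroup.of_card (n := 1)
    rw [Nat.card_zpowers, hx, pow_one]
  let P1 : Sylow 3 (GL (Fin 2) (ZMod (2 ^ k))) := (hp x1 h1).toSylow (not_three_dvd_index hk x1 h1)
  let P2 : Sylow 3 (GL (Fin 2) (ZMod (2 ^ k))) := (hp x2 h2).toSylow (not_three_dvd_index hk x2 h2)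
  obtain ⟨g, hg⟩ := MulAction.exists_smul_eq (GL (Fin 2) (ZMod (2 ^ k))) P1 P2
  refine ⟨g, ?_⟩
  have hmem : g * x1 * g⁻¹ ∈ (P2 : Subgroup (GL (Fin 2) (ZMod (2 ^ k)))) := by
    rw [← hg, Sylow.coe_subgroup_smul]
    have hx1 : x1 ∈ (P1 : Subgroup (GL (Fin 2) (ZMod (2 ^ k)))) := Subgroup.mem_zpowers x1
    exact Subgroup.smul_mem_pointwise_smul x1 (MulAut.conj g) _ hx1
  have hmem' : g * x1 * g⁻¹ ∈ Subgroup.zpowers x2 := hmem
  obtain ⟨i, hi⟩ := Subgroup.mem_zpowers_iff.mp hmem'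
  have hx3 : x2 ^ 3 = 1 := by rw [← h2]; exact pow_orderOf_eq_one x2
  have hmod : x2 ^ i = x2 ^ (i % 3) := by
    have := (zpow_mod_orderOf x2 i).symm
    rw [h2] at this
    exact_mod_cast this
  have hi3 : 0 ≤ i % 3 ∧ i % 3 < 3 := ⟨Int.emod_nonneg _ (by norm_num), Int.emod_lt_of_pos _ (by norm_num)⟩
  have hcases : i % 3 = 0 ∨ i % 3 = 1 ∨ i % 3 = 2 := by omega
  rcases hcases with h | h | h
  · exfalso
    rw [hmod, h, zpow_zero] at hi
    have : x1 = 1 := by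
      have : g * x1 * g⁻¹ = 1 := hi.symm
      have h' : x1 = g⁻¹ * (g * x1 * g⁻¹) * g := by group
      rw [h', this]; group
    rw [this, orderOf_one] at h1
    omega
  · left
    rw [hmod, h, zpow_one] at hi
    exact hi.symm
  · right
    rw [hmod, h] at hi
    rw [← hi]
    have : x2 ^ (2 : ℤ) * x2 = 1 := by
      have : x2 ^ (2 : ℤ) * x2 = x2 ^ 3 := by
        rw [zpow_ofNat]; exact (pow_succ x2 2).symm
      rw [this, hx3]
    exact eq_inv_of_mul_eq_one_left this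

end Cfsg.Agent.Helper14.GL2Z
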