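import Mathlib

/-!
# A₄ data and a uniqueness lemma for invariant four-groups
-/

set_option autoImplicit false

namespace Cfsg.Agent.Helper14.GL2Z

open Equiv

def s1 : Perm (Fin 4) := swap 0 1 * swap 2 3
def s2 : Perm (Fin 4) := swap 0 2 * swap 1 3
def c3 : Perm (Fin 4) := swap 1 2 * swap 2 3

theorem sgn_s1 : s1 ∈ alternatingGroup (Fin 4) := by
  rw [Equiv.Perm.mem_alternatingGroup]; decide
theorem sgn_s2 : s2 ∈ alternatingGroup (Fin 4) := by
  rw [Equiv.Perm.mem_alternatingGroup]; decide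
theorem sgn_c3 : c3 ∈ alternatingGroup (Fin 4) := by
  rw [Equiv.Perm.mem_alternatingGroup]; decide

def a1 : alternatingGroup (Fin 4) := ⟨s1, sgn_s1⟩
def a2 : alternatingGroup (Fin 4) := ⟨s2, sgn_s2⟩
def a3 : alternatingGroup (Fin 4) := ⟨c3, sgn_c3⟩

/-- membership predicate of the four-group of `A₄` -/
def inV (v : alternatingGroup (Fin 4)) : Prop := v = 1 ∨ v = a1 ∨ v = a2 ∨ v = a1 * a2

instance : DecidablePred inV := fun v =>
  inferInstanceAs (Decidable (v = 1 ∨ v = a1 ∨ v = a2 ∨ v = a1 * a2))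

theorem V_mul : ∀ v w : alternatingGroup (Fin 4), inV v → inV w → inV (v * w) := by decide
theorem V_inv : ∀ v : alternatingGroup (Fin 4), inV v → inV v⁻¹ := by decide

def V4 : Subgroup (alternatingGroup (Fin 4)) where
  carrier := {v | inV v}
  one_mem' := Or.inl rfl
  mul_mem' := fun {a b} ha hb => V_mul a b ha hb
  inv_mem' := fun {a} ha => V_inv a ha

theorem mem_V4 (v : alternatingGroup (Fin 4)) : v ∈ V4 ↔ inV v := Iff.rfl

instance : DecidablePred (· ∈ V4) := fun v => inferInstanceAs (Decidable (inV v))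

theorem card_V4 : Nat.card V4 = 4 := by
  rw [Nat.card_eq_fintype_card]; decide

theorem V4_conj : ∀ v : alternatingGroup (Fin 4), inV v → inV (a3 * v * a3⁻¹) := by decide
theorem V4_sq : ∀ v : alternatingGroup (Fin 4), inV v → v * v = 1 := by decide
theorem V4_fpf : ∀ v : alternatingGroup (Fin 4), inV v → a3 * v * a3⁻¹ = v → v = 1 := by decide
set_option maxRecDepth 4000 in
theorem V4_prod : ∀ v : alternatingGroup (Fin 4), inV v →
    v * (a3 * v * a3⁻¹) * (a3 * (a3 * v * a3⁻¹) * a3⁻¹) = 1 := by decide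
theorem a3_pow : a3 ^ 3 = 1 ∧ a3 ≠ 1 := by decide
theorem A4_gen : ∀ h : alternatingGroup (Fin 4), ∃ v : alternatingGroup (Fin 4), inV v ∧
    ∃ i : Fin 3, h = v * a3 ^ (i : ℕ) := by decide

/-- the `A₄` data transported into a group containing a copy of `A₄` -/
theorem exists_data {G : Type*} [Group G] (H : Subgroup G)
    (e : H ≃* alternatingGroup (Fin 4)) :
    ∃ (T : Subgroup G) (x : G), T ≤ H ∧ x ∈ H ∧ Nat.card T = 4 ∧ x ^ 3 = 1 ∧ x ≠ 1 ∧
      (∀ t ∈ T, x * t * x⁻¹ ∈ T) ∧ (∀ t ∈ T, t * t = 1) ∧ (∀ t ∈ T, x * t * x⁻¹ = t → t = 1) ∧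
      (∀ t ∈ T, t * (x * t * x⁻¹) * (x * (x * t * x⁻¹) * x⁻¹) = 1) ∧
      (∀ h ∈ H, ∃ t ∈ T, ∃ i : ℕ, h = t * x ^ i) := by
  let ψ : alternatingGroup (Fin 4) →* G := H.subtype.comp e.symm.toMonoidHom
  have hψinj : Function.Injective ψ := by
    intro a b hab
    have : (e.symm a : G) = e.symm b := hab
    exact e.symm.injective (Subtype.ext this)
  have hψH : ∀ a, ψ a ∈ H := fun a => (e.symm a).2
  refine ⟨V4.map ψ, ψ a3, ?_, hψH _, ?_, ?_, ?_, ?_, ?_, ?_, ?_, ?_⟩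
  · rintro _ ⟨v, _, rfl⟩; exact hψH v
  · rw [Subgroup.card_map_of_injective hψinj]; exact card_V4
  · rw [← map_pow, a3_pow.1, map_one]
  · intro h
    apply a3_pow.2
    apply hψinj
    rw [h, map_one]
  · rintro _ ⟨v, hv, rfl⟩
    refine ⟨a3 * v * a3⁻¹, V4_conj v hv, ?_⟩
    rw [map_mul, map_mul, map_inv]
  · rintro _ ⟨v, hv, rfl⟩
    rw [← map_mul, V4_sq v hv, map_one]
  · rintro _ ⟨v, hv, rfl⟩ h
    have : ψ (a3 * v * a3⁻¹) = ψ v := by rw [map_mul, map_mul, map_inv]; exact h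
    rw [V4_fpf v hv (hψinj this), map_one]
  · rintro _ ⟨v, hv, rfl⟩
    have := congrArg ψ (V4_prod v hv)
    simpa only [map_mul, map_inv, map_one] using this
  · intro h hh
    obtain ⟨v, hv, i, hi⟩ := A4_gen (e ⟨h, hh⟩)
    refine ⟨ψ v, ⟨v, hv, rfl⟩, (i : ℕ), ?_⟩
    have := congrArg ψ hi
    rw [map_mul, map_pow] at this
    rw [← this]
    show h = ((e.symm (e ⟨h, hh⟩) : H) : G)
    rw [MulEquiv.symm_apply_apply]

/-- uniqueness of an invariant four-group in a group of order at most 16 with a fixed point -/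
theorem four_unique {G : Type*} [Group G] (E : Subgroup G) [Finite E]
    (hE16 : Nat.card E ≤ 16) (z : G) (hzE : z ∈ E) (hz1 : z ≠ 1) (x : G)
    (hxz : x * z * x⁻¹ = z)
    (T T' : Subgroup G) (hT : T ≤ E) (hT' : T' ≤ E) (hcT : Nat.card T = 4) (hcT' : Nat.card T' = 4)
    (hxT : ∀ t ∈ T, x * t * x⁻¹ ∈ T) (hxT' : ∀ t ∈ T', x * t * x⁻¹ ∈ T')
    (hfT : ∀ t ∈ T, x * t * x⁻¹ = t → t = 1) (hfT' : ∀ t ∈ T', x * t * x⁻¹ = t → t = 1) :
    T = T' := by
  have hfinT : Finite T := Nat.finite_of_card_ne_zero (by omega)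
  have hfinT' : Finite T' := Nat.finite_of_card_ne_zero (by omega)
  by_cases hD : T ⊓ T' = ⊥
  · exfalso
    let f : T × T' → E := fun p => ⟨p.1.1 * p.2.1, E.mul_mem (hT p.1.2) (hT' p.2.2)⟩
    have hinj : Function.Injective f := by
      rintro ⟨⟨u, hu⟩, ⟨u', hu'⟩⟩ ⟨⟨v, hv⟩, ⟨v', hv'⟩⟩ h
      have h1 : u * u' = v * v' := congrArg Subtype.val h
      have h2 : v⁻¹ * u = v' * u'⁻¹ := by
        have : v⁻¹ * (u * u') * u'⁻¹ = v⁻¹ * (v * v') * u'⁻¹ := by rw [h1]
        calc v⁻¹ * u = v⁻¹ * (u * u') * u'⁻¹ := by group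
          _ = v⁻¹ * (v * v') * u'⁻¹ := this
          _ = v' * u'⁻¹ := by group
      have h3 : v⁻¹ * u ∈ T ⊓ T' := by
        refine ⟨T.mul_mem (T.inv_mem hv) hu, ?_⟩
        show v⁻¹ * u ∈ T'
        rw [h2]; exact T'.mul_mem hv' (T'.inv_mem hu')
      rw [hD, Subgroup.mem_bot] at h3
      have huv : u = v := by
        have : u = v * (v⁻¹ * u) := by group
        rw [this, h3, mul_one]
      have huv' : u' = v' := by
        rw [h3] at h2
        have : v' = (v' * u'⁻¹) * u' := by group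
        rw [this, ← h2, one_mul]
      subst huv; subst huv'; rfl
    have hcard : Nat.card E ≤ Nat.card (T × T') := by
      rw [Nat.card_prod, hcT, hcT']; exact hE16
    have hbij := hinj.bijective_of_nat_card_le hcard
    obtain ⟨⟨⟨u, hu⟩, ⟨u', hu'⟩⟩, huz⟩ := hbij.2 ⟨z, hzE⟩
    have huz' : u * u' = z := congrArg Subtype.val huz
    have hconj : f (⟨x * u * x⁻¹, hxT u hu⟩, ⟨x * u' * x⁻¹, hxT' u' hu'⟩) = f (⟨u, hu⟩, ⟨u', hu'⟩) := by
      apply Subtype.ext
      show x * u * x⁻¹ * (x * u' * x⁻¹) = u * u'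
      rw [huz']
      have : x * u * x⁻¹ * (x * u' * x⁻¹) = x * (u * u') * x⁻¹ := by group
      rw [this, huz', hxz]
    have := hinj hconj
    rw [Prod.mk.injEq] at this
    have h1 : x * u * x⁻¹ = u := congrArg Subtype.val this.1
    have h2 : x * u' * x⁻¹ = u' := congrArg Subtype.val this.2
    rw [hfT u hu h1, hfT' u' hu' h2, one_mul] at huz'
    exact hz1 huz'.symm
  · -- nontrivial intersection
    have hfinD : Finite (T ⊓ T' : Subgroup G) :=
      Finite.of_injective (Subgroup.inclusion (inf_le_left : T ⊓ T' ≤ T))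
        (Subgroup.inclusion_injective _)
    have hdvd : Nat.card (T ⊓ T' : Subgroup G) ∣ 4 := by
      rw [← hcT]; exact Subgroup.card_dvd_of_le inf_le_left
    have hne1 : Nat.card (T ⊓ T' : Subgroup G) ≠ 1 := by
      intro h; exact hD (Subgroup.card_eq_one.mp h)
    have hle : Nat.card (T ⊓ T' : Subgroup G) ≤ 4 := Nat.le_of_dvd (by norm_num) hdvd
    have hpos : 0 < Nat.card (T ⊓ T' : Subgroup G) := Nat.card_pos
    have h24 : Nat.card (T ⊓ T' : Subgroup G) = 2 ∨ Nat.card (T ⊓ T' : Subgroup G) = 4 := by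
      generalize Nat.card (T ⊓ T' : Subgroup G) = n at *
      interval_cases n
      · exact absurd rfl hne1
      · left; rfl
      · exfalso; omega
      · right; rfl
    rcases h24 with h2 | h4
    · exfalso
      obtain ⟨u, hu, hu1⟩ := (Subgroup.ne_bot_iff_exists_ne_one).mp hD |> fun ⟨a, ha⟩ =>
        (⟨a.1, a.2, fun h => ha (Subtype.ext h)⟩ : ∃ u : G, u ∈ T ⊓ T' ∧ u ≠ 1)
      obtain ⟨y, _, hy⟩ := (Nat.card_eq_two_iff' (1 : (T ⊓ T' : Subgroup G))).mp h2
      have hxu : x * u * x⁻¹ ∈ T ⊓ T' := ⟨hxT u hu.1, hxT' u hu.2⟩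
      have hxu1 : x * u * x⁻¹ ≠ 1 := by
        intro h
        apply hu1
        have : u = x⁻¹ * (x * u * x⁻¹) * x := by group
        rw [this, h]; group
      have e1 : (⟨u, hu⟩ : (T ⊓ T' : Subgroup G)) = y :=
        hy _ (fun h => hu1 (congrArg Subtype.val h))
      have e2 : (⟨x * u * x⁻¹, hxu⟩ : (T ⊓ T' : Subgroup G)) = y :=
        hy _ (fun h => hxu1 (congrArg Subtype.val h))
      have : x * u * x⁻¹ = u := congrArg Subtype.val (e2.trans e1.symm)
      exact hu1 (hfT u hu.1 this)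
    · have e1 : T ⊓ T' = T := Subgroup.eq_of_le_of_card_ge inf_le_left (by rw [h4, hcT])
      have e2 : T ⊓ T' = T' := Subgroup.eq_of_le_of_card_ge inf_le_right (by rw [h4, hcT'])
      rw [← e1]; exact e2

end Cfsg.Agent.Helper14.GL2Z
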