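import Cfsg.Agent.Helper14.GL2Z3
import Cfsg.Agent.Helper14.GL2Z4

/-!
# A₄ subgroups of GL₂(ℤ/2ᵏ) are conjugate
-/

set_option autoImplicit false

namespace Cfsg.Agent.Helper14.GL2Z

open Matrix

variable {k : ℕ}

theorem trace_conj {R : Type*} [CommRing R] (c t : GL (Fin 2) R) :
    ((c * t * c⁻¹ : GL (Fin 2) R) : Matrix (Fin 2) (Fin 2) R).trace =
      (t : Matrix (Fin 2) (Fin 2) R).trace := by
  rw [Units.val_mul, Units.val_mul, Matrix.trace_mul_comm, ← Matrix.mul_assoc, ← Units.val_mul,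
    inv_mul_cancel, Units.val_one, one_mul]

theorem det_conj {R : Type*} [CommRing R] (c t : GL (Fin 2) R) :
    ((c * t * c⁻¹ : GL (Fin 2) R) : Matrix (Fin 2) (Fin 2) R).det =
      (t : Matrix (Fin 2) (Fin 2) R).det := by
  rw [Units.val_mul, Units.val_mul, Matrix.det_mul, Matrix.det_mul, mul_comm, ← mul_assoc,
    ← Matrix.det_mul, ← Units.val_mul, inv_mul_cancel, Units.val_one, Matrix.det_one, one_mul]

/-- a four-group permuted transitively by an element lies in `E` -/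
theorem le_EE_of_data (T : Subgroup (GL (Fin 2) (ZMod (2 ^ k)))) (x : GL (Fin 2) (ZMod (2 ^ k)))
    (hinv : ∀ t ∈ T, x * t * x⁻¹ ∈ T) (hsq : ∀ t ∈ T, t * t = 1)
    (hprod : ∀ t ∈ T, t * (x * t * x⁻¹) * (x * (x * t * x⁻¹) * x⁻¹) = 1) : T ≤ EE k := by
  intro t ht
  set t2 := x * t * x⁻¹ with ht2
  set t3 := x * t2 * x⁻¹ with ht3
  have ht2T : t2 ∈ T := hinv t ht
  have ht3T : t3 ∈ T := hinv t2 ht2T
  have h12 : t * t2 = t3 := by
    have h1 := hprod t ht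
    have h3 := hsq t3 ht3T
    have : t * t2 = t3⁻¹ := eq_inv_of_mul_eq_one_left h1
    rw [this]
    exact inv_eq_of_mul_eq_one_left h3
  have hdet2 : (t2 : Matrix (Fin 2) (Fin 2) (ZMod (2 ^ k))).det =
      (t : Matrix (Fin 2) (Fin 2) (ZMod (2 ^ k))).det := det_conj x t
  have hdet3 : (t3 : Matrix (Fin 2) (Fin 2) (ZMod (2 ^ k))).det =
      (t : Matrix (Fin 2) (Fin 2) (ZMod (2 ^ k))).det := (det_conj x t2).trans hdet2
  have htr3 : (t3 : Matrix (Fin 2) (Fin 2) (ZMod (2 ^ k))).trace =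
      (t : Matrix (Fin 2) (Fin 2) (ZMod (2 ^ k))).trace := (trace_conj x t2).trans (trace_conj x t)
  have hdd : (t : Matrix (Fin 2) (Fin 2) (ZMod (2 ^ k))).det *
      (t : Matrix (Fin 2) (Fin 2) (ZMod (2 ^ k))).det = 1 := by
    rw [← Matrix.det_mul, ← Units.val_mul, hsq t ht, Units.val_one, Matrix.det_one]
  have hd1 : (t : Matrix (Fin 2) (Fin 2) (ZMod (2 ^ k))).det = 1 := by
    have := congrArg (fun u : GL (Fin 2) (ZMod (2 ^ k)) =>
      (u : Matrix (Fin 2) (Fin 2) (ZMod (2 ^ k))).det) h12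
    simp only [Units.val_mul, Matrix.det_mul] at this
    rw [hdet2, hdet3, hdd] at this
    exact this.symm
  have hmat := two_smul_of_ch (t : Matrix (Fin 2) (Fin 2) (ZMod (2 ^ k))) t2 t3
    (by rw [← Units.val_mul, hsq t ht, Units.val_one])
    (by rw [← Units.val_mul, hsq t3 ht3T, Units.val_one])
    (by rw [← Units.val_mul, h12]) htr3.symm hd1 (hdet3.trans hd1)
  have ht2E : t2 ∈ EE k := (mem_EE t2).mpr hmat
  have : t = x⁻¹ * t2 * x⁻¹⁻¹ := by rw [ht2]; group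
  rw [this]
  exact conj_mem_EE x⁻¹ t2 ht2E

theorem main (hk : 2 ≤ k) (H₁ H₂ : Subgroup (GL (Fin 2) (ZMod (2 ^ k))))
    (e₁ : H₁ ≃* alternatingGroup (Fin 4)) (e₂ : H₂ ≃* alternatingGroup (Fin 4)) :
    ∃ g : GL (Fin 2) (ZMod (2 ^ k)), H₂ = H₁.map (MulAut.conj g).toMonoidHom := by
  have : NeZero (2 ^ k) := ⟨by positivity⟩
  have hk1 : 1 ≤ k := by omega
  obtain ⟨T1, x1, hT1H, hx1H, hc1, hx13, hx11, hinv1, hsq1, hfpf1, hprod1, hgen1⟩ := exists_data H₁ e₁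
  obtain ⟨T2, x2, hT2H, hx2H, hc2, hx23, hx21, hinv2, hsq2, hfpf2, hprod2, hgen2⟩ := exists_data H₂ e₂
  have ho1 : orderOf x1 = 3 := orderOf_eq_prime hx13 hx11
  have ho2 : orderOf x2 = 3 := orderOf_eq_prime hx23 hx21
  obtain ⟨g, hg⟩ := exists_conj hk1 x1 x2 ho1 ho2
  have hT1E := le_EE_of_data T1 x1 hinv1 hsq1 hprod1
  have hT2E := le_EE_of_data T2 x2 hinv2 hsq2 hprod2
  set y := g * x1 * g⁻¹ with hy
  set T1' := T1.map (MulAut.conj g).toMonoidHom with hT1'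
  have hmemT1' : ∀ t', t' ∈ T1' ↔ ∃ t ∈ T1, g * t * g⁻¹ = t' := by
    intro t'
    rw [hT1', Subgroup.mem_map]
    rfl
  have hT1'E : T1' ≤ EE k := by
    intro t' ht'
    obtain ⟨t, ht, rfl⟩ := (hmemT1' t').mp ht'
    exact conj_mem_EE g t (hT1E ht)
  have hc1' : Nat.card T1' = 4 := by
    rw [hT1', Subgroup.card_map_of_injective (MulAut.conj g).injective]; exact hc1
  have hyT1' : ∀ t ∈ T1', y * t * y⁻¹ ∈ T1' := by
    intro t' ht'
    obtain ⟨t, ht, rfl⟩ := (hmemT1' t').mp ht'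
    refine (hmemT1' _).mpr ⟨x1 * t * x1⁻¹, hinv1 t ht, ?_⟩
    rw [hy]; group
  have hfT1' : ∀ t ∈ T1', y * t * y⁻¹ = t → t = 1 := by
    intro t' ht' h
    obtain ⟨t, ht, rfl⟩ := (hmemT1' t').mp ht'
    have : x1 * t * x1⁻¹ = t := by
      have h' : g * (x1 * t * x1⁻¹) * g⁻¹ = g * t * g⁻¹ := by
        rw [← h, hy]; group
      have := mul_left_cancel (mul_right_cancel h')
      exact this
    rw [hfpf1 t ht this]; group
  -- action of y on T2
  have hx2inv : x2⁻¹ = x2 * x2 := by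
    apply inv_eq_of_mul_eq_one_left
    rw [← hx23, pow_succ, pow_succ, pow_one]
  have hyT2 : ∀ t ∈ T2, y * t * y⁻¹ ∈ T2 := by
    intro t ht
    rcases hg with h | h
    · rw [h]; exact hinv2 t ht
    · rw [h, inv_inv]
      have : x2⁻¹ * t * x2 = x2 * (x2 * t * x2⁻¹) * x2⁻¹ := by
        have hx2' : x2 = x2⁻¹ * x2⁻¹ := by
          have : x2 * x2 * x2 = 1 := by rw [← hx23, pow_succ, pow_succ, pow_one]
          calc x2 = (x2 * x2 * x2) * x2⁻¹ * x2⁻¹ := by group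
            _ = x2⁻¹ * x2⁻¹ := by rw [this]; group
        calc x2⁻¹ * t * x2 = x2⁻¹ * t * (x2⁻¹ * x2⁻¹) := by rw [← hx2']
          _ = (x2 * x2) * t * (x2⁻¹ * x2⁻¹) := by rw [← hx2inv]
          _ = x2 * (x2 * t * x2⁻¹) * x2⁻¹ := by group
      rw [this]
      exact hinv2 _ (hinv2 t ht)
  have hfT2 : ∀ t ∈ T2, y * t * y⁻¹ = t → t = 1 := by
    intro t ht h
    rcases hg with h' | h'
    · rw [h'] at h; exact hfpf2 t ht h
    · rw [h', inv_inv] at h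
      apply hfpf2 t ht
      calc x2 * t * x2⁻¹ = x2 * (x2⁻¹ * t * x2) * x2⁻¹ := by rw [h]
        _ = t := by group
  have hfinE : Finite (EE k) := inferInstance
  have hTT : T1' = T2 := four_unique (EE k) (card_EE_le hk1) (zz k hk) (zz_mem hk) (zz_ne_one hk) y
    (zz_comm hk y) T1' T2 hT1'E hT2E hc1' hc2 hyT1' hyT2 hfT1' hfT2
  have hyH2 : y ∈ H₂ := by
    rcases hg with h | h
    · rw [h]; exact hx2H
    · rw [h]; exact H₂.inv_mem hx2H
  refine ⟨g, ?_⟩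
  have hle : H₁.map (MulAut.conj g).toMonoidHom ≤ H₂ := by
    rintro _ ⟨h, hh, rfl⟩
    obtain ⟨t, ht, i, rfl⟩ := hgen1 h hh
    show g * (t * x1 ^ i) * g⁻¹ ∈ H₂
    have : g * (t * x1 ^ i) * g⁻¹ = (g * t * g⁻¹) * y ^ i := by
      rw [hy, conj_pow]; group
    rw [this]
    apply H₂.mul_mem _ (H₂.pow_mem hyH2 i)
    apply hT2H
    rw [← hTT]
    exact (hmemT1' _).mpr ⟨t, ht, rfl⟩
  have hcard : Nat.card H₂ ≤ Nat.card (H₁.map (MulAut.conj g).toMonoidHom) := by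
    rw [Subgroup.card_map_of_injective (MulAut.conj g).injective,
      Nat.card_congr e₁.toEquiv, Nat.card_congr e₂.toEquiv]
  exact (Subgroup.eq_of_le_of_card_ge hle hcard).symm

end Cfsg.Agent.Helper14.GL2Z
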