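import Cfsg.Agent.Helper14.Irreducible2

set_option autoImplicit false
set_option linter.unusedSectionVars false

namespace Cfsg.Agent.Helper14

open Cfsg
open scoped commutatorElement Pointwise

section Transport

variable {A B : Type*} [Group A] [Group B] {p : ℕ}

theorem isPClosed_of_mulEquiv (e : A ≃* B) (h : IsPClosed p A) : IsPClosed p B := by
  intro Q
  have hr : (Q : Subgroup B) ≤ e.toMonoidHom.range := by
    intro x _
    exact ⟨e.symm x, by simp⟩
  let P : Sylow p A := Q.comapOfInjective e.toMonoidHom e.injective hr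
  have hP : (P : Subgroup A).Normal := h P
  have h1 : (P : Subgroup A) = (Q : Subgroup B).comap e.toMonoidHom :=
    Sylow.coe_comapOfInjective _ _ _ _
  have h2 : ((P : Subgroup A).map e.toMonoidHom) = Q := by
    rw [h1]
    exact Subgroup.map_comap_eq_self_of_surjective e.surjective _
  rw [← h2]
  exact hP.map _ e.surjective

end Transport

section

variable {G : Type*} [Group G] [Finite G] {p : ℕ} [Fact p.Prime]

/-- S2830 -/
theorem pIrreducible_action (V H : Subgroup G)
    (hH : IsPIrreducible p ↥H)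
    (hnc : ¬ (pResidual p ↥H).map H.subtype ≤ Subgroup.centralizer (V : Set G))
    [hn : ((Subgroup.centralizer (V : Set G)).subgroupOf H).Normal] :
    IsPClosed p ↥(H ⊓ Subgroup.centralizer (V : Set G)) ∧
    (∀ T : Subgroup G, T ≤ H → IsPGroup p ↥T →
      T ⊓ Subgroup.centralizer (V : Set G) ≤ pCoreOf p H) ∧
    (pCoreOf p H ≤ Subgroup.centralizer (V : Set G) →
      (∀ T : Subgroup G, T ≤ H → IsPGroup p ↥T →
        T ⊓ Subgroup.centralizer (V : Set G) = T ⊓ pCoreOf p H) ∧
      pCore p (↥H ⧸ (Subgroup.centralizer (V : Set G)).subgroupOf H) = ⊥) := by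
  set C := Subgroup.centralizer (V : Set G) with hC
  set N : Subgroup ↥H := C.subgroupOf H with hN
  have hRN : ¬ pResidual p ↥H ≤ N := by
    intro h
    apply hnc
    rintro _ ⟨x, hx, rfl⟩
    exact Subgroup.mem_subgroupOf.1 (h hx)
  -- (a) N is p-closed
  have hNcl : IsPClosed p ↥N := by
    by_contra hcl
    exact hRN (hH.2 N hn hcl)
  have ha : IsPClosed p ↥(H ⊓ C) := by
    have e1 : ↥N ≃* ↥(N.map H.subtype) := N.equivMapOfInjective H.subtype H.subtype_injective
    have e2 : N.map H.subtype = H ⊓ C := by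
      rw [hN, Subgroup.subgroupOf_map_subtype, inf_comm]
    exact isPClosed_of_mulEquiv (e1.trans (MulEquiv.subgroupCongr e2)) hNcl
  -- (b)
  have hb : ∀ T : Subgroup G, T ≤ H → IsPGroup p ↥T → T ⊓ C ≤ pCoreOf p H := by
    intro T hTH hT
    -- the unique Sylow of N
    obtain ⟨P⟩ : Nonempty (Sylow p ↥N) := inferInstance
    have hPn : (P : Subgroup ↥N).Normal := hNcl P
    have hPc : (P : Subgroup ↥N).Characteristic := Sylow.characteristic_of_normal P hPn
    have hPH : ((P : Subgroup ↥N).map N.subtype).Normal := inferInstance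
    have hPle : (P : Subgroup ↥N).map N.subtype ≤ pCore p ↥H :=
      le_pCore p hPH (P.isPGroup'.map _)
    -- the p-subgroup (T ⊓ C) pulled back to N
    let U : Subgroup ↥N := ((T ⊓ C).subgroupOf H).subgroupOf N
    have hU : IsPGroup p ↥U :=
      ((hT.to_le inf_le_left).comap_subtype (K := H)).comap_subtype
    obtain ⟨Q, hQ⟩ := hU.exists_le_sylow
    have := Sylow.unique_of_normal P hPn
    have hQP : Q = P := Subsingleton.elim Q P
    intro x hx
    have hxH : x ∈ H := hTH hx.1
    have hxN : (⟨x, hxH⟩ : ↥H) ∈ N := Subgroup.mem_subgroupOf.2 hx.2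
    have hxU : (⟨⟨x, hxH⟩, hxN⟩ : ↥N) ∈ U := by
      show (⟨x, hxH⟩ : ↥H) ∈ (T ⊓ C).subgroupOf H
      exact Subgroup.mem_subgroupOf.2 hx
    have hxP : (⟨⟨x, hxH⟩, hxN⟩ : ↥N) ∈ (P : Subgroup ↥N) := hQP ▸ hQ hxU
    exact ⟨⟨x, hxH⟩, hPle ⟨_, hxP, rfl⟩, rfl⟩
  refine ⟨ha, hb, ?_⟩
  intro hOC
  constructor
  · intro T hTH hT
    apply le_antisymm
    · exact le_inf inf_le_left (hb T hTH hT)
    · exact le_inf inf_le_left (inf_le_right.trans hOC)
  · -- O_p(H/N) = 1
    have hOCN : pCore p ↥H ≤ N := by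
      intro x hx
      exact Subgroup.mem_subgroupOf.2 (hOC ⟨x, hx, rfl⟩)
    set π := QuotientGroup.mk' N with hπ
    have hsurj : Function.Surjective π := QuotientGroup.mk'_surjective N
    set Q : Subgroup ↥H := (pCore p (↥H ⧸ N)).comap π with hQ
    have hQn : Q.Normal := (pCore_normal (G := ↥H ⧸ N) p).comap π
    by_cases hQcl : IsPClosed p ↥Q
    · -- Q is p-closed
      obtain ⟨T₀⟩ : Nonempty (Sylow p ↥H) := inferInstance
      have hPn := normal_sylow_inf_of_isPClosed T₀ Q hQcl
      have hPle : (T₀ : Subgroup ↥H) ⊓ Q ≤ N :=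
        (le_pCore p hPn (T₀.isPGroup'.to_le inf_le_left)).trans hOCN
      rw [eq_bot_iff]
      intro q hq
      have h1 : q ∈ ((T₀.mapSurjective hsurj : Sylow p (↥H ⧸ N)) : Subgroup (↥H ⧸ N)) :=
        pCore_le_sylow p _ hq
      rw [Sylow.coe_mapSurjective] at h1
      obtain ⟨t, ht, rfl⟩ := h1
      have htQ : t ∈ Q := hq
      have htN : t ∈ N := hPle ⟨ht, htQ⟩
      rw [Subgroup.mem_bot]
      exact (QuotientGroup.eq_one_iff t).2 htN
    · -- Q not p-closed: O^p(H) ≤ Q, contradiction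
      exfalso
      have hRQ : pResidual p ↥H ≤ Q := hH.2 Q hQn hQcl
      apply hRN
      unfold pResidual
      rw [Subgroup.closure_le]
      intro g hg
      have hg' : Nat.Coprime (orderOf g) p := hg
      have hgQ : π g ∈ pCore p (↥H ⧸ N) := hRQ (Subgroup.subset_closure hg)
      obtain ⟨k, hk⟩ := (pCore_isPGroup (G := ↥H ⧸ N) p) ⟨π g, hgQ⟩
      have hk' : (π g) ^ (p ^ k) = 1 := by
        have := congrArg Subtype.val hk
        simpa using this
      have e3 : (π g) ^ (orderOf g) = 1 := by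
        rw [← map_pow, pow_orderOf_eq_one, map_one]
      have e4 : orderOf (π g) ∣ Nat.gcd (orderOf g) (p ^ k) :=
        Nat.dvd_gcd (orderOf_dvd_of_pow_eq_one e3) (orderOf_dvd_of_pow_eq_one hk')
      have e5 : Nat.gcd (orderOf g) (p ^ k) = 1 := Nat.Coprime.pow_right k hg'
      rw [e5, Nat.dvd_one, orderOf_eq_one_iff] at e4
      exact (QuotientGroup.eq_one_iff g).1 e4

end

end Cfsg.Agent.Helper14
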