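import Mathlib
import Cfsg.Agent.Helper15.Iso44Defs
import Cfsg.Agent.Helper15.Iso44Bas
import Cfsg.Agent.Helper7.Layer
import Cfsg.Agent.Helper7.Components

/-! Board `s3044pieces`, piece ORB (hedge by helper14): `orbit_split`. All auxiliary names live in the sub-namespace
`Cfsg.Agent.Helper15.Iso44.ORBh`; the main statement is `ORBh.orbit_split_h14` (verbatim statement of the stub
`orbit_split`). -/

set_option autoImplicit false

namespace Cfsg.Agent.Helper15.Iso44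

open Cfsg Subgroup
open scoped commutatorElement

variable {G : Type*} [Group G] [Finite G] {p : ℕ} [Fact p.Prime] {S : Sylow p G} {P : Subgroup G}

section caseB
variable [hn : (Cfsg.pCore p ↥(Ysub p P)).Normal]

namespace ORBh

/-- the automorphism of `Y / O_p(Y)` induced by conjugation with `g ∈ G` -/
noncomputable def phi (p : ℕ) [Fact p.Prime] (P : Subgroup G) [(Cfsg.pCore p ↥(Ysub p P)).Normal] (g : G) :
    (↥(Ysub p P) ⧸ Cfsg.pCore p ↥(Ysub p P)) ≃* (↥(Ysub p P) ⧸ Cfsg.pCore p ↥(Ysub p P)) :=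
  QuotientGroup.congr (Cfsg.pCore p ↥(Ysub p P)) (Cfsg.pCore p ↥(Ysub p P))
    (MulAut.conjNormal g : ↥(Ysub p P) ≃* ↥(Ysub p P))
    (show (Cfsg.pCore p ↥(Ysub p P)).map
        ((MulAut.conjNormal g : ↥(Ysub p P) ≃* ↥(Ysub p P)) : ↥(Ysub p P) →* ↥(Ysub p P)) =
        Cfsg.pCore p ↥(Ysub p P) from
      Cfsg.Agent.Helper14.pCore_map_equiv p (MulAut.conjNormal g : ↥(Ysub p P) ≃* ↥(Ysub p P)))

theorem conj_mem_Y (g : G) {x : G} (hx : x ∈ Ysub p P) : g * x * g⁻¹ ∈ Ysub p P :=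
  (Y_normal (p := p) (P := P)).conj_mem x hx g

theorem phi_mk (g : G) {x : G} (hx : x ∈ Ysub p P) :
    phi p P g (QuotientGroup.mk' (Cfsg.pCore p ↥(Ysub p P)) ⟨x, hx⟩) =
      QuotientGroup.mk' (Cfsg.pCore p ↥(Ysub p P)) ⟨g * x * g⁻¹, conj_mem_Y g hx⟩ := by
  unfold phi
  rw [QuotientGroup.mk'_apply, QuotientGroup.mk'_apply, QuotientGroup.congr_mk]
  congr 1

theorem pb_map_phi (K : Subgroup (↥(Ysub p P) ⧸ Cfsg.pCore p ↥(Ysub p P))) (g : G) :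
    pb p P (K.map (phi p P g).toMonoidHom) = (pb p P K).map (MulAut.conj g).toMonoidHom := by
  ext x
  constructor
  · intro hx
    obtain ⟨hxY, hxK⟩ := (mem_pb _ _).1 hx
    obtain ⟨k, hk, hkx⟩ := hxK
    have hzY : g⁻¹ * x * g⁻¹⁻¹ ∈ Ysub p P := conj_mem_Y g⁻¹ hxY
    have h1 := phi_mk (p := p) (P := P) g hzY
    have h2 : (⟨g * (g⁻¹ * x * g⁻¹⁻¹) * g⁻¹, conj_mem_Y g hzY⟩ : ↥(Ysub p P)) = ⟨x, hxY⟩ := by
      apply Subtype.ext
      show g * (g⁻¹ * x * g⁻¹⁻¹) * g⁻¹ = x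
      group
    rw [h2] at h1
    have h3 : QuotientGroup.mk' (Cfsg.pCore p ↥(Ysub p P)) ⟨g⁻¹ * x * g⁻¹⁻¹, hzY⟩ = k := by
      apply (phi p P g).injective
      rw [h1]
      exact hkx.symm
    refine ⟨g⁻¹ * x * g⁻¹⁻¹, (mem_pb _ _).2 ⟨hzY, h3 ▸ hk⟩, ?_⟩
    show g * (g⁻¹ * x * g⁻¹⁻¹) * g⁻¹ = x
    group
  · rintro ⟨z, hz, rfl⟩
    obtain ⟨hzY, hzK⟩ := (mem_pb _ _).1 hz
    refine (mem_pb _ _).2 ⟨conj_mem_Y g hzY, ?_⟩
    show QuotientGroup.mk' (Cfsg.pCore p ↥(Ysub p P)) ⟨g * z * g⁻¹, conj_mem_Y g hzY⟩ ∈ _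
    rw [← phi_mk g hzY]
    exact Subgroup.mem_map_of_mem _ hzK

theorem pb_inj {K K' : Subgroup (↥(Ysub p P) ⧸ Cfsg.pCore p ↥(Ysub p P))} (h : pb p P K = pb p P K') :
    K = K' :=
  le_antisymm ((pb_le_pb_iff _ _).1 h.le) ((pb_le_pb_iff _ _).1 h.ge)

/-- a subgroup mapped into itself by all conjugations from `A` is normalized by `A` -/
theorem le_normalizer_of_map_conj_le {H : Type*} [Group H] (A X : Subgroup H)
    (h : ∀ t ∈ A, X.map (MulAut.conj t).toMonoidHom ≤ X) : A ≤ normalizer (X : Set H) := by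
  intro t ht
  rw [mem_normalizer_iff]
  intro x
  constructor
  · intro hx
    exact h t ht ⟨x, hx, rfl⟩
  · intro hx
    have h1 : t⁻¹ * (t * x * t⁻¹) * t⁻¹⁻¹ ∈ X := h t⁻¹ (A.inv_mem ht) ⟨t * x * t⁻¹, hx, rfl⟩
    have e : t⁻¹ * (t * x * t⁻¹) * t⁻¹⁻¹ = x := by group
    rwa [e] at h1

/-- the preimage of a normal subgroup of `Y/O_p(Y)` is normalized by `Y` -/
theorem Y_le_normalizer_pb (N : Subgroup (↥(Ysub p P) ⧸ Cfsg.pCore p ↥(Ysub p P))) [hN : N.Normal] :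
    Ysub p P ≤ normalizer (pb p P N : Set G) := by
  apply le_normalizer_of_map_conj_le
  rintro y hy _ ⟨x, hx, rfl⟩
  obtain ⟨hxY, hxN⟩ := (mem_pb _ _).1 hx
  have hyx : y * x * y⁻¹ ∈ Ysub p P := conj_mem_Y y hxY
  show y * x * y⁻¹ ∈ pb p P N
  refine (mem_pb _ _).2 ⟨hyx, ?_⟩
  have e : (⟨y * x * y⁻¹, hyx⟩ : ↥(Ysub p P)) = ⟨y, hy⟩ * ⟨x, hxY⟩ * ⟨y, hy⟩⁻¹ := rfl
  rw [e, map_mul, map_mul, map_inv]
  exact hN.conj_mem _ hxN _

/-- commutators: if `⁅N₁, N₂⁆ = ⊥` upstairs then `⁅pb N₁, pb N₂⁆ ≤ O` -/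
theorem comm_pb_le_O (N₁ N₂ : Subgroup (↥(Ysub p P) ⧸ Cfsg.pCore p ↥(Ysub p P))) (h : ⁅N₁, N₂⁆ = ⊥) :
    ⁅pb p P N₁, pb p P N₂⁆ ≤ Osub p P := by
  rw [Subgroup.commutator_le]
  intro x₁ hx₁ x₂ hx₂
  obtain ⟨h1Y, h1N⟩ := (mem_pb _ _).1 hx₁
  obtain ⟨h2Y, h2N⟩ := (mem_pb _ _).1 hx₂
  rw [← pb_bot, mem_pb]
  have hc : ⁅x₁, x₂⁆ ∈ Ysub p P := by
    rw [commutatorElement_def]
    exact mul_mem (mul_mem (mul_mem h1Y h2Y) (inv_mem h1Y)) (inv_mem h2Y)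
  refine ⟨hc, ?_⟩
  have e : (⟨⁅x₁, x₂⁆, hc⟩ : ↥(Ysub p P)) = ⁅(⟨x₁, h1Y⟩ : ↥(Ysub p P)), ⟨x₂, h2Y⟩⁆ := rfl
  rw [e, map_commutatorElement, ← h]
  exact Subgroup.commutator_mem_commutator h1N h2N

/-- a component upstairs gives a non-central preimage -/
theorem not_comm_pb_le_O {K N : Subgroup (↥(Ysub p P) ⧸ Cfsg.pCore p ↥(Ysub p P))} (hK : IsComponent K)
    (hKN : K ≤ N) : ¬ ⁅pb p P N, Ysub p P⁆ ≤ Osub p P := by
  intro hle
  apply Cfsg.Agent.Helper7.IsComponent.ne_bot hK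
  rw [← Cfsg.Agent.Helper7.IsComponent.commutator_eq hK, Subgroup.commutator_eq_bot_iff_le_centralizer]
  intro k hk
  rw [mem_centralizer_iff]
  intro k' hk'
  obtain ⟨x, rfl⟩ := QuotientGroup.mk'_surjective (Cfsg.pCore p ↥(Ysub p P)) k
  obtain ⟨x', rfl⟩ := QuotientGroup.mk'_surjective (Cfsg.pCore p ↥(Ysub p P)) k'
  have hx : (x : G) ∈ pb p P N := (mem_pb _ _).2 ⟨x.2, hKN hk⟩
  have hc : ⁅(x : G), (x' : G)⁆ ∈ Osub p P := hle (Subgroup.commutator_mem_commutator hx x'.2)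
  rw [← pb_bot, mem_pb] at hc
  obtain ⟨hcY, hc1⟩ := hc
  rw [mem_bot] at hc1
  have e : (⟨⁅(x : G), (x' : G)⁆, hcY⟩ : ↥(Ysub p P)) = ⁅x, x'⁆ := rfl
  rw [e, map_commutatorElement, commutatorElement_eq_one_iff_mul_comm] at hc1
  exact hc1.symm

/-- `orbit_split` (hedge copy, same statement as the stub). -/
theorem orbit_split_h14 (A : Subgroup G)
    (hlay : Cfsg.layer (↥(Ysub p P) ⧸ Cfsg.pCore p ↥(Ysub p P)) = ⊤)
    (K₁ K₂ : Subgroup (↥(Ysub p P) ⧸ Cfsg.pCore p ↥(Ysub p P)))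
    (h1 : Cfsg.IsComponent K₁) (h2 : Cfsg.IsComponent K₂)
    (hno : ¬ ∃ s ∈ A, pb p P K₂ = (pb p P K₁).map (MulAut.conj s).toMonoidHom) :
    ∃ X₁ X₂ : Subgroup G, X₁ ≤ Ysub p P ∧ X₂ ≤ Ysub p P ∧ Osub p P ≤ X₁ ∧ Osub p P ≤ X₂ ∧
      A ≤ normalizer (X₁ : Set G) ∧ A ≤ normalizer (X₂ : Set G) ∧
      Ysub p P ≤ normalizer (X₁ : Set G) ∧ Ysub p P ≤ normalizer (X₂ : Set G) ∧
      ⁅X₁, X₂⁆ ≤ Osub p P ∧ Ysub p P ≤ X₁ ⊔ X₂ ∧
      ¬ ⁅X₁, Ysub p P⁆ ≤ Osub p P ∧ ¬ ⁅X₂, Ysub p P⁆ ≤ Osub p P := by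
  classical
  -- the orbit of `K₁` under `A` and its complement among the components
  let O1 : Set (Subgroup (↥(Ysub p P) ⧸ Cfsg.pCore p ↥(Ysub p P))) :=
    {K | ∃ s ∈ A, pb p P K = (pb p P K₁).map (MulAut.conj s).toMonoidHom}
  let O2 : Set (Subgroup (↥(Ysub p P) ⧸ Cfsg.pCore p ↥(Ysub p P))) :=
    {K | IsComponent K ∧ K ∉ O1}
  have hO1comp : ∀ K ∈ O1, IsComponent K := by
    rintro K ⟨s, _, hs⟩
    rw [← pb_map_phi] at hs
    rw [pb_inj hs]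
    exact Cfsg.Agent.Helper7.isComponent_map_equiv (phi p P s) h1
  have hK1 : K₁ ∈ O1 := by
    refine ⟨1, A.one_mem, ?_⟩
    ext x
    constructor
    · intro hx; exact ⟨x, hx, by simp⟩
    · rintro ⟨z, hz, rfl⟩; simpa using hz
  have hK2 : K₂ ∈ O2 := ⟨h2, fun h => hno h⟩
  -- stability under `A`
  have hO1st : ∀ t ∈ A, ∀ K ∈ O1, K.map (phi p P t).toMonoidHom ∈ O1 := by
    rintro t ht K ⟨s, hs, hK⟩
    refine ⟨t * s, A.mul_mem ht hs, ?_⟩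
    rw [pb_map_phi, hK, Subgroup.map_map]
    congr 1
    ext x
    simp [MulAut.conj_apply, mul_assoc]
  have hO2st : ∀ t ∈ A, ∀ K ∈ O2, K.map (phi p P t).toMonoidHom ∈ O2 := by
    rintro t ht K ⟨hKc, hKn⟩
    refine ⟨Cfsg.Agent.Helper7.isComponent_map_equiv (phi p P t) hKc, ?_⟩
    rintro ⟨s, hs, hK⟩
    apply hKn
    refine ⟨t⁻¹ * s, A.mul_mem (A.inv_mem ht) hs, ?_⟩
    rw [pb_map_phi] at hK
    have h3 := congrArg (fun X : Subgroup G => X.map (MulAut.conj t⁻¹).toMonoidHom) hK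
    simp only [Subgroup.map_map] at h3
    have e1 : (MulAut.conj t⁻¹).toMonoidHom.comp (MulAut.conj t).toMonoidHom = MonoidHom.id G := by
      ext x; simp [MulAut.conj_apply, mul_assoc]
    have e2 : (MulAut.conj t⁻¹).toMonoidHom.comp (MulAut.conj s).toMonoidHom =
        (MulAut.conj (t⁻¹ * s)).toMonoidHom := by
      ext x; simp [MulAut.conj_apply, mul_assoc]
    rw [e1, e2, Subgroup.map_id] at h3
    exact h3
  -- components are normal (the layer is everything)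
  have hnormal : ∀ K : Subgroup (↥(Ysub p P) ⧸ Cfsg.pCore p ↥(Ysub p P)), IsComponent K → K.Normal := by
    intro K hK
    have := Cfsg.Agent.Helper7.layer_le_normalizer_component hK
    rw [hlay] at this
    exact normalizer_eq_top_iff.1 (top_le_iff.1 this)
  have hsSupNormal : ∀ T : Set (Subgroup (↥(Ysub p P) ⧸ Cfsg.pCore p ↥(Ysub p P))),
      (∀ K ∈ T, IsComponent K) → (sSup T).Normal := by
    intro T hT
    rw [← normalizer_eq_top_iff, eq_top_iff]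
    apply le_normalizer_of_map_conj_le
    intro g _
    rw [Subgroup.map_le_iff_le_comap]
    apply sSup_le
    intro K hK
    rw [← Subgroup.map_le_iff_le_comap]
    have hKn := hnormal K (hT K hK)
    refine le_trans ?_ (le_sSup hK)
    rintro _ ⟨k, hk, rfl⟩
    exact hKn.conj_mem k hk g
  have hmapsSup : ∀ (T : Set (Subgroup (↥(Ysub p P) ⧸ Cfsg.pCore p ↥(Ysub p P)))) (t : G),
      (∀ K ∈ T, K.map (phi p P t).toMonoidHom ∈ T) →
      (pb p P (sSup T)).map (MulAut.conj t).toMonoidHom ≤ pb p P (sSup T) := by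
    intro T t hT
    rw [← pb_map_phi, pb_le_pb_iff, Subgroup.map_le_iff_le_comap]
    apply sSup_le
    intro K hK
    rw [← Subgroup.map_le_iff_le_comap]
    exact le_sSup (hT K hK)
  have hN1 : (sSup O1).Normal := hsSupNormal O1 hO1comp
  have hN2 : (sSup O2).Normal := hsSupNormal O2 (fun K hK => hK.1)
  -- the two pieces commute
  have hcomm : ⁅sSup O1, sSup O2⁆ = ⊥ := by
    rw [Subgroup.commutator_eq_bot_iff_le_centralizer]
    apply sSup_le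
    intro K hK
    rw [← Subgroup.commutator_eq_bot_iff_le_centralizer, Subgroup.commutator_comm,
      Subgroup.commutator_eq_bot_iff_le_centralizer]
    apply sSup_le
    intro K' hK'
    rw [← Subgroup.commutator_eq_bot_iff_le_centralizer]
    apply Cfsg.Agent.Helper7.components_commute hK'.1 (hO1comp K hK)
    rintro rfl
    exact hK'.2 hK
  have htop : sSup O1 ⊔ sSup O2 = ⊤ := by
    rw [eq_top_iff, ← hlay, Cfsg.Agent.Helper7.layer_le_iff]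
    intro K hK
    by_cases hKO : K ∈ O1
    · exact (le_sSup hKO).trans le_sup_left
    · exact (le_sSup (show K ∈ O2 from ⟨hK, hKO⟩)).trans le_sup_right
  refine ⟨pb p P (sSup O1), pb p P (sSup O2), pb_le_Y _, pb_le_Y _, O_le_pb _, O_le_pb _, ?_, ?_,
    Y_le_normalizer_pb _, Y_le_normalizer_pb _, comm_pb_le_O _ _ hcomm, ?_,
    not_comm_pb_le_O h1 (le_sSup hK1), not_comm_pb_le_O h2 (le_sSup hK2)⟩
  · exact le_normalizer_of_map_conj_le _ _ (fun t ht => hmapsSup O1 t (hO1st t ht))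
  · exact le_normalizer_of_map_conj_le _ _ (fun t ht => hmapsSup O2 t (hO2st t ht))
  · intro y hy
    have hmem : QuotientGroup.mk' (Cfsg.pCore p ↥(Ysub p P)) ⟨y, hy⟩ ∈ sSup O1 ⊔ sSup O2 := by
      rw [htop]; trivial
    obtain ⟨a, ha, b, hb, hab⟩ := (Cfsg.Agent.Helper7.mem_sup_of_commutator_eq_bot hcomm).1 hmem
    obtain ⟨y₁, rfl⟩ := QuotientGroup.mk'_surjective (Cfsg.pCore p ↥(Ysub p P)) a
    have hy1 : (y₁ : G) ∈ pb p P (sSup O1) := (mem_pb _ _).2 ⟨y₁.2, ha⟩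
    have hy2Y : (y₁ : G)⁻¹ * y ∈ Ysub p P := mul_mem (inv_mem y₁.2) hy
    have hy2 : (y₁ : G)⁻¹ * y ∈ pb p P (sSup O2) := by
      refine (mem_pb _ _).2 ⟨hy2Y, ?_⟩
      have e : (⟨(y₁ : G)⁻¹ * y, hy2Y⟩ : ↥(Ysub p P)) = y₁⁻¹ * ⟨y, hy⟩ := rfl
      rw [e, map_mul, map_inv, ← hab, inv_mul_cancel_left]
      exact hb
    have : y = (y₁ : G) * ((y₁ : G)⁻¹ * y) := by group
    rw [this]
    exact mul_mem (le_sup_left (a := pb p P (sSup O1)) hy1) (le_sup_right (b := pb p P (sSup O2)) hy2)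

end ORBh

end caseB

end Cfsg.Agent.Helper15.Iso44
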