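import Cfsg.Agent.Helper15.Iso44Defs
import Cfsg.Agent.Helper15.Iso44Bas
import Cfsg.Agent.Lead.CoprimeSylow

/-! Board `s3044pieces`, piece SYL: under `PPrimeQuot` (`Y/O` is a `p'`-group) there is, for every prime `r`, an
`S`-invariant `R` with `O ≤ R ≤ Y` and `R/O` a Sylow `r`-subgroup of `Y/O` (coprime action of `S O/O` on `Y/O`). -/

set_option autoImplicit false

namespace Cfsg.Agent.Helper15.Iso44

open Cfsg Subgroup

variable {G : Type*} [Group G] [Finite G] {p : ℕ} [Fact p.Prime] {S : Sylow p G} {P : Subgroup G}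

/-- under `PPrimeQuot`, `|Y : O|` is prime to `p` -/
theorem SYL.not_dvd (hp' : PPrimeQuot p P) : ¬ p ∣ (Osub p P).relIndex (Ysub p P) := by
  obtain ⟨T⟩ : Nonempty (Sylow p ↥(Ysub p P)) := inferInstance
  have hT : IsPGroup p ↥((T : Subgroup ↥(Ysub p P)).map (Ysub p P).subtype) := T.2.map _
  have hle : (T : Subgroup ↥(Ysub p P)).map (Ysub p P).subtype ≤ Osub p P :=
    hp' _ hT (map_subtype_le _)
  have h1 := relIndex_mul_relIndex _ _ _ hle (O_le_Y (p := p) (P := P))
  have h2 : ((T : Subgroup ↥(Ysub p P)).map (Ysub p P).subtype).relIndex (Ysub p P) =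
      (T : Subgroup ↥(Ysub p P)).index := by
    rw [relIndex, subgroupOf, comap_map_eq_self_of_injective (subtype_injective _)]
  rw [h2] at h1
  intro hd
  exact T.not_dvd_index (h1 ▸ Dvd.dvd.mul_left hd _)

theorem exists_inv_sylow (hp' : PPrimeQuot p P) (r : ℕ) (hr : r.Prime) :
    ∃ R : Subgroup G, Osub p P ≤ R ∧ R ≤ Ysub p P ∧ (S : Subgroup G) ≤ normalizer (R : Set G) ∧
      (∀ u ∈ R, ∃ k : ℕ, u ^ (r ^ k) ∈ Osub p P) ∧ ¬ r ∣ R.relIndex (Ysub p P) := by
  have hnd := SYL.not_dvd hp'
  by_cases hrp : r = p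
  · rw [hrp]
    refine ⟨Osub p P, le_rfl, O_le_Y, ?_, ?_, hnd⟩
    · rw [normalizer_eq_top]; exact le_top
    · intro u hu
      exact ⟨0, by simpa using hu⟩
  · have : Fact r.Prime := ⟨hr⟩
    have hAK : (S : Subgroup G).map (QuotientGroup.mk' (Osub p P)) ≤
        normalizer (((Ysub p P).map (QuotientGroup.mk' (Osub p P)) : Subgroup (G ⧸ Osub p P)) : Set (G ⧸ Osub p P)) := by
      have : ((Ysub p P).map (QuotientGroup.mk' (Osub p P))).Normal :=
        Subgroup.Normal.map inferInstance _ (QuotientGroup.mk'_surjective _)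
      rw [normalizer_eq_top]; exact le_top
    have hKcard : Nat.card ↥((Ysub p P).map (QuotientGroup.mk' (Osub p P))) =
        (Osub p P).relIndex (Ysub p P) := by
      have h := relIndex_comap (H := (⊥ : Subgroup (G ⧸ Osub p P))) (QuotientGroup.mk' (Osub p P)) (Ysub p P)
      rw [relIndex_bot_left] at h
      rw [← h]
      congr 1
      rw [MonoidHom.comap_bot, QuotientGroup.ker_mk']
    have hA : IsPGroup p ↥((S : Subgroup G).map (QuotientGroup.mk' (Osub p P))) := S.2.map _
    have hcop : (Nat.card ↥((S : Subgroup G).map (QuotientGroup.mk' (Osub p P)))).Coprime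
        (Nat.card ↥((Ysub p P).map (QuotientGroup.mk' (Osub p P)))) := by
      obtain ⟨n, hn⟩ := IsPGroup.iff_card.mp hA
      rw [hn, hKcard]
      exact Nat.Coprime.pow_left n ((Nat.Prime.coprime_iff_not_dvd Fact.out).mpr hnd)
    have : Group.IsNilpotent ↥((S : Subgroup G).map (QuotientGroup.mk' (Osub p P))) := hA.isNilpotent
    obtain ⟨Pb, hPb⟩ := Cfsg.Agent.Lead.coprime_exists_invariant_sylow
      ((S : Subgroup G).map (QuotientGroup.mk' (Osub p P)))
      ((Ysub p P).map (QuotientGroup.mk' (Osub p P))) hAK hcop (Or.inl inferInstance) r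
    refine ⟨((Pb : Subgroup ↥((Ysub p P).map (QuotientGroup.mk' (Osub p P)))).map
      ((Ysub p P).map (QuotientGroup.mk' (Osub p P))).subtype).comap (QuotientGroup.mk' (Osub p P)),
      ?_, ?_, ?_, ?_, ?_⟩
    · intro x hx
      rw [mem_comap]
      have : QuotientGroup.mk' (Osub p P) x = 1 := (QuotientGroup.eq_one_iff x).mpr hx
      rw [this]
      exact one_mem _
    · intro x hx
      rw [mem_comap] at hx
      have hxK : QuotientGroup.mk' (Osub p P) x ∈ (Ysub p P).map (QuotientGroup.mk' (Osub p P)) :=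
        map_subtype_le _ hx
      obtain ⟨y, hy, hyx⟩ := mem_map.mp hxK
      have h1 : y⁻¹ * x ∈ Osub p P := QuotientGroup.eq.mp hyx
      have h2 := mul_mem hy (O_le_Y h1)
      simpa using h2
    · intro s hs
      have hfs := hPb (mem_map_of_mem (QuotientGroup.mk' (Osub p P)) hs)
      rw [mem_normalizer_iff] at hfs ⊢
      intro x
      rw [mem_comap, mem_comap, map_mul, map_mul, map_inv]
      exact hfs _
    · intro u hu
      rw [mem_comap] at hu
      obtain ⟨k', hk', hku⟩ := mem_map.mp hu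
      obtain ⟨n, hn⟩ := Pb.2 ⟨k', hk'⟩
      refine ⟨n, ?_⟩
      have h1 : QuotientGroup.mk' (Osub p P) (u ^ (r ^ n)) = 1 := by
        rw [map_pow, ← hku]
        have h2 := congrArg (fun z : ↥(Pb : Subgroup ↥((Ysub p P).map (QuotientGroup.mk' (Osub p P)))) =>
          (((z : ↥((Ysub p P).map (QuotientGroup.mk' (Osub p P)))) : G ⧸ Osub p P))) hn
        simpa using h2
      exact (QuotientGroup.eq_one_iff _).mp h1
    · rw [relIndex_comap]
      have h1 : ((Pb : Subgroup ↥((Ysub p P).map (QuotientGroup.mk' (Osub p P)))).map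
          ((Ysub p P).map (QuotientGroup.mk' (Osub p P))).subtype).relIndex
          ((Ysub p P).map (QuotientGroup.mk' (Osub p P))) =
          (Pb : Subgroup ↥((Ysub p P).map (QuotientGroup.mk' (Osub p P)))).index := by
        rw [relIndex, subgroupOf, comap_map_eq_self_of_injective (subtype_injective _)]
      rw [h1]
      exact Pb.not_dvd_index

end Cfsg.Agent.Helper15.Iso44
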