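import Mathlib

/-!
# Arithmetic of `7 × 7` matrices over `ZMod 11` on natural-number data

Concrete structures `V7`, `M7` whose operations evaluate quickly in the kernel, and the bridge
`toMat` to `Matrix (Fin 7) (Fin 7) (ZMod 11)`.
-/

set_option autoImplicit false

namespace Cfsg.Agent.Helper14.J1

structure V7 where
  a0 : Nat
  a1 : Nat
  a2 : Nat
  a3 : Nat
  a4 : Nat
  a5 : Nat
  a6 : Nat

structure M7 where
  r0 : V7
  r1 : V7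
  r2 : V7
  r3 : V7
  r4 : V7
  r5 : V7
  r6 : V7

namespace V7

def dot (r c : V7) : Nat :=
  (r.a0 * c.a0 + r.a1 * c.a1 + r.a2 * c.a2 + r.a3 * c.a3 + r.a4 * c.a4 + r.a5 * c.a5
    + r.a6 * c.a6) % 11

def beq (u v : V7) : Bool :=
  Nat.beq u.a0 v.a0 && Nat.beq u.a1 v.a1 && Nat.beq u.a2 v.a2 && Nat.beq u.a3 v.a3 &&
    Nat.beq u.a4 v.a4 && Nat.beq u.a5 v.a5 && Nat.beq u.a6 v.a6

def red (u : V7) : Bool :=
  Nat.ble u.a0 10 && Nat.ble u.a1 10 && Nat.ble u.a2 10 && Nat.ble u.a3 10 &&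
    Nat.ble u.a4 10 && Nat.ble u.a5 10 && Nat.ble u.a6 10

def getN (v : V7) : Nat → Nat
  | 0 => v.a0
  | 1 => v.a1
  | 2 => v.a2
  | 3 => v.a3
  | 4 => v.a4
  | 5 => v.a5
  | _ => v.a6

def get (v : V7) (j : Fin 7) : Nat := v.getN j.val

def ofNat (n : Nat) : V7 :=
  ⟨n % 11, n / 11 % 11, n / 121 % 11, n / 1331 % 11, n / 14641 % 11, n / 161051 % 11,
    n / 1771561 % 11⟩

theorem eq_of_beq {u v : V7} (h : u.beq v = true) : u = v := by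
  obtain ⟨a0, a1, a2, a3, a4, a5, a6⟩ := u
  obtain ⟨b0, b1, b2, b3, b4, b5, b6⟩ := v
  simp only [beq, Bool.and_eq_true] at h
  obtain ⟨⟨⟨⟨⟨⟨h0, h1⟩, h2⟩, h3⟩, h4⟩, h5⟩, h6⟩ := h
  have h0 := Nat.eq_of_beq_eq_true h0
  have h1 := Nat.eq_of_beq_eq_true h1
  have h2 := Nat.eq_of_beq_eq_true h2
  have h3 := Nat.eq_of_beq_eq_true h3
  have h4 := Nat.eq_of_beq_eq_true h4
  have h5 := Nat.eq_of_beq_eq_true h5
  have h6 := Nat.eq_of_beq_eq_true h6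
  subst h0 h1 h2 h3 h4 h5 h6
  rfl

theorem dot_eq (r c : V7) : r.dot c = (∑ k : Fin 7, r.get k * c.get k) % 11 := by
  simp [dot, get, getN, Fin.sum_univ_succ, add_assoc]

end V7

namespace M7

def tr (A : M7) : M7 :=
  ⟨⟨A.r0.a0, A.r1.a0, A.r2.a0, A.r3.a0, A.r4.a0, A.r5.a0, A.r6.a0⟩,
   ⟨A.r0.a1, A.r1.a1, A.r2.a1, A.r3.a1, A.r4.a1, A.r5.a1, A.r6.a1⟩,
   ⟨A.r0.a2, A.r1.a2, A.r2.a2, A.r3.a2, A.r4.a2, A.r5.a2, A.r6.a2⟩,
   ⟨A.r0.a3, A.r1.a3, A.r2.a3, A.r3.a3, A.r4.a3, A.r5.a3, A.r6.a3⟩,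
   ⟨A.r0.a4, A.r1.a4, A.r2.a4, A.r3.a4, A.r4.a4, A.r5.a4, A.r6.a4⟩,
   ⟨A.r0.a5, A.r1.a5, A.r2.a5, A.r3.a5, A.r4.a5, A.r5.a5, A.r6.a5⟩,
   ⟨A.r0.a6, A.r1.a6, A.r2.a6, A.r3.a6, A.r4.a6, A.r5.a6, A.r6.a6⟩⟩

def rowMul (r : V7) (Bt : M7) : V7 :=
  ⟨r.dot Bt.r0, r.dot Bt.r1, r.dot Bt.r2, r.dot Bt.r3, r.dot Bt.r4, r.dot Bt.r5, r.dot Bt.r6⟩

def mulT (A Bt : M7) : M7 :=
  ⟨rowMul A.r0 Bt, rowMul A.r1 Bt, rowMul A.r2 Bt, rowMul A.r3 Bt, rowMul A.r4 Bt,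
    rowMul A.r5 Bt, rowMul A.r6 Bt⟩

def mul (A B : M7) : M7 := mulT A B.tr

def beq (A B : M7) : Bool :=
  A.r0.beq B.r0 && A.r1.beq B.r1 && A.r2.beq B.r2 && A.r3.beq B.r3 && A.r4.beq B.r4 &&
    A.r5.beq B.r5 && A.r6.beq B.r6

def red (A : M7) : Bool :=
  A.r0.red && A.r1.red && A.r2.red && A.r3.red && A.r4.red && A.r5.red && A.r6.red

def one : M7 :=
  ⟨⟨1, 0, 0, 0, 0, 0, 0⟩, ⟨0, 1, 0, 0, 0, 0, 0⟩, ⟨0, 0, 1, 0, 0, 0, 0⟩, ⟨0, 0, 0, 1, 0, 0, 0⟩,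
   ⟨0, 0, 0, 0, 1, 0, 0⟩, ⟨0, 0, 0, 0, 0, 1, 0⟩, ⟨0, 0, 0, 0, 0, 0, 1⟩⟩

def rowN (A : M7) : Nat → V7
  | 0 => A.r0
  | 1 => A.r1
  | 2 => A.r2
  | 3 => A.r3
  | 4 => A.r4
  | 5 => A.r5
  | _ => A.r6

def row (A : M7) (i : Fin 7) : V7 := A.rowN i.val

/-- decode a matrix from base-11 digits -/
def ofNat (n : Nat) : M7 :=
  ⟨V7.ofNat (n % 19487171), V7.ofNat (n / 19487171 % 19487171),
   V7.ofNat (n / 379749833583241 % 19487171),
   V7.ofNat (n / 7400249944258160101211 % 19487171),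
   V7.ofNat (n / 144209936106499234037676064081 % 19487171),
   V7.ofNat (n / 2810243684806424785061213903353404851 % 19487171),
   V7.ofNat (n / 54763699237492901685126120802225273763666521 % 19487171)⟩

theorem eq_of_beq {A B : M7} (h : A.beq B = true) : A = B := by
  obtain ⟨a0, a1, a2, a3, a4, a5, a6⟩ := A
  obtain ⟨b0, b1, b2, b3, b4, b5, b6⟩ := B
  simp only [beq, Bool.and_eq_true] at h
  obtain ⟨⟨⟨⟨⟨⟨h0, h1⟩, h2⟩, h3⟩, h4⟩, h5⟩, h6⟩ := h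
  rw [V7.eq_of_beq h0, V7.eq_of_beq h1, V7.eq_of_beq h2, V7.eq_of_beq h3, V7.eq_of_beq h4,
    V7.eq_of_beq h5, V7.eq_of_beq h6]

end M7

/-- the matrix over `ZMod 11` described by the data -/
def toMat (A : M7) : Matrix (Fin 7) (Fin 7) (ZMod 11) :=
  Matrix.of fun i j => (((A.row i).get j : Nat) : ZMod 11)

theorem toMat_apply (A : M7) (i j : Fin 7) : toMat A i j = (((A.row i).get j : Nat) : ZMod 11) :=
  rfl

theorem rowN_mulT (A Bt : M7) (n : Nat) : (A.mulT Bt).rowN n = M7.rowMul (A.rowN n) Bt := by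
  rcases n with _ | _ | _ | _ | _ | _ | _ | n <;> rfl

theorem row_mulT (A Bt : M7) (i : Fin 7) : (A.mulT Bt).row i = M7.rowMul (A.row i) Bt :=
  rowN_mulT A Bt i.val

theorem getN_rowMul (r : V7) (Bt : M7) (n : Nat) :
    (M7.rowMul r Bt).getN n = r.dot (Bt.rowN n) := by
  rcases n with _ | _ | _ | _ | _ | _ | _ | n <;> rfl

theorem get_rowMul (r : V7) (Bt : M7) (j : Fin 7) : (M7.rowMul r Bt).get j = r.dot (Bt.row j) :=
  getN_rowMul r Bt j.val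

theorem getN_rowN_tr (B : M7) (j k : Nat) (hj : j < 7) (hk : k < 7) :
    ((B.tr).rowN j).getN k = (B.rowN k).getN j := by
  interval_cases j <;> interval_cases k <;> rfl

theorem get_row_tr (B : M7) (j k : Fin 7) : ((B.tr).row j).get k = (B.row k).get j :=
  getN_rowN_tr B j.val k.val j.isLt k.isLt

theorem toMat_tr (A : M7) : toMat A.tr = (toMat A).transpose := by
  ext i j
  rw [Matrix.transpose_apply, toMat_apply, toMat_apply, get_row_tr]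

theorem toMat_mul (A B : M7) : toMat (A.mul B) = toMat A * toMat B := by
  ext i j
  rw [Matrix.mul_apply, toMat_apply, M7.mul, row_mulT, get_rowMul, V7.dot_eq, ZMod.natCast_mod,
    Nat.cast_sum]
  apply Finset.sum_congr rfl
  intro k _
  rw [Nat.cast_mul, get_row_tr, toMat_apply, toMat_apply]

theorem toMat_one : toMat M7.one = 1 := by
  ext i j
  fin_cases i <;> fin_cases j <;> simp [toMat_apply, M7.one, M7.row, M7.rowN, V7.get, V7.getN]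

theorem V7.get_lt_of_red {v : V7} (h : v.red = true) (j : Fin 7) : v.get j < 11 := by
  obtain ⟨a0, a1, a2, a3, a4, a5, a6⟩ := v
  simp only [V7.red, Bool.and_eq_true, Nat.ble_eq] at h
  obtain ⟨⟨⟨⟨⟨⟨h0, h1⟩, h2⟩, h3⟩, h4⟩, h5⟩, h6⟩ := h
  fin_cases j <;> simp [V7.get, V7.getN] <;> omega

theorem M7.row_red {A : M7} (h : A.red = true) (i : Fin 7) : (A.row i).red = true := by
  obtain ⟨a0, a1, a2, a3, a4, a5, a6⟩ := A
  simp only [M7.red, Bool.and_eq_true] at h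
  obtain ⟨⟨⟨⟨⟨⟨h0, h1⟩, h2⟩, h3⟩, h4⟩, h5⟩, h6⟩ := h
  fin_cases i <;> simp [M7.row, M7.rowN] <;> assumption

theorem V7.ext_get {u v : V7} (h : ∀ j, u.get j = v.get j) : u = v := by
  obtain ⟨a0, a1, a2, a3, a4, a5, a6⟩ := u
  obtain ⟨b0, b1, b2, b3, b4, b5, b6⟩ := v
  have h0 := h 0
  have h1 := h 1
  have h2 := h 2
  have h3 := h 3
  have h4 := h 4
  have h5 := h 5
  have h6 := h 6
  simp [V7.get, V7.getN] at h0 h1 h2 h3 h4 h5 h6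
  subst h0 h1 h2 h3 h4 h5 h6
  rfl

theorem M7.ext_row {A B : M7} (h : ∀ i, A.row i = B.row i) : A = B := by
  obtain ⟨a0, a1, a2, a3, a4, a5, a6⟩ := A
  obtain ⟨b0, b1, b2, b3, b4, b5, b6⟩ := B
  have h0 := h 0
  have h1 := h 1
  have h2 := h 2
  have h3 := h 3
  have h4 := h 4
  have h5 := h 5
  have h6 := h 6
  simp [M7.row, M7.rowN] at h0 h1 h2 h3 h4 h5 h6
  subst h0 h1 h2 h3 h4 h5 h6
  rfl

/-- on reduced data `toMat` is injective -/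
theorem eq_of_toMat_eq {A B : M7} (hA : A.red = true) (hB : B.red = true)
    (h : toMat A = toMat B) : A = B := by
  apply M7.ext_row
  intro i
  apply V7.ext_get
  intro j
  have h1 : toMat A i j = toMat B i j := by rw [h]
  rw [toMat_apply, toMat_apply, ZMod.natCast_eq_natCast_iff'] at h1
  have h2 := V7.get_lt_of_red (M7.row_red hA i) j
  have h3 := V7.get_lt_of_red (M7.row_red hB i) j
  rw [Nat.mod_eq_of_lt h2, Nat.mod_eq_of_lt h3] at h1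
  exact h1

end Cfsg.Agent.Helper14.J1
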