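import Mathlib
import Cfsg.Prelude.Def_Spor_J1
import Cfsg.Agent.Helper14.J1A

/-!
# Words in the two Janko matrices, evaluated on data and in `GL₇(11)`
-/

set_option autoImplicit false

namespace Cfsg.Agent.Helper14.J1

open Cfsg Cfsg.Spor

def XN : M7 :=
  ⟨⟨0, 1, 0, 0, 0, 0, 0⟩, ⟨0, 0, 1, 0, 0, 0, 0⟩, ⟨0, 0, 0, 1, 0, 0, 0⟩, ⟨0, 0, 0, 0, 1, 0, 0⟩,
   ⟨0, 0, 0, 0, 0, 1, 0⟩, ⟨0, 0, 0, 0, 0, 0, 1⟩, ⟨1, 0, 0, 0, 0, 0, 0⟩⟩

def YN : M7 :=
  ⟨⟨8, 2, 10, 10, 8, 10, 8⟩, ⟨9, 1, 1, 3, 1, 3, 3⟩, ⟨10, 10, 8, 10, 8, 8, 2⟩,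
   ⟨10, 8, 10, 8, 8, 2, 10⟩, ⟨8, 10, 8, 8, 2, 10, 10⟩, ⟨1, 3, 3, 9, 1, 1, 3⟩,
   ⟨3, 3, 9, 1, 1, 3, 1⟩⟩

theorem toMat_XN : toMat XN = jankoMatrixX := by decide

theorem toMat_YN : toMat YN = jankoMatrixY := by decide

/-- the four letters `X, Y, X⁻¹, Y⁻¹` on data -/
def letN : Nat → M7
  | 0 => XN
  | 1 => YN
  | 2 => XN.tr
  | _ => YN.tr

/-- the four letters in the group -/
def letG : Nat → GL (Fin 7) (ZMod 11)
  | 0 => jankoX
  | 1 => jankoY
  | 2 => jankoX⁻¹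
  | _ => jankoY⁻¹

def evN : List Nat → M7
  | [] => M7.one
  | a :: w => (letN a).mul (evN w)

def evG (w : List Nat) : GL (Fin 7) (ZMod 11) := (w.map letG).prod

theorem coe_letG (a : Nat) :
    ((letG a : GL (Fin 7) (ZMod 11)) : Matrix (Fin 7) (Fin 7) (ZMod 11)) = toMat (letN a) := by
  rcases a with _ | _ | _ | a
  · exact toMat_XN.symm
  · exact toMat_YN.symm
  · show jankoMatrixX.transpose = toMat XN.tr
    rw [toMat_tr, toMat_XN]
  · show jankoMatrixY.transpose = toMat YN.tr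
    rw [toMat_tr, toMat_YN]

theorem coe_evG (w : List Nat) :
    ((evG w : GL (Fin 7) (ZMod 11)) : Matrix (Fin 7) (Fin 7) (ZMod 11)) = toMat (evN w) := by
  induction w with
  | nil => simp [evG, evN, toMat_one]
  | cons a w ih =>
    have : evG (a :: w) = letG a * evG w := by simp [evG]
    rw [this, Units.val_mul, ih, coe_letG, evN, toMat_mul]

theorem evG_append (w₁ w₂ : List Nat) : evG (w₁ ++ w₂) = evG w₁ * evG w₂ := by
  simp [evG]

theorem letG_mem (a : Nat) : letG a ∈ J1 := by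
  have hx : jankoX ∈ J1 := Subgroup.subset_closure (by simp)
  have hy : jankoY ∈ J1 := Subgroup.subset_closure (by simp)
  rcases a with _ | _ | _ | a
  · exact hx
  · exact hy
  · exact J1.inv_mem hx
  · exact J1.inv_mem hy

theorem evG_mem (w : List Nat) : evG w ∈ J1 := by
  unfold evG
  apply Subgroup.list_prod_mem
  intro g hg
  obtain ⟨a, _, rfl⟩ := List.mem_map.1 hg
  exact letG_mem a

/-- inverse letter -/
def invL : Nat → Nat
  | 0 => 2
  | 1 => 3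
  | 2 => 0
  | _ => 1

/-- inverse word -/
def invW (w : List Nat) : List Nat := (w.map invL).reverse

theorem letG_invL (a : Nat) : letG (invL a) = (letG a)⁻¹ := by
  rcases a with _ | _ | _ | a <;> simp [invL, letG]

theorem evG_invW (w : List Nat) : evG (invW w) = (evG w)⁻¹ := by
  induction w with
  | nil => simp [evG, invW]
  | cons a w ih =>
    have h1 : invW (a :: w) = invW w ++ [invL a] := by simp [invW]
    have h2 : evG (a :: w) = letG a * evG w := by simp [evG]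
    have h3 : evG [invL a] = (letG a)⁻¹ := by simp [evG, letG_invL]
    rw [h1, evG_append, ih, h2, h3, mul_inv_rev]

theorem evG_eq_of_beq {w₁ w₂ : List Nat} (h : (evN w₁).beq (evN w₂) = true) :
    evG w₁ = evG w₂ := by
  apply Units.ext
  rw [coe_evG, coe_evG, M7.eq_of_beq h]

theorem evG_ne_of_beq {w₁ w₂ : List Nat} (h1 : (evN w₁).red = true) (h2 : (evN w₂).red = true)
    (h : (evN w₁).beq (evN w₂) = false) : evG w₁ ≠ evG w₂ := by
  intro he
  have h3 : toMat (evN w₁) = toMat (evN w₂) := by rw [← coe_evG, ← coe_evG, he]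
  have h4 := eq_of_toMat_eq h1 h2 h3
  rw [h4] at h
  have h5 : (evN w₂).beq (evN w₂) = true := by
    generalize evN w₂ = A
    obtain ⟨⟨a0, a1, a2, a3, a4, a5, a6⟩, ⟨b0, b1, b2, b3, b4, b5, b6⟩,
      ⟨c0, c1, c2, c3, c4, c5, c6⟩, ⟨d0, d1, d2, d3, d4, d5, d6⟩, ⟨e0, e1, e2, e3, e4, e5, e6⟩,
      ⟨f0, f1, f2, f3, f4, f5, f6⟩, ⟨g0, g1, g2, g3, g4, g5, g6⟩⟩ := A
    simp [M7.beq, V7.beq, Nat.beq_refl]
  rw [h5] at h
  exact Bool.noConfusion h

end Cfsg.Agent.Helper14.J1
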