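import Mathlib
import Cfsg.Agent.Helper14.J1Data

/-!
# The order of the Janko matrix group is at most `3080 * 57 = 175560`
-/

set_option autoImplicit false

namespace Cfsg.Agent.Helper14.J1

open Cfsg Cfsg.Spor

/-- In a monoid: if `R * H` contains `1`, `H` is closed under products and `Y * R ⊆ R * H`, then the
submonoid generated by `Y` lies in `R * H`. -/
theorem closure_subset_mul {M : Type*} [Monoid M] (Y R H : Set M) (h1R : 1 ∈ R) (h1H : 1 ∈ H)
    (hHH : ∀ a ∈ H, ∀ b ∈ H, a * b ∈ H)
    (hstep : ∀ r ∈ R, ∀ y ∈ Y, ∃ r' ∈ R, ∃ h ∈ H, y * r = r' * h) :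
    ∀ g ∈ Submonoid.closure Y, ∃ r ∈ R, ∃ h ∈ H, g = r * h := by
  have key : ∀ g ∈ Submonoid.closure Y, ∀ r ∈ R, ∀ h ∈ H, ∃ r' ∈ R, ∃ h' ∈ H,
      g * (r * h) = r' * h' := by
    intro g hg
    induction hg using Submonoid.closure_induction with
    | mem y hy =>
      intro r hr h hh
      obtain ⟨r', hr', h0, hh0, e⟩ := hstep r hr y hy
      exact ⟨r', hr', h0 * h, hHH h0 hh0 h hh, by rw [← mul_assoc, e, mul_assoc]⟩
    | one =>
      intro r hr h hh
      exact ⟨r, hr, h, hh, one_mul _⟩
    | mul a b _ _ iha ihb =>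
      intro r hr h hh
      obtain ⟨r₁, hr₁, h₁, hh₁, e₁⟩ := ihb r hr h hh
      obtain ⟨r₂, hr₂, h₂, hh₂, e₂⟩ := iha r₁ hr₁ h₁ hh₁
      exact ⟨r₂, hr₂, h₂, hh₂, by rw [mul_assoc, e₁, e₂]⟩
  intro g hg
  obtain ⟨r', hr', h', hh', e⟩ := key g hg 1 h1R 1 h1H
  exact ⟨r', hr', h', hh', by rw [← e, mul_one, mul_one]⟩

theorem getD_mem_or {α : Type*} (l : List α) (n : ℕ) (d : α) : l.getD n d ∈ l ∨ l.getD n d = d := by
  induction l generalizing n with
  | nil => right; rfl
  | cons a l ih =>
    rcases n with _ | n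
    · left; simp
    · rcases ih n with h | h
      · left; simp only [List.getD_cons_succ]; exact List.mem_cons_of_mem _ h
      · right; simpa using h

/-- code of the identity matrix -/
def oneCode : Nat := 97017234237464720195340918138392575865960457120487

def getE (i : Nat) : Nat := (entries.getD (i / 64) []).getD (i % 64) oneCode

def getH (j : Nat) : Nat := Hcodes.getD j oneCode

def chkE (e : Nat) : Bool :=
  ((M7.ofNat (getE (e / 1067189571633593786424240872639621090354383081702091 % 4096))).mul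
      (M7.ofNat (getH (e / 1067189571633593786424240872639621090354383081702091 / 4096 % 64)))).beq
      (XN.mul (M7.ofNat e)) &&
  ((M7.ofNat (getE (e / 1067189571633593786424240872639621090354383081702091 / 262144 % 4096))).mul
      (M7.ofNat (getH (e / 1067189571633593786424240872639621090354383081702091 / 1073741824 % 64)))).beq
      (YN.mul (M7.ofNat e))

def check1 : Bool := entries.all fun ch => ch.all chkE

def checkH : Bool :=
  Hcodes.all fun a => Hcodes.all fun b => Hcodes.any fun c =>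
    ((M7.ofNat a).mul (M7.ofNat b)).beq (M7.ofNat c)

set_option maxRecDepth 1000000 in
theorem check1_eq : check1 = true := by decide +kernel

set_option maxRecDepth 1000000 in
theorem checkH_eq : checkH = true := by decide +kernel

set_option maxRecDepth 1000000 in
theorem length_entries : entries.flatten.length = 3080 := by decide +kernel

set_option maxRecDepth 1000000 in
theorem length_Hcodes : Hcodes.length = 57 := by decide +kernel

set_option maxRecDepth 1000000 in
theorem ofNat_oneCode : (M7.ofNat oneCode).beq M7.one = true := by decide +kernel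

set_option maxRecDepth 1000000 in
theorem head_entries : ∃ e ∈ entries.flatten, (M7.ofNat e).beq M7.one = true := by
  refine ⟨559515850339439490155299018216272440233385017482964708786, ?_, ?_⟩
  · decide +kernel
  · decide +kernel

set_option maxRecDepth 1000000 in
theorem head_Hcodes : oneCode ∈ Hcodes := by decide +kernel


attribute [local irreducible] entries Hcodes

abbrev Mat := Matrix (Fin 7) (Fin 7) (ZMod 11)

def Rset : Set Mat := {A | ∃ e ∈ entries.flatten, A = toMat (M7.ofNat e)}

def Hset : Set Mat := {A | ∃ h ∈ Hcodes, A = toMat (M7.ofNat h)}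

theorem toMat_oneCode : toMat (M7.ofNat oneCode) = 1 := by
  rw [M7.eq_of_beq ofNat_oneCode, toMat_one]

theorem one_mem_Rset : (1 : Mat) ∈ Rset := by
  obtain ⟨e, he, h⟩ := head_entries
  exact ⟨e, he, by rw [M7.eq_of_beq h, toMat_one]⟩

theorem one_mem_Hset : (1 : Mat) ∈ Hset :=
  ⟨oneCode, head_Hcodes, toMat_oneCode.symm⟩

theorem getE_mem (i : Nat) : toMat (M7.ofNat (getE i)) ∈ Rset := by
  unfold getE
  rcases getD_mem_or entries (i / 64) [] with h | h
  · rcases getD_mem_or (entries.getD (i / 64) []) (i % 64) oneCode with h' | h'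
    · exact ⟨_, List.mem_flatten.2 ⟨_, h, h'⟩, rfl⟩
    · rw [h', toMat_oneCode]; exact one_mem_Rset
  · rw [h]
    simp only [List.getD_nil]
    rw [toMat_oneCode]; exact one_mem_Rset

theorem getH_mem (j : Nat) : toMat (M7.ofNat (getH j)) ∈ Hset := by
  unfold getH
  rcases getD_mem_or Hcodes j oneCode with h | h
  · exact ⟨_, h, rfl⟩
  · rw [h, toMat_oneCode]; exact one_mem_Hset

theorem Hset_mul : ∀ a ∈ Hset, ∀ b ∈ Hset, a * b ∈ Hset := by
  rintro _ ⟨a, ha, rfl⟩ _ ⟨b, hb, rfl⟩
  have h := checkH_eq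
  unfold checkH at h
  rw [List.all_eq_true] at h
  have h1 := h a ha
  rw [List.all_eq_true] at h1
  have h2 := h1 b hb
  rw [List.any_eq_true] at h2
  obtain ⟨c, hc, h3⟩ := h2
  exact ⟨c, hc, by rw [← toMat_mul, M7.eq_of_beq h3]⟩

theorem chkE_of_mem {e : Nat} (he : e ∈ entries.flatten) : chkE e = true := by
  have h := check1_eq
  unfold check1 at h
  rw [List.all_eq_true] at h
  obtain ⟨ch, hch, hech⟩ := List.mem_flatten.1 he
  have h1 := h ch hch
  rw [List.all_eq_true] at h1
  exact h1 e hech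

theorem step_aux (yN : M7) (e i j : Nat)
    (h : ((M7.ofNat (getE i)).mul (M7.ofNat (getH j))).beq (yN.mul (M7.ofNat e)) = true) :
    ∃ r' ∈ Rset, ∃ h ∈ Hset, toMat yN * toMat (M7.ofNat e) = r' * h :=
  ⟨_, getE_mem i, _, getH_mem j, by rw [← toMat_mul, ← toMat_mul, M7.eq_of_beq h]⟩

theorem step : ∀ r ∈ Rset, ∀ y ∈ ({jankoMatrixX, jankoMatrixY} : Set Mat),
    ∃ r' ∈ Rset, ∃ h ∈ Hset, y * r = r' * h := by
  rintro _ ⟨e, he, rfl⟩ y hy
  have h := chkE_of_mem he
  unfold chkE at h
  rw [Bool.and_eq_true] at h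
  obtain ⟨hx, hy'⟩ := h
  rcases hy with rfl | rfl
  · rw [← toMat_XN]
    exact step_aux XN e _ _ hx
  · rw [← toMat_YN]
    exact step_aux YN e _ _ hy'

theorem mem_mul : ∀ g ∈ J1, ∃ r ∈ Rset, ∃ h ∈ Hset,
    ((g : GL (Fin 7) (ZMod 11)) : Mat) = r * h := by
  intro g hg
  have hg' : g ∈ Submonoid.closure ({jankoX, jankoY} : Set (GL (Fin 7) (ZMod 11))) := by
    rw [← Subgroup.closure_toSubmonoid_of_finite]
    exact hg
  have hmap : ∀ a ∈ Submonoid.closure ({jankoX, jankoY} : Set (GL (Fin 7) (ZMod 11))),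
      ((a : GL (Fin 7) (ZMod 11)) : Mat) ∈
        Submonoid.closure ({jankoMatrixX, jankoMatrixY} : Set Mat) := by
    intro a ha
    induction ha using Submonoid.closure_induction with
    | mem y hy =>
      apply Submonoid.subset_closure
      rcases hy with rfl | rfl
      · left; rfl
      · right; rfl
    | one => exact Submonoid.one_mem _
    | mul a b _ _ iha ihb =>
      rw [Units.val_mul]
      exact Submonoid.mul_mem _ iha ihb
  have hg'' := hmap g hg'
  exact closure_subset_mul _ Rset Hset one_mem_Rset one_mem_Hset Hset_mul step _ hg''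

theorem card_le : Nat.card J1 ≤ 175560 := by
  have key : ∀ g : J1, ∃ p : ℕ × ℕ, p ∈ entries.flatten.toFinset ×ˢ Hcodes.toFinset ∧
      ((g : GL (Fin 7) (ZMod 11)) : Mat) = toMat (M7.ofNat p.1) * toMat (M7.ofNat p.2) := by
    intro g
    obtain ⟨_, ⟨e, he, rfl⟩, _, ⟨h, hh, rfl⟩, hg⟩ := mem_mul g.1 g.2
    exact ⟨(e, h), Finset.mem_product.2 ⟨List.mem_toFinset.2 he, List.mem_toFinset.2 hh⟩, hg⟩
  choose f hf using key
  have hinj : Function.Injective
      (fun g : J1 => (⟨f g, (hf g).1⟩ : ↥(entries.flatten.toFinset ×ˢ Hcodes.toFinset))) := by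
    intro g g' hgg
    have h1 : f g = f g' := congrArg Subtype.val hgg
    apply Subtype.ext
    apply Units.ext
    rw [(hf g).2, (hf g').2, h1]
  have h2 := Nat.card_le_card_of_injective _ hinj
  have h5 : Nat.card ↥(entries.flatten.toFinset ×ˢ Hcodes.toFinset) =
      entries.flatten.toFinset.card * Hcodes.toFinset.card := by
    rw [Nat.card_eq_fintype_card, Fintype.card_coe, Finset.card_product]
  rw [h5] at h2
  have h3 : entries.flatten.toFinset.card ≤ 3080 := by
    rw [← length_entries]; exact List.toFinset_card_le _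
  have h4 : Hcodes.toFinset.card ≤ 57 := by
    rw [← length_Hcodes]; exact List.toFinset_card_le _
  calc Nat.card J1 ≤ entries.flatten.toFinset.card * Hcodes.toFinset.card := h2
    _ ≤ 3080 * 57 := Nat.mul_le_mul h3 h4
    _ = 175560 := by norm_num

end Cfsg.Agent.Helper14.J1
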