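import Mathlib
import Cfsg.Agent.Helper14.J1B

/-!
# Certificates for the Janko matrix group: element orders, a subgroup of order 8, normal closures
-/

set_option autoImplicit false

namespace Cfsg.Agent.Helper14.J1

open Cfsg Cfsg.Spor

/-- the group -/
abbrev G0 := ↥Cfsg.Spor.J1

/-- the element of the group given by a word -/
def ev (w : List Nat) : G0 := ⟨evG w, evG_mem w⟩

theorem ev_nil : ev [] = 1 := by
  apply Subtype.ext
  simp [ev, evG]

theorem ev_append (w₁ w₂ : List Nat) : ev (w₁ ++ w₂) = ev w₁ * ev w₂ := by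
  apply Subtype.ext
  simp [ev, evG_append]

theorem ev_invW (w : List Nat) : ev (invW w) = (ev w)⁻¹ := by
  apply Subtype.ext
  simp [ev, evG_invW]

theorem ev_eq_of_beq {w₁ w₂ : List Nat} (h : (evN w₁).beq (evN w₂) = true) : ev w₁ = ev w₂ :=
  Subtype.ext (evG_eq_of_beq h)

theorem ev_ne_of_beq {w₁ w₂ : List Nat} (h1 : (evN w₁).red = true) (h2 : (evN w₂).red = true)
    (h : (evN w₁).beq (evN w₂) = false) : ev w₁ ≠ ev w₂ := fun he =>
  evG_ne_of_beq h1 h2 h (congrArg Subtype.val he)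

/-- the product of the conjugates of `wg` by the words of `cs` -/
def conjW (wg : List Nat) (cs : List (List Nat)) : List Nat :=
  cs.flatMap fun c => c ++ wg ++ invW c

theorem ev_conjW_mem (N : Subgroup G0) [hN : N.Normal] {wg : List Nat} (h : ev wg ∈ N)
    (cs : List (List Nat)) : ev (conjW wg cs) ∈ N := by
  induction cs with
  | nil =>
    have : conjW wg [] = [] := rfl
    rw [this, ev_nil]
    exact N.one_mem
  | cons c cs ih =>
    have : conjW wg (c :: cs) = (c ++ wg ++ invW c) ++ conjW wg cs := by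
      simp [conjW]
    rw [this, ev_append, ev_append, ev_append, ev_invW]
    exact N.mul_mem (hN.conj_mem _ h _) ih

theorem closure_gens : Subgroup.closure ({ev [0], ev [1]} : Set G0) = ⊤ := by
  have h := Subgroup.closure_closure_coe_preimage
    (k := ({jankoX, jankoY} : Set (GL (Fin 7) (ZMod 11))))
  have h0 : ((ev [0] : G0) : GL (Fin 7) (ZMod 11)) = jankoX := by simp [ev, evG, letG]
  have h1 : ((ev [1] : G0) : GL (Fin 7) (ZMod 11)) = jankoY := by simp [ev, evG, letG]
  have hs : ({ev [0], ev [1]} : Set G0) =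
      ((↑) : G0 → GL (Fin 7) (ZMod 11)) ⁻¹' ({jankoX, jankoY} : Set (GL (Fin 7) (ZMod 11))) := by
    ext g
    simp only [Set.mem_insert_iff, Set.mem_singleton_iff, Set.mem_preimage]
    constructor
    · rintro (rfl | rfl)
      · left; exact h0
      · right; exact h1
    · rintro (h | h)
      · left; exact Subtype.ext (h.trans h0.symm)
      · right; exact Subtype.ext (h.trans h1.symm)
  rw [hs]
  exact h

theorem eq_top_of_gens_mem (N : Subgroup G0) (hx : ev [0] ∈ N) (hy : ev [1] ∈ N) : N = ⊤ := by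
  rw [eq_top_iff, ← closure_gens, Subgroup.closure_le]
  rintro g (rfl | rfl)
  · exact hx
  · exact hy

/-- normal closure certificates: a word `g`, and conjugating words whose conjugates of `g` multiply
to `X`, resp. `Y` -/
def ncTable : List (List Nat × List (List Nat) × List (List Nat)) := [
  ([0, 0, 0, 1, 0, 1, 0, 1], [[2], [0, 0, 0], [1, 0, 0]], [[], [], [1, 1], [1, 1]]),
  ([1], [[1, 0, 0], [0, 0, 0], [], [], [1, 0, 0]], [[]]),
  ([0], [[]], [[0, 1, 1], [0, 1, 1], [0, 1, 1], [0, 1], [3], [3], [0, 1]]),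
  ([0, 1, 1], [[], [], [3], [1], []], [[0, 0, 0], [], [1, 1], [0, 0]]),
  ([0, 0, 0, 1], [[], [1], [0], [0, 1], [0, 0]], [[0], [1, 0, 0], [0, 0], [1, 0]]),
  ([3, 0, 1, 0], [[], [3], [0], [0, 0, 1], [0, 1, 1], [1, 1], [3]], [[0, 0], [1, 1], [3], [1, 0, 0], [0, 0, 0], [1, 0, 0]]),
  ([0, 3, 0, 1], [[0, 0], [1, 0, 0], [0, 0, 0], [1, 0], [3], [1, 1]], [[0, 0], [1, 0, 0], [0, 0], [1, 0, 0]]),
  ([0, 3, 0, 0, 1, 0], [[], [0], [1, 1], [0, 1, 1], [0, 0, 1], [0, 0, 0], [0, 1]], [[], [0], [1, 1], [1, 0, 0], [0, 1, 1], [1, 0, 0]]),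
  ([3, 0, 0, 1, 0, 0], [[0, 0], [1, 0], [1, 1], [0, 0, 1], [2], [0, 1, 1]], [[2], [0, 1], [2], [0, 1]]),
  ([2, 3, 0, 1, 0, 0], [[], [0, 1], [0, 0], [1, 0], [2], [3], [1, 1]], [[], [0], [0, 1, 1], [], [0, 1], [0, 0, 0], [1, 0]]),
  ([2, 3, 0, 0, 1, 0, 0, 0], [[0, 0], [1, 1], [0, 0], [0, 1, 1], [1, 1], [0, 0, 0], [0, 0, 1]], [[], [1, 1]]),
  ([0, 0, 3, 0, 1, 2], [[], [0, 1], [1, 1], [0, 0, 0], [0, 1], [0, 0, 0], [0, 0, 1]], [[0], [1, 0], [0], [1, 0]])]

def ncCheck (t : List Nat × List (List Nat) × List (List Nat)) : Bool :=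
  (evN (conjW t.1 t.2.1)).beq (evN [0]) && (evN (conjW t.1 t.2.2)).beq (evN [1])

set_option maxRecDepth 1000000 in
theorem ncTable_ok : ncTable.all ncCheck = true := by decide +kernel

theorem eq_top_of_mem_table (N : Subgroup G0) [N.Normal]
    (t : List Nat × List (List Nat) × List (List Nat)) (ht : t ∈ ncTable) (h : ev t.1 ∈ N) :
    N = ⊤ := by
  have h1 := List.all_eq_true.1 ncTable_ok t ht
  unfold ncCheck at h1
  rw [Bool.and_eq_true] at h1
  apply eq_top_of_gens_mem
  · rw [← ev_eq_of_beq h1.1]; exact ev_conjW_mem N h _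
  · rw [← ev_eq_of_beq h1.2]; exact ev_conjW_mem N h _

/-- elements of prime orders -/
def ordTable : List (List Nat × Nat) := [
  ([0, 0, 0, 1, 0, 1, 0, 1], 3),
  ([1], 5),
  ([0], 7),
  ([0, 1, 1], 11),
  ([0, 0, 0, 1], 19)]

def ordCheck (t : List Nat × Nat) : Bool :=
  (evN (List.replicate t.2 t.1).flatten).beq (evN []) && (evN t.1).red && (evN []).red &&
    !(evN t.1).beq (evN [])

set_option maxRecDepth 1000000 in
theorem ordTable_ok : ordTable.all ordCheck = true := by decide +kernel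

theorem ev_replicate (w : List Nat) (n : ℕ) : ev (List.replicate n w).flatten = ev w ^ n := by
  induction n with
  | zero => simp [ev_nil]
  | succ n ih => rw [List.replicate_succ, List.flatten_cons, ev_append, ih, pow_succ']

theorem orderOf_of_mem_ordTable (t : List Nat × Nat) (ht : t ∈ ordTable) (hp : t.2.Prime) :
    orderOf (ev t.1) = t.2 := by
  have h1 := List.all_eq_true.1 ordTable_ok t ht
  unfold ordCheck at h1
  simp only [Bool.and_eq_true, Bool.not_eq_true'] at h1
  obtain ⟨⟨⟨h2, h3⟩, h4⟩, h5⟩ := h1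
  have := Fact.mk hp
  apply orderOf_eq_prime
  · rw [← ev_replicate, ev_eq_of_beq h2, ev_nil]
  · rw [← ev_nil]; exact ev_ne_of_beq h3 h4 h5

/-- the elements of a subgroup of order 8 -/
def Pw : List (List Nat) := [
  [],
  [3, 0, 1, 0],
  [0, 3, 0, 1],
  [0, 3, 0, 0, 1, 0],
  [3, 0, 0, 1, 0, 0],
  [2, 3, 0, 1, 0, 0],
  [2, 3, 0, 0, 1, 0, 0, 0],
  [0, 0, 3, 0, 1, 2]]

def pairwiseB {α : Type} (f : α → α → Bool) : List α → Bool
  | [] => true
  | a :: l => l.all (f a) && pairwiseB f l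

theorem pairwise_of_pairwiseB {α : Type} (f : α → α → Bool) (l : List α)
    (h : pairwiseB f l = true) : l.Pairwise (fun a b => f a b = true) := by
  induction l with
  | nil => exact List.Pairwise.nil
  | cons a l ih =>
    unfold pairwiseB at h
    rw [Bool.and_eq_true] at h
    exact List.Pairwise.cons (fun b hb => List.all_eq_true.1 h.1 b hb) (ih h.2)

def PmulCheck : Bool :=
  Pw.all fun a => Pw.all fun b => Pw.any fun c => (evN (a ++ b)).beq (evN c)

def PinvCheck : Bool :=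
  Pw.all fun a => Pw.any fun c => (evN (invW a)).beq (evN c)

def PneCheck : Bool :=
  pairwiseB (fun a b => (evN a).red && (evN b).red && !(evN a).beq (evN b)) Pw

set_option maxRecDepth 1000000 in
theorem PmulCheck_ok : PmulCheck = true := by decide +kernel

set_option maxRecDepth 1000000 in
theorem PinvCheck_ok : PinvCheck = true := by decide +kernel

set_option maxRecDepth 1000000 in
theorem PneCheck_ok : PneCheck = true := by decide +kernel

theorem Pw_table : ∀ w ∈ Pw, w = [] ∨ ∃ t ∈ ncTable, t.1 = w := by decide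

theorem nil_mem_Pw : [] ∈ Pw := by decide

theorem length_Pw : Pw.length = 8 := rfl

/-- the subgroup of order 8 -/
def P8 : Subgroup G0 where
  carrier := {g | ∃ w ∈ Pw, g = ev w}
  mul_mem' := by
    rintro _ _ ⟨a, ha, rfl⟩ ⟨b, hb, rfl⟩
    have h := PmulCheck_ok
    unfold PmulCheck at h
    have h1 := List.all_eq_true.1 (List.all_eq_true.1 h a ha) b hb
    obtain ⟨c, hc, h2⟩ := List.any_eq_true.1 h1
    exact ⟨c, hc, by rw [← ev_append, ev_eq_of_beq h2]⟩
  one_mem' := ⟨[], nil_mem_Pw, ev_nil.symm⟩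
  inv_mem' := by
    rintro _ ⟨a, ha, rfl⟩
    have h := PinvCheck_ok
    unfold PinvCheck at h
    obtain ⟨c, hc, h2⟩ := List.any_eq_true.1 (List.all_eq_true.1 h a ha)
    exact ⟨c, hc, by rw [← ev_invW, ev_eq_of_beq h2]⟩

theorem mem_P8 {g : G0} : g ∈ P8 ↔ ∃ w ∈ Pw, g = ev w := Iff.rfl

theorem nodup_Pw_map : (Pw.map ev).Nodup := by
  rw [List.Nodup, List.pairwise_map]
  have h := pairwise_of_pairwiseB _ _ PneCheck_ok
  refine h.imp ?_
  intro a b hab
  simp only [Bool.and_eq_true, Bool.not_eq_true'] at hab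
  exact ev_ne_of_beq hab.1.1 hab.1.2 hab.2

theorem card_P8 : Nat.card P8 = 8 := by
  classical
  have h1 : (P8 : Set G0) = ↑(Pw.map ev).toFinset := by
    ext g
    simp only [SetLike.mem_coe, mem_P8, List.coe_toFinset, List.mem_map, Set.mem_ofPred_eq]
    constructor
    · rintro ⟨w, hw, rfl⟩; exact ⟨w, hw, rfl⟩
    · rintro ⟨w, hw, rfl⟩; exact ⟨w, hw, rfl⟩
  have h2 : Nat.card P8 = Set.ncard (P8 : Set G0) := rfl
  rw [h2, h1, Set.ncard_coe_finset, List.toFinset_card_of_nodup nodup_Pw_map, List.length_map,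
    length_Pw]

end Cfsg.Agent.Helper14.J1
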