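import Mathlib
import Cfsg.Agent.Helper14.J1C
import Cfsg.Agent.Helper14.J1D

/-!
# The Janko matrix group has order 175560 and is simple
-/

set_option autoImplicit false

namespace Cfsg.Agent.Helper14.J1

open Cfsg Cfsg.Spor

/-- In a finite group whose order is divisible by `p` exactly once, a normal subgroup of order divisible
by `p` contains every element of order `p`. -/
theorem mem_of_prime_dvd {G : Type*} [Group G] [Finite G] (N : Subgroup G) [hN : N.Normal] (p : ℕ)
    [hp : Fact p.Prime] (hpN : p ∣ Nat.card N) (hpp : ¬ p ^ 2 ∣ Nat.card G) (g : G)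
    (hg : orderOf g = p) : g ∈ N := by
  obtain ⟨n, hn⟩ := exists_prime_orderOf_dvd_card' p hpN
  have hn' : orderOf (n : G) = p := by rw [Subgroup.orderOf_coe]; exact hn
  have hpG : p ∣ Nat.card G := hpN.trans (Subgroup.card_subgroup_dvd_card N)
  have hfac : (Nat.card G).factorization p = 1 := by
    have h1 : 1 ≤ (Nat.card G).factorization p := by
      rw [← hp.out.pow_dvd_iff_le_factorization Nat.card_pos.ne', pow_one]; exact hpG
    have h2 : ¬ 2 ≤ (Nat.card G).factorization p := by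
      rw [← hp.out.pow_dvd_iff_le_factorization Nat.card_pos.ne']; exact hpp
    omega
  have hcardz : ∀ x : G, orderOf x = p → ∀ S : Sylow p G, Subgroup.zpowers x ≤ S →
      Subgroup.zpowers x = S := by
    intro x hx S hle
    apply Subgroup.eq_of_le_of_card_ge hle
    rw [Sylow.card_eq_multiplicity, hfac, pow_one, Nat.card_zpowers, hx]
  have hpg : ∀ x : G, orderOf x = p → IsPGroup p (Subgroup.zpowers x) := by
    intro x hx
    apply IsPGroup.of_card (n := 1)
    rw [Nat.card_zpowers, hx, pow_one]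
  obtain ⟨S, hS⟩ := (hpg g hg).exists_le_sylow
  obtain ⟨T, hT⟩ := (hpg n hn').exists_le_sylow
  have hS' := hcardz g hg S hS
  have hT' := hcardz n hn' T hT
  obtain ⟨c, hc⟩ := MulAction.exists_smul_eq G T S
  have hgS : g ∈ (S : Subgroup G) := by rw [← hS']; exact Subgroup.mem_zpowers g
  rw [← hc, Sylow.coe_subgroup_smul, Subgroup.mem_pointwise_smul_iff_inv_smul_mem, ← hT'] at hgS
  have h3 : (MulAut.conj c)⁻¹ • g ∈ N := by
    have : Subgroup.zpowers (n : G) ≤ N := by
      rw [Subgroup.zpowers_le]; exact n.2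
    exact this hgS
  have e : (MulAut.conj c)⁻¹ • g = c⁻¹ * g * c := by
    rw [← map_inv, MulAut.smul_def, MulAut.conj_apply, inv_inv]
  rw [e] at h3
  have h4 : c * (c⁻¹ * g * c) * c⁻¹ ∈ N := hN.conj_mem _ h3 c
  have h5 : c * (c⁻¹ * g * c) * c⁻¹ = g := by group
  rwa [h5] at h4

theorem dvd_card_of_ordTable (t : List Nat × Nat) (ht : t ∈ ordTable) (hp : t.2.Prime) :
    t.2 ∣ Nat.card G0 := by
  rw [← orderOf_of_mem_ordTable t ht hp]
  exact orderOf_dvd_natCard _

theorem card_eq : Nat.card J1 = 175560 := by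
  have h3 : 3 ∣ Nat.card G0 := dvd_card_of_ordTable ([0, 0, 0, 1, 0, 1, 0, 1], 3) (by decide) (by norm_num)
  have h5 : 5 ∣ Nat.card G0 := dvd_card_of_ordTable ([1], 5) (by decide) (by norm_num)
  have h7 : 7 ∣ Nat.card G0 := dvd_card_of_ordTable ([0], 7) (by decide) (by norm_num)
  have h11 : 11 ∣ Nat.card G0 := dvd_card_of_ordTable ([0, 1, 1], 11) (by decide) (by norm_num)
  have h19 : 19 ∣ Nat.card G0 := dvd_card_of_ordTable ([0, 0, 0, 1], 19) (by decide) (by norm_num)
  have h8 : 8 ∣ Nat.card G0 := by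
    rw [← card_P8]; exact Subgroup.card_subgroup_dvd_card P8
  have h24 : 8 * 3 ∣ Nat.card G0 := Nat.Coprime.mul_dvd_of_dvd_of_dvd (by norm_num) h8 h3
  have h120 : 8 * 3 * 5 ∣ Nat.card G0 := Nat.Coprime.mul_dvd_of_dvd_of_dvd (by norm_num) h24 h5
  have h840 : 8 * 3 * 5 * 7 ∣ Nat.card G0 :=
    Nat.Coprime.mul_dvd_of_dvd_of_dvd (by norm_num) h120 h7
  have h9240 : 8 * 3 * 5 * 7 * 11 ∣ Nat.card G0 :=
    Nat.Coprime.mul_dvd_of_dvd_of_dvd (by norm_num) h840 h11
  have hall : 8 * 3 * 5 * 7 * 11 * 19 ∣ Nat.card G0 :=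
    Nat.Coprime.mul_dvd_of_dvd_of_dvd (by norm_num) h9240 h19
  have hle := Nat.le_of_dvd Nat.card_pos hall
  have hle' := card_le
  norm_num at hle
  exact le_antisymm hle' hle

theorem ordTable_in_ncTable : ∀ t ∈ ordTable, ∃ t' ∈ ncTable, t'.1 = t.1 := by decide

theorem simple : IsSimpleGroup G0 := by
  have hcard : Nat.card G0 = 175560 := card_eq
  have : Nontrivial G0 := Finite.one_lt_card_iff_nontrivial.1 (by rw [hcard]; norm_num)
  refine ⟨fun N hN => ?_⟩
  by_contra hcon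
  obtain ⟨hbot, htop⟩ := not_or.1 hcon
  have hdvd : Nat.card N ∣ 175560 := by
    rw [← hcard]; exact Subgroup.card_subgroup_dvd_card N
  have hodd : ∀ t ∈ ordTable, t.2.Prime → ¬ t.2 ^ 2 ∣ 175560 → ¬ t.2 ∣ Nat.card N := by
    intro t ht hp hpp hdiv
    have hg := orderOf_of_mem_ordTable t ht hp
    have := Fact.mk hp
    have hmem : ev t.1 ∈ N := mem_of_prime_dvd N t.2 hdiv (by rwa [hcard]) _ hg
    obtain ⟨t', ht', e⟩ := ordTable_in_ncTable t ht
    exact htop (eq_top_of_mem_table N t' ht' (e ▸ hmem))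
  have h3 : ¬ 3 ∣ Nat.card N :=
    hodd ([0, 0, 0, 1, 0, 1, 0, 1], 3) (by decide) (by norm_num) (by norm_num)
  have h5 : ¬ 5 ∣ Nat.card N := hodd ([1], 5) (by decide) (by norm_num) (by norm_num)
  have h7 : ¬ 7 ∣ Nat.card N := hodd ([0], 7) (by decide) (by norm_num) (by norm_num)
  have h11 : ¬ 11 ∣ Nat.card N := hodd ([0, 1, 1], 11) (by decide) (by norm_num) (by norm_num)
  have h19 : ¬ 19 ∣ Nat.card N := hodd ([0, 0, 0, 1], 19) (by decide) (by norm_num) (by norm_num)
  have hcop : Nat.Coprime (Nat.card N) (3 * 5 * 7 * 11 * 19) := by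
    have c3 : Nat.Coprime (Nat.card N) 3 :=
      ((Nat.Prime.coprime_iff_not_dvd (by norm_num)).2 h3).symm
    have c5 : Nat.Coprime (Nat.card N) 5 :=
      ((Nat.Prime.coprime_iff_not_dvd (by norm_num)).2 h5).symm
    have c7 : Nat.Coprime (Nat.card N) 7 :=
      ((Nat.Prime.coprime_iff_not_dvd (by norm_num)).2 h7).symm
    have c11 : Nat.Coprime (Nat.card N) 11 :=
      ((Nat.Prime.coprime_iff_not_dvd (by norm_num)).2 h11).symm
    have c19 : Nat.Coprime (Nat.card N) 19 :=
      ((Nat.Prime.coprime_iff_not_dvd (by norm_num)).2 h19).symm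
    exact Nat.Coprime.mul_right (Nat.Coprime.mul_right (Nat.Coprime.mul_right
      (Nat.Coprime.mul_right c3 c5) c7) c11) c19
  have h8 : Nat.card N ∣ 2 ^ 3 := by
    apply Nat.Coprime.dvd_of_dvd_mul_right hcop
    norm_num
    exact hdvd
  have hN2 : IsPGroup 2 N := by
    obtain ⟨k, _, hk⟩ := (Nat.dvd_prime_pow Nat.prime_two).1 h8
    exact IsPGroup.of_card hk
  have hP8 : IsPGroup 2 P8 := IsPGroup.of_card (n := 3) (by rw [card_P8]; norm_num)
  have hidx : ¬ 2 ∣ P8.index := by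
    have h := P8.card_mul_index
    rw [card_P8, hcard] at h
    have : P8.index = 21945 := by omega
    rw [this]; norm_num
  have hle : N ≤ P8 := by
    have := hN2.le_sylow_of_normal (hP8.toSylow hidx)
    rwa [IsPGroup.toSylow_coe] at this
  obtain ⟨n, hn1⟩ := (Subgroup.ne_bot_iff_exists_ne_one).1 hbot
  obtain ⟨w, hw, hnw⟩ := mem_P8.1 (hle n.2)
  rcases Pw_table w hw with rfl | ⟨t, ht, rfl⟩
  · apply hn1
    apply Subtype.ext
    rw [hnw, ev_nil]; rfl
  · have : ev t.1 ∈ N := by rw [← hnw]; exact n.2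
    exact htop (eq_top_of_mem_table N t ht this)

end Cfsg.Agent.Helper14.J1
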