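import Mathlib
import Cfsg.Agent.Helper14.J1Cls
import Cfsg.Agent.Helper14.J1E

/-!
# An involution of the Janko matrix group has at least 1463 conjugates; its centraliser has order ≤ 120
-/

set_option autoImplicit false

namespace Cfsg.Agent.Helper14.J1

open Cfsg Cfsg.Spor

/-- In a finite group, `m` distinct conjugates of `t` bound the centraliser: `m * |C(t)| ≤ |G|`. -/
theorem card_mul_card_centralizer_le {G : Type*} [Group G] [Finite G] (t : G) {ι : Type*} [Fintype ι]
    (s : ι → G) (hs : Function.Injective s) (hconj : ∀ i, ∃ g : G, g * t * g⁻¹ = s i) :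
    Fintype.card ι * Nat.card (Subgroup.centralizer ({t} : Set G)) ≤ Nat.card G := by
  choose g hg using hconj
  let f : ι × Subgroup.centralizer ({t} : Set G) → G := fun p => g p.1 * p.2
  have hcomm : ∀ c : Subgroup.centralizer ({t} : Set G), (c : G) * t * (c : G)⁻¹ = t := by
    intro c
    have h := Subgroup.mem_centralizer_iff.1 c.2 t (Set.mem_singleton t)
    rw [← h, mul_assoc, mul_inv_cancel, mul_one]
  have hf : ∀ p, f p * t * (f p)⁻¹ = s p.1 := by
    intro p
    have : f p * t * (f p)⁻¹ = g p.1 * ((p.2 : G) * t * (p.2 : G)⁻¹) * (g p.1)⁻¹ := by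
      simp only [f]; group
    rw [this, hcomm, hg]
  have hinj : Function.Injective f := by
    intro p q hpq
    have h1 : s p.1 = s q.1 := by rw [← hf p, ← hf q, hpq]
    have h2 : p.1 = q.1 := hs h1
    have h3 : g p.1 * (p.2 : G) = g q.1 * (q.2 : G) := hpq
    rw [h2] at h3
    have h4 : (p.2 : G) = (q.2 : G) := mul_left_cancel h3
    exact Prod.ext h2 (Subtype.ext h4)
  have h := Nat.card_le_card_of_injective f hinj
  rwa [Nat.card_prod, Nat.card_eq_fintype_card] at h

namespace V7
def code (v : V7) : Nat :=
  v.a0 + 11 * (v.a1 + 11 * (v.a2 + 11 * (v.a3 + 11 * (v.a4 + 11 * (v.a5 + 11 * v.a6)))))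
end V7

namespace M7
def code (A : M7) : Nat :=
  A.r0.code + 19487171 * (A.r1.code + 19487171 * (A.r2.code + 19487171 * (A.r3.code +
    19487171 * (A.r4.code + 19487171 * (A.r5.code + 19487171 * A.r6.code)))))
end M7

/-- the involution `t = Y⁻¹ X Y X` -/
def tW : List Nat := [3, 0, 1, 0]

/-- the entry of `t` itself -/
def rootE : Nat := 494037467433278079311258014212843343775690903442790

def getC (i : Nat) : Nat := (cls.getD (i / 64) []).getD (i % 64) rootE

/-- depth stored in an entry -/
def depthC (e : Nat) : Nat := e / 1067189571633593786424240872639621090354383081702091 / 8192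

def chkC (e : Nat) : Bool :=
  (M7.ofNat e).red &&
  (if depthC e = 0 then (M7.ofNat e).beq (evN tW)
   else
    Nat.beq (depthC (getC (e / 1067189571633593786424240872639621090354383081702091 % 2048)) + 1)
        (depthC e) &&
      (((letN (e / 1067189571633593786424240872639621090354383081702091 / 2048 % 4)).mul
        (M7.ofNat (getC (e / 1067189571633593786424240872639621090354383081702091 % 2048)))).mul
        (letN (invL (e / 1067189571633593786424240872639621090354383081702091 / 2048 % 4)))).beq
        (M7.ofNat e))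

def checkC : Bool := cls.all fun ch => ch.all chkC

def incB : List Nat → Bool
  | [] => true
  | a :: l => (match l with
    | [] => true
    | b :: _ => Nat.blt a b) && incB l

def keyC (e : Nat) : Nat := (M7.ofNat e).code

def checkInc : Bool := incB (cls.flatten.map keyC)

set_option maxRecDepth 1000000 in
theorem checkC_eq : checkC = true := by decide +kernel

set_option maxRecDepth 1000000 in
theorem checkInc_eq : checkInc = true := by decide +kernel

set_option maxRecDepth 1000000 in
theorem rootE_mem : rootE ∈ cls.flatten := by decide +kernel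

set_option maxRecDepth 1000000 in
theorem length_cls : cls.flatten.length = 1463 := by decide +kernel


attribute [local irreducible] cls

theorem getC_mem (i : Nat) : getC i ∈ cls.flatten := by
  unfold getC
  rcases getD_mem_or cls (i / 64) [] with h | h
  · rcases getD_mem_or (cls.getD (i / 64) []) (i % 64) rootE with h' | h'
    · exact List.mem_flatten.2 ⟨_, h, h'⟩
    · rw [h']; exact rootE_mem
  · rw [h]
    simp only [List.getD_nil]
    exact rootE_mem

theorem chkC_of_mem {e : Nat} (he : e ∈ cls.flatten) : chkC e = true := by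
  have h := checkC_eq
  unfold checkC at h
  rw [List.all_eq_true] at h
  obtain ⟨ch, hch, hech⟩ := List.mem_flatten.1 he
  have h1 := h ch hch
  rw [List.all_eq_true] at h1
  exact h1 e hech

/-- the involution -/
def tG : G0 := ev tW

theorem coe_G0_mul (a b : G0) :
    (((a * b : G0) : GL (Fin 7) (ZMod 11)) : Mat) =
      ((a : GL (Fin 7) (ZMod 11)) : Mat) * ((b : GL (Fin 7) (ZMod 11)) : Mat) := rfl

theorem conj_of_mem : ∀ d : ℕ, ∀ e ∈ cls.flatten, depthC e = d →
    ∃ g : G0, (((g * tG * g⁻¹ : G0) : GL (Fin 7) (ZMod 11)) : Mat) = toMat (M7.ofNat e) := by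
  intro d
  induction d with
  | zero =>
    intro e he hd
    have h := chkC_of_mem he
    unfold chkC at h
    rw [Bool.and_eq_true, if_pos hd] at h
    refine ⟨1, ?_⟩
    rw [one_mul, inv_one, mul_one, M7.eq_of_beq h.2]
    exact coe_evG tW
  | succ d ih =>
    intro e he hd
    have h := chkC_of_mem he
    unfold chkC at h
    have hd0 : ¬ depthC e = 0 := by omega
    rw [Bool.and_eq_true, if_neg hd0, Bool.and_eq_true] at h
    obtain ⟨_, h1, h2⟩ := h
    have h1' := Nat.eq_of_beq_eq_true h1
    set k := e / 1067189571633593786424240872639621090354383081702091 / 2048 % 4 with hk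
    set q := getC (e / 1067189571633593786424240872639621090354383081702091 % 2048) with hq
    obtain ⟨g', hg'⟩ := ih q (getC_mem _) (by omega)
    refine ⟨⟨letG k, letG_mem k⟩ * g', ?_⟩
    have e1 : (⟨letG k, letG_mem k⟩ * g') * tG * (⟨letG k, letG_mem k⟩ * g')⁻¹ =
        (⟨letG k, letG_mem k⟩ : G0) * (g' * tG * g'⁻¹) * (⟨letG k, letG_mem k⟩ : G0)⁻¹ := by group
    have e2 : (((⟨letG k, letG_mem k⟩ : G0)⁻¹ : G0) : GL (Fin 7) (ZMod 11)) = letG (invL k) := by
      rw [letG_invL]; rfl
    rw [e1, coe_G0_mul, coe_G0_mul, hg', e2, coe_letG, coe_letG, ← M7.eq_of_beq h2, toMat_mul,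
      toMat_mul]

theorem pairwise_of_incB : ∀ l : List Nat, incB l = true → l.Pairwise (· < ·) := by
  intro l
  induction l with
  | nil => intro _; exact List.Pairwise.nil
  | cons a l ih =>
    intro h
    unfold incB at h
    rw [Bool.and_eq_true] at h
    have hl := ih h.2
    refine List.Pairwise.cons ?_ hl
    rcases l with _ | ⟨b, l⟩
    · intro x hx; simp at hx
    · have hab : a < b := by
        have := h.1
        simpa [Nat.blt_eq] using this
      intro x hx
      rcases List.mem_cons.1 hx with rfl | hx'
      · exact hab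
      · exact lt_trans hab (List.rel_of_pairwise_cons hl hx')

theorem keyC_pairwise : cls.flatten.Pairwise (fun a b => keyC a ≠ keyC b) := by
  have h := pairwise_of_incB _ checkInc_eq
  rw [List.pairwise_map] at h
  exact h.imp (fun hab => ne_of_lt hab)

theorem nodup_cls : cls.flatten.Nodup := by
  refine keyC_pairwise.imp ?_
  intro a b hab he
  exact hab (by rw [he])

theorem pairwise_mem {α : Type*} {R : α → α → Prop} {l : List α} (h : l.Pairwise R) {a b : α}
    (ha : a ∈ l) (hb : b ∈ l) (hne : a ≠ b) : R a b ∨ R b a := by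
  induction l with
  | nil => simp at ha
  | cons x l ih =>
    rw [List.pairwise_cons] at h
    rcases List.mem_cons.1 ha with rfl | ha'
    · rcases List.mem_cons.1 hb with rfl | hb'
      · exact absurd rfl hne
      · exact Or.inl (h.1 b hb')
    · rcases List.mem_cons.1 hb with rfl | hb'
      · exact Or.inr (h.1 a ha')
      · exact ih h.2 ha' hb'

theorem toMat_inj_cls {e e' : Nat} (he : e ∈ cls.flatten) (he' : e' ∈ cls.flatten)
    (h : toMat (M7.ofNat e) = toMat (M7.ofNat e')) : e = e' := by
  by_contra hne
  have h1 : keyC e ≠ keyC e' := by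
    rcases pairwise_mem keyC_pairwise he he' hne with h | h
    · exact h
    · exact h.symm
  apply h1
  have r1 : (M7.ofNat e).red = true := by
    have := chkC_of_mem he
    unfold chkC at this
    rw [Bool.and_eq_true] at this
    exact this.1
  have r2 : (M7.ofNat e').red = true := by
    have := chkC_of_mem he'
    unfold chkC at this
    rw [Bool.and_eq_true] at this
    exact this.1
  unfold keyC
  rw [eq_of_toMat_eq r1 r2 h]

theorem card_centralizer_le : Nat.card (Subgroup.centralizer ({tG} : Set G0)) ≤ 120 := by
  have key : ∀ e : ↥cls.flatten.toFinset, ∃ s : G0, (∃ g : G0, g * tG * g⁻¹ = s) ∧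
      ((s : GL (Fin 7) (ZMod 11)) : Mat) = toMat (M7.ofNat e.1) := by
    intro e
    obtain ⟨g, hg⟩ := conj_of_mem _ e.1 (List.mem_toFinset.1 e.2) rfl
    exact ⟨_, ⟨g, rfl⟩, hg⟩
  choose s hs1 hs2 using key
  have hinj : Function.Injective s := by
    intro e e' hee
    apply Subtype.ext
    apply toMat_inj_cls (List.mem_toFinset.1 e.2) (List.mem_toFinset.1 e'.2)
    rw [← hs2, ← hs2, hee]
  have h := card_mul_card_centralizer_le tG s hinj hs1
  rw [Fintype.card_coe, List.toFinset_card_of_nodup nodup_cls, length_cls] at h
  have hc : Nat.card G0 = 175560 := card_eq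
  rw [hc] at h
  omega

end Cfsg.Agent.Helper14.J1
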