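import Mathlib
import Cfsg.Agent.Helper14.J1F
import Cfsg.Agent.Helper13.A5Pres

/-!
# The centraliser of an involution of the Janko group is `2 × A₅`
-/

set_option autoImplicit false

namespace Cfsg.Agent.Helper14.J1

open Cfsg Cfsg.Spor

def aW : List Nat := [2, 3, 0, 1, 0, 0]

def bW : List Nat := [1, 2, 2, 1, 2, 1, 2, 2, 1, 1]

def relCheck : Bool :=
  (evN (tW ++ tW)).beq (evN []) && (evN tW).red && (evN []).red && !(evN tW).beq (evN []) &&
  (evN (aW ++ tW)).beq (evN (tW ++ aW)) && (evN (bW ++ tW)).beq (evN (tW ++ bW)) &&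
  (evN (aW ++ aW)).beq (evN []) && (evN (List.replicate 5 bW).flatten).beq (evN []) &&
  (evN (List.replicate 3 (aW ++ bW)).flatten).beq (evN []) && (evN aW).red &&
  !(evN aW).beq (evN [])

set_option maxRecDepth 1000000 in
theorem relCheck_eq : relCheck = true := by decide +kernel

theorem rels_all :
    (ev (tW ++ tW) = ev [] ∧ ev tW ≠ ev []) ∧
    (ev (aW ++ tW) = ev (tW ++ aW) ∧ ev (bW ++ tW) = ev (tW ++ bW)) ∧
    (ev (aW ++ aW) = ev [] ∧ ev (List.replicate 5 bW).flatten = ev [] ∧
      ev (List.replicate 3 (aW ++ bW)).flatten = ev [] ∧ ev aW ≠ ev []) := by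
  have h := relCheck_eq
  unfold relCheck at h
  simp only [Bool.and_eq_true, Bool.not_eq_true'] at h
  obtain ⟨⟨⟨⟨⟨⟨⟨⟨⟨⟨h1, h2⟩, h3⟩, h4⟩, h5⟩, h6⟩, h7⟩, h8⟩, h9⟩, h10⟩, h11⟩ := h
  exact ⟨⟨ev_eq_of_beq h1, ev_ne_of_beq h2 h3 h4⟩, ⟨ev_eq_of_beq h5, ev_eq_of_beq h6⟩,
    ev_eq_of_beq h7, ev_eq_of_beq h8, ev_eq_of_beq h9, ev_ne_of_beq h10 h3 h11⟩

theorem tG_sq : tG * tG = 1 := by
  have h := rels_all.1.1
  rwa [ev_append, ev_nil] at h

theorem tG_ne : tG ≠ 1 := by
  have h := rels_all.1.2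
  rwa [ev_nil] at h

theorem orderOf_tG : orderOf tG = 2 := by
  have : Fact (Nat.Prime 2) := ⟨Nat.prime_two⟩
  apply orderOf_eq_prime
  · rw [pow_two]; exact tG_sq
  · exact tG_ne

/-- the centraliser of the involution -/
abbrev Ct : Subgroup G0 := Subgroup.centralizer ({tG} : Set G0)

theorem mem_Ct {g : G0} : g ∈ Ct ↔ tG * g = g * tG := by
  rw [Subgroup.mem_centralizer_iff]
  constructor
  · intro h; exact h tG rfl
  · rintro h _ rfl; exact h

theorem tG_mem_Ct : tG ∈ Ct := by rw [mem_Ct]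

/-- the involution as an element of its centraliser -/
def tC : Ct := ⟨tG, tG_mem_Ct⟩

theorem tC_comm (c : Ct) : tC * c = c * tC := Subtype.ext (mem_Ct.1 c.2)


theorem aW_mem_Ct : ev aW ∈ Ct := by
  rw [mem_Ct]
  have h := rels_all.2.1.1
  rw [ev_append, ev_append] at h
  exact h.symm

theorem bW_mem_Ct : ev bW ∈ Ct := by
  rw [mem_Ct]
  have h := rels_all.2.1.2
  rw [ev_append, ev_append] at h
  exact h.symm

def aC : Ct := ⟨ev aW, aW_mem_Ct⟩

def bC : Ct := ⟨ev bW, bW_mem_Ct⟩

theorem coe_aC : (aC : G0) = ev aW := rfl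

theorem coe_bC : (bC : G0) = ev bW := rfl

theorem coe_tC : (tC : G0) = tG := rfl

theorem tC_sq : tC * tC = 1 := by
  apply Subtype.ext
  rw [Subgroup.coe_mul, Subgroup.coe_one, coe_tC]
  exact tG_sq

theorem tC_ne : tC ≠ 1 := by
  intro h
  have h1 := congrArg Subtype.val h
  rw [Subgroup.coe_one, coe_tC] at h1
  exact tG_ne h1

theorem aC_sq : aC * aC = 1 := by
  apply Subtype.ext
  have h := rels_all.2.2.1
  rw [ev_append, ev_nil] at h
  rw [Subgroup.coe_mul, Subgroup.coe_one, coe_aC]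
  exact h

theorem bC_pow : bC ^ 5 = 1 := by
  apply Subtype.ext
  have h := rels_all.2.2.2.1
  rw [ev_replicate, ev_nil] at h
  rw [Subgroup.coe_pow, Subgroup.coe_one, coe_bC]
  exact h

theorem abC_pow : (aC * bC) ^ 3 = 1 := by
  apply Subtype.ext
  have h := rels_all.2.2.2.2.1
  rw [ev_replicate, ev_append, ev_nil] at h
  rw [Subgroup.coe_pow, Subgroup.coe_mul, Subgroup.coe_one, coe_aC, coe_bC]
  exact h

theorem aC_ne : aC ≠ 1 := by
  intro h
  have h' := rels_all.2.2.2.2.2
  rw [ev_nil] at h'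
  have h1 := congrArg Subtype.val h
  rw [Subgroup.coe_one, coe_aC] at h1
  exact h' h1

/-- the map from the cyclic group of order two -/
def f1 : Multiplicative (ZMod 2) →* Ct where
  toFun ε := tC ^ (Multiplicative.toAdd ε).val
  map_one' := by simp
  map_mul' := by
    intro a b
    have hsq : tC ^ 2 = 1 := by rw [pow_two]; exact tC_sq
    have key : ∀ x y : ZMod 2, tC ^ (x + y).val = tC ^ x.val * tC ^ y.val := by
      intro x y
      rw [ZMod.val_add, ← pow_eq_pow_mod _ hsq, pow_add]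
    exact key _ _

theorem f1_comm (ε : Multiplicative (ZMod 2)) (c : Ct) : Commute (f1 ε) c := by
  show tC ^ _ * c = c * tC ^ _
  exact (Commute.pow_left (tC_comm c) _)

theorem exists_iso : Nonempty (↥Ct ≃* Multiplicative (ZMod 2) × ↥(alternatingGroup (Fin 5))) := by
  obtain ⟨φ, hφx, hφz⟩ := Cfsg.Agent.Helper13.A5Pres.exists_hom aC bC aC_sq bC_pow abC_pow
  have hsimple : IsSimpleGroup (alternatingGroup (Fin 5)) :=
    alternatingGroup.isSimpleGroup (by simp)
  have hinjφ : Function.Injective φ := by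
    rw [← MonoidHom.ker_eq_bot_iff]
    rcases (inferInstance : φ.ker.Normal).eq_bot_or_eq_top with h | h
    · exact h
    · exfalso
      have : Cfsg.Agent.Helper13.A5Pres.x0 ∈ φ.ker := by rw [h]; trivial
      rw [MonoidHom.mem_ker, hφx] at this
      exact aC_ne this
  have hcenter : ∀ σ : alternatingGroup (Fin 5), (∀ τ, σ * τ = τ * σ) → σ = 1 := by
    intro σ hσ
    have hmem : σ ∈ Subgroup.center (alternatingGroup (Fin 5)) := by
      rw [Subgroup.mem_center_iff]
      intro τ; exact (hσ τ).symm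
    rcases (inferInstance : (Subgroup.center (alternatingGroup (Fin 5))).Normal).eq_bot_or_eq_top
      with h | h
    · rw [h] at hmem; exact Subgroup.mem_bot.1 hmem
    · exfalso
      have h1 : Cfsg.Agent.Helper13.A5Pres.x0 ∈ Subgroup.center (alternatingGroup (Fin 5)) := by
        rw [h]; trivial
      rw [Subgroup.mem_center_iff] at h1
      have h2 := h1 Cfsg.Agent.Helper13.A5Pres.z0
      revert h2
      decide
  let ψ : Multiplicative (ZMod 2) × ↥(alternatingGroup (Fin 5)) →* Ct :=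
    MonoidHom.noncommCoprod f1 φ (fun ε σ => f1_comm ε (φ σ))
  have hψ : ∀ ε σ, ψ (ε, σ) = f1 ε * φ σ := fun ε σ => MonoidHom.noncommCoprod_apply _ _ _ _
  have hinj : Function.Injective ψ := by
    rw [injective_iff_map_eq_one]
    rintro ⟨ε, σ⟩ h
    rw [hψ] at h
    have hε : ∀ x : ZMod 2, f1 (Multiplicative.ofAdd x) * φ σ = 1 →
        (Multiplicative.ofAdd x, σ) = (1 : Multiplicative (ZMod 2) × ↥(alternatingGroup (Fin 5))) := by
      intro x hx
      rcases (by decide : ∀ x : ZMod 2, x = 0 ∨ x = 1) x with rfl | rfl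
      · have h1 : f1 (Multiplicative.ofAdd (0 : ZMod 2)) = 1 := by simp
        have hx' : f1 (Multiplicative.ofAdd (0 : ZMod 2)) * φ σ = 1 := hx
        rw [h1, one_mul] at hx'
        have : σ = 1 := hinjφ (by rw [hx', map_one])
        rw [this]; rfl
      · exfalso
        have h1 : f1 (Multiplicative.ofAdd (1 : ZMod 2)) = tC := by
          show tC ^ (1 : ZMod 2).val = tC
          have : (1 : ZMod 2).val = 1 := by decide
          rw [this, pow_one]
        have hx' : f1 (Multiplicative.ofAdd (1 : ZMod 2)) * φ σ = 1 := hx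
        rw [h1] at hx'
        have h2 : φ σ = tC := by
          have : tC * φ σ = tC * tC := by rw [hx', tC_sq]
          exact mul_left_cancel this
        have h3 : σ = 1 := by
          apply hcenter
          intro τ
          apply hinjφ
          rw [map_mul, map_mul, h2, tC_comm]
        rw [h3, map_one] at h2
        exact tC_ne h2.symm
    exact hε (Multiplicative.toAdd ε) h
  have hcard : Nat.card Ct ≤ Nat.card (Multiplicative (ZMod 2) × ↥(alternatingGroup (Fin 5))) := by
    have h60 : Nat.card (alternatingGroup (Fin 5)) = 60 := by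
      rw [Nat.card_eq_fintype_card]; decide
    have h2 : Nat.card (Multiplicative (ZMod 2)) = 2 := by
      rw [Nat.card_eq_fintype_card]; rfl
    rw [Nat.card_prod, h60, h2]
    exact card_centralizer_le
  exact ⟨(MulEquiv.ofBijective ψ (hinj.bijective_of_nat_card_le hcard)).symm⟩

end Cfsg.Agent.Helper14.J1
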