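import Mathlib
import Cfsg.Agent.Helper14.J1Inv
import Cfsg.Agent.Helper14.J1G

/-!
# Every automorphism of the Janko matrix group is inner: the computational certificates
-/

set_option autoImplicit false

namespace Cfsg.Agent.Helper14.J1

open Cfsg Cfsg.Spor

/-- an element of order 3 -/
def g3W : List Nat := [0, 0, 0, 1, 0, 1, 0, 1]

/-- conjugates `g3` to its inverse -/
def kW : List Nat := [3, 2, 1, 1, 0, 0]

/-- words in `a = 0`, `b = 1`, `b⁻¹ = 2` evaluated at `a := A`, `b := g3` -/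
def abN (A : M7) : List Nat → M7
  | [] => M7.one
  | 0 :: w => A.mul (abN A w)
  | 1 :: w => (evN g3W).mul (abN A w)
  | _ :: w => (evN (invW g3W)).mul (abN A w)

def pw7N (M : M7) : M7 := (((M.mul M).mul (M.mul M)).mul (M.mul M)).mul M

def pw10N (M : M7) : M7 :=
  (((M.mul M).mul (M.mul M)).mul ((M.mul M).mul (M.mul M))).mul (M.mul M)

/-- the third relator word -/
def w3ab : List Nat := [0, 1, 0, 1, 0, 2, 0, 1, 0, 2, 0, 2]

/-- the three relators evaluated on data -/
def relN (r : Nat) (A : M7) : M7 :=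
  match r with
  | 1 => pw7N (abN A [0, 1])
  | 2 => pw10N (abN A [0, 1, 0, 2])
  | _ => pw10N (abN A w3ab)

/-- `X` and `Y` as words in `t` and `g3` -/
def wXab : List Nat := [0, 2, 0, 1, 0, 2, 0, 2, 0, 1, 0, 1, 0, 2, 0, 2, 0, 1, 0, 2, 0, 1, 0, 2, 0, 2,
  0, 1, 0, 1, 0, 2, 0, 1, 0, 2, 0, 1, 0, 2, 0, 2, 0, 2]

def wYab : List Nat := [1, 0, 1, 0, 1, 0, 2, 0, 2, 0, 1, 0, 2, 0, 2, 0, 1, 0, 2, 0, 1, 0, 2, 0, 1, 0,
  2, 0, 2, 0, 1, 0, 2, 0, 1, 0, 1, 0, 2, 0]

def chkI (e k : Nat) : Bool :=
  if k % 4 = 0 then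
    (evN (c3W.getD (k / 4) [] ++ tW ++ invW (c3W.getD (k / 4) []))).beq (M7.ofNat e)
  else
    (relN (k % 4) (M7.ofNat e)).red && !(relN (k % 4) (M7.ofNat e)).beq M7.one

def checkI : Bool := (List.range 1463).all fun i => chkI (getC i) (icert.getD i 0)

def checkMisc : Bool :=
  -- centraliser words commute with g3
  (c3W.all fun w => (evN (w ++ g3W)).beq (evN (g3W ++ w))) &&
  -- k inverts g3
  (evN (kW ++ g3W ++ invW kW)).beq (evN (invW g3W)) &&
  -- the relators hold at (t, g3)
  (relN 1 (evN tW)).beq M7.one && (relN 2 (evN tW)).beq M7.one &&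
  (relN 3 (evN tW)).beq M7.one &&
  -- generation
  (abN (evN tW) wXab).beq (evN [0]) && (abN (evN tW) wYab).beq (evN [1]) &&
  -- the involutions of P8 are conjugate under X
  (Pw.all fun w => decide (w = []) || (List.range 7).any fun j =>
    (evN w).beq (evN (List.replicate j 0 ++ tW ++ invW (List.replicate j 0)))) &&
  M7.one.red

set_option maxRecDepth 1000000 in
set_option maxHeartbeats 0 in
theorem checkI_eq : checkI = true := by decide +kernel

set_option maxRecDepth 1000000 in
theorem checkMisc_eq : checkMisc = true := by decide +kernel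

set_option maxRecDepth 1000000 in
theorem flat_eq : cls.flatten = (List.range 1463).map getC := by decide +kernel

end Cfsg.Agent.Helper14.J1
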