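import Mathlib
import Cfsg.Agent.Helper14.J1H

/-!
# Every automorphism of the Janko matrix group is inner
-/

set_option autoImplicit false

namespace Cfsg.Agent.Helper14.J1

open Cfsg Cfsg.Spor

attribute [local irreducible] cls icert

/-- Two elements of prime order `p` in a finite group of order divisible by `p` exactly once: one is
conjugate to a power of the other. -/
theorem exists_conj_zpow {G : Type*} [Group G] [Finite G] (p : ℕ) [hp : Fact p.Prime]
    (hpp : ¬ p ^ 2 ∣ Nat.card G) (x y : G) (hx : orderOf x = p) (hy : orderOf y = p) :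
    ∃ h : G, ∃ j : ℤ, x = h * y ^ j * h⁻¹ := by
  have hpG : p ∣ Nat.card G := by rw [← hx]; exact orderOf_dvd_natCard x
  have hfac : (Nat.card G).factorization p = 1 := by
    have h1 : 1 ≤ (Nat.card G).factorization p := by
      rw [← hp.out.pow_dvd_iff_le_factorization Nat.card_pos.ne', pow_one]; exact hpG
    have h2 : ¬ 2 ≤ (Nat.card G).factorization p := by
      rw [← hp.out.pow_dvd_iff_le_factorization Nat.card_pos.ne']; exact hpp
    omega
  have hcardz : ∀ z : G, orderOf z = p → ∀ S : Sylow p G, Subgroup.zpowers z ≤ S →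
      Subgroup.zpowers z = S := by
    intro z hz S hle
    apply Subgroup.eq_of_le_of_card_ge hle
    rw [Sylow.card_eq_multiplicity, hfac, pow_one, Nat.card_zpowers, hz]
  have hpg : ∀ z : G, orderOf z = p → IsPGroup p (Subgroup.zpowers z) := by
    intro z hz
    apply IsPGroup.of_card (n := 1)
    rw [Nat.card_zpowers, hz, pow_one]
  obtain ⟨S, hS⟩ := (hpg x hx).exists_le_sylow
  obtain ⟨T, hT⟩ := (hpg y hy).exists_le_sylow
  have hS' := hcardz x hx S hS
  have hT' := hcardz y hy T hT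
  obtain ⟨c, hc⟩ := MulAction.exists_smul_eq G T S
  have hxS : x ∈ (S : Subgroup G) := by rw [← hS']; exact Subgroup.mem_zpowers x
  rw [← hc, Sylow.coe_subgroup_smul, Subgroup.mem_pointwise_smul_iff_inv_smul_mem, ← hT'] at hxS
  have e : (MulAut.conj c)⁻¹ • x = c⁻¹ * x * c := by
    rw [← map_inv, MulAut.smul_def, MulAut.conj_apply, inv_inv]
  rw [e] at hxS
  obtain ⟨j, hj⟩ := Subgroup.mem_zpowers_iff.1 hxS
  refine ⟨c, j, ?_⟩
  rw [hj]; group

/-- If `m` distinct conjugates of `t` satisfy `m * |C(t)| = |G|`, they are all the conjugates. -/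
theorem conj_mem_of_card_eq {G : Type*} [Group G] [Finite G] (t : G) {ι : Type*} [Fintype ι]
    (s : ι → G) (hs : Function.Injective s) (hconj : ∀ i, ∃ g : G, g * t * g⁻¹ = s i)
    (hcard : Nat.card G ≤ Fintype.card ι * Nat.card (Subgroup.centralizer ({t} : Set G))) :
    ∀ g : G, ∃ i, g * t * g⁻¹ = s i := by
  choose g hg using hconj
  let f : ι × Subgroup.centralizer ({t} : Set G) → G := fun p => g p.1 * p.2
  have hcomm : ∀ c : Subgroup.centralizer ({t} : Set G), (c : G) * t * (c : G)⁻¹ = t := by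
    intro c
    have h := Subgroup.mem_centralizer_iff.1 c.2 t (Set.mem_singleton t)
    rw [← h, mul_assoc, mul_inv_cancel, mul_one]
  have hf : ∀ p, f p * t * (f p)⁻¹ = s p.1 := by
    intro p
    have : f p * t * (f p)⁻¹ = g p.1 * ((p.2 : G) * t * (p.2 : G)⁻¹) * (g p.1)⁻¹ := by
      simp only [f]; group
    rw [this, hcomm, hg]
  have hinj : Function.Injective f := by
    intro p q hpq
    have h1 : s p.1 = s q.1 := by rw [← hf p, ← hf q, hpq]
    have h2 : p.1 = q.1 := hs h1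
    have h3 : g p.1 * (p.2 : G) = g q.1 * (q.2 : G) := hpq
    rw [h2] at h3
    have h4 : (p.2 : G) = (q.2 : G) := mul_left_cancel h3
    exact Prod.ext h2 (Subtype.ext h4)
  have hbij : Function.Bijective f := by
    apply hinj.bijective_of_nat_card_le
    rw [Nat.card_prod, Nat.card_eq_fintype_card (α := ι)]
    exact hcard
  intro x
  obtain ⟨p, hp⟩ := hbij.2 x
  exact ⟨p.1, by rw [← hp, hf]⟩

theorem card_Ct : Nat.card Ct = 120 := by
  obtain ⟨e⟩ := exists_iso
  rw [Nat.card_congr e.toEquiv, Nat.card_prod]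
  have h60 : Nat.card (alternatingGroup (Fin 5)) = 60 := by
    rw [Nat.card_eq_fintype_card]; decide
  have h2 : Nat.card (Multiplicative (ZMod 2)) = 2 := by
    rw [Nat.card_eq_fintype_card]; rfl
  rw [h60, h2]

/-- every conjugate of the involution is in the table -/
theorem conj_mem_cls (g : G0) : ∃ e ∈ cls.flatten,
    (((g * tG * g⁻¹ : G0) : GL (Fin 7) (ZMod 11)) : Mat) = toMat (M7.ofNat e) := by
  have key : ∀ e : ↥cls.flatten.toFinset, ∃ s : G0, (∃ g : G0, g * tG * g⁻¹ = s) ∧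
      ((s : GL (Fin 7) (ZMod 11)) : Mat) = toMat (M7.ofNat e.1) := by
    intro e
    obtain ⟨g, hg⟩ := conj_of_mem _ e.1 (List.mem_toFinset.1 e.2) rfl
    exact ⟨_, ⟨g, rfl⟩, hg⟩
  choose s hs1 hs2 using key
  have hinj : Function.Injective s := by
    intro e e' hee
    apply Subtype.ext
    apply toMat_inj_cls (List.mem_toFinset.1 e.2) (List.mem_toFinset.1 e'.2)
    rw [← hs2, ← hs2, hee]
  have hcard : Nat.card G0 ≤ Fintype.card ↥cls.flatten.toFinset *
      Nat.card (Subgroup.centralizer ({tG} : Set G0)) := by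
    rw [Fintype.card_coe, List.toFinset_card_of_nodup nodup_cls, length_cls]
    have h1 : Nat.card G0 = 175560 := card_eq
    have h2 : Nat.card (Subgroup.centralizer ({tG} : Set G0)) = 120 := card_Ct
    rw [h1, h2]
  obtain ⟨e, he⟩ := conj_mem_of_card_eq tG s hinj hs1 hcard g
  exact ⟨e.1, List.mem_toFinset.1 e.2, by rw [he, hs2]⟩


/-! ### Group-level evaluation of words in `a` and `g3` -/

/-- the element of order 3 -/
def g3G : G0 := ev g3W

theorem orderOf_g3G : orderOf g3G = 3 :=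
  orderOf_of_mem_ordTable (g3W, 3) (by decide) (by norm_num)

theorem coe_ev (w : List Nat) :
    (((ev w : G0) : GL (Fin 7) (ZMod 11)) : Mat) = toMat (evN w) := coe_evG w

theorem eq_of_coe_eq {a b : G0}
    (h : ((a : GL (Fin 7) (ZMod 11)) : Mat) = ((b : GL (Fin 7) (ZMod 11)) : Mat)) : a = b :=
  Subtype.ext (Units.ext h)

theorem coe_one_G0 : (((1 : G0) : GL (Fin 7) (ZMod 11)) : Mat) = toMat M7.one := by
  rw [toMat_one]; rfl

/-- words in `a = 0`, `b = 1`, `b⁻¹ = 2` evaluated in the group at `b := g3G` -/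
def abG (a : G0) : List Nat → G0
  | [] => 1
  | 0 :: w => a * abG a w
  | 1 :: w => g3G * abG a w
  | _ :: w => g3G⁻¹ * abG a w

theorem coe_abG (a : G0) (A : M7) (h : ((a : GL (Fin 7) (ZMod 11)) : Mat) = toMat A)
    (w : List Nat) : (((abG a w : G0) : GL (Fin 7) (ZMod 11)) : Mat) = toMat (abN A w) := by
  induction w with
  | nil => exact coe_one_G0
  | cons c w ih =>
    rcases c with _ | _ | c
    · show (((a * abG a w : G0) : GL (Fin 7) (ZMod 11)) : Mat) = toMat (A.mul (abN A w))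
      rw [coe_G0_mul, toMat_mul, h, ih]
    · show (((g3G * abG a w : G0) : GL (Fin 7) (ZMod 11)) : Mat) =
        toMat ((evN g3W).mul (abN A w))
      rw [coe_G0_mul, toMat_mul, ih, ← coe_ev]; rfl
    · show (((g3G⁻¹ * abG a w : G0) : GL (Fin 7) (ZMod 11)) : Mat) =
        toMat ((evN (invW g3W)).mul (abN A w))
      rw [coe_G0_mul, toMat_mul, ih, ← coe_ev, ev_invW]; rfl

theorem map_abG (α : G0 ≃* G0) (h : α g3G = g3G) (a : G0) (w : List Nat) :
    α (abG a w) = abG (α a) w := by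
  induction w with
  | nil => exact map_one α
  | cons c w ih =>
    rcases c with _ | _ | c
    · show α (a * abG a w) = α a * abG (α a) w
      rw [map_mul, ih]
    · show α (g3G * abG a w) = g3G * abG (α a) w
      rw [map_mul, ih, h]
    · show α (g3G⁻¹ * abG a w) = g3G⁻¹ * abG (α a) w
      rw [map_mul, map_inv, ih, h]

theorem coe_pw7 (m : G0) (M : M7) (h : ((m : GL (Fin 7) (ZMod 11)) : Mat) = toMat M) :
    (((m ^ 7 : G0) : GL (Fin 7) (ZMod 11)) : Mat) = toMat (pw7N M) := by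
  have e : m ^ 7 = (((m * m) * (m * m)) * (m * m)) * m := by
    simp only [pow_succ, pow_zero, one_mul, mul_assoc]
  rw [e]
  unfold pw7N
  simp only [coe_G0_mul, toMat_mul, h]

theorem coe_pw10 (m : G0) (M : M7) (h : ((m : GL (Fin 7) (ZMod 11)) : Mat) = toMat M) :
    (((m ^ 10 : G0) : GL (Fin 7) (ZMod 11)) : Mat) = toMat (pw10N M) := by
  have e : m ^ 10 = (((m * m) * (m * m)) * ((m * m) * (m * m))) * (m * m) := by
    simp only [pow_succ, pow_zero, one_mul, mul_assoc]
  rw [e]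
  unfold pw10N
  simp only [coe_G0_mul, toMat_mul, h]

/-- the three relators evaluated in the group -/
def relG (r : Nat) (a : G0) : G0 :=
  match r with
  | 1 => (abG a [0, 1]) ^ 7
  | 2 => (abG a [0, 1, 0, 2]) ^ 10
  | _ => (abG a w3ab) ^ 10

theorem coe_relG (r : Nat) (a : G0) (A : M7) (h : ((a : GL (Fin 7) (ZMod 11)) : Mat) = toMat A) :
    (((relG r a : G0) : GL (Fin 7) (ZMod 11)) : Mat) = toMat (relN r A) := by
  rcases r with _ | _ | _ | r
  · exact coe_pw10 _ _ (coe_abG a A h _)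
  · exact coe_pw7 _ _ (coe_abG a A h _)
  · exact coe_pw10 _ _ (coe_abG a A h _)
  · exact coe_pw10 _ _ (coe_abG a A h _)

theorem map_relG (α : G0 ≃* G0) (h : α g3G = g3G) (r : Nat) (a : G0) :
    α (relG r a) = relG r (α a) := by
  rcases r with _ | _ | _ | r
  · show α ((abG a w3ab) ^ 10) = (abG (α a) w3ab) ^ 10
    rw [map_pow, map_abG α h]
  · show α ((abG a [0, 1]) ^ 7) = (abG (α a) [0, 1]) ^ 7
    rw [map_pow, map_abG α h]
  · show α ((abG a [0, 1, 0, 2]) ^ 10) = (abG (α a) [0, 1, 0, 2]) ^ 10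
    rw [map_pow, map_abG α h]
  · show α ((abG a w3ab) ^ 10) = (abG (α a) w3ab) ^ 10
    rw [map_pow, map_abG α h]


/-! ### The facts certified by `checkMisc` -/

theorem misc :
    (∀ w ∈ c3W, ev w * g3G = g3G * ev w) ∧
    (ev kW * g3G * (ev kW)⁻¹ = g3G⁻¹) ∧
    (∀ r, relG r tG = 1) ∧
    (abG tG wXab = ev [0]) ∧ (abG tG wYab = ev [1]) ∧
    (∀ w ∈ Pw, w = [] ∨ ∃ j : ℕ,
      ev w = ev (List.replicate j 0) * tG * (ev (List.replicate j 0))⁻¹) := by
  have h := checkMisc_eq
  unfold checkMisc at h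
  simp only [Bool.and_eq_true] at h
  obtain ⟨⟨⟨⟨⟨⟨⟨⟨h1, h2⟩, h3⟩, h4⟩, h5⟩, h6⟩, h7⟩, h8⟩, h9⟩ := h
  refine ⟨?_, ?_, ?_, ?_, ?_, ?_⟩
  · intro w hw
    have h := ev_eq_of_beq (List.all_eq_true.1 h1 w hw)
    rwa [ev_append, ev_append] at h
  · have h := ev_eq_of_beq h2
    rwa [ev_append, ev_append, ev_invW, ev_invW] at h
  · intro r
    apply eq_of_coe_eq
    rw [coe_relG r tG (evN tW) (coe_ev tW), coe_one_G0]
    rcases r with _ | _ | _ | r
    · exact congrArg toMat (M7.eq_of_beq h5)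
    · exact congrArg toMat (M7.eq_of_beq h3)
    · exact congrArg toMat (M7.eq_of_beq h4)
    · exact congrArg toMat (M7.eq_of_beq h5)
  · apply eq_of_coe_eq
    rw [coe_abG tG (evN tW) (coe_ev tW), coe_ev, M7.eq_of_beq h6]
  · apply eq_of_coe_eq
    rw [coe_abG tG (evN tW) (coe_ev tW), coe_ev, M7.eq_of_beq h7]
  · intro w hw
    have h := List.all_eq_true.1 h8 w hw
    rw [Bool.or_eq_true, decide_eq_true_eq, List.any_eq_true] at h
    rcases h with h | ⟨j, _, hj⟩
    · left; exact h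
    · right
      refine ⟨j, ?_⟩
      have h := ev_eq_of_beq hj
      rwa [ev_append, ev_append, ev_invW] at h

/-! ### Conjugacy of elements of order 3 and of involutions -/

theorem conj_g3 (x : G0) (hx : orderOf x = 3) : ∃ h : G0, x = h * g3G * h⁻¹ := by
  have : Fact (Nat.Prime 3) := ⟨by norm_num⟩
  have hc : ¬ 3 ^ 2 ∣ Nat.card G0 := by
    have h : Nat.card G0 = 175560 := card_eq
    rw [h]; norm_num
  obtain ⟨h, j, hj⟩ := exists_conj_zpow 3 hc x g3G hx orderOf_g3G
  have hmod : g3G ^ j = g3G ^ (j % 3) := by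
    have h := zpow_mod_orderOf g3G j
    rw [orderOf_g3G] at h
    exact h.symm
  have hj3 : j % 3 = 0 ∨ j % 3 = 1 ∨ j % 3 = 2 := by omega
  rcases hj3 with h0 | h1 | h2
  · exfalso
    rw [hmod, h0, zpow_zero, mul_one, mul_inv_cancel] at hj
    rw [hj, orderOf_one] at hx
    omega
  · exact ⟨h, by rw [hj, hmod, h1, zpow_one]⟩
  · refine ⟨h * ev kW, ?_⟩
    have e : g3G ^ (2 : ℤ) = g3G⁻¹ := by
      have h3 : g3G ^ 3 = 1 := by rw [← orderOf_g3G]; exact pow_orderOf_eq_one _
      rw [eq_inv_iff_mul_eq_one]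
      have : g3G ^ (2 : ℤ) * g3G = g3G ^ 3 := by
        rw [show (2 : ℤ) = ((2 : ℕ) : ℤ) from rfl, zpow_natCast, ← pow_succ]
      rw [this, h3]
    rw [hj, hmod, h2, e, ← misc.2.1]
    group

theorem exists_conj_mem_of_not_dvd_index {G : Type*} [Group G] [Finite G] (p : ℕ)
    [Fact p.Prime] (P : Subgroup G) (hP : IsPGroup p P) (hidx : ¬ p ∣ P.index) (x : G)
    (hx : IsPGroup p (Subgroup.zpowers x)) : ∃ c : G, c⁻¹ * x * c ∈ P := by
  obtain ⟨S, hS⟩ := hx.exists_le_sylow
  obtain ⟨c, hc⟩ := MulAction.exists_smul_eq G (hP.toSylow hidx) S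
  have hxS : x ∈ (S : Subgroup G) := hS (Subgroup.mem_zpowers x)
  rw [← hc, Sylow.coe_subgroup_smul, Subgroup.mem_pointwise_smul_iff_inv_smul_mem] at hxS
  have e : (MulAut.conj c)⁻¹ • x = c⁻¹ * x * c := by
    rw [← map_inv, MulAut.smul_def, MulAut.conj_apply, inv_inv]
  rw [e] at hxS
  exact ⟨c, (IsPGroup.mem_toSylow hP hidx).1 hxS⟩

theorem conj_tG (x : G0) (hx : orderOf x = 2) : ∃ g : G0, x = g * tG * g⁻¹ := by
  have : Fact (Nat.Prime 2) := ⟨Nat.prime_two⟩
  have hP : IsPGroup 2 P8 := IsPGroup.of_card (n := 3) (by rw [card_P8]; norm_num)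
  have hidx : ¬ 2 ∣ P8.index := by
    have h1 := P8.card_mul_index
    have h2 : Nat.card G0 = 175560 := card_eq
    rw [card_P8, h2] at h1
    omega
  have hxp : IsPGroup 2 (Subgroup.zpowers x) :=
    IsPGroup.of_card (n := 1) (by rw [Nat.card_zpowers, hx, pow_one])
  obtain ⟨c, hc⟩ := exists_conj_mem_of_not_dvd_index 2 P8 hP hidx x hxp
  obtain ⟨w, hw, hcw⟩ := mem_P8.1 hc
  have hx' : x = c * (c⁻¹ * x * c) * c⁻¹ := by group
  rcases misc.2.2.2.2.2 w hw with rfl | ⟨j, hj⟩
  · exfalso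
    rw [ev_nil] at hcw
    rw [hcw, mul_one, mul_inv_cancel] at hx'
    rw [hx', orderOf_one] at hx
    omega
  · refine ⟨c * ev (List.replicate j 0), ?_⟩
    rw [hj] at hcw
    rw [hx', hcw]
    group

/-! ### Every automorphism is inner -/

theorem relN_one_of_fix (β : MulAut G0) (hβ3 : β g3G = g3G) (r : Nat) (e : Nat)
    (hcoe : (((β tG : G0) : GL (Fin 7) (ZMod 11)) : Mat) = toMat (M7.ofNat e)) :
    toMat (relN r (M7.ofNat e)) = toMat M7.one := by
  rw [← coe_relG r (β tG) (M7.ofNat e) hcoe, ← map_relG β hβ3, misc.2.2.1 r, map_one, coe_one_G0]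

theorem inner (α : MulAut G0) : α ∈ (MulAut.conj : G0 →* MulAut G0).range := by
  -- Step 1: make `α` fix `g3G`
  have ho : orderOf (α g3G) = 3 := by rw [MulEquiv.orderOf_eq, orderOf_g3G]
  obtain ⟨h, hh⟩ := conj_g3 (α g3G) ho
  obtain ⟨β, hβ⟩ : ∃ β : MulAut G0, β = (MulAut.conj h)⁻¹ * α := ⟨_, rfl⟩
  have hβ3 : β g3G = g3G := by
    rw [hβ, MulAut.mul_apply, hh, MulAut.conj_inv_apply]
    group
  -- Step 2: the image of `tG`
  have ho2 : orderOf (β tG) = 2 := by rw [MulEquiv.orderOf_eq, orderOf_tG]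
  obtain ⟨g, hg⟩ := conj_tG (β tG) ho2
  obtain ⟨e, he, hcoe⟩ := conj_mem_cls g
  rw [← hg] at hcoe
  rw [flat_eq, List.mem_map] at he
  obtain ⟨i, hi, rfl⟩ := he
  have hchk : chkI (getC i) (icert.getD i 0) = true := by
    have h := checkI_eq
    unfold checkI at h
    rw [List.all_eq_true] at h
    exact h i hi
  obtain ⟨k, hk⟩ : ∃ k, k = icert.getD i 0 := ⟨_, rfl⟩
  rw [← hk] at hchk
  unfold chkI at hchk
  by_cases hk0 : k % 4 = 0
  · rw [if_pos hk0] at hchk
    obtain ⟨cj, hcj⟩ : ∃ cj, cj = c3W.getD (k / 4) [] := ⟨_, rfl⟩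
    rw [← hcj] at hchk
    have ha' : β tG = ev cj * tG * (ev cj)⁻¹ := by
      apply eq_of_coe_eq
      rw [hcoe, ← M7.eq_of_beq hchk, ← coe_ev, ev_append, ev_append, ev_invW]
      rfl
    have hcomm : ev cj * g3G = g3G * ev cj := by
      rcases getD_mem_or c3W (k / 4) [] with h | h
      · rw [hcj]; exact misc.1 _ h
      · rw [hcj, h, ev_nil, one_mul, mul_one]
    obtain ⟨γ, hγ⟩ : ∃ γ : MulAut G0, γ = (MulAut.conj (ev cj))⁻¹ * β := ⟨_, rfl⟩
    have hγ3 : γ g3G = g3G := by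
      rw [hγ, MulAut.mul_apply, hβ3, MulAut.conj_inv_apply, mul_assoc, ← hcomm,
        inv_mul_cancel_left]
    have hγt : γ tG = tG := by
      rw [hγ, MulAut.mul_apply, ha', MulAut.conj_inv_apply]
      group
    have hγx : γ (ev [0]) = ev [0] := by
      rw [← misc.2.2.2.1, map_abG γ hγ3, hγt]
    have hγy : γ (ev [1]) = ev [1] := by
      rw [← misc.2.2.2.2.1, map_abG γ hγ3, hγt]
    have hγ1 : γ.toMonoidHom = MonoidHom.id G0 := by
      apply MonoidHom.eq_of_eqOn_dense closure_gens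
      rintro x (rfl | rfl)
      · exact hγx
      · exact hγy
    have hγ1' : γ = 1 := by
      apply MulEquiv.ext
      intro x
      exact DFunLike.congr_fun hγ1 x
    refine ⟨h * ev cj, ?_⟩
    rw [map_mul]
    rw [hγ, hβ] at hγ1'
    -- (conj cj)⁻¹ * ((conj h)⁻¹ * α) = 1
    have : α = MulAut.conj h * MulAut.conj (ev cj) *
        ((MulAut.conj (ev cj))⁻¹ * ((MulAut.conj h)⁻¹ * α)) := by group
    rw [this, hγ1', mul_one]
  · exfalso
    rw [if_neg hk0, Bool.and_eq_true, Bool.not_eq_true'] at hchk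
    have h1 := relN_one_of_fix β hβ3 (k % 4) (getC i) hcoe
    have h9 : M7.one.red = true := by
      have h := checkMisc_eq
      unfold checkMisc at h
      rw [Bool.and_eq_true] at h
      exact h.2
    have h2 := eq_of_toMat_eq hchk.1 h9 h1
    rw [h2] at hchk
    have h3 : M7.one.beq M7.one = true := by decide
    rw [h3] at hchk
    exact Bool.noConfusion hchk.2

end Cfsg.Agent.Helper14.J1
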