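import Mathlib
import Cfsg.Agent.Helper14.J1I

/-!
# Centralisers in the Janko matrix group via the decomposition `G = R · H`

`H` (57 elements) is the stabiliser of the vector `b1`.  For an element `u` (data `U`), an element
`g = r h` commuting with `u` satisfies `r (h (u b1)) = u (r b1)`; this filter leaves few candidates,
which are checked directly: each commuting one satisfies `g ^ p = 1`.
-/

set_option autoImplicit false

namespace Cfsg.Agent.Helper14.J1

open Cfsg Cfsg.Spor

/-- base vector fixed by the subgroup of order 57 -/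
def b1 : V7 := ⟨1, 4, 0, 0, 6, 0, 1⟩

/-- matrix times vector on data -/
def mv (A : M7) (v : V7) : V7 := M7.rowMul v A

/-- the vector over `ZMod 11` described by the data -/
def toVec (v : V7) : Fin 7 → ZMod 11 := fun j => ((v.get j : Nat) : ZMod 11)

theorem toVec_mv (A : M7) (v : V7) : toVec (mv A v) = (toMat A).mulVec (toVec v) := by
  funext j
  show (((M7.rowMul v A).get j : Nat) : ZMod 11) = ∑ k, toMat A j k * toVec v k
  rw [get_rowMul, V7.dot_eq, ZMod.natCast_mod, Nat.cast_sum]
  apply Finset.sum_congr rfl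
  intro k _
  rw [Nat.cast_mul, toMat_apply]
  exact mul_comm _ _

theorem V7.red_rowMul (r : V7) (B : M7) : (M7.rowMul r B).red = true := by
  have h : ∀ x : Nat, Nat.ble (x % 11) 10 = true := by
    intro x
    rw [Nat.ble_eq]
    have := Nat.mod_lt x (show 0 < 11 by norm_num)
    omega
  simp only [M7.rowMul, V7.red, V7.dot, h, Bool.and_self]

theorem M7.red_mul (A B : M7) : (A.mul B).red = true := by
  simp only [M7.mul, M7.mulT, M7.red, V7.red_rowMul, Bool.and_self]

theorem red_mv (A : M7) (v : V7) : (mv A v).red = true := V7.red_rowMul v A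

theorem V7.beq_self (v : V7) : v.beq v = true := by
  obtain ⟨a0, a1, a2, a3, a4, a5, a6⟩ := v
  simp [V7.beq, Nat.beq_refl]

theorem M7.beq_self (A : M7) : A.beq A = true := by
  obtain ⟨r0, r1, r2, r3, r4, r5, r6⟩ := A
  simp [M7.beq, V7.beq_self]

theorem eq_of_toVec_eq {u v : V7} (hu : u.red = true) (hv : v.red = true)
    (h : toVec u = toVec v) : u = v := by
  apply V7.ext_get
  intro j
  have h1 : ((u.get j : Nat) : ZMod 11) = ((v.get j : Nat) : ZMod 11) := congrFun h j
  rw [ZMod.natCast_eq_natCast_iff'] at h1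
  have h2 := V7.get_lt_of_red hu j
  have h3 := V7.get_lt_of_red hv j
  rw [Nat.mod_eq_of_lt h2, Nat.mod_eq_of_lt h3] at h1
  exact h1

/-- powers on data -/
def powN (A : M7) : Nat → M7
  | 0 => M7.one
  | n + 1 => A.mul (powN A n)

theorem toMat_powN (A : M7) (n : ℕ) : toMat (powN A n) = toMat A ^ n := by
  induction n with
  | zero => simp [powN, toMat_one]
  | succ n ih => rw [powN, toMat_mul, ih, pow_succ']

/-- a candidate either does not commute with `U` or has `p`-th power one -/
def candCheck (U : M7) (p : Nat) (R Hn : M7) : Bool :=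
  !((R.mul Hn).mul U).beq (U.mul (R.mul Hn)) || (powN (R.mul Hn) p).beq M7.one

/-- the check for one coset representative, given `s = U (R b1)` and `v = Rᵀ s` -/
def chkCentAux (U : M7) (p : Nat) (W : List V7) (R : M7) (s v : V7) : Bool :=
  (mv R v).beq s &&
    (Hcodes.zip W).all fun hw => !(hw.2.beq v) || candCheck U p R (M7.ofNat hw.1)

def chkCent (U : M7) (p : Nat) (W : List V7) (e : Nat) : Bool :=
  chkCentAux U p W (M7.ofNat e) (mv U (mv (M7.ofNat e) b1))
    (mv (M7.ofNat e).tr (mv U (mv (M7.ofNat e) b1)))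

def centCheck (U : M7) (p : Nat) (W : List V7) : Bool :=
  entries.all fun ch => ch.all (chkCent U p W)

/-- the 57 elements fix `b1` -/
def fixCheck : Bool := Hcodes.all fun h => (mv (M7.ofNat h) b1).beq b1

/-- the list `W` consists of the vectors `h (U b1)` -/
def wCheck (U : M7) (W : List V7) : Bool :=
  Nat.beq W.length 57 &&
    (Hcodes.zip W).all fun hw => (mv (M7.ofNat hw.1) (mv U b1)).beq hw.2

set_option maxRecDepth 1000000 in
theorem fixCheck_eq : fixCheck = true := by decide +kernel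

theorem exists_mem_zip {α β : Type*} (l : List α) (l' : List β) (hl : l.length = l'.length)
    {a : α} (ha : a ∈ l) : ∃ b, (a, b) ∈ l.zip l' := by
  obtain ⟨i, hi, rfl⟩ := List.mem_iff_getElem.1 ha
  have hi' : i < l'.length := hl ▸ hi
  have hz : i < (l.zip l').length := by
    rw [List.length_zip]; exact lt_min hi hi'
  refine ⟨l'[i], ?_⟩
  have h := List.getElem_zip (l := l) (l' := l') (i := i) (h := hz)
  rw [← h]
  exact List.getElem_mem _

theorem coe_G0_pow (a : G0) (n : ℕ) :
    (((a ^ n : G0) : GL (Fin 7) (ZMod 11)) : Mat) = ((a : GL (Fin 7) (ZMod 11)) : Mat) ^ n := by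
  rw [Subgroup.coe_pow, Units.val_pow_eq_pow_val]

attribute [local irreducible] entries Hcodes

/-- soundness of the centraliser check -/
theorem pow_eq_one_of_commute (U : M7) (p : ℕ) (W : List V7) (hW : wCheck U W = true)
    (hc : centCheck U p W = true) (u : G0)
    (hu : ((u : GL (Fin 7) (ZMod 11)) : Mat) = toMat U) (g : G0) (hg : g * u = u * g) :
    g ^ p = 1 := by
  obtain ⟨_, ⟨e, he, rfl⟩, _, ⟨h, hh, rfl⟩, hgm⟩ := mem_mul g.1 g.2
  obtain ⟨R, hR⟩ : ∃ R, R = M7.ofNat e := ⟨_, rfl⟩
  obtain ⟨Hn, hHn⟩ : ∃ Hn, Hn = M7.ofNat h := ⟨_, rfl⟩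
  rw [← hR, ← hHn] at hgm
  have hgm' : ((g : GL (Fin 7) (ZMod 11)) : Mat) = toMat R * toMat Hn := hgm
  -- commutation on matrices
  have hcomm : toMat R * toMat Hn * toMat U = toMat U * (toMat R * toMat Hn) := by
    rw [← hgm', ← hu, ← coe_G0_mul, ← coe_G0_mul, hg]
  -- `Hn` fixes `b1`
  have hfix : mv Hn b1 = b1 := by
    have h1 := fixCheck_eq
    unfold fixCheck at h1
    rw [hHn]
    exact V7.eq_of_beq (List.all_eq_true.1 h1 h hh)
  -- the entry of `W`
  unfold wCheck at hW
  rw [Bool.and_eq_true] at hW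
  have hlen : Hcodes.length = W.length := by
    rw [length_Hcodes, Nat.eq_of_beq_eq_true hW.1]
  obtain ⟨w, hw⟩ := exists_mem_zip Hcodes W hlen hh
  have hw1 : mv Hn (mv U b1) = w := by
    rw [hHn]
    exact V7.eq_of_beq (List.all_eq_true.1 hW.2 (h, w) hw)
  -- the check for `e`
  have hchk : chkCent U p W e = true := by
    unfold centCheck at hc
    rw [List.all_eq_true] at hc
    obtain ⟨ch, hch, hech⟩ := List.mem_flatten.1 he
    exact List.all_eq_true.1 (hc ch hch) e hech
  unfold chkCent at hchk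
  rw [← hR] at hchk
  obtain ⟨s, hs⟩ : ∃ s, s = mv U (mv R b1) := ⟨_, rfl⟩
  obtain ⟨v, hv⟩ : ∃ v, v = mv R.tr s := ⟨_, rfl⟩
  rw [← hs, ← hv] at hchk
  unfold chkCentAux at hchk
  rw [Bool.and_eq_true] at hchk
  obtain ⟨hk1, hk2⟩ := hchk
  have hk1' : mv R v = s := V7.eq_of_beq hk1
  -- matrix level: `R w = s`
  have e1 : (toMat R).mulVec (toVec w) = toVec s := by
    rw [← hw1, hs, toVec_mv, toVec_mv, toVec_mv, toVec_mv]
    have h2 : (toMat R * toMat Hn * toMat U).mulVec (toVec b1) =
        (toMat U * (toMat R * toMat Hn)).mulVec (toVec b1) := by rw [hcomm]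
    rw [← Matrix.mulVec_mulVec, ← Matrix.mulVec_mulVec, ← Matrix.mulVec_mulVec,
      ← Matrix.mulVec_mulVec] at h2
    rw [h2, ← toVec_mv Hn, hfix]
  have e2 : (toMat R).mulVec (toVec v) = toVec s := by
    rw [← toVec_mv, hk1']
  -- `R` is invertible
  have hinv : toMat R * (toMat Hn * ((g⁻¹ : G0) : GL (Fin 7) (ZMod 11)).1) = 1 := by
    rw [← mul_assoc, ← hgm']
    have : g * g⁻¹ = 1 := mul_inv_cancel g
    have h3 := congrArg (fun x : G0 => ((x : GL (Fin 7) (ZMod 11)) : Mat)) this
    simpa [coe_G0_mul] using h3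
  have hinv' := mul_eq_one_comm.1 hinv
  have e3 : toVec w = toVec v := by
    have h4 : (toMat Hn * ((g⁻¹ : G0) : GL (Fin 7) (ZMod 11)).1).mulVec
          ((toMat R).mulVec (toVec w)) =
        (toMat Hn * ((g⁻¹ : G0) : GL (Fin 7) (ZMod 11)).1).mulVec
          ((toMat R).mulVec (toVec v)) := by
      rw [e1, e2]
    rwa [Matrix.mulVec_mulVec, Matrix.mulVec_mulVec, hinv', Matrix.one_mulVec,
      Matrix.one_mulVec] at h4
  have e4 : w = v := by
    apply eq_of_toVec_eq _ _ e3
    · rw [← hw1]; exact red_mv _ _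
    · rw [hv]; exact red_mv _ _
  -- the candidate check
  have hcand := List.all_eq_true.1 hk2 (h, w) hw
  rw [e4, V7.beq_self, Bool.not_true, Bool.false_or, ← hHn] at hcand
  unfold candCheck at hcand
  have e5 : (R.mul Hn).mul U = U.mul (R.mul Hn) := by
    apply eq_of_toMat_eq (M7.red_mul _ _) (M7.red_mul _ _)
    rw [toMat_mul, toMat_mul, toMat_mul, toMat_mul]
    exact hcomm
  rw [e5, M7.beq_self, Bool.not_true, Bool.false_or] at hcand
  have e6 := congrArg toMat (M7.eq_of_beq hcand)
  rw [toMat_powN, toMat_mul, toMat_one, ← hgm'] at e6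
  apply eq_of_coe_eq
  rw [coe_G0_pow, e6]
  rfl

end Cfsg.Agent.Helper14.J1
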