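import Mathlib
import Cfsg.Agent.Helper14.J1Cent

/-!
# The centraliser of an element of order 11 of the Janko matrix group has exponent 11
-/

set_option autoImplicit false

namespace Cfsg.Agent.Helper14.J1

open Cfsg Cfsg.Spor

/-- the element of order 11 on data -/
def U11 : M7 :=
  ⟨⟨9, 4, 8, 0, 3, 8, 8⟩,
   ⟨10, 3, 6, 10, 7, 0, 2⟩,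
   ⟨10, 0, 10, 6, 7, 2, 3⟩,
   ⟨7, 8, 7, 7, 6, 8, 8⟩,
   ⟨8, 8, 0, 9, 3, 4, 8⟩,
   ⟨0, 8, 9, 8, 3, 8, 4⟩,
   ⟨6, 2, 10, 10, 7, 3, 0⟩⟩

/-- the vectors `h (U b1)` for the 57 elements `h` -/
def W11 : List V7 := [
  ⟨7, 0, 0, 6, 0, 10, 1⟩,
  ⟨2, 8, 2, 2, 9, 8, 8⟩,
  ⟨5, 5, 3, 4, 5, 0, 8⟩,
  ⟨4, 4, 10, 8, 3, 7, 3⟩,
  ⟨3, 4, 4, 1, 3, 3, 4⟩,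
  ⟨3, 4, 7, 1, 8, 8, 7⟩,
  ⟨3, 5, 8, 5, 4, 0, 5⟩,
  ⟨3, 1, 10, 5, 1, 5, 6⟩,
  ⟨7, 9, 10, 9, 0, 5, 9⟩,
  ⟨6, 1, 0, 2, 5, 8, 1⟩,
  ⟨3, 2, 6, 8, 7, 10, 10⟩,
  ⟨9, 3, 5, 0, 5, 10, 1⟩,
  ⟨1, 6, 7, 8, 2, 7, 4⟩,
  ⟨10, 9, 6, 4, 7, 4, 8⟩,
  ⟨1, 5, 10, 6, 5, 3, 1⟩,
  ⟨8, 5, 6, 8, 4, 6, 0⟩,
  ⟨8, 6, 5, 8, 7, 6, 0⟩,
  ⟨3, 8, 8, 5, 4, 6, 4⟩,
  ⟨8, 6, 7, 10, 9, 3, 10⟩,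
  ⟨10, 2, 6, 4, 7, 7, 3⟩,
  ⟨0, 8, 5, 4, 4, 4, 7⟩,
  ⟨1, 5, 1, 8, 3, 4, 2⟩,
  ⟨10, 1, 1, 9, 1, 10, 10⟩,
  ⟨7, 5, 7, 7, 0, 7, 3⟩,
  ⟨5, 10, 1, 9, 3, 5, 0⟩,
  ⟨4, 8, 5, 3, 4, 6, 3⟩,
  ⟨10, 6, 10, 0, 9, 5, 8⟩,
  ⟨10, 5, 4, 0, 0, 1, 0⟩,
  ⟨1, 10, 1, 10, 9, 10, 1⟩,
  ⟨3, 6, 5, 8, 3, 7, 7⟩,
  ⟨8, 5, 7, 0, 5, 8, 5⟩,
  ⟨1, 8, 8, 4, 8, 4, 4⟩,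
  ⟨1, 10, 5, 10, 6, 6, 8⟩,
  ⟨7, 9, 1, 6, 1, 8, 3⟩,
  ⟨10, 10, 1, 10, 2, 1, 1⟩,
  ⟨3, 9, 7, 7, 1, 6, 7⟩,
  ⟨0, 3, 0, 3, 3, 4, 0⟩,
  ⟨9, 5, 1, 9, 2, 4, 0⟩,
  ⟨6, 4, 10, 0, 9, 9, 9⟩,
  ⟨2, 9, 3, 3, 2, 3, 2⟩,
  ⟨5, 3, 7, 10, 7, 2, 4⟩,
  ⟨6, 7, 5, 7, 8, 3, 3⟩,
  ⟨7, 3, 5, 6, 8, 8, 7⟩,
  ⟨9, 4, 9, 10, 9, 0, 6⟩,
  ⟨5, 7, 3, 3, 8, 5, 4⟩,
  ⟨5, 4, 4, 8, 7, 7, 0⟩,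
  ⟨4, 4, 7, 3, 10, 9, 5⟩,
  ⟨7, 5, 3, 4, 10, 4, 9⟩,
  ⟨10, 0, 10, 5, 7, 0, 0⟩,
  ⟨5, 1, 3, 0, 10, 9, 5⟩,
  ⟨1, 10, 10, 10, 2, 1, 10⟩,
  ⟨3, 7, 5, 0, 8, 6, 6⟩,
  ⟨2, 5, 5, 10, 3, 0, 1⟩,
  ⟨0, 9, 5, 8, 1, 5, 10⟩,
  ⟨4, 1, 6, 4, 3, 2, 4⟩,
  ⟨1, 6, 10, 3, 3, 4, 9⟩,
  ⟨5, 5, 8, 3, 4, 4, 3⟩]

set_option maxRecDepth 1000000 in
theorem U11_eq : U11.beq (evN [0, 1, 1]) = true := by decide +kernel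

set_option maxRecDepth 1000000 in
theorem wCheck11 : wCheck U11 W11 = true := by decide +kernel

set_option maxRecDepth 1000000 in
set_option maxHeartbeats 0 in
theorem centCheck11 : centCheck U11 11 W11 = true := by decide +kernel

/-- every element commuting with the element of order 11 has `11`-th power one -/
theorem cent11 (g : G0) (hg : g * ev [0, 1, 1] = ev [0, 1, 1] * g) : g ^ 11 = 1 :=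
  pow_eq_one_of_commute U11 11 W11 wCheck11 centCheck11 (ev [0, 1, 1])
    (by rw [coe_ev, M7.eq_of_beq U11_eq]) g hg

end Cfsg.Agent.Helper14.J1
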