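import Mathlib
import Cfsg.Agent.Helper14.J1Cent

/-!
# The centraliser of an element of order 19 of the Janko matrix group has exponent 19
-/

set_option autoImplicit false

namespace Cfsg.Agent.Helper14.J1

open Cfsg Cfsg.Spor

/-- the element of order 19 on data -/
def U19 : M7 :=
  ⟨⟨10, 8, 10, 8, 8, 2, 10⟩,
   ⟨8, 10, 8, 8, 2, 10, 10⟩,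
   ⟨1, 3, 3, 9, 1, 1, 3⟩,
   ⟨3, 3, 9, 1, 1, 3, 1⟩,
   ⟨8, 2, 10, 10, 8, 10, 8⟩,
   ⟨9, 1, 1, 3, 1, 3, 3⟩,
   ⟨10, 10, 8, 10, 8, 8, 2⟩⟩

/-- the vectors `h (U b1)` for the 57 elements `h` -/
def W19 : List V7 := [
  ⟨1, 4, 0, 0, 6, 0, 1⟩,
  ⟨1, 4, 0, 0, 6, 0, 1⟩,
  ⟨1, 4, 0, 0, 6, 0, 1⟩,
  ⟨1, 4, 0, 0, 6, 0, 1⟩,
  ⟨1, 4, 0, 0, 6, 0, 1⟩,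
  ⟨1, 4, 0, 0, 6, 0, 1⟩,
  ⟨1, 4, 0, 0, 6, 0, 1⟩,
  ⟨1, 4, 0, 0, 6, 0, 1⟩,
  ⟨1, 4, 0, 0, 6, 0, 1⟩,
  ⟨1, 4, 0, 0, 6, 0, 1⟩,
  ⟨1, 4, 0, 0, 6, 0, 1⟩,
  ⟨1, 4, 0, 0, 6, 0, 1⟩,
  ⟨1, 4, 0, 0, 6, 0, 1⟩,
  ⟨1, 4, 0, 0, 6, 0, 1⟩,
  ⟨1, 4, 0, 0, 6, 0, 1⟩,
  ⟨1, 4, 0, 0, 6, 0, 1⟩,
  ⟨1, 4, 0, 0, 6, 0, 1⟩,
  ⟨1, 4, 0, 0, 6, 0, 1⟩,
  ⟨1, 4, 0, 0, 6, 0, 1⟩,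
  ⟨1, 4, 0, 0, 6, 0, 1⟩,
  ⟨1, 4, 0, 0, 6, 0, 1⟩,
  ⟨1, 4, 0, 0, 6, 0, 1⟩,
  ⟨1, 4, 0, 0, 6, 0, 1⟩,
  ⟨1, 4, 0, 0, 6, 0, 1⟩,
  ⟨1, 4, 0, 0, 6, 0, 1⟩,
  ⟨1, 4, 0, 0, 6, 0, 1⟩,
  ⟨1, 4, 0, 0, 6, 0, 1⟩,
  ⟨1, 4, 0, 0, 6, 0, 1⟩,
  ⟨1, 4, 0, 0, 6, 0, 1⟩,
  ⟨1, 4, 0, 0, 6, 0, 1⟩,
  ⟨1, 4, 0, 0, 6, 0, 1⟩,
  ⟨1, 4, 0, 0, 6, 0, 1⟩,
  ⟨1, 4, 0, 0, 6, 0, 1⟩,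
  ⟨1, 4, 0, 0, 6, 0, 1⟩,
  ⟨1, 4, 0, 0, 6, 0, 1⟩,
  ⟨1, 4, 0, 0, 6, 0, 1⟩,
  ⟨1, 4, 0, 0, 6, 0, 1⟩,
  ⟨1, 4, 0, 0, 6, 0, 1⟩,
  ⟨1, 4, 0, 0, 6, 0, 1⟩,
  ⟨1, 4, 0, 0, 6, 0, 1⟩,
  ⟨1, 4, 0, 0, 6, 0, 1⟩,
  ⟨1, 4, 0, 0, 6, 0, 1⟩,
  ⟨1, 4, 0, 0, 6, 0, 1⟩,
  ⟨1, 4, 0, 0, 6, 0, 1⟩,
  ⟨1, 4, 0, 0, 6, 0, 1⟩,
  ⟨1, 4, 0, 0, 6, 0, 1⟩,
  ⟨1, 4, 0, 0, 6, 0, 1⟩,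
  ⟨1, 4, 0, 0, 6, 0, 1⟩,
  ⟨1, 4, 0, 0, 6, 0, 1⟩,
  ⟨1, 4, 0, 0, 6, 0, 1⟩,
  ⟨1, 4, 0, 0, 6, 0, 1⟩,
  ⟨1, 4, 0, 0, 6, 0, 1⟩,
  ⟨1, 4, 0, 0, 6, 0, 1⟩,
  ⟨1, 4, 0, 0, 6, 0, 1⟩,
  ⟨1, 4, 0, 0, 6, 0, 1⟩,
  ⟨1, 4, 0, 0, 6, 0, 1⟩,
  ⟨1, 4, 0, 0, 6, 0, 1⟩]

set_option maxRecDepth 1000000 in
theorem U19_eq : U19.beq (evN [0, 0, 0, 1]) = true := by decide +kernel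

set_option maxRecDepth 1000000 in
theorem wCheck19 : wCheck U19 W19 = true := by decide +kernel

set_option maxRecDepth 1000000 in
set_option maxHeartbeats 0 in
theorem centCheck19 : centCheck U19 19 W19 = true := by decide +kernel

/-- every element commuting with the element of order 19 has `19`-th power one -/
theorem cent19 (g : G0) (hg : g * ev [0, 0, 0, 1] = ev [0, 0, 0, 1] * g) : g ^ 19 = 1 :=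
  pow_eq_one_of_commute U19 19 W19 wCheck19 centCheck19 (ev [0, 0, 0, 1])
    (by rw [coe_ev, M7.eq_of_beq U19_eq]) g hg

end Cfsg.Agent.Helper14.J1
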