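import Mathlib
import Cfsg.Agent.Helper14.J1Cent

/-!
# The centraliser of an element of order 7 of the Janko matrix group has exponent 7
-/

set_option autoImplicit false

namespace Cfsg.Agent.Helper14.J1

open Cfsg Cfsg.Spor

/-- the element of order 7 on data -/
def U7 : M7 :=
  ⟨⟨0, 1, 0, 0, 0, 0, 0⟩,
   ⟨0, 0, 1, 0, 0, 0, 0⟩,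
   ⟨0, 0, 0, 1, 0, 0, 0⟩,
   ⟨0, 0, 0, 0, 1, 0, 0⟩,
   ⟨0, 0, 0, 0, 0, 1, 0⟩,
   ⟨0, 0, 0, 0, 0, 0, 1⟩,
   ⟨1, 0, 0, 0, 0, 0, 0⟩⟩

/-- the vectors `h (U b1)` for the 57 elements `h` -/
def W7 : List V7 := [
  ⟨4, 0, 0, 6, 0, 1, 1⟩,
  ⟨5, 8, 4, 5, 8, 7, 8⟩,
  ⟨2, 0, 6, 2, 4, 2, 1⟩,
  ⟨5, 6, 1, 8, 0, 1, 9⟩,
  ⟨2, 9, 4, 0, 2, 5, 10⟩,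
  ⟨4, 5, 7, 7, 0, 4, 3⟩,
  ⟨2, 9, 4, 0, 2, 5, 10⟩,
  ⟨5, 1, 0, 9, 5, 3, 10⟩,
  ⟨10, 8, 3, 7, 2, 10, 6⟩,
  ⟨2, 0, 6, 2, 4, 2, 1⟩,
  ⟨1, 9, 6, 7, 7, 7, 3⟩,
  ⟨4, 4, 0, 3, 6, 7, 4⟩,
  ⟨5, 8, 4, 5, 8, 7, 8⟩,
  ⟨5, 6, 1, 8, 0, 1, 9⟩,
  ⟨5, 1, 0, 9, 5, 3, 10⟩,
  ⟨10, 8, 3, 7, 2, 10, 6⟩,
  ⟨10, 3, 8, 7, 9, 10, 6⟩,
  ⟨1, 1, 7, 0, 0, 5, 0⟩,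
  ⟨3, 8, 4, 6, 6, 5, 0⟩,
  ⟨0, 8, 5, 7, 4, 7, 4⟩,
  ⟨3, 8, 4, 6, 6, 5, 0⟩,
  ⟨1, 9, 6, 7, 7, 7, 3⟩,
  ⟨2, 9, 4, 0, 2, 5, 10⟩,
  ⟨4, 4, 0, 3, 6, 7, 4⟩,
  ⟨0, 9, 2, 3, 0, 0, 2⟩,
  ⟨2, 0, 6, 2, 4, 2, 1⟩,
  ⟨4, 7, 0, 6, 7, 4, 8⟩,
  ⟨0, 9, 2, 3, 0, 0, 2⟩,
  ⟨3, 8, 4, 6, 6, 5, 0⟩,
  ⟨9, 4, 5, 8, 7, 1, 4⟩,
  ⟨5, 6, 1, 8, 0, 1, 9⟩,
  ⟨10, 3, 8, 7, 9, 10, 6⟩,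
  ⟨0, 8, 5, 7, 4, 7, 4⟩,
  ⟨5, 8, 4, 5, 8, 7, 8⟩,
  ⟨10, 8, 3, 7, 2, 10, 6⟩,
  ⟨0, 9, 2, 3, 0, 0, 2⟩,
  ⟨10, 3, 8, 7, 9, 10, 6⟩,
  ⟨0, 6, 4, 7, 3, 4, 7⟩,
  ⟨1, 8, 0, 1, 9, 5, 6⟩,
  ⟨0, 6, 4, 7, 3, 4, 7⟩,
  ⟨4, 5, 7, 7, 0, 4, 3⟩,
  ⟨4, 7, 0, 6, 7, 4, 8⟩,
  ⟨0, 8, 5, 7, 4, 7, 4⟩,
  ⟨4, 5, 7, 7, 0, 4, 3⟩,
  ⟨1, 8, 0, 1, 9, 5, 6⟩,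
  ⟨4, 0, 0, 6, 0, 1, 1⟩,
  ⟨1, 9, 6, 7, 7, 7, 3⟩,
  ⟨9, 4, 5, 8, 7, 1, 4⟩,
  ⟨4, 4, 0, 3, 6, 7, 4⟩,
  ⟨9, 4, 5, 8, 7, 1, 4⟩,
  ⟨4, 0, 0, 6, 0, 1, 1⟩,
  ⟨1, 1, 7, 0, 0, 5, 0⟩,
  ⟨5, 1, 0, 9, 5, 3, 10⟩,
  ⟨1, 8, 0, 1, 9, 5, 6⟩,
  ⟨4, 7, 0, 6, 7, 4, 8⟩,
  ⟨0, 6, 4, 7, 3, 4, 7⟩,
  ⟨1, 1, 7, 0, 0, 5, 0⟩]

set_option maxRecDepth 1000000 in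
theorem U7_eq : U7.beq (evN [0]) = true := by decide +kernel

set_option maxRecDepth 1000000 in
theorem wCheck7 : wCheck U7 W7 = true := by decide +kernel

set_option maxRecDepth 1000000 in
set_option maxHeartbeats 0 in
theorem centCheck7 : centCheck U7 7 W7 = true := by decide +kernel

/-- every element commuting with the element of order 7 has `7`-th power one -/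
theorem cent7 (g : G0) (hg : g * ev [0] = ev [0] * g) : g ^ 7 = 1 :=
  pow_eq_one_of_commute U7 7 W7 wCheck7 centCheck7 (ev [0])
    (by rw [coe_ev, M7.eq_of_beq U7_eq]) g hg

end Cfsg.Agent.Helper14.J1
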