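import Mathlib
import Cfsg.Agent.Helper14.J1C7
import Cfsg.Agent.Helper14.J1C11
import Cfsg.Agent.Helper14.J1C19

/-!
# The set of element orders of the Janko group `J₁` is `{1,2,3,5,6,7,10,11,15,19}`
-/

set_option autoImplicit false

namespace Cfsg.Agent.Helper14.J1

open Cfsg Cfsg.Spor

/-- If `p² ∤ |G|` and every element commuting with an element `u` of order `p` has `p`-th power one,
then every element of order divisible by `p` has order `p`. -/
theorem orderOf_eq_of_dvd {G : Type*} [Group G] [Finite G] (p : ℕ) [hp : Fact p.Prime]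
    (hpp : ¬ p ^ 2 ∣ Nat.card G) (u : G) (hu : orderOf u = p)
    (hc : ∀ g : G, g * u = u * g → g ^ p = 1) (g : G) (hg : p ∣ orderOf g) : orderOf g = p := by
  obtain ⟨m, hm⟩ := hg
  have hn0 : orderOf g ≠ 0 := (orderOf_pos g).ne'
  have hm0 : m ≠ 0 := by
    rintro rfl
    rw [mul_zero] at hm
    exact hn0 hm
  have hy : orderOf (g ^ m) = p := by
    rw [orderOf_pow_of_dvd hm0 ⟨p, by rw [hm, mul_comm]⟩, hm, Nat.mul_div_cancel _ (Nat.pos_of_ne_zero hm0)]
  obtain ⟨h, j, hj⟩ := exists_conj_zpow p hpp u (g ^ m) hu hy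
  have hcomm : (h * g * h⁻¹) * u = u * (h * g * h⁻¹) := by
    have e : u = (h * g * h⁻¹) ^ ((m : ℤ) * j) := by
      rw [hj, zpow_mul, zpow_natCast, conj_pow, conj_zpow]
    have hc' : Commute (h * g * h⁻¹) ((h * g * h⁻¹) ^ ((m : ℤ) * j)) :=
      Commute.zpow_right (Commute.refl _) _
    rw [← e] at hc'
    exact hc'
  have h1 := hc _ hcomm
  rw [conj_pow] at h1
  have h2 : g ^ p = 1 := by
    have : g ^ p = h⁻¹ * (h * g ^ p * h⁻¹) * h := by group
    rw [this, h1]; group
  have h3 : orderOf g ∣ p := orderOf_dvd_of_pow_eq_one h2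
  exact Nat.dvd_antisymm h3 ⟨m, hm⟩

/-! ### Elements of orders 6, 10 and 15 -/

def ordTable2 : List (List Nat × Nat × List Nat) := [
  ([3, 3, 0], 6, [2, 3]),
  ([1, 0], 10, [2, 5]),
  ([1, 1, 2, 1, 1, 0], 15, [3, 5])]

def ordCheck2 (t : List Nat × Nat × List Nat) : Bool :=
  (evN (List.replicate t.2.1 t.1).flatten).beq (evN []) && (evN []).red &&
    t.2.2.all fun q => (evN (List.replicate (t.2.1 / q) t.1).flatten).red &&
      !(evN (List.replicate (t.2.1 / q) t.1).flatten).beq (evN [])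

set_option maxRecDepth 1000000 in
theorem ordTable2_ok : ordTable2.all ordCheck2 = true := by decide +kernel

theorem orderOf_of_mem_ordTable2 (t : List Nat × Nat × List Nat) (ht : t ∈ ordTable2)
    (hn : 0 < t.2.1) (hq : ∀ q : ℕ, q.Prime → q ∣ t.2.1 → q ∈ t.2.2) :
    orderOf (ev t.1) = t.2.1 := by
  have h1 := List.all_eq_true.1 ordTable2_ok t ht
  unfold ordCheck2 at h1
  simp only [Bool.and_eq_true] at h1
  obtain ⟨⟨h2, h3⟩, h4⟩ := h1
  apply orderOf_eq_of_pow_and_pow_div_prime hn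
  · rw [← ev_replicate, ev_eq_of_beq h2, ev_nil]
  · intro q hqp hqd
    have h5 := List.all_eq_true.1 h4 q (hq q hqp hqd)
    simp only [Bool.and_eq_true, Bool.not_eq_true'] at h5
    rw [← ev_replicate, ← ev_nil]
    exact ev_ne_of_beq h5.1 h3 h5.2

theorem orderOf_six : orderOf (ev [3, 3, 0]) = 6 := by
  refine orderOf_of_mem_ordTable2 ([3, 3, 0], 6, [2, 3]) (by decide) (by norm_num) ?_
  intro q hq hd
  have hd' : q ∣ 6 := hd
  clear hd
  have hle : q ≤ 6 := Nat.le_of_dvd (by norm_num) hd'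
  interval_cases q <;> first | decide | omega | (exfalso; revert hq; norm_num)

theorem orderOf_ten : orderOf (ev [1, 0]) = 10 := by
  refine orderOf_of_mem_ordTable2 ([1, 0], 10, [2, 5]) (by decide) (by norm_num) ?_
  intro q hq hd
  have hd' : q ∣ 10 := hd
  clear hd
  have hle : q ≤ 10 := Nat.le_of_dvd (by norm_num) hd'
  interval_cases q <;> first | decide | omega | (exfalso; revert hq; norm_num)

theorem orderOf_fifteen : orderOf (ev [1, 1, 2, 1, 1, 0]) = 15 := by
  refine orderOf_of_mem_ordTable2 ([1, 1, 2, 1, 1, 0], 15, [3, 5]) (by decide) (by norm_num) ?_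
  intro q hq hd
  have hd' : q ∣ 15 := hd
  clear hd
  have hle : q ≤ 15 := Nat.le_of_dvd (by norm_num) hd'
  interval_cases q <;> first | decide | omega | (exfalso; revert hq; norm_num)

/-! ### Elements of `2 × A₅` -/

theorem a5_pow' : ∀ σ : Equiv.Perm (Fin 5), Equiv.Perm.sign σ = 1 →
    σ ^ 6 = 1 ∨ σ ^ 10 = 1 := by decide +kernel

theorem a5_pow (σ : Equiv.Perm (Fin 5)) (h : σ ∈ alternatingGroup (Fin 5)) :
    σ ^ 6 = 1 ∨ σ ^ 10 = 1 := a5_pow' σ (Equiv.Perm.mem_alternatingGroup.1 h)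

theorem two_a5_pow (x : Multiplicative (ZMod 2) × ↥(alternatingGroup (Fin 5))) :
    x ^ 6 = 1 ∨ x ^ 10 = 1 := by
  obtain ⟨ε, σ⟩ := x
  have h2 : ∀ ε : Multiplicative (ZMod 2), ε ^ 2 = 1 := by decide
  have e6 : ε ^ 6 = 1 := by rw [show 6 = 2 * 3 from rfl, pow_mul, h2, one_pow]
  have e10 : ε ^ 10 = 1 := by rw [show 10 = 2 * 5 from rfl, pow_mul, h2, one_pow]
  rcases a5_pow σ.1 σ.2 with h | h
  · left
    apply Prod.ext
    · exact e6
    · apply Subtype.ext
      rw [Prod.pow_snd, Subgroup.coe_pow]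
      exact h
  · right
    apply Prod.ext
    · exact e10
    · apply Subtype.ext
      rw [Prod.pow_snd, Subgroup.coe_pow]
      exact h

theorem Ct_pow (c : Ct) : c ^ 6 = 1 ∨ c ^ 10 = 1 := by
  obtain ⟨e⟩ := exists_iso
  rcases two_a5_pow (e c) with h | h
  · left
    apply e.injective
    rw [map_pow, map_one]; exact h
  · right
    apply e.injective
    rw [map_pow, map_one]; exact h

/-! ### The spectrum -/

theorem card_G0 : Nat.card G0 = 175560 := card_eq

theorem orderOf_u7 : orderOf (ev [0]) = 7 :=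
  orderOf_of_mem_ordTable ([0], 7) (by decide) (by norm_num)

theorem orderOf_u11 : orderOf (ev [0, 1, 1]) = 11 :=
  orderOf_of_mem_ordTable ([0, 1, 1], 11) (by decide) (by norm_num)

theorem orderOf_u19 : orderOf (ev [0, 0, 0, 1]) = 19 :=
  orderOf_of_mem_ordTable ([0, 0, 0, 1], 19) (by decide) (by norm_num)

theorem orderOf_u5 : orderOf (ev [1]) = 5 :=
  orderOf_of_mem_ordTable ([1], 5) (by decide) (by norm_num)

/-- the set of element orders of `J₁` -/
def spec : Finset ℕ := {1, 2, 3, 5, 6, 7, 10, 11, 15, 19}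

theorem mem_spec_of_dvd_six (n : ℕ) (hd : n ∣ 6) (h2 : 2 ∣ n) : n ∈ spec := by
  have hle : n ≤ 6 := Nat.le_of_dvd (by norm_num) hd
  interval_cases n <;> first | decide | omega

theorem mem_spec_of_dvd_ten (n : ℕ) (hd : n ∣ 10) (h2 : 2 ∣ n) : n ∈ spec := by
  have hle : n ≤ 10 := Nat.le_of_dvd (by norm_num) hd
  interval_cases n <;> first | decide | omega

theorem mem_spec_of_dvd_fifteen (n : ℕ) (hd : n ∣ 15) : n ∈ spec := by
  have hle : n ≤ 15 := Nat.le_of_dvd (by norm_num) hd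
  interval_cases n <;> first | decide | omega

theorem orderOf_mem_spec (g : G0) : orderOf g ∈ spec := by
  have hdvd : orderOf g ∣ 175560 := by
    rw [← card_G0]; exact orderOf_dvd_natCard g
  by_cases h19 : 19 ∣ orderOf g
  · have : Fact (Nat.Prime 19) := ⟨by norm_num⟩
    have h := orderOf_eq_of_dvd 19 (by rw [card_G0]; norm_num) _ orderOf_u19 cent19 g h19
    rw [h]; decide
  by_cases h11 : 11 ∣ orderOf g
  · have : Fact (Nat.Prime 11) := ⟨by norm_num⟩
    have h := orderOf_eq_of_dvd 11 (by rw [card_G0]; norm_num) _ orderOf_u11 cent11 g h11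
    rw [h]; decide
  by_cases h7 : 7 ∣ orderOf g
  · have : Fact (Nat.Prime 7) := ⟨by norm_num⟩
    have h := orderOf_eq_of_dvd 7 (by rw [card_G0]; norm_num) _ orderOf_u7 cent7 g h7
    rw [h]; decide
  have c19 : Nat.Coprime (orderOf g) 19 :=
    ((Nat.Prime.coprime_iff_not_dvd (by norm_num)).2 h19).symm
  have c11 : Nat.Coprime (orderOf g) 11 :=
    ((Nat.Prime.coprime_iff_not_dvd (by norm_num)).2 h11).symm
  have c7 : Nat.Coprime (orderOf g) 7 :=
    ((Nat.Prime.coprime_iff_not_dvd (by norm_num)).2 h7).symm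
  have h120 : orderOf g ∣ 120 := by
    apply Nat.Coprime.dvd_of_dvd_mul_right (Nat.Coprime.mul_right (Nat.Coprime.mul_right c7 c11) c19)
    norm_num
    exact hdvd
  by_cases h2 : 2 ∣ orderOf g
  · obtain ⟨m, hm⟩ := h2
    have hn0 : orderOf g ≠ 0 := (orderOf_pos g).ne'
    have hm0 : m ≠ 0 := by
      rintro rfl
      rw [mul_zero] at hm
      exact hn0 hm
    have hy : orderOf (g ^ m) = 2 := by
      rw [orderOf_pow_of_dvd hm0 ⟨2, by rw [hm, mul_comm]⟩, hm,
        Nat.mul_div_cancel _ (Nat.pos_of_ne_zero hm0)]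
    obtain ⟨c, hc⟩ := conj_tG (g ^ m) hy
    -- `c⁻¹ g c` centralises `tG`
    have ht : tG = (c⁻¹ * g * c) ^ m := by
      have : (c⁻¹ * g * c) ^ m = c⁻¹ * g ^ m * c := by
        have := conj_pow (a := c⁻¹) (b := g) (i := m)
        rwa [inv_inv] at this
      rw [this, hc]; group
    have hmem : c⁻¹ * g * c ∈ Ct := by
      rw [mem_Ct, ht, ← pow_succ, ← pow_succ']
    have hpw := Ct_pow ⟨_, hmem⟩
    have hpw' : g ^ 6 = 1 ∨ g ^ 10 = 1 := by
      have key : ∀ k : ℕ, (⟨c⁻¹ * g * c, hmem⟩ : Ct) ^ k = 1 → g ^ k = 1 := by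
        intro k hk
        have h1 := congrArg Subtype.val hk
        rw [Subgroup.coe_pow, Subgroup.coe_one] at h1
        have h2 : (c⁻¹ * g * c) ^ k = c⁻¹ * g ^ k * c := by
          have := conj_pow (a := c⁻¹) (b := g) (i := k)
          rwa [inv_inv] at this
        rw [h2] at h1
        have : g ^ k = c * (c⁻¹ * g ^ k * c) * c⁻¹ := by group
        rw [this, h1]; group
      rcases hpw with h | h
      · exact Or.inl (key 6 h)
      · exact Or.inr (key 10 h)
    rcases hpw' with h | h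
    · exact mem_spec_of_dvd_six _ (orderOf_dvd_of_pow_eq_one h) ⟨m, hm⟩
    · exact mem_spec_of_dvd_ten _ (orderOf_dvd_of_pow_eq_one h) ⟨m, hm⟩
  · have c2 : Nat.Coprime (orderOf g) 8 := by
      have : Nat.Coprime (orderOf g) 2 :=
        ((Nat.Prime.coprime_iff_not_dvd Nat.prime_two).2 h2).symm
      exact Nat.Coprime.pow_right 3 this
    have h15 : orderOf g ∣ 15 := by
      apply Nat.Coprime.dvd_of_dvd_mul_right c2
      norm_num
      exact h120
    exact mem_spec_of_dvd_fifteen _ h15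

theorem range_orderOf : Set.range (orderOf : G0 → ℕ) = ↑spec := by
  ext m
  constructor
  · rintro ⟨g, rfl⟩
    exact orderOf_mem_spec g
  · intro hm
    have hm' : m ∈ spec := hm
    simp only [spec, Finset.mem_insert, Finset.mem_singleton] at hm'
    rcases hm' with rfl | rfl | rfl | rfl | rfl | rfl | rfl | rfl | rfl | rfl
    · exact ⟨1, orderOf_one⟩
    · exact ⟨tG, orderOf_tG⟩
    · exact ⟨g3G, orderOf_g3G⟩
    · exact ⟨_, orderOf_u5⟩
    · exact ⟨_, orderOf_six⟩
    · exact ⟨_, orderOf_u7⟩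
    · exact ⟨_, orderOf_ten⟩
    · exact ⟨_, orderOf_u11⟩
    · exact ⟨_, orderOf_fifteen⟩
    · exact ⟨_, orderOf_u19⟩

end Cfsg.Agent.Helper14.J1
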