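import Mathlib
import Cfsg.Prelude.Def_Spor_J2

/-!
# Icosians: an integer model

`Q8` = quaternions over `ℤ[τ]` (`τ² = τ + 1`), eight integer coordinates
`(a0 + b0 τ) + (a1 + b1 τ) i + (a2 + b2 τ) j + (a3 + b3 τ) k`.
`ev X : ℍ[ℝ]` is its value, `hv X = ev X / 2`.
-/

set_option autoImplicit false

namespace Cfsg.Agent.Helper14.J2

open Quaternion Cfsg.Spor

structure Q8 where
  a0 : ℤ
  b0 : ℤ
  a1 : ℤ
  b1 : ℤ
  a2 : ℤ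
  b2 : ℤ
  a3 : ℤ
  b3 : ℤ
deriving DecidableEq, Repr

namespace Q8

@[ext] theorem ext' {X Y : Q8} (h0 : X.a0 = Y.a0) (h1 : X.b0 = Y.b0) (h2 : X.a1 = Y.a1)
    (h3 : X.b1 = Y.b1) (h4 : X.a2 = Y.a2) (h5 : X.b2 = Y.b2) (h6 : X.a3 = Y.a3)
    (h7 : X.b3 = Y.b3) : X = Y := by
  cases X; cases Y; simp_all

instance : Zero Q8 := ⟨⟨0, 0, 0, 0, 0, 0, 0, 0⟩⟩
instance : Add Q8 := ⟨fun X Y => ⟨X.a0 + Y.a0, X.b0 + Y.b0, X.a1 + Y.a1, X.b1 + Y.b1,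
  X.a2 + Y.a2, X.b2 + Y.b2, X.a3 + Y.a3, X.b3 + Y.b3⟩⟩
instance : Neg Q8 := ⟨fun X => ⟨-X.a0, -X.b0, -X.a1, -X.b1, -X.a2, -X.b2, -X.a3, -X.b3⟩⟩
instance : Sub Q8 := ⟨fun X Y => ⟨X.a0 - Y.a0, X.b0 - Y.b0, X.a1 - Y.a1, X.b1 - Y.b1,
  X.a2 - Y.a2, X.b2 - Y.b2, X.a3 - Y.a3, X.b3 - Y.b3⟩⟩

/-- scalar multiple by an integer -/
def zs (n : ℤ) (X : Q8) : Q8 := ⟨n * X.a0, n * X.b0, n * X.a1, n * X.b1,
  n * X.a2, n * X.b2, n * X.a3, n * X.b3⟩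

/-- conjugate -/
def conj (X : Q8) : Q8 := ⟨X.a0, X.b0, -X.a1, -X.b1, -X.a2, -X.b2, -X.a3, -X.b3⟩

/-- product of `a + b τ` and `c + d τ`: first coordinate -/
@[reducible] def m1 (a b c d : ℤ) : ℤ := a * c + b * d
/-- product of `a + b τ` and `c + d τ`: second coordinate -/
@[reducible] def m2 (a b c d : ℤ) : ℤ := a * d + b * c + b * d

/-- quaternion product over `ℤ[τ]` -/
def mul (X Y : Q8) : Q8 :=
  ⟨m1 X.a0 X.b0 Y.a0 Y.b0 - m1 X.a1 X.b1 Y.a1 Y.b1 - m1 X.a2 X.b2 Y.a2 Y.b2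
      - m1 X.a3 X.b3 Y.a3 Y.b3,
   m2 X.a0 X.b0 Y.a0 Y.b0 - m2 X.a1 X.b1 Y.a1 Y.b1 - m2 X.a2 X.b2 Y.a2 Y.b2
      - m2 X.a3 X.b3 Y.a3 Y.b3,
   m1 X.a0 X.b0 Y.a1 Y.b1 + m1 X.a1 X.b1 Y.a0 Y.b0 + m1 X.a2 X.b2 Y.a3 Y.b3
      - m1 X.a3 X.b3 Y.a2 Y.b2,
   m2 X.a0 X.b0 Y.a1 Y.b1 + m2 X.a1 X.b1 Y.a0 Y.b0 + m2 X.a2 X.b2 Y.a3 Y.b3
      - m2 X.a3 X.b3 Y.a2 Y.b2,
   m1 X.a0 X.b0 Y.a2 Y.b2 - m1 X.a1 X.b1 Y.a3 Y.b3 + m1 X.a2 X.b2 Y.a0 Y.b0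
      + m1 X.a3 X.b3 Y.a1 Y.b1,
   m2 X.a0 X.b0 Y.a2 Y.b2 - m2 X.a1 X.b1 Y.a3 Y.b3 + m2 X.a2 X.b2 Y.a0 Y.b0
      + m2 X.a3 X.b3 Y.a1 Y.b1,
   m1 X.a0 X.b0 Y.a3 Y.b3 + m1 X.a1 X.b1 Y.a2 Y.b2 - m1 X.a2 X.b2 Y.a1 Y.b1
      + m1 X.a3 X.b3 Y.a0 Y.b0,
   m2 X.a0 X.b0 Y.a3 Y.b3 + m2 X.a1 X.b1 Y.a2 Y.b2 - m2 X.a2 X.b2 Y.a1 Y.b1
      + m2 X.a3 X.b3 Y.a0 Y.b0⟩

instance : Mul Q8 := ⟨mul⟩

@[simp] theorem zero_a0 : (0 : Q8).a0 = 0 := rfl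
@[simp] theorem zero_b0 : (0 : Q8).b0 = 0 := rfl
@[simp] theorem zero_a1 : (0 : Q8).a1 = 0 := rfl
@[simp] theorem zero_b1 : (0 : Q8).b1 = 0 := rfl
@[simp] theorem zero_a2 : (0 : Q8).a2 = 0 := rfl
@[simp] theorem zero_b2 : (0 : Q8).b2 = 0 := rfl
@[simp] theorem zero_a3 : (0 : Q8).a3 = 0 := rfl
@[simp] theorem zero_b3 : (0 : Q8).b3 = 0 := rfl

theorem add_def (X Y : Q8) : X + Y = ⟨X.a0 + Y.a0, X.b0 + Y.b0, X.a1 + Y.a1, X.b1 + Y.b1,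
  X.a2 + Y.a2, X.b2 + Y.b2, X.a3 + Y.a3, X.b3 + Y.b3⟩ := rfl
theorem neg_def (X : Q8) : -X = ⟨-X.a0, -X.b0, -X.a1, -X.b1, -X.a2, -X.b2, -X.a3, -X.b3⟩ := rfl
theorem sub_def (X Y : Q8) : X - Y = ⟨X.a0 - Y.a0, X.b0 - Y.b0, X.a1 - Y.a1, X.b1 - Y.b1,
  X.a2 - Y.a2, X.b2 - Y.b2, X.a3 - Y.a3, X.b3 - Y.b3⟩ := rfl
theorem mul_def (X Y : Q8) : X * Y = mul X Y := rfl

/-- value in the real quaternions -/
noncomputable def ev (X : Q8) : ℍ[ℝ] :=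
  ⟨X.a0 + X.b0 * tau, X.a1 + X.b1 * tau, X.a2 + X.b2 * tau, X.a3 + X.b3 * tau⟩

/-- half of the value: the quaternion with doubled coordinates `X` -/
noncomputable def hv (X : Q8) : ℍ[ℝ] := (1 / 2 : ℝ) • ev X

@[simp] theorem ev_re (X : Q8) : (ev X).re = X.a0 + X.b0 * tau := rfl
@[simp] theorem ev_imI (X : Q8) : (ev X).imI = X.a1 + X.b1 * tau := rfl
@[simp] theorem ev_imJ (X : Q8) : (ev X).imJ = X.a2 + X.b2 * tau := rfl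
@[simp] theorem ev_imK (X : Q8) : (ev X).imK = X.a3 + X.b3 * tau := rfl

theorem tau_sq : tau * tau = tau + 1 := by
  unfold tau
  have h : Real.sqrt 5 * Real.sqrt 5 = 5 := Real.mul_self_sqrt (by norm_num)
  nlinarith [h]

theorem tau_irrational : Irrational tau := by
  have : tau = Real.goldenRatio := by
    unfold tau Real.goldenRatio; rfl
  rw [this]; exact Real.goldenRatio_irrational

theorem int_tau_eq_zero {a b : ℤ} (h : (a : ℝ) + b * tau = 0) : a = 0 ∧ b = 0 := by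
  by_cases hb : b = 0
  · subst hb; simp at h; exact ⟨by exact_mod_cast h, rfl⟩
  · exfalso
    have hb' : (b : ℝ) ≠ 0 := by exact_mod_cast hb
    have : tau = ((-a : ℤ) : ℝ) / (b : ℤ) := by
      field_simp; push_cast; linarith
    have hi := tau_irrational
    rw [this] at hi
    exact hi ⟨(-a : ℤ) / (b : ℤ), by push_cast; rfl⟩

theorem int_tau_eq {a b c d : ℤ} (h : (a : ℝ) + b * tau = c + d * tau) : a = c ∧ b = d := by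
  have := @int_tau_eq_zero (a - c) (b - d) (by push_cast; linarith)
  omega

@[simp] theorem ev_zero : ev 0 = 0 := by
  ext <;> simp

theorem ev_add (X Y : Q8) : ev (X + Y) = ev X + ev Y := by
  ext <;> simp [add_def] <;> ring

theorem ev_neg (X : Q8) : ev (-X) = -ev X := by
  ext <;> simp [neg_def] <;> ring

theorem ev_sub (X Y : Q8) : ev (X - Y) = ev X - ev Y := by
  ext <;> simp [sub_def] <;> ring

theorem ev_zs (n : ℤ) (X : Q8) : ev (zs n X) = (n : ℝ) • ev X := by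
  ext <;> simp [zs] <;> ring

theorem ev_conj (X : Q8) : ev (conj X) = star (ev X) := by
  ext <;> simp [conj] <;> ring

theorem ev_mul (X Y : Q8) : ev (X * Y) = ev X * ev Y := by
  have h2 : tau ^ 2 = tau + 1 := by rw [pow_two]; exact tau_sq
  ext
  · rw [Quaternion.re_mul]
    simp only [ev_re, ev_imI, ev_imJ, ev_imK, mul_def, mul, m1, m2]
    push_cast; linear_combination (-((X.b0:ℝ) * Y.b0 - X.b1 * Y.b1 - X.b2 * Y.b2 - X.b3 * Y.b3)) * h2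
  · rw [Quaternion.imI_mul]
    simp only [ev_re, ev_imI, ev_imJ, ev_imK, mul_def, mul, m1, m2]
    push_cast; linear_combination (-((X.b0:ℝ) * Y.b1 + X.b1 * Y.b0 + X.b2 * Y.b3 - X.b3 * Y.b2)) * h2
  · rw [Quaternion.imJ_mul]
    simp only [ev_re, ev_imI, ev_imJ, ev_imK, mul_def, mul, m1, m2]
    push_cast; linear_combination (-((X.b0:ℝ) * Y.b2 - X.b1 * Y.b3 + X.b2 * Y.b0 + X.b3 * Y.b1)) * h2
  · rw [Quaternion.imK_mul]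
    simp only [ev_re, ev_imI, ev_imJ, ev_imK, mul_def, mul, m1, m2]
    push_cast; linear_combination (-((X.b0:ℝ) * Y.b3 + X.b1 * Y.b2 - X.b2 * Y.b1 + X.b3 * Y.b0)) * h2

theorem ev_injective : Function.Injective ev := by
  intro X Y h
  have h0 := congrArg (fun q : ℍ[ℝ] => q.re) h
  have h1 := congrArg (fun q : ℍ[ℝ] => q.imI) h
  have h2 := congrArg (fun q : ℍ[ℝ] => q.imJ) h
  have h3 := congrArg (fun q : ℍ[ℝ] => q.imK) h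
  simp only [ev_re, ev_imI, ev_imJ, ev_imK] at h0 h1 h2 h3
  obtain ⟨e0, e1⟩ := int_tau_eq h0
  obtain ⟨e2, e3⟩ := int_tau_eq h1
  obtain ⟨e4, e5⟩ := int_tau_eq h2
  obtain ⟨e6, e7⟩ := int_tau_eq h3
  exact ext' e0 e1 e2 e3 e4 e5 e6 e7

theorem hv_injective : Function.Injective hv := by
  intro X Y h
  unfold hv at h
  apply ev_injective
  have h2 : (2 : ℝ) • ((1 / 2 : ℝ) • ev X) = (2 : ℝ) • ((1 / 2 : ℝ) • ev Y) := by rw [h]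
  simpa [smul_smul] using h2

@[simp] theorem hv_zero : hv 0 = 0 := by simp [hv]
theorem hv_add (X Y : Q8) : hv (X + Y) = hv X + hv Y := by simp [hv, ev_add]
theorem hv_neg (X : Q8) : hv (-X) = -hv X := by simp [hv, ev_neg]
theorem hv_sub (X Y : Q8) : hv (X - Y) = hv X - hv Y := by simp [hv, ev_sub, smul_sub]
theorem hv_conj (X : Q8) : hv (conj X) = star (hv X) := by
  simp [hv, ev_conj]
theorem hv_mul (X Y : Q8) : hv X * hv Y = (1 / 4 : ℝ) • ev (X * Y) := by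
  rw [ev_mul, hv, hv, smul_mul_smul_comm]; norm_num

end Q8

end Cfsg.Agent.Helper14.J2
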