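import Cfsg.Agent.Helper14.J2A

/-!
# The icosian ring in the integer model

`inI X` : the quaternion `hv X` (doubled coordinates `X`) is an icosian.
Main result: `mem_icosians_iff : q ∈ icosians ↔ ∃ X, inI X ∧ hv X = q`.
-/

set_option autoImplicit false

namespace Cfsg.Agent.Helper14.J2

open Quaternion Cfsg.Spor

namespace Q8

/-- membership of `hv X` in the icosian ring: four parity conditions -/
def inI (X : Q8) : Prop :=
  (X.a0 + X.b0 + X.b1 + X.a3) % 2 = 0 ∧ (X.b0 + X.a1 + X.b1 + X.a2) % 2 = 0 ∧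
  (X.b1 + X.a2 + X.a3 + X.b3) % 2 = 0 ∧ (X.b0 + X.a2 + X.b2 + X.a3) % 2 = 0

instance : DecidablePred inI := fun X => by unfold inI; infer_instance

theorem inI_zero : inI 0 := by decide

theorem inI_add {X Y : Q8} (hX : inI X) (hY : inI Y) : inI (X + Y) := by
  unfold inI at *
  simp only [add_def]
  omega

theorem inI_neg {X : Q8} (hX : inI X) : inI (-X) := by
  unfold inI at *
  simp only [neg_def]
  omega

theorem inI_sub {X Y : Q8} (hX : inI X) (hY : inI Y) : inI (X - Y) := by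
  unfold inI at *
  simp only [sub_def]
  omega

theorem inI_zs (n : ℤ) {X : Q8} (hX : inI X) : inI (zs n X) := by
  unfold inI at *
  simp only [zs]
  rcases Int.emod_two_eq_zero_or_one n with h | h
  · obtain ⟨k, rfl⟩ : ∃ k, n = 2 * k := ⟨n / 2, by omega⟩
    refine ⟨?_, ?_, ?_, ?_⟩
    · have : 2 * k * X.a0 + 2 * k * X.b0 + 2 * k * X.b1 + 2 * k * X.a3
          = 2 * (k * X.a0 + k * X.b0 + k * X.b1 + k * X.a3) := by ring
      rw [this]; omega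
    · have : 2 * k * X.b0 + 2 * k * X.a1 + 2 * k * X.b1 + 2 * k * X.a2
          = 2 * (k * X.b0 + k * X.a1 + k * X.b1 + k * X.a2) := by ring
      rw [this]; omega
    · have : 2 * k * X.b1 + 2 * k * X.a2 + 2 * k * X.a3 + 2 * k * X.b3
          = 2 * (k * X.b1 + k * X.a2 + k * X.a3 + k * X.b3) := by ring
      rw [this]; omega
    · have : 2 * k * X.b0 + 2 * k * X.a2 + 2 * k * X.b2 + 2 * k * X.a3
          = 2 * (k * X.b0 + k * X.a2 + k * X.b2 + k * X.a3) := by ring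
      rw [this]; omega
  · obtain ⟨k, rfl⟩ : ∃ k, n = 2 * k + 1 := ⟨n / 2, by omega⟩
    refine ⟨?_, ?_, ?_, ?_⟩
    · have : (2 * k + 1) * X.a0 + (2 * k + 1) * X.b0 + (2 * k + 1) * X.b1 + (2 * k + 1) * X.a3
          = 2 * (k * X.a0 + k * X.b0 + k * X.b1 + k * X.a3) + (X.a0 + X.b0 + X.b1 + X.a3) := by
        ring
      rw [this]; omega
    · have : (2 * k + 1) * X.b0 + (2 * k + 1) * X.a1 + (2 * k + 1) * X.b1 + (2 * k + 1) * X.a2
          = 2 * (k * X.b0 + k * X.a1 + k * X.b1 + k * X.a2) + (X.b0 + X.a1 + X.b1 + X.a2) := by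
        ring
      rw [this]; omega
    · have : (2 * k + 1) * X.b1 + (2 * k + 1) * X.a2 + (2 * k + 1) * X.a3 + (2 * k + 1) * X.b3
          = 2 * (k * X.b1 + k * X.a2 + k * X.a3 + k * X.b3) + (X.b1 + X.a2 + X.a3 + X.b3) := by
        ring
      rw [this]; omega
    · have : (2 * k + 1) * X.b0 + (2 * k + 1) * X.a2 + (2 * k + 1) * X.b2 + (2 * k + 1) * X.a3
          = 2 * (k * X.b0 + k * X.a2 + k * X.b2 + k * X.a3) + (X.b0 + X.a2 + X.b2 + X.a3) := by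
        ring
      rw [this]; omega

theorem inI_conj {X : Q8} (hX : inI X) : inI (conj X) := by
  unfold inI at *
  simp only [conj]
  omega

/-- `W ∈ 2 · (2I)`: the product of two elements of `2I` lands here -/
def inI2 (W : Q8) : Prop := ∃ Z, inI Z ∧ W = zs 2 Z

theorem inI2_add {X Y : Q8} (hX : inI2 X) (hY : inI2 Y) : inI2 (X + Y) := by
  obtain ⟨Z, hZ, rfl⟩ := hX
  obtain ⟨Z', hZ', rfl⟩ := hY
  exact ⟨Z + Z', inI_add hZ hZ', by ext <;> simp [zs, add_def] <;> ring⟩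

theorem inI2_zs (n : ℤ) {X : Q8} (hX : inI2 X) : inI2 (zs n X) := by
  obtain ⟨Z, hZ, rfl⟩ := hX
  exact ⟨zs n Z, inI_zs n hZ, by ext <;> simp [zs] <;> ring⟩

/-- the basis of units -/
def g1 : Q8 := ⟨2, 0, 0, 0, 0, 0, 0, 0⟩
def g2 : Q8 := ⟨0, 0, 2, 0, 0, 0, 0, 0⟩
def g3 : Q8 := ⟨1, 0, 1, -1, 0, 0, 0, 1⟩
def g4 : Q8 := ⟨-1, 1, 1, 0, 0, -1, 0, 0⟩
def g5 : Q8 := ⟨-1, 1, 1, 0, 0, 1, 0, 0⟩
def g6 : Q8 := ⟨-1, 0, -1, 1, 0, 0, 0, 1⟩
def g7 : Q8 := ⟨-1, 1, 0, 1, 0, 0, 1, 0⟩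
def g8 : Q8 := ⟨0, -1, -1, 1, -1, 0, 0, 0⟩

theorem add_mul' (X X' Y : Q8) : (X + X') * Y = X * Y + X' * Y := by
  ext <;> simp [mul_def, mul, add_def, m1, m2] <;> ring

theorem zs_mul' (n : ℤ) (X Y : Q8) : zs n X * Y = zs n (X * Y) := by
  ext <;> simp [mul_def, mul, zs, m1, m2] <;> ring

theorem mul_add' (X Y Y' : Q8) : X * (Y + Y') = X * Y + X * Y' := by
  ext <;> simp [mul_def, mul, add_def, m1, m2] <;> ring

theorem mul_zs' (n : ℤ) (X Y : Q8) : X * zs n Y = zs n (X * Y) := by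
  ext <;> simp [mul_def, mul, zs, m1, m2] <;> ring

theorem mul_assoc' (X Y Z : Q8) : X * Y * Z = X * (Y * Z) := by
  ext <;> simp [mul_def, mul, m1, m2] <;> ring

theorem span_of_inI {X : Q8} (h : inI X) :
    X = zs ((X.a0 + X.b0 + X.b1 - X.a3) / 2) g1 + zs ((-X.b0 + X.a1 + X.b1 + X.a2) / 2) g2
      + zs ((-X.b1 - X.a2 + X.a3 + X.b3) / 2) g3 + zs ((X.b0 - X.a2 - X.b2 - X.a3) / 2) g4
      + zs ((X.b0 - X.a2 + X.b2 - X.a3) / 2) g5 + zs ((X.b1 + X.a2 - X.a3 + X.b3) / 2) g6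
      + zs X.a3 g7 + zs (-X.a2) g8 := by
  unfold inI at h
  ext <;> simp only [add_def, zs, g1, g2, g3, g4, g5, g6, g7, g8] <;> omega

theorem g1_mul {Y : Q8} (h : inI Y) : inI2 (g1 * Y) := by
  unfold inI at h
  refine ⟨⟨(g1 * Y).a0 / 2, (g1 * Y).b0 / 2, (g1 * Y).a1 / 2, (g1 * Y).b1 / 2,
    (g1 * Y).a2 / 2, (g1 * Y).b2 / 2, (g1 * Y).a3 / 2, (g1 * Y).b3 / 2⟩, ?_, ?_⟩
  · unfold inI
    simp only [mul_def, mul, m1, m2, g1]
    omega
  · ext <;> simp only [mul_def, mul, m1, m2, g1, zs] <;> omega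

theorem g2_mul {Y : Q8} (h : inI Y) : inI2 (g2 * Y) := by
  unfold inI at h
  refine ⟨⟨(g2 * Y).a0 / 2, (g2 * Y).b0 / 2, (g2 * Y).a1 / 2, (g2 * Y).b1 / 2,
    (g2 * Y).a2 / 2, (g2 * Y).b2 / 2, (g2 * Y).a3 / 2, (g2 * Y).b3 / 2⟩, ?_, ?_⟩
  · unfold inI
    simp only [mul_def, mul, m1, m2, g2]
    omega
  · ext <;> simp only [mul_def, mul, m1, m2, g2, zs] <;> omega

theorem g3_mul {Y : Q8} (h : inI Y) : inI2 (g3 * Y) := by
  unfold inI at h
  refine ⟨⟨(g3 * Y).a0 / 2, (g3 * Y).b0 / 2, (g3 * Y).a1 / 2, (g3 * Y).b1 / 2,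
    (g3 * Y).a2 / 2, (g3 * Y).b2 / 2, (g3 * Y).a3 / 2, (g3 * Y).b3 / 2⟩, ?_, ?_⟩
  · unfold inI
    simp only [mul_def, mul, m1, m2, g3]
    omega
  · ext <;> simp only [mul_def, mul, m1, m2, g3, zs] <;> omega

theorem g4_mul {Y : Q8} (h : inI Y) : inI2 (g4 * Y) := by
  unfold inI at h
  refine ⟨⟨(g4 * Y).a0 / 2, (g4 * Y).b0 / 2, (g4 * Y).a1 / 2, (g4 * Y).b1 / 2,
    (g4 * Y).a2 / 2, (g4 * Y).b2 / 2, (g4 * Y).a3 / 2, (g4 * Y).b3 / 2⟩, ?_, ?_⟩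
  · unfold inI
    simp only [mul_def, mul, m1, m2, g4]
    omega
  · ext <;> simp only [mul_def, mul, m1, m2, g4, zs] <;> omega

theorem g5_mul {Y : Q8} (h : inI Y) : inI2 (g5 * Y) := by
  unfold inI at h
  refine ⟨⟨(g5 * Y).a0 / 2, (g5 * Y).b0 / 2, (g5 * Y).a1 / 2, (g5 * Y).b1 / 2,
    (g5 * Y).a2 / 2, (g5 * Y).b2 / 2, (g5 * Y).a3 / 2, (g5 * Y).b3 / 2⟩, ?_, ?_⟩
  · unfold inI
    simp only [mul_def, mul, m1, m2, g5]
    omega
  · ext <;> simp only [mul_def, mul, m1, m2, g5, zs] <;> omega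

theorem g6_mul {Y : Q8} (h : inI Y) : inI2 (g6 * Y) := by
  unfold inI at h
  refine ⟨⟨(g6 * Y).a0 / 2, (g6 * Y).b0 / 2, (g6 * Y).a1 / 2, (g6 * Y).b1 / 2,
    (g6 * Y).a2 / 2, (g6 * Y).b2 / 2, (g6 * Y).a3 / 2, (g6 * Y).b3 / 2⟩, ?_, ?_⟩
  · unfold inI
    simp only [mul_def, mul, m1, m2, g6]
    omega
  · ext <;> simp only [mul_def, mul, m1, m2, g6, zs] <;> omega

theorem g7_mul {Y : Q8} (h : inI Y) : inI2 (g7 * Y) := by
  unfold inI at h
  refine ⟨⟨(g7 * Y).a0 / 2, (g7 * Y).b0 / 2, (g7 * Y).a1 / 2, (g7 * Y).b1 / 2,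
    (g7 * Y).a2 / 2, (g7 * Y).b2 / 2, (g7 * Y).a3 / 2, (g7 * Y).b3 / 2⟩, ?_, ?_⟩
  · unfold inI
    simp only [mul_def, mul, m1, m2, g7]
    omega
  · ext <;> simp only [mul_def, mul, m1, m2, g7, zs] <;> omega

theorem g8_mul {Y : Q8} (h : inI Y) : inI2 (g8 * Y) := by
  unfold inI at h
  refine ⟨⟨(g8 * Y).a0 / 2, (g8 * Y).b0 / 2, (g8 * Y).a1 / 2, (g8 * Y).b1 / 2,
    (g8 * Y).a2 / 2, (g8 * Y).b2 / 2, (g8 * Y).a3 / 2, (g8 * Y).b3 / 2⟩, ?_, ?_⟩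
  · unfold inI
    simp only [mul_def, mul, m1, m2, g8]
    omega
  · ext <;> simp only [mul_def, mul, m1, m2, g8, zs] <;> omega

theorem mul_inI2 {X Y : Q8} (hX : inI X) (hY : inI Y) : inI2 (X * Y) := by
  rw [span_of_inI hX]
  simp only [add_mul', zs_mul']
  exact inI2_add (inI2_add (inI2_add (inI2_add (inI2_add (inI2_add (inI2_add
    (inI2_zs _ (g1_mul hY)) (inI2_zs _ (g2_mul hY))) (inI2_zs _ (g3_mul hY)))
    (inI2_zs _ (g4_mul hY))) (inI2_zs _ (g5_mul hY))) (inI2_zs _ (g6_mul hY)))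
    (inI2_zs _ (g7_mul hY))) (inI2_zs _ (g8_mul hY))

theorem ev_zs_two (Z : Q8) : ev (zs 2 Z) = (2 : ℝ) • ev Z := by
  rw [ev_zs]; norm_num

theorem hv_mul_of_eq {X Y Z : Q8} (h : X * Y = zs 2 Z) : hv X * hv Y = hv Z := by
  rw [hv_mul, h, ev_zs_two, hv, smul_smul]; norm_num

theorem exists_hv_mul {X Y : Q8} (hX : inI X) (hY : inI Y) :
    ∃ Z, inI Z ∧ X * Y = zs 2 Z ∧ hv X * hv Y = hv Z := by
  obtain ⟨Z, hZ, h⟩ := mul_inI2 hX hY
  exact ⟨Z, hZ, h, hv_mul_of_eq h⟩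

end Q8

open Q8

/-- the icosians as a subring given by the integer model -/
noncomputable def icoSub : Subring ℍ[ℝ] where
  carrier := {q | ∃ X, inI X ∧ hv X = q}
  mul_mem' := by
    rintro _ _ ⟨X, hX, rfl⟩ ⟨Y, hY, rfl⟩
    obtain ⟨Z, hZ, -, h⟩ := exists_hv_mul hX hY
    exact ⟨Z, hZ, h.symm⟩
  one_mem' := ⟨g1, by decide, by
    ext <;> simp [hv, g1]⟩
  add_mem' := by
    rintro _ _ ⟨X, hX, rfl⟩ ⟨Y, hY, rfl⟩
    exact ⟨X + Y, inI_add hX hY, hv_add X Y⟩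
  zero_mem' := ⟨0, inI_zero, hv_zero⟩
  neg_mem' := by
    rintro _ ⟨X, hX, rfl⟩
    exact ⟨-X, inI_neg hX, hv_neg X⟩

theorem mem_icoSub {q : ℍ[ℝ]} : q ∈ icoSub ↔ ∃ X, inI X ∧ hv X = q := Iff.rfl

/-- doubled coordinates of the generator `½(1 + σ i + τ k)` -/
def OM : Q8 := g3

theorem hv_g1 : hv g1 = 1 := by
  ext <;> simp [hv, g1]

theorem hv_g2 : hv g2 = qI := by
  ext <;> simp [hv, g2, qI]

theorem hv_g3 : hv g3 = ⟨1 / 2, sig / 2, 0, tau / 2⟩ := by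
  ext <;> simp [hv, g3, sig, tau] <;> ring

theorem icosians_le : icosians ≤ icoSub := by
  unfold icosians
  rw [Subring.closure_le]
  intro q hq
  rcases hq with rfl | rfl
  · exact ⟨g2, by decide, hv_g2⟩
  · exact ⟨g3, by decide, hv_g3⟩

theorem g2_mem : hv g2 ∈ icosians := by
  rw [hv_g2]; exact Subring.subset_closure (Set.mem_insert _ _)

theorem g3_mem : hv g3 ∈ icosians := by
  rw [hv_g3]; exact Subring.subset_closure (Set.mem_insert_of_mem _ rfl)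

theorem g4_mem : hv g4 ∈ icosians := by
  have : hv g2 * hv g3 = hv g4 := hv_mul_of_eq (by decide)
  rw [← this]; exact Subring.mul_mem _ g2_mem g3_mem

theorem g5_mem : hv g5 ∈ icosians := by
  have : hv g3 * hv g2 = hv g5 := hv_mul_of_eq (by decide)
  rw [← this]; exact Subring.mul_mem _ g3_mem g2_mem

theorem g6_mem : hv g6 ∈ icosians := by
  have : hv g4 * hv g2 = hv g6 := hv_mul_of_eq (by decide)
  rw [← this]; exact Subring.mul_mem _ g4_mem g2_mem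

theorem g7_mem : hv g7 ∈ icosians := by
  have : hv g5 * hv g3 = hv g7 := hv_mul_of_eq (by decide)
  rw [← this]; exact Subring.mul_mem _ g5_mem g3_mem

theorem g8_mem : hv g8 ∈ icosians := by
  have : hv g6 * hv g3 = hv g8 := hv_mul_of_eq (by decide)
  rw [← this]; exact Subring.mul_mem _ g6_mem g3_mem

theorem hv_zs (n : ℤ) (X : Q8) : hv (zs n X) = n • hv X := by
  rw [hv, ev_zs, hv, smul_comm, ← Int.cast_smul_eq_zsmul ℝ]

theorem icoSub_le : icoSub ≤ icosians := by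
  rintro _ ⟨X, hX, rfl⟩
  rw [span_of_inI hX]
  simp only [hv_add, hv_zs]
  have h1 : hv g1 ∈ icosians := by rw [hv_g1]; exact Subring.one_mem _
  exact Subring.add_mem _ (Subring.add_mem _ (Subring.add_mem _ (Subring.add_mem _
    (Subring.add_mem _ (Subring.add_mem _ (Subring.add_mem _
    (Subring.zsmul_mem _ h1 _) (Subring.zsmul_mem _ g2_mem _)) (Subring.zsmul_mem _ g3_mem _))
    (Subring.zsmul_mem _ g4_mem _)) (Subring.zsmul_mem _ g5_mem _)) (Subring.zsmul_mem _ g6_mem _))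
    (Subring.zsmul_mem _ g7_mem _)) (Subring.zsmul_mem _ g8_mem _)

theorem icosians_eq : icosians = icoSub := le_antisymm icosians_le icoSub_le

theorem mem_icosians_iff {q : ℍ[ℝ]} : q ∈ icosians ↔ ∃ X, inI X ∧ hv X = q := by
  rw [icosians_eq]; exact Iff.rfl

theorem hv_mem_icosians_iff {X : Q8} : hv X ∈ icosians ↔ inI X := by
  rw [mem_icosians_iff]
  constructor
  · rintro ⟨Y, hY, h⟩
    rwa [← hv_injective h]
  · intro h; exact ⟨X, h, rfl⟩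

end Cfsg.Agent.Helper14.J2
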