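import Cfsg.Agent.Helper14.J2B

/-!
# The icosian Leech lattice: abstract facts

* `icoLeech` is closed under addition, negation and left multiplication by icosians;
* `qip x r ∈ 2 I` for `x r ∈ icoLeech`;
* the reflection `qrefl r` in a vector `r ∈ icoLeech` with `qip r r = 4` is an involutive
  permutation `reflPerm` of `icoLeech`.
-/

set_option autoImplicit false

namespace Cfsg.Agent.Helper14.J2

open Quaternion Cfsg.Spor Q8

theorem star_mem_icosians {q : ℍ[ℝ]} (h : q ∈ icosians) : star q ∈ icosians := by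
  rw [mem_icosians_iff] at h ⊢
  obtain ⟨X, hX, rfl⟩ := h
  exact ⟨conj X, inI_conj hX, hv_conj X⟩

theorem sqrt5_sq : Real.sqrt 5 * Real.sqrt 5 = 5 := Real.mul_self_sqrt (by norm_num)

/-- doubled coordinates of `h = ½(−√5 + i + j + k)` -/
def Hq : Q8 := ⟨1, -2, 1, 0, 1, 0, 1, 0⟩

theorem hv_Hq : hv Hq = icoH := by
  ext <;> simp [hv, Hq, icoH, tau] <;> ring

theorem hv_four : hv ⟨4, 0, 0, 0, 0, 0, 0, 0⟩ = 2 := by
  ext
  · show (hv ⟨4, 0, 0, 0, 0, 0, 0, 0⟩).re = 2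
    simp [hv]; norm_num
  · show (hv ⟨4, 0, 0, 0, 0, 0, 0, 0⟩).imI = 0
    simp [hv]
  · show (hv ⟨4, 0, 0, 0, 0, 0, 0, 0⟩).imJ = 0
    simp [hv]
  · show (hv ⟨4, 0, 0, 0, 0, 0, 0, 0⟩).imK = 0
    simp [hv]

theorem mul_two_comm (a : ℍ[ℝ]) : a * 2 = 2 * a := (Commute.ofNat_right a 2).eq

theorem icoH_mul_star : icoH * star icoH = 2 := by
  rw [← hv_Hq, ← hv_conj, ← hv_four]
  exact hv_mul_of_eq (by decide)

theorem star_icoH_mul : star icoH * icoH = 2 := by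
  rw [← hv_Hq, ← hv_conj, ← hv_four]
  exact hv_mul_of_eq (by decide)

/-! ### left ideals -/

theorem leftIdeal_add {q x y : ℍ[ℝ]} (hx : x ∈ leftIdeal q) (hy : y ∈ leftIdeal q) :
    x + y ∈ leftIdeal q := by
  obtain ⟨a, ha, rfl⟩ := hx
  obtain ⟨b, hb, rfl⟩ := hy
  exact ⟨a + b, Subring.add_mem _ ha hb, by rw [add_mul]⟩

theorem leftIdeal_neg {q x : ℍ[ℝ]} (hx : x ∈ leftIdeal q) : -x ∈ leftIdeal q := by
  obtain ⟨a, ha, rfl⟩ := hx
  exact ⟨-a, Subring.neg_mem _ ha, by rw [neg_mul]⟩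

theorem leftIdeal_sub {q x y : ℍ[ℝ]} (hx : x ∈ leftIdeal q) (hy : y ∈ leftIdeal q) :
    x - y ∈ leftIdeal q := by
  rw [sub_eq_add_neg]; exact leftIdeal_add hx (leftIdeal_neg hy)

theorem leftIdeal_mul {q x a : ℍ[ℝ]} (ha : a ∈ icosians) (hx : x ∈ leftIdeal q) :
    a * x ∈ leftIdeal q := by
  obtain ⟨b, hb, rfl⟩ := hx
  exact ⟨a * b, Subring.mul_mem _ ha hb, by rw [mul_assoc]⟩

theorem leftIdeal_zero (q : ℍ[ℝ]) : (0 : ℍ[ℝ]) ∈ leftIdeal q :=
  ⟨0, Subring.zero_mem _, by rw [zero_mul]⟩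

/-! ### the lattice -/

/-- left multiplication of a vector by a quaternion -/
noncomputable def lsm (a : ℍ[ℝ]) (v : Fin 3 → ℍ[ℝ]) : Fin 3 → ℍ[ℝ] := fun t => a * v t

theorem icoLeech_add {v w : Fin 3 → ℍ[ℝ]} (hv : v ∈ icoLeech) (hw : w ∈ icoLeech) :
    v + w ∈ icoLeech := by
  obtain ⟨h1, h2, h3, h4⟩ := hv
  obtain ⟨k1, k2, k3, k4⟩ := hw
  refine ⟨fun t => Subring.add_mem _ (h1 t) (k1 t), ?_, ?_, ?_⟩
  · have : (v + w) 0 - (v + w) 1 = (v 0 - v 1) + (w 0 - w 1) := by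
      simp only [Pi.add_apply]; abel
    rw [this]; exact leftIdeal_add h2 k2
  · have : (v + w) 1 - (v + w) 2 = (v 1 - v 2) + (w 1 - w 2) := by
      simp only [Pi.add_apply]; abel
    rw [this]; exact leftIdeal_add h3 k3
  · have : (v + w) 0 + (v + w) 1 + (v + w) 2 = (v 0 + v 1 + v 2) + (w 0 + w 1 + w 2) := by
      simp only [Pi.add_apply]; abel
    rw [this]; exact leftIdeal_add h4 k4

theorem icoLeech_neg {v : Fin 3 → ℍ[ℝ]} (hv : v ∈ icoLeech) : -v ∈ icoLeech := by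
  obtain ⟨h1, h2, h3, h4⟩ := hv
  refine ⟨fun t => Subring.neg_mem _ (h1 t), ?_, ?_, ?_⟩
  · have : (-v) 0 - (-v) 1 = -(v 0 - v 1) := by
      simp only [Pi.neg_apply]; abel
    rw [this]; exact leftIdeal_neg h2
  · have : (-v) 1 - (-v) 2 = -(v 1 - v 2) := by
      simp only [Pi.neg_apply]; abel
    rw [this]; exact leftIdeal_neg h3
  · have : (-v) 0 + (-v) 1 + (-v) 2 = -(v 0 + v 1 + v 2) := by
      simp only [Pi.neg_apply]; abel
    rw [this]; exact leftIdeal_neg h4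

theorem icoLeech_sub {v w : Fin 3 → ℍ[ℝ]} (hv : v ∈ icoLeech) (hw : w ∈ icoLeech) :
    v - w ∈ icoLeech := by
  rw [sub_eq_add_neg]; exact icoLeech_add hv (icoLeech_neg hw)

theorem icoLeech_zero : (0 : Fin 3 → ℍ[ℝ]) ∈ icoLeech :=
  ⟨fun _ => Subring.zero_mem _, by simpa using leftIdeal_zero _, by simpa using leftIdeal_zero _,
    by simpa using leftIdeal_zero _⟩

theorem icoLeech_lsm {a : ℍ[ℝ]} (ha : a ∈ icosians) {v : Fin 3 → ℍ[ℝ]} (hv : v ∈ icoLeech) :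
    lsm a v ∈ icoLeech := by
  obtain ⟨h1, h2, h3, h4⟩ := hv
  refine ⟨fun t => Subring.mul_mem _ ha (h1 t), ?_, ?_, ?_⟩
  · have : lsm a v 0 - lsm a v 1 = a * (v 0 - v 1) := by simp only [lsm]; rw [mul_sub]
    rw [this]; exact leftIdeal_mul ha h2
  · have : lsm a v 1 - lsm a v 2 = a * (v 1 - v 2) := by simp only [lsm]; rw [mul_sub]
    rw [this]; exact leftIdeal_mul ha h3
  · have : lsm a v 0 + lsm a v 1 + lsm a v 2 = a * (v 0 + v 1 + v 2) := by
      simp only [lsm]; rw [mul_add, mul_add]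
    rw [this]; exact leftIdeal_mul ha h4

/-! ### the Hermitian product -/

theorem qip_def (x r : Fin 3 → ℍ[ℝ]) :
    qip x r = x 0 * star (r 0) + x 1 * star (r 1) + x 2 * star (r 2) := by
  simp [qip, Fin.sum_univ_three]

theorem qip_add_left (x y r : Fin 3 → ℍ[ℝ]) : qip (x + y) r = qip x r + qip y r := by
  simp only [qip_def, Pi.add_apply, add_mul]; abel

theorem qip_sub_left (x y r : Fin 3 → ℍ[ℝ]) : qip (x - y) r = qip x r - qip y r := by
  simp only [qip_def, Pi.sub_apply, sub_mul]; abel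

theorem qip_lsm_left (a : ℍ[ℝ]) (x r : Fin 3 → ℍ[ℝ]) : qip (lsm a x) r = a * qip x r := by
  simp only [qip_def, lsm, mul_add, mul_assoc]

theorem qip_lsm_right (a : ℍ[ℝ]) (x r : Fin 3 → ℍ[ℝ]) :
    qip x (lsm a r) = qip x r * star a := by
  simp only [qip_def, lsm, add_mul, star_mul, mul_assoc]

theorem star_qip (x r : Fin 3 → ℍ[ℝ]) : star (qip x r) = qip r x := by
  simp only [qip_def, star_add, star_mul, star_star]

/-- the key fact: the Hermitian product of two lattice vectors lies in `2 I` -/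
theorem qip_mem_two {x r : Fin 3 → ℍ[ℝ]} (hx : x ∈ icoLeech) (hr : r ∈ icoLeech) :
    ∃ a ∈ icosians, qip x r = 2 * a := by
  obtain ⟨h1, ⟨a, ha, h2⟩, ⟨b, hb, h3⟩, ⟨c, hc, h4⟩⟩ := hx
  obtain ⟨k1, ⟨a', ha', k2⟩, ⟨b', hb', k3⟩, ⟨c', hc', k4⟩⟩ := hr
  have hhs : icoH * star icoH = 2 := icoH_mul_star
  have hsh : star icoH * icoH = 2 := star_icoH_mul
  -- the three pieces
  have e1 : (x 0 - x 1) * star (r 0 - r 1) = 2 * (a * star a') := by
    rw [h2, k2, star_mul, mul_assoc, ← mul_assoc icoH, hhs]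
    rw [← mul_assoc, ← mul_assoc]
    rw [mul_two_comm a]
  have e2 : (x 1 - x 2) * star (r 1 - r 2) = 2 * (b * star b') := by
    rw [h3, k3, star_mul, mul_assoc, ← mul_assoc icoH, hhs]
    rw [← mul_assoc, ← mul_assoc]
    rw [mul_two_comm b]
  have e3 : (x 0 - x 2) * star (r 0 - r 2) = 2 * ((a + b) * star (a' + b')) := by
    have hx02 : x 0 - x 2 = (a + b) * icoH := by
      rw [add_mul, ← h2, ← h3]; abel
    have hr02 : r 0 - r 2 = (a' + b') * icoH := by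
      rw [add_mul, ← k2, ← k3]; abel
    rw [hx02, hr02, star_mul, mul_assoc, ← mul_assoc icoH, hhs]
    rw [← mul_assoc, ← mul_assoc]
    rw [mul_two_comm (a + b)]
  have e4 : (x 0 + x 1 + x 2) * star (r 0 + r 1 + r 2) = 2 * (c * star c') := by
    rw [h4, k4, star_mul, star_star, mul_assoc, ← mul_assoc (star icoH), hsh]
    rw [← mul_assoc, ← mul_assoc]
    rw [mul_two_comm c]
  have key : 3 * qip x r = (x 0 + x 1 + x 2) * star (r 0 + r 1 + r 2)
      + (x 0 - x 1) * star (r 0 - r 1) + (x 1 - x 2) * star (r 1 - r 2)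
      + (x 0 - x 2) * star (r 0 - r 2) := by
    rw [qip_def]
    simp only [star_add, star_sub, mul_add, add_mul, mul_sub, sub_mul]
    have : (3 : ℍ[ℝ]) = 1 + 1 + 1 := by norm_num
    rw [this]
    simp only [add_mul, one_mul]
    abel
  rw [e1, e2, e3, e4] at key
  have hI : qip x r ∈ icosians := by
    rw [qip_def]
    exact Subring.add_mem _ (Subring.add_mem _
      (Subring.mul_mem _ (h1 0) (star_mem_icosians (k1 0)))
      (Subring.mul_mem _ (h1 1) (star_mem_icosians (k1 1))))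
      (Subring.mul_mem _ (h1 2) (star_mem_icosians (k1 2)))
  refine ⟨c * star c' + a * star a' + b * star b' + (a + b) * star (a' + b') - qip x r, ?_, ?_⟩
  · exact Subring.sub_mem _ (Subring.add_mem _ (Subring.add_mem _ (Subring.add_mem _
      (Subring.mul_mem _ hc (star_mem_icosians hc'))
      (Subring.mul_mem _ ha (star_mem_icosians ha')))
      (Subring.mul_mem _ hb (star_mem_icosians hb')))
      (Subring.mul_mem _ (Subring.add_mem _ ha hb)
        (star_mem_icosians (Subring.add_mem _ ha' hb')))) hI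
  · rw [mul_sub, mul_add, mul_add, mul_add, ← key]
    have : (3 : ℍ[ℝ]) = 1 + 2 := by norm_num
    rw [this, add_mul, one_mul]; abel

/-- half of the Hermitian product is an icosian -/
theorem half_qip_mem {x r : Fin 3 → ℍ[ℝ]} (hx : x ∈ icoLeech) (hr : r ∈ icoLeech) :
    (1 / 2 : ℝ) • qip x r ∈ icosians := by
  obtain ⟨a, ha, h⟩ := qip_mem_two hx hr
  rw [h]
  have : (1 / 2 : ℝ) • ((2 : ℍ[ℝ]) * a) = a := by
    rw [← smul_mul_assoc]
    have : (1 / 2 : ℝ) • (2 : ℍ[ℝ]) = 1 := by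
      rw [show (2 : ℍ[ℝ]) = ((2 : ℝ) : ℍ[ℝ]) from (QuaternionAlgebra.coe_ofNat).symm]
      ext <;> simp
    rw [this, one_mul]
  rw [this]; exact ha

/-! ### reflections -/

theorem qrefl_eq (r x : Fin 3 → ℍ[ℝ]) :
    qrefl r x = x - lsm ((1 / 2 : ℝ) • qip x r) r := by
  funext t; simp [qrefl, lsm]

theorem qrefl_mem {r x : Fin 3 → ℍ[ℝ]} (hr : r ∈ icoLeech) (hx : x ∈ icoLeech) :
    qrefl r x ∈ icoLeech := by
  rw [qrefl_eq]
  exact icoLeech_sub hx (icoLeech_lsm (half_qip_mem hx hr) hr)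

theorem qrefl_qrefl {r : Fin 3 → ℍ[ℝ]} (hr : qip r r = 4) (x : Fin 3 → ℍ[ℝ]) :
    qrefl r (qrefl r x) = x := by
  have h1 : qip (qrefl r x) r = -qip x r := by
    rw [qrefl_eq, qip_sub_left, qip_lsm_left, hr]
    rw [smul_mul_assoc]
    have : qip x r * 4 = (4 : ℝ) • qip x r := by
      rw [show (4 : ℍ[ℝ]) = ((4 : ℝ) : ℍ[ℝ]) from (QuaternionAlgebra.coe_ofNat).symm,
        ← Quaternion.coe_commutes, Quaternion.coe_mul_eq_smul]
    rw [this, smul_smul]
    norm_num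
    rw [two_smul]; abel
  rw [qrefl_eq (x := qrefl r x), h1, qrefl_eq]
  funext t
  simp only [Pi.sub_apply, lsm, smul_neg, neg_mul]
  abel

/-- the reflection in a minimal vector as a permutation of the lattice -/
noncomputable def reflPerm (r : icoLeech) (hr : qip (r : Fin 3 → ℍ[ℝ]) r = 4) :
    Equiv.Perm icoLeech where
  toFun x := ⟨qrefl r x, qrefl_mem r.2 x.2⟩
  invFun x := ⟨qrefl r x, qrefl_mem r.2 x.2⟩
  left_inv x := Subtype.ext (qrefl_qrefl hr x)
  right_inv x := Subtype.ext (qrefl_qrefl hr x)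

theorem reflPerm_apply (r : icoLeech) (hr : qip (r : Fin 3 → ℍ[ℝ]) r = 4) (x : icoLeech) :
    ((reflPerm r hr x : icoLeech) : Fin 3 → ℍ[ℝ]) = qrefl r x := rfl

theorem isIcoReflection_reflPerm (r : icoLeech) (hr : qip (r : Fin 3 → ℍ[ℝ]) r = 4) :
    IsIcoReflection (reflPerm r hr) := ⟨r, hr, fun _ => rfl⟩

theorem isIcoReflection_iff (f : Equiv.Perm icoLeech) :
    IsIcoReflection f ↔ ∃ (r : icoLeech) (hr : qip (r : Fin 3 → ℍ[ℝ]) r = 4), f = reflPerm r hr := by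
  constructor
  · rintro ⟨r, hr, h⟩
    refine ⟨r, hr, ?_⟩
    ext x : 1
    exact Subtype.ext (h x)
  · rintro ⟨r, hr, rfl⟩
    exact isIcoReflection_reflPerm r hr

end Cfsg.Agent.Helper14.J2
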