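import Cfsg.Agent.Helper14.J2C

/-!
# The icosian Leech lattice in the integer model

`V3` = triples of `Q8`; `emb v` the corresponding vector of `ℍ[ℝ]³`; `inL v` the (decidable)
membership of `emb v` in `icoLeech`; `ip` the Hermitian product; `isMin v`.
-/

set_option autoImplicit false

namespace Cfsg.Agent.Helper14.J2

open Quaternion Cfsg.Spor Q8

namespace Q8

/-- the real scalar `n` in doubled... plain coordinates -/
def sc (n : ℤ) : Q8 := ⟨n, 0, 0, 0, 0, 0, 0, 0⟩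

theorem mul_sc (X : Q8) (n : ℤ) : X * sc n = zs n X := by
  ext <;> simp [mul_def, mul, sc, zs, m1, m2] <;> ring

theorem sc_mul (X : Q8) (n : ℤ) : sc n * X = zs n X := by
  ext <;> simp [mul_def, mul, sc, zs, m1, m2]

theorem zs_zs (m n : ℤ) (X : Q8) : zs m (zs n X) = zs (m * n) X := by
  ext <;> simp [zs] <;> ring

theorem zs_inj {n : ℤ} (hn : n ≠ 0) {X Y : Q8} (h : zs n X = zs n Y) : X = Y := by
  have h0 := congrArg Q8.a0 h
  have h1 := congrArg Q8.b0 h
  have h2 := congrArg Q8.a1 h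
  have h3 := congrArg Q8.b1 h
  have h4 := congrArg Q8.a2 h
  have h5 := congrArg Q8.b2 h
  have h6 := congrArg Q8.a3 h
  have h7 := congrArg Q8.b3 h
  simp only [zs] at h0 h1 h2 h3 h4 h5 h6 h7
  exact ext' (mul_left_cancel₀ hn h0) (mul_left_cancel₀ hn h1) (mul_left_cancel₀ hn h2)
    (mul_left_cancel₀ hn h3) (mul_left_cancel₀ hn h4) (mul_left_cancel₀ hn h5)
    (mul_left_cancel₀ hn h6) (mul_left_cancel₀ hn h7)

/-- exact quotient by 4 -/
def quarter (P : Q8) : Q8 :=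
  ⟨P.a0 / 4, P.b0 / 4, P.a1 / 4, P.b1 / 4, P.a2 / 4, P.b2 / 4, P.a3 / 4, P.b3 / 4⟩

/-- all coordinates divisible by 4 -/
def div4 (P : Q8) : Prop :=
  P.a0 % 4 = 0 ∧ P.b0 % 4 = 0 ∧ P.a1 % 4 = 0 ∧ P.b1 % 4 = 0 ∧
  P.a2 % 4 = 0 ∧ P.b2 % 4 = 0 ∧ P.a3 % 4 = 0 ∧ P.b3 % 4 = 0

instance : DecidablePred div4 := fun P => by unfold div4; infer_instance

theorem zs_quarter {P : Q8} (h : div4 P) : zs 4 (quarter P) = P := by
  unfold div4 at h
  ext <;> simp only [zs, quarter] <;> omega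

theorem div4_zs (A : Q8) : div4 (zs 4 A) := by
  unfold div4; simp only [zs]; omega

theorem quarter_zs (A : Q8) : quarter (zs 4 A) = A := by
  ext <;> simp only [zs, quarter] <;> omega

/-- `hv W ∈ I · hv G` for `G` of norm 2 -/
def inId (G W : Q8) : Prop := div4 (W * conj G) ∧ inI (quarter (W * conj G))

instance (G : Q8) : DecidablePred (inId G) := fun W => by unfold inId; infer_instance

theorem mem_leftIdeal_iff {G : Q8} (h1 : G * conj G = sc 8) (h2 : conj G * G = sc 8) (W : Q8) :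
    hv W ∈ leftIdeal (hv G) ↔ inId G W := by
  constructor
  · rintro ⟨a, ha, h⟩
    rw [mem_icosians_iff] at ha
    obtain ⟨A, hA, rfl⟩ := ha
    have e1 : zs 2 W = A * G := by
      apply ev_injective
      rw [hv_mul] at h
      have h' : (4 : ℝ) • hv W = (4 : ℝ) • ((1 / 4 : ℝ) • ev (A * G)) := by rw [h]
      rw [smul_smul, hv, smul_smul] at h'
      norm_num at h'
      rw [ev_zs]; push_cast; exact h'
    have e2 : W * conj G = zs 4 A := by
      apply zs_inj (n := 2) (by norm_num)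
      rw [← zs_mul', e1, mul_assoc', h1, mul_sc, zs_zs]; norm_num
    unfold inId
    rw [e2]
    exact ⟨div4_zs A, by rw [quarter_zs]; exact hA⟩
  · rintro ⟨hd, hq⟩
    set A := quarter (W * conj G) with hA
    have e2 : zs 4 A = W * conj G := zs_quarter hd
    have e1 : A * G = zs 2 W := by
      apply zs_inj (n := 4) (by norm_num)
      rw [← zs_mul', e2, mul_assoc', h2, mul_sc, zs_zs]; norm_num
    refine ⟨hv A, hv_mem_icosians_iff.mpr hq, ?_⟩
    exact (hv_mul_of_eq e1).symm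

theorem Hq_norm : Hq * conj Hq = sc 8 := by decide
theorem Hq_norm' : conj Hq * Hq = sc 8 := by decide
theorem conj_conj (X : Q8) : conj (conj X) = X := by
  ext <;> simp [conj]

theorem mem_leftIdeal_icoH (W : Q8) : hv W ∈ leftIdeal icoH ↔ inId Hq W := by
  rw [← hv_Hq]; exact mem_leftIdeal_iff Hq_norm Hq_norm' W

theorem mem_leftIdeal_star_icoH (W : Q8) : hv W ∈ leftIdeal (star icoH) ↔ inId (conj Hq) W := by
  rw [← hv_Hq, ← hv_conj]
  exact mem_leftIdeal_iff (by rw [conj_conj]; exact Hq_norm') (by rw [conj_conj]; exact Hq_norm) W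

/-- the two coordinates of the norm `X · conj X = nP + nQ τ` (times 4) -/
def nP (X : Q8) : ℤ := X.a0 ^ 2 + X.b0 ^ 2 + X.a1 ^ 2 + X.b1 ^ 2 + X.a2 ^ 2 + X.b2 ^ 2
  + X.a3 ^ 2 + X.b3 ^ 2
def nQ (X : Q8) : ℤ := 2 * X.a0 * X.b0 + X.b0 ^ 2 + 2 * X.a1 * X.b1 + X.b1 ^ 2
  + 2 * X.a2 * X.b2 + X.b2 ^ 2 + 2 * X.a3 * X.b3 + X.b3 ^ 2

theorem mul_conj_self (X : Q8) : X * conj X = ⟨nP X, nQ X, 0, 0, 0, 0, 0, 0⟩ := by
  ext <;> simp [mul_def, mul, conj, m1, m2, nP, nQ] <;> ring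

end Q8

/-- triples of model quaternions -/
structure V3 where
  x : Q8
  y : Q8
  z : Q8
deriving DecidableEq, Repr

namespace V3

/-- the corresponding vector of real quaternions -/
noncomputable def emb (v : V3) : Fin 3 → ℍ[ℝ] := ![hv v.x, hv v.y, hv v.z]

@[simp] theorem emb_zero (v : V3) : emb v 0 = hv v.x := rfl
@[simp] theorem emb_one (v : V3) : emb v 1 = hv v.y := rfl
@[simp] theorem emb_two (v : V3) : emb v 2 = hv v.z := rfl

theorem emb_injective : Function.Injective emb := by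
  intro v w h
  have h0 := congrFun h 0
  have h1 := congrFun h 1
  have h2 := congrFun h 2
  simp only [emb_zero, emb_one, emb_two] at h0 h1 h2
  cases v; cases w
  simp only [mk.injEq]
  exact ⟨hv_injective h0, hv_injective h1, hv_injective h2⟩

/-- membership in the lattice -/
def inL (v : V3) : Prop :=
  inI v.x ∧ inI v.y ∧ inI v.z ∧ inId Hq (v.x - v.y) ∧ inId Hq (v.y - v.z) ∧
    inId (Q8.conj Hq) (v.x + v.y + v.z)

instance : DecidablePred inL := fun v => by unfold inL; infer_instance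

theorem emb_mem_icoLeech_iff (v : V3) : emb v ∈ icoLeech ↔ inL v := by
  unfold icoLeech inL
  simp only [Set.mem_ofPred_eq, emb_zero, emb_one, emb_two]
  rw [← hv_sub, ← hv_sub, ← hv_add, ← hv_add, mem_leftIdeal_icoH, mem_leftIdeal_icoH,
    mem_leftIdeal_star_icoH]
  constructor
  · rintro ⟨h1, h2, h3, h4⟩
    exact ⟨hv_mem_icosians_iff.mp (h1 0), hv_mem_icosians_iff.mp (h1 1),
      hv_mem_icosians_iff.mp (h1 2), h2, h3, h4⟩
  · rintro ⟨h1, h2, h3, h4, h5, h6⟩
    refine ⟨?_, h4, h5, h6⟩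
    intro t
    fin_cases t
    · exact hv_mem_icosians_iff.mpr h1
    · exact hv_mem_icosians_iff.mpr h2
    · exact hv_mem_icosians_iff.mpr h3

theorem exists_emb_of_mem {r : Fin 3 → ℍ[ℝ]} (hr : r ∈ icoLeech) : ∃ v : V3, inL v ∧ emb v = r := by
  obtain ⟨X, hX, h0⟩ := mem_icosians_iff.mp (hr.1 0)
  obtain ⟨Y, hY, h1⟩ := mem_icosians_iff.mp (hr.1 1)
  obtain ⟨Z, hZ, h2⟩ := mem_icosians_iff.mp (hr.1 2)
  have he : emb ⟨X, Y, Z⟩ = r := by
    funext t
    fin_cases t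
    · exact h0
    · exact h1
    · exact h2
  refine ⟨⟨X, Y, Z⟩, ?_, he⟩
  rw [← emb_mem_icoLeech_iff, he]; exact hr

/-- the Hermitian product in the model (times 4) -/
def ip (v w : V3) : Q8 := v.x * Q8.conj w.x + v.y * Q8.conj w.y + v.z * Q8.conj w.z

theorem qip_emb (v w : V3) : qip (emb v) (emb w) = (1 / 4 : ℝ) • ev (ip v w) := by
  rw [qip_def]
  simp only [emb_zero, emb_one, emb_two, ip, ev_add, smul_add, ← hv_conj, hv_mul]

theorem ev_sc (n : ℤ) : ev (sc n) = ((n : ℝ) : ℍ[ℝ]) := by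
  ext <;> simp [sc]

theorem qip_emb_eq_four_iff (v : V3) : qip (emb v) (emb v) = 4 ↔ ip v v = sc 16 := by
  rw [qip_emb]
  constructor
  · intro h
    apply ev_injective
    rw [ev_sc]
    have h' : (4 : ℝ) • ((1 / 4 : ℝ) • ev (ip v v)) = (4 : ℝ) • (4 : ℍ[ℝ]) := by rw [h]
    rw [smul_smul] at h'
    norm_num at h'
    rw [h']
    rw [show (4 : ℍ[ℝ]) = ((4 : ℝ) : ℍ[ℝ]) from (QuaternionAlgebra.coe_ofNat).symm]
    ext <;> simp <;> norm_num
  · intro h
    rw [h, ev_sc]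
    rw [show (4 : ℍ[ℝ]) = ((4 : ℝ) : ℍ[ℝ]) from (QuaternionAlgebra.coe_ofNat).symm]
    ext <;> simp <;> norm_num

/-- minimal vectors in the model -/
def isMin (v : V3) : Prop := inL v ∧ ip v v = sc 16

instance : DecidablePred isMin := fun v => by unfold isMin; infer_instance

theorem isMin_iff (v : V3) : isMin v ↔ emb v ∈ icoLeech ∧ qip (emb v) (emb v) = 4 := by
  unfold isMin
  rw [emb_mem_icoLeech_iff, qip_emb_eq_four_iff]

theorem ip_self (v : V3) : ip v v = ⟨nP v.x + nP v.y + nP v.z, nQ v.x + nQ v.y + nQ v.z,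
    0, 0, 0, 0, 0, 0⟩ := by
  unfold ip
  rw [mul_conj_self, mul_conj_self, mul_conj_self]
  ext <;> simp [Q8.add_def]

theorem isMin_norm {v : V3} (h : isMin v) :
    nP v.x + nP v.y + nP v.z = 16 ∧ nQ v.x + nQ v.y + nQ v.z = 0 := by
  have := h.2
  rw [ip_self] at this
  have h0 := congrArg Q8.a0 this
  have h1 := congrArg Q8.b0 this
  exact ⟨h0, h1⟩

end V3

end Cfsg.Agent.Helper14.J2
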