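import Cfsg.Agent.Helper14.J2D

/-!
# Norms of the coordinates of a minimal vector; enumeration of small icosians
-/

set_option autoImplicit false

namespace Cfsg.Agent.Helper14.J2

open Quaternion Cfsg.Spor Q8

theorem tau_add_sig : tau + sig = 1 := by unfold tau sig; ring

theorem tau_mul_sig : tau * sig = -1 := by
  unfold tau sig
  have h := sqrt5_sq
  nlinarith [h]

theorem sig_sq : sig * sig = sig + 1 := by
  unfold sig
  have h := sqrt5_sq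
  nlinarith [h]

namespace Q8

theorem alpha_eq (X : Q8) : (nP X : ℝ) + nQ X * tau =
    (X.a0 + X.b0 * tau) ^ 2 + (X.a1 + X.b1 * tau) ^ 2 + (X.a2 + X.b2 * tau) ^ 2
      + (X.a3 + X.b3 * tau) ^ 2 := by
  have h := tau_sq
  unfold nP nQ
  push_cast
  linear_combination (-(X.b0 : ℝ) ^ 2 - (X.b1 : ℝ) ^ 2 - (X.b2 : ℝ) ^ 2 - (X.b3 : ℝ) ^ 2) * h

theorem beta_eq (X : Q8) : (nP X : ℝ) + nQ X * sig =
    (X.a0 + X.b0 * sig) ^ 2 + (X.a1 + X.b1 * sig) ^ 2 + (X.a2 + X.b2 * sig) ^ 2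
      + (X.a3 + X.b3 * sig) ^ 2 := by
  have h := sig_sq
  unfold nP nQ
  push_cast
  linear_combination (-(X.b0 : ℝ) ^ 2 - (X.b1 : ℝ) ^ 2 - (X.b2 : ℝ) ^ 2 - (X.b3 : ℝ) ^ 2) * h

theorem alpha_nonneg (X : Q8) : 0 ≤ (nP X : ℝ) + nQ X * tau := by
  rw [alpha_eq]; positivity

theorem beta_nonneg (X : Q8) : 0 ≤ (nP X : ℝ) + nQ X * sig := by
  rw [beta_eq]; positivity

theorem norm_div4 {X : Q8} (h : inI X) : nP X % 4 = 0 ∧ nQ X % 4 = 0 := by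
  obtain ⟨Z, hZ, e⟩ := mul_inI2 h (inI_conj h)
  rw [mul_conj_self] at e
  have h0 := congrArg Q8.a0 e
  have h1 := congrArg Q8.b0 e
  have h2 := congrArg Q8.a1 e
  have h3 := congrArg Q8.b1 e
  have h4 := congrArg Q8.a2 e
  have h5 := congrArg Q8.b2 e
  have h6 := congrArg Q8.a3 e
  have h7 := congrArg Q8.b3 e
  simp only [zs] at h0 h1 h2 h3 h4 h5 h6 h7
  unfold inI at hZ
  omega

end Q8

/-- integer pairs `(p, q)` with `p + q τ` and `4 - p - q τ` totally non-negative -/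
theorem allowed_of (p q : ℤ) (h1 : 0 ≤ p ^ 2 + p * q - q ^ 2)
    (h2 : 0 ≤ (4 - p) ^ 2 - (4 - p) * q - q ^ 2) (h3 : 0 ≤ 2 * p + q) (h4 : 2 * p + q ≤ 8) :
    (p, q) ∈ [((0 : ℤ), (0 : ℤ)), (1, 0), (2, 0), (3, 0), (4, 0), (1, 1), (2, -1), (2, 1), (3, -1)] := by
  have hq : q ^ 2 ≤ 3 := by
    by_cases hs : 2 * p + q ≤ 4
    · nlinarith
    · nlinarith
  have hq1 : -1 ≤ q := by nlinarith
  have hq2 : q ≤ 1 := by nlinarith
  have hp1 : 0 ≤ p := by omega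
  have hp2 : p ≤ 4 := by omega
  interval_cases q <;> interval_cases p <;> simp_all

/-- the allowed values of `(nP, nQ)` for a coordinate of a minimal vector -/
def allowedPQ : List (ℤ × ℤ) :=
  [(0, 0), (4, 0), (8, 0), (12, 0), (16, 0), (4, 4), (8, -4), (8, 4), (12, -4)]

theorem allowed_real (p q : ℤ) (a1 : 0 ≤ 4 * (p : ℝ) + 4 * q * tau)
    (b1 : 0 ≤ 4 * (p : ℝ) + 4 * q * sig)
    (a' : 0 ≤ (16 - 4 * (p : ℝ)) + (-(4 * (q : ℝ))) * tau)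
    (b' : 0 ≤ (16 - 4 * (p : ℝ)) + (-(4 * (q : ℝ))) * sig) :
    (p, q) ∈ [((0 : ℤ), (0 : ℤ)), (1, 0), (2, 0), (3, 0), (4, 0), (1, 1), (2, -1), (2, 1), (3, -1)] := by
  have hts := tau_add_sig
  have htm := tau_mul_sig
  have e1 : (0 : ℝ) ≤ (p : ℝ) ^ 2 + p * q - q ^ 2 := by
    have := mul_nonneg a1 b1
    have e : (4 * (p : ℝ) + 4 * q * tau) * (4 * p + 4 * q * sig)
        = 16 * (p ^ 2 + p * q * (tau + sig) + q ^ 2 * (tau * sig)) := by ring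
    rw [e, hts, htm] at this
    linarith
  have e2 : (0 : ℝ) ≤ (4 - (p : ℝ)) ^ 2 - (4 - p) * q - q ^ 2 := by
    have := mul_nonneg a' b'
    have e : ((16 - 4 * (p : ℝ)) + (-(4 * (q : ℝ))) * tau) * ((16 - 4 * p) + (-(4 * q)) * sig)
        = 16 * ((4 - p) ^ 2 - (4 - p) * q * (tau + sig) + q ^ 2 * (tau * sig)) := by ring
    rw [e, hts, htm] at this
    linarith
  have e3 : (0 : ℝ) ≤ 2 * p + q := by
    have : (4 * (p : ℝ) + 4 * q * tau) + (4 * p + 4 * q * sig) = 4 * (2 * p + q * (tau + sig)) := by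
      ring
    have h := add_nonneg a1 b1
    rw [this, hts] at h; linarith
  have e4 : (2 : ℝ) * p + q ≤ 8 := by
    have : ((16 - 4 * (p : ℝ)) + (-(4 * (q : ℝ))) * tau) + ((16 - 4 * p) + (-(4 * q)) * sig)
        = 4 * (8 - 2 * p - q * (tau + sig)) := by ring
    have h := add_nonneg a' b'
    rw [this, hts] at h; linarith
  have i1 : 0 ≤ p ^ 2 + p * q - q ^ 2 := by exact_mod_cast e1
  have i2 : 0 ≤ (4 - p) ^ 2 - (4 - p) * q - q ^ 2 := by exact_mod_cast e2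
  have i3 : 0 ≤ 2 * p + q := by exact_mod_cast e3
  have i4 : 2 * p + q ≤ 8 := by exact_mod_cast e4
  exact allowed_of p q i1 i2 i3 i4

theorem allowed_scale (p q : ℤ)
    (h : (p, q) ∈ [((0 : ℤ), (0 : ℤ)), (1, 0), (2, 0), (3, 0), (4, 0), (1, 1), (2, -1), (2, 1), (3, -1)]) :
    (4 * p, 4 * q) ∈ allowedPQ := by
  simp only [List.mem_cons, Prod.mk.injEq, List.mem_nil_iff, or_false] at h
  rcases h with ⟨rfl, rfl⟩ | ⟨rfl, rfl⟩ | ⟨rfl, rfl⟩ | ⟨rfl, rfl⟩ | ⟨rfl, rfl⟩ | ⟨rfl, rfl⟩ |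
    ⟨rfl, rfl⟩ | ⟨rfl, rfl⟩ | ⟨rfl, rfl⟩ <;> decide

theorem allowed_of_sum {X Y Z : Q8} (hX : inI X)
    (hP : nP X + nP Y + nP Z = 16) (hQ : nQ X + nQ Y + nQ Z = 0) :
    (nP X, nQ X) ∈ allowedPQ := by
  obtain ⟨d1, d2⟩ := norm_div4 hX
  obtain ⟨p, hp⟩ : ∃ p, nP X = 4 * p := ⟨nP X / 4, by omega⟩
  obtain ⟨q, hq⟩ : ∃ q, nQ X = 4 * q := ⟨nQ X / 4, by omega⟩
  have a1 := alpha_nonneg X
  have b1 := beta_nonneg X
  have a2 := alpha_nonneg Y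
  have b2 := beta_nonneg Y
  have a3 := alpha_nonneg Z
  have b3 := beta_nonneg Z
  have hPr : (nP Y : ℝ) + nP Z = 16 - 4 * p := by
    have : ((nP X + nP Y + nP Z : ℤ) : ℝ) = 16 := by rw [hP]; norm_num
    rw [hp] at this
    push_cast at this; linarith
  have hQr : (nQ Y : ℝ) + nQ Z = - (4 * q) := by
    have : ((nQ X + nQ Y + nQ Z : ℤ) : ℝ) = 0 := by rw [hQ]; norm_num
    rw [hq] at this
    push_cast at this; linarith
  rw [hp, hq] at a1 b1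
  push_cast at a1 b1
  have a' : 0 ≤ (16 - 4 * (p : ℝ)) + (-(4 * (q : ℝ))) * tau := by
    have : (nP Y : ℝ) + nQ Y * tau + ((nP Z : ℝ) + nQ Z * tau)
        = (16 - 4 * (p : ℝ)) + (-(4 * (q : ℝ))) * tau := by
      rw [← hPr, ← hQr]; ring
    rw [← this]; linarith
  have b' : 0 ≤ (16 - 4 * (p : ℝ)) + (-(4 * (q : ℝ))) * sig := by
    have : (nP Y : ℝ) + nQ Y * sig + ((nP Z : ℝ) + nQ Z * sig)
        = (16 - 4 * (p : ℝ)) + (-(4 * (q : ℝ))) * sig := by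
      rw [← hPr, ← hQr]; ring
    rw [← this]; linarith
  rw [hp, hq]
  exact allowed_scale p q (allowed_real p q a1 b1 a' b')

theorem V3.isMin_allowed {v : V3} (h : V3.isMin v) :
    (nP v.x, nQ v.x) ∈ allowedPQ ∧ (nP v.y, nQ v.y) ∈ allowedPQ ∧ (nP v.z, nQ v.z) ∈ allowedPQ := by
  obtain ⟨hP, hQ⟩ := V3.isMin_norm h
  obtain ⟨hx, hy, hz, -⟩ := h.1
  refine ⟨allowed_of_sum hx hP hQ, allowed_of_sum (Y := v.x) (Z := v.z) hy ?_ ?_,
    allowed_of_sum (Y := v.x) (Z := v.y) hz ?_ ?_⟩ <;> omega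

/-! ### enumeration -/

/-- the trace form on `ℤ[τ]` -/
def Tf (a b : ℤ) : ℤ := 2 * a ^ 2 + 2 * a * b + 3 * b ^ 2

theorem Tf_nonneg (a b : ℤ) : 0 ≤ Tf a b := by unfold Tf; nlinarith [sq_nonneg (a + b), sq_nonneg a, sq_nonneg b]

theorem two_nP_add_nQ (X : Q8) : 2 * nP X + nQ X =
    Tf X.a0 X.b0 + Tf X.a1 X.b1 + Tf X.a2 X.b2 + Tf X.a3 X.b3 := by
  unfold nP nQ Tf; ring

end Cfsg.Agent.Helper14.J2
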