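import Cfsg.Agent.Helper14.J2FD

/-!
# Enumeration of the icosians of small norm

`mem_elit : inI X → (nP X, nQ X) ∈ allowedPQ → X ∈ elit`.
-/

set_option autoImplicit false

namespace Cfsg.Agent.Helper14.J2

open Q8

/-- the candidate entry of `a + b τ` -/
def ce (a b : ℤ) : CE :=
  ⟨a, b, (Tf a b).toNat, (a % 2).toNat, (b % 2).toNat, (a ^ 2 + b ^ 2).toNat,
    (2 * a * b + b ^ 2 + 16).toNat⟩

theorem mem_cand (a b : ℤ) (h : Tf a b ≤ 32) : ce a b ∈ cand := by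
  have hb : -3 ≤ b ∧ b ≤ 3 := by
    unfold Tf at h
    constructor <;> nlinarith [sq_nonneg (2 * a + b)]
  have ha : -4 ≤ a ∧ a ≤ 4 := by
    unfold Tf at h
    constructor <;> nlinarith [sq_nonneg (a + 3 * b), sq_nonneg (a + b), sq_nonneg b]
  obtain ⟨hb1, hb2⟩ := hb
  obtain ⟨ha1, ha2⟩ := ha
  interval_cases a <;> interval_cases b <;> first | (exfalso; unfold Tf at h; omega) | decide

theorem nq_nonneg (a b : ℤ) (h : Tf a b ≤ 32) : 0 ≤ 2 * a * b + b ^ 2 + 16 := by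
  unfold Tf at h
  nlinarith [sq_nonneg (a + b), sq_nonneg (a + 3 * b), sq_nonneg b, sq_nonneg (2 * a + b)]

theorem cand_sorted : cand.Pairwise (fun p q => p.t ≤ q.t) := by decide

/-- candidates with `t ≤ r` -/
def candLE (r : ℕ) : List CE := cand.takeWhile (fun p => decide (p.t ≤ r))

theorem mem_candLE {p : CE} {r : ℕ} (hp : p ∈ cand) (h : p.t ≤ r) : p ∈ candLE r := by
  unfold candLE
  have key : ∀ (l : List CE), l.Pairwise (fun p q => p.t ≤ q.t) → p ∈ l →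
      p ∈ l.takeWhile (fun p => decide (p.t ≤ r)) := by
    intro l
    induction l with
    | nil => intro _ h; exact absurd h (List.not_mem_nil)
    | cons q l ih =>
      intro hs hm
      rw [List.pairwise_cons] at hs
      rcases List.mem_cons.mp hm with rfl | hm'
      · rw [List.takeWhile_cons_of_pos (by simpa using h)]
        exact List.mem_cons_self
      · have hq : q.t ≤ r := le_trans (hs.1 p hm') h
        rw [List.takeWhile_cons_of_pos (by simpa using hq)]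
        exact List.mem_cons_of_mem _ (ih hs.2 hm')
  exact key cand cand_sorted hp

/-- the parity test for membership in the icosians, on candidate entries -/
def parTest (p0 p1 p2 p3 : CE) : Bool :=
  (p0.pa + p0.pb + p1.pb + p3.pa) % 2 == 0 && (p0.pb + p1.pa + p1.pb + p2.pa) % 2 == 0 &&
  (p1.pb + p2.pa + p3.pa + p3.pb) % 2 == 0 && (p0.pb + p2.pa + p2.pb + p3.pa) % 2 == 0

/-- the test for the allowed norms -/
def normTest (P Q : ℕ) : Bool :=
  (Q == 64 && (P == 0 || P == 4 || P == 8 || P == 12 || P == 16)) ||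
   (Q == 68 && (P == 4 || P == 8)) || (Q == 60 && (P == 8 || P == 12))

/-- the test for membership in the icosians and the allowed norms, on candidate entries -/
def natTest (p0 p1 p2 p3 : CE) : Bool :=
  parTest p0 p1 p2 p3 &&
    normTest (p0.np + p1.np + p2.np + p3.np) (p0.nq + p1.nq + p2.nq + p3.nq)

theorem parTest_true (a0 b0 a1 b1 a2 b2 a3 b3 : ℤ) (t0 t1 t2 t3 n0 n1 n2 n3 q0 q1 q2 q3 : ℕ)
    (h1 : (a0 + b0 + b1 + a3) % 2 = 0) (h2 : (b0 + a1 + b1 + a2) % 2 = 0)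
    (h3 : (b1 + a2 + a3 + b3) % 2 = 0) (h4 : (b0 + a2 + b2 + a3) % 2 = 0) :
    parTest ⟨a0, b0, t0, (a0 % 2).toNat, (b0 % 2).toNat, n0, q0⟩
      ⟨a1, b1, t1, (a1 % 2).toNat, (b1 % 2).toNat, n1, q1⟩
      ⟨a2, b2, t2, (a2 % 2).toNat, (b2 % 2).toNat, n2, q2⟩
      ⟨a3, b3, t3, (a3 % 2).toNat, (b3 % 2).toNat, n3, q3⟩ = true := by
  simp only [parTest, Bool.and_eq_true, beq_iff_eq]
  omega

theorem normTest_true (A0 A1 A2 A3 B0 B1 B2 B3 : ℤ) (hA0 : 0 ≤ A0) (hA1 : 0 ≤ A1) (hA2 : 0 ≤ A2)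
    (hA3 : 0 ≤ A3) (hB0 : 0 ≤ B0) (hB1 : 0 ≤ B1) (hB2 : 0 ≤ B2) (hB3 : 0 ≤ B3)
    (h : (A0 + A1 + A2 + A3, B0 + B1 + B2 + B3 - 64) ∈ allowedPQ) :
    normTest (A0.toNat + A1.toNat + A2.toNat + A3.toNat)
      (B0.toNat + B1.toNat + B2.toNat + B3.toNat) = true := by
  have eP : A0.toNat + A1.toNat + A2.toNat + A3.toNat = (A0 + A1 + A2 + A3).toNat := by omega
  have eQ : B0.toNat + B1.toNat + B2.toNat + B3.toNat = (B0 + B1 + B2 + B3).toNat := by omega
  rw [eP, eQ]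
  obtain ⟨Q, hQ⟩ : ∃ Q, B0 + B1 + B2 + B3 = Q + 64 := ⟨B0 + B1 + B2 + B3 - 64, by ring⟩
  rw [hQ] at h ⊢
  rw [add_sub_cancel_right] at h
  generalize A0 + A1 + A2 + A3 = P at h
  unfold allowedPQ at h
  simp only [List.mem_cons, Prod.mk.injEq, List.mem_nil_iff, or_false] at h
  rcases h with ⟨rfl, rfl⟩ | ⟨rfl, rfl⟩ | ⟨rfl, rfl⟩ | ⟨rfl, rfl⟩ | ⟨rfl, rfl⟩ | ⟨rfl, rfl⟩ |
    ⟨rfl, rfl⟩ | ⟨rfl, rfl⟩ | ⟨rfl, rfl⟩ <;> decide

/-- all icosians with allowed norm -/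
def enumGood : List Q8 :=
  cand.flatMap fun p0 => (candLE (32 - p0.t)).flatMap fun p1 =>
    (candLE (32 - p0.t - p1.t)).flatMap fun p2 =>
      (candLE (32 - p0.t - p1.t - p2.t)).filterMap fun p3 =>
        if natTest p0 p1 p2 p3 then some ⟨p0.a, p0.b, p1.a, p1.b, p2.a, p2.b, p3.a, p3.b⟩
        else none

theorem mem_enumGood (X : Q8) (h1 : inI X) (h2 : (nP X, nQ X) ∈ allowedPQ) : X ∈ enumGood := by
  have n0 := Tf_nonneg X.a0 X.b0
  have n1 := Tf_nonneg X.a1 X.b1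
  have n2 := Tf_nonneg X.a2 X.b2
  have n3 := Tf_nonneg X.a3 X.b3
  have hT := two_nP_add_nQ X
  have h2' := h2
  unfold allowedPQ at h2
  simp only [List.mem_cons, Prod.mk.injEq, List.mem_nil_iff, or_false] at h2
  have h : Tf X.a0 X.b0 + Tf X.a1 X.b1 + Tf X.a2 X.b2 + Tf X.a3 X.b3 ≤ 32 := by omega
  unfold enumGood
  rw [List.mem_flatMap]
  refine ⟨ce X.a0 X.b0, mem_cand _ _ (by omega), ?_⟩
  rw [List.mem_flatMap]
  refine ⟨ce X.a1 X.b1, mem_candLE (mem_cand _ _ (by omega)) (by simp only [ce]; omega), ?_⟩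
  rw [List.mem_flatMap]
  refine ⟨ce X.a2 X.b2, mem_candLE (mem_cand _ _ (by omega)) (by simp only [ce]; omega), ?_⟩
  rw [List.mem_filterMap]
  refine ⟨ce X.a3 X.b3, mem_candLE (mem_cand _ _ (by omega)) (by simp only [ce]; omega), ?_⟩
  have ht : natTest (ce X.a0 X.b0) (ce X.a1 X.b1) (ce X.a2 X.b2) (ce X.a3 X.b3) = true := by
    unfold natTest
    rw [Bool.and_eq_true]
    constructor
    · unfold inI at h1
      exact parTest_true _ _ _ _ _ _ _ _ _ _ _ _ _ _ _ _ _ _ _ _ h1.1 h1.2.1 h1.2.2.1 h1.2.2.2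
    · have q0 := nq_nonneg X.a0 X.b0 (by omega)
      have q1 := nq_nonneg X.a1 X.b1 (by omega)
      have q2 := nq_nonneg X.a2 X.b2 (by omega)
      have q3 := nq_nonneg X.a3 X.b3 (by omega)
      apply normTest_true _ _ _ _ _ _ _ _ (by positivity) (by positivity) (by positivity)
        (by positivity) q0 q1 q2 q3
      have e1 : X.a0 ^ 2 + X.b0 ^ 2 + (X.a1 ^ 2 + X.b1 ^ 2) + (X.a2 ^ 2 + X.b2 ^ 2)
          + (X.a3 ^ 2 + X.b3 ^ 2) = nP X := by unfold nP; ring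
      have e2 : 2 * X.a0 * X.b0 + X.b0 ^ 2 + 16 + (2 * X.a1 * X.b1 + X.b1 ^ 2 + 16)
          + (2 * X.a2 * X.b2 + X.b2 ^ 2 + 16) + (2 * X.a3 * X.b3 + X.b3 ^ 2 + 16) - 64 = nQ X := by
        unfold nQ; ring
      rw [e1, e2]; exact h2'
  rw [if_pos ht]
  simp [ce]

/-- the list of the icosians of allowed norm -/
def elit : List Q8 := elitCodes.map dec

set_option maxRecDepth 1000000 in
set_option maxHeartbeats 4000000 in
theorem elit_eq : enumGood = elit := by decide +kernel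

theorem mem_elit {X : Q8} (h1 : inI X) (h2 : (nP X, nQ X) ∈ allowedPQ) : X ∈ elit := by
  rw [← elit_eq]; exact mem_enumGood X h1 h2

end Cfsg.Agent.Helper14.J2
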