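import Mathlib
import Cfsg.Agent.Helper25.PSLFusionA

/-!
# A criterion for the simplicity of a 2-fusion system (several classes of involutions)
-/

set_option autoImplicit false

namespace Cfsg.Agent.Helper14.J2FS

open Cfsg Cfsg.FusionSystem


/-- a nontrivial normal subgroup of a finite `p`-group contains a nontrivial central element -/
theorem exists_mem_center_of_normal {R : Type*} [Group R] [Finite R] {p : ℕ} [Fact p.Prime]
    (hR : IsPGroup p R) (N : Subgroup R) [hN : N.Normal] (hne : N ≠ ⊥) :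
    ∃ z ∈ N, z ≠ 1 ∧ ∀ r : R, r * z = z * r := by
  classical
  have hNp : IsPGroup p N := hR.to_subgroup N
  have hcA : IsPGroup p (ConjAct R) := hR
  have hmod := hcA.card_modEq_card_fixedPoints (α := N)
  have hdvd : p ∣ Nat.card N := by
    obtain ⟨n, hn⟩ := hNp.exists_card_eq
    have hn0 : n ≠ 0 := by
      rintro rfl
      rw [pow_zero] at hn
      exact hne (Subgroup.card_eq_one.mp hn)
    rw [hn]
    exact dvd_pow_self p hn0
  have hdvd2 : p ∣ Nat.card (MulAction.fixedPoints (ConjAct R) N) := by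
    have := (Nat.modEq_zero_iff_dvd.mpr hdvd).symm.trans hmod
    exact (Nat.modEq_zero_iff_dvd.mp this.symm)
  have hone : (1 : N) ∈ MulAction.fixedPoints (ConjAct R) N := by
    intro g
    simp
  have hcard : 1 < Nat.card (MulAction.fixedPoints (ConjAct R) N) := by
    have hpos : 0 < Nat.card (MulAction.fixedPoints (ConjAct R) N) :=
      Nat.card_pos_iff.mpr ⟨⟨⟨1, hone⟩⟩, inferInstance⟩
    have := Nat.le_of_dvd hpos hdvd2
    have hp := (Fact.out : p.Prime).two_le
    omega
  obtain ⟨⟨a, ha⟩, ⟨b, hb⟩, hab⟩ := Finite.one_lt_card_iff_nontrivial.mp hcard |>.exists_pair_ne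
  have key : ∀ x : N, x ∈ MulAction.fixedPoints (ConjAct R) N → ∀ r : R, r * (x : R) = x * r := by
    intro x hx r
    have h1 := hx (ConjAct.toConjAct r)
    have h2 : ((ConjAct.toConjAct r • x : N) : R) = r * x * r⁻¹ := by
      rw [ConjAct.Subgroup.val_conj_smul, ConjAct.smul_def, ConjAct.ofConjAct_toConjAct]
    rw [h1] at h2
    calc r * (x : R) = (r * x * r⁻¹) * r := by group
      _ = x * r := by rw [← h2]
  by_cases ha1 : a = 1
  · refine ⟨b, b.2, ?_, key b hb⟩
    intro hb1
    apply hab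
    apply Subtype.ext
    show a = b
    rw [ha1]
    exact (Subtype.ext hb1).symm
  · refine ⟨a, a.2, ?_, key a ha⟩
    intro h
    exact ha1 (Subtype.ext h)

/-- Local hypotheses on a 2-subgroup `P` of `G` from which the simplicity of the 2-fusion system
follows: `P` has no proper nontrivial strongly closed subgroup, its centre has order two, generated
by `t`, and the centraliser of `t` is generated by 2-elements and normalises a subgroup `Q` of `P`
containing its own centraliser. -/
def TwoLocalHyp2 (G : Type*) [Group G] (P : Subgroup G) : Prop :=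
  (∀ T : Subgroup G, T ≤ P → (∀ t ∈ T, ∀ g : G, g * t * g⁻¹ ∈ P → g * t * g⁻¹ ∈ T) →
    T = ⊥ ∨ T = P) ∧
  ∃ t ∈ P, orderOf t = 2 ∧ (∀ x ∈ P, t * x = x * t) ∧
    (∀ z ∈ P, (∀ x ∈ P, z * x = x * z) → z = 1 ∨ z = t) ∧
    ∃ Q : Subgroup G, Q ≤ P ∧
      (∀ c ∈ Subgroup.centralizer ({t} : Set G), ∀ q ∈ Q, c * q * c⁻¹ ∈ Q) ∧
      Subgroup.centralizer (Q : Set G) ≤ Q ∧
      Subgroup.centralizer ({t} : Set G) ≤
        Subgroup.closure {h : G | h ∈ Subgroup.centralizer ({t} : Set G) ∧
          ∃ k : ℕ, orderOf h = 2 ^ k}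

theorem isSimple_of_twoLocalHyp2 {G : Type*} [Group G] [Finite G] (S : Sylow 2 G)
    (h : TwoLocalHyp2 G (S : Subgroup G)) : (groupFusionSystem (S : Subgroup G)).IsSimple 2 := by
  have : Fact (Nat.Prime 2) := ⟨Nat.prime_two⟩
  obtain ⟨hsc, t, htS, ht2, htc, hcen, Q, hQS, hnorm, hQc, hCgen⟩ := h
  have ht1 : t ≠ 1 := by
    intro h1
    rw [h1, orderOf_one] at ht2
    norm_num at ht2
  apply Cfsg.Agent.Helper25.groupFusionSystem_isSimple_of_centric_gen 2 S
  · -- `S ≠ ⊥`
    intro hbot
    rw [hbot, Subgroup.mem_bot] at htS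
    exact ht1 htS
  · -- no proper nontrivial strongly closed subgroup
    exact hsc
  · -- the normaliser of `S`
    intro g hg
    apply Subgroup.subset_closure
    refine ⟨hg, Q, ⟨hQS, ?_⟩, ?_⟩
    · -- `Q` is centric
      rintro Q' ⟨φ, ⟨-, -, a, ha⟩, rfl⟩ y hy
      have hyc : y ∈ Subgroup.centralizer ((φ.range : Subgroup G) : Set G) := hy.2
      have h1 : a⁻¹ * y * a ∈ Subgroup.centralizer (Q : Set G) := by
        rw [Subgroup.mem_centralizer_iff]
        intro q hq
        have hq' : a * q * a⁻¹ ∈ (φ.range : Subgroup G) := ⟨⟨q, hq⟩, ha ⟨q, hq⟩⟩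
        have h2 := (Subgroup.mem_centralizer_iff.1 hyc) _ hq'
        calc q * (a⁻¹ * y * a) = a⁻¹ * (a * q * a⁻¹ * y) * a := by group
          _ = a⁻¹ * (y * (a * q * a⁻¹)) * a := by rw [h2]
          _ = a⁻¹ * y * a * q := by group
      have h3 := hQc h1
      refine ⟨⟨a⁻¹ * y * a, h3⟩, ?_⟩
      rw [ha]
      show a * (a⁻¹ * y * a) * a⁻¹ = y
      group
    · -- `g` centralises `t`
      have hgn := Subgroup.mem_normalizer_iff.1 hg
      have hgi := Subgroup.mem_normalizer_iff.1 (Subgroup.inv_mem _ hg)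
      have h1 : g * t * g⁻¹ ∈ (S : Subgroup G) := (hgn t).1 htS
      have h2 : ∀ x ∈ (S : Subgroup G), g * t * g⁻¹ * x = x * (g * t * g⁻¹) := by
        intro x hx
        have hx' : g⁻¹ * x * g⁻¹⁻¹ ∈ (S : Subgroup G) := (hgi x).1 hx
        rw [inv_inv] at hx'
        have h3 := htc _ hx'
        calc g * t * g⁻¹ * x = g * (t * (g⁻¹ * x * g)) * g⁻¹ := by group
          _ = g * ((g⁻¹ * x * g) * t) * g⁻¹ := by rw [h3]
          _ = x * (g * t * g⁻¹) := by group
      have h4 : g * t * g⁻¹ = t := by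
        rcases hcen _ h1 h2 with h5 | h5
        · exfalso
          apply ht1
          have := congrArg (fun x => g⁻¹ * x * g) h5
          simpa [mul_assoc] using this
        · exact h5
      have hgC : g ∈ Subgroup.centralizer ({t} : Set G) := by
        rw [Subgroup.mem_centralizer_iff]
        intro x hx
        rw [Set.mem_singleton_iff] at hx
        subst hx
        calc x * g = (g * x * g⁻¹) * g := by rw [h4]
          _ = g * x := by group
      have hCN : Subgroup.centralizer ({t} : Set G) ≤ Subgroup.normalizer (Q : Set G) := by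
        intro c hc
        rw [Subgroup.mem_normalizer_iff]
        intro q
        constructor
        · exact hnorm c hc q
        · intro hq
          have := hnorm c⁻¹ (Subgroup.inv_mem _ hc) _ hq
          rw [inv_inv] at this
          have e : c⁻¹ * (c * q * c⁻¹) * c = q := by group
          rwa [e] at this
      refine (Subgroup.closure_mono ?_) (hCgen hgC)
      rintro x ⟨hx, hk⟩
      exact ⟨hCN hx, hk⟩

/-- the hypotheses are transported by isomorphisms -/
theorem TwoLocalHyp2.map {J G : Type*} [Group J] [Group G] {P : Subgroup J}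
    (h : TwoLocalHyp2 J P) (ψ : J ≃* G) : TwoLocalHyp2 G (P.map ψ.toMonoidHom) := by
  obtain ⟨hsc, t, htP, ht2, htc, hcen, Q, hQP, hnorm, hQc, hCgen⟩ := h
  have hord : ∀ x : J, orderOf (ψ x) = orderOf x := fun x => MulEquiv.orderOf_eq ψ x
  have hmemC : ∀ c : J, ψ c ∈ Subgroup.centralizer ({ψ t} : Set G) ↔
      c ∈ Subgroup.centralizer ({t} : Set J) := by
    intro c
    rw [Subgroup.mem_centralizer_iff, Subgroup.mem_centralizer_iff]
    constructor
    · intro h x hx
      rw [Set.mem_singleton_iff] at hx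
      subst hx
      apply ψ.injective
      rw [map_mul, map_mul]
      exact h _ (Set.mem_singleton _)
    · intro h x hx
      rw [Set.mem_singleton_iff] at hx
      subst hx
      rw [← map_mul, ← map_mul, h _ (Set.mem_singleton _)]
  refine ⟨?_, ψ t, Subgroup.mem_map_of_mem _ htP, ?_, ?_, ?_, Q.map ψ.toMonoidHom,
    Subgroup.map_mono hQP, ?_, ?_, ?_⟩
  · intro T' hT'P hT'
    have hmemP : ∀ x : J, ψ x ∈ P.map ψ.toMonoidHom ↔ x ∈ P := by
      intro x
      constructor
      · rintro ⟨y, hy, hyx⟩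
        have : y = x := ψ.injective hyx
        rw [← this]; exact hy
      · intro hx
        exact Subgroup.mem_map_of_mem _ hx
    have h1 := hsc (T'.comap ψ.toMonoidHom) (by
      intro x hx
      exact (hmemP x).1 (hT'P hx)) (by
      intro x hx g hg
      show ψ (g * x * g⁻¹) ∈ T'
      have e1 : ψ (g * x * g⁻¹) = ψ g * ψ x * (ψ g)⁻¹ := by rw [map_mul, map_mul, map_inv]
      rw [e1]
      apply hT' (ψ x) hx
      rw [← e1]
      exact (hmemP _).2 hg)
    rcases h1 with h1 | h1
    · left
      rw [eq_bot_iff]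
      intro y hy
      obtain ⟨x, rfl⟩ := ψ.surjective y
      have hx : x ∈ T'.comap ψ.toMonoidHom := hy
      rw [h1, Subgroup.mem_bot] at hx
      rw [hx, map_one]
      exact Subgroup.one_mem _
    · right
      apply le_antisymm hT'P
      rintro _ ⟨x, hx, rfl⟩
      rw [← h1] at hx
      exact hx
  · rw [hord]; exact ht2
  · rintro _ ⟨x, hx, rfl⟩
    show ψ t * ψ x = ψ x * ψ t
    rw [← map_mul, ← map_mul, htc x hx]
  · rintro _ ⟨z, hz, rfl⟩ hcomm
    have h1 : z = 1 ∨ z = t := by
      apply hcen z hz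
      intro x hx
      apply ψ.injective
      rw [map_mul, map_mul]
      exact hcomm _ (Subgroup.mem_map_of_mem _ hx)
    rcases h1 with h | h
    · left
      show ψ z = 1
      rw [h, map_one]
    · right
      show ψ z = ψ t
      rw [h]
  · intro c' hc' q' hq'
    obtain ⟨q, hq, rfl⟩ := hq'
    obtain ⟨c, rfl⟩ := ψ.surjective c'
    have hc : c ∈ Subgroup.centralizer ({t} : Set J) := (hmemC c).1 hc'
    refine ⟨c * q * c⁻¹, hnorm c hc q hq, ?_⟩
    show ψ (c * q * c⁻¹) = ψ c * ψ q * (ψ c)⁻¹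
    rw [map_mul, map_mul, map_inv]
  · intro y' hy'
    obtain ⟨y, rfl⟩ := ψ.surjective y'
    have h1 : y ∈ Subgroup.centralizer (Q : Set J) := by
      rw [Subgroup.mem_centralizer_iff]
      intro q hq
      apply ψ.injective
      rw [map_mul, map_mul]
      exact (Subgroup.mem_centralizer_iff.1 hy') (ψ q) (Subgroup.mem_map_of_mem _ hq)
    exact Subgroup.mem_map_of_mem _ (hQc h1)
  · intro c' hc'
    obtain ⟨c, rfl⟩ := ψ.surjective c'
    have hc := (hmemC c).1 hc'
    have h1 : ψ c ∈ (Subgroup.closure {h : J | h ∈ Subgroup.centralizer ({t} : Set J) ∧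
        ∃ k : ℕ, orderOf h = 2 ^ k}).map ψ.toMonoidHom := Subgroup.mem_map_of_mem _ (hCgen hc)
    rw [MonoidHom.map_closure] at h1
    refine (Subgroup.closure_mono ?_) h1
    rintro _ ⟨x, ⟨hxC, k, hk⟩, rfl⟩
    refine ⟨(hmemC x).2 hxC, k, ?_⟩
    show orderOf (ψ x) = 2 ^ k
    rw [hord]; exact hk

/-- if the hypotheses hold for one Sylow 2-subgroup of a group, then the 2-fusion system of every
isomorphic group on each of its Sylow 2-subgroups is simple -/
theorem isSimple_fusion_of_iso {J G : Type*} [Group J] [Finite J] [Group G] [Finite G]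
    {P : Subgroup J} (hP : TwoLocalHyp2 J P) (n : ℕ) (hcard : Nat.card P = 2 ^ n)
    (hidx : ¬ 2 ∣ P.index) (e : G ≃* J) (S : Sylow 2 G) :
    (groupFusionSystem (S : Subgroup G)).IsSimple 2 := by
  have : Fact (Nat.Prime 2) := ⟨Nat.prime_two⟩
  obtain ⟨P', hP'⟩ : ∃ P' : Subgroup G, P' = P.map e.symm.toMonoidHom := ⟨_, rfl⟩
  have hcardP' : Nat.card P' = 2 ^ n := by
    rw [hP', Subgroup.card_map_of_injective e.symm.injective, hcard]
  have hP'p : IsPGroup 2 P' := IsPGroup.of_card hcardP'
  have hidx' : ¬ 2 ∣ P'.index := by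
    have h1 := P'.card_mul_index
    have h2 := P.card_mul_index
    rw [hcardP'] at h1
    rw [hcard, ← Nat.card_congr e.toEquiv, ← h1] at h2
    have h3 : P.index = P'.index := Nat.eq_of_mul_eq_mul_left (by positivity) h2
    rw [← h3]
    exact hidx
  obtain ⟨g, hg⟩ := MulAction.exists_smul_eq G (hP'p.toSylow hidx') S
  let ψ : J ≃* G := e.symm.trans (MulAut.conj g)
  have hS : P.map ψ.toMonoidHom = (S : Subgroup G) := by
    rw [← hg, Sylow.coe_subgroup_smul, IsPGroup.toSylow_coe, hP']
    ext x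
    simp only [Subgroup.mem_map, Subgroup.mem_pointwise_smul_iff_inv_smul_mem]
    constructor
    · rintro ⟨y, hy, rfl⟩
      refine ⟨y, hy, ?_⟩
      show e.symm y = (MulAut.conj g)⁻¹ • (MulAut.conj g (e.symm y))
      rw [MulAut.smul_def, MulAut.inv_apply_self]
    · rintro ⟨y, hy, hyx⟩
      refine ⟨y, hy, ?_⟩
      show MulAut.conj g (e.symm y) = x
      have : e.symm y = (MulAut.conj g)⁻¹ • x := hyx
      rw [this, MulAut.smul_def, MulAut.apply_inv_self]
  have h := hP.map ψ
  rw [hS] at h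
  exact isSimple_of_twoLocalHyp2 S h

end Cfsg.Agent.Helper14.J2FS
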