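import Cfsg.Agent.Helper14.J2G0

/-!
# Minimal vectors: units and normalisation
-/

set_option autoImplicit false

namespace Cfsg.Agent.Helper14.J2

open Q8

theorem units_spec : ∀ u ∈ units, inI u ∧ u * conj u = sc 4 ∧ conj u * u = sc 4 ∧ conj u ∈ units := by
  decide +kernel

theorem units_nodup : units.Nodup := by decide +kernel

set_option maxRecDepth 1000000 in
theorem normChk_true : normChk elit normIdx = true := by decide +kernel


end Cfsg.Agent.Helper14.J2
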