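import Cfsg.Agent.Helper14.J2G0

/-!
# Minimal vectors: the main search
-/

set_option autoImplicit false

namespace Cfsg.Agent.Helper14.J2

open Q8

set_option maxRecDepth 1000000 in
set_option maxHeartbeats 4000000 in
theorem searchA_true : searchA = true := by decide +kernel


end Cfsg.Agent.Helper14.J2
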