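import Cfsg.Agent.Helper14.J2G0

/-!
# Minimal vectors: the small searches and the normalised vectors
-/

set_option autoImplicit false

namespace Cfsg.Agent.Helper14.J2

open Q8

set_option maxRecDepth 1000000 in
theorem searchB_true : searchB = true := by decide +kernel

set_option maxRecDepth 1000000 in
theorem searchC_true : searchC = true := by decide +kernel

set_option maxRecDepth 1000000 in
theorem reps_isMin : ∀ v ∈ reps, V3.isMin v := by decide +kernel

set_option maxRecDepth 1000000 in
theorem reps_fp_nodup : (reps.map fp).Nodup := by decide +kernel

theorem reps_length : reps.length = 315 := by decide +kernel
theorem units_length : units.length = 120 := by decide +kernel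

end Cfsg.Agent.Helper14.J2
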