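import Cfsg.Agent.Helper14.J2Ga
import Cfsg.Agent.Helper14.J2Gb
import Cfsg.Agent.Helper14.J2Gc
import Cfsg.Agent.Helper14.J2Gd

/-!
# The minimal vectors of the icosian Leech lattice: consequences of the computations
-/

set_option autoImplicit false

namespace Cfsg.Agent.Helper14.J2

open Q8

theorem mem_litN {X : Q8} (h1 : inI X) (h2 : (nP X, nQ X) ∈ allowedPQ) :
    X ∈ litN (nP X) (nQ X) := by
  have hX := mem_elit h1 h2
  have hf : X ∈ elit.filter (normIs (nP X) (nQ X)) := by
    rw [List.mem_filter]; exact ⟨hX, by simp [normIs]⟩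
  unfold allowedPQ at h2
  simp only [List.mem_cons, Prod.mk.injEq, List.mem_nil_iff, or_false] at h2
  rcases h2 with ⟨e1, e2⟩ | ⟨e1, e2⟩ | ⟨e1, e2⟩ | ⟨e1, e2⟩ | ⟨e1, e2⟩ | ⟨e1, e2⟩ | ⟨e1, e2⟩ |
    ⟨e1, e2⟩ | ⟨e1, e2⟩ <;> rw [e1, e2] at hf ⊢
  · rw [filter_n00] at hf; simpa [litN] using hf
  · rw [filter_n40] at hf; simpa [litN] using hf
  · rw [filter_n80] at hf; simpa [litN] using hf
  · rw [filter_n120] at hf; simpa [litN] using hf
  · rw [filter_n160] at hf; simpa [litN] using hf
  · rw [filter_n44] at hf; simpa [litN] using hf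
  · rw [filter_n8m4] at hf; simpa [litN] using hf
  · rw [filter_n84] at hf; simpa [litN] using hf
  · rw [filter_n12m4] at hf; simpa [litN] using hf

theorem mem_units {X : Q8} (h1 : inI X) (hP : nP X = 4) (hQ : nQ X = 0) : X ∈ units := by
  have := mem_litN h1 (by rw [hP, hQ]; decide)
  rw [hP, hQ] at this
  simpa [litN, units] using this

theorem halfEq_iff (P g : Q8) : halfEq P g = true ↔ P = zs 2 g := by
  unfold halfEq
  simp only [Bool.and_eq_true, decide_eq_true_eq]
  constructor
  · rintro ⟨⟨⟨⟨⟨⟨⟨h0, h1⟩, h2⟩, h3⟩, h4⟩, h5⟩, h6⟩, h7⟩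
    exact Q8.ext' h0 h1 h2 h3 h4 h5 h6 h7
  · intro h; subst h; simp [zs]

theorem normChk_sound : ∀ (l : List Q8) (is : List ℕ), normChk l is = true →
    ∀ X ∈ l, X = 0 ∨ ∃ u ∈ units, ∃ g ∈ gens, u * X = zs 2 g := by
  intro l
  induction l with
  | nil => intro _ _ X hX; exact absurd hX List.not_mem_nil
  | cons Y l ih =>
    intro is h X hX
    cases is with
    | nil => simp [normChk] at h
    | cons i is =>
      simp only [normChk, Bool.and_eq_true, Bool.or_eq_true, decide_eq_true_eq] at h
      rcases List.mem_cons.mp hX with rfl | hX'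
      · rcases h.1 with h0 | h1
        · exact Or.inl h0
        · right
          cases hu : units[i]? with
          | none => rw [hu] at h1; simp at h1
          | some u =>
            rw [hu] at h1
            simp only [List.any_eq_true] at h1
            obtain ⟨g, hg, hh⟩ := h1
            exact ⟨u, List.mem_of_getElem? hu, g, hg, (halfEq_iff _ _).mp hh⟩
      · exact ih is h.2 X hX'

theorem exists_normalise {X : Q8} (hX : X ∈ elit) :
    X = 0 ∨ ∃ u ∈ units, ∃ g ∈ gens, u * X = zs 2 g :=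
  normChk_sound elit normIdx normChk_true X hX

theorem reps_key_inj {v w : V3} (hv : v ∈ reps) (hw : w ∈ reps) (h : keyV v = keyV w) : v = w := by
  have := List.inj_on_of_nodup_map reps_fp_nodup hv hw
  apply this
  unfold fp; rw [h]

theorem reps_nodup : reps.Nodup := List.Nodup.of_map fp reps_fp_nodup


end Cfsg.Agent.Helper14.J2
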