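import Cfsg.Agent.Helper14.J2GD

/-!
# Minimal vectors of the icosian Leech lattice: definitions for the computations
-/

set_option autoImplicit false

namespace Cfsg.Agent.Helper14.J2

open Q8

/-- the 120 units -/
def units : List Q8 := n40Codes.map dec
/-- canonical generators of the left ideals of small norm -/
def gens : List Q8 := genCodes.map dec
/-- the 315 normalised minimal vectors -/
def reps : List V3 := repCodes.map fun c => ⟨dec c.1, dec c.2.1, dec c.2.2⟩

/-- test of the norm -/
def normIs (P Q : ℤ) (X : Q8) : Bool := decide (nP X = P) && decide (nQ X = Q)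

/-- the literal list of the icosians of norm `(P, Q)` -/
def litN (P Q : ℤ) : List Q8 :=
  if P = 0 ∧ Q = 0 then n00Codes.map dec
  else if P = 4 ∧ Q = 0 then n40Codes.map dec
  else if P = 8 ∧ Q = 0 then n80Codes.map dec
  else if P = 12 ∧ Q = 0 then n120Codes.map dec
  else if P = 16 ∧ Q = 0 then n160Codes.map dec
  else if P = 4 ∧ Q = 4 then n44Codes.map dec
  else if P = 8 ∧ Q = -4 then n8m4Codes.map dec
  else if P = 8 ∧ Q = 4 then n84Codes.map dec
  else if P = 12 ∧ Q = -4 then n12m4Codes.map dec
  else []

/-- `P = 2 g` -/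
def halfEq (P g : Q8) : Bool :=
  decide (P.a0 = 2 * g.a0) && decide (P.b0 = 2 * g.b0) && decide (P.a1 = 2 * g.a1) &&
  decide (P.b1 = 2 * g.b1) && decide (P.a2 = 2 * g.a2) && decide (P.b2 = 2 * g.b2) &&
  decide (P.a3 = 2 * g.a3) && decide (P.b3 = 2 * g.b3)

/-- checking the normalisation hints -/
def normChk : List Q8 → List ℕ → Bool
  | [], _ => true
  | _ :: _, [] => false
  | X :: l, i :: is =>
    (decide (X = 0) || (match units[i]? with
      | some u => gens.any fun g => halfEq (u * X) g
      | none => false)) && normChk l is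

/-- Boolean version of `inId` -/
def inIdB (G W : Q8) : Bool := decide (inId G W)

/-- first coordinate a generator -/
def searchA : Bool :=
  gens.all fun g => allowedPQ.all fun n =>
    (litN (16 - nP g - n.1) (-nQ g - n.2)).isEmpty ||
    (litN n.1 n.2).all fun Y =>
      !(inIdB Hq (g - Y)) ||
        (litN (16 - nP g - n.1) (-nQ g - n.2)).all fun Z =>
          !(inIdB Hq (Y - Z) && inIdB (conj Hq) (g + Y + Z)) || reps.contains ⟨g, Y, Z⟩

/-- first coordinate zero, second a generator -/
def searchB : Bool :=
  gens.all fun g =>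
    !(inIdB Hq (0 - g)) ||
      (litN (16 - nP g) (-nQ g)).all fun Z =>
        !(inIdB Hq (g - Z) && inIdB (conj Hq) (0 + g + Z)) || reps.contains ⟨0, g, Z⟩

/-- first two coordinates zero -/
def searchC : Bool :=
  gens.all fun g => !(decide (V3.isMin ⟨0, 0, g⟩)) || reps.contains ⟨0, 0, g⟩

/-- the Gram "key" of a vector: the products `conj v_s * v_t` -/
def keyV (v : V3) : List Q8 :=
  [conj v.x * v.x, conj v.x * v.y, conj v.x * v.z, conj v.y * v.x, conj v.y * v.y,
   conj v.y * v.z, conj v.z * v.x, conj v.z * v.y, conj v.z * v.z]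

/-- packing of a model quaternion into a natural number -/
def packQ (acc : ℕ) (q : Q8) : ℕ :=
  (((((((acc * 256 + (q.a0 + 128).toNat) * 256 + (q.b0 + 128).toNat) * 256
    + (q.a1 + 128).toNat) * 256 + (q.b1 + 128).toNat) * 256 + (q.a2 + 128).toNat) * 256
    + (q.b2 + 128).toNat) * 256 + (q.a3 + 128).toNat) * 256 + (q.b3 + 128).toNat

/-- fingerprint of the key -/
def fp (v : V3) : ℕ := (keyV v).foldl packQ 0


end Cfsg.Agent.Helper14.J2
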