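import Cfsg.Agent.Helper14.J2G0

/-!
# Minimal vectors: the lists of icosians of given norm
-/

set_option autoImplicit false

namespace Cfsg.Agent.Helper14.J2

open Q8

set_option maxRecDepth 1000000 in
theorem filter_n00 : elit.filter (normIs 0 0) = n00Codes.map dec := by decide +kernel
set_option maxRecDepth 1000000 in
theorem filter_n40 : elit.filter (normIs 4 0) = n40Codes.map dec := by decide +kernel
set_option maxRecDepth 1000000 in
theorem filter_n80 : elit.filter (normIs 8 0) = n80Codes.map dec := by decide +kernel
set_option maxRecDepth 1000000 in
theorem filter_n120 : elit.filter (normIs 12 0) = n120Codes.map dec := by decide +kernel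
set_option maxRecDepth 1000000 in
theorem filter_n160 : elit.filter (normIs 16 0) = n160Codes.map dec := by decide +kernel
set_option maxRecDepth 1000000 in
theorem filter_n44 : elit.filter (normIs 4 4) = n44Codes.map dec := by decide +kernel
set_option maxRecDepth 1000000 in
theorem filter_n8m4 : elit.filter (normIs 8 (-4)) = n8m4Codes.map dec := by decide +kernel
set_option maxRecDepth 1000000 in
theorem filter_n84 : elit.filter (normIs 8 4) = n84Codes.map dec := by decide +kernel
set_option maxRecDepth 1000000 in
theorem filter_n12m4 : elit.filter (normIs 12 (-4)) = n12m4Codes.map dec := by decide +kernel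


end Cfsg.Agent.Helper14.J2
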