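import Cfsg.Agent.Helper14.J2G

/-!
# The minimal vectors of the icosian Leech lattice: 37800 vectors on 315 lines
-/

set_option autoImplicit false

namespace Cfsg.Agent.Helper14.J2

open Quaternion Cfsg.Spor Q8

/-! ### soundness of the searches -/

theorem inIdB_eq_true {G W : Q8} (h : inId G W) : inIdB G W = true := by
  unfold inIdB; simpa using h

theorem searchA_sound {g Y Z : Q8} (hg : g ∈ gens) (hm : V3.isMin ⟨g, Y, Z⟩) :
    (⟨g, Y, Z⟩ : V3) ∈ reps := by
  have h := searchA_true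
  unfold searchA at h
  rw [List.all_eq_true] at h
  have h1 := h g hg
  rw [List.all_eq_true] at h1
  obtain ⟨ax, ay, az⟩ := V3.isMin_allowed hm
  obtain ⟨hP, hQ⟩ := V3.isMin_norm hm
  simp only at ax ay az hP hQ
  have h2 := h1 (nP Y, nQ Y) ay
  obtain ⟨ix, iy, iz, d1, d2, d3⟩ := hm.1
  simp only at ix iy iz d1 d2 d3
  have hYm := mem_litN iy ay
  have hZm := mem_litN iz az
  have eP : nP Z = 16 - nP g - nP Y := by omega
  have eQ : nQ Z = -nQ g - nQ Y := by omega
  rw [eP, eQ] at hZm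
  simp only [Bool.or_eq_true, List.isEmpty_iff] at h2
  rcases h2 with h2 | h2
  · rw [h2] at hZm; exact absurd hZm List.not_mem_nil
  · rw [List.all_eq_true] at h2
    have h3 := h2 Y hYm
    simp only [Bool.or_eq_true, Bool.not_eq_true'] at h3
    rcases h3 with h3 | h3
    · rw [inIdB_eq_true d1] at h3; exact absurd h3 (by decide)
    · rw [List.all_eq_true] at h3
      have h4 := h3 Z hZm
      simp only [Bool.or_eq_true, Bool.not_eq_true', Bool.and_eq_false_iff] at h4
      rcases h4 with (h4 | h4) | h4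
      · rw [inIdB_eq_true d2] at h4; exact absurd h4 (by decide)
      · rw [inIdB_eq_true d3] at h4; exact absurd h4 (by decide)
      · exact List.contains_iff_mem.mp h4

theorem searchB_sound {g Z : Q8} (hg : g ∈ gens) (hm : V3.isMin ⟨0, g, Z⟩) :
    (⟨0, g, Z⟩ : V3) ∈ reps := by
  have h := searchB_true
  unfold searchB at h
  rw [List.all_eq_true] at h
  have h1 := h g hg
  obtain ⟨ax, ay, az⟩ := V3.isMin_allowed hm
  obtain ⟨hP, hQ⟩ := V3.isMin_norm hm
  simp only at ax ay az hP hQ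
  obtain ⟨ix, iy, iz, d1, d2, d3⟩ := hm.1
  simp only at ix iy iz d1 d2 d3
  have hZm := mem_litN iz az
  have eP : nP Z = 16 - nP g := by
    have : nP (0 : Q8) = 0 := by decide
    omega
  have eQ : nQ Z = -nQ g := by
    have : nQ (0 : Q8) = 0 := by decide
    omega
  rw [eP, eQ] at hZm
  simp only [Bool.or_eq_true, Bool.not_eq_true'] at h1
  rcases h1 with h1 | h1
  · rw [inIdB_eq_true d1] at h1; exact absurd h1 (by decide)
  · rw [List.all_eq_true] at h1
    have h4 := h1 Z hZm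
    simp only [Bool.or_eq_true, Bool.not_eq_true', Bool.and_eq_false_iff] at h4
    rcases h4 with (h4 | h4) | h4
    · rw [inIdB_eq_true d2] at h4; exact absurd h4 (by decide)
    · rw [inIdB_eq_true d3] at h4; exact absurd h4 (by decide)
    · exact List.contains_iff_mem.mp h4

theorem searchC_sound {g : Q8} (hg : g ∈ gens) (hm : V3.isMin ⟨0, 0, g⟩) :
    (⟨0, 0, g⟩ : V3) ∈ reps := by
  have h := searchC_true
  unfold searchC at h
  rw [List.all_eq_true] at h
  have h1 := h g hg
  simp only [Bool.or_eq_true, Bool.not_eq_true', decide_eq_false_iff_not] at h1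
  rcases h1 with h1 | h1
  · exact absurd hm h1
  · exact List.contains_iff_mem.mp h1

/-! ### multiplication by units -/

theorem hv_g1' : hv (⟨2, 0, 0, 0, 0, 0, 0, 0⟩ : Q8) = 1 := hv_g1

theorem sc4_eq : sc 4 = zs 2 (⟨2, 0, 0, 0, 0, 0, 0, 0⟩ : Q8) := by decide

theorem unit_mul_star {u : Q8} (hu : u ∈ units) :
    hv u * star (hv u) = 1 ∧ star (hv u) * hv u = 1 := by
  obtain ⟨-, h1, h2, -⟩ := units_spec u hu
  rw [← hv_conj]
  constructor
  · rw [← hv_g1']; exact hv_mul_of_eq (by rw [h1, sc4_eq])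
  · rw [← hv_g1']; exact hv_mul_of_eq (by rw [h2, sc4_eq])

theorem unit_mem_icosians {u : Q8} (hu : u ∈ units) : hv u ∈ icosians :=
  hv_mem_icosians_iff.mpr (units_spec u hu).1

theorem qip_lsm_lsm (a : ℍ[ℝ]) (x r : Fin 3 → ℍ[ℝ]) :
    qip (lsm a x) (lsm a r) = a * qip x r * star a := by
  rw [qip_lsm_left, qip_lsm_right, mul_assoc]

theorem lsm_lsm (a b : ℍ[ℝ]) (x : Fin 3 → ℍ[ℝ]) : lsm a (lsm b x) = lsm (a * b) x := by
  funext t; simp [lsm, mul_assoc]

theorem lsm_one (x : Fin 3 → ℍ[ℝ]) : lsm 1 x = x := by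
  funext t; simp [lsm]

theorem four_comm (a : ℍ[ℝ]) : a * 4 = 4 * a := (Commute.ofNat_right a 4).eq

theorem lsm_mem_min {a : ℍ[ℝ]} (ha : a ∈ icosians) (h1 : a * star a = 1) {r : Fin 3 → ℍ[ℝ]}
    (hr : r ∈ icoLeech ∧ qip r r = 4) : lsm a r ∈ icoLeech ∧ qip (lsm a r) (lsm a r) = 4 := by
  refine ⟨icoLeech_lsm ha hr.1, ?_⟩
  rw [qip_lsm_lsm, hr.2, four_comm, mul_assoc, h1, mul_one]

/-- the model vector `u · v` -/
theorem exists_lsm {u : Q8} (hu : inI u) {v : V3} (hv' : inI v.x ∧ inI v.y ∧ inI v.z) :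
    ∃ w : V3, u * v.x = zs 2 w.x ∧ u * v.y = zs 2 w.y ∧ u * v.z = zs 2 w.z ∧
      V3.emb w = lsm (hv u) (V3.emb v) := by
  obtain ⟨X, -, hX, eX⟩ := exists_hv_mul hu hv'.1
  obtain ⟨Y, -, hY, eY⟩ := exists_hv_mul hu hv'.2.1
  obtain ⟨Z, -, hZ, eZ⟩ := exists_hv_mul hu hv'.2.2
  refine ⟨⟨X, Y, Z⟩, hX, hY, hZ, ?_⟩
  funext t
  fin_cases t
  · exact eX.symm
  · exact eY.symm
  · exact eZ.symm

theorem mul_zero' (u : Q8) : u * 0 = 0 := by
  ext <;> simp [mul_def, mul, m1, m2]

theorem zs_eq_zero {X : Q8} (h : zs 2 X = 0) : X = 0 := by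
  apply zs_inj (n := 2) (by norm_num)
  rw [h]; decide

/-- completeness: every minimal vector is a unit multiple of a normalised one -/
theorem minimal_complete {v : V3} (h : V3.isMin v) :
    ∃ u ∈ units, ∃ l ∈ reps, V3.emb v = lsm (hv u) (V3.emb l) := by
  obtain ⟨ax, ay, az⟩ := V3.isMin_allowed h
  obtain ⟨ix, iy, iz, -⟩ := h.1
  have hmin := (V3.isMin_iff v).mp h
  -- a unit `u` and the normalised vector `w = u v` give the claim
  have fin : ∀ (u : Q8) (w : V3), u ∈ units → V3.emb w = lsm (hv u) (V3.emb v) → w ∈ reps →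
      ∃ u ∈ units, ∃ l ∈ reps, V3.emb v = lsm (hv u) (V3.emb l) := by
    intro u w hu hw hwr
    refine ⟨conj u, (units_spec u hu).2.2.2, w, hwr, ?_⟩
    rw [hw, lsm_lsm, hv_conj, (unit_mul_star hu).2, lsm_one]
  have wmin : ∀ (u : Q8) (w : V3), u ∈ units → V3.emb w = lsm (hv u) (V3.emb v) → V3.isMin w := by
    intro u w hu hw
    rw [V3.isMin_iff, hw]
    exact lsm_mem_min (unit_mem_icosians hu) (unit_mul_star hu).1 hmin
  by_cases hx : v.x = 0
  · by_cases hy : v.y = 0
    · -- case C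
      have hz : v.z ≠ 0 := by
        intro hz
        have := h.2
        rw [V3.ip_self, hx, hy, hz] at this
        exact absurd this (by decide)
      rcases exists_normalise (mem_elit iz az) with h0 | ⟨u, hu, g, hg, e⟩
      · exact absurd h0 hz
      · obtain ⟨w, wx, wy, wz, hw⟩ := exists_lsm (units_spec u hu).1 ⟨ix, iy, iz⟩
        rw [hx, mul_zero'] at wx
        rw [hy, mul_zero'] at wy
        rw [e] at wz
        have e1 : w.x = 0 := (zs_eq_zero wx.symm)
        have e2 : w.y = 0 := (zs_eq_zero wy.symm)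
        have e3 : w.z = g := (zs_inj (by norm_num) wz).symm
        have hw' : w = ⟨0, 0, g⟩ := by
          cases w; simp only [V3.mk.injEq]; exact ⟨e1, e2, e3⟩
        have hwm := wmin u w hu hw
        rw [hw'] at hwm
        exact fin u w hu hw (by rw [hw']; exact searchC_sound hg hwm)
    · -- case B
      rcases exists_normalise (mem_elit iy ay) with h0 | ⟨u, hu, g, hg, e⟩
      · exact absurd h0 hy
      · obtain ⟨w, wx, wy, wz, hw⟩ := exists_lsm (units_spec u hu).1 ⟨ix, iy, iz⟩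
        rw [hx, mul_zero'] at wx
        rw [e] at wy
        have e1 : w.x = 0 := (zs_eq_zero wx.symm)
        have e2 : w.y = g := (zs_inj (by norm_num) wy).symm
        have hw' : w = ⟨0, g, w.z⟩ := by
          cases w; simp only [V3.mk.injEq, and_true]; exact ⟨e1, e2⟩
        have hwm := wmin u w hu hw
        rw [hw'] at hwm
        exact fin u w hu hw (by rw [hw']; exact searchB_sound hg hwm)
  · -- case A
    rcases exists_normalise (mem_elit ix ax) with h0 | ⟨u, hu, g, hg, e⟩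
    · exact absurd h0 hx
    · obtain ⟨w, wx, wy, wz, hw⟩ := exists_lsm (units_spec u hu).1 ⟨ix, iy, iz⟩
      rw [e] at wx
      have e1 : w.x = g := (zs_inj (by norm_num) wx).symm
      have hw' : w = ⟨g, w.y, w.z⟩ := by
        cases w; simp only [V3.mk.injEq, and_true]; exact e1
      have hwm := wmin u w hu hw
      rw [hw'] at hwm
      exact fin u w hu hw (by rw [hw']; exact searchA_sound hg hwm)

end Cfsg.Agent.Helper14.J2
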