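import Cfsg.Agent.Helper14.J2H

/-!
# Counting the minimal vectors and the reflections of the icosian Leech lattice
-/

set_option autoImplicit false

namespace Cfsg.Agent.Helper14.J2

open Quaternion Cfsg.Spor Q8

/-- the set of minimal vectors -/
def MinSet : Set (Fin 3 → ℍ[ℝ]) := {r | r ∈ icoLeech ∧ qip r r = 4}

/-- unit times normalised vector -/
noncomputable def Fmin (p : Q8 × V3) : Fin 3 → ℍ[ℝ] := lsm (hv p.1) (V3.emb p.2)

/-- the index set -/
def Idx : Set (Q8 × V3) := {p | p.1 ∈ units ∧ p.2 ∈ reps}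

theorem reps_min {l : V3} (hl : l ∈ reps) :
    V3.emb l ∈ icoLeech ∧ qip (V3.emb l) (V3.emb l) = 4 :=
  (V3.isMin_iff l).mp (reps_isMin l hl)

theorem minSet_eq : MinSet = Fmin '' Idx := by
  ext r
  constructor
  · rintro ⟨hr, hq⟩
    obtain ⟨v, hv1, rfl⟩ := V3.exists_emb_of_mem hr
    have hm : V3.isMin v := (V3.isMin_iff v).mpr ⟨hr, hq⟩
    obtain ⟨u, hu, l, hl, e⟩ := minimal_complete hm
    exact ⟨(u, l), ⟨hu, hl⟩, e.symm⟩
  · rintro ⟨⟨u, l⟩, ⟨hu, hl⟩, rfl⟩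
    exact lsm_mem_min (unit_mem_icosians hu) (unit_mul_star hu).1 (reps_min hl)

/-- the real key of a vector -/
noncomputable def Kr (r : Fin 3 → ℍ[ℝ]) (s t : Fin 3) : ℍ[ℝ] := star (r s) * r t

theorem Kr_lsm {a : ℍ[ℝ]} (h : star a * a = 1) (r : Fin 3 → ℍ[ℝ]) : Kr (lsm a r) = Kr r := by
  funext s t
  simp only [Kr, lsm, star_mul]
  rw [mul_assoc, ← mul_assoc (star a), h, one_mul]

theorem star_hv_mul (X Y : Q8) : star (hv X) * hv Y = (1 / 4 : ℝ) • ev (conj X * Y) := by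
  rw [← hv_conj, hv_mul]

theorem keyV_eq_of_Kr {v w : V3} (h : Kr (V3.emb v) = Kr (V3.emb w)) : keyV v = keyV w := by
  have key : ∀ (s t : Fin 3) (X Y X' Y' : Q8), V3.emb v s = hv X → V3.emb v t = hv Y →
      V3.emb w s = hv X' → V3.emb w t = hv Y' → conj X * Y = conj X' * Y' := by
    intro s t X Y X' Y' h1 h2 h3 h4
    have := congrFun (congrFun h s) t
    simp only [Kr, h1, h2, h3, h4, star_hv_mul] at this
    apply ev_injective
    have h' : (4 : ℝ) • ((1 / 4 : ℝ) • ev (conj X * Y)) = (4 : ℝ) • ((1 / 4 : ℝ) • ev (conj X' * Y')) := by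
      rw [this]
    simpa [smul_smul] using h'
  unfold keyV
  rw [key 0 0 v.x v.x w.x w.x rfl rfl rfl rfl, key 0 1 v.x v.y w.x w.y rfl rfl rfl rfl,
    key 0 2 v.x v.z w.x w.z rfl rfl rfl rfl, key 1 0 v.y v.x w.y w.x rfl rfl rfl rfl,
    key 1 1 v.y v.y w.y w.y rfl rfl rfl rfl, key 1 2 v.y v.z w.y w.z rfl rfl rfl rfl,
    key 2 0 v.z v.x w.z w.x rfl rfl rfl rfl, key 2 1 v.z v.y w.z w.y rfl rfl rfl rfl,
    key 2 2 v.z v.z w.z w.z rfl rfl rfl rfl]

theorem exists_ne_zero {r : Fin 3 → ℍ[ℝ]} (h : qip r r = 4) : ∃ t, r t ≠ 0 := by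
  by_contra hc
  have hc' : ∀ t, r t = 0 := by
    intro t; by_contra ht; exact hc ⟨t, ht⟩
  rw [qip_def, hc' 0, hc' 1, hc' 2] at h
  simp only [zero_mul, add_zero] at h
  have e4 : (4 : ℍ[ℝ]).re = 4 := rfl
  have e0 : (0 : ℍ[ℝ]).re = 0 := rfl
  rw [h, e4] at e0
  norm_num at e0

theorem Fmin_injOn : Set.InjOn Fmin Idx := by
  rintro ⟨u, l⟩ ⟨hu, hl⟩ ⟨u', l'⟩ ⟨hu', hl'⟩ h
  simp only [Fmin] at h
  have hk : Kr (V3.emb l) = Kr (V3.emb l') := by
    calc Kr (V3.emb l) = Kr (lsm (hv u) (V3.emb l)) := (Kr_lsm (unit_mul_star hu).2 _).symm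
      _ = Kr (lsm (hv u') (V3.emb l')) := by rw [h]
      _ = Kr (V3.emb l') := Kr_lsm (unit_mul_star hu').2 _
  have hll : l = l' := reps_key_inj hl hl' (keyV_eq_of_Kr hk)
  subst hll
  obtain ⟨t, ht⟩ := exists_ne_zero (reps_min hl).2
  have := congrFun h t
  simp only [lsm] at this
  have huu : hv u = hv u' := mul_right_cancel₀ ht this
  rw [hv_injective huu]

theorem ncard_Idx : Idx.ncard = 37800 := by
  have : Idx = ((units.toFinset ×ˢ reps.toFinset : Finset (Q8 × V3)) : Set (Q8 × V3)) := by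
    ext p
    simp [Idx]
  rw [this, Set.ncard_coe_finset, Finset.card_product, List.toFinset_card_of_nodup units_nodup,
    List.toFinset_card_of_nodup reps_nodup, units_length, reps_length]

theorem ncard_minSet : MinSet.ncard = 37800 := by
  rw [minSet_eq, Set.InjOn.ncard_image Fmin_injOn, ncard_Idx]

/-! ### the reflections -/

theorem qrefl_lsm {a : ℍ[ℝ]} (h : star a * a = 1) (r x : Fin 3 → ℍ[ℝ]) :
    qrefl (lsm a r) x = qrefl r x := by
  funext t
  simp only [qrefl, qip_lsm_right, lsm]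
  congr 1
  rw [← smul_mul_assoc, mul_assoc, ← mul_assoc (star a), h, one_mul]

/-- the reflection attached to a model vector -/
noncomputable def Grefl (l : V3) : Equiv.Perm icoLeech :=
  if h : V3.isMin l then
    reflPerm ⟨V3.emb l, ((V3.isMin_iff l).mp h).1⟩ ((V3.isMin_iff l).mp h).2
  else 1

theorem Grefl_apply {l : V3} (h : V3.isMin l) (x : icoLeech) :
    ((Grefl l x : icoLeech) : Fin 3 → ℍ[ℝ]) = qrefl (V3.emb l) x := by
  unfold Grefl
  rw [dif_pos h]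
  rfl

theorem reflSet_eq : {f : Equiv.Perm icoLeech | IsIcoReflection f} = Grefl '' {l | l ∈ reps} := by
  ext f
  constructor
  · intro hf
    obtain ⟨r, hr, rfl⟩ := (isIcoReflection_iff f).mp hf
    have hm : (r : Fin 3 → ℍ[ℝ]) ∈ MinSet := ⟨r.2, hr⟩
    rw [minSet_eq] at hm
    obtain ⟨⟨u, l⟩, ⟨hu, hl⟩, e⟩ := hm
    refine ⟨l, hl, ?_⟩
    ext x : 1
    apply Subtype.ext
    rw [Grefl_apply (reps_isMin l hl), reflPerm_apply, ← e]
    exact (qrefl_lsm (unit_mul_star hu).2 _ _).symm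
  · rintro ⟨l, hl, rfl⟩
    unfold Grefl
    rw [dif_pos (reps_isMin l hl)]
    exact isIcoReflection_reflPerm _ _

/-- the vector `2 e_s` -/
def twoE (s : Fin 3) : V3 :=
  match s with
  | 0 => ⟨sc 4, 0, 0⟩
  | 1 => ⟨0, sc 4, 0⟩
  | 2 => ⟨0, 0, sc 4⟩

theorem twoE_mem (s : Fin 3) : V3.emb (twoE s) ∈ icoLeech := by
  rw [V3.emb_mem_icoLeech_iff]
  fin_cases s <;> decide

theorem hv_sc4 : hv (sc 4) = 2 := hv_four

theorem emb_twoE (s t : Fin 3) : V3.emb (twoE s) t = if t = s then 2 else 0 := by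
  fin_cases s <;> fin_cases t <;> simp [twoE, hv_sc4]

theorem two_mul_comm (a : ℍ[ℝ]) : 2 * a = a * 2 := (mul_two_comm a).symm

theorem qip_twoE (s : Fin 3) (r : Fin 3 → ℍ[ℝ]) : qip (V3.emb (twoE s)) r = 2 * star (r s) := by
  rw [qip_def]
  fin_cases s
  · show hv (sc 4) * star (r 0) + hv 0 * star (r 1) + hv 0 * star (r 2) = 2 * star (r 0)
    rw [hv_sc4, hv_zero]; simp
  · show hv 0 * star (r 0) + hv (sc 4) * star (r 1) + hv 0 * star (r 2) = 2 * star (r 1)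
    rw [hv_sc4, hv_zero]; simp
  · show hv 0 * star (r 0) + hv 0 * star (r 1) + hv (sc 4) * star (r 2) = 2 * star (r 2)
    rw [hv_sc4, hv_zero]; simp

theorem half_two_mul (a : ℍ[ℝ]) : (1 / 2 : ℝ) • (2 * a) = a := by
  rw [← smul_mul_assoc]
  have : (1 / 2 : ℝ) • (2 : ℍ[ℝ]) = 1 := by
    rw [show (2 : ℍ[ℝ]) = ((2 : ℝ) : ℍ[ℝ]) from (QuaternionAlgebra.coe_ofNat).symm]
    ext <;> simp
  rw [this, one_mul]

theorem Grefl_injOn : Set.InjOn Grefl {l | l ∈ reps} := by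
  intro l hl l' hl' h
  apply reps_key_inj hl hl'
  apply keyV_eq_of_Kr
  funext s t
  have h1 := Grefl_apply (reps_isMin l hl) ⟨V3.emb (twoE s), twoE_mem s⟩
  have h2 := Grefl_apply (reps_isMin l' hl') ⟨V3.emb (twoE s), twoE_mem s⟩
  rw [h] at h1
  rw [h1] at h2
  have h3 := congrFun h2 t
  simp only [qrefl, qip_twoE, half_two_mul] at h3
  simp only [Kr]
  have := sub_right_injective h3
  exact this

theorem ncard_reflSet : {f : Equiv.Perm icoLeech | IsIcoReflection f}.ncard = 315 := by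
  rw [reflSet_eq, Set.InjOn.ncard_image Grefl_injOn]
  have : {l : V3 | l ∈ reps} = ((reps.toFinset : Finset V3) : Set V3) := by
    ext p; simp
  rw [this, Set.ncard_coe_finset, List.toFinset_card_of_nodup reps_nodup, reps_length]

end Cfsg.Agent.Helper14.J2
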