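import Cfsg.Agent.Helper14.J2I

/-!
# Conjugating a reflection of the icosian Leech lattice by a reflection
-/

set_option autoImplicit false

namespace Cfsg.Agent.Helper14.J2

open Quaternion Cfsg.Spor Q8

theorem qip_sub_right (x s w : Fin 3 → ℍ[ℝ]) : qip x (s - w) = qip x s - qip x w := by
  simp only [qip_def, Pi.sub_apply, star_sub, mul_sub]; abel

theorem qrefl_sub_lsm (r x y : Fin 3 → ℍ[ℝ]) (a : ℍ[ℝ]) :
    qrefl r (x - lsm a y) = qrefl r x - lsm a (qrefl r y) := by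
  funext t
  simp only [qrefl, qip_sub_left, qip_lsm_left, Pi.sub_apply, lsm, smul_sub, sub_mul, mul_sub]
  rw [← mul_smul_comm, mul_assoc]
  abel

/-- the reflection is self-adjoint -/
theorem qip_qrefl_left (r x s : Fin 3 → ℍ[ℝ]) : qip (qrefl r x) s = qip x (qrefl r s) := by
  rw [qrefl_eq, qrefl_eq, qip_sub_left, qip_sub_right, qip_lsm_left, qip_lsm_right,
    Quaternion.star_smul, star_qip, smul_mul_assoc, mul_smul_comm]

theorem qrefl_conj {r : Fin 3 → ℍ[ℝ]} (hr : qip r r = 4) (s x : Fin 3 → ℍ[ℝ]) :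
    qrefl r (qrefl s (qrefl r x)) = qrefl (qrefl r s) x := by
  rw [qrefl_eq (r := s), qrefl_sub_lsm, qrefl_qrefl hr, qip_qrefl_left, ← qrefl_eq]

theorem qip_qrefl_self {r : Fin 3 → ℍ[ℝ]} (hr : qip r r = 4) (s : Fin 3 → ℍ[ℝ]) :
    qip (qrefl r s) (qrefl r s) = qip s s := by
  rw [qip_qrefl_left, qrefl_qrefl hr]

theorem reflPerm_inv (r : icoLeech) (hr : qip (r : Fin 3 → ℍ[ℝ]) r = 4) :
    (reflPerm r hr)⁻¹ = reflPerm r hr := by
  rw [inv_eq_iff_mul_eq_one]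
  ext x : 1
  exact Subtype.ext (qrefl_qrefl hr x)

/-- conjugating a reflection by a reflection -/
theorem reflPerm_conj (r s : icoLeech) (hr : qip (r : Fin 3 → ℍ[ℝ]) r = 4)
    (hs : qip (s : Fin 3 → ℍ[ℝ]) s = 4) :
    reflPerm r hr * reflPerm s hs * (reflPerm r hr)⁻¹ =
      reflPerm ⟨qrefl r s, qrefl_mem r.2 s.2⟩ (by rw [qip_qrefl_self hr]; exact hs) := by
  rw [reflPerm_inv]
  ext x : 1
  exact Subtype.ext (qrefl_conj hr s x)

/-- the zero vector of the model -/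
def V0 : V3 := ⟨0, 0, 0⟩

/-- the check that the reflection in `R` maps `X` to `u l` -/
def rowOK (R X : V3) (u : Q8) (l : V3) : Bool :=
  decide (zs 8 X.x - V3.ip X R * R.x = zs 4 (u * l.x)) &&
    decide (zs 8 X.y - V3.ip X R * R.y = zs 4 (u * l.y)) &&
    decide (zs 8 X.z - V3.ip X R * R.z = zs 4 (u * l.z))

theorem rowOK_aux {X Xt Rt u lt : Q8} (ipq : ℍ[ℝ]) (hip : ipq = (1 / 4 : ℝ) • ev X)
    (h : zs 8 Xt - X * Rt = zs 4 (u * lt)) :
    hv Xt - ((1 / 2 : ℝ) • ipq) * hv Rt = hv u * hv lt := by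
  have h' := congrArg ev h
  rw [ev_sub, ev_zs, ev_zs, ev_mul, ev_mul] at h'
  rw [hv_mul, ev_mul, hip]
  simp only [hv]
  rw [smul_mul_assoc, mul_smul_comm, smul_mul_assoc, smul_smul, smul_smul]
  have e : ev X * ev Rt = ((8 : ℤ) : ℝ) • ev Xt - ((4 : ℤ) : ℝ) • (ev u * ev lt) := by
    rw [← h']; abel
  rw [e, smul_sub, smul_smul, smul_smul]
  norm_num

theorem rowOK_sound {R X : V3} {u : Q8} {l : V3} (h : rowOK R X u l = true) :
    qrefl (V3.emb R) (V3.emb X) = lsm (hv u) (V3.emb l) := by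
  simp only [rowOK, Bool.and_eq_true, decide_eq_true_eq] at h
  obtain ⟨⟨h1, h2⟩, h3⟩ := h
  funext t
  fin_cases t
  · exact rowOK_aux _ (V3.qip_emb X R) h1
  · exact rowOK_aux _ (V3.qip_emb X R) h2
  · exact rowOK_aux _ (V3.qip_emb X R) h3

end Cfsg.Agent.Helper14.J2
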