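import Cfsg.Agent.Helper14.J2J2

/-!
# The action of the icosian reflection group on its 315 reflections
-/

set_option autoImplicit false

namespace Cfsg.Agent.Helper14.J2

open Quaternion Cfsg.Spor Q8 Cfsg.Agent.Helper14.PermChainN Cfsg.Agent.Helper14.J2P

/-- the `k`-th normalised minimal vector -/
def rep (k : ℕ) : V3 := reps.getD k V0

theorem rep_mem {k : ℕ} (hk : k < 315) : rep k ∈ reps := by
  unfold rep
  rw [List.getD_eq_getElem _ _ (by rw [reps_length]; exact hk)]
  exact List.getElem_mem _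

theorem rep_inj {k k' : ℕ} (hk : k < 315) (hk' : k' < 315) (h : rep k = rep k') : k = k' := by
  unfold rep at h
  rw [List.getD_eq_getElem _ _ (by rw [reps_length]; exact hk),
    List.getD_eq_getElem _ _ (by rw [reps_length]; exact hk')] at h
  exact (List.Nodup.getElem_inj_iff reps_nodup).mp h

theorem exists_rep {l : V3} (hl : l ∈ reps) : ∃ k < 315, l = rep k := by
  obtain ⟨k, hk, rfl⟩ := List.mem_iff_getElem.mp hl
  refine ⟨k, by rw [← reps_length]; exact hk, ?_⟩
  unfold rep
  rw [List.getD_eq_getElem _ _ hk]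

/-- the `k`-th reflection -/
noncomputable def Rf (k : ℕ) : Equiv.Perm icoLeech := Grefl (rep k)

theorem isRefl_Rf {k : ℕ} (hk : k < 315) : IsIcoReflection (Rf k) := by
  have : Rf k ∈ {f : Equiv.Perm icoLeech | IsIcoReflection f} := by
    rw [reflSet_eq]
    exact ⟨rep k, rep_mem hk, rfl⟩
  exact this

theorem Rf_inj {k k' : ℕ} (hk : k < 315) (hk' : k' < 315) (h : Rf k = Rf k') : k = k' :=
  rep_inj hk hk' (Grefl_injOn (rep_mem hk) (rep_mem hk') h)

theorem exists_Rf {f : Equiv.Perm icoLeech} (hf : IsIcoReflection f) : ∃ k < 315, f = Rf k := by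
  have : f ∈ {f : Equiv.Perm icoLeech | IsIcoReflection f} := hf
  rw [reflSet_eq] at this
  obtain ⟨l, hl, rfl⟩ := this
  obtain ⟨k, hk, rfl⟩ := exists_rep hl
  exact ⟨k, hk, rfl⟩

theorem Rf_mem {k : ℕ} (hk : k < 315) : Rf k ∈ twoJ2 := Subgroup.subset_closure (isRefl_Rf hk)

theorem Rf_eq_reflPerm {k : ℕ} (hk : k < 315) :
    Rf k = reflPerm ⟨V3.emb (rep k), (reps_min (rep_mem hk)).1⟩ (reps_min (rep_mem hk)).2 := by
  unfold Rf Grefl
  rw [dif_pos (reps_isMin _ (rep_mem hk))]

theorem Rf_inv {k : ℕ} (hk : k < 315) : (Rf k)⁻¹ = Rf k := by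
  rw [Rf_eq_reflPerm hk, reflPerm_inv]

/-- a conjugate of a reflection by a reflection is a reflection -/
theorem refl_conj_refl {f g : Equiv.Perm icoLeech} (hf : IsIcoReflection f)
    (hg : IsIcoReflection g) : IsIcoReflection (g * f * g⁻¹) := by
  obtain ⟨r, hr, rfl⟩ := (isIcoReflection_iff g).mp hg
  obtain ⟨s, hs, rfl⟩ := (isIcoReflection_iff f).mp hf
  rw [reflPerm_conj]
  exact isIcoReflection_reflPerm _ _

/-- the property of permuting the reflections -/
def PermRefl (g : Equiv.Perm icoLeech) : Prop :=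
  ∀ k : Fin 315, ∃ m : Fin 315, g * Rf k.1 * g⁻¹ = Rf m.1

theorem permRefl_inv {g : Equiv.Perm icoLeech} (hg : PermRefl g) : PermRefl g⁻¹ := by
  choose F hF using hg
  have hinj : Function.Injective F := by
    intro k k' h
    have h1 := hF k
    have h2 := hF k'
    rw [h] at h1
    have : Rf k.1 = Rf k'.1 := by
      have e : g * Rf k.1 * g⁻¹ = g * Rf k'.1 * g⁻¹ := by rw [h1, h2]
      exact mul_left_cancel (mul_right_cancel e)
    exact Fin.ext (Rf_inj k.2 k'.2 this)
  have hsurj : Function.Surjective F := Finite.surjective_of_injective hinj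
  intro m
  obtain ⟨k, rfl⟩ := hsurj m
  refine ⟨k, ?_⟩
  rw [← hF k]
  group

theorem permRefl_of_mem {g : Equiv.Perm icoLeech} (hg : g ∈ twoJ2) : PermRefl g := by
  unfold twoJ2 at hg
  induction hg using Subgroup.closure_induction with
  | mem f hf =>
    intro k
    obtain ⟨m, hm, h⟩ := exists_Rf (refl_conj_refl (isRefl_Rf k.2) hf)
    exact ⟨⟨m, hm⟩, h⟩
  | one => intro k; exact ⟨k, by group⟩
  | mul x y _ _ hx hy =>
    intro k
    obtain ⟨m, hm⟩ := hy k
    obtain ⟨m', hm'⟩ := hx m
    refine ⟨m', ?_⟩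
    rw [← hm', ← hm]
    group
  | inv x _ hx => exact permRefl_inv hx

open Classical in
/-- the index of the conjugate of a reflection -/
noncomputable def conjIdx (g : Equiv.Perm icoLeech) (k : Fin 315) : Fin 315 :=
  if h : ∃ m : Fin 315, g * Rf k.1 * g⁻¹ = Rf m.1 then Classical.choose h else k

theorem conjIdx_spec {g : Equiv.Perm icoLeech} (hg : g ∈ twoJ2) (k : Fin 315) :
    g * Rf k.1 * g⁻¹ = Rf (conjIdx g k).1 := by
  have h := permRefl_of_mem hg k
  unfold conjIdx
  rw [dif_pos h]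
  exact Classical.choose_spec h

theorem conjIdx_eq {g : Equiv.Perm icoLeech} (hg : g ∈ twoJ2) {k m : Fin 315}
    (h : g * Rf k.1 * g⁻¹ = Rf m.1) : conjIdx g k = m := by
  apply Fin.ext
  apply Rf_inj (conjIdx g k).2 m.2
  rw [← conjIdx_spec hg, h]

noncomputable instance actRefl : MulAction twoJ2 (Fin 315) where
  smul g k := conjIdx g.1 k
  one_smul k := by
    show conjIdx (1 : twoJ2).1 k = k
    apply conjIdx_eq (Subgroup.one_mem _)
    show (1 : Equiv.Perm icoLeech) * Rf k.1 * 1⁻¹ = Rf k.1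
    group
  mul_smul g h k := by
    show conjIdx (g * h).1 k = conjIdx g.1 (conjIdx h.1 k)
    apply conjIdx_eq (g * h).2
    rw [← conjIdx_spec g.2, ← conjIdx_spec h.2]
    show (g.1 * h.1) * Rf k.1 * (g.1 * h.1)⁻¹ = _
    group

theorem smul_def (g : twoJ2) (k : Fin 315) : g • k = conjIdx g.1 k := rfl

/-- the permutation representation on the reflections -/
noncomputable def rho : twoJ2 →* Equiv.Perm (Fin 315) := MulAction.toPermHom twoJ2 (Fin 315)

theorem rho_apply (g : twoJ2) (k : Fin 315) : rho g k = conjIdx g.1 k := by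
  unfold rho
  rw [MulAction.toPermHom_apply, MulAction.toPerm_apply, smul_def]

theorem rho_spec (g : twoJ2) (k : Fin 315) : g.1 * Rf k.1 * g.1⁻¹ = Rf (rho g k).1 :=
  conjIdx_spec g.2 k

/-- the kernel of the representation is the centre -/
theorem ker_rho : rho.ker = Subgroup.center twoJ2 := by
  ext g
  rw [MonoidHom.mem_ker, Subgroup.mem_center_iff]
  constructor
  · intro hg h
    have hk : ∀ k : Fin 315, g.1 * Rf k.1 = Rf k.1 * g.1 := by
      intro k
      have := rho_spec g k
      rw [hg] at this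
      calc g.1 * Rf k.1 = (g.1 * Rf k.1 * g.1⁻¹) * g.1 := by group
        _ = Rf k.1 * g.1 := by rw [this]; rfl
    have hall : ∀ x ∈ twoJ2, g.1 * x = x * g.1 := by
      intro x hx
      unfold twoJ2 at hx
      induction hx using Subgroup.closure_induction with
      | mem f hf =>
        obtain ⟨k, hk', rfl⟩ := exists_Rf hf
        exact hk ⟨k, hk'⟩
      | one => simp
      | mul x y _ _ hx hy => rw [← mul_assoc, hx, mul_assoc, hy, mul_assoc]
      | inv x _ hx =>
        calc g.1 * x⁻¹ = x⁻¹ * (x * g.1) * x⁻¹ := by group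
          _ = x⁻¹ * (g.1 * x) * x⁻¹ := by rw [hx]
          _ = x⁻¹ * g.1 := by group
    apply Subtype.ext
    exact (hall h.1 h.2).symm
  · intro hg
    apply Equiv.ext
    intro k
    rw [rho_apply]
    apply conjIdx_eq g.2
    have := hg ⟨Rf k.1, Rf_mem k.2⟩
    have h' : Rf k.1 * g.1 = g.1 * Rf k.1 := congrArg Subtype.val this
    rw [← h']
    show Rf k.1 * g.1 * g.1⁻¹ = Rf ((1 : Equiv.Perm (Fin 315)) k).1
    group
    rfl

end Cfsg.Agent.Helper14.J2
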