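import Cfsg.Agent.Helper14.J2P0

/-!
# Checks on the reflection tables
-/

set_option autoImplicit false

namespace Cfsg.Agent.Helper14.J2P

open Cfsg.Agent.Helper14.PermChainN

set_option maxRecDepth 1000000 in
set_option maxHeartbeats 4000000 in
theorem reflTabs_good : reflTabs.all (goodB 315) = true := by decide +kernel

set_option maxRecDepth 1000000 in
set_option maxHeartbeats 4000000 in
theorem conjChk_z : conjChk zTab = true := by decide +kernel

set_option maxRecDepth 1000000 in
set_option maxHeartbeats 4000000 in
theorem conjChk_u : conjChk uTab = true := by decide +kernel

end Cfsg.Agent.Helper14.J2P
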