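import Cfsg.Agent.Helper14.J2P0

/-!
# The Sylow subgroup, the element of order seven, the outer permutation: checks
-/

set_option autoImplicit false

namespace Cfsg.Agent.Helper14.J2P

open Cfsg.Agent.Helper14.PermChainN

set_option maxRecDepth 1000000 in
set_option maxHeartbeats 4000000 in
theorem gensS_good : levelsS.all (fun L => L.gens.all (goodB 315)) = true := by decide +kernel

set_option maxRecDepth 1000000 in
set_option maxHeartbeats 4000000 in
theorem chainS_ok : chainOK 315 levelsS = true := by decide +kernel

set_option maxRecDepth 1000000 in
set_option maxHeartbeats 4000000 in
theorem sWords_ok : (List.range lvS0.gens.length).all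
    (fun k => wordOK 315 zu (sWords.getD k []) (lvS0.gens.getD k 0)) = true := by decide +kernel

set_option maxRecDepth 1000000 in
set_option maxHeartbeats 4000000 in
theorem centChk_ok : centChk = true := by decide +kernel

set_option maxRecDepth 1000000 in
set_option maxHeartbeats 4000000 in
theorem zS_ok : lvS0.gens.getD 0 0 = zTab := by decide +kernel

set_option maxRecDepth 1000000 in
set_option maxHeartbeats 4000000 in
theorem zComm_ok : lvS0.gens.all (fun y => commTab zTab y) = true := by decide +kernel

set_option maxRecDepth 1000000 in
set_option maxHeartbeats 4000000 in
theorem misc_good : (goodB 315 nTab && goodB 315 tTab) = true := by decide +kernel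

set_option maxRecDepth 1000000 in
set_option maxHeartbeats 4000000 in
theorem u_pow : (allN 315 fun i => Nat.beq (powLook uTab 7 i) i) = true := by decide +kernel

set_option maxRecDepth 1000000 in
set_option maxHeartbeats 4000000 in
theorem u_ne : look uTab 0 ≠ 0 := by decide +kernel

set_option maxRecDepth 1000000 in
set_option maxHeartbeats 4000000 in
theorem nWord_ok : wordOK 315 zu nWord nTab = true := by decide +kernel

set_option maxRecDepth 1000000 in
set_option maxHeartbeats 4000000 in
theorem n_conj : (allN 315 fun i =>
    Nat.beq (look nTab (look uTab i)) (look uTab (look uTab (look uTab (look nTab i))))) = true := by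
  decide +kernel

set_option maxRecDepth 1000000 in
set_option maxHeartbeats 4000000 in
theorem zuWords_ok : (List.range 4).all
    (fun k => wordOK 315 zu (zuWords.getD k []) (refl (yIdx.getD k 0))) = true := by decide +kernel

set_option maxRecDepth 1000000 in
set_option maxHeartbeats 4000000 in
theorem uWord_ok : wordOK 315 (yIdx.map refl) uWord uTab = true := by decide +kernel

set_option maxRecDepth 1000000 in
set_option maxHeartbeats 4000000 in
theorem rel_z : (relOK zTab w1 && relOK zTab w2) = true := by decide +kernel

set_option maxRecDepth 1000000 in
set_option maxHeartbeats 4000000 in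
theorem relChk_ok : relChk = true := by decide +kernel

set_option maxRecDepth 1000000 in
set_option maxHeartbeats 4000000 in
theorem fixChk_ok : fixChk = true := by decide +kernel

set_option maxRecDepth 1000000 in
set_option maxHeartbeats 4000000 in
theorem t_base : levelsP.all (fun L => Nat.beq (look tTab L.b) L.b) = true := by decide +kernel

set_option maxRecDepth 1000000 in
set_option maxHeartbeats 4000000 in
theorem t_zero : look tTab 0 = 92 := by decide +kernel

set_option maxRecDepth 1000000 in
set_option maxHeartbeats 4000000 in
theorem t_sq : (allN 315 fun i => Nat.beq (look tTab (look tTab i)) i) = true := by decide +kernel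

set_option maxRecDepth 1000000 in
set_option maxHeartbeats 4000000 in
theorem t_z : conjRow tTab zTab (refl 92) = true := by decide +kernel

set_option maxRecDepth 1000000 in
set_option maxHeartbeats 4000000 in
theorem t_u : commTab tTab uTab = true := by decide +kernel

set_option maxRecDepth 1000000 in
set_option maxHeartbeats 4000000 in
theorem orbP_all : (allN 315 fun β => lvP0.orb.contains β) = true := by decide +kernel

theorem refl_zero : refl 0 = zTab := by decide +kernel

theorem gensP_eq : gensOf levelsP = zu := by decide +kernel

end Cfsg.Agent.Helper14.J2P
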