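import Cfsg.Agent.Helper14.J2P1
import Cfsg.Agent.Helper14.J2P2
import Cfsg.Agent.Helper14.J2P3

/-!
# The permutation group of degree 315 of the Hall–Janko group: basic facts
-/

set_option autoImplicit false
set_option maxRecDepth 100000

namespace Cfsg.Agent.Helper14.J2P

open Cfsg.Agent.Helper14.PermChainN

/-- the permutations of 315 points -/
abbrev Pm315 : Type := Equiv.Perm (Fin 315)

/-- the group -/
noncomputable def G : Subgroup Pm315 := Grp 315 zu

/-- the first reflection -/
noncomputable def zP : Pm315 := P 315 zTab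

/-- the element of order seven -/
noncomputable def uP : Pm315 := P 315 uTab

/-- the reflections -/
noncomputable def Dr (j : ℕ) : Pm315 := P 315 (refl j)

theorem hgoodP : ∀ L ∈ levelsP, ∀ y ∈ L.gens, goodB 315 y = true := by
  intro L hL y hy
  exact List.all_eq_true.mp (List.all_eq_true.mp gensP_good L hL) y hy

theorem hgoodS : ∀ L ∈ levelsS, ∀ y ∈ L.gens, goodB 315 y = true := by
  intro L hL y hy
  exact List.all_eq_true.mp (List.all_eq_true.mp gensS_good L hL) y hy

theorem zu_good : ∀ y ∈ zu, goodB 315 y = true := by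
  have := hgoodP lvP0 (by simp [levelsP])
  rw [show lvP0.gens = zu from gensP_eq] at this
  exact this

theorem z_good : goodB 315 zTab = true := zu_good _ (by simp [zu])
theorem u_good : goodB 315 uTab = true := zu_good _ (by simp [zu])

theorem reflTabs_length : reflTabs.length = 315 := by decide +kernel

theorem refl_good {j : ℕ} (hj : j < 315) : goodB 315 (refl j) = true := by
  apply List.all_eq_true.mp reflTabs_good
  unfold refl
  rw [List.getD_eq_getElem _ _ (by rw [reflTabs_length]; exact hj)]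
  exact List.getElem_mem _

theorem zP_mem : zP ∈ G := P_mem_Grp (by simp [zu])
theorem uP_mem : uP ∈ G := P_mem_Grp (by simp [zu])

theorem Dr_zero : Dr 0 = zP := by unfold Dr zP; rw [refl_zero]

/-! ### the chain -/

theorem chainP : Nat.card (Grp 315 (gensOf levelsP)) = (levelsP.map fun L => L.orb.length).prod ∧
    (∀ p, pathValid levelsP p = true → ∃ g ∈ Grp 315 (gensOf levelsP), Rep (pathLook levelsP p) g) ∧
    (∀ g ∈ Grp 315 (gensOf levelsP), ∃ p, pathValid levelsP p = true ∧ Rep (pathLook levelsP p) g) ∧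
    (∀ g ∈ Grp 315 (gensOf levelsP), FixBase levelsP g → g = 1) :=
  chain_sound levelsP hgoodP chainP_ok

theorem card_G : Nat.card G = 604800 := by
  have h := chainP.1
  rw [gensP_eq] at h
  rw [show G = Grp 315 zu from rfl, h]
  decide +kernel

theorem eq_one_of_fixBase {g : Pm315} (hg : g ∈ G) (h : FixBase levelsP g) : g = 1 := by
  have := chainP.2.2.2
  rw [gensP_eq] at this
  exact this g hg h

theorem exists_map_42 {β : ℕ} (hβ : β < 315) :
    ∃ g ∈ G, g ⟨42, by norm_num⟩ = ⟨β, hβ⟩ := by
  have hmem : β ∈ lvP0.orb := by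
    have := allN_spec orbP_all β hβ
    simpa using this
  obtain ⟨g, hg, hb, hβ', h⟩ := exists_transversal (L := lvP0) (ls := [lvP1, lvP2, lvP3])
    (fun L hL => hgoodP L hL) chainP_ok hmem
  rw [show lvP0.gens = zu from gensP_eq] at hg
  exact ⟨g, hg, h⟩

/-- the group is transitive -/
theorem exists_map (α β : Fin 315) : ∃ g ∈ G, g α = β := by
  obtain ⟨g1, hg1, h1⟩ := exists_map_42 α.2
  obtain ⟨g2, hg2, h2⟩ := exists_map_42 β.2
  refine ⟨g2 * g1⁻¹, G.mul_mem hg2 (G.inv_mem hg1), ?_⟩
  have : g1⁻¹ α = ⟨42, by norm_num⟩ := by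
    rw [Equiv.Perm.inv_eq_iff_eq]
    exact h1.symm
  rw [Equiv.Perm.mul_apply, this, h2]

/-! ### conjugation of the reflections -/

theorem gen_mul_Dr {y : ℕ} (hy : y ∈ zu) (hc : conjChk y = true) {j : ℕ} (hj : j < 315) :
    look y j < 315 ∧ P 315 y * Dr j = Dr (look y j) * P 315 y := by
  have hyg := zu_good y hy
  have hlt : look y j < 315 := look_lt hyg j hj
  refine ⟨hlt, ?_⟩
  unfold Dr
  apply rep_unique (rep_mul (rep_P hyg) (rep_P (refl_good hj)))
  apply rep_congr (rep_mul (rep_P (refl_good hlt)) (rep_P hyg))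
  intro i hi
  have h1 := allN_spec hc j hj
  exact Nat.eq_of_beq_eq_true (allN_spec h1 i hi)

theorem conjChk_of_mem {y : ℕ} (hy : y ∈ zu) : conjChk y = true := by
  simp only [zu, List.mem_cons, List.not_mem_nil, or_false] at hy
  rcases hy with rfl | rfl
  · exact conjChk_z
  · exact conjChk_u

/-- the group permutes the reflections like the points -/
theorem conj_Dr {g : Pm315} (hg : g ∈ G) (j : Fin 315) : g * Dr j.1 * g⁻¹ = Dr (g j).1 := by
  revert j
  unfold G Grp at hg
  induction hg using Subgroup.closure_induction with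
  | mem x hx =>
    obtain ⟨y, hy, rfl⟩ := hx
    intro j
    obtain ⟨-, h2⟩ := gen_mul_Dr hy (conjChk_of_mem hy) j.2
    have e : (P 315 y j).1 = look y j.1 := rep_P (zu_good y hy) j
    rw [h2, e]
    group
  | one => intro j; simp
  | mul x y _ _ hx hy =>
    intro j
    calc x * y * Dr j.1 * (x * y)⁻¹ = x * (y * Dr j.1 * y⁻¹) * x⁻¹ := by group
      _ = Dr ((x * y) j).1 := by rw [hy j, hx (y j)]; rfl
  | inv x _ hx =>
    intro j
    have := hx (x⁻¹ j)
    have e : x (x⁻¹ j) = j := by simp
    rw [e] at this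
    rw [← this]
    group

theorem conj_zP {g : Pm315} (hg : g ∈ G) : g * zP * g⁻¹ = Dr (g 0).1 := by
  rw [← Dr_zero]
  exact conj_Dr hg 0

theorem Dr_mem {j : ℕ} (hj : j < 315) : Dr j ∈ G := by
  obtain ⟨g, hg, h⟩ := exists_map 0 ⟨j, hj⟩
  have := conj_zP hg
  rw [h] at this
  rw [← this]
  exact G.mul_mem (G.mul_mem hg zP_mem) (G.inv_mem hg)

/-! ### the centraliser of the group is trivial -/

theorem lvP1_le : Grp 315 lvP1.gens ≤ G ∧ ∀ y ∈ lvP1.gens, look y 42 = 42 := by
  have := next_le (L := lvP0) (ls := [lvP1, lvP2, lvP3]) (fun L hL => hgoodP L hL) chainP_ok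
  rw [show lvP0.gens = zu from gensP_eq] at this
  exact this

theorem eq_one_of_commute {c : Pm315} (hc : ∀ g ∈ G, c * g = g * c) : c = 1 := by
  have h42 : c ⟨42, by norm_num⟩ = ⟨42, by norm_num⟩ := by
    have hk := allN_spec fixChk_ok (c ⟨42, by norm_num⟩).1 (c ⟨42, by norm_num⟩).2
    rw [Bool.or_eq_true] at hk
    rcases hk with hk | hk
    · exact Fin.ext (Nat.eq_of_beq_eq_true hk)
    · exfalso
      rw [List.any_eq_true] at hk
      obtain ⟨y, hy, hne⟩ := hk
      have hyg : goodB 315 y = true := hgoodP lvP1 (by simp [levelsP]) y hy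
      have hyG : P 315 y ∈ G := lvP1_le.1 (P_mem_Grp hy)
      have hfix : P 315 y ⟨42, by norm_num⟩ = ⟨42, by norm_num⟩ := by
        apply Fin.ext
        rw [rep_P hyg]
        exact lvP1_le.2 y hy
      have h1 : P 315 y (c ⟨42, by norm_num⟩) = c ⟨42, by norm_num⟩ := by
        have := congrArg (fun f : Pm315 => f ⟨42, by norm_num⟩) (hc _ hyG)
        simp only [Equiv.Perm.mul_apply, hfix] at this
        exact this.symm
      have h2 : look y (c ⟨42, by norm_num⟩).1 = (c ⟨42, by norm_num⟩).1 := by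
        rw [← rep_P hyg, h1]
      rw [h2] at hne
      simp at hne
  apply Equiv.ext
  intro β
  obtain ⟨g, hg, h⟩ := exists_map_42 β.2
  have := congrArg (fun f : Pm315 => f ⟨42, by norm_num⟩) (hc g hg)
  simp only [Equiv.Perm.mul_apply, h42, h] at this
  exact this

end Cfsg.Agent.Helper14.J2P
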