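import Cfsg.Agent.Helper14.J2J3
import Cfsg.Agent.Helper14.J2P4

/-!
# The Hall–Janko group as a permutation group of degree 315
-/

set_option autoImplicit false
set_option maxRecDepth 100000

namespace Cfsg.Agent.Helper14.J2

open Quaternion Cfsg.Spor Q8 Cfsg.Agent.Helper14.PermChainN Cfsg.Agent.Helper14.J2P

theorem unitIdx_lt : (unitIdx0.all (fun i => decide (i < 120)) && unitIdx1.all (fun i => decide (i < 120)) &&
    unitIdx2.all (fun i => decide (i < 120)) && unitIdx3.all (fun i => decide (i < 120))) = true := by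
  decide +kernel

theorem unitIdx_len : unitIdx0.length = 315 ∧ unitIdx1.length = 315 ∧ unitIdx2.length = 315 ∧
    unitIdx3.length = 315 := by decide +kernel

theorem unit_getD_mem {c : List ℕ} (hc : c.all (fun i => decide (i < 120)) = true)
    (hl : c.length = 315) {k : ℕ} (hk : k < 315) : units.getD (c.getD k 0) 0 ∈ units := by
  have h1 : c.getD k 0 < 120 := by
    rw [List.getD_eq_getElem _ _ (by rw [hl]; exact hk)]
    have := List.all_eq_true.mp hc _ (List.getElem_mem (by rw [hl]; exact hk))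
    simpa using this
  rw [List.getD_eq_getElem _ _ (by rw [units_length]; exact h1)]
  exact List.getElem_mem _

/-- a generating reflection acts on the reflections by its table -/
theorem Rf_conj_of_genChk {a : ℕ} (ha : a < 315) {c : List ℕ} (hchk : genChk a c = true)
    (hc : c.all (fun i => decide (i < 120)) = true) (hl : c.length = 315) {k : ℕ} (hk : k < 315) :
    Rf a * Rf k * (Rf a)⁻¹ = Rf (look (refl a) k) := by
  have hm : look (refl a) k < 315 := look_lt (refl_good ha) k hk
  have hrow : rowOK (rep a) (rep k) (units.getD (c.getD k 0) 0) (rep (look (refl a) k)) = true :=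
    allN_spec hchk k hk
  have hq := rowOK_sound hrow
  have hu := unit_getD_mem hc hl hk
  rw [Rf_eq_reflPerm ha, Rf_eq_reflPerm hk, reflPerm_conj]
  ext x : 1
  apply Subtype.ext
  rw [reflPerm_apply]
  show qrefl (qrefl (V3.emb (rep a)) (V3.emb (rep k))) x = _
  rw [hq, qrefl_lsm (unit_mul_star hu).2]
  unfold Rf
  rw [Grefl_apply (reps_isMin _ (rep_mem hm))]

theorem yIdx_eq : yIdx = [0, 99, 241, 277] := rfl

theorem Rf_conj_gen {a : ℕ} (ha : a ∈ yIdx) {k : ℕ} (hk : k < 315) :
    a < 315 ∧ Rf a * Rf k * (Rf a)⁻¹ = Rf (look (refl a) k) := by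
  rw [yIdx_eq] at ha
  simp only [List.mem_cons, List.not_mem_nil, or_false] at ha
  have hlt := unitIdx_lt
  simp only [Bool.and_eq_true] at hlt
  obtain ⟨⟨⟨l0, l1⟩, l2⟩, l3⟩ := hlt
  obtain ⟨n0, n1, n2, n3⟩ := unitIdx_len
  rcases ha with rfl | rfl | rfl | rfl
  · exact ⟨by norm_num, Rf_conj_of_genChk (by norm_num) genChk0 l0 n0 hk⟩
  · exact ⟨by norm_num, Rf_conj_of_genChk (by norm_num) genChk1 l1 n1 hk⟩
  · exact ⟨by norm_num, Rf_conj_of_genChk (by norm_num) genChk2 l2 n2 hk⟩
  · exact ⟨by norm_num, Rf_conj_of_genChk (by norm_num) genChk3 l3 n3 hk⟩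

/-- the image of a generating reflection is given by its table -/
theorem rho_gen {a : ℕ} (ha : a ∈ yIdx) (ha' : a < 315) : rho ⟨Rf a, Rf_mem ha'⟩ = Dr a := by
  apply Equiv.ext
  intro k
  have h1 := (Rf_conj_gen ha k.2).2
  have hm : look (refl a) k.1 < 315 := look_lt (refl_good ha') k.1 k.2
  have h2 : rho ⟨Rf a, Rf_mem ha'⟩ k = ⟨look (refl a) k.1, hm⟩ := by
    rw [rho_apply]
    exact conjIdx_eq (Rf_mem ha') h1
  rw [h2]
  apply Fin.ext
  unfold Dr
  rw [rep_P (refl_good ha')]

/-- the group generated by the four reflection tables -/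
noncomputable def K4 : Subgroup Pm315 := Grp 315 (yIdx.map refl)

theorem y4_good : ∀ y ∈ yIdx.map refl, goodB 315 y = true := by
  intro y hy
  rw [List.mem_map] at hy
  obtain ⟨a, ha, rfl⟩ := hy
  rw [yIdx_eq] at ha
  simp only [List.mem_cons, List.not_mem_nil, or_false] at ha
  rcases ha with rfl | rfl | rfl | rfl <;> exact refl_good (by norm_num)

theorem K4_eq : K4 = G := by
  apply le_antisymm
  · unfold K4 Grp
    rw [Subgroup.closure_le]
    rintro g ⟨y, hy, rfl⟩
    rw [List.mem_map] at hy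
    obtain ⟨a, ha, rfl⟩ := hy
    obtain ⟨k, hk, hka⟩ := List.mem_iff_getElem.mp ha
    have hk4 : k < 4 := hk
    have hw := List.all_eq_true.mp zuWords_ok k (List.mem_range.mpr hk4)
    rw [List.getD_eq_getElem _ _ hk, hka] at hw
    have ha' : a < 315 := by
      rw [yIdx_eq] at ha
      simp only [List.mem_cons, List.not_mem_nil, or_false] at ha
      rcases ha with rfl | rfl | rfl | rfl <;> norm_num
    exact mem_of_wordOK zu_good (refl_good ha') hw
  · unfold G Grp
    rw [Subgroup.closure_le]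
    rintro g ⟨y, hy, rfl⟩
    simp only [zu, List.mem_cons, List.not_mem_nil, or_false] at hy
    rcases hy with rfl | rfl
    · rw [← refl_zero]
      exact P_mem_Grp (List.mem_map.mpr ⟨0, by rw [yIdx_eq]; simp, rfl⟩)
    · exact mem_of_wordOK y4_good u_good uWord_ok

/-- the image of the representation -/
theorem range_rho : rho.range = G := by
  have hK4le : K4 ≤ rho.range := by
    unfold K4 Grp
    rw [Subgroup.closure_le]
    rintro g ⟨y, hy, rfl⟩
    rw [List.mem_map] at hy
    obtain ⟨a, ha, rfl⟩ := hy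
    have ha' : a < 315 := (Rf_conj_gen ha (k := 0) (by norm_num)).1
    exact ⟨⟨Rf a, Rf_mem ha'⟩, rho_gen ha ha'⟩
  apply le_antisymm
  · -- the image of every reflection lies in `G`
    have hrefl : ∀ j : Fin 315, rho ⟨Rf j.1, Rf_mem j.2⟩ ∈ G := by
      intro j
      obtain ⟨g', hg', hgj⟩ := exists_map 0 j
      have hg'' : g' ∈ rho.range := hK4le (by rw [K4_eq]; exact hg')
      obtain ⟨h, rfl⟩ := hg''
      have h0 : rho ⟨Rf 0, Rf_mem (by norm_num)⟩ = zP := by
        rw [rho_gen (by rw [yIdx_eq]; simp) (by norm_num), Dr_zero]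
      have hconj : h.1 * Rf (0 : Fin 315).1 * h.1⁻¹ = Rf j.1 := by
        rw [rho_spec h 0, hgj]
      have : (⟨Rf j.1, Rf_mem j.2⟩ : twoJ2) = h * ⟨Rf 0, Rf_mem (by norm_num)⟩ * h⁻¹ := by
        apply Subtype.ext
        exact hconj.symm
      rw [this, map_mul, map_mul, map_inv, h0]
      exact G.mul_mem (G.mul_mem hg' zP_mem) (G.inv_mem hg')
    rintro _ ⟨g, rfl⟩
    obtain ⟨g, hg⟩ := g
    unfold twoJ2 at hg
    induction hg using Subgroup.closure_induction with
    | mem f hf =>
      obtain ⟨k, hk, rfl⟩ := exists_Rf hf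
      exact hrefl ⟨k, hk⟩
    | one =>
      have : (⟨1, Subgroup.one_mem _⟩ : twoJ2) = 1 := rfl
      rw [this, map_one]
      exact G.one_mem
    | mul x y hx hy ihx ihy =>
      have : (⟨x * y, Subgroup.mul_mem _ hx hy⟩ : twoJ2) = ⟨x, hx⟩ * ⟨y, hy⟩ := rfl
      rw [this, map_mul]
      exact G.mul_mem ihx ihy
    | inv x hx ihx =>
      have : (⟨x⁻¹, Subgroup.inv_mem _ hx⟩ : twoJ2) = (⟨x, hx⟩ : twoJ2)⁻¹ := rfl
      rw [this, map_inv]
      exact G.inv_mem ihx
  · rw [← K4_eq]
    exact hK4le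

/-- the Hall–Janko group is isomorphic to the permutation group of degree 315 -/
noncomputable def j2Equiv : J2 ≃* G :=
  (QuotientGroup.quotientMulEquivOfEq ker_rho.symm).trans
    ((QuotientGroup.quotientKerEquivRange rho).trans (MulEquiv.subgroupCongr range_rho))

end Cfsg.Agent.Helper14.J2
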