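import Cfsg.Agent.Helper14.J2PD

/-!
# Boolean checks for the permutation group of degree 315 of the Hall–Janko group
-/

set_option autoImplicit false

namespace Cfsg.Agent.Helper14.J2P

open Cfsg.Agent.Helper14.PermChainN

/-- the table of a reflection -/
def refl (j : ℕ) : ℕ := reflTabs.getD j 0

/-- the two generators -/
def zu : List ℕ := [zTab, uTab]

/-- the check that `y * D j = D (y j) * y` -/
def conjRow (y tj tk : ℕ) : Bool :=
  allN 315 fun i => Nat.beq (look y (look tj i)) (look tk (look y i))

/-- the check that a generator permutes the reflections like the points -/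
def conjChk (y : ℕ) : Bool := allN 315 fun j => conjRow y (refl j) (refl (look y j))

/-- the check that two tables commute -/
def commTab (a b : ℕ) : Bool := allN 315 fun i => Nat.beq (look a (look b i)) (look b (look a i))

/-- the check that a generator commutes with a path product -/
def commChk (ls : List Lvl) (p : List ℕ) (y : ℕ) : Bool :=
  allN 315 fun i => Nat.beq (look y (pathLook ls p i)) (pathLook ls p (look y i))

/-- the check of the centre of the Sylow subgroup -/
def centChk : Bool :=
  lvS0.orb.all fun a => lvS1.orb.all fun b => lvS2.orb.all fun c =>
    (allN 315 fun i => Nat.beq (pathLook levelsS [a, b, c] i) i) ||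
      (allN 315 fun i => Nat.beq (pathLook levelsS [a, b, c] i) (look zTab i)) ||
      lvS0.gens.any fun y => !(commChk levelsS [a, b, c] y)

/-- a power of a table, as a function -/
def powLook (u : ℕ) : ℕ → ℕ → ℕ
  | 0, i => i
  | k + 1, i => look u (powLook u k i)

/-- the word `d u^e₁ d u^e₂ ⋯`, as a function -/
def relLook (d u : ℕ) : List ℕ → ℕ → ℕ
  | [], i => i
  | e :: w, i => look d (powLook u e (relLook d u w i))

/-- iteration -/
def iterF (f : ℕ → ℕ) : ℕ → ℕ → ℕ
  | 0, i => i
  | k + 1, i => f (iterF f k i)

/-- the check of a relation: the eighth power of a word is trivial -/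
def relOK (d : ℕ) (w : List ℕ) : Bool :=
  allN 315 fun i => Nat.beq (iterF (relLook d uTab w) 8 i) i

/-- the first relation word -/
def w1 : List ℕ := [5, 3, 6]

/-- the second relation word -/
def w2 : List ℕ := [6, 2, 5]

/-- the check that only fourteen reflections satisfy the relations -/
def relChk : Bool :=
  allN 315 fun j => good14.contains j || !(relOK (refl j) w1) || !(relOK (refl j) w2)

/-- the check that the point 42 is the only common fixed point of the second level -/
def fixChk : Bool :=
  allN 315 fun k => Nat.beq k 42 || lvP1.gens.any fun y => !(Nat.beq (look y k) k)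

end Cfsg.Agent.Helper14.J2P
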