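import Cfsg.Agent.Helper14.J2PD

/-!
# The stabiliser chain of the group of degree 315
-/

set_option autoImplicit false

namespace Cfsg.Agent.Helper14.J2P

open Cfsg.Agent.Helper14.PermChainN

set_option maxRecDepth 1000000 in
set_option maxHeartbeats 4000000 in
theorem gensP_good : levelsP.all (fun L => L.gens.all (goodB 315)) = true := by decide +kernel

set_option maxRecDepth 1000000 in
set_option maxHeartbeats 4000000 in
theorem chainP_ok : chainOK 315 levelsP = true := by decide +kernel

end Cfsg.Agent.Helper14.J2P
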