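import Cfsg.Agent.Helper14.J2P5

/-!
# The Sylow 2-subgroup and the relations in the group of degree 315
-/

set_option autoImplicit false
set_option maxRecDepth 100000

namespace Cfsg.Agent.Helper14.J2P

open Cfsg.Agent.Helper14.PermChainN

theorem allN_of_forall {n : ℕ} {f : ℕ → Bool} (h : ∀ i < n, f i = true) : allN n f = true := by
  induction n with
  | zero => rfl
  | succ k ih =>
    simp only [allN, Bool.and_eq_true]
    exact ⟨h k (by omega), ih (fun i hi => h i (by omega))⟩

theorem rep_apply {f : ℕ → ℕ} {g : Pm315} (h : Rep f g) {i : ℕ} (hi : i < 315) :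
    (g ⟨i, hi⟩).1 = f i := h ⟨i, hi⟩

theorem rep_pow {t : ℕ} (ht : goodB 315 t = true) (k : ℕ) : Rep (powLook t k) ((P 315 t) ^ k) := by
  induction k with
  | zero => exact rep_one
  | succ k ih =>
    rw [pow_succ']
    exact rep_congr (rep_mul (rep_P ht) ih) (fun _ _ => rfl)

theorem rep_iter {f : ℕ → ℕ} {g : Pm315} (h : Rep f g) (k : ℕ) : Rep (iterF f k) (g ^ k) := by
  induction k with
  | zero => exact rep_one
  | succ k ih =>
    rw [pow_succ']
    exact rep_congr (rep_mul h ih) (fun _ _ => rfl)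

theorem eq_one_of_rep {f : ℕ → ℕ} {g : Pm315} (h : Rep f g) (hf : ∀ i < 315, f i = i) : g = 1 :=
  rep_unique h (rep_congr rep_one hf)

/-! ### the Sylow subgroup -/

/-- the Sylow subgroup -/
noncomputable def Syl : Subgroup Pm315 := Grp 315 lvS0.gens

theorem chainS : Nat.card (Grp 315 (gensOf levelsS)) = (levelsS.map fun L => L.orb.length).prod ∧
    (∀ p, pathValid levelsS p = true → ∃ g ∈ Grp 315 (gensOf levelsS), Rep (pathLook levelsS p) g) ∧
    (∀ g ∈ Grp 315 (gensOf levelsS), ∃ p, pathValid levelsS p = true ∧ Rep (pathLook levelsS p) g) ∧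
    (∀ g ∈ Grp 315 (gensOf levelsS), FixBase levelsS g → g = 1) :=
  chain_sound levelsS hgoodS chainS_ok

theorem card_Syl : Nat.card Syl = 128 := by
  have h := chainS.1
  rw [show Syl = Grp 315 (gensOf levelsS) from rfl, h]
  decide +kernel

theorem sGood : ∀ y ∈ lvS0.gens, goodB 315 y = true := hgoodS lvS0 (by simp [levelsS])

theorem Syl_le : Syl ≤ G := by
  unfold Syl Grp
  rw [Subgroup.closure_le]
  rintro g ⟨y, hy, rfl⟩
  obtain ⟨k, hk, hky⟩ := List.mem_iff_getElem.mp hy
  have hw := List.all_eq_true.mp sWords_ok k (List.mem_range.mpr hk)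
  rw [List.getD_eq_getElem _ _ hk, hky] at hw
  exact mem_of_wordOK zu_good (sGood y hy) hw

theorem zTab_mem_S : zTab ∈ lvS0.gens := by
  rw [← zS_ok]
  rw [List.getD_eq_getElem _ _ (by decide +kernel)]
  exact List.getElem_mem _

theorem zP_mem_Syl : zP ∈ Syl := P_mem_Grp zTab_mem_S

theorem comm_of_commTab {a b : ℕ} (ha : goodB 315 a = true) (hb : goodB 315 b = true)
    (h : commTab a b = true) : P 315 a * P 315 b = P 315 b * P 315 a := by
  apply rep_unique (rep_mul (rep_P ha) (rep_P hb))
  apply rep_congr (rep_mul (rep_P hb) (rep_P ha))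
  intro i hi
  exact Nat.eq_of_beq_eq_true (allN_spec h i hi)

theorem zP_comm_Syl : ∀ s ∈ Syl, s * zP = zP * s := by
  intro s hs
  unfold Syl Grp at hs
  induction hs using Subgroup.closure_induction with
  | mem x hx =>
    obtain ⟨y, hy, rfl⟩ := hx
    have := List.all_eq_true.mp zComm_ok y hy
    exact (comm_of_commTab z_good (sGood y hy) this).symm
  | one => simp
  | mul x y _ _ hx hy => rw [mul_assoc, hy, ← mul_assoc, hx, mul_assoc]
  | inv x _ hx =>
    calc x⁻¹ * zP = x⁻¹ * (zP * x) * x⁻¹ := by group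
      _ = x⁻¹ * (x * zP) * x⁻¹ := by rw [hx]
      _ = zP * x⁻¹ := by group

theorem pathValid3 {L0 L1 L2 : Lvl} {p : List ℕ} (h : pathValid [L0, L1, L2] p = true) :
    ∃ a b c, p = [a, b, c] ∧ a ∈ L0.orb ∧ b ∈ L1.orb ∧ c ∈ L2.orb := by
  match p, h with
  | [a, b, c], h =>
    simp only [pathValid, Bool.and_eq_true, List.contains_iff_mem, Bool.and_true] at h
    exact ⟨a, b, c, rfl, h.1, h.2.1, h.2.2⟩
  | [], h => simp [pathValid] at h
  | [_], h => simp [pathValid] at h
  | [_, _], h => simp [pathValid] at h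
  | _ :: _ :: _ :: _ :: _, h => simp [pathValid] at h

/-- the centre of the Sylow subgroup -/
theorem Syl_center : ∀ s ∈ Syl, (∀ t ∈ Syl, t * s = s * t) → s = 1 ∨ s = zP := by
  intro s hs hc
  obtain ⟨p, hp, hrep⟩ := chainS.2.2.1 s hs
  obtain ⟨a, b, c, rfl, ha, hb, hcc⟩ := pathValid3 hp
  have hchk := List.all_eq_true.mp (List.all_eq_true.mp (List.all_eq_true.mp centChk_ok a ha) b hb) c hcc
  simp only [Bool.or_eq_true] at hchk
  rcases hchk with (h1 | h2) | h3
  · left
    exact eq_one_of_rep hrep (fun i hi => Nat.eq_of_beq_eq_true (allN_spec h1 i hi))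
  · right
    apply rep_unique hrep
    apply rep_congr (rep_P z_good)
    intro i hi
    exact Nat.eq_of_beq_eq_true (allN_spec h2 i hi)
  · exfalso
    rw [List.any_eq_true] at h3
    obtain ⟨y, hy, hne⟩ := h3
    have hcy := hc (P 315 y) (P_mem_Grp hy)
    have : commChk levelsS [a, b, c] y = true := by
      apply allN_of_forall
      intro i hi
      have e1 := rep_apply (rep_mul (rep_P (sGood y hy)) hrep) hi
      have e2 := rep_apply (rep_mul hrep (rep_P (sGood y hy))) hi
      rw [hcy] at e1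
      rw [e1] at e2
      rw [e2]
      exact Nat.beq_refl _
    rw [this] at hne
    simp at hne

end Cfsg.Agent.Helper14.J2P
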