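import Cfsg.Agent.Helper14.J2P6

/-!
# The outer automorphism group of the group of degree 315 has order two
-/

set_option autoImplicit false
set_option maxRecDepth 100000

namespace Cfsg.Agent.Helper14.J2P

open Cfsg.Agent.Helper14.PermChainN Cfsg.Agent.Helper14.J3Out

attribute [local irreducible] zTab uTab nTab tTab reflTabs

/-! ### relation words -/

/-- the word `d u^e₁ d u^e₂ ⋯` in a group -/
def relW {M : Type*} [Monoid M] (d u : M) : List ℕ → M
  | [] => 1
  | e :: w => d * u ^ e * relW d u w

theorem map_relW {M N : Type*} [Monoid M] [Monoid N] (f : M →* N) (d u : M) (w : List ℕ) :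
    f (relW d u w) = relW (f d) (f u) w := by
  induction w with
  | nil => simp [relW]
  | cons e w ih => simp [relW, ih]

theorem rep_relW {d u : ℕ} (hd : goodB 315 d = true) (hu : goodB 315 u = true) (w : List ℕ) :
    Rep (relLook d u w) (relW (P 315 d) (P 315 u) w) := by
  induction w with
  | nil => exact rep_one
  | cons e w ih =>
    show Rep _ (P 315 d * P 315 u ^ e * relW (P 315 d) (P 315 u) w)
    rw [mul_assoc]
    exact rep_congr (rep_mul (rep_P hd) (rep_mul (rep_pow hu e) ih)) (fun _ _ => rfl)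

theorem relW_pow_of_relOK {d : ℕ} (hd : goodB 315 d = true) {w : List ℕ} (h : relOK d w = true) :
    relW (P 315 d) uP w ^ 8 = 1 :=
  eq_one_of_rep (rep_iter (rep_relW hd u_good w) 8)
    (fun i hi => Nat.eq_of_beq_eq_true (allN_spec h i hi))

theorem relOK_of_relW_pow {d : ℕ} (hd : goodB 315 d = true) {w : List ℕ}
    (h : relW (P 315 d) uP w ^ 8 = 1) : relOK d w = true := by
  apply allN_of_forall
  intro i hi
  have e := rep_apply (rep_iter (rep_relW hd u_good w) 8) hi
  rw [show P 315 uTab = uP from rfl, h] at e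
  rw [← e]
  exact Nat.beq_refl _

/-! ### the elements -/

/-- the first reflection, in the group -/
noncomputable def zG : G := ⟨zP, zP_mem⟩

/-- the element of order seven, in the group -/
noncomputable def uG : G := ⟨uP, uP_mem⟩

/-- the normalising element -/
noncomputable def nP : Pm315 := P 315 nTab

theorem n_good : goodB 315 nTab = true := by
  have := misc_good
  rw [Bool.and_eq_true] at this
  exact this.1

theorem t_good : goodB 315 tTab = true := by
  have := misc_good
  rw [Bool.and_eq_true] at this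
  exact this.2

theorem nP_mem : nP ∈ G := mem_of_wordOK zu_good n_good nWord_ok

/-- the normalising element, in the group -/
noncomputable def nG : G := ⟨nP, nP_mem⟩

theorem uP_pow : uP ^ 7 = 1 :=
  eq_one_of_rep (rep_pow u_good 7) (fun i hi => Nat.eq_of_beq_eq_true (allN_spec u_pow i hi))

theorem uP_ne : uP ≠ 1 := by
  intro h
  have e := rep_apply (rep_P u_good) (i := 0) (by norm_num)
  rw [show P 315 uTab = uP from rfl, h] at e
  exact u_ne e.symm

theorem orderOf_uG : orderOf uG = 7 := by
  have : Fact (Nat.Prime 7) := ⟨by norm_num⟩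
  apply orderOf_eq_prime
  · apply Subtype.ext
    exact uP_pow
  · intro h
    exact uP_ne (congrArg Subtype.val h)

theorem nG_conj : nG * uG * nG⁻¹ = uG ^ 3 := by
  have h : nP * uP = uP ^ 3 * nP := by
    apply rep_unique (rep_mul (rep_P n_good) (rep_P u_good))
    apply rep_congr (rep_mul (rep_pow u_good 3) (rep_P n_good))
    intro i hi
    exact Nat.eq_of_beq_eq_true (allN_spec n_conj i hi)
  apply Subtype.ext
  show nP * uP * nP⁻¹ = uP ^ 3
  rw [h]
  group

theorem closure_zG_uG : Subgroup.closure ({zG, uG} : Set G) = ⊤ := by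
  have h := Subgroup.closure_closure_coe_preimage (k := {g : Pm315 | ∃ y ∈ zu, g = P 315 y})
  have e : ((↑) ⁻¹' {g : Pm315 | ∃ y ∈ zu, g = P 315 y} :
      Set (Subgroup.closure {g : Pm315 | ∃ y ∈ zu, g = P 315 y})) = ({zG, uG} : Set G) := by
    ext x
    simp only [Set.mem_preimage, Set.mem_setOf_eq, zu, List.mem_cons, List.not_mem_nil, or_false,
      exists_eq_or_imp, exists_eq_left, Set.mem_insert_iff, Set.mem_singleton_iff]
    constructor
    · rintro (h | h)
      · left; exact Subtype.ext h
      · right; exact Subtype.ext h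
    · rintro (h | h)
      · left; rw [h]; rfl
      · right; rw [h]; rfl
  rw [e] at h
  exact h

theorem card_G' : Nat.card G = 7 * 86400 := by rw [card_G]

theorem residues_7 : ∀ k, 0 < k → k < 7 → ∃ j, k % 7 = 3 ^ j % 7 := by
  intro k h0 h7
  interval_cases k
  · exact ⟨0, rfl⟩
  · exact ⟨2, rfl⟩
  · exact ⟨1, rfl⟩
  · exact ⟨4, rfl⟩
  · exact ⟨5, rfl⟩
  · exact ⟨3, rfl⟩

/-! ### the Sylow subgroup inside the group -/

theorem factorization_G : (Nat.card G).factorization 2 = 7 := by
  rw [card_G, show 604800 = 2 ^ 7 * 4725 by norm_num,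
    Nat.factorization_mul (by norm_num) (by norm_num), Finsupp.add_apply,
    Nat.Prime.factorization_pow Nat.prime_two,
    Nat.factorization_eq_zero_of_not_dvd (by norm_num : ¬ 2 ∣ 4725)]
  simp

theorem card_SylG : Nat.card (Syl.subgroupOf G) = 2 ^ (Nat.card G).factorization 2 := by
  rw [factorization_G, Nat.card_congr (Subgroup.subgroupOfEquivOfLe Syl_le).toEquiv, card_Syl]
  norm_num

/-- an automorphism maps the first reflection to a reflection -/
theorem aut_zG (φ : MulAut G) : ∃ j : Fin 315, (φ zG).1 = Dr j.1 := by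
  have : Fact (Nat.Prime 2) := ⟨Nat.prime_two⟩
  obtain ⟨g, hg⟩ := exists_conj_of_sylow_center 2 (Syl.subgroupOf G) card_SylG zG
    (by rw [Subgroup.mem_subgroupOf]; exact zP_mem_Syl)
    (by
      intro s hs
      rw [Subgroup.mem_subgroupOf] at hs
      apply Subtype.ext
      exact zP_comm_Syl s.1 hs)
    (by
      intro s hs hc
      rw [Subgroup.mem_subgroupOf] at hs
      have := Syl_center s.1 hs (by
        intro t ht
        have := hc ⟨t, Syl_le ht⟩ (by rw [Subgroup.mem_subgroupOf]; exact ht)
        exact congrArg Subtype.val this)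
      rcases this with h | h
      · left; exact Subtype.ext h
      · right; exact Subtype.ext h) φ
  refine ⟨g.1 0, ?_⟩
  rw [hg]
  show g.1 * zP * g.1⁻¹ = _
  exact conj_zP g.2

/-- the reflections, in the group -/
noncomputable def DrG (j : ℕ) : G := if h : j < 315 then ⟨Dr j, Dr_mem h⟩ else 1

/-- the possible images of the first reflection under automorphisms fixing the element of order
seven -/
noncomputable def goodSet : Finset G := good14.toFinset.image DrG

theorem card_goodSet : goodSet.card ≤ 2 * 7 := by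
  calc goodSet.card ≤ good14.toFinset.card := Finset.card_image_le
    _ ≤ good14.length := List.toFinset_card_le _
    _ = 14 := rfl

theorem relW_zG (w : List ℕ) (h : relOK zTab w = true) : relW zG uG w ^ 8 = 1 := by
  apply Subtype.ext
  have := map_relW G.subtype zG uG w
  show (relW zG uG w ^ 8 : G).1 = 1
  rw [Subgroup.coe_pow]
  show (G.subtype (relW zG uG w)) ^ 8 = 1
  rw [this]
  exact relW_pow_of_relOK z_good h

theorem stab_uG (φ : MulAut G) (hφ : φ uG = uG) : φ zG ∈ goodSet := by
  obtain ⟨j, hj⟩ := aut_zG φ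
  have hrel := rel_z
  rw [Bool.and_eq_true] at hrel
  have key : ∀ w : List ℕ, relOK zTab w = true → relOK (refl j.1) w = true := by
    intro w hw
    apply relOK_of_relW_pow (refl_good j.2)
    have h1 : φ (relW zG uG w ^ 8) = 1 := by rw [relW_zG w hw, map_one]
    have h0 : φ (relW zG uG w) = relW (φ zG) (φ uG) w := map_relW φ.toMonoidHom zG uG w
    rw [map_pow, h0, hφ] at h1
    have h2 : relW (φ zG) uG w ^ 8 = 1 := h1
    have h3 := congrArg Subtype.val h2
    rw [Subgroup.coe_pow] at h3
    have h4 := map_relW G.subtype (φ zG) uG w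
    have h5 : (relW (φ zG) uG w : G).1 = relW (Dr j.1) uP w := by
      show G.subtype (relW (φ zG) uG w) = _
      rw [h4]
      show relW (φ zG).1 uP w = _
      rw [hj]
    rw [h5] at h3
    exact h3
  have hj14 : j.1 ∈ good14 := by
    have := allN_spec relChk_ok j.1 j.2
    rw [key w1 hrel.1, key w2 hrel.2] at this
    simpa using this
  unfold goodSet
  rw [Finset.mem_image]
  refine ⟨j.1, List.mem_toFinset.mpr hj14, ?_⟩
  unfold DrG
  rw [dif_pos j.2]
  exact Subtype.ext hj.symm

theorem card_mulAut_G : Nat.card (MulAut G) ≤ 2 * Nat.card G := by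
  have : Fact (Nat.Prime 7) := ⟨by norm_num⟩
  exact card_mulAut_le_one 7 86400 card_G' (by norm_num) zG uG nG closure_zG_uG orderOf_uG 3
    nG_conj residues_7 goodSet card_goodSet stab_uG

theorem center_G : Subgroup.center G = ⊥ := by
  rw [eq_bot_iff]
  intro x hx
  rw [Subgroup.mem_center_iff] at hx
  rw [Subgroup.mem_bot]
  apply Subtype.ext
  apply eq_one_of_commute
  intro g hg
  have := hx ⟨g, hg⟩
  exact (congrArg Subtype.val this).symm

/-! ### the outer automorphism -/

/-- the outer permutation -/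
noncomputable def tP : Pm315 := P 315 tTab

theorem tP_sq : tP * tP = 1 :=
  eq_one_of_rep (rep_mul (rep_P t_good) (rep_P t_good))
    (fun i hi => Nat.eq_of_beq_eq_true (allN_spec t_sq i hi))

theorem tP_inv : tP⁻¹ = tP := inv_eq_of_mul_eq_one_left tP_sq

theorem tP_zP : tP * zP * tP⁻¹ = Dr 92 := by
  have h : tP * zP = Dr 92 * tP := by
    apply rep_unique (rep_mul (rep_P t_good) (rep_P z_good))
    apply rep_congr (rep_mul (rep_P (refl_good (by norm_num : 92 < 315))) (rep_P t_good))
    intro i hi
    exact Nat.eq_of_beq_eq_true (allN_spec t_z i hi)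
  rw [h]
  group

theorem tP_uP : tP * uP * tP⁻¹ = uP := by
  have h := comm_of_commTab t_good u_good t_u
  show P 315 tTab * P 315 uTab * (P 315 tTab)⁻¹ = P 315 uTab
  rw [h]
  group

theorem tP_conj_mem {g : Pm315} (hg : g ∈ G) : tP * g * tP⁻¹ ∈ G := by
  unfold G Grp at hg
  induction hg using Subgroup.closure_induction with
  | mem x hx =>
    obtain ⟨y, hy, rfl⟩ := hx
    simp only [zu, List.mem_cons, List.not_mem_nil, or_false] at hy
    rcases hy with rfl | rfl
    · rw [show P 315 zTab = zP from rfl, tP_zP]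
      exact Dr_mem (by norm_num)
    · rw [show P 315 uTab = uP from rfl, tP_uP]
      exact uP_mem
  | one => simp [G.one_mem]
  | mul x y _ _ hx hy =>
    have : tP * (x * y) * tP⁻¹ = (tP * x * tP⁻¹) * (tP * y * tP⁻¹) := by group
    rw [this]
    exact G.mul_mem hx hy
  | inv x _ hx =>
    have : tP * x⁻¹ * tP⁻¹ = (tP * x * tP⁻¹)⁻¹ := by group
    rw [this]
    exact G.inv_mem hx

/-- conjugation by the outer permutation -/
noncomputable def tauG : MulAut G where
  toFun g := ⟨tP * g.1 * tP⁻¹, tP_conj_mem g.2⟩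
  invFun g := ⟨tP * g.1 * tP⁻¹, tP_conj_mem g.2⟩
  left_inv g := by
    apply Subtype.ext
    show tP * (tP * g.1 * tP⁻¹) * tP⁻¹ = g.1
    rw [tP_inv]
    calc tP * (tP * g.1 * tP) * tP = (tP * tP) * g.1 * (tP * tP) := by group
      _ = g.1 := by rw [tP_sq]; simp
  right_inv g := by
    apply Subtype.ext
    show tP * (tP * g.1 * tP⁻¹) * tP⁻¹ = g.1
    rw [tP_inv]
    calc tP * (tP * g.1 * tP) * tP = (tP * tP) * g.1 * (tP * tP) := by group
      _ = g.1 := by rw [tP_sq]; simp
  map_mul' g h := by
    apply Subtype.ext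
    show tP * (g.1 * h.1) * tP⁻¹ = (tP * g.1 * tP⁻¹) * (tP * h.1 * tP⁻¹)
    group

theorem tP_fixBase : FixBase levelsP tP := by
  intro L hL h
  have := List.all_eq_true.mp t_base L hL
  apply Fin.ext
  show (P 315 tTab ⟨L.b, h⟩).1 = L.b
  rw [rep_P t_good]
  exact Nat.eq_of_beq_eq_true this

theorem tP_not_mem : tP ∉ G := by
  intro h
  have h1 := eq_one_of_fixBase h tP_fixBase
  have e := rep_apply (rep_P t_good) (i := 0) (by norm_num)
  rw [show P 315 tTab = tP from rfl, h1, t_zero] at e
  norm_num at e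

theorem tauG_not_inner : tauG ∉ Cfsg.Inn G := by
  rintro ⟨g₀, hg₀⟩
  apply tP_not_mem
  have hc : ∀ g ∈ G, (g₀.1⁻¹ * tP) * g = g * (g₀.1⁻¹ * tP) := by
    intro g hg
    have h1 : (MulAut.conj g₀) ⟨g, hg⟩ = tauG ⟨g, hg⟩ := by rw [hg₀]
    have h2 : g₀.1 * g * g₀.1⁻¹ = tP * g * tP⁻¹ := congrArg Subtype.val h1
    calc g₀.1⁻¹ * tP * g = g₀.1⁻¹ * (tP * g * tP⁻¹) * tP := by group
      _ = g₀.1⁻¹ * (g₀.1 * g * g₀.1⁻¹) * tP := by rw [h2]
      _ = g * (g₀.1⁻¹ * tP) := by group
  have h3 := eq_one_of_commute hc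
  have h4 : tP = g₀.1 := by
    calc tP = g₀.1 * (g₀.1⁻¹ * tP) := by group
      _ = g₀.1 := by rw [h3, mul_one]
  rw [h4]
  exact g₀.2

/-- the outer automorphism group of the group of degree 315 has order two -/
theorem card_out_G : Nat.card (Cfsg.Out G) = 2 :=
  card_out_eq_two center_G card_mulAut_G tauG tauG_not_inner

end Cfsg.Agent.Helper14.J2P
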