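import Cfsg.Agent.Helper14.J2P0

/-!
# Data and checks for the element orders of the group of degree 315
-/

set_option autoImplicit false

namespace Cfsg.Agent.Helper14.J2P

open Cfsg.Agent.Helper14.PermChainN

/-- representatives of the orbits of the stabiliser of the point 42 -/
def subReps : List ℕ := [42, 0, 3, 5, 11, 39]

/-- a spanning forest of the orbits of the stabiliser of the point 42: a point, an earlier point, the
index of a generator mapping the earlier point to the point -/
def subForest : List (ℕ × ℕ × ℕ) := [(98, 0, 0), (118, 0, 1), (108, 0, 2), (112, 0, 3), (283, 0, 5), (21, 98, 0), (50, 98, 1), (239, 98, 2), (136, 98, 3), (8, 98, 4), (205, 98, 5), (31, 118, 0), (309, 118, 1), (34, 118, 2), (258, 118, 3), (47, 118, 4), (259, 118, 5), (104, 108, 5), (262, 112, 2), (183, 112, 3), (289, 112, 4), (266, 112, 5), (184, 283, 0), (12, 283, 1), (192, 283, 3), (66, 283, 5), (25, 21, 1), (74, 21, 2), (38, 21, 5), (54, 50, 0), (19, 50, 1), (273, 50, 2), (92, 50, 3), (275, 50, 5), (87, 239,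 3), (168, 239, 4), (114, 239, 5), (285, 136, 5), (35, 205, 0), (131, 205, 1), (264, 205, 3), (244, 205, 4), (51, 31, 0), (55, 31, 1), (227, 31, 2), (1, 31, 4), (280, 31, 5), (162, 309, 2), (32, 34, 5), (181, 258, 2), (43, 258, 3), (187, 258, 5), (86, 47, 5), (4, 259, 1), (143, 259, 5), (154, 104, 0), (198, 104, 1), (29, 104, 4), (242, 104, 5), (201, 262, 0), (46, 183, 4), (75, 183, 5), (107, 184, 0), (246, 184, 5), (91, 12, 5), (84, 66, 1), (2, 66, 4), (228, 25, 0), (68, 74, 1), (65, 114, 3), (166, 264, 5), (56, 86, 5), (69, 4, 5), (64, 143, 0), (128, 154, 5), (106, 198, 5), (282, 29, 5), (10, 107, 5), (278, 91, 1), (243, 3, 0), (146, 3, 1), (226, 3, 2), (263, 3, 4), (179, 3, 5), (149, 243, 0), (152, 243, 2), (27, 243, 4), (52, 146, 0), (186, 146, 1), (26, 146, 2), (245, 146, 3), (222, 146, 4), (252, 226, 3), (6, 226, 4), (117, 263, 2), (126, 179, 0), (72, 179, 1), (90, 179, 4), (272, 149, 4), (253, 152, 1), (248, 152, 4), (212, 27, 2), (147, 27, 3), (122, 52, 1), (102, 52, 4), (165, 186, 4),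 (60, 245, 4), (67, 222, 3), (257, 126, 4), (88, 72, 4), (121, 5, 0), (216, 5, 1), (41, 5, 2), (116, 5, 3), (305, 5, 4), (300, 5, 5), (45, 121, 0), (95, 121, 1), (142, 121, 2), (268, 121, 4), (208, 121, 5), (233, 216, 0), (167, 216, 1), (269, 216, 2), (237, 216, 3), (297, 216, 4), (270, 216, 5), (151, 41, 0), (302, 41, 1), (63, 41, 3), (13, 41, 4), (287, 41, 5), (62, 116, 0), (308, 116, 1), (141, 116, 2), (194, 116, 3), (236, 116, 4), (267, 116, 5), (214, 305, 2), (48, 305, 3), (197, 300, 0), (256, 300, 1), (133, 300, 3), (175, 300, 4), (202, 300, 5), (71, 45, 1), (70, 45, 2), (123, 45, 4), (255, 95, 0), (286, 95, 2), (113, 95, 3), (225, 95, 4), (58, 95, 5), (176, 142, 0), (157, 142, 1), (144, 142, 3), (240, 142, 4), (105, 142, 5), (274, 268, 2), (120, 268, 3), (190, 268, 5), (292, 208, 0), (215, 208, 1), (224, 208, 3), (140, 208, 4), (24, 208, 5), (127, 233, 0), (139, 233, 1), (279, 233, 2), (110, 233, 4), (125, 233, 5), (210, 167, 1), (314, 167, 2), (40, 167, 4), (101, 167, 5), (294, 269, 3),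 (85, 269, 4), (188, 237, 1), (171, 237, 2), (9, 237, 3), (130, 237, 4), (28, 237, 5), (180, 297, 2), (100, 297, 3), (115, 270, 0), (281, 270, 4), (311, 270, 5), (132, 151, 0), (265, 151, 1), (129, 151, 3), (241, 302, 0), (254, 302, 3), (230, 63, 3), (160, 63, 5), (307, 287, 0), (250, 287, 1), (219, 287, 4), (33, 62, 1), (124, 62, 3), (111, 62, 4), (295, 62, 5), (249, 308, 4), (119, 308, 5), (217, 141, 5), (7, 194, 4), (59, 236, 2), (94, 236, 3), (313, 236, 5), (103, 267, 1), (150, 267, 4), (137, 267, 5), (199, 214, 0), (178, 48, 3), (299, 48, 5), (288, 197, 1), (79, 197, 2), (260, 197, 3), (155, 197, 4), (77, 256, 0), (301, 256, 2), (312, 256, 3), (163, 133, 0), (251, 133, 2), (304, 133, 4), (57, 202, 4), (223, 202, 5), (161, 71, 0), (232, 71, 4), (82, 70, 0), (148, 70, 1), (36, 70, 4), (15, 255, 0), (221, 255, 4), (156, 286, 4), (209, 58, 0), (30, 58, 5), (76, 176, 1), (49, 105, 0), (17, 105, 5), (20, 292, 5), (206, 215, 5), (261, 224, 5), (145, 140, 2), (18, 24, 0), (44, 24, 1), (89, 24, 4),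 (193, 127, 4), (109, 139, 4), (177, 125, 3), (238, 125, 5), (247, 210, 4), (158, 101, 0), (83, 294, 3), (37, 294, 5), (97, 130, 5), (306, 28, 1), (218, 100, 3), (207, 100, 5), (16, 115, 0), (271, 311, 5), (173, 160, 0), (80, 307, 4), (293, 250, 4), (196, 33, 5), (191, 295, 4), (235, 249, 5), (189, 217, 1), (153, 103, 4), (134, 30, 0), (290, 11, 0), (211, 11, 1), (284, 11, 2), (172, 11, 3), (96, 11, 4), (298, 290, 0), (23, 290, 1), (61, 290, 4), (296, 290, 5), (135, 211, 1), (195, 211, 2), (73, 211, 4), (164, 284, 0), (78, 284, 1), (14, 284, 4), (276, 284, 5), (220, 172, 1), (81, 172, 2), (303, 172, 4), (204, 96, 2), (277, 96, 3), (174, 298, 4), (53, 298, 5), (99, 23, 0), (182, 23, 4), (200, 61, 2), (22, 296, 4), (291, 135, 4), (170, 195, 4), (169, 220, 4), (231, 81, 4), (93, 39, 0), (310, 39, 1), (159, 39, 5), (203, 93, 0), (234, 93, 4), (213, 310, 5), (185, 159, 3), (138, 159, 5), (229, 213, 5)]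

/-- the check of the spanning forest -/
def forestOK (Y : List ℕ) : List (ℕ × ℕ × ℕ) → List ℕ → Bool
  | [], done => allN 315 fun c => done.contains c
  | (c, c', j) :: rest, done =>
      done.contains c' && decide (j < Y.length) && Nat.beq (look (Y.getD j 0) c') c &&
        forestOK Y rest (c :: done)

/-- the length of the cycle of the point `b`, found within the given number of steps, or zero -/
def cyc (f : ℕ → ℕ) (b : ℕ) : ℕ → ℕ → ℕ → ℕ
  | 0, _, _ => 0
  | fuel + 1, x, k => if Nat.beq (f x) b = true then k + 1 else cyc f b fuel (f x) (k + 1)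

/-- the length of the cycle of a point, at most fifteen, or zero -/
def cycLen (f : ℕ → ℕ) (b : ℕ) : ℕ := cyc f b 15 b 0

/-- the allowed element orders -/
def allowed : List ℕ := [1, 2, 3, 4, 5, 6, 7, 8, 10, 12, 15]

/-- the check of the order of a path product -/
def ordOK (p : List ℕ) : Bool :=
  allowed.contains (Nat.lcm (Nat.lcm (cycLen (pathLook levelsP p) 42) (cycLen (pathLook levelsP p) 229))
    (Nat.lcm (cycLen (pathLook levelsP p) 213) (cycLen (pathLook levelsP p) 260)))

/-- the check of the orders of all path products starting at the representative `r` -/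
def ordChk (r : ℕ) : Bool :=
  lvP1.orb.all fun b => lvP2.orb.all fun c => lvP3.orb.all fun d => ordOK [r, b, c, d]

/-- the lower levels fix the first base point, and the first level maps it to the point -/
def baseChk : Bool :=
  (lvP0.orb.all fun a => Nat.beq (look (tbl lvP0 a) 42) a) &&
    (lvP1.orb.all fun a => Nat.beq (look (tbl lvP1 a) 42) 42) &&
    (lvP2.orb.all fun a => Nat.beq (look (tbl lvP2 a) 42) 42) &&
    (lvP3.orb.all fun a => Nat.beq (look (tbl lvP3 a) 42) 42)

end Cfsg.Agent.Helper14.J2P
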