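import Cfsg.Agent.Helper14.J2S0

/-!
# Checks for the element orders of the group of degree 315
-/

set_option autoImplicit false

namespace Cfsg.Agent.Helper14.J2P

open Cfsg.Agent.Helper14.PermChainN

set_option maxRecDepth 1000000 in
set_option maxHeartbeats 4000000 in
theorem forest_ok : forestOK lvP1.gens subForest subReps = true := by decide +kernel

set_option maxRecDepth 1000000 in
set_option maxHeartbeats 4000000 in
theorem baseChk_ok : baseChk = true := by decide +kernel

set_option maxRecDepth 1000000 in
set_option maxHeartbeats 4000000 in
theorem ordChk0 : ordChk 42 = true := by decide +kernel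

set_option maxRecDepth 1000000 in
set_option maxHeartbeats 4000000 in
theorem ordChk1 : ordChk 0 = true := by decide +kernel

set_option maxRecDepth 1000000 in
set_option maxHeartbeats 4000000 in
theorem ordChk2 : ordChk 3 = true := by decide +kernel

set_option maxRecDepth 1000000 in
set_option maxHeartbeats 4000000 in
theorem ordChk3 : ordChk 5 = true := by decide +kernel

set_option maxRecDepth 1000000 in
set_option maxHeartbeats 4000000 in
theorem ordChk4 : ordChk 11 = true := by decide +kernel

set_option maxRecDepth 1000000 in
set_option maxHeartbeats 4000000 in
theorem ordChk5 : ordChk 39 = true := by decide +kernel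

end Cfsg.Agent.Helper14.J2P
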