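import Cfsg.Agent.Helper14.J2S1
import Cfsg.Agent.Helper14.J2P7

/-!
# The element orders of the group of degree 315
-/

set_option autoImplicit false
set_option maxRecDepth 100000

namespace Cfsg.Agent.Helper14.J2P

open Cfsg.Agent.Helper14.PermChainN

attribute [local irreducible] zTab uTab nTab tTab reflTabs

/-! ### further checks -/

set_option maxRecDepth 1000000 in
set_option maxHeartbeats 4000000 in
theorem basesP : levelsP.all (fun L => [42, 229, 213, 260].contains L.b) = true := by decide +kernel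

/-- the check of the order of a word in the two generators -/
def wordOrdChk (w : List ℕ) (n : ℕ) (qs : List ℕ) : Bool :=
  (w.all fun a => decide (a < zu.length)) &&
    (allN 315 fun i => Nat.beq (iterF (wordLook zu w) n i) i) &&
      qs.all fun q => !(Nat.beq (iterF (wordLook zu w) q 0) 0)

set_option maxRecDepth 1000000 in
set_option maxHeartbeats 4000000 in
theorem wordOrd15 : wordOrdChk [1, 0] 15 [5, 3] = true := by decide +kernel

set_option maxRecDepth 1000000 in
set_option maxHeartbeats 4000000 in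
theorem wordOrd10 : wordOrdChk [1, 1, 0] 10 [5, 2] = true := by decide +kernel

set_option maxRecDepth 1000000 in
set_option maxHeartbeats 4000000 in
theorem wordOrd12 : wordOrdChk [1, 1, 1, 0, 1, 0, 1, 0] 12 [6, 4] = true := by decide +kernel

set_option maxRecDepth 1000000 in
set_option maxHeartbeats 4000000 in
theorem wordOrd8 : wordOrdChk [1, 1, 1, 1, 0, 1, 0, 1, 0] 8 [4] = true := by decide +kernel

set_option maxRecDepth 1000000 in
set_option maxHeartbeats 4000000 in
theorem wordOrd7 : wordOrdChk [1] 7 [1] = true := by decide +kernel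

/-! ### the suborbits -/

theorem forest_sound (Y : List ℕ) (hY : ∀ y ∈ Y, goodB 315 y = true) :
    ∀ (fr : List (ℕ × ℕ × ℕ)) (done : List ℕ),
      (∀ c ∈ done, ∃ h ∈ Grp 315 Y, ∃ x : Fin 315, x.1 ∈ subReps ∧ (h x).1 = c) →
      forestOK Y fr done = true →
      ∀ c < 315, ∃ h ∈ Grp 315 Y, ∃ x : Fin 315, x.1 ∈ subReps ∧ (h x).1 = c := by
  intro fr
  induction fr with
  | nil =>
    intro done hdone h c hc
    have h1 := allN_spec h c hc
    exact hdone c (by simpa using h1)
  | cons e rest ih =>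
    obtain ⟨c, c', j⟩ := e
    intro done hdone h
    simp only [forestOK, Bool.and_eq_true, decide_eq_true_eq] at h
    obtain ⟨⟨⟨h1, h2⟩, h3⟩, h4⟩ := h
    apply ih (c :: done) _ h4
    intro δ hδ
    rcases List.mem_cons.mp hδ with rfl | hδ
    · obtain ⟨g', hg', x, hx, hxc⟩ := hdone c' (by simpa using h1)
      have hy : Y.getD j 0 ∈ Y := by
        rw [List.getD_eq_getElem _ _ h2]
        exact List.getElem_mem h2
      refine ⟨P 315 (Y.getD j 0) * g', Subgroup.mul_mem _ (P_mem_Grp hy) hg', x, hx, ?_⟩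
      show (P 315 (Y.getD j 0) (g' x)).1 = _
      rw [rep_P (hY _ hy), hxc]
      exact Nat.eq_of_beq_eq_true h3
    · exact hdone δ hδ

theorem lvP1_good : ∀ y ∈ lvP1.gens, goodB 315 y = true := hgoodP lvP1 (by simp [levelsP])

theorem exists_subRep (c : Fin 315) :
    ∃ h ∈ Grp 315 lvP1.gens, ∃ x : Fin 315, x.1 ∈ subReps ∧ h x = c := by
  obtain ⟨h, hh, x, hx, hxc⟩ := forest_sound lvP1.gens lvP1_good subForest subReps (by
    intro c hc
    have hc' : c < 315 := by
      simp only [subReps, List.mem_cons, List.not_mem_nil, or_false] at hc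
      omega
    exact ⟨1, Subgroup.one_mem _, ⟨c, hc'⟩, hc, rfl⟩) forest_ok c.1 c.2
  exact ⟨h, hh, x, hx, Fin.ext hxc⟩

/-! ### cycle lengths -/

theorem iterF_add (f : ℕ → ℕ) (a c i : ℕ) : iterF f (a + c) i = iterF f a (iterF f c i) := by
  induction a with
  | zero => rw [Nat.zero_add]; rfl
  | succ a ih =>
    rw [Nat.succ_add]
    show f (iterF f (a + c) i) = f (iterF f a (iterF f c i))
    rw [ih]

theorem iterF_mul {f : ℕ → ℕ} {m b : ℕ} (h : iterF f m b = b) (k : ℕ) : iterF f (m * k) b = b := by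
  induction k with
  | zero => rfl
  | succ k ih => rw [Nat.mul_succ, iterF_add, h, ih]

theorem cyc_sound (f : ℕ → ℕ) (b : ℕ) : ∀ (fuel x k : ℕ), x = iterF f k b →
    cyc f b fuel x k ≠ 0 → iterF f (cyc f b fuel x k) b = b := by
  intro fuel
  induction fuel with
  | zero =>
    intro x k _ h
    exact absurd rfl h
  | succ fuel ih =>
    intro x k hx h
    rw [cyc] at h ⊢
    split_ifs at h ⊢ with hb
    · show f (iterF f k b) = b
      rw [← hx]
      exact Nat.eq_of_beq_eq_true hb
    · exact ih (f x) (k + 1) (by rw [hx]; rfl) h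

theorem cycLen_sound (f : ℕ → ℕ) (b : ℕ) (h : cycLen f b ≠ 0) : iterF f (cycLen f b) b = b :=
  cyc_sound f b 15 b 0 rfl h

theorem iterF_of_dvd {f : ℕ → ℕ} {b L : ℕ} (hL : L ≠ 0) (hd : cycLen f b ∣ L) : iterF f L b = b := by
  obtain ⟨k, rfl⟩ := hd
  have h0 : cycLen f b ≠ 0 := by
    intro h0
    rw [h0, Nat.zero_mul] at hL
    exact hL rfl
  exact iterF_mul (cycLen_sound f b h0) k

theorem allowed_dvd : ∀ L ∈ allowed, ∀ d < 16, d ∣ L → d ∈ allowed := by decide

theorem allowed_le : ∀ L ∈ allowed, 0 < L ∧ L < 16 := by decide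

/-- the order of an element whose path passes the check is allowed -/
theorem orderOf_of_ordOK {p : List ℕ} {g : Pm315} (hg : g ∈ G) (hrep : Rep (pathLook levelsP p) g)
    (h : ordOK p = true) : orderOf g ∈ allowed := by
  unfold ordOK at h
  rw [List.contains_iff_mem] at h
  generalize hL : Nat.lcm (Nat.lcm (cycLen (pathLook levelsP p) 42) (cycLen (pathLook levelsP p) 229))
    (Nat.lcm (cycLen (pathLook levelsP p) 213) (cycLen (pathLook levelsP p) 260)) = L at h
  obtain ⟨hpos, hlt⟩ := allowed_le L h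
  have hL0 : L ≠ 0 := by omega
  have d1 : cycLen (pathLook levelsP p) 42 ∣ L := by
    rw [← hL]; exact (Nat.dvd_lcm_left _ _).trans (Nat.dvd_lcm_left _ _)
  have d2 : cycLen (pathLook levelsP p) 229 ∣ L := by
    rw [← hL]; exact (Nat.dvd_lcm_right _ _).trans (Nat.dvd_lcm_left _ _)
  have d3 : cycLen (pathLook levelsP p) 213 ∣ L := by
    rw [← hL]; exact (Nat.dvd_lcm_left _ _).trans (Nat.dvd_lcm_right _ _)
  have d4 : cycLen (pathLook levelsP p) 260 ∣ L := by
    rw [← hL]; exact (Nat.dvd_lcm_right _ _).trans (Nat.dvd_lcm_right _ _)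
  have hfix : FixBase levelsP (g ^ L) := by
    intro L' hL' hb
    have hb' := List.all_eq_true.mp basesP L' hL'
    rw [List.contains_iff_mem] at hb'
    apply Fin.ext
    rw [rep_iter hrep L]
    show iterF (pathLook levelsP p) L L'.b = L'.b
    simp only [List.mem_cons, List.not_mem_nil, or_false] at hb'
    rcases hb' with e | e | e | e <;> rw [e]
    · exact iterF_of_dvd hL0 d1
    · exact iterF_of_dvd hL0 d2
    · exact iterF_of_dvd hL0 d3
    · exact iterF_of_dvd hL0 d4
  have h1 : g ^ L = 1 := eq_one_of_fixBase (G.pow_mem hg L) hfix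
  have hdvd : orderOf g ∣ L := orderOf_dvd_of_pow_eq_one h1
  have hle : orderOf g ≤ L := Nat.le_of_dvd hpos hdvd
  exact allowed_dvd L h (orderOf g) (by omega) hdvd

theorem pathValid4 {L0 L1 L2 L3 : Lvl} {p : List ℕ} (h : pathValid [L0, L1, L2, L3] p = true) :
    ∃ a b c d, p = [a, b, c, d] ∧ a ∈ L0.orb ∧ b ∈ L1.orb ∧ c ∈ L2.orb ∧ d ∈ L3.orb := by
  match p, h with
  | [a, b, c, d], h =>
    simp only [pathValid, Bool.and_eq_true, List.contains_iff_mem, Bool.and_true] at h
    exact ⟨a, b, c, d, rfl, h.1, h.2.1, h.2.2.1, h.2.2.2⟩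
  | [], h => simp [pathValid] at h
  | [_], h => simp [pathValid] at h
  | [_, _], h => simp [pathValid] at h
  | [_, _, _], h => simp [pathValid] at h
  | _ :: _ :: _ :: _ :: _ :: _, h => simp [pathValid] at h

theorem ordChk_all : ∀ r ∈ subReps, ordChk r = true := by
  intro r hr
  simp only [subReps, List.mem_cons, List.not_mem_nil, or_false] at hr
  rcases hr with rfl | rfl | rfl | rfl | rfl | rfl
  · exact ordChk0
  · exact ordChk1
  · exact ordChk2
  · exact ordChk3
  · exact ordChk4
  · exact ordChk5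

/-- the orders of the elements of the group of degree 315 -/
theorem orderOf_mem_allowed {g : Pm315} (hg : g ∈ G) : orderOf g ∈ allowed := by
  obtain ⟨h, hh, x, hx, hxc⟩ := exists_subRep (g ⟨42, by norm_num⟩)
  have hhG : h ∈ G := lvP1_le.1 hh
  have hfix : h ⟨42, by norm_num⟩ = ⟨42, by norm_num⟩ :=
    Grp_fix lvP1_good (by norm_num) lvP1_le.2 h hh
  have hg' : h⁻¹ * g * h ∈ G := G.mul_mem (G.mul_mem (G.inv_mem hhG) hg) hhG
  have hord : orderOf (h⁻¹ * g * h) = orderOf g := by
    have := MulEquiv.orderOf_eq (MulAut.conj h⁻¹) g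
    rw [MulAut.conj_apply, inv_inv] at this
    exact this
  have h42 : (h⁻¹ * g * h) ⟨42, by norm_num⟩ = x := by
    show h⁻¹ (g (h ⟨42, by norm_num⟩)) = x
    rw [hfix, ← hxc]
    simp
  have hmem : h⁻¹ * g * h ∈ Grp 315 (gensOf levelsP) := by
    rw [gensP_eq]
    exact hg'
  obtain ⟨p, hp, hrep⟩ := chainP.2.2.1 _ hmem
  obtain ⟨a, b, c, d, rfl, ha, hb, hc, hd⟩ := pathValid4 hp
  have hbase := baseChk_ok
  simp only [baseChk, Bool.and_eq_true] at hbase
  obtain ⟨⟨⟨b0, b1⟩, b2⟩, b3⟩ := hbase
  have ha' : a = x.1 := by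
    have e := rep_apply hrep (i := 42) (by norm_num)
    rw [h42] at e
    have e2 : pathLook levelsP [a, b, c, d] 42 = a := by
      show look (tbl lvP0 a) (look (tbl lvP1 b) (look (tbl lvP2 c) (look (tbl lvP3 d) 42))) = a
      rw [Nat.eq_of_beq_eq_true (List.all_eq_true.mp b3 d hd),
        Nat.eq_of_beq_eq_true (List.all_eq_true.mp b2 c hc),
        Nat.eq_of_beq_eq_true (List.all_eq_true.mp b1 b hb),
        Nat.eq_of_beq_eq_true (List.all_eq_true.mp b0 a ha)]
    rw [e2] at e
    exact e.symm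
  rw [← hord]
  apply orderOf_of_ordOK hg' hrep
  have hchk := ordChk_all a (by rw [ha']; exact hx)
  exact List.all_eq_true.mp (List.all_eq_true.mp (List.all_eq_true.mp hchk b hb) c hc) d hd

/-! ### elements of the allowed orders -/

theorem exists_of_wordOrdChk {w : List ℕ} {n : ℕ} {qs : List ℕ} (hn : 0 < n)
    (harith : ∀ p : ℕ, p.Prime → p ∣ n → n / p ∈ qs) (h : wordOrdChk w n qs = true) :
    ∃ g ∈ G, orderOf g = n := by
  unfold wordOrdChk at h
  simp only [Bool.and_eq_true] at h
  obtain ⟨⟨hw, hpow⟩, hne⟩ := h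
  obtain ⟨g, hg, hrep⟩ := word_sound zu zu_good w hw
  refine ⟨g, hg, orderOf_eq_of_pow_and_pow_div_prime hn ?_ ?_⟩
  · exact eq_one_of_rep (rep_iter hrep n) (fun i hi => Nat.eq_of_beq_eq_true (allN_spec hpow i hi))
  · intro p hp hpn h1
    have e := rep_apply (rep_iter hrep (n / p)) (i := 0) (by norm_num)
    rw [h1] at e
    have hq := List.all_eq_true.mp hne (n / p) (harith p hp hpn)
    have e' : iterF (wordLook zu w) (n / p) 0 = 0 := e.symm
    rw [e'] at hq
    exact absurd hq (by decide)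

theorem exists_of_dvd {n d : ℕ} (h : ∃ g ∈ G, orderOf g = n) (hn : n ≠ 0) (hd : d ∣ n) :
    ∃ g ∈ G, orderOf g = d := by
  obtain ⟨g, hg, ho⟩ := h
  have hd0 : d ≠ 0 := by
    rintro rfl
    exact hn (Nat.eq_zero_of_zero_dvd hd)
  have hq : n / d ≠ 0 := by
    obtain ⟨k, rfl⟩ := hd
    rw [Nat.mul_div_cancel_left k (Nat.pos_of_ne_zero hd0)]
    rintro rfl
    exact hn (Nat.mul_zero d)
  refine ⟨g ^ (n / d), G.pow_mem hg _, ?_⟩
  rw [orderOf_pow_of_dvd hq (by rw [ho]; exact Nat.div_dvd_of_dvd hd), ho]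
  exact Nat.div_div_self hd hn

theorem exists_order15 : ∃ g ∈ G, orderOf g = 15 := by
  apply exists_of_wordOrdChk (by norm_num) _ wordOrd15
  intro p hp hpn
  have : p ≤ 15 := Nat.le_of_dvd (by norm_num) hpn
  interval_cases p <;> first | (exfalso; revert hp; decide) | (exfalso; revert hpn; decide) | decide

theorem exists_order10 : ∃ g ∈ G, orderOf g = 10 := by
  apply exists_of_wordOrdChk (by norm_num) _ wordOrd10
  intro p hp hpn
  have : p ≤ 10 := Nat.le_of_dvd (by norm_num) hpn
  interval_cases p <;> first | (exfalso; revert hp; decide) | (exfalso; revert hpn; decide) | decide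

theorem exists_order12 : ∃ g ∈ G, orderOf g = 12 := by
  apply exists_of_wordOrdChk (by norm_num) _ wordOrd12
  intro p hp hpn
  have : p ≤ 12 := Nat.le_of_dvd (by norm_num) hpn
  interval_cases p <;> first | (exfalso; revert hp; decide) | (exfalso; revert hpn; decide) | decide

theorem exists_order8 : ∃ g ∈ G, orderOf g = 8 := by
  apply exists_of_wordOrdChk (by norm_num) _ wordOrd8
  intro p hp hpn
  have : p ≤ 8 := Nat.le_of_dvd (by norm_num) hpn
  interval_cases p <;> first | (exfalso; revert hp; decide) | (exfalso; revert hpn; decide) | decide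

theorem exists_order7 : ∃ g ∈ G, orderOf g = 7 := by
  apply exists_of_wordOrdChk (by norm_num) _ wordOrd7
  intro p hp hpn
  have : p ≤ 7 := Nat.le_of_dvd (by norm_num) hpn
  interval_cases p <;> first | (exfalso; revert hp; decide) | (exfalso; revert hpn; decide) | decide

theorem allowed_cases : ∀ m ∈ allowed, m ∣ 15 ∨ m ∣ 10 ∨ m ∣ 12 ∨ m ∣ 8 ∨ m ∣ 7 := by decide

/-- the set of the orders of the elements of the group of degree 315 -/
theorem range_orderOf_G : Set.range (orderOf : G → ℕ) = {m | m ∈ allowed} := by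
  ext m
  constructor
  · rintro ⟨g, rfl⟩
    rw [← Subgroup.orderOf_coe]
    exact orderOf_mem_allowed g.2
  · intro hm
    have key : ∃ g ∈ G, orderOf g = m := by
      rcases allowed_cases m hm with h | h | h | h | h
      · exact exists_of_dvd exists_order15 (by norm_num) h
      · exact exists_of_dvd exists_order10 (by norm_num) h
      · exact exists_of_dvd exists_order12 (by norm_num) h
      · exact exists_of_dvd exists_order8 (by norm_num) h
      · exact exists_of_dvd exists_order7 (by norm_num) h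
    obtain ⟨g, hg, ho⟩ := key
    exact ⟨⟨g, hg⟩, by rw [← ho, ← Subgroup.orderOf_coe]⟩

end Cfsg.Agent.Helper14.J2P
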