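import Cfsg.Agent.Helper14.J2J4
import Cfsg.Agent.Helper14.J2S2

/-!
# The element orders of the Hall–Janko group
-/

set_option autoImplicit false

namespace Cfsg.Agent.Helper14.J2P

/-- the set of the orders of the elements of the Hall–Janko group -/
theorem range_orderOf_J2 : Set.range (orderOf : Cfsg.Spor.J2 → ℕ) = {m | m ∈ allowed} := by
  rw [← range_orderOf_G]
  ext m
  constructor
  · rintro ⟨x, rfl⟩
    exact ⟨Cfsg.Agent.Helper14.J2.j2Equiv x,
      MulEquiv.orderOf_eq Cfsg.Agent.Helper14.J2.j2Equiv x⟩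
  · rintro ⟨y, rfl⟩
    refine ⟨Cfsg.Agent.Helper14.J2.j2Equiv.symm y, ?_⟩
    exact MulEquiv.orderOf_eq Cfsg.Agent.Helper14.J2.j2Equiv.symm y

end Cfsg.Agent.Helper14.J2P
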