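import Cfsg.Agent.Helper14.PermChainN

/-!
# Stabilisers in verified stabiliser chains
-/

set_option autoImplicit false
set_option linter.unusedSectionVars false

namespace Cfsg.Agent.Helper14.PermChainX

open Cfsg.Agent.Helper14.PermChainN

variable {n : ℕ} [NeZero n]

/-- an element of the group of a level which fixes the base point belongs to the group of the next
level -/
theorem mem_next_of_fix {L : Lvl} {ls : List Lvl}
    (hgood : ∀ L' ∈ L :: ls, ∀ y ∈ L'.gens, goodB n y = true)
    (h : chainOK n (L :: ls) = true) {g : Pm n} (hg : g ∈ Grp n L.gens)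
    (hfix : ∀ hb : L.b < n, g ⟨L.b, hb⟩ = ⟨L.b, hb⟩) : g ∈ Grp n (gensOf ls) := by
  have hgood' : ∀ L' ∈ ls, ∀ y ∈ L'.gens, goodB n y = true :=
    fun L' hL' => hgood L' (List.mem_cons_of_mem _ hL')
  have hY'good : ∀ y ∈ gensOf ls, goodB n y = true := by
    cases ls with
    | nil => intro y hy; simp [gensOf] at hy
    | cons L' ls' => exact hgood' L' (List.mem_cons_self ..)
  have hnext := next_le hgood h
  obtain ⟨p, hp, hrep⟩ := (chain_sound (L :: ls) hgood h).2.2.1 g hg
  have h' := h
  simp only [chainOK, Bool.and_eq_true] at h'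
  obtain ⟨⟨hL, -⟩, hrest⟩ := h'
  simp only [levelOK, Bool.and_eq_true, decide_eq_true_eq] at hL
  obtain ⟨⟨⟨⟨⟨⟨hb, -⟩, hlt⟩, hid⟩, hTb⟩, -⟩, -⟩ := hL
  have hb' : L.b ∈ L.orb := by simpa using hb
  have hblt : L.b < n := of_decide_eq_true (List.all_eq_true.mp hlt L.b hb')
  cases p with
  | nil => simp [pathValid] at hp
  | cons a p' =>
    simp only [pathValid, Bool.and_eq_true, List.contains_iff_mem] at hp
    obtain ⟨g', hg', hrep'⟩ := (chain_sound ls hgood' hrest).2.1 p' hp.2
    have hfix' := Grp_fix hY'good hblt hnext.2 g' hg'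
    have e1 : pathLook ls p' L.b = L.b := by
      rw [← hrep' ⟨L.b, hblt⟩, hfix']
    have ha : a = L.b := by
      have e := hrep ⟨L.b, hblt⟩
      rw [hfix hblt] at e
      have e2 : pathLook (L :: ls) (a :: p') L.b = look (tbl L a) (pathLook ls p' L.b) := rfl
      have e3 : look (tbl L a) L.b = a := beq_iff_eq.mp (List.all_eq_true.mp hTb a hp.1)
      change L.b = pathLook (L :: ls) (a :: p') L.b at e
      rw [e2, e1, e3] at e
      exact e.symm
    have hgg : g = g' := by
      apply rep_unique hrep
      apply rep_congr hrep'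
      intro i hi
      rw [ha]
      show look (tbl L L.b) (pathLook ls p' i) = pathLook ls p' i
      have hlt' : pathLook ls p' i < n := by
        rw [← hrep' ⟨i, hi⟩]
        exact (g' ⟨i, hi⟩).2
      exact Nat.eq_of_beq_eq_true (allN_spec hid _ hlt')
    rw [hgg]
    exact hg'

/-- the check of a chain passes to the tail -/
theorem chainOK_tail {L : Lvl} {ls : List Lvl} (h : chainOK n (L :: ls) = true) :
    chainOK n ls = true := by
  simp only [chainOK, Bool.and_eq_true] at h
  exact h.2

/-- the order of the group of a chain -/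
theorem card_chain (ls : List Lvl) (hgood : ∀ L ∈ ls, ∀ y ∈ L.gens, goodB n y = true)
    (h : chainOK n ls = true) :
    Nat.card (Grp n (gensOf ls)) = (ls.map fun L => L.orb.length).prod :=
  (chain_sound ls hgood h).1

end Cfsg.Agent.Helper14.PermChainX
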