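import Cfsg.Agent.Helper14.J2UC
import Cfsg.Agent.Helper14.J2P7
import Cfsg.Agent.Helper14.J2FS
import Cfsg.Agent.Helper14.PermChainX

/-!
# The 2-local structure of the group of degree 315

The centraliser of the first reflection `z` is the stabiliser of the point `0`; it is generated by
2-elements and normalises the subgroup `Q` generated by the eleven reflections commuting with `z`,
which contains its own centraliser.  A Sylow 2-subgroup has no proper nontrivial strongly closed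
subgroup.  Hence the 2-fusion system of the group is simple.
-/

set_option autoImplicit false
set_option maxRecDepth 100000

namespace Cfsg.Agent.Helper14.J2P

open Cfsg.Agent.Helper14.PermChainN Cfsg.Agent.Helper14.PermChainX

attribute [local irreducible] zTab uTab nTab tTab reflTabs y1Tab y2Tab

/-! ### the fixed points of the first reflection -/

theorem JQ_lt' {j : ℕ} (hj : j ∈ JQ) : j < 315 :=
  of_decide_eq_true (List.all_eq_true.mp JQ_lt j hj)

theorem zero_mem_JQ : 0 ∈ JQ := by simp [JQ]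

theorem zP_fix_iff (i : Fin 315) : zP i = i ↔ i.1 ∈ JQ := by
  have h := allN_spec zfixChk_ok i.1 i.2
  have e : (zP i).1 = look zTab i.1 := rep_P z_good i
  constructor
  · intro hz
    have h1 : Nat.beq (look zTab i.1) i.1 = true := by
      rw [← e, hz]; exact Nat.beq_refl _
    rw [h1] at h
    simpa using h
  · intro hj
    have h2 : JQ.contains i.1 = true := by simpa using hj
    rw [h2] at h
    have h3 : Nat.beq (look zTab i.1) i.1 = true := by simpa using h
    apply Fin.ext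
    rw [e]
    exact Nat.eq_of_beq_eq_true h3

theorem zP_ne_one : zP ≠ 1 := by
  intro h
  have h1 : zP ⟨1, by norm_num⟩ = ⟨1, by norm_num⟩ := by rw [h]; rfl
  have h2 := (zP_fix_iff _).1 h1
  simp [JQ] at h2

theorem zP_sq : zP * zP = 1 := by
  have h1 : zP * zP ∈ Syl := Syl.mul_mem zP_mem_Syl zP_mem_Syl
  rcases Syl_center (zP * zP) h1 (by
    intro t ht
    have hc : Commute t zP := zP_comm_Syl t ht
    exact (hc.mul_right hc).eq) with h | h
  · exact h
  · exfalso
    apply zP_ne_one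
    have := congrArg (fun x => zP⁻¹ * x) h
    simpa using this

theorem orderOf_zG : orderOf zG = 2 := by
  have : Fact (Nat.Prime 2) := ⟨Nat.prime_two⟩
  apply orderOf_eq_prime
  · apply Subtype.ext
    exact (by rw [pow_two]; exact zP_sq : zP ^ 2 = 1)
  · intro h
    exact zP_ne_one (congrArg Subtype.val h)

theorem commute_zP_of_fix {g : Pm315} (hg : g ∈ G) (h : g 0 = 0) : g * zP = zP * g := by
  have h1 := conj_zP hg
  rw [h] at h1
  have h2 : g * zP * g⁻¹ = zP := by rw [h1]; exact Dr_zero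
  calc g * zP = (g * zP * g⁻¹) * g := by group
    _ = zP * g := by rw [h2]

theorem fix_JQ_of_commute {g : Pm315} (hc : g * zP = zP * g) (i : Fin 315) (hi : i.1 ∈ JQ) :
    (g i).1 ∈ JQ := by
  rw [← zP_fix_iff]
  have h1 : zP i = i := (zP_fix_iff i).2 hi
  have := congrArg (fun f : Pm315 => f i) hc
  simp only [Equiv.Perm.mul_apply, h1] at this
  exact this.symm

theorem eq_zero_of_Dr_eq_zP (j : Fin 315) (h : Dr j.1 = zP) : j = 0 := by
  obtain ⟨g, hg, hgj⟩ := exists_map 0 j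
  have h1 := conj_zP hg
  rw [hgj, h] at h1
  have hc : g * zP = zP * g := by
    calc g * zP = (g * zP * g⁻¹) * g := by group
      _ = zP * g := by rw [h1]
  have h2 := fix_JQ_of_commute hc 0 zero_mem_JQ
  rw [hgj] at h2
  have h3 := List.all_eq_true.mp zneChk_ok j.1 h2
  rw [Bool.or_eq_true] at h3
  rcases h3 with h3 | h3
  · exact Fin.ext (Nat.eq_of_beq_eq_true h3)
  · exfalso
    have : (allN 315 fun i => Nat.beq (look (refl j.1) i) (look zTab i)) = true := by
      apply allN_of_forall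
      intro i hi
      have e1 := rep_apply (rep_P (refl_good j.2)) hi
      have e2 := rep_apply (rep_P z_good) hi
      rw [show P 315 (refl j.1) = Dr j.1 from rfl, h] at e1
      rw [show P 315 zTab = zP from rfl] at e2
      rw [← e1, ← e2]
      exact Nat.beq_refl _
    rw [this] at h3
    simp at h3

theorem Dr_inj (j k : Fin 315) (h : Dr j.1 = Dr k.1) : j = k := by
  obtain ⟨g, hg, hgk⟩ := exists_map k 0
  have h1 := conj_Dr hg j
  have h2 := conj_Dr hg k
  rw [hgk] at h2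
  rw [h, h2] at h1
  have h3 : Dr (g j).1 = zP := by rw [← h1]; exact Dr_zero
  have h4 := eq_zero_of_Dr_eq_zP (g j) h3
  apply g.injective
  rw [h4, hgk]

theorem fix_of_commute_Dr {g : Pm315} (hg : g ∈ G) (j : Fin 315)
    (hc : g * Dr j.1 = Dr j.1 * g) : g j = j := by
  have h1 := conj_Dr hg j
  have h2 : g * Dr j.1 * g⁻¹ = Dr j.1 := by rw [hc]; group
  rw [h2] at h1
  exact (Dr_inj j (g j) h1).symm

/-! ### the second chain -/

theorem hgoodC : ∀ L ∈ levelsC, ∀ y ∈ L.gens, goodB 315 y = true := by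
  intro L hL y hy
  exact List.all_eq_true.mp (List.all_eq_true.mp gensC_good L hL) y hy

theorem lvC0_gens : lvC0.gens = zu := gensC_eq

theorem chainC0 : chainOK 315 (lvC0 :: [lvC1, lvC2, lvC3, lvC4, lvC5]) = true := chainC_ok
theorem chainC1 : chainOK 315 (lvC1 :: [lvC2, lvC3, lvC4, lvC5]) = true := chainOK_tail chainC0
theorem chainC2 : chainOK 315 (lvC2 :: [lvC3, lvC4, lvC5]) = true := chainOK_tail chainC1
theorem chainC3 : chainOK 315 (lvC3 :: [lvC4, lvC5]) = true := chainOK_tail chainC2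
theorem chainC4 : chainOK 315 (lvC4 :: [lvC5]) = true := chainOK_tail chainC3

theorem goodC0 : ∀ L' ∈ lvC0 :: [lvC1, lvC2, lvC3, lvC4, lvC5], ∀ y ∈ L'.gens,
    goodB 315 y = true := hgoodC
theorem goodC1 : ∀ L' ∈ lvC1 :: [lvC2, lvC3, lvC4, lvC5], ∀ y ∈ L'.gens, goodB 315 y = true :=
  fun L' h => goodC0 L' (List.mem_cons_of_mem _ h)
theorem goodC2 : ∀ L' ∈ lvC2 :: [lvC3, lvC4, lvC5], ∀ y ∈ L'.gens, goodB 315 y = true :=
  fun L' h => goodC1 L' (List.mem_cons_of_mem _ h)
theorem goodC3 : ∀ L' ∈ lvC3 :: [lvC4, lvC5], ∀ y ∈ L'.gens, goodB 315 y = true :=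
  fun L' h => goodC2 L' (List.mem_cons_of_mem _ h)
theorem goodC4 : ∀ L' ∈ lvC4 :: [lvC5], ∀ y ∈ L'.gens, goodB 315 y = true :=
  fun L' h => goodC3 L' (List.mem_cons_of_mem _ h)

/-- the centraliser of the first reflection -/
noncomputable def CZ : Subgroup Pm315 := Grp 315 lvC1.gens

theorem mem_CZ_of_fix {g : Pm315} (hg : g ∈ G) (h : g 0 = 0) : g ∈ CZ := by
  have hg' : g ∈ Grp 315 lvC0.gens := by rw [lvC0_gens]; exact hg
  exact mem_next_of_fix goodC0 chainC0 hg' (fun _ => h)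

theorem CZ_le : CZ ≤ G := by
  have := (next_le goodC0 chainC0).1
  rw [lvC0_gens] at this
  exact this

theorem CZ_fix {g : Pm315} (hg : g ∈ CZ) : g 0 = 0 := by
  have h := (next_le goodC0 chainC0).2
  exact Grp_fix (n := 315) (Y := lvC1.gens) (goodC1 lvC1 (List.mem_cons_self ..)) (b := 0)
    (by norm_num) h g hg

theorem pow8_of_mem {y : ℕ} (hy : y ∈ lvC1.gens) : (P 315 y) ^ 8 = 1 := by
  have hyg : goodB 315 y = true := goodC1 lvC1 (List.mem_cons_self ..) y hy
  have h := List.all_eq_true.mp c2pow_ok y hy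
  exact eq_one_of_rep (rep_iter (rep_P hyg) 8)
    (fun i hi => Nat.eq_of_beq_eq_true (allN_spec h i hi))

theorem exists_orderOf_of_pow8 {M : Type*} [Monoid M] {x : M} (h : x ^ 8 = 1) :
    ∃ k : ℕ, orderOf x = 2 ^ k := by
  have h1 : orderOf x ∣ 8 := orderOf_dvd_of_pow_eq_one h
  have e : (8 : ℕ) = 2 ^ 3 := by norm_num
  rw [e] at h1
  obtain ⟨k, -, hk⟩ := (Nat.dvd_prime_pow Nat.prime_two).1 h1
  exact ⟨k, hk⟩

theorem mem_centralizer_zG_iff (c : G) :
    c ∈ Subgroup.centralizer ({zG} : Set G) ↔ c.1 0 = 0 := by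
  rw [Subgroup.mem_centralizer_iff]
  constructor
  · intro h
    have h1 : zG * c = c * zG := h zG (Set.mem_singleton _)
    have h2 : zP * c.1 = c.1 * zP := congrArg Subtype.val h1
    have h3 := conj_zP c.2
    have h4 : c.1 * zP * c.1⁻¹ = zP := by rw [← h2]; group
    rw [h4] at h3
    exact eq_zero_of_Dr_eq_zP _ h3.symm
  · intro h x hx
    rw [Set.mem_singleton_iff] at hx
    subst hx
    apply Subtype.ext
    exact (commute_zP_of_fix c.2 h).symm

theorem centralizer_zG_le :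
    Subgroup.centralizer ({zG} : Set G) ≤
      Subgroup.closure {h : G | h ∈ Subgroup.centralizer ({zG} : Set G) ∧
        ∃ k : ℕ, orderOf h = 2 ^ k} := by
  intro c hc
  have h0 := (mem_centralizer_zG_iff c).1 hc
  have hC : c.1 ∈ CZ := mem_CZ_of_fix c.2 h0
  have key : ∀ x ∈ CZ, ∀ hx : x ∈ G, (⟨x, hx⟩ : G) ∈
      Subgroup.closure {h : G | h ∈ Subgroup.centralizer ({zG} : Set G) ∧
        ∃ k : ℕ, orderOf h = 2 ^ k} := by
    intro x hx
    unfold CZ Grp at hx
    induction hx using Subgroup.closure_induction with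
    | mem x hx =>
      obtain ⟨y, hy, rfl⟩ := hx
      intro hxG
      apply Subgroup.subset_closure
      refine ⟨?_, ?_⟩
      · rw [mem_centralizer_zG_iff]
        exact CZ_fix (P_mem_Grp hy)
      · obtain ⟨k, hk⟩ := exists_orderOf_of_pow8 (pow8_of_mem hy)
        refine ⟨k, ?_⟩
        rw [← hk]
        exact Subgroup.orderOf_mk _ _
    | one => intro _; exact Subgroup.one_mem _
    | mul x y hx hy ihx ihy =>
      intro _
      have hxG : x ∈ G := CZ_le hx
      have hyG : y ∈ G := CZ_le hy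
      exact Subgroup.mul_mem _ (ihx hxG) (ihy hyG)
    | inv x hx ihx =>
      intro _
      have hxG : x ∈ G := CZ_le hx
      exact Subgroup.inv_mem _ (ihx hxG)
  exact key c.1 hC c.2

/-! ### the subgroup generated by the eleven reflections -/

/-- the subgroup generated by the eleven reflections -/
noncomputable def QZ : Subgroup Pm315 := Grp 315 qTabs

theorem mem_qTabs {y : ℕ} : y ∈ qTabs ↔ ∃ j ∈ JQ, refl j = y := by
  unfold qTabs
  exact List.mem_map

theorem qGood : ∀ y ∈ qTabs, goodB 315 y = true := by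
  intro y hy
  obtain ⟨j, hj, rfl⟩ := mem_qTabs.1 hy
  exact refl_good (JQ_lt' hj)

theorem Dr_mem_QZ {j : ℕ} (hj : j ∈ JQ) : Dr j ∈ QZ := P_mem_Grp (mem_qTabs.2 ⟨j, hj, rfl⟩)

theorem QZ_le_Syl : QZ ≤ Syl := by
  unfold QZ Grp
  rw [Subgroup.closure_le]
  rintro g ⟨y, hy, rfl⟩
  obtain ⟨j, hj, rfl⟩ := mem_qTabs.1 hy
  obtain ⟨k, hk, hkj⟩ := List.mem_iff_getElem.mp hj
  have hk11 : k < 11 := hk
  have hw := List.all_eq_true.mp reflWords_ok k (List.mem_range.mpr hk11)
  rw [List.getD_eq_getElem _ _ hk, hkj] at hw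
  exact mem_of_wordOK sGood (refl_good (JQ_lt' hj)) hw

theorem CZ_conj_QZ {c : Pm315} (hc : c ∈ CZ) {q : Pm315} (hq : q ∈ QZ) : c * q * c⁻¹ ∈ QZ := by
  have hcG := CZ_le hc
  have hcomm := commute_zP_of_fix hcG (CZ_fix hc)
  unfold QZ Grp at hq
  induction hq using Subgroup.closure_induction with
  | mem x hx =>
    obtain ⟨y, hy, rfl⟩ := hx
    obtain ⟨j, hj, rfl⟩ := mem_qTabs.1 hy
    have h1 : c * Dr j * c⁻¹ = Dr (c ⟨j, JQ_lt' hj⟩).1 := conj_Dr hcG ⟨j, JQ_lt' hj⟩
    show c * Dr j * c⁻¹ ∈ QZ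
    rw [h1]
    exact Dr_mem_QZ (fix_JQ_of_commute hcomm ⟨j, JQ_lt' hj⟩ hj)
  | one =>
    have : c * 1 * c⁻¹ = 1 := by group
    rw [this]
    exact QZ.one_mem
  | mul x y _ _ hx hy =>
    have : c * (x * y) * c⁻¹ = (c * x * c⁻¹) * (c * y * c⁻¹) := by group
    rw [this]
    exact QZ.mul_mem hx hy
  | inv x _ hx =>
    have : c * x⁻¹ * c⁻¹ = (c * x * c⁻¹)⁻¹ := by group
    rw [this]
    exact QZ.inv_mem hx

theorem mem_zGrp_of_fix {g : Pm315} (hg : g ∈ G)
    (h0 : ∀ hb : 0 < 315, g ⟨0, hb⟩ = ⟨0, hb⟩) (h1 : ∀ hb : 305 < 315, g ⟨305, hb⟩ = ⟨305, hb⟩)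
    (h2 : ∀ hb : 306 < 315, g ⟨306, hb⟩ = ⟨306, hb⟩)
    (h3 : ∀ hb : 307 < 315, g ⟨307, hb⟩ = ⟨307, hb⟩)
    (h4 : ∀ hb : 308 < 315, g ⟨308, hb⟩ = ⟨308, hb⟩) : g ∈ Grp 315 [zTab] := by
  have g0 : g ∈ Grp 315 lvC0.gens := by rw [lvC0_gens]; exact hg
  have g1 : g ∈ Grp 315 lvC1.gens := mem_next_of_fix goodC0 chainC0 g0 h0
  have g2 : g ∈ Grp 315 lvC2.gens := mem_next_of_fix goodC1 chainC1 g1 h1
  have g3 : g ∈ Grp 315 lvC3.gens := mem_next_of_fix goodC2 chainC2 g2 h2
  have g4 : g ∈ Grp 315 lvC4.gens := mem_next_of_fix goodC3 chainC3 g3 h3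
  have g5 : g ∈ Grp 315 lvC5.gens := mem_next_of_fix goodC4 chainC4 g4 h4
  rw [gensC5_eq] at g5
  exact g5

theorem centralizer_QZ {g : Pm315} (hg : g ∈ G) (hc : ∀ q ∈ QZ, g * q = q * g) : g ∈ QZ := by
  have hfix : ∀ j (hj : j ∈ JQ), g ⟨j, JQ_lt' hj⟩ = ⟨j, JQ_lt' hj⟩ := by
    intro j hj
    exact fix_of_commute_Dr hg ⟨j, JQ_lt' hj⟩ (hc _ (Dr_mem_QZ hj))
  have h := mem_zGrp_of_fix hg (fun _ => hfix 0 (by simp [JQ])) (fun _ => hfix 305 (by simp [JQ]))
    (fun _ => hfix 306 (by simp [JQ])) (fun _ => hfix 307 (by simp [JQ]))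
    (fun _ => hfix 308 (by simp [JQ]))
  refine (Grp_mono ?_) h
  intro y hy
  rw [List.mem_singleton] at hy
  rw [hy, ← refl_zero]
  exact mem_qTabs.2 ⟨0, zero_mem_JQ, rfl⟩

/-! ### strongly closed subgroups -/

theorem tGood : ∀ y ∈ tTabs, goodB 315 y = true := by
  intro y hy
  unfold tTabs at hy
  rw [List.mem_append] at hy
  have hyg := y_good
  rw [Bool.and_eq_true] at hyg
  rcases hy with hy | hy
  · exact qGood y hy
  · simp only [List.mem_cons, List.not_mem_nil, or_false] at hy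
    rcases hy with rfl | rfl
    · exact hyg.1
    · exact hyg.2

theorem Syl_le_tGrp : Syl ≤ Grp 315 tTabs := by
  unfold Syl Grp
  rw [Subgroup.closure_le]
  rintro g ⟨y, hy, rfl⟩
  obtain ⟨k, hk, hky⟩ := List.mem_iff_getElem.mp hy
  have hw := List.all_eq_true.mp sGenWords_ok k (List.mem_range.mpr hk)
  rw [List.getD_eq_getElem _ _ hk, hky] at hw
  exact mem_of_wordOK tGood (sGood y hy) hw

theorem y_conj {y : ℕ} {cw xw : List ℕ} (hy : goodB 315 y = true)
    (h : conjWordChk y cw xw = true) : ∃ c ∈ G, ∃ x ∈ QZ, P 315 y = c * x * c⁻¹ := by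
  unfold conjWordChk at h
  simp only [Bool.and_eq_true] at h
  obtain ⟨⟨h1, h2⟩, h3⟩ := h
  obtain ⟨c, hc, hcrep⟩ := word_sound zu zu_good cw h1
  obtain ⟨x, hx, hxrep⟩ := word_sound qTabs qGood xw h2
  refine ⟨c, hc, x, hx, ?_⟩
  have : P 315 y * c = c * x := by
    apply rep_unique (rep_mul (rep_P hy) hcrep)
    apply rep_congr (rep_mul hcrep hxrep)
    intro i hi
    exact Nat.eq_of_beq_eq_true (allN_spec h3 i hi)
  calc P 315 y = (P 315 y * c) * c⁻¹ := by group
    _ = c * x * c⁻¹ := by rw [this]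

theorem strongly_closed (T : Subgroup Pm315) (hT : T ≤ Syl)
    (hsc : ∀ t ∈ T, ∀ g ∈ G, g * t * g⁻¹ ∈ Syl → g * t * g⁻¹ ∈ T) : T = ⊥ ∨ T = Syl := by
  by_cases hbot : T = ⊥
  · exact Or.inl hbot
  right
  apply le_antisymm hT
  have : Fact (Nat.Prime 2) := ⟨Nat.prime_two⟩
  have hz : zP ∈ T := by
    have hp : IsPGroup 2 Syl := IsPGroup.of_card (n := 7) (by rw [card_Syl]; norm_num)
    have hN : (T.subgroupOf Syl).Normal := by
      constructor
      intro n hn r
      rw [Subgroup.mem_subgroupOf] at hn ⊢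
      show r.1 * n.1 * r.1⁻¹ ∈ T
      exact hsc n.1 hn r.1 (Syl_le r.2) (Syl.mul_mem (Syl.mul_mem r.2 n.2) (Syl.inv_mem r.2))
    have hne : T.subgroupOf Syl ≠ ⊥ := by
      intro h
      apply hbot
      rw [eq_bot_iff]
      intro t ht
      have h1 : (⟨t, hT ht⟩ : Syl) ∈ T.subgroupOf Syl := by
        rw [Subgroup.mem_subgroupOf]; exact ht
      rw [h, Subgroup.mem_bot] at h1
      rw [Subgroup.mem_bot]
      exact congrArg Subtype.val h1
    obtain ⟨z, hzN, hz1, hzc⟩ := J2FS.exists_mem_center_of_normal hp (T.subgroupOf Syl) hne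
    rw [Subgroup.mem_subgroupOf] at hzN
    rcases Syl_center z.1 z.2 (fun t ht => congrArg Subtype.val (hzc ⟨t, ht⟩)) with h | h
    · exact absurd (Subtype.ext h) hz1
    · rw [← h]; exact hzN
  have hDr : ∀ j ∈ JQ, Dr j ∈ T := by
    intro j hj
    obtain ⟨g, hg, hgj⟩ := exists_map 0 ⟨j, JQ_lt' hj⟩
    have h1 := conj_zP hg
    rw [hgj] at h1
    have h2 : g * zP * g⁻¹ = Dr j := h1
    rw [← h2]
    apply hsc zP hz g hg
    rw [h2]
    exact QZ_le_Syl (Dr_mem_QZ hj)
  have hQ : QZ ≤ T := by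
    unfold QZ Grp
    rw [Subgroup.closure_le]
    rintro g ⟨y, hy, rfl⟩
    obtain ⟨j, hj, rfl⟩ := mem_qTabs.1 hy
    exact hDr j hj
  have hyT : ∀ (y : ℕ) (cw xw w : List ℕ), goodB 315 y = true → conjWordChk y cw xw = true →
      wordOK 315 lvS0.gens w y = true → P 315 y ∈ T := by
    intro y cw xw w hyg hconj hw
    obtain ⟨c, hc, x, hx, e⟩ := y_conj hyg hconj
    have hS : P 315 y ∈ Syl := mem_of_wordOK sGood hyg hw
    rw [e] at hS ⊢
    exact hsc x (hQ hx) c hc hS
  have hyg := y_good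
  rw [Bool.and_eq_true] at hyg
  have hyw := yWords_ok
  rw [Bool.and_eq_true] at hyw
  have ht : Grp 315 tTabs ≤ T := by
    unfold Grp
    rw [Subgroup.closure_le]
    rintro g ⟨y, hy, rfl⟩
    unfold tTabs at hy
    rw [List.mem_append] at hy
    rcases hy with hy | hy
    · exact hQ (P_mem_Grp hy)
    · simp only [List.mem_cons, List.not_mem_nil, or_false] at hy
      rcases hy with rfl | rfl
      · exact hyT _ _ _ _ hyg.1 conj1_ok hyw.1
      · exact hyT _ _ _ _ hyg.2 conj2_ok hyw.2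
  exact Syl_le_tGrp.trans ht

/-! ### the hypotheses of the criterion -/

theorem twoLocalHyp2 : J2FS.TwoLocalHyp2 G (Syl.subgroupOf G) := by
  refine ⟨?_, zG, Subgroup.mem_subgroupOf.2 zP_mem_Syl, orderOf_zG, ?_, ?_, QZ.subgroupOf G, ?_,
    ?_, ?_, centralizer_zG_le⟩
  · intro T hT hsc
    have h := strongly_closed (T.map G.subtype) (by
      rintro _ ⟨t, ht, rfl⟩
      exact Subgroup.mem_subgroupOf.1 (hT ht)) (by
      rintro _ ⟨t, ht, rfl⟩ g hg hS
      have h1 := hsc t ht ⟨g, hg⟩ (by rw [Subgroup.mem_subgroupOf]; exact hS)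
      exact ⟨_, h1, rfl⟩)
    rcases h with h | h
    · left
      exact (Subgroup.map_eq_bot_iff_of_injective T G.subtype_injective).1 h
    · right
      apply le_antisymm hT
      intro x hx
      rw [Subgroup.mem_subgroupOf, ← h] at hx
      obtain ⟨t, ht, htx⟩ := hx
      have : t = x := Subtype.ext htx
      rw [← this]
      exact ht
  · intro x hx
    apply Subtype.ext
    exact (zP_comm_Syl x.1 (Subgroup.mem_subgroupOf.1 hx)).symm
  · intro z hz hc
    rcases Syl_center z.1 (Subgroup.mem_subgroupOf.1 hz) (fun t ht =>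
      (congrArg Subtype.val (hc ⟨t, Syl_le ht⟩ (Subgroup.mem_subgroupOf.2 ht))).symm) with h | h
    · left; exact Subtype.ext h
    · right; exact Subtype.ext h
  · intro x hx
    rw [Subgroup.mem_subgroupOf] at hx ⊢
    exact QZ_le_Syl hx
  · intro c hc q hq
    rw [Subgroup.mem_subgroupOf] at hq ⊢
    have hcC : c.1 ∈ CZ := mem_CZ_of_fix c.2 ((mem_centralizer_zG_iff c).1 hc)
    exact CZ_conj_QZ hcC hq
  · intro g hg
    rw [Subgroup.mem_subgroupOf]
    apply centralizer_QZ g.2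
    intro q hq
    have hqG : q ∈ G := Syl_le (QZ_le_Syl hq)
    have h1 := (Subgroup.mem_centralizer_iff.1 hg) ⟨q, hqG⟩ (Subgroup.mem_subgroupOf.2 hq)
    exact (congrArg Subtype.val h1).symm

theorem card_SylG' : Nat.card (Syl.subgroupOf G) = 2 ^ 7 := by rw [card_SylG, factorization_G]

theorem index_SylG : ¬ 2 ∣ (Syl.subgroupOf G).index := by
  have h := (Syl.subgroupOf G).card_mul_index
  rw [card_SylG', card_G] at h
  have e : (2 : ℕ) ^ 7 = 128 := by norm_num
  rw [e] at h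
  have : (Syl.subgroupOf G).index = 4725 := by omega
  rw [this]
  norm_num

end Cfsg.Agent.Helper14.J2P
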