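import Cfsg.Agent.Helper14.J2UD

/-!
# Checks for the 2-local structure of the group of degree 315
-/

set_option autoImplicit false

namespace Cfsg.Agent.Helper14.J2P

open Cfsg.Agent.Helper14.PermChainN

set_option maxRecDepth 1000000 in
set_option maxHeartbeats 4000000 in
theorem gensC_good : levelsC.all (fun L => L.gens.all (goodB 315)) = true := by decide +kernel

set_option maxRecDepth 1000000 in
set_option maxHeartbeats 4000000 in
theorem chainC_ok : chainOK 315 levelsC = true := by decide +kernel

set_option maxRecDepth 1000000 in
set_option maxHeartbeats 4000000 in
theorem gensC_eq : gensOf levelsC = zu := by decide +kernel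

set_option maxRecDepth 1000000 in
set_option maxHeartbeats 4000000 in
theorem gensC5_eq : lvC5.gens = [zTab] := by decide +kernel

set_option maxRecDepth 1000000 in
set_option maxHeartbeats 4000000 in
theorem basesC_eq : levelsC.map (fun L => L.b) = [0, 305, 306, 307, 308, 1] := by decide +kernel

set_option maxRecDepth 1000000 in
set_option maxHeartbeats 4000000 in
theorem zfixChk_ok : zfixChk = true := by decide +kernel

set_option maxRecDepth 1000000 in
set_option maxHeartbeats 4000000 in
theorem zneChk_ok : zneChk = true := by decide +kernel

set_option maxRecDepth 1000000 in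
set_option maxHeartbeats 4000000 in
theorem c2pow_ok : lvC1.gens.all (fun y => allN 315 fun i => Nat.beq (iterF (look y) 8 i) i) = true := by decide +kernel

set_option maxRecDepth 1000000 in
set_option maxHeartbeats 4000000 in
theorem reflWords_ok : (List.range 11).all (fun k => wordOK 315 lvS0.gens (reflWords.getD k []) (refl (JQ.getD k 0))) = true := by decide +kernel

set_option maxRecDepth 1000000 in
set_option maxHeartbeats 4000000 in
theorem y_good : (goodB 315 y1Tab && goodB 315 y2Tab) = true := by decide +kernel

set_option maxRecDepth 1000000 in
set_option maxHeartbeats 4000000 in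
theorem yWords_ok : (wordOK 315 lvS0.gens (yWords.getD 0 []) y1Tab && wordOK 315 lvS0.gens (yWords.getD 1 []) y2Tab) = true := by decide +kernel

set_option maxRecDepth 1000000 in
set_option maxHeartbeats 4000000 in
theorem conj1_ok : conjWordChk y1Tab (cWords.getD 0 []) (xWords.getD 0 []) = true := by decide +kernel

set_option maxRecDepth 1000000 in
set_option maxHeartbeats 4000000 in
theorem conj2_ok : conjWordChk y2Tab (cWords.getD 1 []) (xWords.getD 1 []) = true := by decide +kernel

set_option maxRecDepth 1000000 in
set_option maxHeartbeats 4000000 in
theorem sGenWords_ok : (List.range lvS0.gens.length).all (fun k => wordOK 315 tTabs (sGenWords.getD k []) (lvS0.gens.getD k 0)) = true := by decide +kernel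

set_option maxRecDepth 1000000 in
set_option maxHeartbeats 4000000 in
theorem JQ_lt : JQ.all (fun j => decide (j < 315)) = true := by decide +kernel

end Cfsg.Agent.Helper14.J2P
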