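import Mathlib
import Cfsg.Agent.Helper14.J3CP

set_option autoImplicit false

namespace Cfsg.Agent.Helper14.J3

theorem Yi_inv : (mul4 Yc Yi == ONE && mul4 Yi Yc == ONE) = true := by decide +kernel

theorem C0dec_eq : decRH C0dec = C0gens := by decide +kernel

theorem k_C0c_0_0_0 : C0c_0_0_0.all (chkClosedEntry C0tab C0gens) = true := by decide +kernel
theorem k_C0c_0_0_1 : C0c_0_0_1.all (chkClosedEntry C0tab C0gens) = true := by decide +kernel
theorem k_C0c_0_0_2 : C0c_0_0_2.all (chkClosedEntry C0tab C0gens) = true := by decide +kernel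
theorem k_C0c_0_0_3 : C0c_0_0_3.all (chkClosedEntry C0tab C0gens) = true := by decide +kernel
theorem k_C0c_0_0_4 : C0c_0_0_4.all (chkClosedEntry C0tab C0gens) = true := by decide +kernel
theorem k_C0c_0_0_5 : C0c_0_0_5.all (chkClosedEntry C0tab C0gens) = true := by decide +kernel
theorem k_C0c_0_0_6 : C0c_0_0_6.all (chkClosedEntry C0tab C0gens) = true := by decide +kernel
theorem k_C0c_0_0_7 : C0c_0_0_7.all (chkClosedEntry C0tab C0gens) = true := by decide +kernel
theorem k_C0c_0_0_8 : C0c_0_0_8.all (chkClosedEntry C0tab C0gens) = true := by decide +kernel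
theorem k_C0c_0_0_9 : C0c_0_0_9.all (chkClosedEntry C0tab C0gens) = true := by decide +kernel
theorem k_C0c_0_0_10 : C0c_0_0_10.all (chkClosedEntry C0tab C0gens) = true := by decide +kernel
theorem k_C0c_0_0_11 : C0c_0_0_11.all (chkClosedEntry C0tab C0gens) = true := by decide +kernel
theorem k_C0c_0_0_12 : C0c_0_0_12.all (chkClosedEntry C0tab C0gens) = true := by decide +kernel
theorem k_C0c_0_0_13 : C0c_0_0_13.all (chkClosedEntry C0tab C0gens) = true := by decide +kernel
theorem k_C0c_0_0_14 : C0c_0_0_14.all (chkClosedEntry C0tab C0gens) = true := by decide +kernel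
theorem k_C0c_0_0_15 : C0c_0_0_15.all (chkClosedEntry C0tab C0gens) = true := by decide +kernel
theorem k_C0c_0_1_0 : C0c_0_1_0.all (chkClosedEntry C0tab C0gens) = true := by decide +kernel
theorem k_C0c_0_1_1 : C0c_0_1_1.all (chkClosedEntry C0tab C0gens) = true := by decide +kernel
theorem k_C0c_0_1_2 : C0c_0_1_2.all (chkClosedEntry C0tab C0gens) = true := by decide +kernel
theorem k_C0c_0_1_3 : C0c_0_1_3.all (chkClosedEntry C0tab C0gens) = true := by decide +kernel
theorem k_C0c_0_1_4 : C0c_0_1_4.all (chkClosedEntry C0tab C0gens) = true := by decide +kernel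
theorem k_C0c_0_1_5 : C0c_0_1_5.all (chkClosedEntry C0tab C0gens) = true := by decide +kernel
theorem k_C0c_0_1_6 : C0c_0_1_6.all (chkClosedEntry C0tab C0gens) = true := by decide +kernel
theorem k_C0c_0_1_7 : C0c_0_1_7.all (chkClosedEntry C0tab C0gens) = true := by decide +kernel
theorem k_C0c_0_1_8 : C0c_0_1_8.all (chkClosedEntry C0tab C0gens) = true := by decide +kernel
theorem k_C0c_0_1_9 : C0c_0_1_9.all (chkClosedEntry C0tab C0gens) = true := by decide +kernel
theorem k_C0c_0_1_10 : C0c_0_1_10.all (chkClosedEntry C0tab C0gens) = true := by decide +kernel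
theorem k_C0c_0_1_11 : C0c_0_1_11.all (chkClosedEntry C0tab C0gens) = true := by decide +kernel
theorem k_C0c_0_1_12 : C0c_0_1_12.all (chkClosedEntry C0tab C0gens) = true := by decide +kernel
theorem k_C0c_0_1_13 : C0c_0_1_13.all (chkClosedEntry C0tab C0gens) = true := by decide +kernel
theorem k_C0c_0_1_14 : C0c_0_1_14.all (chkClosedEntry C0tab C0gens) = true := by decide +kernel
theorem k_C0c_0_1_15 : C0c_0_1_15.all (chkClosedEntry C0tab C0gens) = true := by decide +kernel
theorem k_C0c_0_2_0 : C0c_0_2_0.all (chkClosedEntry C0tab C0gens) = true := by decide +kernel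
theorem k_C0c_0_2_1 : C0c_0_2_1.all (chkClosedEntry C0tab C0gens) = true := by decide +kernel
theorem k_C0c_0_2_2 : C0c_0_2_2.all (chkClosedEntry C0tab C0gens) = true := by decide +kernel
theorem k_C0c_0_2_3 : C0c_0_2_3.all (chkClosedEntry C0tab C0gens) = true := by decide +kernel
theorem k_C0c_0_2_4 : C0c_0_2_4.all (chkClosedEntry C0tab C0gens) = true := by decide +kernel
theorem k_C0c_0_2_5 : C0c_0_2_5.all (chkClosedEntry C0tab C0gens) = true := by decide +kernel
theorem k_C0c_0_2_6 : C0c_0_2_6.all (chkClosedEntry C0tab C0gens) = true := by decide +kernel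
theorem k_C0c_0_2_7 : C0c_0_2_7.all (chkClosedEntry C0tab C0gens) = true := by decide +kernel
theorem k_C0c_0_2_8 : C0c_0_2_8.all (chkClosedEntry C0tab C0gens) = true := by decide +kernel
theorem k_C0c_0_2_9 : C0c_0_2_9.all (chkClosedEntry C0tab C0gens) = true := by decide +kernel
theorem k_C0c_0_2_10 : C0c_0_2_10.all (chkClosedEntry C0tab C0gens) = true := by decide +kernel
theorem k_C0c_0_2_11 : C0c_0_2_11.all (chkClosedEntry C0tab C0gens) = true := by decide +kernel
theorem k_C0c_0_2_12 : C0c_0_2_12.all (chkClosedEntry C0tab C0gens) = true := by decide +kernel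
theorem k_C0c_0_2_13 : C0c_0_2_13.all (chkClosedEntry C0tab C0gens) = true := by decide +kernel
theorem k_C0c_0_2_14 : C0c_0_2_14.all (chkClosedEntry C0tab C0gens) = true := by decide +kernel
theorem k_C0c_0_2_15 : C0c_0_2_15.all (chkClosedEntry C0tab C0gens) = true := by decide +kernel
theorem k_C0c_0_3_0 : C0c_0_3_0.all (chkClosedEntry C0tab C0gens) = true := by decide +kernel
theorem k_C0c_0_3_1 : C0c_0_3_1.all (chkClosedEntry C0tab C0gens) = true := by decide +kernel
theorem k_C0c_0_3_2 : C0c_0_3_2.all (chkClosedEntry C0tab C0gens) = true := by decide +kernel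
theorem k_C0c_0_3_3 : C0c_0_3_3.all (chkClosedEntry C0tab C0gens) = true := by decide +kernel
theorem k_C0c_0_3_4 : C0c_0_3_4.all (chkClosedEntry C0tab C0gens) = true := by decide +kernel
theorem k_C0c_0_3_5 : C0c_0_3_5.all (chkClosedEntry C0tab C0gens) = true := by decide +kernel
theorem k_C0c_0_3_6 : C0c_0_3_6.all (chkClosedEntry C0tab C0gens) = true := by decide +kernel
theorem k_C0c_0_3_7 : C0c_0_3_7.all (chkClosedEntry C0tab C0gens) = true := by decide +kernel
theorem k_C0c_0_3_8 : C0c_0_3_8.all (chkClosedEntry C0tab C0gens) = true := by decide +kernel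
theorem k_C0c_0_3_9 : C0c_0_3_9.all (chkClosedEntry C0tab C0gens) = true := by decide +kernel
theorem k_C0c_0_3_10 : C0c_0_3_10.all (chkClosedEntry C0tab C0gens) = true := by decide +kernel
theorem k_C0c_0_3_11 : C0c_0_3_11.all (chkClosedEntry C0tab C0gens) = true := by decide +kernel
theorem k_C0c_0_3_12 : C0c_0_3_12.all (chkClosedEntry C0tab C0gens) = true := by decide +kernel
theorem k_C0c_0_3_13 : C0c_0_3_13.all (chkClosedEntry C0tab C0gens) = true := by decide +kernel
theorem k_C0c_0_3_14 : C0c_0_3_14.all (chkClosedEntry C0tab C0gens) = true := by decide +kernel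
theorem k_C0c_0_3_15 : C0c_0_3_15.all (chkClosedEntry C0tab C0gens) = true := by decide +kernel
theorem k_C0c_0_4_0 : C0c_0_4_0.all (chkClosedEntry C0tab C0gens) = true := by decide +kernel
theorem k_C0c_0_4_1 : C0c_0_4_1.all (chkClosedEntry C0tab C0gens) = true := by decide +kernel
theorem k_C0c_0_4_2 : C0c_0_4_2.all (chkClosedEntry C0tab C0gens) = true := by decide +kernel
theorem k_C0c_0_4_3 : C0c_0_4_3.all (chkClosedEntry C0tab C0gens) = true := by decide +kernel
theorem k_C0c_0_4_4 : C0c_0_4_4.all (chkClosedEntry C0tab C0gens) = true := by decide +kernel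
theorem k_C0c_0_4_5 : C0c_0_4_5.all (chkClosedEntry C0tab C0gens) = true := by decide +kernel
theorem k_C0c_0_4_6 : C0c_0_4_6.all (chkClosedEntry C0tab C0gens) = true := by decide +kernel
theorem k_C0c_0_4_7 : C0c_0_4_7.all (chkClosedEntry C0tab C0gens) = true := by decide +kernel
theorem k_C0c_0_4_8 : C0c_0_4_8.all (chkClosedEntry C0tab C0gens) = true := by decide +kernel
theorem k_C0c_0_4_9 : C0c_0_4_9.all (chkClosedEntry C0tab C0gens) = true := by decide +kernel
theorem k_C0c_0_4_10 : C0c_0_4_10.all (chkClosedEntry C0tab C0gens) = true := by decide +kernel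
theorem k_C0c_0_4_11 : C0c_0_4_11.all (chkClosedEntry C0tab C0gens) = true := by decide +kernel
theorem k_C0c_0_4_12 : C0c_0_4_12.all (chkClosedEntry C0tab C0gens) = true := by decide +kernel
theorem k_C0c_0_4_13 : C0c_0_4_13.all (chkClosedEntry C0tab C0gens) = true := by decide +kernel
theorem k_C0c_0_4_14 : C0c_0_4_14.all (chkClosedEntry C0tab C0gens) = true := by decide +kernel
theorem k_C0c_0_4_15 : C0c_0_4_15.all (chkClosedEntry C0tab C0gens) = true := by decide +kernel
theorem k_C0c_0_5_0 : C0c_0_5_0.all (chkClosedEntry C0tab C0gens) = true := by decide +kernel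
theorem k_C0c_0_5_1 : C0c_0_5_1.all (chkClosedEntry C0tab C0gens) = true := by decide +kernel
theorem k_C0c_0_5_2 : C0c_0_5_2.all (chkClosedEntry C0tab C0gens) = true := by decide +kernel
theorem k_C0c_0_5_3 : C0c_0_5_3.all (chkClosedEntry C0tab C0gens) = true := by decide +kernel
theorem k_C0c_0_5_4 : C0c_0_5_4.all (chkClosedEntry C0tab C0gens) = true := by decide +kernel
theorem k_C0c_0_5_5 : C0c_0_5_5.all (chkClosedEntry C0tab C0gens) = true := by decide +kernel
theorem k_C0c_0_5_6 : C0c_0_5_6.all (chkClosedEntry C0tab C0gens) = true := by decide +kernel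
theorem k_C0c_0_5_7 : C0c_0_5_7.all (chkClosedEntry C0tab C0gens) = true := by decide +kernel
theorem k_C0c_0_5_8 : C0c_0_5_8.all (chkClosedEntry C0tab C0gens) = true := by decide +kernel
theorem k_C0c_0_5_9 : C0c_0_5_9.all (chkClosedEntry C0tab C0gens) = true := by decide +kernel
theorem k_C0c_0_5_10 : C0c_0_5_10.all (chkClosedEntry C0tab C0gens) = true := by decide +kernel
theorem k_C0c_0_5_11 : C0c_0_5_11.all (chkClosedEntry C0tab C0gens) = true := by decide +kernel
theorem k_C0c_0_5_12 : C0c_0_5_12.all (chkClosedEntry C0tab C0gens) = true := by decide +kernel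
theorem k_C0c_0_5_13 : C0c_0_5_13.all (chkClosedEntry C0tab C0gens) = true := by decide +kernel
theorem k_C0c_0_5_14 : C0c_0_5_14.all (chkClosedEntry C0tab C0gens) = true := by decide +kernel
theorem k_C0c_0_5_15 : C0c_0_5_15.all (chkClosedEntry C0tab C0gens) = true := by decide +kernel
theorem k_C0c_0_6_0 : C0c_0_6_0.all (chkClosedEntry C0tab C0gens) = true := by decide +kernel
theorem k_C0c_0_6_1 : C0c_0_6_1.all (chkClosedEntry C0tab C0gens) = true := by decide +kernel
theorem k_C0c_0_6_2 : C0c_0_6_2.all (chkClosedEntry C0tab C0gens) = true := by decide +kernel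
theorem k_C0c_0_6_3 : C0c_0_6_3.all (chkClosedEntry C0tab C0gens) = true := by decide +kernel
theorem k_C0c_0_6_4 : C0c_0_6_4.all (chkClosedEntry C0tab C0gens) = true := by decide +kernel
theorem k_C0c_0_6_5 : C0c_0_6_5.all (chkClosedEntry C0tab C0gens) = true := by decide +kernel
theorem k_C0c_0_6_6 : C0c_0_6_6.all (chkClosedEntry C0tab C0gens) = true := by decide +kernel
theorem k_C0c_0_6_7 : C0c_0_6_7.all (chkClosedEntry C0tab C0gens) = true := by decide +kernel
theorem k_C0c_0_6_8 : C0c_0_6_8.all (chkClosedEntry C0tab C0gens) = true := by decide +kernel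
theorem k_C0c_0_6_9 : C0c_0_6_9.all (chkClosedEntry C0tab C0gens) = true := by decide +kernel
theorem k_C0c_0_6_10 : C0c_0_6_10.all (chkClosedEntry C0tab C0gens) = true := by decide +kernel
theorem k_C0c_0_6_11 : C0c_0_6_11.all (chkClosedEntry C0tab C0gens) = true := by decide +kernel
theorem k_C0c_0_6_12 : C0c_0_6_12.all (chkClosedEntry C0tab C0gens) = true := by decide +kernel
theorem k_C0c_0_6_13 : C0c_0_6_13.all (chkClosedEntry C0tab C0gens) = true := by decide +kernel
theorem k_C0c_0_6_14 : C0c_0_6_14.all (chkClosedEntry C0tab C0gens) = true := by decide +kernel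
theorem k_C0c_0_6_15 : C0c_0_6_15.all (chkClosedEntry C0tab C0gens) = true := by decide +kernel
theorem k_C0c_0_7_0 : C0c_0_7_0.all (chkClosedEntry C0tab C0gens) = true := by decide +kernel
theorem k_C0c_0_7_1 : C0c_0_7_1.all (chkClosedEntry C0tab C0gens) = true := by decide +kernel
theorem k_C0c_0_7_2 : C0c_0_7_2.all (chkClosedEntry C0tab C0gens) = true := by decide +kernel
theorem k_C0c_0_7_3 : C0c_0_7_3.all (chkClosedEntry C0tab C0gens) = true := by decide +kernel
theorem k_C0c_0_7_4 : C0c_0_7_4.all (chkClosedEntry C0tab C0gens) = true := by decide +kernel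
theorem k_C0c_0_7_5 : C0c_0_7_5.all (chkClosedEntry C0tab C0gens) = true := by decide +kernel
theorem k_C0c_0_7_6 : C0c_0_7_6.all (chkClosedEntry C0tab C0gens) = true := by decide +kernel
theorem k_C0c_0_7_7 : C0c_0_7_7.all (chkClosedEntry C0tab C0gens) = true := by decide +kernel

theorem chkC0 : allB C0blk0 (chkClosedEntry C0tab C0gens) = true := by
  simp only [allB, C0blk0, List.all_cons, List.all_nil, Bool.and_true,
    k_C0c_0_0_0, k_C0c_0_0_1, k_C0c_0_0_2, k_C0c_0_0_3, k_C0c_0_0_4, k_C0c_0_0_5, k_C0c_0_0_6, k_C0c_0_0_7, k_C0c_0_0_8, k_C0c_0_0_9, k_C0c_0_0_10, k_C0c_0_0_11, k_C0c_0_0_12, k_C0c_0_0_13, k_C0c_0_0_14, k_C0c_0_0_15, k_C0c_0_1_0, k_C0c_0_1_1, k_C0c_0_1_2, k_C0c_0_1_3, k_C0c_0_1_4, k_C0c_0_1_5, k_C0c_0_1_6, k_C0c_0_1_7, k_C0c_0_1_8, k_C0c_0_1_9, k_C0c_0_1_10, k_C0c_0_1_11, k_C0c_0_1_12, k_C0c_0_1_13, k_C0c_0_1_14, k_C0c_0_1_15, k_C0c_0_2_0, k_C0c_0_2_1, k_C0c_0_2_2, k_C0c_0_2_3, k_C0c_0_2_4, k_C0c_0_2_5, k_C0c_0_2_6, k_C0c_0_2_7, k_C0c_0_2_8, k_C0c_0_2_9,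 k_C0c_0_2_10, k_C0c_0_2_11, k_C0c_0_2_12, k_C0c_0_2_13, k_C0c_0_2_14, k_C0c_0_2_15, k_C0c_0_3_0, k_C0c_0_3_1, k_C0c_0_3_2, k_C0c_0_3_3, k_C0c_0_3_4, k_C0c_0_3_5, k_C0c_0_3_6, k_C0c_0_3_7, k_C0c_0_3_8, k_C0c_0_3_9, k_C0c_0_3_10, k_C0c_0_3_11, k_C0c_0_3_12, k_C0c_0_3_13, k_C0c_0_3_14, k_C0c_0_3_15, k_C0c_0_4_0, k_C0c_0_4_1, k_C0c_0_4_2, k_C0c_0_4_3, k_C0c_0_4_4, k_C0c_0_4_5, k_C0c_0_4_6, k_C0c_0_4_7, k_C0c_0_4_8, k_C0c_0_4_9, k_C0c_0_4_10, k_C0c_0_4_11, k_C0c_0_4_12, k_C0c_0_4_13, k_C0c_0_4_14, k_C0c_0_4_15, k_C0c_0_5_0, k_C0c_0_5_1, k_C0c_0_5_2, k_C0c_0_5_3, k_C0c_0_5_4, k_C0c_0_5_5, k_C0c_0_5_6, k_C0c_0_5_7, k_C0c_0_5_8, k_C0c_0_5_9, k_C0c_0_5_10, k_C0c_0_5_11, k_C0c_0_5_12, k_C0c_0_5_13, k_C0c_0_5_14, k_C0c_0_5_15, k_C0c_0_6_0, k_C0c_0_6_1, k_C0c_0_6_2, k_C0c_0_6_3, k_C0c_0_6_4, k_C0c_0_6_5, k_C0c_0_6_6, k_C0c_0_6_7, k_C0c_0_6_8, k_C0c_0_6_9, k_C0c_0_6_10, k_C0c_0_6_11, k_C0c_0_6_12, k_C0c_0_6_13, k_C0c_0_6_14, k_C0c_0_6_15, k_C0c_0_7_0, k_C0c_0_7_1, k_C0c_0_7_2, k_C0c_0_7_3,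 k_C0c_0_7_4, k_C0c_0_7_5, k_C0c_0_7_6, k_C0c_0_7_7]

theorem incC0 : incCodes (flatT C0tab) = true := by decide +kernel

theorem lenC0 : (flatT C0tab).length = 1920 := by decide +kernel

theorem k_Qc_0_0_0 : Qc_0_0_0.all (chkClosedEntry Qtab Qgens) = true := by decide +kernel
theorem k_Qc_0_0_1 : Qc_0_0_1.all (chkClosedEntry Qtab Qgens) = true := by decide +kernel

theorem chkQ : allB Qblk0 (chkClosedEntry Qtab Qgens) = true := by
  simp only [allB, Qblk0, List.all_cons, List.all_nil, Bool.and_true,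
    k_Qc_0_0_0, k_Qc_0_0_1]

theorem incQ : incCodes (flatT Qtab) = true := by decide +kernel

theorem lenQ : (flatT Qtab).length = 32 := by decide +kernel

theorem rootC0_mem : ∃ e ∈ C0c_0_0_0, codeOf e = ONE := by decide +kernel

theorem rootQ_mem : ∃ e ∈ Qc_0_0_0, codeOf e = ONE := by decide +kernel

theorem C0gens_comm : (C0gens.all fun g => mul4 g Xc == mul4 Xc g) = true := by decide +kernel

theorem C0_noscal : ((flatT C0tab).all fun e => codeOf e != Z1 && codeOf e != Z2) = true := by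
  decide +kernel

theorem C0gens_two : (C0gens.all fun g => sq (sq (sq g)) == ONE) = true := by decide +kernel

theorem C0_normQ : (C0gens.all fun g => (flatT Qtab).all fun q => (flatT Qtab).any fun q' =>
    mul4 g (codeOf q) == mul4 (codeOf q') g) = true := by decide +kernel

theorem C0_centQ : ((flatT C0tab).all fun e =>
    !(Qgens.all fun g => mul4 g (codeOf e) == mul4 (codeOf e) g) ||
      (flatT Qtab).any fun q => codeOf q == codeOf e) = true := by decide +kernel

theorem Qgens_P2 : (Qgens.all fun g => (flatT P2tab).any fun e => codeOf e == g) = true := by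
  decide +kernel

theorem Qgens_C0 : (Qgens.all fun g => (flatT C0tab).any fun e => codeOf e == g) = true := by
  decide +kernel

theorem X_in_Q : ((flatT Qtab).any fun e => codeOf e == Xc) = true := by decide +kernel

theorem X_in_P2 : ((flatT P2tab).any fun e => codeOf e == Xc) = true := by decide +kernel

theorem X_in_C0 : ((flatT C0tab).any fun e => codeOf e == Xc) = true := by decide +kernel

theorem P2_center : ((flatT P2tab).all fun e =>
    !(P2gens.all fun g => mul4 g (codeOf e) == mul4 (codeOf e) g) ||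
      codeOf e == ONE || codeOf e == Xc) = true := by decide +kernel

theorem P2prod_ok : ((List.zip P2gens P2prod).all fun p => prodL p.2 == p.1 &&
    p.2.all fun s => sq s == ONE && !(s == ONE) && (flatT P2tab).any fun e => codeOf e == s) = true := by
  decide +kernel

theorem P2prod_len : P2prod.length = P2gens.length := by decide +kernel

set_option maxRecDepth 100000 in
theorem invCerts_ok : ((List.zip (flatT P2tab) invCerts).all fun p =>
    !(sq (codeOf p.1) == ONE) || codeOf p.1 == ONE || conjW p.2 (codeOf p.1) == Xc) = true := by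
  decide +kernel

theorem invCerts_len : invCerts.length = (flatT P2tab).length := by decide +kernel

theorem X_ne : (Xc != ONE && Xc != Z1 && Xc != Z2) = true := by decide +kernel

theorem rootI_mem : ∃ e ∈ Ic_0_0_0, codeOf e = Xc := by decide +kernel

theorem lenI : (flatT Itab).length = 26163 := by decide +kernel

theorem incI : incCodes (flatT Itab) = true := by decide +kernel


end Cfsg.Agent.Helper14.J3
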