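import Mathlib
import Cfsg.Agent.Helper14.J3CP

set_option autoImplicit false

namespace Cfsg.Agent.Helper14.J3

/-- every generator of the Sylow 2-subgroup is a product of involutions of that subgroup -/
theorem P2prod_any : (P2gens.all fun g => P2prod.any fun w => prodL w == g &&
    w.all fun s => sq s == ONE && !(s == ONE) && (flatT P2tab).any fun e => codeOf e == s) = true := by
  decide +kernel

set_option maxRecDepth 100000 in
/-- every involution of the Sylow 2-subgroup is conjugate to the first generator -/
theorem invCerts_idx : ((List.range 128).all fun i =>
    !(sq (codeOf ((flatT P2tab).getD i 0)) == ONE) || codeOf ((flatT P2tab).getD i 0) == ONE ||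
      conjW (invCerts.getD i []) (codeOf ((flatT P2tab).getD i 0)) == Xc) = true := by
  decide +kernel

theorem P2gens_comm : (P2gens.all fun g => mul4 g Xc == mul4 Xc g) = true := by decide +kernel

end Cfsg.Agent.Helper14.J3
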