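import Mathlib
import Cfsg.Agent.Helper14.J3S
import Cfsg.Agent.Helper14.J3CK
import Cfsg.Agent.Helper14.J3CK2

set_option autoImplicit false
set_option linter.unusedSectionVars false

namespace Cfsg.Agent.Helper14.J3

open Cfsg Cfsg.Spor
open scoped MatrixGroups Pointwise

/-- In a finite group, the number of conjugates of `t` times the order of its centraliser is the
order of the group. -/
theorem card_range_conj_mul {G : Type*} [Group G] [Finite G] (t : G) :
    Nat.card (Set.range fun g : G => g * t * g⁻¹) * Nat.card (Subgroup.centralizer {t}) =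
      Nat.card G := by
  let C := Subgroup.centralizer ({t} : Set G)
  have hwd : ∀ a b : G, (QuotientGroup.leftRel C) a b → a * t * a⁻¹ = b * t * b⁻¹ := by
    intro a b hab
    rw [QuotientGroup.leftRel_apply] at hab
    have h := (Subgroup.mem_centralizer_iff.1 hab) t (Set.mem_singleton t)
    -- h : t * (a⁻¹ * b) = a⁻¹ * b * t
    have e : b = a * (a⁻¹ * b) := by group
    rw [e]
    calc a * t * a⁻¹ = a * (t * (a⁻¹ * b)) * (a⁻¹ * b)⁻¹ * a⁻¹ := by group
      _ = a * (a⁻¹ * b * t) * (a⁻¹ * b)⁻¹ * a⁻¹ := by rw [h]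
      _ = a * (a⁻¹ * b) * t * (a * (a⁻¹ * b))⁻¹ := by group
  let f : G ⧸ C → G := Quotient.lift (s := QuotientGroup.leftRel C) (fun g : G => g * t * g⁻¹) hwd
  have hinj : Function.Injective f := by
    intro q q' h
    induction q using Quotient.inductionOn with
    | h a =>
      induction q' using Quotient.inductionOn with
      | h b =>
        apply Quotient.sound
        apply QuotientGroup.leftRel_apply.2
        have h' : a * t * a⁻¹ = b * t * b⁻¹ := h
        rw [Subgroup.mem_centralizer_iff]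
        intro x hx
        rw [Set.mem_singleton_iff] at hx
        subst hx
        calc x * (a⁻¹ * b) = a⁻¹ * (a * x * a⁻¹) * b := by group
          _ = a⁻¹ * (b * x * b⁻¹) * b := by rw [h']
          _ = a⁻¹ * b * x := by group
  have hrange : Set.range f = Set.range fun g : G => g * t * g⁻¹ := by
    ext y
    constructor
    · rintro ⟨q, rfl⟩
      induction q using Quotient.inductionOn with
      | h a => exact ⟨a, rfl⟩
    · rintro ⟨a, rfl⟩
      exact ⟨Quotient.mk _ a, rfl⟩
  rw [← hrange, Nat.card_range_of_injective hinj]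
  exact (Subgroup.card_eq_card_quotient_mul_card_subgroup C).symm

section field

variable {F : Type*} [Field F] [CharP F 2] [Finite F] (ω : F) (hω : ω * ω = ω + 1)
variable (h0 : ω ≠ 0) (h1 : ω ≠ 1)

include hω in
/-- the two generators and their inverses -/
theorem exists_IGens (l : Nat) : ∃ g : threeJ3 F ω, valHom ω g = toMat F ω (IGens.getD l ONE) ∧
    valHom ω g⁻¹ = toMat F ω (IGinv.getD l ONE) := by
  have hmul := toMat_mul4 F ω hω
  obtain ⟨X, Y, hX, hY, -⟩ := exists_XY ω hω
  match l with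
  | 0 =>
    refine ⟨X, hX, ?_⟩
    have hXX : X * X = 1 := by
      apply valHom_injective ω
      rw [map_mul, hX, ← hmul, ← sq_eq, relX, toMat_ONE, map_one]
    have : X⁻¹ = X := inv_eq_of_mul_eq_one_left hXX
    rw [this]; exact hX
  | 1 =>
    refine ⟨Y, hY, ?_⟩
    have hy := Yi_inv
    rw [Bool.and_eq_true] at hy
    have e1 : toMat F ω Yc * toMat F ω Yi = 1 := by
      rw [← hmul, eq_of_beq hy.1, toMat_ONE]
    have e2 : valHom ω Y⁻¹ * valHom ω Y = 1 := by
      rw [← map_mul, inv_mul_cancel, map_one]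
    show valHom ω Y⁻¹ = toMat F ω Yi
    calc valHom ω Y⁻¹ = valHom ω Y⁻¹ * (toMat F ω Yc * toMat F ω Yi) := by rw [e1, mul_one]
      _ = (valHom ω Y⁻¹ * valHom ω Y) * toMat F ω Yi := by rw [hY, mul_assoc]
      _ = toMat F ω Yi := by rw [e2, one_mul]
  | (l + 2) =>
    refine ⟨1, ?_, ?_⟩
    · show valHom ω 1 = toMat F ω ONE
      rw [map_one, toMat_ONE]
    · show valHom ω 1⁻¹ = toMat F ω ONE
      rw [inv_one, map_one, toMat_ONE]

include hω in
/-- every entry of the table is a conjugate of the first generator -/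
theorem exists_conj_of_Itab
    (hI : ∀ e, memT Itab e → chkConjEntry Itab IGens IGinv Xc e = true)
    (X : threeJ3 F ω) (hX : valHom ω X = toMat F ω Xc) :
    ∀ d : ℕ, ∀ e, memT Itab e → fld e 2 = d →
      ∃ k : threeJ3 F ω, valHom ω (k * X * k⁻¹) = toMat F ω (codeOf e) := by
  have hmul := toMat_mul4 F ω hω
  intro d
  induction d with
  | zero =>
    intro e he hd
    have h := hI e he
    unfold chkConjEntry at h
    rw [Bool.or_eq_true, Bool.and_eq_true, Bool.and_eq_true, Bool.and_eq_true] at h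
    rcases h with h | h
    · refine ⟨1, ?_⟩
      rw [one_mul, inv_one, mul_one, hX, eq_of_beq h.2]
    · have := eq_of_beq h.1.2
      omega
  | succ d ih =>
    intro e he hd
    have h := hI e he
    unfold chkConjEntry at h
    rw [Bool.or_eq_true, Bool.and_eq_true, Bool.and_eq_true, Bool.and_eq_true] at h
    rcases h with h | h
    · refine ⟨1, ?_⟩
      rw [one_mul, inv_one, mul_one, hX, eq_of_beq h.2]
    · have h3 := eq_of_beq h.1.1
      have h4 := eq_of_beq h.1.2
      have h5 : getT Itab (fld e 0) ≠ ONE := by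
        intro h'
        have := h.2
        rw [h'] at this
        simp at this
      have hp : memT Itab (getT Itab (fld e 0)) := by
        rcases getT_mem_or Itab (fld e 0) with h6 | h6
        · exact h6
        · exact absurd h6 h5
      obtain ⟨k, hk⟩ := ih _ hp (by omega)
      obtain ⟨g, hg, hgi⟩ := exists_IGens ω hω (fld e 1)
      refine ⟨g * k, ?_⟩
      have e1 : g * k * X * (g * k)⁻¹ = g * (k * X * k⁻¹) * g⁻¹ := by group
      rw [e1, map_mul, map_mul, hk, hg, hgi, ← h3, hmul, hmul, mul_assoc]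

/-- the quotient map onto the simple group -/
abbrev piJ : threeJ3 F ω →* J3 F ω := QuotientGroup.mk' (Subgroup.center (threeJ3 F ω))

include hω h0 h1 in
/-- two involutions with the same image are equal -/
theorem eq_of_piJ_eq {u v : threeJ3 F ω} (hu : u * u = 1) (hv : v * v = 1)
    (h : piJ ω u = piJ ω v) : u = v := by
  have h' : u⁻¹ * v ∈ Subgroup.center (threeJ3 F ω) := QuotientGroup.eq.1 h
  obtain ⟨z, hz⟩ : ∃ z, z = u⁻¹ * v := ⟨_, rfl⟩
  rw [← hz] at h'
  have hz3 : z ^ 3 = 1 := by
    have h3 : (⟨z, h'⟩ : Subgroup.center (threeJ3 F ω)) ^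
        Nat.card (Subgroup.center (threeJ3 F ω)) = 1 := pow_card_eq_one'
    rw [card_center ω hω h0 h1] at h3
    exact congrArg Subtype.val h3
  have hv' : v = u * z := by rw [hz]; group
  have hcomm : u * z = z * u := (Subgroup.mem_center_iff.1 h' u)
  have hz2 : z ^ 2 = 1 := by
    have e : v * v = (u * u) * z ^ 2 := by
      rw [hv']
      calc u * z * (u * z) = u * (z * u) * z := by group
        _ = u * (u * z) * z := by rw [hcomm]
        _ = u * u * z ^ 2 := by rw [pow_two]; group
    rw [hv, hu, one_mul] at e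
    exact e.symm
  have hz1 : z = 1 := by
    calc z = z ^ 3 * (z ^ 2)⁻¹ := by group
      _ = 1 := by rw [hz3, hz2]; simp
  rw [hv', hz1, mul_one]

omit [CharP F 2] [Finite F] in
/-- the quotient map is injective on a subgroup meeting the centre trivially -/
theorem piJ_injOn {H : Subgroup (threeJ3 F ω)} (h : H ⊓ Subgroup.center (threeJ3 F ω) = ⊥)
    {x y : threeJ3 F ω} (hx : x ∈ H) (hy : y ∈ H) (hxy : piJ ω x = piJ ω y) : x = y := by
  have h' : x⁻¹ * y ∈ Subgroup.center (threeJ3 F ω) := QuotientGroup.eq.1 hxy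
  have h2 : x⁻¹ * y ∈ H ⊓ Subgroup.center (threeJ3 F ω) := ⟨H.mul_mem (H.inv_mem hx) hy, h'⟩
  rw [h, Subgroup.mem_bot] at h2
  exact (inv_mul_eq_one.1 h2)

omit [CharP F 2] in
theorem card_map_piJ {H : Subgroup (threeJ3 F ω)} (h : H ⊓ Subgroup.center (threeJ3 F ω) = ⊥) :
    Nat.card (H.map (piJ ω)) = Nat.card H := by
  have hinj : Function.Injective ((piJ ω).comp H.subtype) := by
    intro x y hxy
    exact Subtype.ext (piJ_injOn ω h x.2 y.2 hxy)
  have e : H.map (piJ ω) = ((piJ ω).comp H.subtype).range := by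
    rw [MonoidHom.range_comp, Subgroup.range_subtype]
  rw [e]
  exact Nat.card_range_of_injective hinj

include hω h0 h1 in
/-- the centraliser of the image of the first generator has order at most 1920 -/
theorem card_centralizer_le
    (hI : ∀ e, memT Itab e → chkConjEntry Itab IGens IGinv Xc e = true)
    (X : threeJ3 F ω) (hX : valHom ω X = toMat F ω Xc) :
    Nat.card (Subgroup.centralizer ({piJ ω X} : Set (J3 F ω))) ≤ 1920 := by
  have hmul := toMat_mul4 F ω hω
  have hXX : X * X = 1 := by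
    apply valHom_injective ω
    rw [map_mul, hX, ← hmul, ← sq_eq, relX, toMat_ONE, map_one]
  -- the table gives 26163 conjugates
  have hk : ∀ m : setOfT (toMat F ω) Itab, ∃ k : threeJ3 F ω, valHom ω (k * X * k⁻¹) = m.1 := by
    rintro ⟨m, e, he, rfl⟩
    exact exists_conj_of_Itab ω hω hI X hX _ e he rfl
  choose k hk using hk
  let f : setOfT (toMat F ω) Itab → Set.range fun g : J3 F ω => g * piJ ω X * g⁻¹ :=
    fun m => ⟨piJ ω (k m * X * (k m)⁻¹), piJ ω (k m), by simp [map_mul, map_inv]⟩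
  have hf : Function.Injective f := by
    intro m m' hmm
    have h2 : piJ ω (k m * X * (k m)⁻¹) = piJ ω (k m' * X * (k m')⁻¹) := congrArg Subtype.val hmm
    have hinv : ∀ a : threeJ3 F ω, (a * X * a⁻¹) * (a * X * a⁻¹) = 1 := by
      intro a
      calc (a * X * a⁻¹) * (a * X * a⁻¹) = a * (X * X) * a⁻¹ := by group
        _ = 1 := by rw [hXX]; group
    have h3 := eq_of_piJ_eq ω hω h0 h1 (hinv _) (hinv _) h2
    apply Subtype.ext
    rw [← hk m, ← hk m', h3]
  have hcard : Nat.card (setOfT (toMat F ω) Itab) = 26163 := by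
    rw [card_setOfT (toMat F ω) (fun c d hc hd hcd => toMat_inj F ω h0 h1 hc hd hcd) Itab incI, lenI]
  have hle : 26163 ≤ Nat.card (Set.range fun g : J3 F ω => g * piJ ω X * g⁻¹) := by
    rw [← hcard]
    exact Nat.card_le_card_of_injective f hf
  have hmulc := card_range_conj_mul (piJ ω X)
  rw [card_J3 ω hω h0 h1] at hmulc
  by_contra hcon
  rw [not_le] at hcon
  have : 26163 * 1921 ≤ Nat.card (Set.range fun g : J3 F ω => g * piJ ω X * g⁻¹) *
      Nat.card (Subgroup.centralizer ({piJ ω X} : Set (J3 F ω))) :=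
    Nat.mul_le_mul hle (Nat.succ_le_of_lt hcon)
  omega

/-! ### The tables of the centraliser and of its largest normal 2-subgroup -/

theorem closedC0 : ∀ e, memT C0tab e → chkClosedEntry C0tab C0gens e = true := by
  rintro e ⟨B, hB, p, hp, c, hc, he⟩
  simp only [C0tab, List.mem_cons, List.not_mem_nil, or_false] at hB
  subst hB
  exact allB_of_mem chkC0 hp hc he

theorem closedQ : ∀ e, memT Qtab e → chkClosedEntry Qtab Qgens e = true := by
  rintro e ⟨B, hB, p, hp, c, hc, he⟩
  simp only [Qtab, List.mem_cons, List.not_mem_nil, or_false] at hB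
  subst hB
  exact allB_of_mem chkQ hp hc he

theorem rootC0 : ∃ e, memT C0tab e ∧ codeOf e = ONE := by
  obtain ⟨e, he, h⟩ := rootC0_mem
  exact ⟨e, mem_tab_of_chunk0 (T := C0tab) (B := C0blk0) rfl (p := C0blk0.headD []) rfl
    (c := C0c_0_0_0) rfl he, h⟩

theorem rootQ : ∃ e, memT Qtab e ∧ codeOf e = ONE := by
  obtain ⟨e, he, h⟩ := rootQ_mem
  exact ⟨e, mem_tab_of_chunk0 (T := Qtab) (B := Qblk0) rfl (p := Qblk0.headD []) rfl
    (c := Qc_0_0_0) rfl he, h⟩

include hω in
theorem C0gens_le : Submonoid.closure (setOfL (toMat F ω) C0gens) ≤ Gm ω := by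
  rw [Submonoid.closure_le]
  rintro _ ⟨g, hg, rfl⟩
  rw [← C0dec_eq] at hg
  exact Sxy_le_Gm ω hω (decRH_mem_Sxy ω hω _ _ hg)

include hω in
/-- a list of codes from a closed table generates a submonoid of the submonoid of the table -/
theorem closure_le_of_all_any {T : Tab} {gs gs' : List Nat}
    (h : ∀ e, memT T e → chkClosedEntry T gs e = true)
    (hroot : ∃ e, memT T e ∧ codeOf e = ONE)
    (hall : (gs'.all fun g => (flatT T).any fun e => codeOf e == g) = true) :
    Submonoid.closure (setOfL (toMat F ω) gs') ≤ Submonoid.closure (setOfL (toMat F ω) gs) := by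
  rw [Submonoid.closure_le]
  rintro _ ⟨g, hg, rfl⟩
  rw [List.all_eq_true] at hall
  have h2 := hall g hg
  rw [List.any_eq_true] at h2
  obtain ⟨e, he, hce⟩ := h2
  rw [← setOfT_eq_closure (toMat F ω) (toMat_mul4 F ω hω) (toMat_ONE F ω) h hroot]
  exact ⟨e, (memT_iff _ _).2 he, by rw [eq_of_beq hce]⟩

/-- the centraliser of the first generator, without the scalars -/
def C0sub : Subgroup (threeJ3 F ω) := pull ω (Submonoid.closure (setOfL (toMat F ω) C0gens))

/-- the largest normal 2-subgroup of the centraliser -/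
def Q0 : Subgroup (threeJ3 F ω) := pull ω (Submonoid.closure (setOfL (toMat F ω) Qgens))

include hω h0 h1 in
theorem card_C0sub : Nat.card (C0sub ω) = 1920 := by
  unfold C0sub
  rw [card_pull_table ω hω h0 h1 closedC0 rootC0 incC0 (C0gens_le ω hω), lenC0]

include hω in
theorem mem_C0sub {g : threeJ3 F ω} :
    g ∈ C0sub ω ↔ ∃ e, memT C0tab e ∧ valHom ω g = toMat F ω (codeOf e) :=
  mem_pull_table ω hω closedC0 rootC0

include hω in
theorem Qgens_le_P2 : Submonoid.closure (setOfL (toMat F ω) Qgens) ≤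
    Submonoid.closure (setOfL (toMat F ω) P2gens) :=
  closure_le_of_all_any ω hω closedP2 rootP2 Qgens_P2

include hω in
theorem Qgens_le_C0 : Submonoid.closure (setOfL (toMat F ω) Qgens) ≤
    Submonoid.closure (setOfL (toMat F ω) C0gens) :=
  closure_le_of_all_any ω hω closedC0 rootC0 Qgens_C0

include hω h0 h1 in
theorem card_Q0 : Nat.card (Q0 ω) = 32 := by
  unfold Q0
  rw [card_pull_table ω hω h0 h1 closedQ rootQ incQ
    ((Qgens_le_P2 ω hω).trans (P2gens_le ω hω)), lenQ]

include hω in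
theorem mem_Q0 {g : threeJ3 F ω} :
    g ∈ Q0 ω ↔ ∃ e, memT Qtab e ∧ valHom ω g = toMat F ω (codeOf e) :=
  mem_pull_table ω hω closedQ rootQ

include hω in
theorem Q0_le_P2 : Q0 ω ≤ P2 ω := fun _ hg => Qgens_le_P2 ω hω hg

include hω in
theorem Q0_le_C0sub : Q0 ω ≤ C0sub ω := fun _ hg => Qgens_le_C0 ω hω hg

/-! ### Facts about the subgroups -/

/-- a generator of a submonoid inside the group is the matrix of an element of the pulled back
subgroup -/
theorem exists_lift_gen {gs : List Nat} (hgs : Submonoid.closure (setOfL (toMat F ω) gs) ≤ Gm ω)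
    {g : Nat} (hg : g ∈ gs) :
    ∃ k ∈ pull ω (Submonoid.closure (setOfL (toMat F ω) gs)), valHom ω k = toMat F ω g := by
  have hm : toMat F ω g ∈ Submonoid.closure (setOfL (toMat F ω) gs) :=
    Submonoid.subset_closure ⟨g, hg, rfl⟩
  obtain ⟨k, hk⟩ := exists_of_mem_Gm ω (hgs hm)
  exact ⟨k, by rw [mem_pull, hk]; exact hm, hk⟩

include hω in
/-- an entry of a closed table is the matrix of an element of the pulled back subgroup -/
theorem exists_lift_entry {T : Tab} {gs : List Nat}
    (h : ∀ e, memT T e → chkClosedEntry T gs e = true)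
    (hroot : ∃ e, memT T e ∧ codeOf e = ONE)
    (hgs : Submonoid.closure (setOfL (toMat F ω) gs) ≤ Gm ω) {e : Nat} (he : memT T e) :
    ∃ k ∈ pull ω (Submonoid.closure (setOfL (toMat F ω) gs)),
      valHom ω k = toMat F ω (codeOf e) := by
  have hm : toMat F ω (codeOf e) ∈ Submonoid.closure (setOfL (toMat F ω) gs) := by
    rw [← SetLike.mem_coe,
      ← setOfT_eq_closure (toMat F ω) (toMat_mul4 F ω hω) (toMat_ONE F ω) h hroot]
    exact ⟨e, he, rfl⟩
  obtain ⟨k, hk⟩ := exists_of_mem_Gm ω (hgs hm)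
  exact ⟨k, by rw [mem_pull, hk]; exact hm, hk⟩

/-- a pulled back subgroup lies in the subgroup generated by lifts of its generators -/
theorem pull_le_closure (gs : List Nat) (S : Set (threeJ3 F ω))
    (h : ∀ g ∈ gs, ∃ k ∈ Subgroup.closure S, valHom ω k = toMat F ω g) :
    pull ω (Submonoid.closure (setOfL (toMat F ω) gs)) ≤ Subgroup.closure S := by
  intro x hx
  rw [mem_pull] at hx
  have key : ∀ m ∈ Submonoid.closure (setOfL (toMat F ω) gs),
      ∃ k ∈ Subgroup.closure S, valHom ω k = m := by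
    intro m hm
    induction hm using Submonoid.closure_induction with
    | mem y hy =>
      obtain ⟨c, hc, rfl⟩ := hy
      exact h c hc
    | one => exact ⟨1, Subgroup.one_mem _, map_one _⟩
    | mul a b _ _ iha ihb =>
      obtain ⟨k1, hk1, e1⟩ := iha
      obtain ⟨k2, hk2, e2⟩ := ihb
      exact ⟨k1 * k2, Subgroup.mul_mem _ hk1 hk2, by rw [map_mul, e1, e2]⟩
  obtain ⟨k, hk, e⟩ := key _ hx
  rw [← valHom_injective ω e]
  exact hk

include hω in
/-- the elements of the centraliser commute with the first generator -/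
theorem C0sub_comm {g : threeJ3 F ω} (hg : g ∈ C0sub ω) (X : threeJ3 F ω)
    (hX : valHom ω X = toMat F ω Xc) : g * X = X * g := by
  have hmul := toMat_mul4 F ω hω
  apply valHom_injective ω
  rw [map_mul, map_mul, hX]
  have hC : Submonoid.closure (setOfL (toMat F ω) C0gens) ≤
      Submonoid.centralizer {toMat F ω Xc} := by
    rw [Submonoid.closure_le]
    rintro _ ⟨c, hc, rfl⟩
    rw [SetLike.mem_coe, Submonoid.mem_centralizer_iff]
    intro m hm
    rw [Set.mem_singleton_iff] at hm
    subst hm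
    have h := C0gens_comm
    rw [List.all_eq_true] at h
    have h2 := eq_of_beq (h c hc)
    rw [← hmul, ← hmul, h2]
  have := hC hg
  rw [Submonoid.mem_centralizer_iff] at this
  exact (this _ (Set.mem_singleton _)).symm

include hω h0 h1 in
theorem C0sub_inf_center : C0sub ω ⊓ Subgroup.center (threeJ3 F ω) = ⊥ := by
  rw [eq_bot_iff]
  rintro g ⟨hg, hc⟩
  rw [Subgroup.mem_bot]
  obtain ⟨e, he, hv⟩ := (mem_C0sub ω hω).1 hg
  have hs := C0_noscal
  rw [List.all_eq_true] at hs
  have h2 := hs e ((memT_iff _ _).1 he)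
  rw [Bool.and_eq_true, bne_iff_ne, bne_iff_ne] at h2
  apply valHom_injective ω
  rw [map_one]
  rcases (mem_center_iff ω hω h0 h1).1 hc with h | h | h
  · rw [h, toMat_ONE]
  · exfalso; apply h2.1
    exact toMat_inj F ω h0 h1 (codeOf_lt e) Z_lt.1 (by rw [← hv, h])
  · exfalso; apply h2.2
    exact toMat_inj F ω h0 h1 (codeOf_lt e) Z_lt.2.1 (by rw [← hv, h])

include hω h0 h1 in
theorem P2_inf_center : P2 ω ⊓ Subgroup.center (threeJ3 F ω) = ⊥ := by
  apply Disjoint.eq_bot
  apply Subgroup.disjoint_of_coprime_natCard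
  rw [card_P2 ω hω h0 h1, card_center ω hω h0 h1]
  decide

include hω h0 h1 in
/-- the centraliser of the image of the first generator is the image of `C0sub` -/
theorem map_C0sub (hI : ∀ e, memT Itab e → chkConjEntry Itab IGens IGinv Xc e = true)
    (X : threeJ3 F ω) (hX : valHom ω X = toMat F ω Xc) :
    (C0sub ω).map (piJ ω) = Subgroup.centralizer ({piJ ω X} : Set (J3 F ω)) := by
  apply Subgroup.eq_of_le_of_card_ge
  · rintro _ ⟨g, hg, rfl⟩
    rw [Subgroup.mem_centralizer_iff]
    intro y hy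
    rw [Set.mem_singleton_iff] at hy
    subst hy
    rw [← map_mul, ← map_mul, C0sub_comm ω hω hg X hX]
  · rw [card_map_piJ ω (C0sub_inf_center ω hω h0 h1), card_C0sub ω hω h0 h1]
    exact card_centralizer_le ω hω h0 h1 hI X hX

include hω in
theorem X_mem_of_any {T : Tab} {gs : List Nat}
    (h : ∀ e, memT T e → chkClosedEntry T gs e = true)
    (hroot : ∃ e, memT T e ∧ codeOf e = ONE)
    (hany : ((flatT T).any fun e => codeOf e == Xc) = true)
    (X : threeJ3 F ω) (hX : valHom ω X = toMat F ω Xc) :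
    X ∈ pull ω (Submonoid.closure (setOfL (toMat F ω) gs)) := by
  rw [mem_pull_table ω hω h hroot]
  rw [List.any_eq_true] at hany
  obtain ⟨e, he, hce⟩ := hany
  exact ⟨e, (memT_iff _ _).2 he, by rw [hX, eq_of_beq hce]⟩

/-- the matrices normalising the set of matrices of the table `Qtab` -/
def normQ : Submonoid (Matrix F9 F9 F) where
  carrier := {m | ∀ q ∈ setOfT (toMat F ω) Qtab, ∃ q' ∈ setOfT (toMat F ω) Qtab, m * q = q' * m}
  mul_mem' := by
    intro a b ha hb q hq
    obtain ⟨q1, hq1, e1⟩ := hb q hq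
    obtain ⟨q2, hq2, e2⟩ := ha q1 hq1
    exact ⟨q2, hq2, by rw [mul_assoc, e1, ← mul_assoc, e2, mul_assoc]⟩
  one_mem' := fun q hq => ⟨q, hq, by rw [one_mul, mul_one]⟩

include hω in
/-- the centraliser normalises `Q0` -/
theorem conj_mem_Q0 {c q : threeJ3 F ω} (hc : c ∈ C0sub ω) (hq : q ∈ Q0 ω) :
    c * q * c⁻¹ ∈ Q0 ω := by
  have hmul := toMat_mul4 F ω hω
  have hN : Submonoid.closure (setOfL (toMat F ω) C0gens) ≤ normQ ω := by
    rw [Submonoid.closure_le]
    rintro _ ⟨g, hg, rfl⟩
    rintro _ ⟨e, he, rfl⟩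
    have h := C0_normQ
    rw [List.all_eq_true] at h
    have h2 := h g hg
    rw [List.all_eq_true] at h2
    have h3 := h2 e ((memT_iff _ _).1 he)
    rw [List.any_eq_true] at h3
    obtain ⟨e', he', hee⟩ := h3
    refine ⟨_, ⟨e', (memT_iff _ _).2 he', rfl⟩, ?_⟩
    rw [← hmul, ← hmul, eq_of_beq hee]
  obtain ⟨e, he, hv⟩ := (mem_Q0 ω hω).1 hq
  obtain ⟨_, ⟨e', he', rfl⟩, hee⟩ := hN hc _ ⟨e, he, hv⟩
  rw [mem_Q0 ω hω]
  refine ⟨e', he', ?_⟩
  rw [map_mul, map_mul, hee, mul_assoc, ← map_mul, mul_inv_cancel, map_one, mul_one]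

include hω h0 h1 in
/-- an entry commuting with lifts of the generators `gs'` passes the commutation test -/
theorem all_comm_of_comm {gs' : List Nat} (hgs' : Submonoid.closure (setOfL (toMat F ω) gs') ≤ Gm ω)
    {c : threeJ3 F ω} {e : Nat} (hv : valHom ω c = toMat F ω (codeOf e))
    (hcomm : ∀ q ∈ pull ω (Submonoid.closure (setOfL (toMat F ω) gs')), c * q = q * c) :
    (gs'.all fun g => mul4 g (codeOf e) == mul4 (codeOf e) g) = true := by
  have hmul := toMat_mul4 F ω hω
  rw [List.all_eq_true]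
  intro g hg
  obtain ⟨k, hk, hkv⟩ := exists_lift_gen ω hgs' hg
  have h2 := congrArg (valHom ω) (hcomm k hk)
  rw [map_mul, map_mul, hv, hkv, ← hmul, ← hmul] at h2
  have := toMat_inj F ω h0 h1 (mul4_lt _ _) (mul4_lt _ _) h2
  rw [this]
  exact beq_self_eq_true _

include hω h0 h1 in
/-- `Q0` contains its centraliser in `C0sub` -/
theorem mem_Q0_of_comm {c : threeJ3 F ω} (hc : c ∈ C0sub ω)
    (hcomm : ∀ q ∈ Q0 ω, c * q = q * c) : c ∈ Q0 ω := by
  obtain ⟨e, he, hv⟩ := (mem_C0sub ω hω).1 hc
  have h := C0_centQ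
  rw [List.all_eq_true] at h
  have h2 := h e ((memT_iff _ _).1 he)
  have h3 := all_comm_of_comm ω hω h0 h1 ((Qgens_le_P2 ω hω).trans (P2gens_le ω hω)) hv hcomm
  rw [h3] at h2
  simp only [Bool.not_true, Bool.false_or] at h2
  rw [List.any_eq_true] at h2
  obtain ⟨q, hq, hqe⟩ := h2
  rw [mem_Q0 ω hω]
  exact ⟨q, (memT_iff _ _).2 hq, by rw [hv, eq_of_beq hqe]⟩

include hω h0 h1 in
/-- the centre of the Sylow 2-subgroup -/
theorem P2_center_eq {z : threeJ3 F ω} (hz : z ∈ P2 ω) (hcomm : ∀ q ∈ P2 ω, z * q = q * z)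
    (X : threeJ3 F ω) (hX : valHom ω X = toMat F ω Xc) : z = 1 ∨ z = X := by
  obtain ⟨e, he, hv⟩ := (mem_P2 ω hω).1 hz
  have h := P2_center
  rw [List.all_eq_true] at h
  have h2 := h e ((memT_iff _ _).1 he)
  have h3 := all_comm_of_comm ω hω h0 h1 (P2gens_le ω hω) hv hcomm
  rw [h3] at h2
  simp only [Bool.not_true, Bool.false_or, Bool.or_eq_true] at h2
  rcases h2 with h2 | h2
  · left
    apply valHom_injective ω
    rw [hv, eq_of_beq h2, toMat_ONE, map_one]
  · right
    apply valHom_injective ω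
    rw [hv, eq_of_beq h2, hX]

include hω in
/-- `C0sub` is generated by elements of order dividing 8 -/
theorem C0sub_le_closure :
    C0sub ω ≤ Subgroup.closure {h : threeJ3 F ω | h ∈ C0sub ω ∧ h ^ 8 = 1} := by
  have hmul := toMat_mul4 F ω hω
  apply pull_le_closure
  intro g hg
  obtain ⟨k, hk, hkv⟩ := exists_lift_gen ω (C0gens_le ω hω) hg
  refine ⟨k, Subgroup.subset_closure ⟨hk, ?_⟩, hkv⟩
  apply valHom_injective ω
  have h := C0gens_two
  rw [List.all_eq_true] at h
  have h2 := eq_of_beq (h g hg)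
  have e8 : (8 : ℕ) = 2 * 2 * 2 := by norm_num
  rw [map_pow, hkv, map_one, ← toMat_ONE F ω, ← h2, dec_sq (toMat F ω) hmul,
    dec_sq (toMat F ω) hmul, dec_sq (toMat F ω) hmul, ← pow_mul, ← pow_mul]

include hω h0 h1 in
/-- the Sylow 2-subgroup is generated by involutions -/
theorem P2_le_closure :
    P2 ω ≤ Subgroup.closure {s : threeJ3 F ω | s ∈ P2 ω ∧ s * s = 1 ∧ s ≠ 1} := by
  have hmul := toMat_mul4 F ω hω
  apply pull_le_closure
  intro g hg
  have h := P2prod_any
  rw [List.all_eq_true] at h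
  have h2 := h g hg
  rw [List.any_eq_true] at h2
  obtain ⟨w, -, hw⟩ := h2
  rw [Bool.and_eq_true] at hw
  rw [← eq_of_beq hw.1]
  have key : ∀ w : List Nat, (w.all fun s => sq s == ONE && !(s == ONE) &&
      (flatT P2tab).any fun e => codeOf e == s) = true →
      ∃ k ∈ Subgroup.closure {s : threeJ3 F ω | s ∈ P2 ω ∧ s * s = 1 ∧ s ≠ 1},
        valHom ω k = toMat F ω (prodL w) := by
    intro w
    induction w with
    | nil =>
      intro _
      exact ⟨1, Subgroup.one_mem _, by rw [map_one]; exact (toMat_ONE F ω).symm⟩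
    | cons s w ih =>
      intro hall
      rw [List.all_cons, Bool.and_eq_true] at hall
      obtain ⟨k, hk, hkv⟩ := ih hall.2
      have hs := hall.1
      rw [Bool.and_eq_true, Bool.and_eq_true, List.any_eq_true] at hs
      obtain ⟨⟨hs1, hs2⟩, e, he, hes⟩ := hs
      obtain ⟨u, hu, huv⟩ := exists_lift_entry ω hω closedP2 rootP2 (P2gens_le ω hω)
        ((memT_iff _ _).2 he)
      rw [eq_of_beq hes] at huv
      refine ⟨u * k, Subgroup.mul_mem _ (Subgroup.subset_closure ⟨hu, ?_, ?_⟩) hk, ?_⟩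
      · apply valHom_injective ω
        rw [map_mul, huv, ← hmul, ← sq_eq, eq_of_beq hs1, toMat_ONE, map_one]
      · intro h1'
        rw [h1', map_one, ← toMat_ONE F ω] at huv
        have hlt : s < 2 ^ 162 := by
          rw [← eq_of_beq hes]; exact codeOf_lt e
        have := toMat_inj F ω h0 h1 (by decide) hlt huv
        rw [← this] at hs2
        simp at hs2
      · rw [map_mul, huv, hkv, ← hmul]
        rfl
  exact key w hw.2

include hω h0 h1 in
/-- every involution of the Sylow 2-subgroup is conjugate to the first generator -/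
theorem exists_conj_of_P2 {s : threeJ3 F ω} (hs : s ∈ P2 ω) (hss : s * s = 1) (hs1 : s ≠ 1)
    (X : threeJ3 F ω) (hX : valHom ω X = toMat F ω Xc) : ∃ k : threeJ3 F ω, k * s * k⁻¹ = X := by
  have hmul := toMat_mul4 F ω hω
  obtain ⟨e, he, hv⟩ := (mem_P2 ω hω).1 hs
  have he' := (memT_iff _ _).1 he
  obtain ⟨i, hi, hie⟩ := List.getElem_of_mem he'
  have hlen : (flatT P2tab).length = 128 := lenP2
  have h := invCerts_idx
  rw [List.all_eq_true] at h
  have h2 := h i (List.mem_range.2 (by omega))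
  have hget : (flatT P2tab).getD i 0 = e := by rw [List.getD_eq_getElem _ _ hi, hie]
  rw [hget] at h2
  have hsq : sq (codeOf e) = ONE := by
    apply toMat_inj F ω h0 h1 (by rw [sq_eq]; exact mul4_lt _ _) (by decide)
    rw [sq_eq, hmul, ← hv, ← map_mul, hss, map_one, toMat_ONE]
  have hne : codeOf e ≠ ONE := by
    intro h'
    apply hs1
    apply valHom_injective ω
    rw [hv, h', toMat_ONE, map_one]
  rw [hsq] at h2
  simp only [beq_self_eq_true, Bool.not_true, Bool.false_or, Bool.or_eq_true, beq_iff_eq] at h2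
  rcases h2 with h2 | h2
  · exact absurd h2 hne
  · unfold conjW at h2
    obtain ⟨k, hk⟩ := exists_of_word ω hω (invCerts.getD i [])
    have hk' : valHom ω k⁻¹ = toMat F ω (evL (invW (invCerts.getD i []))) := by
      have h1' : valHom ω k⁻¹ * valHom ω k = 1 := by rw [← map_mul, inv_mul_cancel, map_one]
      calc valHom ω k⁻¹ = valHom ω k⁻¹ * (toMat F ω (evL (invCerts.getD i [])) *
            toMat F ω (evL (invW (invCerts.getD i [])))) := by
            rw [evL_mul_inv ω hω, mul_one]
        _ = (valHom ω k⁻¹ * valHom ω k) * toMat F ω (evL (invW (invCerts.getD i []))) := by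
            rw [hk, mul_assoc]
        _ = _ := by rw [h1', one_mul]
    refine ⟨k, ?_⟩
    apply valHom_injective ω
    rw [map_mul, map_mul, hk, hv, hk', hX, ← h2, hmul, hmul, mul_assoc]

include hω h0 h1 in
/-- every involution of the group is conjugate to the first generator -/
theorem exists_conj_of_sq {s : threeJ3 F ω} (hss : s * s = 1) (hs1 : s ≠ 1)
    (X : threeJ3 F ω) (hX : valHom ω X = toMat F ω Xc) : ∃ k : threeJ3 F ω, k * s * k⁻¹ = X := by
  have : Fact (Nat.Prime 2) := ⟨Nat.prime_two⟩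
  have hord : orderOf s = 2 := orderOf_eq_prime (by rw [pow_two]; exact hss) hs1
  have hpg : IsPGroup 2 (Subgroup.zpowers s) := by
    apply IsPGroup.of_card (n := 1)
    rw [Nat.card_zpowers, hord, pow_one]
  have hP2 : IsPGroup 2 (P2 ω) := IsPGroup.of_card (n := 7) (by rw [card_P2 ω hω h0 h1]; norm_num)
  obtain ⟨Q, hQ⟩ := hpg.exists_le_sylow
  obtain ⟨c, hc⟩ := MulAction.exists_smul_eq (threeJ3 F ω) Q (hP2.toSylow (index_P2 ω hω h0 h1))
  have hsQ : s ∈ (Q : Subgroup (threeJ3 F ω)) := hQ (Subgroup.mem_zpowers _)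
  have h1' : MulAut.conj c • s ∈ MulAut.conj c • (Q : Subgroup (threeJ3 F ω)) :=
    Subgroup.smul_mem_pointwise_smul _ _ _ hsQ
  rw [← Sylow.coe_subgroup_smul, hc, IsPGroup.toSylow_coe] at h1'
  rw [MulAut.smul_def, MulAut.conj_apply] at h1'
  have h2 : (c * s * c⁻¹) * (c * s * c⁻¹) = 1 := by
    calc (c * s * c⁻¹) * (c * s * c⁻¹) = c * (s * s) * c⁻¹ := by group
      _ = 1 := by rw [hss]; group
  have h3 : c * s * c⁻¹ ≠ 1 := by
    intro h
    apply hs1
    have := congrArg (fun x => c⁻¹ * x * c) h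
    simpa [mul_assoc] using this
  obtain ⟨k, hk⟩ := exists_conj_of_P2 ω hω h0 h1 h1' h2 h3 X hX
  refine ⟨k * c, ?_⟩
  rw [← hk]
  group

end field

end Cfsg.Agent.Helper14.J3
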