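import Mathlib
import Cfsg.Agent.Helper25.PSLFusionA

set_option autoImplicit false

namespace Cfsg.Agent.Helper14.J3

open Cfsg Cfsg.FusionSystem

/-- Local hypotheses on a 2-subgroup `P` of `G` from which the simplicity of the 2-fusion system
follows: one class of involutions, `P` is generated by involutions, its centre has order two,
generated by `t`, and the centraliser of `t` is generated by 2-elements and normalises a subgroup
`Q` of `P` containing its own centraliser. -/
def TwoLocalHyp (G : Type*) [Group G] (P : Subgroup G) : Prop :=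
  (∀ x y : G, orderOf x = 2 → orderOf y = 2 → IsConj x y) ∧
  P ≤ Subgroup.closure {x : G | x ∈ P ∧ orderOf x = 2} ∧
  ∃ t ∈ P, orderOf t = 2 ∧ (∀ x ∈ P, t * x = x * t) ∧
    (∀ z ∈ P, (∀ x ∈ P, z * x = x * z) → z = 1 ∨ z = t) ∧
    ∃ Q : Subgroup G, Q ≤ P ∧
      (∀ c ∈ Subgroup.centralizer ({t} : Set G), ∀ q ∈ Q, c * q * c⁻¹ ∈ Q) ∧
      Subgroup.centralizer (Q : Set G) ≤ Q ∧
      Subgroup.centralizer ({t} : Set G) ≤
        Subgroup.closure {h : G | h ∈ Subgroup.centralizer ({t} : Set G) ∧
          ∃ k : ℕ, orderOf h = 2 ^ k}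

theorem isSimple_of_twoLocalHyp {G : Type*} [Group G] [Finite G] (S : Sylow 2 G)
    (h : TwoLocalHyp G (S : Subgroup G)) : (groupFusionSystem (S : Subgroup G)).IsSimple 2 := by
  have : Fact (Nat.Prime 2) := ⟨Nat.prime_two⟩
  obtain ⟨hconj, hgen, t, htS, ht2, htc, hcen, Q, hQS, hnorm, hQc, hCgen⟩ := h
  have ht1 : t ≠ 1 := by
    intro h1
    rw [h1, orderOf_one] at ht2
    norm_num at ht2
  apply Cfsg.Agent.Helper25.groupFusionSystem_isSimple_of_centric_gen 2 S
  · -- `S ≠ ⊥`
    intro hbot
    rw [hbot, Subgroup.mem_bot] at htS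
    exact ht1 htS
  · -- no proper nontrivial strongly closed subgroup
    intro T hTS hT
    by_cases hTb : T = ⊥
    · exact Or.inl hTb
    · right
      apply le_antisymm hTS
      -- an involution in `T`
      have hTp : IsPGroup 2 T := S.isPGroup'.to_le hTS
      obtain ⟨n, hn⟩ := hTp.exists_card_eq
      have hn0 : n ≠ 0 := by
        intro h0
        rw [h0, pow_zero] at hn
        exact hTb (Subgroup.card_eq_one.1 hn)
      have hdvd : 2 ∣ Nat.card T := by
        rw [hn]; exact dvd_pow_self 2 hn0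
      obtain ⟨u, hu⟩ := exists_prime_orderOf_dvd_card' 2 hdvd
      have hu' : orderOf (u : G) = 2 := by rw [Subgroup.orderOf_coe]; exact hu
      refine hgen.trans ?_
      rw [Subgroup.closure_le]
      rintro s ⟨hsS, hs2⟩
      obtain ⟨g, hg⟩ := isConj_iff.1 (hconj (u : G) s hu' hs2)
      rw [SetLike.mem_coe, ← hg]
      apply hT _ u.2
      rw [hg]; exact hsS
  · -- the normaliser of `S`
    intro g hg
    apply Subgroup.subset_closure
    refine ⟨hg, Q, ⟨hQS, ?_⟩, ?_⟩
    · -- `Q` is centric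
      rintro Q' ⟨φ, ⟨-, -, a, ha⟩, rfl⟩ y hy
      have hyc : y ∈ Subgroup.centralizer ((φ.range : Subgroup G) : Set G) := hy.2
      have h1 : a⁻¹ * y * a ∈ Subgroup.centralizer (Q : Set G) := by
        rw [Subgroup.mem_centralizer_iff]
        intro q hq
        have hq' : a * q * a⁻¹ ∈ (φ.range : Subgroup G) := ⟨⟨q, hq⟩, ha ⟨q, hq⟩⟩
        have h2 := (Subgroup.mem_centralizer_iff.1 hyc) _ hq'
        calc q * (a⁻¹ * y * a) = a⁻¹ * (a * q * a⁻¹ * y) * a := by group
          _ = a⁻¹ * (y * (a * q * a⁻¹)) * a := by rw [h2]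
          _ = a⁻¹ * y * a * q := by group
      have h3 := hQc h1
      refine ⟨⟨a⁻¹ * y * a, h3⟩, ?_⟩
      rw [ha]
      show a * (a⁻¹ * y * a) * a⁻¹ = y
      group
    · -- `g` centralises `t`
      have hgn := Subgroup.mem_normalizer_iff.1 hg
      have hgi := Subgroup.mem_normalizer_iff.1 (Subgroup.inv_mem _ hg)
      have h1 : g * t * g⁻¹ ∈ (S : Subgroup G) := (hgn t).1 htS
      have h2 : ∀ x ∈ (S : Subgroup G), g * t * g⁻¹ * x = x * (g * t * g⁻¹) := by
        intro x hx
        have hx' : g⁻¹ * x * g⁻¹⁻¹ ∈ (S : Subgroup G) := (hgi x).1 hx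
        rw [inv_inv] at hx'
        have h3 := htc _ hx'
        calc g * t * g⁻¹ * x = g * (t * (g⁻¹ * x * g)) * g⁻¹ := by group
          _ = g * ((g⁻¹ * x * g) * t) * g⁻¹ := by rw [h3]
          _ = x * (g * t * g⁻¹) := by group
      have h4 : g * t * g⁻¹ = t := by
        rcases hcen _ h1 h2 with h5 | h5
        · exfalso
          apply ht1
          have := congrArg (fun x => g⁻¹ * x * g) h5
          simpa [mul_assoc] using this
        · exact h5
      have hgC : g ∈ Subgroup.centralizer ({t} : Set G) := by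
        rw [Subgroup.mem_centralizer_iff]
        intro x hx
        rw [Set.mem_singleton_iff] at hx
        subst hx
        calc x * g = (g * x * g⁻¹) * g := by rw [h4]
          _ = g * x := by group
      have hCN : Subgroup.centralizer ({t} : Set G) ≤ Subgroup.normalizer (Q : Set G) := by
        intro c hc
        rw [Subgroup.mem_normalizer_iff]
        intro q
        constructor
        · exact hnorm c hc q
        · intro hq
          have := hnorm c⁻¹ (Subgroup.inv_mem _ hc) _ hq
          rw [inv_inv] at this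
          have e : c⁻¹ * (c * q * c⁻¹) * c = q := by group
          rwa [e] at this
      refine (Subgroup.closure_mono ?_) (hCgen hgC)
      rintro x ⟨hx, hk⟩
      exact ⟨hCN hx, hk⟩

/-- the hypotheses are transported by isomorphisms -/
theorem TwoLocalHyp.map {J G : Type*} [Group J] [Group G] {P : Subgroup J}
    (h : TwoLocalHyp J P) (ψ : J ≃* G) : TwoLocalHyp G (P.map ψ.toMonoidHom) := by
  obtain ⟨hconj, hgen, t, htP, ht2, htc, hcen, Q, hQP, hnorm, hQc, hCgen⟩ := h
  have hord : ∀ x : J, orderOf (ψ x) = orderOf x := fun x => MulEquiv.orderOf_eq ψ x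
  have hmemC : ∀ c : J, ψ c ∈ Subgroup.centralizer ({ψ t} : Set G) ↔
      c ∈ Subgroup.centralizer ({t} : Set J) := by
    intro c
    rw [Subgroup.mem_centralizer_iff, Subgroup.mem_centralizer_iff]
    constructor
    · intro h x hx
      rw [Set.mem_singleton_iff] at hx
      subst hx
      apply ψ.injective
      rw [map_mul, map_mul]
      exact h _ (Set.mem_singleton _)
    · intro h x hx
      rw [Set.mem_singleton_iff] at hx
      subst hx
      rw [← map_mul, ← map_mul, h _ (Set.mem_singleton _)]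
  refine ⟨?_, ?_, ψ t, Subgroup.mem_map_of_mem _ htP, ?_, ?_, ?_, Q.map ψ.toMonoidHom,
    Subgroup.map_mono hQP, ?_, ?_, ?_⟩
  · intro x y hx hy
    have hx' : orderOf (ψ.symm x) = 2 := by rw [MulEquiv.orderOf_eq]; exact hx
    have hy' : orderOf (ψ.symm y) = 2 := by rw [MulEquiv.orderOf_eq]; exact hy
    have h2 := MonoidHom.map_isConj ψ.toMonoidHom (hconj _ _ hx' hy')
    simpa using h2
  · have h1 : P.map ψ.toMonoidHom ≤
        (Subgroup.closure {x : J | x ∈ P ∧ orderOf x = 2}).map ψ.toMonoidHom :=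
      Subgroup.map_mono hgen
    refine h1.trans ?_
    rw [MonoidHom.map_closure, Subgroup.closure_le]
    rintro _ ⟨x, ⟨hxP, hx2⟩, rfl⟩
    apply Subgroup.subset_closure
    refine ⟨Subgroup.mem_map_of_mem _ hxP, ?_⟩
    show orderOf (ψ x) = 2
    rw [hord]; exact hx2
  · rw [hord]; exact ht2
  · rintro _ ⟨x, hx, rfl⟩
    show ψ t * ψ x = ψ x * ψ t
    rw [← map_mul, ← map_mul, htc x hx]
  · rintro _ ⟨z, hz, rfl⟩ hcomm
    have h1 : z = 1 ∨ z = t := by
      apply hcen z hz
      intro x hx
      apply ψ.injective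
      rw [map_mul, map_mul]
      exact hcomm _ (Subgroup.mem_map_of_mem _ hx)
    rcases h1 with h | h
    · left
      show ψ z = 1
      rw [h, map_one]
    · right
      show ψ z = ψ t
      rw [h]
  · intro c' hc' q' hq'
    obtain ⟨q, hq, rfl⟩ := hq'
    obtain ⟨c, rfl⟩ := ψ.surjective c'
    have hc : c ∈ Subgroup.centralizer ({t} : Set J) := (hmemC c).1 hc'
    refine ⟨c * q * c⁻¹, hnorm c hc q hq, ?_⟩
    show ψ (c * q * c⁻¹) = ψ c * ψ q * (ψ c)⁻¹
    rw [map_mul, map_mul, map_inv]
  · intro y' hy'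
    obtain ⟨y, rfl⟩ := ψ.surjective y'
    have h1 : y ∈ Subgroup.centralizer (Q : Set J) := by
      rw [Subgroup.mem_centralizer_iff]
      intro q hq
      apply ψ.injective
      rw [map_mul, map_mul]
      exact (Subgroup.mem_centralizer_iff.1 hy') (ψ q) (Subgroup.mem_map_of_mem _ hq)
    exact Subgroup.mem_map_of_mem _ (hQc h1)
  · intro c' hc'
    obtain ⟨c, rfl⟩ := ψ.surjective c'
    have hc := (hmemC c).1 hc'
    have h1 : ψ c ∈ (Subgroup.closure {h : J | h ∈ Subgroup.centralizer ({t} : Set J) ∧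
        ∃ k : ℕ, orderOf h = 2 ^ k}).map ψ.toMonoidHom := Subgroup.mem_map_of_mem _ (hCgen hc)
    rw [MonoidHom.map_closure] at h1
    refine (Subgroup.closure_mono ?_) h1
    rintro _ ⟨x, ⟨hxC, k, hk⟩, rfl⟩
    refine ⟨(hmemC x).2 hxC, k, ?_⟩
    show orderOf (ψ x) = 2 ^ k
    rw [hord]; exact hk

end Cfsg.Agent.Helper14.J3
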