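import Mathlib
import Cfsg.Agent.Helper14.J3CP

set_option autoImplicit false

namespace Cfsg.Agent.Helper14.J3

theorem k_Ic_6_0_0 : Ic_6_0_0.all (chkConjEntry Itab IGens IGinv Xc) = true := by decide +kernel
theorem k_Ic_6_0_1 : Ic_6_0_1.all (chkConjEntry Itab IGens IGinv Xc) = true := by decide +kernel
theorem k_Ic_6_0_2 : Ic_6_0_2.all (chkConjEntry Itab IGens IGinv Xc) = true := by decide +kernel
theorem k_Ic_6_0_3 : Ic_6_0_3.all (chkConjEntry Itab IGens IGinv Xc) = true := by decide +kernel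
theorem k_Ic_6_0_4 : Ic_6_0_4.all (chkConjEntry Itab IGens IGinv Xc) = true := by decide +kernel
theorem k_Ic_6_0_5 : Ic_6_0_5.all (chkConjEntry Itab IGens IGinv Xc) = true := by decide +kernel
theorem k_Ic_6_0_6 : Ic_6_0_6.all (chkConjEntry Itab IGens IGinv Xc) = true := by decide +kernel
theorem k_Ic_6_0_7 : Ic_6_0_7.all (chkConjEntry Itab IGens IGinv Xc) = true := by decide +kernel
theorem k_Ic_6_0_8 : Ic_6_0_8.all (chkConjEntry Itab IGens IGinv Xc) = true := by decide +kernel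
theorem k_Ic_6_0_9 : Ic_6_0_9.all (chkConjEntry Itab IGens IGinv Xc) = true := by decide +kernel
theorem k_Ic_6_0_10 : Ic_6_0_10.all (chkConjEntry Itab IGens IGinv Xc) = true := by decide +kernel
theorem k_Ic_6_0_11 : Ic_6_0_11.all (chkConjEntry Itab IGens IGinv Xc) = true := by decide +kernel
theorem k_Ic_6_0_12 : Ic_6_0_12.all (chkConjEntry Itab IGens IGinv Xc) = true := by decide +kernel
theorem k_Ic_6_0_13 : Ic_6_0_13.all (chkConjEntry Itab IGens IGinv Xc) = true := by decide +kernel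
theorem k_Ic_6_0_14 : Ic_6_0_14.all (chkConjEntry Itab IGens IGinv Xc) = true := by decide +kernel
theorem k_Ic_6_0_15 : Ic_6_0_15.all (chkConjEntry Itab IGens IGinv Xc) = true := by decide +kernel
theorem k_Ic_6_1_0 : Ic_6_1_0.all (chkConjEntry Itab IGens IGinv Xc) = true := by decide +kernel
theorem k_Ic_6_1_1 : Ic_6_1_1.all (chkConjEntry Itab IGens IGinv Xc) = true := by decide +kernel
theorem k_Ic_6_1_2 : Ic_6_1_2.all (chkConjEntry Itab IGens IGinv Xc) = true := by decide +kernel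
theorem k_Ic_6_1_3 : Ic_6_1_3.all (chkConjEntry Itab IGens IGinv Xc) = true := by decide +kernel
theorem k_Ic_6_1_4 : Ic_6_1_4.all (chkConjEntry Itab IGens IGinv Xc) = true := by decide +kernel
theorem k_Ic_6_1_5 : Ic_6_1_5.all (chkConjEntry Itab IGens IGinv Xc) = true := by decide +kernel
theorem k_Ic_6_1_6 : Ic_6_1_6.all (chkConjEntry Itab IGens IGinv Xc) = true := by decide +kernel
theorem k_Ic_6_1_7 : Ic_6_1_7.all (chkConjEntry Itab IGens IGinv Xc) = true := by decide +kernel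
theorem k_Ic_6_1_8 : Ic_6_1_8.all (chkConjEntry Itab IGens IGinv Xc) = true := by decide +kernel
theorem k_Ic_6_1_9 : Ic_6_1_9.all (chkConjEntry Itab IGens IGinv Xc) = true := by decide +kernel
theorem k_Ic_6_1_10 : Ic_6_1_10.all (chkConjEntry Itab IGens IGinv Xc) = true := by decide +kernel
theorem k_Ic_6_1_11 : Ic_6_1_11.all (chkConjEntry Itab IGens IGinv Xc) = true := by decide +kernel
theorem k_Ic_6_1_12 : Ic_6_1_12.all (chkConjEntry Itab IGens IGinv Xc) = true := by decide +kernel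
theorem k_Ic_6_1_13 : Ic_6_1_13.all (chkConjEntry Itab IGens IGinv Xc) = true := by decide +kernel
theorem k_Ic_6_1_14 : Ic_6_1_14.all (chkConjEntry Itab IGens IGinv Xc) = true := by decide +kernel
theorem k_Ic_6_1_15 : Ic_6_1_15.all (chkConjEntry Itab IGens IGinv Xc) = true := by decide +kernel
theorem k_Ic_6_2_0 : Ic_6_2_0.all (chkConjEntry Itab IGens IGinv Xc) = true := by decide +kernel
theorem k_Ic_6_2_1 : Ic_6_2_1.all (chkConjEntry Itab IGens IGinv Xc) = true := by decide +kernel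
theorem k_Ic_6_2_2 : Ic_6_2_2.all (chkConjEntry Itab IGens IGinv Xc) = true := by decide +kernel
theorem k_Ic_6_2_3 : Ic_6_2_3.all (chkConjEntry Itab IGens IGinv Xc) = true := by decide +kernel
theorem k_Ic_6_2_4 : Ic_6_2_4.all (chkConjEntry Itab IGens IGinv Xc) = true := by decide +kernel
theorem k_Ic_6_2_5 : Ic_6_2_5.all (chkConjEntry Itab IGens IGinv Xc) = true := by decide +kernel
theorem k_Ic_6_2_6 : Ic_6_2_6.all (chkConjEntry Itab IGens IGinv Xc) = true := by decide +kernel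
theorem k_Ic_6_2_7 : Ic_6_2_7.all (chkConjEntry Itab IGens IGinv Xc) = true := by decide +kernel
theorem k_Ic_6_2_8 : Ic_6_2_8.all (chkConjEntry Itab IGens IGinv Xc) = true := by decide +kernel
theorem k_Ic_6_2_9 : Ic_6_2_9.all (chkConjEntry Itab IGens IGinv Xc) = true := by decide +kernel
theorem k_Ic_6_2_10 : Ic_6_2_10.all (chkConjEntry Itab IGens IGinv Xc) = true := by decide +kernel
theorem k_Ic_6_2_11 : Ic_6_2_11.all (chkConjEntry Itab IGens IGinv Xc) = true := by decide +kernel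
theorem k_Ic_6_2_12 : Ic_6_2_12.all (chkConjEntry Itab IGens IGinv Xc) = true := by decide +kernel
theorem k_Ic_6_2_13 : Ic_6_2_13.all (chkConjEntry Itab IGens IGinv Xc) = true := by decide +kernel
theorem k_Ic_6_2_14 : Ic_6_2_14.all (chkConjEntry Itab IGens IGinv Xc) = true := by decide +kernel
theorem k_Ic_6_2_15 : Ic_6_2_15.all (chkConjEntry Itab IGens IGinv Xc) = true := by decide +kernel
theorem k_Ic_6_3_0 : Ic_6_3_0.all (chkConjEntry Itab IGens IGinv Xc) = true := by decide +kernel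
theorem k_Ic_6_3_1 : Ic_6_3_1.all (chkConjEntry Itab IGens IGinv Xc) = true := by decide +kernel
theorem k_Ic_6_3_2 : Ic_6_3_2.all (chkConjEntry Itab IGens IGinv Xc) = true := by decide +kernel
theorem k_Ic_6_3_3 : Ic_6_3_3.all (chkConjEntry Itab IGens IGinv Xc) = true := by decide +kernel
theorem k_Ic_6_3_4 : Ic_6_3_4.all (chkConjEntry Itab IGens IGinv Xc) = true := by decide +kernel
theorem k_Ic_6_3_5 : Ic_6_3_5.all (chkConjEntry Itab IGens IGinv Xc) = true := by decide +kernel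
theorem k_Ic_6_3_6 : Ic_6_3_6.all (chkConjEntry Itab IGens IGinv Xc) = true := by decide +kernel
theorem k_Ic_6_3_7 : Ic_6_3_7.all (chkConjEntry Itab IGens IGinv Xc) = true := by decide +kernel
theorem k_Ic_6_3_8 : Ic_6_3_8.all (chkConjEntry Itab IGens IGinv Xc) = true := by decide +kernel
theorem k_Ic_6_3_9 : Ic_6_3_9.all (chkConjEntry Itab IGens IGinv Xc) = true := by decide +kernel
theorem k_Ic_6_3_10 : Ic_6_3_10.all (chkConjEntry Itab IGens IGinv Xc) = true := by decide +kernel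
theorem k_Ic_6_3_11 : Ic_6_3_11.all (chkConjEntry Itab IGens IGinv Xc) = true := by decide +kernel
theorem k_Ic_6_3_12 : Ic_6_3_12.all (chkConjEntry Itab IGens IGinv Xc) = true := by decide +kernel
theorem k_Ic_6_3_13 : Ic_6_3_13.all (chkConjEntry Itab IGens IGinv Xc) = true := by decide +kernel
theorem k_Ic_6_3_14 : Ic_6_3_14.all (chkConjEntry Itab IGens IGinv Xc) = true := by decide +kernel
theorem k_Ic_6_3_15 : Ic_6_3_15.all (chkConjEntry Itab IGens IGinv Xc) = true := by decide +kernel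
theorem k_Ic_6_4_0 : Ic_6_4_0.all (chkConjEntry Itab IGens IGinv Xc) = true := by decide +kernel
theorem k_Ic_6_4_1 : Ic_6_4_1.all (chkConjEntry Itab IGens IGinv Xc) = true := by decide +kernel
theorem k_Ic_6_4_2 : Ic_6_4_2.all (chkConjEntry Itab IGens IGinv Xc) = true := by decide +kernel
theorem k_Ic_6_4_3 : Ic_6_4_3.all (chkConjEntry Itab IGens IGinv Xc) = true := by decide +kernel
theorem k_Ic_6_4_4 : Ic_6_4_4.all (chkConjEntry Itab IGens IGinv Xc) = true := by decide +kernel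
theorem k_Ic_6_4_5 : Ic_6_4_5.all (chkConjEntry Itab IGens IGinv Xc) = true := by decide +kernel
theorem k_Ic_6_4_6 : Ic_6_4_6.all (chkConjEntry Itab IGens IGinv Xc) = true := by decide +kernel
theorem k_Ic_6_4_7 : Ic_6_4_7.all (chkConjEntry Itab IGens IGinv Xc) = true := by decide +kernel
theorem k_Ic_6_4_8 : Ic_6_4_8.all (chkConjEntry Itab IGens IGinv Xc) = true := by decide +kernel
theorem k_Ic_6_4_9 : Ic_6_4_9.all (chkConjEntry Itab IGens IGinv Xc) = true := by decide +kernel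
theorem k_Ic_6_4_10 : Ic_6_4_10.all (chkConjEntry Itab IGens IGinv Xc) = true := by decide +kernel
theorem k_Ic_6_4_11 : Ic_6_4_11.all (chkConjEntry Itab IGens IGinv Xc) = true := by decide +kernel
theorem k_Ic_6_4_12 : Ic_6_4_12.all (chkConjEntry Itab IGens IGinv Xc) = true := by decide +kernel
theorem k_Ic_6_4_13 : Ic_6_4_13.all (chkConjEntry Itab IGens IGinv Xc) = true := by decide +kernel
theorem k_Ic_6_4_14 : Ic_6_4_14.all (chkConjEntry Itab IGens IGinv Xc) = true := by decide +kernel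
theorem k_Ic_6_4_15 : Ic_6_4_15.all (chkConjEntry Itab IGens IGinv Xc) = true := by decide +kernel
theorem k_Ic_6_5_0 : Ic_6_5_0.all (chkConjEntry Itab IGens IGinv Xc) = true := by decide +kernel
theorem k_Ic_6_5_1 : Ic_6_5_1.all (chkConjEntry Itab IGens IGinv Xc) = true := by decide +kernel
theorem k_Ic_6_5_2 : Ic_6_5_2.all (chkConjEntry Itab IGens IGinv Xc) = true := by decide +kernel
theorem k_Ic_6_5_3 : Ic_6_5_3.all (chkConjEntry Itab IGens IGinv Xc) = true := by decide +kernel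
theorem k_Ic_6_5_4 : Ic_6_5_4.all (chkConjEntry Itab IGens IGinv Xc) = true := by decide +kernel
theorem k_Ic_6_5_5 : Ic_6_5_5.all (chkConjEntry Itab IGens IGinv Xc) = true := by decide +kernel
theorem k_Ic_6_5_6 : Ic_6_5_6.all (chkConjEntry Itab IGens IGinv Xc) = true := by decide +kernel
theorem k_Ic_6_5_7 : Ic_6_5_7.all (chkConjEntry Itab IGens IGinv Xc) = true := by decide +kernel
theorem k_Ic_6_5_8 : Ic_6_5_8.all (chkConjEntry Itab IGens IGinv Xc) = true := by decide +kernel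
theorem k_Ic_6_5_9 : Ic_6_5_9.all (chkConjEntry Itab IGens IGinv Xc) = true := by decide +kernel
theorem k_Ic_6_5_10 : Ic_6_5_10.all (chkConjEntry Itab IGens IGinv Xc) = true := by decide +kernel
theorem k_Ic_6_5_11 : Ic_6_5_11.all (chkConjEntry Itab IGens IGinv Xc) = true := by decide +kernel
theorem k_Ic_6_5_12 : Ic_6_5_12.all (chkConjEntry Itab IGens IGinv Xc) = true := by decide +kernel
theorem k_Ic_6_5_13 : Ic_6_5_13.all (chkConjEntry Itab IGens IGinv Xc) = true := by decide +kernel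
theorem k_Ic_6_5_14 : Ic_6_5_14.all (chkConjEntry Itab IGens IGinv Xc) = true := by decide +kernel
theorem k_Ic_6_5_15 : Ic_6_5_15.all (chkConjEntry Itab IGens IGinv Xc) = true := by decide +kernel
theorem k_Ic_6_6_0 : Ic_6_6_0.all (chkConjEntry Itab IGens IGinv Xc) = true := by decide +kernel
theorem k_Ic_6_6_1 : Ic_6_6_1.all (chkConjEntry Itab IGens IGinv Xc) = true := by decide +kernel
theorem k_Ic_6_6_2 : Ic_6_6_2.all (chkConjEntry Itab IGens IGinv Xc) = true := by decide +kernel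
theorem k_Ic_6_6_3 : Ic_6_6_3.all (chkConjEntry Itab IGens IGinv Xc) = true := by decide +kernel

theorem chkI6 : allB Iblk6 (chkConjEntry Itab IGens IGinv Xc) = true := by
  simp only [allB, Iblk6, List.all_cons, List.all_nil, Bool.and_true,
    k_Ic_6_0_0, k_Ic_6_0_1, k_Ic_6_0_2, k_Ic_6_0_3, k_Ic_6_0_4, k_Ic_6_0_5, k_Ic_6_0_6, k_Ic_6_0_7, k_Ic_6_0_8, k_Ic_6_0_9, k_Ic_6_0_10, k_Ic_6_0_11, k_Ic_6_0_12, k_Ic_6_0_13, k_Ic_6_0_14, k_Ic_6_0_15, k_Ic_6_1_0, k_Ic_6_1_1, k_Ic_6_1_2, k_Ic_6_1_3, k_Ic_6_1_4, k_Ic_6_1_5, k_Ic_6_1_6, k_Ic_6_1_7, k_Ic_6_1_8, k_Ic_6_1_9, k_Ic_6_1_10, k_Ic_6_1_11, k_Ic_6_1_12, k_Ic_6_1_13, k_Ic_6_1_14, k_Ic_6_1_15, k_Ic_6_2_0, k_Ic_6_2_1, k_Ic_6_2_2, k_Ic_6_2_3, k_Ic_6_2_4, k_Ic_6_2_5, k_Ic_6_2_6, k_Ic_6_2_7, k_Ic_6_2_8, k_Ic_6_2_9, k_Ic_6_2_10, k_Ic_6_2_11, k_Ic_6_2_12, k_Ic_6_2_13, k_Ic_6_2_14, k_Ic_6_2_15, k_Ic_6_3_0, k_Ic_6_3_1, k_Ic_6_3_2, k_Ic_6_3_3, k_Ic_6_3_4, k_Ic_6_3_5, k_Ic_6_3_6,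 k_Ic_6_3_7, k_Ic_6_3_8, k_Ic_6_3_9, k_Ic_6_3_10, k_Ic_6_3_11, k_Ic_6_3_12, k_Ic_6_3_13, k_Ic_6_3_14, k_Ic_6_3_15, k_Ic_6_4_0, k_Ic_6_4_1, k_Ic_6_4_2, k_Ic_6_4_3, k_Ic_6_4_4, k_Ic_6_4_5, k_Ic_6_4_6, k_Ic_6_4_7, k_Ic_6_4_8, k_Ic_6_4_9, k_Ic_6_4_10, k_Ic_6_4_11, k_Ic_6_4_12, k_Ic_6_4_13, k_Ic_6_4_14, k_Ic_6_4_15, k_Ic_6_5_0, k_Ic_6_5_1, k_Ic_6_5_2, k_Ic_6_5_3, k_Ic_6_5_4, k_Ic_6_5_5, k_Ic_6_5_6, k_Ic_6_5_7, k_Ic_6_5_8, k_Ic_6_5_9, k_Ic_6_5_10, k_Ic_6_5_11, k_Ic_6_5_12, k_Ic_6_5_13, k_Ic_6_5_14, k_Ic_6_5_15, k_Ic_6_6_0, k_Ic_6_6_1, k_Ic_6_6_2, k_Ic_6_6_3]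

end Cfsg.Agent.Helper14.J3
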