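import Mathlib
import Cfsg.Agent.Helper14.J3CT
import Cfsg.Agent.Helper14.J3F
import Cfsg.Agent.Helper14.J3KI0
import Cfsg.Agent.Helper14.J3KI1
import Cfsg.Agent.Helper14.J3KI2
import Cfsg.Agent.Helper14.J3KI3
import Cfsg.Agent.Helper14.J3KI4
import Cfsg.Agent.Helper14.J3KI5
import Cfsg.Agent.Helper14.J3KI6

set_option autoImplicit false
set_option linter.unusedSectionVars false

namespace Cfsg.Agent.Helper14.J3

open Cfsg Cfsg.Spor
open scoped MatrixGroups Pointwise

/-- the table of the conjugates of the first generator passes the test -/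
theorem conjI : ∀ e, memT Itab e → chkConjEntry Itab IGens IGinv Xc e = true := by
  rintro e ⟨B, hB, p, hp, c, hc, he⟩
  simp only [Itab, List.mem_cons, List.not_mem_nil, or_false] at hB
  rcases hB with rfl | rfl | rfl | rfl | rfl | rfl | rfl
  · exact allB_of_mem chkI0 hp hc he
  · exact allB_of_mem chkI1 hp hc he
  · exact allB_of_mem chkI2 hp hc he
  · exact allB_of_mem chkI3 hp hc he
  · exact allB_of_mem chkI4 hp hc he
  · exact allB_of_mem chkI5 hp hc he
  · exact allB_of_mem chkI6 hp hc he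

section field

variable {F : Type*} [Field F] [CharP F 2] [Finite F] (ω : F) (hω : ω * ω = ω + 1)
variable (h0 : ω ≠ 0) (h1 : ω ≠ 1)

include hω in
/-- the elements of the Sylow 2-subgroup commute with the first generator -/
theorem P2_comm {g : threeJ3 F ω} (hg : g ∈ P2 ω) (X : threeJ3 F ω)
    (hX : valHom ω X = toMat F ω Xc) : g * X = X * g := by
  have hmul := toMat_mul4 F ω hω
  apply valHom_injective ω
  rw [map_mul, map_mul, hX]
  have hC : Submonoid.closure (setOfL (toMat F ω) P2gens) ≤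
      Submonoid.centralizer {toMat F ω Xc} := by
    rw [Submonoid.closure_le]
    rintro _ ⟨c, hc, rfl⟩
    rw [SetLike.mem_coe, Submonoid.mem_centralizer_iff]
    intro m hm
    rw [Set.mem_singleton_iff] at hm
    subst hm
    have h := P2gens_comm
    rw [List.all_eq_true] at h
    have h2 := eq_of_beq (h c hc)
    rw [← hmul, ← hmul, h2]
  have := hC hg
  rw [Submonoid.mem_centralizer_iff] at this
  exact (this _ (Set.mem_singleton _)).symm

include hω h0 h1 in
/-- the local hypotheses hold in the third Janko group -/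
theorem twoLocalHyp_J3 : TwoLocalHyp (J3 F ω) ((P2 ω).map (piJ ω)) := by
  have : Fact (Nat.Prime 2) := ⟨Nat.prime_two⟩
  obtain ⟨X, Y, hX, -, -⟩ := exists_XY ω hω
  have hmul := toMat_mul4 F ω hω
  have hXX : X * X = 1 := by
    apply valHom_injective ω
    rw [map_mul, hX, ← hmul, ← sq_eq, relX, toMat_ONE, map_one]
  have hXne : X ≠ 1 := by
    intro h
    have hne := X_ne
    rw [Bool.and_eq_true, Bool.and_eq_true, bne_iff_ne] at hne
    apply hne.1.1
    apply toMat_inj F ω h0 h1 (by decide) (by decide)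
    rw [← hX, h, map_one, toMat_ONE]
  have hXP : X ∈ P2 ω := X_mem_of_any ω hω closedP2 rootP2 X_in_P2 X hX
  have hXQ : X ∈ Q0 ω := X_mem_of_any ω hω closedQ rootQ X_in_Q X hX
  have hcent := map_C0sub ω hω h0 h1 conjI X hX
  have hPc := P2_inf_center ω hω h0 h1
  have hCc := C0sub_inf_center ω hω h0 h1
  have hord2 : ∀ s ∈ P2 ω, s * s = 1 → s ≠ 1 → orderOf (piJ ω s) = 2 := by
    intro s hs hss hs1
    apply orderOf_eq_prime
    · rw [pow_two, ← map_mul, hss, map_one]
    · intro h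
      apply hs1
      exact piJ_injOn ω hPc hs (Subgroup.one_mem _) (by rw [h, map_one])
  have hconjX : ∀ x : J3 F ω, orderOf x = 2 → IsConj x (piJ ω X) := by
    intro x hx
    obtain ⟨u, rfl⟩ := QuotientGroup.mk'_surjective _ x
    have hx2 : piJ ω u ^ 2 = 1 := by
      have h := pow_orderOf_eq_one ((QuotientGroup.mk' (Subgroup.center (threeJ3 F ω))) u)
      rw [hx] at h
      exact h
    have hu2 : u ^ 2 ∈ Subgroup.center (threeJ3 F ω) := by
      rw [← QuotientGroup.eq_one_iff]
      exact hx2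
    have hu6 : (u ^ 3) * (u ^ 3) = 1 := by
      have h3 : (⟨u ^ 2, hu2⟩ : Subgroup.center (threeJ3 F ω)) ^
          Nat.card (Subgroup.center (threeJ3 F ω)) = 1 := pow_card_eq_one'
      rw [card_center ω hω h0 h1] at h3
      have h4 : (u ^ 2) ^ 3 = 1 := congrArg Subtype.val h3
      calc u ^ 3 * u ^ 3 = (u ^ 2) ^ 3 := by group
        _ = 1 := h4
    have hu3 : piJ ω (u ^ 3) = piJ ω u := by
      rw [map_pow]
      calc piJ ω u ^ 3 = piJ ω u ^ 2 * piJ ω u := pow_succ _ 2
        _ = piJ ω u := by rw [hx2, one_mul]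
    have hne : u ^ 3 ≠ 1 := by
      intro h
      rw [h, map_one] at hu3
      rw [← hu3, orderOf_one] at hx
      norm_num at hx
    obtain ⟨k, hk⟩ := exists_conj_of_sq ω hω h0 h1 hu6 hne X hX
    rw [isConj_iff]
    refine ⟨piJ ω k, ?_⟩
    rw [← hu3, ← map_inv, ← map_mul, ← map_mul, hk]
  refine ⟨?_, ?_, piJ ω X, Subgroup.mem_map_of_mem _ hXP, hord2 X hXP hXX hXne, ?_, ?_,
    (Q0 ω).map (piJ ω), Subgroup.map_mono (Q0_le_P2 ω hω), ?_, ?_, ?_⟩
  · intro x y hx hy
    exact (hconjX x hx).trans (hconjX y hy).symm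
  · have h2 := Subgroup.map_mono (f := piJ ω) (P2_le_closure ω hω h0 h1)
    refine h2.trans ?_
    rw [MonoidHom.map_closure, Subgroup.closure_le]
    rintro _ ⟨s, ⟨hs, hss, hs1⟩, rfl⟩
    apply Subgroup.subset_closure
    exact ⟨Subgroup.mem_map_of_mem _ hs, hord2 s hs hss hs1⟩
  · rintro _ ⟨x, hx, rfl⟩
    rw [← map_mul, ← map_mul, ← P2_comm ω hω hx X hX]
  · rintro _ ⟨z, hz, rfl⟩ hcomm
    have h2 : z = 1 ∨ z = X := by
      apply P2_center_eq ω hω h0 h1 hz _ X hX
      intro q hq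
      apply piJ_injOn ω hPc (mul_mem hz hq) (mul_mem hq hz)
      rw [map_mul, map_mul]
      exact hcomm _ (Subgroup.mem_map_of_mem _ hq)
    rcases h2 with h | h
    · left; rw [h, map_one]
    · right; rw [h]
  · intro c' hc' q' hq'
    rw [← hcent] at hc'
    obtain ⟨c, hc, rfl⟩ := hc'
    obtain ⟨q, hq, rfl⟩ := hq'
    exact ⟨c * q * c⁻¹, conj_mem_Q0 ω hω hc hq, by rw [map_mul, map_mul, map_inv]⟩
  · intro y hy
    have hyt : y ∈ Subgroup.centralizer ({piJ ω X} : Set (J3 F ω)) := by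
      rw [Subgroup.mem_centralizer_iff]
      intro x hx
      rw [Set.mem_singleton_iff] at hx
      subst hx
      exact (Subgroup.mem_centralizer_iff.1 hy) _ (Subgroup.mem_map_of_mem _ hXQ)
    rw [← hcent] at hyt
    obtain ⟨c, hc, rfl⟩ := hyt
    refine Subgroup.mem_map_of_mem _ (mem_Q0_of_comm ω hω h0 h1 hc ?_)
    intro q hq
    have hqC := Q0_le_C0sub ω hω hq
    apply piJ_injOn ω hCc (mul_mem hc hqC) (mul_mem hqC hc)
    rw [map_mul, map_mul]
    exact ((Subgroup.mem_centralizer_iff.1 hy) _ (Subgroup.mem_map_of_mem _ hq)).symm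
  · rw [← hcent]
    have h2 := Subgroup.map_mono (f := piJ ω) (C0sub_le_closure ω hω)
    refine h2.trans ?_
    rw [MonoidHom.map_closure, Subgroup.closure_le]
    rintro _ ⟨h, ⟨hh, h8⟩, rfl⟩
    apply Subgroup.subset_closure
    refine ⟨Subgroup.mem_map_of_mem _ hh, ?_⟩
    have hd : orderOf (piJ ω h) ∣ 2 ^ 3 := by
      apply orderOf_dvd_of_pow_eq_one
      have e8 : (2 : ℕ) ^ 3 = 8 := by norm_num
      rw [← map_pow, e8, h8, map_one]
    obtain ⟨k, -, hk⟩ := (Nat.dvd_prime_pow Nat.prime_two).1 hd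
    exact ⟨k, hk⟩

include hω h0 h1 in
/-- the 2-fusion system of a group isomorphic to the third Janko group is simple -/
theorem isSimple_fusion_of_iso {G : Type*} [Group G] [Finite G] (e : G ≃* J3 F ω)
    (S : Sylow 2 G) : (groupFusionSystem (S : Subgroup G)).IsSimple 2 := by
  have : Fact (Nat.Prime 2) := ⟨Nat.prime_two⟩
  obtain ⟨P', hP'⟩ : ∃ P' : Subgroup G, P' = ((P2 ω).map (piJ ω)).map e.symm.toMonoidHom := ⟨_, rfl⟩
  have hcardP' : Nat.card P' = 128 := by
    rw [hP', Subgroup.card_map_of_injective e.symm.injective,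
      card_map_piJ ω (P2_inf_center ω hω h0 h1), card_P2 ω hω h0 h1]
  have hcardG : Nat.card G = 50232960 := by
    rw [Nat.card_congr e.toEquiv, card_J3 ω hω h0 h1]
  have hP'p : IsPGroup 2 P' := IsPGroup.of_card (n := 7) (by rw [hcardP']; norm_num)
  have hidx : ¬ 2 ∣ P'.index := by
    have h := P'.card_mul_index
    rw [hcardP', hcardG] at h
    rintro ⟨m, hm⟩
    rw [hm] at h
    omega
  obtain ⟨g, hg⟩ := MulAction.exists_smul_eq G (hP'p.toSylow hidx) S
  let ψ : J3 F ω ≃* G := e.symm.trans (MulAut.conj g)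
  have hS : ((P2 ω).map (piJ ω)).map ψ.toMonoidHom = (S : Subgroup G) := by
    rw [← hg, Sylow.coe_subgroup_smul, IsPGroup.toSylow_coe, hP']
    ext x
    simp only [Subgroup.mem_map, Subgroup.mem_pointwise_smul_iff_inv_smul_mem]
    constructor
    · rintro ⟨y, hy, rfl⟩
      refine ⟨y, hy, ?_⟩
      show e.symm y = (MulAut.conj g)⁻¹ • (MulAut.conj g (e.symm y))
      rw [MulAut.smul_def, MulAut.inv_apply_self]
    · rintro ⟨y, hy, hyx⟩
      refine ⟨y, hy, ?_⟩
      show MulAut.conj g (e.symm y) = x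
      have : e.symm y = (MulAut.conj g)⁻¹ • x := hyx
      rw [this, MulAut.smul_def, MulAut.apply_inv_self]
  have h := (twoLocalHyp_J3 ω hω h0 h1).map ψ
  rw [hS] at h
  exact isSimple_of_twoLocalHyp S h

end field

end Cfsg.Agent.Helper14.J3
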