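import Mathlib
import Cfsg.Agent.Helper14.J3CT
import Cfsg.Agent.Helper14.J3CA
import Cfsg.Agent.Helper14.Frattini
import Cfsg.Agent.Helper1.PGroup
import Cfsg.Agent.Helper3.ExtraspecialEquiv
import Cfsg.Agent.Helper13.A5Pres

set_option autoImplicit false
set_option linter.unusedSectionVars false

namespace Cfsg.Agent.Helper14.J3

open Cfsg Cfsg.Spor
open scoped MatrixGroups Pointwise commutatorElement

/-- the shape `2^{1+4}_- : A5`: a normal extraspecial subgroup of order 32 of minus type with a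
complement, the quotient being the alternating group of degree five -/
def ShapeJ (K : Type*) [Group K] : Prop :=
  ∃ (Q : Subgroup K) (_ : Q.Normal), IsExtraspecial 2 Q ∧ Nat.card Q = 32 ∧
    (∀ E : Subgroup Q, IsElementaryAbelian 2 E → Nat.card E ≤ 2 ^ 2) ∧
    (∃ H : Subgroup K, Q.IsComplement' H) ∧ Nonempty (K ⧸ Q ≃* alternatingGroup (Fin 5))

/-- the shape is transported by isomorphisms -/
theorem ShapeJ.of_equiv {K K' : Type*} [Group K] [Group K'] [Finite K] (h : ShapeJ K)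
    (e : K ≃* K') : ShapeJ K' := by
  obtain ⟨Q, hQn, hex, hcard, hel, ⟨H, hH⟩, ⟨q⟩⟩ := h
  have : Finite K' := Finite.of_equiv K e.toEquiv
  have hQ'n : (Q.map e.toMonoidHom).Normal := hQn.map e.toMonoidHom e.surjective
  let eQ : Q ≃* Q.map e.toMonoidHom := e.subgroupMap Q
  refine ⟨Q.map e.toMonoidHom, hQ'n, ?_, ?_, ?_, ?_, ?_⟩
  · exact Cfsg.Agent.Helper3.ExtraspecialEquiv.isExtraspecial_of_mulEquiv eQ hex
  · rw [← Nat.card_congr eQ.toEquiv, hcard]
  · intro E' hE'
    obtain ⟨hc, h2⟩ := hE'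
    have hE : IsElementaryAbelian 2 (E'.map eQ.symm.toMonoidHom) := by
      constructor
      · constructor
        constructor
        rintro ⟨_, x, hx, rfl⟩ ⟨_, y, hy, rfl⟩
        apply Subtype.ext
        show eQ.symm x * eQ.symm y = eQ.symm y * eQ.symm x
        rw [← map_mul, ← map_mul]
        congr 1
        exact congrArg Subtype.val (hc.is_comm.comm ⟨x, hx⟩ ⟨y, hy⟩)
      · rintro _ ⟨x, hx, rfl⟩
        show eQ.symm x ^ 2 = 1
        rw [← map_pow, h2 x hx, map_one]
    have := hel _ hE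
    rwa [Subgroup.card_map_of_injective eQ.symm.injective] at this
  · refine ⟨H.map e.toMonoidHom, ?_⟩
    apply Subgroup.isComplement'_of_card_mul_and_disjoint
    · rw [Subgroup.card_map_of_injective e.injective, Subgroup.card_map_of_injective e.injective,
        hH.card_mul_card, Nat.card_congr e.toEquiv]
    · rw [disjoint_iff, ← Subgroup.map_inf _ _ _ e.injective, hH.disjoint.eq_bot, Subgroup.map_bot]
  · exact ⟨(QuotientGroup.congr Q (Q.map e.toMonoidHom) e rfl).symm.trans q⟩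

section field

variable {F : Type*} [Field F] [CharP F 2] [Finite F] (ω : F) (hω : ω * ω = ω + 1)
variable (h0 : ω ≠ 0) (h1 : ω ≠ 1)

include hω in
theorem Qgens_le_Gm : Submonoid.closure (setOfL (toMat F ω) Qgens) ≤ Gm ω :=
  (Qgens_le_P2 ω hω).trans (P2gens_le ω hω)

include hω h0 h1 in
/-- the elements of `Q0` commuting with `Q0` -/
theorem Q0_center_eq {z : threeJ3 F ω} (hz : z ∈ Q0 ω) (hcomm : ∀ q ∈ Q0 ω, z * q = q * z)
    (X : threeJ3 F ω) (hX : valHom ω X = toMat F ω Xc) : z = 1 ∨ z = X := by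
  obtain ⟨e, he, hv⟩ := (mem_Q0 ω hω).1 hz
  have h := Q_center
  rw [List.all_eq_true] at h
  have h2 := h e ((memT_iff _ _).1 he)
  have h3 := all_comm_of_comm ω hω h0 h1 (Qgens_le_Gm ω hω) hv hcomm
  rw [h3] at h2
  simp only [Bool.not_true, Bool.false_or, Bool.or_eq_true] at h2
  rcases h2 with h2 | h2
  · left
    apply valHom_injective ω
    rw [hv, eq_of_beq h2, toMat_ONE, map_one]
  · right
    apply valHom_injective ω
    rw [hv, eq_of_beq h2, hX]

include hω h0 h1 in
/-- the commutators of `Q0` -/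
theorem Q0_comm_eq {a b : threeJ3 F ω} (ha : a ∈ Q0 ω) (hb : b ∈ Q0 ω)
    (X : threeJ3 F ω) (hX : valHom ω X = toMat F ω Xc) : ⁅a, b⁆ = 1 ∨ ⁅a, b⁆ = X := by
  have hmul := toMat_mul4 F ω hω
  obtain ⟨ea, hea, hva⟩ := (mem_Q0 ω hω).1 ha
  obtain ⟨eb, heb, hvb⟩ := (mem_Q0 ω hω).1 hb
  have h := Q_comm
  rw [List.all_eq_true] at h
  have h2 := h ea ((memT_iff _ _).1 hea)
  rw [List.all_eq_true] at h2
  have h3 := h2 eb ((memT_iff _ _).1 heb)
  rw [Bool.or_eq_true] at h3
  rcases h3 with h3 | h3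
  · left
    have e1 : a * b = b * a := by
      apply valHom_injective ω
      rw [map_mul, map_mul, hva, hvb, ← hmul, ← hmul, eq_of_beq h3]
    rw [commutatorElement_def, e1]
    group
  · right
    have e1 : a * b = X * (b * a) := by
      apply valHom_injective ω
      rw [map_mul, map_mul, map_mul, hva, hvb, hX, ← hmul, ← hmul, ← hmul, eq_of_beq h3]
    rw [commutatorElement_def, e1]
    group

include hω h0 h1 in
/-- the squares of `Q0` -/
theorem Q0_sq_eq {a : threeJ3 F ω} (ha : a ∈ Q0 ω)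
    (X : threeJ3 F ω) (hX : valHom ω X = toMat F ω Xc) : a ^ 2 = 1 ∨ a ^ 2 = X := by
  have hmul := toMat_mul4 F ω hω
  obtain ⟨ea, hea, hva⟩ := (mem_Q0 ω hω).1 ha
  have h := Q_sq
  rw [List.all_eq_true] at h
  have h2 := h ea ((memT_iff _ _).1 hea)
  rw [Bool.or_eq_true] at h2
  rcases h2 with h2 | h2
  · left
    apply valHom_injective ω
    rw [map_pow, hva, ← dec_sq (toMat F ω) hmul, eq_of_beq h2, toMat_ONE, map_one]
  · right
    apply valHom_injective ω
    rw [map_pow, hva, ← dec_sq (toMat F ω) hmul, eq_of_beq h2, hX]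

include hω h0 h1 in
/-- `Q0` is extraspecial -/
theorem isExtraspecial_Q0 : IsExtraspecial 2 (Q0 ω) := by
  have : Fact (Nat.Prime 2) := ⟨Nat.prime_two⟩
  have hmul := toMat_mul4 F ω hω
  obtain ⟨X, Y, hX, -, -⟩ := exists_XY ω hω
  have hXX : X * X = 1 := by
    apply valHom_injective ω
    rw [map_mul, hX, ← hmul, ← sq_eq, relX, toMat_ONE, map_one]
  have hXne : X ≠ 1 := by
    intro h
    have hne := X_ne
    rw [Bool.and_eq_true, Bool.and_eq_true, bne_iff_ne] at hne
    apply hne.1.1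
    apply toMat_inj F ω h0 h1 (by decide) (by decide)
    rw [← hX, h, map_one, toMat_ONE]
  have hXQ : X ∈ Q0 ω := X_mem_of_any ω hω closedQ rootQ X_in_Q X hX
  have hP : IsPGroup 2 (Q0 ω) := IsPGroup.of_card (n := 5) (by rw [card_Q0 ω hω h0 h1]; norm_num)
  -- the centre
  have hcen : ∀ z : Q0 ω, z ∈ Subgroup.center (Q0 ω) ↔ (z : threeJ3 F ω) = 1 ∨ (z : threeJ3 F ω) = X := by
    intro z
    rw [Subgroup.mem_center_iff]
    constructor
    · intro hz
      apply Q0_center_eq ω hω h0 h1 z.2 _ X hX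
      intro q hq
      have := hz ⟨q, hq⟩
      exact (congrArg Subtype.val this).symm
    · rintro (hz | hz) q
      · apply Subtype.ext
        show (q : threeJ3 F ω) * z = z * q
        rw [hz, mul_one, one_mul]
      · apply Subtype.ext
        show (q : threeJ3 F ω) * z = z * q
        rw [hz]
        exact C0sub_comm ω hω (Q0_le_C0sub ω hω q.2) X hX
  have hXc : (⟨X, hXQ⟩ : Q0 ω) ∈ Subgroup.center (Q0 ω) := (hcen _).2 (Or.inr rfl)
  have hcenZ : Subgroup.center (Q0 ω) = Subgroup.zpowers (⟨X, hXQ⟩ : Q0 ω) := by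
    apply le_antisymm
    · intro z hz
      rcases (hcen z).1 hz with h | h
      · have : z = 1 := Subtype.ext h
        rw [this]; exact Subgroup.one_mem _
      · have : z = ⟨X, hXQ⟩ := Subtype.ext h
        rw [this]; exact Subgroup.mem_zpowers _
    · rw [Subgroup.zpowers_le]; exact hXc
  have hordX : orderOf (⟨X, hXQ⟩ : Q0 ω) = 2 := by
    apply orderOf_eq_prime
    · apply Subtype.ext
      show X ^ 2 = 1
      rw [pow_two, hXX]
    · intro h
      exact hXne (congrArg Subtype.val h)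
  -- commutators and squares
  have hcomm : ∀ a b : Q0 ω, ⁅a, b⁆ ∈ Subgroup.center (Q0 ω) := by
    intro a b
    rw [hcen]
    exact Q0_comm_eq ω hω h0 h1 a.2 b.2 X hX
  have hpow : ∀ a : Q0 ω, a ^ 2 ∈ Subgroup.center (Q0 ω) := by
    intro a
    rw [hcen]
    exact Q0_sq_eq ω hω h0 h1 a.2 X hX
  have hcle : commutator (Q0 ω) ≤ Subgroup.center (Q0 ω) := by
    rw [commutator_def, Subgroup.commutator_le]
    intro a _ b _
    exact hcomm a b
  have hcge : Subgroup.center (Q0 ω) ≤ commutator (Q0 ω) := by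
    rw [hcenZ, Subgroup.zpowers_le]
    have h := Q_comm_X
    rw [List.any_eq_true] at h
    obtain ⟨a, ha, h2⟩ := h
    rw [List.any_eq_true] at h2
    obtain ⟨b, hb, h3⟩ := h2
    obtain ⟨ka, hka, hkav⟩ := exists_lift_gen ω (Qgens_le_Gm ω hω) ha
    obtain ⟨kb, hkb, hkbv⟩ := exists_lift_gen ω (Qgens_le_Gm ω hω) hb
    have e1 : ka * kb = X * (kb * ka) := by
      apply valHom_injective ω
      rw [map_mul, map_mul, map_mul, hkav, hkbv, hX, ← hmul, ← hmul, ← hmul, eq_of_beq h3]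
    have e2 : (⟨X, hXQ⟩ : Q0 ω) = ⁅(⟨ka, hka⟩ : Q0 ω), ⟨kb, hkb⟩⁆ := by
      apply Subtype.ext
      show X = ⁅ka, kb⁆
      rw [commutatorElement_def, e1]
      group
    rw [e2, commutator_def]
    exact Subgroup.commutator_mem_commutator (Subgroup.mem_top _) (Subgroup.mem_top _)
  have hceq : commutator (Q0 ω) = Subgroup.center (Q0 ω) := le_antisymm hcle hcge
  refine ⟨⟨hP, ?_, hceq⟩, ?_⟩
  · apply le_antisymm
    · exact frattini_le_of_elemAb 2 _ hcomm hpow
    · rw [← hceq]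
      exact Cfsg.Agent.Helper1.IsPGroup.commutator_le_frattini hP
  · rw [hcenZ, Nat.card_zpowers, hordX]

include hω h0 h1 in
/-- the code of an element of `Q0` of order at most two lies in the list `Qinv` -/
theorem exists_Qinv {a : threeJ3 F ω} (ha : a ∈ Q0 ω) (ha2 : a ^ 2 = 1) :
    ∃ c ∈ Qinv, valHom ω a = toMat F ω c := by
  have hmul := toMat_mul4 F ω hω
  obtain ⟨e, he, hv⟩ := (mem_Q0 ω hω).1 ha
  refine ⟨codeOf e, ?_, hv⟩
  unfold Qinv
  rw [List.mem_filter]
  refine ⟨List.mem_map.2 ⟨e, (memT_iff _ _).1 he, rfl⟩, ?_⟩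
  rw [beq_iff_eq]
  apply toMat_inj F ω h0 h1 (by rw [sq_eq]; exact mul4_lt _ _) (by decide)
  rw [dec_sq (toMat F ω) hmul, ← hv, ← map_pow, ha2, map_one, toMat_ONE]

theorem Qinv_lt {c : Nat} (hc : c ∈ Qinv) : c < 2 ^ 162 := by
  unfold Qinv at hc
  rw [List.mem_filter, List.mem_map] at hc
  obtain ⟨⟨e, -, rfl⟩, -⟩ := hc
  exact codeOf_lt e

include hω h0 h1 in
/-- three commuting elements of order at most two of `Q0` are dependent -/
theorem Q0_elemAb {a b c : threeJ3 F ω} (ha : a ∈ Q0 ω) (hb : b ∈ Q0 ω) (hc : c ∈ Q0 ω)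
    (ha2 : a ^ 2 = 1) (hb2 : b ^ 2 = 1) (hc2 : c ^ 2 = 1)
    (hab : a * b = b * a) (hac : a * c = c * a) (hbc : b * c = c * b) :
    a = 1 ∨ b = 1 ∨ b = a ∨ c = 1 ∨ c = a ∨ c = b ∨ c = a * b := by
  have hmul := toMat_mul4 F ω hω
  obtain ⟨ca, hca, hva⟩ := exists_Qinv ω hω h0 h1 ha ha2
  obtain ⟨cb, hcb, hvb⟩ := exists_Qinv ω hω h0 h1 hb hb2
  obtain ⟨cc, hcc, hvc⟩ := exists_Qinv ω hω h0 h1 hc hc2
  have h := Q_elemAb
  rw [List.all_eq_true] at h
  have h2 := h ca hca
  rw [List.all_eq_true] at h2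
  have h3 := h2 cb hcb
  rw [List.all_eq_true] at h3
  have h4 := h3 cc hcc
  have e1 : mul4 ca cb = mul4 cb ca := by
    apply toMat_inj F ω h0 h1 (mul4_lt _ _) (mul4_lt _ _)
    rw [hmul, hmul, ← hva, ← hvb, ← map_mul, ← map_mul, hab]
  have e2 : mul4 ca cc = mul4 cc ca := by
    apply toMat_inj F ω h0 h1 (mul4_lt _ _) (mul4_lt _ _)
    rw [hmul, hmul, ← hva, ← hvc, ← map_mul, ← map_mul, hac]
  have e3 : mul4 cb cc = mul4 cc cb := by
    apply toMat_inj F ω h0 h1 (mul4_lt _ _) (mul4_lt _ _)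
    rw [hmul, hmul, ← hvb, ← hvc, ← map_mul, ← map_mul, hbc]
  rw [e1, e2, e3] at h4
  simp only [beq_self_eq_true, Bool.and_self, Bool.not_true, Bool.false_or, Bool.or_eq_true,
    beq_iff_eq] at h4
  have key : ∀ {x : threeJ3 F ω} {cx : Nat}, valHom ω x = toMat F ω cx → cx = ONE → x = 1 := by
    intro x cx hx hcx
    apply valHom_injective ω
    rw [hx, hcx, toMat_ONE, map_one]
  have key2 : ∀ {x y : threeJ3 F ω} {cx cy : Nat}, valHom ω x = toMat F ω cx →
      valHom ω y = toMat F ω cy → cx = cy → x = y := by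
    intro x y cx cy hx hy hxy
    apply valHom_injective ω
    rw [hx, hy, hxy]
  rcases h4 with ((((((h4 | h4) | h4) | h4) | h4) | h4) | h4)
  · exact Or.inl (key hva h4)
  · exact Or.inr (Or.inl (key hvb h4))
  · exact Or.inr (Or.inr (Or.inl (key2 hvb hva h4)))
  · exact Or.inr (Or.inr (Or.inr (Or.inl (key hvc h4))))
  · exact Or.inr (Or.inr (Or.inr (Or.inr (Or.inl (key2 hvc hva h4)))))
  · exact Or.inr (Or.inr (Or.inr (Or.inr (Or.inr (Or.inl (key2 hvc hvb h4))))))
  · refine Or.inr (Or.inr (Or.inr (Or.inr (Or.inr (Or.inr ?_)))))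
    apply valHom_injective ω
    rw [map_mul, hva, hvb, hvc, h4, ← e1, hmul]

include hω h0 h1 in
/-- the elementary abelian subgroups of `Q0` have order at most four -/
theorem card_elemAb_le (E : Subgroup (Q0 ω)) (hE : IsElementaryAbelian 2 E) : Nat.card E ≤ 2 ^ 2 := by
  classical
  obtain ⟨hEc, hE2⟩ := hE
  have hcommE : ∀ x ∈ E, ∀ y ∈ E, (x : threeJ3 F ω) * y = y * x := by
    intro x hx y hy
    have := hEc.is_comm.comm (⟨x, hx⟩ : E) ⟨y, hy⟩
    exact congrArg (fun z : E => ((z : Q0 ω) : threeJ3 F ω)) this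
  have hsqE : ∀ x ∈ E, (x : threeJ3 F ω) ^ 2 = 1 := by
    intro x hx
    exact congrArg Subtype.val (hE2 x hx)
  have hsub : ∀ s : Finset (Q0 ω), (∀ x ∈ E, x ∈ s) → Nat.card E ≤ s.card := by
    intro s hs
    have : Nat.card E ≤ Nat.card s := by
      apply Nat.card_le_card_of_injective (fun x : E => (⟨x.1, hs x.1 x.2⟩ : s))
      intro x y hxy
      exact Subtype.ext (congrArg (fun z : s => (z : Q0 ω)) hxy)
    have e : Nat.card s = s.card := by
      rw [Nat.card_eq_fintype_card, Fintype.card_coe]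
    rwa [e] at this
  by_cases hA : ∀ x ∈ E, x = 1
  · have := hsub {1} (fun x hx => by rw [Finset.mem_singleton]; exact hA x hx)
    rw [Finset.card_singleton] at this
    omega
  · rw [not_forall] at hA
    obtain ⟨a, hA⟩ := hA
    rw [Classical.not_imp] at hA
    obtain ⟨haE, ha1⟩ := hA
    by_cases hB : ∀ x ∈ E, x = 1 ∨ x = a
    · have := hsub {1, a} (fun x hx => by
        rw [Finset.mem_insert, Finset.mem_singleton]; exact hB x hx)
      have h2 : ({1, a} : Finset (Q0 ω)).card ≤ 2 := Finset.card_le_two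
      omega
    · rw [not_forall] at hB
      obtain ⟨b, hB⟩ := hB
      rw [Classical.not_imp, not_or] at hB
      obtain ⟨hbE, hb1, hba⟩ := hB
      have := hsub {1, a, b, a * b} (fun x hx => by
        rw [Finset.mem_insert, Finset.mem_insert, Finset.mem_insert, Finset.mem_singleton]
        have h := Q0_elemAb ω hω h0 h1 a.2 b.2 x.2 (hsqE a haE) (hsqE b hbE) (hsqE x hx)
          (hcommE a haE b hbE) (hcommE a haE x hx) (hcommE b hbE x hx)
        rcases h with h | h | h | h | h | h | h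
        · exact absurd (Subtype.ext h) ha1
        · exact absurd (Subtype.ext h) hb1
        · exact absurd (Subtype.ext h) hba
        · exact Or.inl (Subtype.ext h)
        · exact Or.inr (Or.inl (Subtype.ext h))
        · exact Or.inr (Or.inr (Or.inl (Subtype.ext h)))
        · exact Or.inr (Or.inr (Or.inr (Subtype.ext h))))
      have h4 : ({1, a, b, a * b} : Finset (Q0 ω)).card ≤ 4 := Finset.card_le_four
      omega

/-! ### The complement -/

theorem closedA : ∀ e, memT Atab e → chkClosedEntry Atab Agens e = true := by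
  rintro e ⟨B, hB, p, hp, c, hc, he⟩
  simp only [Atab, List.mem_cons, List.not_mem_nil, or_false] at hB
  subst hB
  exact allB_of_mem chkA hp hc he

theorem rootA : ∃ e, memT Atab e ∧ codeOf e = ONE := by
  obtain ⟨e, he, h⟩ := rootA_mem
  exact ⟨e, mem_tab_of_chunk0 (T := Atab) (B := Ablk0) rfl (p := Ablk0.headD []) rfl
    (c := Ac_0_0_0) rfl he, h⟩

include hω in
theorem Agens_le_C0 : Submonoid.closure (setOfL (toMat F ω) Agens) ≤
    Submonoid.closure (setOfL (toMat F ω) C0gens) :=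
  closure_le_of_all_any ω hω closedC0 rootC0 Agens_C0

include hω in
theorem Agens_le_Gm : Submonoid.closure (setOfL (toMat F ω) Agens) ≤ Gm ω :=
  (Agens_le_C0 ω hω).trans (C0gens_le ω hω)

/-- a complement of `Q0` in `C0sub` -/
def A0 : Subgroup (threeJ3 F ω) := pull ω (Submonoid.closure (setOfL (toMat F ω) Agens))

include hω h0 h1 in
theorem card_A0 : Nat.card (A0 ω) = 60 := by
  unfold A0
  rw [card_pull_table ω hω h0 h1 closedA rootA incA (Agens_le_Gm ω hω), lenA]

include hω in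
theorem mem_A0 {g : threeJ3 F ω} :
    g ∈ A0 ω ↔ ∃ e, memT Atab e ∧ valHom ω g = toMat F ω (codeOf e) :=
  mem_pull_table ω hω closedA rootA

include hω in
theorem A0_le_C0sub : A0 ω ≤ C0sub ω := fun _ hg => Agens_le_C0 ω hω hg

include hω h0 h1 in
theorem Q0_inf_A0 : Q0 ω ⊓ A0 ω = ⊥ := by
  rw [eq_bot_iff]
  rintro g ⟨hq, ha⟩
  rw [Subgroup.mem_bot]
  obtain ⟨e, he, hv⟩ := (mem_A0 ω hω).1 ha
  obtain ⟨q, hq', hvq⟩ := (mem_Q0 ω hω).1 hq
  have h := A_inf_Q
  rw [List.all_eq_true] at h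
  have h2 := h e ((memT_iff _ _).1 he)
  rw [Bool.or_eq_true] at h2
  rcases h2 with h2 | h2
  · apply valHom_injective ω
    rw [hv, eq_of_beq h2, toMat_ONE, map_one]
  · exfalso
    have hc : codeOf q = codeOf e :=
      toMat_inj F ω h0 h1 (codeOf_lt q) (codeOf_lt e) (by rw [← hv, ← hvq])
    have : ((flatT Qtab).any fun q => codeOf q == codeOf e) = true := by
      rw [List.any_eq_true]
      exact ⟨q, (memT_iff _ _).1 hq', by rw [hc]; exact beq_self_eq_true _⟩
    rw [this] at h2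
    simp at h2

include hω h0 h1 in
/-- the complement is an alternating group of degree five -/
theorem nonempty_A0_equiv : Nonempty (A0 ω ≃* alternatingGroup (Fin 5)) := by
  have hmul := toMat_mul4 F ω hω
  have hlen := Agens_len
  have hrel := Agens_rel
  rw [Bool.and_eq_true, Bool.and_eq_true, Bool.and_eq_true] at hrel
  obtain ⟨⟨⟨r1, r2⟩, r3⟩, r4⟩ := hrel
  have hga : Agens.getD 0 ONE ∈ Agens := by
    rw [List.getD_eq_getElem _ _ (by rw [hlen]; norm_num)]
    exact List.getElem_mem _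
  have hgb : Agens.getD 1 ONE ∈ Agens := by
    rw [List.getD_eq_getElem _ _ (by rw [hlen]; norm_num)]
    exact List.getElem_mem _
  obtain ⟨a, ha, hav⟩ := exists_lift_gen ω (Agens_le_Gm ω hω) hga
  obtain ⟨b, hb, hbv⟩ := exists_lift_gen ω (Agens_le_Gm ω hω) hgb
  have haa : a * a = 1 := by
    apply valHom_injective ω
    rw [map_mul, hav, ← hmul, ← sq_eq, eq_of_beq r1, toMat_ONE, map_one]
  have hb5 : b ^ 5 = 1 := by
    apply valHom_injective ω
    rw [map_pow, hbv, ← dec_pow5 (toMat F ω) hmul, eq_of_beq r2, toMat_ONE, map_one]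
  have hab3 : (a * b) ^ 3 = 1 := by
    apply valHom_injective ω
    rw [map_pow, map_mul, hav, hbv, ← hmul, ← dec_pow3 (toMat F ω) hmul, eq_of_beq r3, toMat_ONE,
      map_one]
  have hane : a ≠ 1 := by
    intro h
    rw [h, map_one, ← toMat_ONE F ω] at hav
    have h2 : Agens.getD 0 ONE < 2 ^ 162 := by
      obtain ⟨e, he, hce⟩ : ∃ e, memT C0tab e ∧ codeOf e = Agens.getD 0 ONE := by
        have h3 := Agens_C0
        rw [List.all_eq_true] at h3
        have h4 := h3 _ hga
        rw [List.any_eq_true] at h4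
        obtain ⟨e, he, hce⟩ := h4
        exact ⟨e, (memT_iff _ _).2 he, eq_of_beq hce⟩
      rw [← hce]; exact codeOf_lt e
    have h3 := toMat_inj F ω h0 h1 (by decide) h2 hav
    rw [← h3] at r4
    simp at r4
  obtain ⟨φ, hφa, hφb⟩ := Cfsg.Agent.Helper13.A5Pres.exists_hom a b haa hb5 hab3
  have hinj : Function.Injective φ := by
    rw [← MonoidHom.ker_eq_bot_iff]
    have := alternatingGroup.isSimpleGroup_five
    rcases (inferInstance : φ.ker.Normal).eq_bot_or_eq_top with h | h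
    · exact h
    · exfalso
      have : Cfsg.Agent.Helper13.A5Pres.x0 ∈ φ.ker := by rw [h]; exact Subgroup.mem_top _
      rw [MonoidHom.mem_ker, hφa] at this
      exact hane this
  have hle : A0 ω ≤ φ.range := by
    have h1' : A0 ω ≤ Subgroup.closure ({a, b} : Set (threeJ3 F ω)) := by
      apply pull_le_closure
      intro g hg
      obtain ⟨i, hi, hig⟩ := List.getElem_of_mem hg
      rw [hlen] at hi
      have hi' : i = 0 ∨ i = 1 := by omega
      rcases hi' with rfl | rfl
      · refine ⟨a, Subgroup.subset_closure (by simp), ?_⟩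
        rw [hav, List.getD_eq_getElem _ _ (by rw [hlen]; norm_num), hig]
      · refine ⟨b, Subgroup.subset_closure (by simp), ?_⟩
        rw [hbv, List.getD_eq_getElem _ _ (by rw [hlen]; norm_num), hig]
    refine h1'.trans ?_
    rw [Subgroup.closure_le]
    rintro x (rfl | rfl)
    · exact ⟨_, hφa⟩
    · exact ⟨_, hφb⟩
  have hcardA5 : Nat.card (alternatingGroup (Fin 5)) = 60 := by
    rw [Nat.card_eq_fintype_card]; decide
  have hrange : Nat.card φ.range = 60 := by
    rw [← hcardA5]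
    exact (Nat.card_congr (MonoidHom.ofInjective hinj).toEquiv).symm
  have heq : A0 ω = φ.range := by
    apply Subgroup.eq_of_le_of_card_ge hle
    rw [hrange, card_A0 ω hω h0 h1]
  exact ⟨(MulEquiv.subgroupCongr heq).trans (MonoidHom.ofInjective hinj).symm⟩

include hω h0 h1 in
/-- the group `C0sub` has the shape `2^{1+4}_- : A5` -/
theorem shapeJ_C0sub : ShapeJ (C0sub ω) := by
  have hQle := Q0_le_C0sub ω hω
  have hAle := A0_le_C0sub ω hω
  have hn : ((Q0 ω).subgroupOf (C0sub ω)).Normal := by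
    constructor
    intro q hq c
    rw [Subgroup.mem_subgroupOf] at hq ⊢
    exact conj_mem_Q0 ω hω c.2 hq
  let eQ : (Q0 ω).subgroupOf (C0sub ω) ≃* Q0 ω := Subgroup.subgroupOfEquivOfLe hQle
  let eA : (A0 ω).subgroupOf (C0sub ω) ≃* A0 ω := Subgroup.subgroupOfEquivOfLe hAle
  have hcQ : Nat.card ((Q0 ω).subgroupOf (C0sub ω)) = 32 := by
    rw [Nat.card_congr eQ.toEquiv, card_Q0 ω hω h0 h1]
  have hcA : Nat.card ((A0 ω).subgroupOf (C0sub ω)) = 60 := by
    rw [Nat.card_congr eA.toEquiv, card_A0 ω hω h0 h1]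
  have hcomp : ((Q0 ω).subgroupOf (C0sub ω)).IsComplement' ((A0 ω).subgroupOf (C0sub ω)) := by
    apply Subgroup.isComplement'_of_card_mul_and_disjoint
    · rw [hcQ, hcA, card_C0sub ω hω h0 h1]
    · rw [disjoint_iff, eq_bot_iff]
      rintro x ⟨hx1, hx2⟩
      rw [Subgroup.mem_bot]
      have hx1' : (x : threeJ3 F ω) ∈ Q0 ω := Subgroup.mem_subgroupOf.1 hx1
      have hx2' : (x : threeJ3 F ω) ∈ A0 ω := Subgroup.mem_subgroupOf.1 hx2
      have : (x : threeJ3 F ω) ∈ Q0 ω ⊓ A0 ω := ⟨hx1', hx2'⟩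
      rw [Q0_inf_A0 ω hω h0 h1, Subgroup.mem_bot] at this
      exact Subtype.ext this
  refine ⟨(Q0 ω).subgroupOf (C0sub ω), hn, ?_, hcQ, ?_, ⟨_, hcomp⟩, ?_⟩
  · exact Cfsg.Agent.Helper3.ExtraspecialEquiv.isExtraspecial_of_mulEquiv eQ.symm
      (isExtraspecial_Q0 ω hω h0 h1)
  · intro E hE
    obtain ⟨hc, h2⟩ := hE
    have hE' : IsElementaryAbelian 2 (E.map eQ.toMonoidHom) := by
      constructor
      · constructor
        constructor
        rintro ⟨_, x, hx, rfl⟩ ⟨_, y, hy, rfl⟩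
        apply Subtype.ext
        show eQ x * eQ y = eQ y * eQ x
        rw [← map_mul, ← map_mul]
        congr 1
        exact congrArg Subtype.val (hc.is_comm.comm ⟨x, hx⟩ ⟨y, hy⟩)
      · rintro _ ⟨x, hx, rfl⟩
        show eQ x ^ 2 = 1
        rw [← map_pow, h2 x hx, map_one]
    have := card_elemAb_le ω hω h0 h1 _ hE'
    rwa [Subgroup.card_map_of_injective eQ.injective] at this
  · obtain ⟨a⟩ := nonempty_A0_equiv ω hω h0 h1
    have := hn
    exact ⟨(hcomp.symm.QuotientMulEquiv).trans (eA.trans a)⟩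

end field

end Cfsg.Agent.Helper14.J3
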