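import Mathlib
import Cfsg.Agent.Helper14.J3CU
import Cfsg.Agent.Helper14.J3CV

/-!
# The third Janko group: the class of involutions and the involution centraliser
-/

set_option autoImplicit false
set_option linter.unusedSectionVars false

namespace Cfsg.Agent.Helper14.J3

open Cfsg Cfsg.Spor
open scoped MatrixGroups Pointwise

section field

variable {F : Type*} [Field F] [CharP F 2] [Finite F] (ω : F) (hω : ω * ω = ω + 1)
variable (h0 : ω ≠ 0) (h1 : ω ≠ 1)

include hω h0 h1 in
/-- one class of involutions, with centraliser of shape `2^{1+4}_- : A5` -/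
theorem involution_centralizer :
    (∀ x y : J3 F ω, orderOf x = 2 → orderOf y = 2 → IsConj x y) ∧
      ∃ t : J3 F ω, orderOf t = 2 ∧ ShapeJ (Subgroup.centralizer ({t} : Set (J3 F ω))) := by
  obtain ⟨hconj, -, t, -, ht2, -⟩ := twoLocalHyp_J3 ω hω h0 h1
  refine ⟨hconj, ?_⟩
  obtain ⟨X, Y, hX, -, -⟩ := exists_XY ω hω
  have hcent := map_C0sub ω hω h0 h1 conjI X hX
  have hCc := C0sub_inf_center ω hω h0 h1
  have hinj : Function.Injective ((piJ ω).comp (C0sub ω).subtype) :=
    fun x y hxy => Subtype.ext (piJ_injOn ω hCc x.2 y.2 hxy)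
  have hr : ((piJ ω).comp (C0sub ω).subtype).range =
      Subgroup.centralizer ({piJ ω X} : Set (J3 F ω)) := by
    rw [MonoidHom.range_comp, Subgroup.range_subtype, hcent]
  have hmul := toMat_mul4 F ω hω
  have hXX : X * X = 1 := by
    apply valHom_injective ω
    rw [map_mul, hX, ← hmul, ← sq_eq, relX, toMat_ONE, map_one]
  have hXne : X ≠ 1 := by
    intro h
    have hne := X_ne
    rw [Bool.and_eq_true, Bool.and_eq_true, bne_iff_ne] at hne
    apply hne.1.1
    apply toMat_inj F ω h0 h1 (by decide) (by decide)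
    rw [← hX, h, map_one, toMat_ONE]
  have hXP : X ∈ P2 ω := X_mem_of_any ω hω closedP2 rootP2 X_in_P2 X hX
  have : Fact (Nat.Prime 2) := ⟨Nat.prime_two⟩
  have hord : orderOf (piJ ω X) = 2 := by
    apply orderOf_eq_prime
    · rw [pow_two, ← map_mul, hXX, map_one]
    · intro h
      apply hXne
      exact piJ_injOn ω (P2_inf_center ω hω h0 h1) hXP (Subgroup.one_mem _) (by rw [h, map_one])
  refine ⟨piJ ω X, hord, ?_⟩
  exact (shapeJ_C0sub ω hω h0 h1).of_equiv
    ((MonoidHom.ofInjective hinj).trans (MulEquiv.subgroupCongr hr))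

end field

end Cfsg.Agent.Helper14.J3
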