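import Mathlib
import Cfsg.Agent.Helper14.J3P
import Cfsg.Agent.Helper14.J3DK0
import Cfsg.Agent.Helper14.J3DK1
import Cfsg.Agent.Helper14.J3DK2
import Cfsg.Agent.Helper14.J3DK3
import Cfsg.Agent.Helper14.J3DK4
import Cfsg.Agent.Helper14.J3DK5

/-! # A subgroup of order 24480 (the normaliser of a subgroup `L2(16)`, with the scalars) -/

set_option autoImplicit false

namespace Cfsg.Agent.Helper14.J3

def Kgens : List Nat := [5559464978957687653319203656494012137693022314153, 4027803383315113828194049922710190260307118413997]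

def Kdec : List (Nat × Nat) := [(18404, 5505), (16445, 1696)]

def Ktab : Tab := [Kblk0, Kblk1, Kblk2, Kblk3, Kblk4, Kblk5]

theorem Kdec_eq : decRH Kdec = Kgens := by decide +kernel

theorem rootK_mem : ∃ e ∈ Kc_0_0_0, codeOf e = ONE := by decide +kernel

theorem Z1K_mem : ∃ e ∈ Kc_3_0_3, codeOf e = Z1 := by decide +kernel

theorem lenK : (flatT Ktab).length = 24480 := by decide +kernel

theorem incK : incCodes (flatT Ktab) = true := by decide +kernel

end Cfsg.Agent.Helper14.J3
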