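import Mathlib
import Cfsg.Agent.Helper14.J3T
import Cfsg.Agent.Helper14.J3DV0
import Cfsg.Agent.Helper14.J3DV1
import Cfsg.Agent.Helper14.J3DV2
import Cfsg.Agent.Helper14.J3DV3
import Cfsg.Agent.Helper14.J3DV4
import Cfsg.Agent.Helper14.J3DV5
import Cfsg.Agent.Helper14.J3DV6
import Cfsg.Agent.Helper14.J3DV7

/-!
# The orbit of the isotropic vectors: definitions
-/

set_option autoImplicit false

namespace Cfsg.Agent.Helper14.J3

/-- the bits of `a` moved to the places `0, 9, 18, ...` (a column of a coded matrix) -/
def spread (a : Nat) : Nat :=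
  ((a % 256) * 72340172838076673 &&& 9241421688590303745) + (a / 256) * 4722366482869645213696

/-- the code of the matrix whose first column is the vector with number `n`, the other columns zero -/
def vcode (n : Nat) : Nat := spread (n % 512) + P81 * spread (n / 512 % 512)

/-- the number of the places `< k` where `s` has a bit -/
def wt (s : Nat) : Nat → Nat
  | 0 => 0
  | k + 1 => wt s k + (if s.testBit k then 1 else 0)

/-- the numbers below 512 with an odd number of bits -/
def PAR : Nat := 7877703466965951741784356862959128443265788382021580589009765834561689170293574700951863729220303088751879007905492507289381878411509378061636115163081110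

/-- the vector with number `n` is nonzero with an even number of nonzero coordinates -/
def isIso (n : Nat) : Bool :=
  ((n % 512) ||| (n / 512 % 512)) != 0 && !(PAR.testBit ((n % 512) ||| (n / 512 % 512)))

def V0 : Nat := 3

def Vtab : Tab := [Vblk0, Vblk1, Vblk2, Vblk3, Vblk4, Vblk5, Vblk6, Vblk7, Vblk8, Vblk9, Vblk10, Vblk11, Vblk12, Vblk13, Vblk14, Vblk15, Vblk16, Vblk17, Vblk18, Vblk19, Vblk20, Vblk21, Vblk22, Vblk23, Vblk24, Vblk25, Vblk26, Vblk27, Vblk28, Vblk29, Vblk30, Vblk31, Vblk32, Vblk33, Vblk34, Vblk35, Vblk36, Vblk37, Vblk38, Vblk39, Vblk40, Vblk41, Vblk42, Vblk43, Vblk44, Vblk45, Vblk46, Vblk47, Vblk48, Vblk49, Vblk50, Vblk51, Vblk52, Vblk53, Vblk54, Vblk55, Vblk56, Vblk57, Vblk58, Vblk59, Vblk60, Vblk61, Vblk62, Vblk63]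

/-- the check of the entry with number `n` of the orbit table -/
def chkVn (T : Tab) (gs : List Nat) (v0 n : Nat) : Bool :=
  !(isIso n) || (n == v0) ||
    (force (getT T n) fun e =>
      force (e % 262144) fun par =>
        isIso par && (getT T par / 524288 % 1024 + 1 == e / 524288 % 1024) &&
          (mul4 (gs.getD (e / 262144 % 2) ONE) (vcode par) == vcode n))

/-- the places of the first column below the first row -/
def M0 : Nat := 4731607904558235517440

/-- the first column of the coded matrix is a multiple of the first basis vector -/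
def col0OK (c : Nat) : Bool := (lo c &&& M0 == 0) && (hi c &&& M0 == 0)

theorem spread_testBit : ∀ a < 512, ∀ i < 9, ∀ j < 9,
    (spread a).testBit (9 * i + j) = (decide (j = 0) && a.testBit i) := by decide +kernel

theorem spread_lt : ∀ a < 512, spread a < 2 ^ 81 := by decide +kernel

theorem PAR_testBit : ∀ s < 512, PAR.testBit s = (wt s 9 % 2 == 1) := by decide +kernel

theorem M0_testBit : ∀ i < 8, M0.testBit (9 * (i + 1)) = true := by decide +kernel

theorem chunk_apply {J n : Nat}
    (h : (List.range 128).all (fun k => chkVn Vtab XYgens V0 (128 * J + k)) = true)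
    (h1 : 128 * J ≤ n) (h2 : n < 128 * (J + 1)) : chkVn Vtab XYgens V0 n = true := by
  rw [List.all_eq_true] at h
  have := h (n - 128 * J) (List.mem_range.2 (by omega))
  rwa [show 128 * J + (n - 128 * J) = n by omega] at this

end Cfsg.Agent.Helper14.J3
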