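import Mathlib
import Cfsg.Agent.Helper14.J3Y

set_option autoImplicit false

namespace Cfsg.Agent.Helper14.J3

theorem kV_0 : (List.range 128).all (fun k => chkVn Vtab XYgens V0 (128 * 0 + k)) = true := by decide +kernel
theorem kV_1 : (List.range 128).all (fun k => chkVn Vtab XYgens V0 (128 * 1 + k)) = true := by decide +kernel
theorem kV_2 : (List.range 128).all (fun k => chkVn Vtab XYgens V0 (128 * 2 + k)) = true := by decide +kernel
theorem kV_3 : (List.range 128).all (fun k => chkVn Vtab XYgens V0 (128 * 3 + k)) = true := by decide +kernel
theorem kV_4 : (List.range 128).all (fun k => chkVn Vtab XYgens V0 (128 * 4 + k)) = true := by decide +kernel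
theorem kV_5 : (List.range 128).all (fun k => chkVn Vtab XYgens V0 (128 * 5 + k)) = true := by decide +kernel
theorem kV_6 : (List.range 128).all (fun k => chkVn Vtab XYgens V0 (128 * 6 + k)) = true := by decide +kernel
theorem kV_7 : (List.range 128).all (fun k => chkVn Vtab XYgens V0 (128 * 7 + k)) = true := by decide +kernel
theorem kV_8 : (List.range 128).all (fun k => chkVn Vtab XYgens V0 (128 * 8 + k)) = true := by decide +kernel
theorem kV_9 : (List.range 128).all (fun k => chkVn Vtab XYgens V0 (128 * 9 + k)) = true := by decide +kernel
theorem kV_10 : (List.range 128).all (fun k => chkVn Vtab XYgens V0 (128 * 10 + k)) = true := by decide +kernel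
theorem kV_11 : (List.range 128).all (fun k => chkVn Vtab XYgens V0 (128 * 11 + k)) = true := by decide +kernel
theorem kV_12 : (List.range 128).all (fun k => chkVn Vtab XYgens V0 (128 * 12 + k)) = true := by decide +kernel
theorem kV_13 : (List.range 128).all (fun k => chkVn Vtab XYgens V0 (128 * 13 + k)) = true := by decide +kernel
theorem kV_14 : (List.range 128).all (fun k => chkVn Vtab XYgens V0 (128 * 14 + k)) = true := by decide +kernel
theorem kV_15 : (List.range 128).all (fun k => chkVn Vtab XYgens V0 (128 * 15 + k)) = true := by decide +kernel
theorem kV_16 : (List.range 128).all (fun k => chkVn Vtab XYgens V0 (128 * 16 + k)) = true := by decide +kernel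
theorem kV_17 : (List.range 128).all (fun k => chkVn Vtab XYgens V0 (128 * 17 + k)) = true := by decide +kernel
theorem kV_18 : (List.range 128).all (fun k => chkVn Vtab XYgens V0 (128 * 18 + k)) = true := by decide +kernel
theorem kV_19 : (List.range 128).all (fun k => chkVn Vtab XYgens V0 (128 * 19 + k)) = true := by decide +kernel
theorem kV_20 : (List.range 128).all (fun k => chkVn Vtab XYgens V0 (128 * 20 + k)) = true := by decide +kernel
theorem kV_21 : (List.range 128).all (fun k => chkVn Vtab XYgens V0 (128 * 21 + k)) = true := by decide +kernel
theorem kV_22 : (List.range 128).all (fun k => chkVn Vtab XYgens V0 (128 * 22 + k)) = true := by decide +kernel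
theorem kV_23 : (List.range 128).all (fun k => chkVn Vtab XYgens V0 (128 * 23 + k)) = true := by decide +kernel
theorem kV_24 : (List.range 128).all (fun k => chkVn Vtab XYgens V0 (128 * 24 + k)) = true := by decide +kernel
theorem kV_25 : (List.range 128).all (fun k => chkVn Vtab XYgens V0 (128 * 25 + k)) = true := by decide +kernel
theorem kV_26 : (List.range 128).all (fun k => chkVn Vtab XYgens V0 (128 * 26 + k)) = true := by decide +kernel
theorem kV_27 : (List.range 128).all (fun k => chkVn Vtab XYgens V0 (128 * 27 + k)) = true := by decide +kernel
theorem kV_28 : (List.range 128).all (fun k => chkVn Vtab XYgens V0 (128 * 28 + k)) = true := by decide +kernel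
theorem kV_29 : (List.range 128).all (fun k => chkVn Vtab XYgens V0 (128 * 29 + k)) = true := by decide +kernel
theorem kV_30 : (List.range 128).all (fun k => chkVn Vtab XYgens V0 (128 * 30 + k)) = true := by decide +kernel
theorem kV_31 : (List.range 128).all (fun k => chkVn Vtab XYgens V0 (128 * 31 + k)) = true := by decide +kernel
theorem kV_32 : (List.range 128).all (fun k => chkVn Vtab XYgens V0 (128 * 32 + k)) = true := by decide +kernel
theorem kV_33 : (List.range 128).all (fun k => chkVn Vtab XYgens V0 (128 * 33 + k)) = true := by decide +kernel
theorem kV_34 : (List.range 128).all (fun k => chkVn Vtab XYgens V0 (128 * 34 + k)) = true := by decide +kernel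
theorem kV_35 : (List.range 128).all (fun k => chkVn Vtab XYgens V0 (128 * 35 + k)) = true := by decide +kernel
theorem kV_36 : (List.range 128).all (fun k => chkVn Vtab XYgens V0 (128 * 36 + k)) = true := by decide +kernel
theorem kV_37 : (List.range 128).all (fun k => chkVn Vtab XYgens V0 (128 * 37 + k)) = true := by decide +kernel
theorem kV_38 : (List.range 128).all (fun k => chkVn Vtab XYgens V0 (128 * 38 + k)) = true := by decide +kernel
theorem kV_39 : (List.range 128).all (fun k => chkVn Vtab XYgens V0 (128 * 39 + k)) = true := by decide +kernel
theorem kV_40 : (List.range 128).all (fun k => chkVn Vtab XYgens V0 (128 * 40 + k)) = true := by decide +kernel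
theorem kV_41 : (List.range 128).all (fun k => chkVn Vtab XYgens V0 (128 * 41 + k)) = true := by decide +kernel
theorem kV_42 : (List.range 128).all (fun k => chkVn Vtab XYgens V0 (128 * 42 + k)) = true := by decide +kernel
theorem kV_43 : (List.range 128).all (fun k => chkVn Vtab XYgens V0 (128 * 43 + k)) = true := by decide +kernel
theorem kV_44 : (List.range 128).all (fun k => chkVn Vtab XYgens V0 (128 * 44 + k)) = true := by decide +kernel
theorem kV_45 : (List.range 128).all (fun k => chkVn Vtab XYgens V0 (128 * 45 + k)) = true := by decide +kernel
theorem kV_46 : (List.range 128).all (fun k => chkVn Vtab XYgens V0 (128 * 46 + k)) = true := by decide +kernel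
theorem kV_47 : (List.range 128).all (fun k => chkVn Vtab XYgens V0 (128 * 47 + k)) = true := by decide +kernel
theorem kV_48 : (List.range 128).all (fun k => chkVn Vtab XYgens V0 (128 * 48 + k)) = true := by decide +kernel
theorem kV_49 : (List.range 128).all (fun k => chkVn Vtab XYgens V0 (128 * 49 + k)) = true := by decide +kernel
theorem kV_50 : (List.range 128).all (fun k => chkVn Vtab XYgens V0 (128 * 50 + k)) = true := by decide +kernel
theorem kV_51 : (List.range 128).all (fun k => chkVn Vtab XYgens V0 (128 * 51 + k)) = true := by decide +kernel
theorem kV_52 : (List.range 128).all (fun k => chkVn Vtab XYgens V0 (128 * 52 + k)) = true := by decide +kernel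
theorem kV_53 : (List.range 128).all (fun k => chkVn Vtab XYgens V0 (128 * 53 + k)) = true := by decide +kernel
theorem kV_54 : (List.range 128).all (fun k => chkVn Vtab XYgens V0 (128 * 54 + k)) = true := by decide +kernel
theorem kV_55 : (List.range 128).all (fun k => chkVn Vtab XYgens V0 (128 * 55 + k)) = true := by decide +kernel
theorem kV_56 : (List.range 128).all (fun k => chkVn Vtab XYgens V0 (128 * 56 + k)) = true := by decide +kernel
theorem kV_57 : (List.range 128).all (fun k => chkVn Vtab XYgens V0 (128 * 57 + k)) = true := by decide +kernel
theorem kV_58 : (List.range 128).all (fun k => chkVn Vtab XYgens V0 (128 * 58 + k)) = true := by decide +kernel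
theorem kV_59 : (List.range 128).all (fun k => chkVn Vtab XYgens V0 (128 * 59 + k)) = true := by decide +kernel
theorem kV_60 : (List.range 128).all (fun k => chkVn Vtab XYgens V0 (128 * 60 + k)) = true := by decide +kernel
theorem kV_61 : (List.range 128).all (fun k => chkVn Vtab XYgens V0 (128 * 61 + k)) = true := by decide +kernel
theorem kV_62 : (List.range 128).all (fun k => chkVn Vtab XYgens V0 (128 * 62 + k)) = true := by decide +kernel
theorem kV_63 : (List.range 128).all (fun k => chkVn Vtab XYgens V0 (128 * 63 + k)) = true := by decide +kernel
theorem kV_64 : (List.range 128).all (fun k => chkVn Vtab XYgens V0 (128 * 64 + k)) = true := by decide +kernel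
theorem kV_65 : (List.range 128).all (fun k => chkVn Vtab XYgens V0 (128 * 65 + k)) = true := by decide +kernel
theorem kV_66 : (List.range 128).all (fun k => chkVn Vtab XYgens V0 (128 * 66 + k)) = true := by decide +kernel
theorem kV_67 : (List.range 128).all (fun k => chkVn Vtab XYgens V0 (128 * 67 + k)) = true := by decide +kernel
theorem kV_68 : (List.range 128).all (fun k => chkVn Vtab XYgens V0 (128 * 68 + k)) = true := by decide +kernel
theorem kV_69 : (List.range 128).all (fun k => chkVn Vtab XYgens V0 (128 * 69 + k)) = true := by decide +kernel
theorem kV_70 : (List.range 128).all (fun k => chkVn Vtab XYgens V0 (128 * 70 + k)) = true := by decide +kernel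
theorem kV_71 : (List.range 128).all (fun k => chkVn Vtab XYgens V0 (128 * 71 + k)) = true := by decide +kernel
theorem kV_72 : (List.range 128).all (fun k => chkVn Vtab XYgens V0 (128 * 72 + k)) = true := by decide +kernel
theorem kV_73 : (List.range 128).all (fun k => chkVn Vtab XYgens V0 (128 * 73 + k)) = true := by decide +kernel
theorem kV_74 : (List.range 128).all (fun k => chkVn Vtab XYgens V0 (128 * 74 + k)) = true := by decide +kernel
theorem kV_75 : (List.range 128).all (fun k => chkVn Vtab XYgens V0 (128 * 75 + k)) = true := by decide +kernel
theorem kV_76 : (List.range 128).all (fun k => chkVn Vtab XYgens V0 (128 * 76 + k)) = true := by decide +kernel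
theorem kV_77 : (List.range 128).all (fun k => chkVn Vtab XYgens V0 (128 * 77 + k)) = true := by decide +kernel
theorem kV_78 : (List.range 128).all (fun k => chkVn Vtab XYgens V0 (128 * 78 + k)) = true := by decide +kernel
theorem kV_79 : (List.range 128).all (fun k => chkVn Vtab XYgens V0 (128 * 79 + k)) = true := by decide +kernel
theorem kV_80 : (List.range 128).all (fun k => chkVn Vtab XYgens V0 (128 * 80 + k)) = true := by decide +kernel
theorem kV_81 : (List.range 128).all (fun k => chkVn Vtab XYgens V0 (128 * 81 + k)) = true := by decide +kernel
theorem kV_82 : (List.range 128).all (fun k => chkVn Vtab XYgens V0 (128 * 82 + k)) = true := by decide +kernel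
theorem kV_83 : (List.range 128).all (fun k => chkVn Vtab XYgens V0 (128 * 83 + k)) = true := by decide +kernel
theorem kV_84 : (List.range 128).all (fun k => chkVn Vtab XYgens V0 (128 * 84 + k)) = true := by decide +kernel
theorem kV_85 : (List.range 128).all (fun k => chkVn Vtab XYgens V0 (128 * 85 + k)) = true := by decide +kernel
theorem kV_86 : (List.range 128).all (fun k => chkVn Vtab XYgens V0 (128 * 86 + k)) = true := by decide +kernel
theorem kV_87 : (List.range 128).all (fun k => chkVn Vtab XYgens V0 (128 * 87 + k)) = true := by decide +kernel
theorem kV_88 : (List.range 128).all (fun k => chkVn Vtab XYgens V0 (128 * 88 + k)) = true := by decide +kernel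
theorem kV_89 : (List.range 128).all (fun k => chkVn Vtab XYgens V0 (128 * 89 + k)) = true := by decide +kernel
theorem kV_90 : (List.range 128).all (fun k => chkVn Vtab XYgens V0 (128 * 90 + k)) = true := by decide +kernel
theorem kV_91 : (List.range 128).all (fun k => chkVn Vtab XYgens V0 (128 * 91 + k)) = true := by decide +kernel
theorem kV_92 : (List.range 128).all (fun k => chkVn Vtab XYgens V0 (128 * 92 + k)) = true := by decide +kernel
theorem kV_93 : (List.range 128).all (fun k => chkVn Vtab XYgens V0 (128 * 93 + k)) = true := by decide +kernel
theorem kV_94 : (List.range 128).all (fun k => chkVn Vtab XYgens V0 (128 * 94 + k)) = true := by decide +kernel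
theorem kV_95 : (List.range 128).all (fun k => chkVn Vtab XYgens V0 (128 * 95 + k)) = true := by decide +kernel
theorem kV_96 : (List.range 128).all (fun k => chkVn Vtab XYgens V0 (128 * 96 + k)) = true := by decide +kernel
theorem kV_97 : (List.range 128).all (fun k => chkVn Vtab XYgens V0 (128 * 97 + k)) = true := by decide +kernel
theorem kV_98 : (List.range 128).all (fun k => chkVn Vtab XYgens V0 (128 * 98 + k)) = true := by decide +kernel
theorem kV_99 : (List.range 128).all (fun k => chkVn Vtab XYgens V0 (128 * 99 + k)) = true := by decide +kernel
theorem kV_100 : (List.range 128).all (fun k => chkVn Vtab XYgens V0 (128 * 100 + k)) = true := by decide +kernel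
theorem kV_101 : (List.range 128).all (fun k => chkVn Vtab XYgens V0 (128 * 101 + k)) = true := by decide +kernel
theorem kV_102 : (List.range 128).all (fun k => chkVn Vtab XYgens V0 (128 * 102 + k)) = true := by decide +kernel
theorem kV_103 : (List.range 128).all (fun k => chkVn Vtab XYgens V0 (128 * 103 + k)) = true := by decide +kernel
theorem kV_104 : (List.range 128).all (fun k => chkVn Vtab XYgens V0 (128 * 104 + k)) = true := by decide +kernel
theorem kV_105 : (List.range 128).all (fun k => chkVn Vtab XYgens V0 (128 * 105 + k)) = true := by decide +kernel
theorem kV_106 : (List.range 128).all (fun k => chkVn Vtab XYgens V0 (128 * 106 + k)) = true := by decide +kernel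
theorem kV_107 : (List.range 128).all (fun k => chkVn Vtab XYgens V0 (128 * 107 + k)) = true := by decide +kernel
theorem kV_108 : (List.range 128).all (fun k => chkVn Vtab XYgens V0 (128 * 108 + k)) = true := by decide +kernel
theorem kV_109 : (List.range 128).all (fun k => chkVn Vtab XYgens V0 (128 * 109 + k)) = true := by decide +kernel
theorem kV_110 : (List.range 128).all (fun k => chkVn Vtab XYgens V0 (128 * 110 + k)) = true := by decide +kernel
theorem kV_111 : (List.range 128).all (fun k => chkVn Vtab XYgens V0 (128 * 111 + k)) = true := by decide +kernel
theorem kV_112 : (List.range 128).all (fun k => chkVn Vtab XYgens V0 (128 * 112 + k)) = true := by decide +kernel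
theorem kV_113 : (List.range 128).all (fun k => chkVn Vtab XYgens V0 (128 * 113 + k)) = true := by decide +kernel
theorem kV_114 : (List.range 128).all (fun k => chkVn Vtab XYgens V0 (128 * 114 + k)) = true := by decide +kernel
theorem kV_115 : (List.range 128).all (fun k => chkVn Vtab XYgens V0 (128 * 115 + k)) = true := by decide +kernel
theorem kV_116 : (List.range 128).all (fun k => chkVn Vtab XYgens V0 (128 * 116 + k)) = true := by decide +kernel
theorem kV_117 : (List.range 128).all (fun k => chkVn Vtab XYgens V0 (128 * 117 + k)) = true := by decide +kernel
theorem kV_118 : (List.range 128).all (fun k => chkVn Vtab XYgens V0 (128 * 118 + k)) = true := by decide +kernel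
theorem kV_119 : (List.range 128).all (fun k => chkVn Vtab XYgens V0 (128 * 119 + k)) = true := by decide +kernel
theorem kV_120 : (List.range 128).all (fun k => chkVn Vtab XYgens V0 (128 * 120 + k)) = true := by decide +kernel
theorem kV_121 : (List.range 128).all (fun k => chkVn Vtab XYgens V0 (128 * 121 + k)) = true := by decide +kernel
theorem kV_122 : (List.range 128).all (fun k => chkVn Vtab XYgens V0 (128 * 122 + k)) = true := by decide +kernel
theorem kV_123 : (List.range 128).all (fun k => chkVn Vtab XYgens V0 (128 * 123 + k)) = true := by decide +kernel
theorem kV_124 : (List.range 128).all (fun k => chkVn Vtab XYgens V0 (128 * 124 + k)) = true := by decide +kernel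
theorem kV_125 : (List.range 128).all (fun k => chkVn Vtab XYgens V0 (128 * 125 + k)) = true := by decide +kernel
theorem kV_126 : (List.range 128).all (fun k => chkVn Vtab XYgens V0 (128 * 126 + k)) = true := by decide +kernel
theorem kV_127 : (List.range 128).all (fun k => chkVn Vtab XYgens V0 (128 * 127 + k)) = true := by decide +kernel

theorem chkV_0 : ∀ n, 0 ≤ n → n < 16384 → chkVn Vtab XYgens V0 n = true := by
  intro n h1 h2
  obtain ⟨J, hJ⟩ : ∃ J, J = n / 128 := ⟨_, rfl⟩
  have hJ1 : 0 ≤ J := by omega
  have hJ2 : J < 128 := by omega
  interval_cases J
  · exact chunk_apply kV_0 (by omega) (by omega)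
  · exact chunk_apply kV_1 (by omega) (by omega)
  · exact chunk_apply kV_2 (by omega) (by omega)
  · exact chunk_apply kV_3 (by omega) (by omega)
  · exact chunk_apply kV_4 (by omega) (by omega)
  · exact chunk_apply kV_5 (by omega) (by omega)
  · exact chunk_apply kV_6 (by omega) (by omega)
  · exact chunk_apply kV_7 (by omega) (by omega)
  · exact chunk_apply kV_8 (by omega) (by omega)
  · exact chunk_apply kV_9 (by omega) (by omega)
  · exact chunk_apply kV_10 (by omega) (by omega)
  · exact chunk_apply kV_11 (by omega) (by omega)
  · exact chunk_apply kV_12 (by omega) (by omega)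
  · exact chunk_apply kV_13 (by omega) (by omega)
  · exact chunk_apply kV_14 (by omega) (by omega)
  · exact chunk_apply kV_15 (by omega) (by omega)
  · exact chunk_apply kV_16 (by omega) (by omega)
  · exact chunk_apply kV_17 (by omega) (by omega)
  · exact chunk_apply kV_18 (by omega) (by omega)
  · exact chunk_apply kV_19 (by omega) (by omega)
  · exact chunk_apply kV_20 (by omega) (by omega)
  · exact chunk_apply kV_21 (by omega) (by omega)
  · exact chunk_apply kV_22 (by omega) (by omega)
  · exact chunk_apply kV_23 (by omega) (by omega)
  · exact chunk_apply kV_24 (by omega) (by omega)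
  · exact chunk_apply kV_25 (by omega) (by omega)
  · exact chunk_apply kV_26 (by omega) (by omega)
  · exact chunk_apply kV_27 (by omega) (by omega)
  · exact chunk_apply kV_28 (by omega) (by omega)
  · exact chunk_apply kV_29 (by omega) (by omega)
  · exact chunk_apply kV_30 (by omega) (by omega)
  · exact chunk_apply kV_31 (by omega) (by omega)
  · exact chunk_apply kV_32 (by omega) (by omega)
  · exact chunk_apply kV_33 (by omega) (by omega)
  · exact chunk_apply kV_34 (by omega) (by omega)
  · exact chunk_apply kV_35 (by omega) (by omega)
  · exact chunk_apply kV_36 (by omega) (by omega)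
  · exact chunk_apply kV_37 (by omega) (by omega)
  · exact chunk_apply kV_38 (by omega) (by omega)
  · exact chunk_apply kV_39 (by omega) (by omega)
  · exact chunk_apply kV_40 (by omega) (by omega)
  · exact chunk_apply kV_41 (by omega) (by omega)
  · exact chunk_apply kV_42 (by omega) (by omega)
  · exact chunk_apply kV_43 (by omega) (by omega)
  · exact chunk_apply kV_44 (by omega) (by omega)
  · exact chunk_apply kV_45 (by omega) (by omega)
  · exact chunk_apply kV_46 (by omega) (by omega)
  · exact chunk_apply kV_47 (by omega) (by omega)
  · exact chunk_apply kV_48 (by omega) (by omega)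
  · exact chunk_apply kV_49 (by omega) (by omega)
  · exact chunk_apply kV_50 (by omega) (by omega)
  · exact chunk_apply kV_51 (by omega) (by omega)
  · exact chunk_apply kV_52 (by omega) (by omega)
  · exact chunk_apply kV_53 (by omega) (by omega)
  · exact chunk_apply kV_54 (by omega) (by omega)
  · exact chunk_apply kV_55 (by omega) (by omega)
  · exact chunk_apply kV_56 (by omega) (by omega)
  · exact chunk_apply kV_57 (by omega) (by omega)
  · exact chunk_apply kV_58 (by omega) (by omega)
  · exact chunk_apply kV_59 (by omega) (by omega)
  · exact chunk_apply kV_60 (by omega) (by omega)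
  · exact chunk_apply kV_61 (by omega) (by omega)
  · exact chunk_apply kV_62 (by omega) (by omega)
  · exact chunk_apply kV_63 (by omega) (by omega)
  · exact chunk_apply kV_64 (by omega) (by omega)
  · exact chunk_apply kV_65 (by omega) (by omega)
  · exact chunk_apply kV_66 (by omega) (by omega)
  · exact chunk_apply kV_67 (by omega) (by omega)
  · exact chunk_apply kV_68 (by omega) (by omega)
  · exact chunk_apply kV_69 (by omega) (by omega)
  · exact chunk_apply kV_70 (by omega) (by omega)
  · exact chunk_apply kV_71 (by omega) (by omega)
  · exact chunk_apply kV_72 (by omega) (by omega)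
  · exact chunk_apply kV_73 (by omega) (by omega)
  · exact chunk_apply kV_74 (by omega) (by omega)
  · exact chunk_apply kV_75 (by omega) (by omega)
  · exact chunk_apply kV_76 (by omega) (by omega)
  · exact chunk_apply kV_77 (by omega) (by omega)
  · exact chunk_apply kV_78 (by omega) (by omega)
  · exact chunk_apply kV_79 (by omega) (by omega)
  · exact chunk_apply kV_80 (by omega) (by omega)
  · exact chunk_apply kV_81 (by omega) (by omega)
  · exact chunk_apply kV_82 (by omega) (by omega)
  · exact chunk_apply kV_83 (by omega) (by omega)
  · exact chunk_apply kV_84 (by omega) (by omega)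
  · exact chunk_apply kV_85 (by omega) (by omega)
  · exact chunk_apply kV_86 (by omega) (by omega)
  · exact chunk_apply kV_87 (by omega) (by omega)
  · exact chunk_apply kV_88 (by omega) (by omega)
  · exact chunk_apply kV_89 (by omega) (by omega)
  · exact chunk_apply kV_90 (by omega) (by omega)
  · exact chunk_apply kV_91 (by omega) (by omega)
  · exact chunk_apply kV_92 (by omega) (by omega)
  · exact chunk_apply kV_93 (by omega) (by omega)
  · exact chunk_apply kV_94 (by omega) (by omega)
  · exact chunk_apply kV_95 (by omega) (by omega)
  · exact chunk_apply kV_96 (by omega) (by omega)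
  · exact chunk_apply kV_97 (by omega) (by omega)
  · exact chunk_apply kV_98 (by omega) (by omega)
  · exact chunk_apply kV_99 (by omega) (by omega)
  · exact chunk_apply kV_100 (by omega) (by omega)
  · exact chunk_apply kV_101 (by omega) (by omega)
  · exact chunk_apply kV_102 (by omega) (by omega)
  · exact chunk_apply kV_103 (by omega) (by omega)
  · exact chunk_apply kV_104 (by omega) (by omega)
  · exact chunk_apply kV_105 (by omega) (by omega)
  · exact chunk_apply kV_106 (by omega) (by omega)
  · exact chunk_apply kV_107 (by omega) (by omega)
  · exact chunk_apply kV_108 (by omega) (by omega)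
  · exact chunk_apply kV_109 (by omega) (by omega)
  · exact chunk_apply kV_110 (by omega) (by omega)
  · exact chunk_apply kV_111 (by omega) (by omega)
  · exact chunk_apply kV_112 (by omega) (by omega)
  · exact chunk_apply kV_113 (by omega) (by omega)
  · exact chunk_apply kV_114 (by omega) (by omega)
  · exact chunk_apply kV_115 (by omega) (by omega)
  · exact chunk_apply kV_116 (by omega) (by omega)
  · exact chunk_apply kV_117 (by omega) (by omega)
  · exact chunk_apply kV_118 (by omega) (by omega)
  · exact chunk_apply kV_119 (by omega) (by omega)
  · exact chunk_apply kV_120 (by omega) (by omega)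
  · exact chunk_apply kV_121 (by omega) (by omega)
  · exact chunk_apply kV_122 (by omega) (by omega)
  · exact chunk_apply kV_123 (by omega) (by omega)
  · exact chunk_apply kV_124 (by omega) (by omega)
  · exact chunk_apply kV_125 (by omega) (by omega)
  · exact chunk_apply kV_126 (by omega) (by omega)
  · exact chunk_apply kV_127 (by omega) (by omega)

end Cfsg.Agent.Helper14.J3
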