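import Mathlib
import Cfsg.Agent.Helper14.J3Y

set_option autoImplicit false

namespace Cfsg.Agent.Helper14.J3

theorem kV_128 : (List.range 128).all (fun k => chkVn Vtab XYgens V0 (128 * 128 + k)) = true := by decide +kernel
theorem kV_129 : (List.range 128).all (fun k => chkVn Vtab XYgens V0 (128 * 129 + k)) = true := by decide +kernel
theorem kV_130 : (List.range 128).all (fun k => chkVn Vtab XYgens V0 (128 * 130 + k)) = true := by decide +kernel
theorem kV_131 : (List.range 128).all (fun k => chkVn Vtab XYgens V0 (128 * 131 + k)) = true := by decide +kernel
theorem kV_132 : (List.range 128).all (fun k => chkVn Vtab XYgens V0 (128 * 132 + k)) = true := by decide +kernel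
theorem kV_133 : (List.range 128).all (fun k => chkVn Vtab XYgens V0 (128 * 133 + k)) = true := by decide +kernel
theorem kV_134 : (List.range 128).all (fun k => chkVn Vtab XYgens V0 (128 * 134 + k)) = true := by decide +kernel
theorem kV_135 : (List.range 128).all (fun k => chkVn Vtab XYgens V0 (128 * 135 + k)) = true := by decide +kernel
theorem kV_136 : (List.range 128).all (fun k => chkVn Vtab XYgens V0 (128 * 136 + k)) = true := by decide +kernel
theorem kV_137 : (List.range 128).all (fun k => chkVn Vtab XYgens V0 (128 * 137 + k)) = true := by decide +kernel
theorem kV_138 : (List.range 128).all (fun k => chkVn Vtab XYgens V0 (128 * 138 + k)) = true := by decide +kernel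
theorem kV_139 : (List.range 128).all (fun k => chkVn Vtab XYgens V0 (128 * 139 + k)) = true := by decide +kernel
theorem kV_140 : (List.range 128).all (fun k => chkVn Vtab XYgens V0 (128 * 140 + k)) = true := by decide +kernel
theorem kV_141 : (List.range 128).all (fun k => chkVn Vtab XYgens V0 (128 * 141 + k)) = true := by decide +kernel
theorem kV_142 : (List.range 128).all (fun k => chkVn Vtab XYgens V0 (128 * 142 + k)) = true := by decide +kernel
theorem kV_143 : (List.range 128).all (fun k => chkVn Vtab XYgens V0 (128 * 143 + k)) = true := by decide +kernel
theorem kV_144 : (List.range 128).all (fun k => chkVn Vtab XYgens V0 (128 * 144 + k)) = true := by decide +kernel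
theorem kV_145 : (List.range 128).all (fun k => chkVn Vtab XYgens V0 (128 * 145 + k)) = true := by decide +kernel
theorem kV_146 : (List.range 128).all (fun k => chkVn Vtab XYgens V0 (128 * 146 + k)) = true := by decide +kernel
theorem kV_147 : (List.range 128).all (fun k => chkVn Vtab XYgens V0 (128 * 147 + k)) = true := by decide +kernel
theorem kV_148 : (List.range 128).all (fun k => chkVn Vtab XYgens V0 (128 * 148 + k)) = true := by decide +kernel
theorem kV_149 : (List.range 128).all (fun k => chkVn Vtab XYgens V0 (128 * 149 + k)) = true := by decide +kernel
theorem kV_150 : (List.range 128).all (fun k => chkVn Vtab XYgens V0 (128 * 150 + k)) = true := by decide +kernel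
theorem kV_151 : (List.range 128).all (fun k => chkVn Vtab XYgens V0 (128 * 151 + k)) = true := by decide +kernel
theorem kV_152 : (List.range 128).all (fun k => chkVn Vtab XYgens V0 (128 * 152 + k)) = true := by decide +kernel
theorem kV_153 : (List.range 128).all (fun k => chkVn Vtab XYgens V0 (128 * 153 + k)) = true := by decide +kernel
theorem kV_154 : (List.range 128).all (fun k => chkVn Vtab XYgens V0 (128 * 154 + k)) = true := by decide +kernel
theorem kV_155 : (List.range 128).all (fun k => chkVn Vtab XYgens V0 (128 * 155 + k)) = true := by decide +kernel
theorem kV_156 : (List.range 128).all (fun k => chkVn Vtab XYgens V0 (128 * 156 + k)) = true := by decide +kernel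
theorem kV_157 : (List.range 128).all (fun k => chkVn Vtab XYgens V0 (128 * 157 + k)) = true := by decide +kernel
theorem kV_158 : (List.range 128).all (fun k => chkVn Vtab XYgens V0 (128 * 158 + k)) = true := by decide +kernel
theorem kV_159 : (List.range 128).all (fun k => chkVn Vtab XYgens V0 (128 * 159 + k)) = true := by decide +kernel
theorem kV_160 : (List.range 128).all (fun k => chkVn Vtab XYgens V0 (128 * 160 + k)) = true := by decide +kernel
theorem kV_161 : (List.range 128).all (fun k => chkVn Vtab XYgens V0 (128 * 161 + k)) = true := by decide +kernel
theorem kV_162 : (List.range 128).all (fun k => chkVn Vtab XYgens V0 (128 * 162 + k)) = true := by decide +kernel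
theorem kV_163 : (List.range 128).all (fun k => chkVn Vtab XYgens V0 (128 * 163 + k)) = true := by decide +kernel
theorem kV_164 : (List.range 128).all (fun k => chkVn Vtab XYgens V0 (128 * 164 + k)) = true := by decide +kernel
theorem kV_165 : (List.range 128).all (fun k => chkVn Vtab XYgens V0 (128 * 165 + k)) = true := by decide +kernel
theorem kV_166 : (List.range 128).all (fun k => chkVn Vtab XYgens V0 (128 * 166 + k)) = true := by decide +kernel
theorem kV_167 : (List.range 128).all (fun k => chkVn Vtab XYgens V0 (128 * 167 + k)) = true := by decide +kernel
theorem kV_168 : (List.range 128).all (fun k => chkVn Vtab XYgens V0 (128 * 168 + k)) = true := by decide +kernel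
theorem kV_169 : (List.range 128).all (fun k => chkVn Vtab XYgens V0 (128 * 169 + k)) = true := by decide +kernel
theorem kV_170 : (List.range 128).all (fun k => chkVn Vtab XYgens V0 (128 * 170 + k)) = true := by decide +kernel
theorem kV_171 : (List.range 128).all (fun k => chkVn Vtab XYgens V0 (128 * 171 + k)) = true := by decide +kernel
theorem kV_172 : (List.range 128).all (fun k => chkVn Vtab XYgens V0 (128 * 172 + k)) = true := by decide +kernel
theorem kV_173 : (List.range 128).all (fun k => chkVn Vtab XYgens V0 (128 * 173 + k)) = true := by decide +kernel
theorem kV_174 : (List.range 128).all (fun k => chkVn Vtab XYgens V0 (128 * 174 + k)) = true := by decide +kernel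
theorem kV_175 : (List.range 128).all (fun k => chkVn Vtab XYgens V0 (128 * 175 + k)) = true := by decide +kernel
theorem kV_176 : (List.range 128).all (fun k => chkVn Vtab XYgens V0 (128 * 176 + k)) = true := by decide +kernel
theorem kV_177 : (List.range 128).all (fun k => chkVn Vtab XYgens V0 (128 * 177 + k)) = true := by decide +kernel
theorem kV_178 : (List.range 128).all (fun k => chkVn Vtab XYgens V0 (128 * 178 + k)) = true := by decide +kernel
theorem kV_179 : (List.range 128).all (fun k => chkVn Vtab XYgens V0 (128 * 179 + k)) = true := by decide +kernel
theorem kV_180 : (List.range 128).all (fun k => chkVn Vtab XYgens V0 (128 * 180 + k)) = true := by decide +kernel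
theorem kV_181 : (List.range 128).all (fun k => chkVn Vtab XYgens V0 (128 * 181 + k)) = true := by decide +kernel
theorem kV_182 : (List.range 128).all (fun k => chkVn Vtab XYgens V0 (128 * 182 + k)) = true := by decide +kernel
theorem kV_183 : (List.range 128).all (fun k => chkVn Vtab XYgens V0 (128 * 183 + k)) = true := by decide +kernel
theorem kV_184 : (List.range 128).all (fun k => chkVn Vtab XYgens V0 (128 * 184 + k)) = true := by decide +kernel
theorem kV_185 : (List.range 128).all (fun k => chkVn Vtab XYgens V0 (128 * 185 + k)) = true := by decide +kernel
theorem kV_186 : (List.range 128).all (fun k => chkVn Vtab XYgens V0 (128 * 186 + k)) = true := by decide +kernel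
theorem kV_187 : (List.range 128).all (fun k => chkVn Vtab XYgens V0 (128 * 187 + k)) = true := by decide +kernel
theorem kV_188 : (List.range 128).all (fun k => chkVn Vtab XYgens V0 (128 * 188 + k)) = true := by decide +kernel
theorem kV_189 : (List.range 128).all (fun k => chkVn Vtab XYgens V0 (128 * 189 + k)) = true := by decide +kernel
theorem kV_190 : (List.range 128).all (fun k => chkVn Vtab XYgens V0 (128 * 190 + k)) = true := by decide +kernel
theorem kV_191 : (List.range 128).all (fun k => chkVn Vtab XYgens V0 (128 * 191 + k)) = true := by decide +kernel
theorem kV_192 : (List.range 128).all (fun k => chkVn Vtab XYgens V0 (128 * 192 + k)) = true := by decide +kernel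
theorem kV_193 : (List.range 128).all (fun k => chkVn Vtab XYgens V0 (128 * 193 + k)) = true := by decide +kernel
theorem kV_194 : (List.range 128).all (fun k => chkVn Vtab XYgens V0 (128 * 194 + k)) = true := by decide +kernel
theorem kV_195 : (List.range 128).all (fun k => chkVn Vtab XYgens V0 (128 * 195 + k)) = true := by decide +kernel
theorem kV_196 : (List.range 128).all (fun k => chkVn Vtab XYgens V0 (128 * 196 + k)) = true := by decide +kernel
theorem kV_197 : (List.range 128).all (fun k => chkVn Vtab XYgens V0 (128 * 197 + k)) = true := by decide +kernel
theorem kV_198 : (List.range 128).all (fun k => chkVn Vtab XYgens V0 (128 * 198 + k)) = true := by decide +kernel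
theorem kV_199 : (List.range 128).all (fun k => chkVn Vtab XYgens V0 (128 * 199 + k)) = true := by decide +kernel
theorem kV_200 : (List.range 128).all (fun k => chkVn Vtab XYgens V0 (128 * 200 + k)) = true := by decide +kernel
theorem kV_201 : (List.range 128).all (fun k => chkVn Vtab XYgens V0 (128 * 201 + k)) = true := by decide +kernel
theorem kV_202 : (List.range 128).all (fun k => chkVn Vtab XYgens V0 (128 * 202 + k)) = true := by decide +kernel
theorem kV_203 : (List.range 128).all (fun k => chkVn Vtab XYgens V0 (128 * 203 + k)) = true := by decide +kernel
theorem kV_204 : (List.range 128).all (fun k => chkVn Vtab XYgens V0 (128 * 204 + k)) = true := by decide +kernel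
theorem kV_205 : (List.range 128).all (fun k => chkVn Vtab XYgens V0 (128 * 205 + k)) = true := by decide +kernel
theorem kV_206 : (List.range 128).all (fun k => chkVn Vtab XYgens V0 (128 * 206 + k)) = true := by decide +kernel
theorem kV_207 : (List.range 128).all (fun k => chkVn Vtab XYgens V0 (128 * 207 + k)) = true := by decide +kernel
theorem kV_208 : (List.range 128).all (fun k => chkVn Vtab XYgens V0 (128 * 208 + k)) = true := by decide +kernel
theorem kV_209 : (List.range 128).all (fun k => chkVn Vtab XYgens V0 (128 * 209 + k)) = true := by decide +kernel
theorem kV_210 : (List.range 128).all (fun k => chkVn Vtab XYgens V0 (128 * 210 + k)) = true := by decide +kernel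
theorem kV_211 : (List.range 128).all (fun k => chkVn Vtab XYgens V0 (128 * 211 + k)) = true := by decide +kernel
theorem kV_212 : (List.range 128).all (fun k => chkVn Vtab XYgens V0 (128 * 212 + k)) = true := by decide +kernel
theorem kV_213 : (List.range 128).all (fun k => chkVn Vtab XYgens V0 (128 * 213 + k)) = true := by decide +kernel
theorem kV_214 : (List.range 128).all (fun k => chkVn Vtab XYgens V0 (128 * 214 + k)) = true := by decide +kernel
theorem kV_215 : (List.range 128).all (fun k => chkVn Vtab XYgens V0 (128 * 215 + k)) = true := by decide +kernel
theorem kV_216 : (List.range 128).all (fun k => chkVn Vtab XYgens V0 (128 * 216 + k)) = true := by decide +kernel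
theorem kV_217 : (List.range 128).all (fun k => chkVn Vtab XYgens V0 (128 * 217 + k)) = true := by decide +kernel
theorem kV_218 : (List.range 128).all (fun k => chkVn Vtab XYgens V0 (128 * 218 + k)) = true := by decide +kernel
theorem kV_219 : (List.range 128).all (fun k => chkVn Vtab XYgens V0 (128 * 219 + k)) = true := by decide +kernel
theorem kV_220 : (List.range 128).all (fun k => chkVn Vtab XYgens V0 (128 * 220 + k)) = true := by decide +kernel
theorem kV_221 : (List.range 128).all (fun k => chkVn Vtab XYgens V0 (128 * 221 + k)) = true := by decide +kernel
theorem kV_222 : (List.range 128).all (fun k => chkVn Vtab XYgens V0 (128 * 222 + k)) = true := by decide +kernel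
theorem kV_223 : (List.range 128).all (fun k => chkVn Vtab XYgens V0 (128 * 223 + k)) = true := by decide +kernel
theorem kV_224 : (List.range 128).all (fun k => chkVn Vtab XYgens V0 (128 * 224 + k)) = true := by decide +kernel
theorem kV_225 : (List.range 128).all (fun k => chkVn Vtab XYgens V0 (128 * 225 + k)) = true := by decide +kernel
theorem kV_226 : (List.range 128).all (fun k => chkVn Vtab XYgens V0 (128 * 226 + k)) = true := by decide +kernel
theorem kV_227 : (List.range 128).all (fun k => chkVn Vtab XYgens V0 (128 * 227 + k)) = true := by decide +kernel
theorem kV_228 : (List.range 128).all (fun k => chkVn Vtab XYgens V0 (128 * 228 + k)) = true := by decide +kernel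
theorem kV_229 : (List.range 128).all (fun k => chkVn Vtab XYgens V0 (128 * 229 + k)) = true := by decide +kernel
theorem kV_230 : (List.range 128).all (fun k => chkVn Vtab XYgens V0 (128 * 230 + k)) = true := by decide +kernel
theorem kV_231 : (List.range 128).all (fun k => chkVn Vtab XYgens V0 (128 * 231 + k)) = true := by decide +kernel
theorem kV_232 : (List.range 128).all (fun k => chkVn Vtab XYgens V0 (128 * 232 + k)) = true := by decide +kernel
theorem kV_233 : (List.range 128).all (fun k => chkVn Vtab XYgens V0 (128 * 233 + k)) = true := by decide +kernel
theorem kV_234 : (List.range 128).all (fun k => chkVn Vtab XYgens V0 (128 * 234 + k)) = true := by decide +kernel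
theorem kV_235 : (List.range 128).all (fun k => chkVn Vtab XYgens V0 (128 * 235 + k)) = true := by decide +kernel
theorem kV_236 : (List.range 128).all (fun k => chkVn Vtab XYgens V0 (128 * 236 + k)) = true := by decide +kernel
theorem kV_237 : (List.range 128).all (fun k => chkVn Vtab XYgens V0 (128 * 237 + k)) = true := by decide +kernel
theorem kV_238 : (List.range 128).all (fun k => chkVn Vtab XYgens V0 (128 * 238 + k)) = true := by decide +kernel
theorem kV_239 : (List.range 128).all (fun k => chkVn Vtab XYgens V0 (128 * 239 + k)) = true := by decide +kernel
theorem kV_240 : (List.range 128).all (fun k => chkVn Vtab XYgens V0 (128 * 240 + k)) = true := by decide +kernel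
theorem kV_241 : (List.range 128).all (fun k => chkVn Vtab XYgens V0 (128 * 241 + k)) = true := by decide +kernel
theorem kV_242 : (List.range 128).all (fun k => chkVn Vtab XYgens V0 (128 * 242 + k)) = true := by decide +kernel
theorem kV_243 : (List.range 128).all (fun k => chkVn Vtab XYgens V0 (128 * 243 + k)) = true := by decide +kernel
theorem kV_244 : (List.range 128).all (fun k => chkVn Vtab XYgens V0 (128 * 244 + k)) = true := by decide +kernel
theorem kV_245 : (List.range 128).all (fun k => chkVn Vtab XYgens V0 (128 * 245 + k)) = true := by decide +kernel
theorem kV_246 : (List.range 128).all (fun k => chkVn Vtab XYgens V0 (128 * 246 + k)) = true := by decide +kernel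
theorem kV_247 : (List.range 128).all (fun k => chkVn Vtab XYgens V0 (128 * 247 + k)) = true := by decide +kernel
theorem kV_248 : (List.range 128).all (fun k => chkVn Vtab XYgens V0 (128 * 248 + k)) = true := by decide +kernel
theorem kV_249 : (List.range 128).all (fun k => chkVn Vtab XYgens V0 (128 * 249 + k)) = true := by decide +kernel
theorem kV_250 : (List.range 128).all (fun k => chkVn Vtab XYgens V0 (128 * 250 + k)) = true := by decide +kernel
theorem kV_251 : (List.range 128).all (fun k => chkVn Vtab XYgens V0 (128 * 251 + k)) = true := by decide +kernel
theorem kV_252 : (List.range 128).all (fun k => chkVn Vtab XYgens V0 (128 * 252 + k)) = true := by decide +kernel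
theorem kV_253 : (List.range 128).all (fun k => chkVn Vtab XYgens V0 (128 * 253 + k)) = true := by decide +kernel
theorem kV_254 : (List.range 128).all (fun k => chkVn Vtab XYgens V0 (128 * 254 + k)) = true := by decide +kernel
theorem kV_255 : (List.range 128).all (fun k => chkVn Vtab XYgens V0 (128 * 255 + k)) = true := by decide +kernel

theorem chkV_1 : ∀ n, 16384 ≤ n → n < 32768 → chkVn Vtab XYgens V0 n = true := by
  intro n h1 h2
  obtain ⟨J, hJ⟩ : ∃ J, J = n / 128 := ⟨_, rfl⟩
  have hJ1 : 128 ≤ J := by omega
  have hJ2 : J < 256 := by omega
  interval_cases J
  · exact chunk_apply kV_128 (by omega) (by omega)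
  · exact chunk_apply kV_129 (by omega) (by omega)
  · exact chunk_apply kV_130 (by omega) (by omega)
  · exact chunk_apply kV_131 (by omega) (by omega)
  · exact chunk_apply kV_132 (by omega) (by omega)
  · exact chunk_apply kV_133 (by omega) (by omega)
  · exact chunk_apply kV_134 (by omega) (by omega)
  · exact chunk_apply kV_135 (by omega) (by omega)
  · exact chunk_apply kV_136 (by omega) (by omega)
  · exact chunk_apply kV_137 (by omega) (by omega)
  · exact chunk_apply kV_138 (by omega) (by omega)
  · exact chunk_apply kV_139 (by omega) (by omega)
  · exact chunk_apply kV_140 (by omega) (by omega)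
  · exact chunk_apply kV_141 (by omega) (by omega)
  · exact chunk_apply kV_142 (by omega) (by omega)
  · exact chunk_apply kV_143 (by omega) (by omega)
  · exact chunk_apply kV_144 (by omega) (by omega)
  · exact chunk_apply kV_145 (by omega) (by omega)
  · exact chunk_apply kV_146 (by omega) (by omega)
  · exact chunk_apply kV_147 (by omega) (by omega)
  · exact chunk_apply kV_148 (by omega) (by omega)
  · exact chunk_apply kV_149 (by omega) (by omega)
  · exact chunk_apply kV_150 (by omega) (by omega)
  · exact chunk_apply kV_151 (by omega) (by omega)
  · exact chunk_apply kV_152 (by omega) (by omega)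
  · exact chunk_apply kV_153 (by omega) (by omega)
  · exact chunk_apply kV_154 (by omega) (by omega)
  · exact chunk_apply kV_155 (by omega) (by omega)
  · exact chunk_apply kV_156 (by omega) (by omega)
  · exact chunk_apply kV_157 (by omega) (by omega)
  · exact chunk_apply kV_158 (by omega) (by omega)
  · exact chunk_apply kV_159 (by omega) (by omega)
  · exact chunk_apply kV_160 (by omega) (by omega)
  · exact chunk_apply kV_161 (by omega) (by omega)
  · exact chunk_apply kV_162 (by omega) (by omega)
  · exact chunk_apply kV_163 (by omega) (by omega)
  · exact chunk_apply kV_164 (by omega) (by omega)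
  · exact chunk_apply kV_165 (by omega) (by omega)
  · exact chunk_apply kV_166 (by omega) (by omega)
  · exact chunk_apply kV_167 (by omega) (by omega)
  · exact chunk_apply kV_168 (by omega) (by omega)
  · exact chunk_apply kV_169 (by omega) (by omega)
  · exact chunk_apply kV_170 (by omega) (by omega)
  · exact chunk_apply kV_171 (by omega) (by omega)
  · exact chunk_apply kV_172 (by omega) (by omega)
  · exact chunk_apply kV_173 (by omega) (by omega)
  · exact chunk_apply kV_174 (by omega) (by omega)
  · exact chunk_apply kV_175 (by omega) (by omega)
  · exact chunk_apply kV_176 (by omega) (by omega)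
  · exact chunk_apply kV_177 (by omega) (by omega)
  · exact chunk_apply kV_178 (by omega) (by omega)
  · exact chunk_apply kV_179 (by omega) (by omega)
  · exact chunk_apply kV_180 (by omega) (by omega)
  · exact chunk_apply kV_181 (by omega) (by omega)
  · exact chunk_apply kV_182 (by omega) (by omega)
  · exact chunk_apply kV_183 (by omega) (by omega)
  · exact chunk_apply kV_184 (by omega) (by omega)
  · exact chunk_apply kV_185 (by omega) (by omega)
  · exact chunk_apply kV_186 (by omega) (by omega)
  · exact chunk_apply kV_187 (by omega) (by omega)
  · exact chunk_apply kV_188 (by omega) (by omega)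
  · exact chunk_apply kV_189 (by omega) (by omega)
  · exact chunk_apply kV_190 (by omega) (by omega)
  · exact chunk_apply kV_191 (by omega) (by omega)
  · exact chunk_apply kV_192 (by omega) (by omega)
  · exact chunk_apply kV_193 (by omega) (by omega)
  · exact chunk_apply kV_194 (by omega) (by omega)
  · exact chunk_apply kV_195 (by omega) (by omega)
  · exact chunk_apply kV_196 (by omega) (by omega)
  · exact chunk_apply kV_197 (by omega) (by omega)
  · exact chunk_apply kV_198 (by omega) (by omega)
  · exact chunk_apply kV_199 (by omega) (by omega)
  · exact chunk_apply kV_200 (by omega) (by omega)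
  · exact chunk_apply kV_201 (by omega) (by omega)
  · exact chunk_apply kV_202 (by omega) (by omega)
  · exact chunk_apply kV_203 (by omega) (by omega)
  · exact chunk_apply kV_204 (by omega) (by omega)
  · exact chunk_apply kV_205 (by omega) (by omega)
  · exact chunk_apply kV_206 (by omega) (by omega)
  · exact chunk_apply kV_207 (by omega) (by omega)
  · exact chunk_apply kV_208 (by omega) (by omega)
  · exact chunk_apply kV_209 (by omega) (by omega)
  · exact chunk_apply kV_210 (by omega) (by omega)
  · exact chunk_apply kV_211 (by omega) (by omega)
  · exact chunk_apply kV_212 (by omega) (by omega)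
  · exact chunk_apply kV_213 (by omega) (by omega)
  · exact chunk_apply kV_214 (by omega) (by omega)
  · exact chunk_apply kV_215 (by omega) (by omega)
  · exact chunk_apply kV_216 (by omega) (by omega)
  · exact chunk_apply kV_217 (by omega) (by omega)
  · exact chunk_apply kV_218 (by omega) (by omega)
  · exact chunk_apply kV_219 (by omega) (by omega)
  · exact chunk_apply kV_220 (by omega) (by omega)
  · exact chunk_apply kV_221 (by omega) (by omega)
  · exact chunk_apply kV_222 (by omega) (by omega)
  · exact chunk_apply kV_223 (by omega) (by omega)
  · exact chunk_apply kV_224 (by omega) (by omega)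
  · exact chunk_apply kV_225 (by omega) (by omega)
  · exact chunk_apply kV_226 (by omega) (by omega)
  · exact chunk_apply kV_227 (by omega) (by omega)
  · exact chunk_apply kV_228 (by omega) (by omega)
  · exact chunk_apply kV_229 (by omega) (by omega)
  · exact chunk_apply kV_230 (by omega) (by omega)
  · exact chunk_apply kV_231 (by omega) (by omega)
  · exact chunk_apply kV_232 (by omega) (by omega)
  · exact chunk_apply kV_233 (by omega) (by omega)
  · exact chunk_apply kV_234 (by omega) (by omega)
  · exact chunk_apply kV_235 (by omega) (by omega)
  · exact chunk_apply kV_236 (by omega) (by omega)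
  · exact chunk_apply kV_237 (by omega) (by omega)
  · exact chunk_apply kV_238 (by omega) (by omega)
  · exact chunk_apply kV_239 (by omega) (by omega)
  · exact chunk_apply kV_240 (by omega) (by omega)
  · exact chunk_apply kV_241 (by omega) (by omega)
  · exact chunk_apply kV_242 (by omega) (by omega)
  · exact chunk_apply kV_243 (by omega) (by omega)
  · exact chunk_apply kV_244 (by omega) (by omega)
  · exact chunk_apply kV_245 (by omega) (by omega)
  · exact chunk_apply kV_246 (by omega) (by omega)
  · exact chunk_apply kV_247 (by omega) (by omega)
  · exact chunk_apply kV_248 (by omega) (by omega)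
  · exact chunk_apply kV_249 (by omega) (by omega)
  · exact chunk_apply kV_250 (by omega) (by omega)
  · exact chunk_apply kV_251 (by omega) (by omega)
  · exact chunk_apply kV_252 (by omega) (by omega)
  · exact chunk_apply kV_253 (by omega) (by omega)
  · exact chunk_apply kV_254 (by omega) (by omega)
  · exact chunk_apply kV_255 (by omega) (by omega)

end Cfsg.Agent.Helper14.J3
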