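import Mathlib
import Cfsg.Agent.Helper14.J3Y

set_option autoImplicit false

namespace Cfsg.Agent.Helper14.J3

theorem kV_1280 : (List.range 128).all (fun k => chkVn Vtab XYgens V0 (128 * 1280 + k)) = true := by decide +kernel
theorem kV_1281 : (List.range 128).all (fun k => chkVn Vtab XYgens V0 (128 * 1281 + k)) = true := by decide +kernel
theorem kV_1282 : (List.range 128).all (fun k => chkVn Vtab XYgens V0 (128 * 1282 + k)) = true := by decide +kernel
theorem kV_1283 : (List.range 128).all (fun k => chkVn Vtab XYgens V0 (128 * 1283 + k)) = true := by decide +kernel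
theorem kV_1284 : (List.range 128).all (fun k => chkVn Vtab XYgens V0 (128 * 1284 + k)) = true := by decide +kernel
theorem kV_1285 : (List.range 128).all (fun k => chkVn Vtab XYgens V0 (128 * 1285 + k)) = true := by decide +kernel
theorem kV_1286 : (List.range 128).all (fun k => chkVn Vtab XYgens V0 (128 * 1286 + k)) = true := by decide +kernel
theorem kV_1287 : (List.range 128).all (fun k => chkVn Vtab XYgens V0 (128 * 1287 + k)) = true := by decide +kernel
theorem kV_1288 : (List.range 128).all (fun k => chkVn Vtab XYgens V0 (128 * 1288 + k)) = true := by decide +kernel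
theorem kV_1289 : (List.range 128).all (fun k => chkVn Vtab XYgens V0 (128 * 1289 + k)) = true := by decide +kernel
theorem kV_1290 : (List.range 128).all (fun k => chkVn Vtab XYgens V0 (128 * 1290 + k)) = true := by decide +kernel
theorem kV_1291 : (List.range 128).all (fun k => chkVn Vtab XYgens V0 (128 * 1291 + k)) = true := by decide +kernel
theorem kV_1292 : (List.range 128).all (fun k => chkVn Vtab XYgens V0 (128 * 1292 + k)) = true := by decide +kernel
theorem kV_1293 : (List.range 128).all (fun k => chkVn Vtab XYgens V0 (128 * 1293 + k)) = true := by decide +kernel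
theorem kV_1294 : (List.range 128).all (fun k => chkVn Vtab XYgens V0 (128 * 1294 + k)) = true := by decide +kernel
theorem kV_1295 : (List.range 128).all (fun k => chkVn Vtab XYgens V0 (128 * 1295 + k)) = true := by decide +kernel
theorem kV_1296 : (List.range 128).all (fun k => chkVn Vtab XYgens V0 (128 * 1296 + k)) = true := by decide +kernel
theorem kV_1297 : (List.range 128).all (fun k => chkVn Vtab XYgens V0 (128 * 1297 + k)) = true := by decide +kernel
theorem kV_1298 : (List.range 128).all (fun k => chkVn Vtab XYgens V0 (128 * 1298 + k)) = true := by decide +kernel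
theorem kV_1299 : (List.range 128).all (fun k => chkVn Vtab XYgens V0 (128 * 1299 + k)) = true := by decide +kernel
theorem kV_1300 : (List.range 128).all (fun k => chkVn Vtab XYgens V0 (128 * 1300 + k)) = true := by decide +kernel
theorem kV_1301 : (List.range 128).all (fun k => chkVn Vtab XYgens V0 (128 * 1301 + k)) = true := by decide +kernel
theorem kV_1302 : (List.range 128).all (fun k => chkVn Vtab XYgens V0 (128 * 1302 + k)) = true := by decide +kernel
theorem kV_1303 : (List.range 128).all (fun k => chkVn Vtab XYgens V0 (128 * 1303 + k)) = true := by decide +kernel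
theorem kV_1304 : (List.range 128).all (fun k => chkVn Vtab XYgens V0 (128 * 1304 + k)) = true := by decide +kernel
theorem kV_1305 : (List.range 128).all (fun k => chkVn Vtab XYgens V0 (128 * 1305 + k)) = true := by decide +kernel
theorem kV_1306 : (List.range 128).all (fun k => chkVn Vtab XYgens V0 (128 * 1306 + k)) = true := by decide +kernel
theorem kV_1307 : (List.range 128).all (fun k => chkVn Vtab XYgens V0 (128 * 1307 + k)) = true := by decide +kernel
theorem kV_1308 : (List.range 128).all (fun k => chkVn Vtab XYgens V0 (128 * 1308 + k)) = true := by decide +kernel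
theorem kV_1309 : (List.range 128).all (fun k => chkVn Vtab XYgens V0 (128 * 1309 + k)) = true := by decide +kernel
theorem kV_1310 : (List.range 128).all (fun k => chkVn Vtab XYgens V0 (128 * 1310 + k)) = true := by decide +kernel
theorem kV_1311 : (List.range 128).all (fun k => chkVn Vtab XYgens V0 (128 * 1311 + k)) = true := by decide +kernel
theorem kV_1312 : (List.range 128).all (fun k => chkVn Vtab XYgens V0 (128 * 1312 + k)) = true := by decide +kernel
theorem kV_1313 : (List.range 128).all (fun k => chkVn Vtab XYgens V0 (128 * 1313 + k)) = true := by decide +kernel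
theorem kV_1314 : (List.range 128).all (fun k => chkVn Vtab XYgens V0 (128 * 1314 + k)) = true := by decide +kernel
theorem kV_1315 : (List.range 128).all (fun k => chkVn Vtab XYgens V0 (128 * 1315 + k)) = true := by decide +kernel
theorem kV_1316 : (List.range 128).all (fun k => chkVn Vtab XYgens V0 (128 * 1316 + k)) = true := by decide +kernel
theorem kV_1317 : (List.range 128).all (fun k => chkVn Vtab XYgens V0 (128 * 1317 + k)) = true := by decide +kernel
theorem kV_1318 : (List.range 128).all (fun k => chkVn Vtab XYgens V0 (128 * 1318 + k)) = true := by decide +kernel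
theorem kV_1319 : (List.range 128).all (fun k => chkVn Vtab XYgens V0 (128 * 1319 + k)) = true := by decide +kernel
theorem kV_1320 : (List.range 128).all (fun k => chkVn Vtab XYgens V0 (128 * 1320 + k)) = true := by decide +kernel
theorem kV_1321 : (List.range 128).all (fun k => chkVn Vtab XYgens V0 (128 * 1321 + k)) = true := by decide +kernel
theorem kV_1322 : (List.range 128).all (fun k => chkVn Vtab XYgens V0 (128 * 1322 + k)) = true := by decide +kernel
theorem kV_1323 : (List.range 128).all (fun k => chkVn Vtab XYgens V0 (128 * 1323 + k)) = true := by decide +kernel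
theorem kV_1324 : (List.range 128).all (fun k => chkVn Vtab XYgens V0 (128 * 1324 + k)) = true := by decide +kernel
theorem kV_1325 : (List.range 128).all (fun k => chkVn Vtab XYgens V0 (128 * 1325 + k)) = true := by decide +kernel
theorem kV_1326 : (List.range 128).all (fun k => chkVn Vtab XYgens V0 (128 * 1326 + k)) = true := by decide +kernel
theorem kV_1327 : (List.range 128).all (fun k => chkVn Vtab XYgens V0 (128 * 1327 + k)) = true := by decide +kernel
theorem kV_1328 : (List.range 128).all (fun k => chkVn Vtab XYgens V0 (128 * 1328 + k)) = true := by decide +kernel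
theorem kV_1329 : (List.range 128).all (fun k => chkVn Vtab XYgens V0 (128 * 1329 + k)) = true := by decide +kernel
theorem kV_1330 : (List.range 128).all (fun k => chkVn Vtab XYgens V0 (128 * 1330 + k)) = true := by decide +kernel
theorem kV_1331 : (List.range 128).all (fun k => chkVn Vtab XYgens V0 (128 * 1331 + k)) = true := by decide +kernel
theorem kV_1332 : (List.range 128).all (fun k => chkVn Vtab XYgens V0 (128 * 1332 + k)) = true := by decide +kernel
theorem kV_1333 : (List.range 128).all (fun k => chkVn Vtab XYgens V0 (128 * 1333 + k)) = true := by decide +kernel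
theorem kV_1334 : (List.range 128).all (fun k => chkVn Vtab XYgens V0 (128 * 1334 + k)) = true := by decide +kernel
theorem kV_1335 : (List.range 128).all (fun k => chkVn Vtab XYgens V0 (128 * 1335 + k)) = true := by decide +kernel
theorem kV_1336 : (List.range 128).all (fun k => chkVn Vtab XYgens V0 (128 * 1336 + k)) = true := by decide +kernel
theorem kV_1337 : (List.range 128).all (fun k => chkVn Vtab XYgens V0 (128 * 1337 + k)) = true := by decide +kernel
theorem kV_1338 : (List.range 128).all (fun k => chkVn Vtab XYgens V0 (128 * 1338 + k)) = true := by decide +kernel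
theorem kV_1339 : (List.range 128).all (fun k => chkVn Vtab XYgens V0 (128 * 1339 + k)) = true := by decide +kernel
theorem kV_1340 : (List.range 128).all (fun k => chkVn Vtab XYgens V0 (128 * 1340 + k)) = true := by decide +kernel
theorem kV_1341 : (List.range 128).all (fun k => chkVn Vtab XYgens V0 (128 * 1341 + k)) = true := by decide +kernel
theorem kV_1342 : (List.range 128).all (fun k => chkVn Vtab XYgens V0 (128 * 1342 + k)) = true := by decide +kernel
theorem kV_1343 : (List.range 128).all (fun k => chkVn Vtab XYgens V0 (128 * 1343 + k)) = true := by decide +kernel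
theorem kV_1344 : (List.range 128).all (fun k => chkVn Vtab XYgens V0 (128 * 1344 + k)) = true := by decide +kernel
theorem kV_1345 : (List.range 128).all (fun k => chkVn Vtab XYgens V0 (128 * 1345 + k)) = true := by decide +kernel
theorem kV_1346 : (List.range 128).all (fun k => chkVn Vtab XYgens V0 (128 * 1346 + k)) = true := by decide +kernel
theorem kV_1347 : (List.range 128).all (fun k => chkVn Vtab XYgens V0 (128 * 1347 + k)) = true := by decide +kernel
theorem kV_1348 : (List.range 128).all (fun k => chkVn Vtab XYgens V0 (128 * 1348 + k)) = true := by decide +kernel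
theorem kV_1349 : (List.range 128).all (fun k => chkVn Vtab XYgens V0 (128 * 1349 + k)) = true := by decide +kernel
theorem kV_1350 : (List.range 128).all (fun k => chkVn Vtab XYgens V0 (128 * 1350 + k)) = true := by decide +kernel
theorem kV_1351 : (List.range 128).all (fun k => chkVn Vtab XYgens V0 (128 * 1351 + k)) = true := by decide +kernel
theorem kV_1352 : (List.range 128).all (fun k => chkVn Vtab XYgens V0 (128 * 1352 + k)) = true := by decide +kernel
theorem kV_1353 : (List.range 128).all (fun k => chkVn Vtab XYgens V0 (128 * 1353 + k)) = true := by decide +kernel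
theorem kV_1354 : (List.range 128).all (fun k => chkVn Vtab XYgens V0 (128 * 1354 + k)) = true := by decide +kernel
theorem kV_1355 : (List.range 128).all (fun k => chkVn Vtab XYgens V0 (128 * 1355 + k)) = true := by decide +kernel
theorem kV_1356 : (List.range 128).all (fun k => chkVn Vtab XYgens V0 (128 * 1356 + k)) = true := by decide +kernel
theorem kV_1357 : (List.range 128).all (fun k => chkVn Vtab XYgens V0 (128 * 1357 + k)) = true := by decide +kernel
theorem kV_1358 : (List.range 128).all (fun k => chkVn Vtab XYgens V0 (128 * 1358 + k)) = true := by decide +kernel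
theorem kV_1359 : (List.range 128).all (fun k => chkVn Vtab XYgens V0 (128 * 1359 + k)) = true := by decide +kernel
theorem kV_1360 : (List.range 128).all (fun k => chkVn Vtab XYgens V0 (128 * 1360 + k)) = true := by decide +kernel
theorem kV_1361 : (List.range 128).all (fun k => chkVn Vtab XYgens V0 (128 * 1361 + k)) = true := by decide +kernel
theorem kV_1362 : (List.range 128).all (fun k => chkVn Vtab XYgens V0 (128 * 1362 + k)) = true := by decide +kernel
theorem kV_1363 : (List.range 128).all (fun k => chkVn Vtab XYgens V0 (128 * 1363 + k)) = true := by decide +kernel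
theorem kV_1364 : (List.range 128).all (fun k => chkVn Vtab XYgens V0 (128 * 1364 + k)) = true := by decide +kernel
theorem kV_1365 : (List.range 128).all (fun k => chkVn Vtab XYgens V0 (128 * 1365 + k)) = true := by decide +kernel
theorem kV_1366 : (List.range 128).all (fun k => chkVn Vtab XYgens V0 (128 * 1366 + k)) = true := by decide +kernel
theorem kV_1367 : (List.range 128).all (fun k => chkVn Vtab XYgens V0 (128 * 1367 + k)) = true := by decide +kernel
theorem kV_1368 : (List.range 128).all (fun k => chkVn Vtab XYgens V0 (128 * 1368 + k)) = true := by decide +kernel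
theorem kV_1369 : (List.range 128).all (fun k => chkVn Vtab XYgens V0 (128 * 1369 + k)) = true := by decide +kernel
theorem kV_1370 : (List.range 128).all (fun k => chkVn Vtab XYgens V0 (128 * 1370 + k)) = true := by decide +kernel
theorem kV_1371 : (List.range 128).all (fun k => chkVn Vtab XYgens V0 (128 * 1371 + k)) = true := by decide +kernel
theorem kV_1372 : (List.range 128).all (fun k => chkVn Vtab XYgens V0 (128 * 1372 + k)) = true := by decide +kernel
theorem kV_1373 : (List.range 128).all (fun k => chkVn Vtab XYgens V0 (128 * 1373 + k)) = true := by decide +kernel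
theorem kV_1374 : (List.range 128).all (fun k => chkVn Vtab XYgens V0 (128 * 1374 + k)) = true := by decide +kernel
theorem kV_1375 : (List.range 128).all (fun k => chkVn Vtab XYgens V0 (128 * 1375 + k)) = true := by decide +kernel
theorem kV_1376 : (List.range 128).all (fun k => chkVn Vtab XYgens V0 (128 * 1376 + k)) = true := by decide +kernel
theorem kV_1377 : (List.range 128).all (fun k => chkVn Vtab XYgens V0 (128 * 1377 + k)) = true := by decide +kernel
theorem kV_1378 : (List.range 128).all (fun k => chkVn Vtab XYgens V0 (128 * 1378 + k)) = true := by decide +kernel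
theorem kV_1379 : (List.range 128).all (fun k => chkVn Vtab XYgens V0 (128 * 1379 + k)) = true := by decide +kernel
theorem kV_1380 : (List.range 128).all (fun k => chkVn Vtab XYgens V0 (128 * 1380 + k)) = true := by decide +kernel
theorem kV_1381 : (List.range 128).all (fun k => chkVn Vtab XYgens V0 (128 * 1381 + k)) = true := by decide +kernel
theorem kV_1382 : (List.range 128).all (fun k => chkVn Vtab XYgens V0 (128 * 1382 + k)) = true := by decide +kernel
theorem kV_1383 : (List.range 128).all (fun k => chkVn Vtab XYgens V0 (128 * 1383 + k)) = true := by decide +kernel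
theorem kV_1384 : (List.range 128).all (fun k => chkVn Vtab XYgens V0 (128 * 1384 + k)) = true := by decide +kernel
theorem kV_1385 : (List.range 128).all (fun k => chkVn Vtab XYgens V0 (128 * 1385 + k)) = true := by decide +kernel
theorem kV_1386 : (List.range 128).all (fun k => chkVn Vtab XYgens V0 (128 * 1386 + k)) = true := by decide +kernel
theorem kV_1387 : (List.range 128).all (fun k => chkVn Vtab XYgens V0 (128 * 1387 + k)) = true := by decide +kernel
theorem kV_1388 : (List.range 128).all (fun k => chkVn Vtab XYgens V0 (128 * 1388 + k)) = true := by decide +kernel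
theorem kV_1389 : (List.range 128).all (fun k => chkVn Vtab XYgens V0 (128 * 1389 + k)) = true := by decide +kernel
theorem kV_1390 : (List.range 128).all (fun k => chkVn Vtab XYgens V0 (128 * 1390 + k)) = true := by decide +kernel
theorem kV_1391 : (List.range 128).all (fun k => chkVn Vtab XYgens V0 (128 * 1391 + k)) = true := by decide +kernel
theorem kV_1392 : (List.range 128).all (fun k => chkVn Vtab XYgens V0 (128 * 1392 + k)) = true := by decide +kernel
theorem kV_1393 : (List.range 128).all (fun k => chkVn Vtab XYgens V0 (128 * 1393 + k)) = true := by decide +kernel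
theorem kV_1394 : (List.range 128).all (fun k => chkVn Vtab XYgens V0 (128 * 1394 + k)) = true := by decide +kernel
theorem kV_1395 : (List.range 128).all (fun k => chkVn Vtab XYgens V0 (128 * 1395 + k)) = true := by decide +kernel
theorem kV_1396 : (List.range 128).all (fun k => chkVn Vtab XYgens V0 (128 * 1396 + k)) = true := by decide +kernel
theorem kV_1397 : (List.range 128).all (fun k => chkVn Vtab XYgens V0 (128 * 1397 + k)) = true := by decide +kernel
theorem kV_1398 : (List.range 128).all (fun k => chkVn Vtab XYgens V0 (128 * 1398 + k)) = true := by decide +kernel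
theorem kV_1399 : (List.range 128).all (fun k => chkVn Vtab XYgens V0 (128 * 1399 + k)) = true := by decide +kernel
theorem kV_1400 : (List.range 128).all (fun k => chkVn Vtab XYgens V0 (128 * 1400 + k)) = true := by decide +kernel
theorem kV_1401 : (List.range 128).all (fun k => chkVn Vtab XYgens V0 (128 * 1401 + k)) = true := by decide +kernel
theorem kV_1402 : (List.range 128).all (fun k => chkVn Vtab XYgens V0 (128 * 1402 + k)) = true := by decide +kernel
theorem kV_1403 : (List.range 128).all (fun k => chkVn Vtab XYgens V0 (128 * 1403 + k)) = true := by decide +kernel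
theorem kV_1404 : (List.range 128).all (fun k => chkVn Vtab XYgens V0 (128 * 1404 + k)) = true := by decide +kernel
theorem kV_1405 : (List.range 128).all (fun k => chkVn Vtab XYgens V0 (128 * 1405 + k)) = true := by decide +kernel
theorem kV_1406 : (List.range 128).all (fun k => chkVn Vtab XYgens V0 (128 * 1406 + k)) = true := by decide +kernel
theorem kV_1407 : (List.range 128).all (fun k => chkVn Vtab XYgens V0 (128 * 1407 + k)) = true := by decide +kernel

theorem chkV_10 : ∀ n, 163840 ≤ n → n < 180224 → chkVn Vtab XYgens V0 n = true := by
  intro n h1 h2
  obtain ⟨J, hJ⟩ : ∃ J, J = n / 128 := ⟨_, rfl⟩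
  have hJ1 : 1280 ≤ J := by omega
  have hJ2 : J < 1408 := by omega
  interval_cases J
  · exact chunk_apply kV_1280 (by omega) (by omega)
  · exact chunk_apply kV_1281 (by omega) (by omega)
  · exact chunk_apply kV_1282 (by omega) (by omega)
  · exact chunk_apply kV_1283 (by omega) (by omega)
  · exact chunk_apply kV_1284 (by omega) (by omega)
  · exact chunk_apply kV_1285 (by omega) (by omega)
  · exact chunk_apply kV_1286 (by omega) (by omega)
  · exact chunk_apply kV_1287 (by omega) (by omega)
  · exact chunk_apply kV_1288 (by omega) (by omega)
  · exact chunk_apply kV_1289 (by omega) (by omega)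
  · exact chunk_apply kV_1290 (by omega) (by omega)
  · exact chunk_apply kV_1291 (by omega) (by omega)
  · exact chunk_apply kV_1292 (by omega) (by omega)
  · exact chunk_apply kV_1293 (by omega) (by omega)
  · exact chunk_apply kV_1294 (by omega) (by omega)
  · exact chunk_apply kV_1295 (by omega) (by omega)
  · exact chunk_apply kV_1296 (by omega) (by omega)
  · exact chunk_apply kV_1297 (by omega) (by omega)
  · exact chunk_apply kV_1298 (by omega) (by omega)
  · exact chunk_apply kV_1299 (by omega) (by omega)
  · exact chunk_apply kV_1300 (by omega) (by omega)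
  · exact chunk_apply kV_1301 (by omega) (by omega)
  · exact chunk_apply kV_1302 (by omega) (by omega)
  · exact chunk_apply kV_1303 (by omega) (by omega)
  · exact chunk_apply kV_1304 (by omega) (by omega)
  · exact chunk_apply kV_1305 (by omega) (by omega)
  · exact chunk_apply kV_1306 (by omega) (by omega)
  · exact chunk_apply kV_1307 (by omega) (by omega)
  · exact chunk_apply kV_1308 (by omega) (by omega)
  · exact chunk_apply kV_1309 (by omega) (by omega)
  · exact chunk_apply kV_1310 (by omega) (by omega)
  · exact chunk_apply kV_1311 (by omega) (by omega)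
  · exact chunk_apply kV_1312 (by omega) (by omega)
  · exact chunk_apply kV_1313 (by omega) (by omega)
  · exact chunk_apply kV_1314 (by omega) (by omega)
  · exact chunk_apply kV_1315 (by omega) (by omega)
  · exact chunk_apply kV_1316 (by omega) (by omega)
  · exact chunk_apply kV_1317 (by omega) (by omega)
  · exact chunk_apply kV_1318 (by omega) (by omega)
  · exact chunk_apply kV_1319 (by omega) (by omega)
  · exact chunk_apply kV_1320 (by omega) (by omega)
  · exact chunk_apply kV_1321 (by omega) (by omega)
  · exact chunk_apply kV_1322 (by omega) (by omega)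
  · exact chunk_apply kV_1323 (by omega) (by omega)
  · exact chunk_apply kV_1324 (by omega) (by omega)
  · exact chunk_apply kV_1325 (by omega) (by omega)
  · exact chunk_apply kV_1326 (by omega) (by omega)
  · exact chunk_apply kV_1327 (by omega) (by omega)
  · exact chunk_apply kV_1328 (by omega) (by omega)
  · exact chunk_apply kV_1329 (by omega) (by omega)
  · exact chunk_apply kV_1330 (by omega) (by omega)
  · exact chunk_apply kV_1331 (by omega) (by omega)
  · exact chunk_apply kV_1332 (by omega) (by omega)
  · exact chunk_apply kV_1333 (by omega) (by omega)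
  · exact chunk_apply kV_1334 (by omega) (by omega)
  · exact chunk_apply kV_1335 (by omega) (by omega)
  · exact chunk_apply kV_1336 (by omega) (by omega)
  · exact chunk_apply kV_1337 (by omega) (by omega)
  · exact chunk_apply kV_1338 (by omega) (by omega)
  · exact chunk_apply kV_1339 (by omega) (by omega)
  · exact chunk_apply kV_1340 (by omega) (by omega)
  · exact chunk_apply kV_1341 (by omega) (by omega)
  · exact chunk_apply kV_1342 (by omega) (by omega)
  · exact chunk_apply kV_1343 (by omega) (by omega)
  · exact chunk_apply kV_1344 (by omega) (by omega)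
  · exact chunk_apply kV_1345 (by omega) (by omega)
  · exact chunk_apply kV_1346 (by omega) (by omega)
  · exact chunk_apply kV_1347 (by omega) (by omega)
  · exact chunk_apply kV_1348 (by omega) (by omega)
  · exact chunk_apply kV_1349 (by omega) (by omega)
  · exact chunk_apply kV_1350 (by omega) (by omega)
  · exact chunk_apply kV_1351 (by omega) (by omega)
  · exact chunk_apply kV_1352 (by omega) (by omega)
  · exact chunk_apply kV_1353 (by omega) (by omega)
  · exact chunk_apply kV_1354 (by omega) (by omega)
  · exact chunk_apply kV_1355 (by omega) (by omega)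
  · exact chunk_apply kV_1356 (by omega) (by omega)
  · exact chunk_apply kV_1357 (by omega) (by omega)
  · exact chunk_apply kV_1358 (by omega) (by omega)
  · exact chunk_apply kV_1359 (by omega) (by omega)
  · exact chunk_apply kV_1360 (by omega) (by omega)
  · exact chunk_apply kV_1361 (by omega) (by omega)
  · exact chunk_apply kV_1362 (by omega) (by omega)
  · exact chunk_apply kV_1363 (by omega) (by omega)
  · exact chunk_apply kV_1364 (by omega) (by omega)
  · exact chunk_apply kV_1365 (by omega) (by omega)
  · exact chunk_apply kV_1366 (by omega) (by omega)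
  · exact chunk_apply kV_1367 (by omega) (by omega)
  · exact chunk_apply kV_1368 (by omega) (by omega)
  · exact chunk_apply kV_1369 (by omega) (by omega)
  · exact chunk_apply kV_1370 (by omega) (by omega)
  · exact chunk_apply kV_1371 (by omega) (by omega)
  · exact chunk_apply kV_1372 (by omega) (by omega)
  · exact chunk_apply kV_1373 (by omega) (by omega)
  · exact chunk_apply kV_1374 (by omega) (by omega)
  · exact chunk_apply kV_1375 (by omega) (by omega)
  · exact chunk_apply kV_1376 (by omega) (by omega)
  · exact chunk_apply kV_1377 (by omega) (by omega)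
  · exact chunk_apply kV_1378 (by omega) (by omega)
  · exact chunk_apply kV_1379 (by omega) (by omega)
  · exact chunk_apply kV_1380 (by omega) (by omega)
  · exact chunk_apply kV_1381 (by omega) (by omega)
  · exact chunk_apply kV_1382 (by omega) (by omega)
  · exact chunk_apply kV_1383 (by omega) (by omega)
  · exact chunk_apply kV_1384 (by omega) (by omega)
  · exact chunk_apply kV_1385 (by omega) (by omega)
  · exact chunk_apply kV_1386 (by omega) (by omega)
  · exact chunk_apply kV_1387 (by omega) (by omega)
  · exact chunk_apply kV_1388 (by omega) (by omega)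
  · exact chunk_apply kV_1389 (by omega) (by omega)
  · exact chunk_apply kV_1390 (by omega) (by omega)
  · exact chunk_apply kV_1391 (by omega) (by omega)
  · exact chunk_apply kV_1392 (by omega) (by omega)
  · exact chunk_apply kV_1393 (by omega) (by omega)
  · exact chunk_apply kV_1394 (by omega) (by omega)
  · exact chunk_apply kV_1395 (by omega) (by omega)
  · exact chunk_apply kV_1396 (by omega) (by omega)
  · exact chunk_apply kV_1397 (by omega) (by omega)
  · exact chunk_apply kV_1398 (by omega) (by omega)
  · exact chunk_apply kV_1399 (by omega) (by omega)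
  · exact chunk_apply kV_1400 (by omega) (by omega)
  · exact chunk_apply kV_1401 (by omega) (by omega)
  · exact chunk_apply kV_1402 (by omega) (by omega)
  · exact chunk_apply kV_1403 (by omega) (by omega)
  · exact chunk_apply kV_1404 (by omega) (by omega)
  · exact chunk_apply kV_1405 (by omega) (by omega)
  · exact chunk_apply kV_1406 (by omega) (by omega)
  · exact chunk_apply kV_1407 (by omega) (by omega)

end Cfsg.Agent.Helper14.J3
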