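import Mathlib
import Cfsg.Agent.Helper14.J3Y

set_option autoImplicit false

namespace Cfsg.Agent.Helper14.J3

theorem kV_1408 : (List.range 128).all (fun k => chkVn Vtab XYgens V0 (128 * 1408 + k)) = true := by decide +kernel
theorem kV_1409 : (List.range 128).all (fun k => chkVn Vtab XYgens V0 (128 * 1409 + k)) = true := by decide +kernel
theorem kV_1410 : (List.range 128).all (fun k => chkVn Vtab XYgens V0 (128 * 1410 + k)) = true := by decide +kernel
theorem kV_1411 : (List.range 128).all (fun k => chkVn Vtab XYgens V0 (128 * 1411 + k)) = true := by decide +kernel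
theorem kV_1412 : (List.range 128).all (fun k => chkVn Vtab XYgens V0 (128 * 1412 + k)) = true := by decide +kernel
theorem kV_1413 : (List.range 128).all (fun k => chkVn Vtab XYgens V0 (128 * 1413 + k)) = true := by decide +kernel
theorem kV_1414 : (List.range 128).all (fun k => chkVn Vtab XYgens V0 (128 * 1414 + k)) = true := by decide +kernel
theorem kV_1415 : (List.range 128).all (fun k => chkVn Vtab XYgens V0 (128 * 1415 + k)) = true := by decide +kernel
theorem kV_1416 : (List.range 128).all (fun k => chkVn Vtab XYgens V0 (128 * 1416 + k)) = true := by decide +kernel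
theorem kV_1417 : (List.range 128).all (fun k => chkVn Vtab XYgens V0 (128 * 1417 + k)) = true := by decide +kernel
theorem kV_1418 : (List.range 128).all (fun k => chkVn Vtab XYgens V0 (128 * 1418 + k)) = true := by decide +kernel
theorem kV_1419 : (List.range 128).all (fun k => chkVn Vtab XYgens V0 (128 * 1419 + k)) = true := by decide +kernel
theorem kV_1420 : (List.range 128).all (fun k => chkVn Vtab XYgens V0 (128 * 1420 + k)) = true := by decide +kernel
theorem kV_1421 : (List.range 128).all (fun k => chkVn Vtab XYgens V0 (128 * 1421 + k)) = true := by decide +kernel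
theorem kV_1422 : (List.range 128).all (fun k => chkVn Vtab XYgens V0 (128 * 1422 + k)) = true := by decide +kernel
theorem kV_1423 : (List.range 128).all (fun k => chkVn Vtab XYgens V0 (128 * 1423 + k)) = true := by decide +kernel
theorem kV_1424 : (List.range 128).all (fun k => chkVn Vtab XYgens V0 (128 * 1424 + k)) = true := by decide +kernel
theorem kV_1425 : (List.range 128).all (fun k => chkVn Vtab XYgens V0 (128 * 1425 + k)) = true := by decide +kernel
theorem kV_1426 : (List.range 128).all (fun k => chkVn Vtab XYgens V0 (128 * 1426 + k)) = true := by decide +kernel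
theorem kV_1427 : (List.range 128).all (fun k => chkVn Vtab XYgens V0 (128 * 1427 + k)) = true := by decide +kernel
theorem kV_1428 : (List.range 128).all (fun k => chkVn Vtab XYgens V0 (128 * 1428 + k)) = true := by decide +kernel
theorem kV_1429 : (List.range 128).all (fun k => chkVn Vtab XYgens V0 (128 * 1429 + k)) = true := by decide +kernel
theorem kV_1430 : (List.range 128).all (fun k => chkVn Vtab XYgens V0 (128 * 1430 + k)) = true := by decide +kernel
theorem kV_1431 : (List.range 128).all (fun k => chkVn Vtab XYgens V0 (128 * 1431 + k)) = true := by decide +kernel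
theorem kV_1432 : (List.range 128).all (fun k => chkVn Vtab XYgens V0 (128 * 1432 + k)) = true := by decide +kernel
theorem kV_1433 : (List.range 128).all (fun k => chkVn Vtab XYgens V0 (128 * 1433 + k)) = true := by decide +kernel
theorem kV_1434 : (List.range 128).all (fun k => chkVn Vtab XYgens V0 (128 * 1434 + k)) = true := by decide +kernel
theorem kV_1435 : (List.range 128).all (fun k => chkVn Vtab XYgens V0 (128 * 1435 + k)) = true := by decide +kernel
theorem kV_1436 : (List.range 128).all (fun k => chkVn Vtab XYgens V0 (128 * 1436 + k)) = true := by decide +kernel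
theorem kV_1437 : (List.range 128).all (fun k => chkVn Vtab XYgens V0 (128 * 1437 + k)) = true := by decide +kernel
theorem kV_1438 : (List.range 128).all (fun k => chkVn Vtab XYgens V0 (128 * 1438 + k)) = true := by decide +kernel
theorem kV_1439 : (List.range 128).all (fun k => chkVn Vtab XYgens V0 (128 * 1439 + k)) = true := by decide +kernel
theorem kV_1440 : (List.range 128).all (fun k => chkVn Vtab XYgens V0 (128 * 1440 + k)) = true := by decide +kernel
theorem kV_1441 : (List.range 128).all (fun k => chkVn Vtab XYgens V0 (128 * 1441 + k)) = true := by decide +kernel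
theorem kV_1442 : (List.range 128).all (fun k => chkVn Vtab XYgens V0 (128 * 1442 + k)) = true := by decide +kernel
theorem kV_1443 : (List.range 128).all (fun k => chkVn Vtab XYgens V0 (128 * 1443 + k)) = true := by decide +kernel
theorem kV_1444 : (List.range 128).all (fun k => chkVn Vtab XYgens V0 (128 * 1444 + k)) = true := by decide +kernel
theorem kV_1445 : (List.range 128).all (fun k => chkVn Vtab XYgens V0 (128 * 1445 + k)) = true := by decide +kernel
theorem kV_1446 : (List.range 128).all (fun k => chkVn Vtab XYgens V0 (128 * 1446 + k)) = true := by decide +kernel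
theorem kV_1447 : (List.range 128).all (fun k => chkVn Vtab XYgens V0 (128 * 1447 + k)) = true := by decide +kernel
theorem kV_1448 : (List.range 128).all (fun k => chkVn Vtab XYgens V0 (128 * 1448 + k)) = true := by decide +kernel
theorem kV_1449 : (List.range 128).all (fun k => chkVn Vtab XYgens V0 (128 * 1449 + k)) = true := by decide +kernel
theorem kV_1450 : (List.range 128).all (fun k => chkVn Vtab XYgens V0 (128 * 1450 + k)) = true := by decide +kernel
theorem kV_1451 : (List.range 128).all (fun k => chkVn Vtab XYgens V0 (128 * 1451 + k)) = true := by decide +kernel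
theorem kV_1452 : (List.range 128).all (fun k => chkVn Vtab XYgens V0 (128 * 1452 + k)) = true := by decide +kernel
theorem kV_1453 : (List.range 128).all (fun k => chkVn Vtab XYgens V0 (128 * 1453 + k)) = true := by decide +kernel
theorem kV_1454 : (List.range 128).all (fun k => chkVn Vtab XYgens V0 (128 * 1454 + k)) = true := by decide +kernel
theorem kV_1455 : (List.range 128).all (fun k => chkVn Vtab XYgens V0 (128 * 1455 + k)) = true := by decide +kernel
theorem kV_1456 : (List.range 128).all (fun k => chkVn Vtab XYgens V0 (128 * 1456 + k)) = true := by decide +kernel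
theorem kV_1457 : (List.range 128).all (fun k => chkVn Vtab XYgens V0 (128 * 1457 + k)) = true := by decide +kernel
theorem kV_1458 : (List.range 128).all (fun k => chkVn Vtab XYgens V0 (128 * 1458 + k)) = true := by decide +kernel
theorem kV_1459 : (List.range 128).all (fun k => chkVn Vtab XYgens V0 (128 * 1459 + k)) = true := by decide +kernel
theorem kV_1460 : (List.range 128).all (fun k => chkVn Vtab XYgens V0 (128 * 1460 + k)) = true := by decide +kernel
theorem kV_1461 : (List.range 128).all (fun k => chkVn Vtab XYgens V0 (128 * 1461 + k)) = true := by decide +kernel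
theorem kV_1462 : (List.range 128).all (fun k => chkVn Vtab XYgens V0 (128 * 1462 + k)) = true := by decide +kernel
theorem kV_1463 : (List.range 128).all (fun k => chkVn Vtab XYgens V0 (128 * 1463 + k)) = true := by decide +kernel
theorem kV_1464 : (List.range 128).all (fun k => chkVn Vtab XYgens V0 (128 * 1464 + k)) = true := by decide +kernel
theorem kV_1465 : (List.range 128).all (fun k => chkVn Vtab XYgens V0 (128 * 1465 + k)) = true := by decide +kernel
theorem kV_1466 : (List.range 128).all (fun k => chkVn Vtab XYgens V0 (128 * 1466 + k)) = true := by decide +kernel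
theorem kV_1467 : (List.range 128).all (fun k => chkVn Vtab XYgens V0 (128 * 1467 + k)) = true := by decide +kernel
theorem kV_1468 : (List.range 128).all (fun k => chkVn Vtab XYgens V0 (128 * 1468 + k)) = true := by decide +kernel
theorem kV_1469 : (List.range 128).all (fun k => chkVn Vtab XYgens V0 (128 * 1469 + k)) = true := by decide +kernel
theorem kV_1470 : (List.range 128).all (fun k => chkVn Vtab XYgens V0 (128 * 1470 + k)) = true := by decide +kernel
theorem kV_1471 : (List.range 128).all (fun k => chkVn Vtab XYgens V0 (128 * 1471 + k)) = true := by decide +kernel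
theorem kV_1472 : (List.range 128).all (fun k => chkVn Vtab XYgens V0 (128 * 1472 + k)) = true := by decide +kernel
theorem kV_1473 : (List.range 128).all (fun k => chkVn Vtab XYgens V0 (128 * 1473 + k)) = true := by decide +kernel
theorem kV_1474 : (List.range 128).all (fun k => chkVn Vtab XYgens V0 (128 * 1474 + k)) = true := by decide +kernel
theorem kV_1475 : (List.range 128).all (fun k => chkVn Vtab XYgens V0 (128 * 1475 + k)) = true := by decide +kernel
theorem kV_1476 : (List.range 128).all (fun k => chkVn Vtab XYgens V0 (128 * 1476 + k)) = true := by decide +kernel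
theorem kV_1477 : (List.range 128).all (fun k => chkVn Vtab XYgens V0 (128 * 1477 + k)) = true := by decide +kernel
theorem kV_1478 : (List.range 128).all (fun k => chkVn Vtab XYgens V0 (128 * 1478 + k)) = true := by decide +kernel
theorem kV_1479 : (List.range 128).all (fun k => chkVn Vtab XYgens V0 (128 * 1479 + k)) = true := by decide +kernel
theorem kV_1480 : (List.range 128).all (fun k => chkVn Vtab XYgens V0 (128 * 1480 + k)) = true := by decide +kernel
theorem kV_1481 : (List.range 128).all (fun k => chkVn Vtab XYgens V0 (128 * 1481 + k)) = true := by decide +kernel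
theorem kV_1482 : (List.range 128).all (fun k => chkVn Vtab XYgens V0 (128 * 1482 + k)) = true := by decide +kernel
theorem kV_1483 : (List.range 128).all (fun k => chkVn Vtab XYgens V0 (128 * 1483 + k)) = true := by decide +kernel
theorem kV_1484 : (List.range 128).all (fun k => chkVn Vtab XYgens V0 (128 * 1484 + k)) = true := by decide +kernel
theorem kV_1485 : (List.range 128).all (fun k => chkVn Vtab XYgens V0 (128 * 1485 + k)) = true := by decide +kernel
theorem kV_1486 : (List.range 128).all (fun k => chkVn Vtab XYgens V0 (128 * 1486 + k)) = true := by decide +kernel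
theorem kV_1487 : (List.range 128).all (fun k => chkVn Vtab XYgens V0 (128 * 1487 + k)) = true := by decide +kernel
theorem kV_1488 : (List.range 128).all (fun k => chkVn Vtab XYgens V0 (128 * 1488 + k)) = true := by decide +kernel
theorem kV_1489 : (List.range 128).all (fun k => chkVn Vtab XYgens V0 (128 * 1489 + k)) = true := by decide +kernel
theorem kV_1490 : (List.range 128).all (fun k => chkVn Vtab XYgens V0 (128 * 1490 + k)) = true := by decide +kernel
theorem kV_1491 : (List.range 128).all (fun k => chkVn Vtab XYgens V0 (128 * 1491 + k)) = true := by decide +kernel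
theorem kV_1492 : (List.range 128).all (fun k => chkVn Vtab XYgens V0 (128 * 1492 + k)) = true := by decide +kernel
theorem kV_1493 : (List.range 128).all (fun k => chkVn Vtab XYgens V0 (128 * 1493 + k)) = true := by decide +kernel
theorem kV_1494 : (List.range 128).all (fun k => chkVn Vtab XYgens V0 (128 * 1494 + k)) = true := by decide +kernel
theorem kV_1495 : (List.range 128).all (fun k => chkVn Vtab XYgens V0 (128 * 1495 + k)) = true := by decide +kernel
theorem kV_1496 : (List.range 128).all (fun k => chkVn Vtab XYgens V0 (128 * 1496 + k)) = true := by decide +kernel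
theorem kV_1497 : (List.range 128).all (fun k => chkVn Vtab XYgens V0 (128 * 1497 + k)) = true := by decide +kernel
theorem kV_1498 : (List.range 128).all (fun k => chkVn Vtab XYgens V0 (128 * 1498 + k)) = true := by decide +kernel
theorem kV_1499 : (List.range 128).all (fun k => chkVn Vtab XYgens V0 (128 * 1499 + k)) = true := by decide +kernel
theorem kV_1500 : (List.range 128).all (fun k => chkVn Vtab XYgens V0 (128 * 1500 + k)) = true := by decide +kernel
theorem kV_1501 : (List.range 128).all (fun k => chkVn Vtab XYgens V0 (128 * 1501 + k)) = true := by decide +kernel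
theorem kV_1502 : (List.range 128).all (fun k => chkVn Vtab XYgens V0 (128 * 1502 + k)) = true := by decide +kernel
theorem kV_1503 : (List.range 128).all (fun k => chkVn Vtab XYgens V0 (128 * 1503 + k)) = true := by decide +kernel
theorem kV_1504 : (List.range 128).all (fun k => chkVn Vtab XYgens V0 (128 * 1504 + k)) = true := by decide +kernel
theorem kV_1505 : (List.range 128).all (fun k => chkVn Vtab XYgens V0 (128 * 1505 + k)) = true := by decide +kernel
theorem kV_1506 : (List.range 128).all (fun k => chkVn Vtab XYgens V0 (128 * 1506 + k)) = true := by decide +kernel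
theorem kV_1507 : (List.range 128).all (fun k => chkVn Vtab XYgens V0 (128 * 1507 + k)) = true := by decide +kernel
theorem kV_1508 : (List.range 128).all (fun k => chkVn Vtab XYgens V0 (128 * 1508 + k)) = true := by decide +kernel
theorem kV_1509 : (List.range 128).all (fun k => chkVn Vtab XYgens V0 (128 * 1509 + k)) = true := by decide +kernel
theorem kV_1510 : (List.range 128).all (fun k => chkVn Vtab XYgens V0 (128 * 1510 + k)) = true := by decide +kernel
theorem kV_1511 : (List.range 128).all (fun k => chkVn Vtab XYgens V0 (128 * 1511 + k)) = true := by decide +kernel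
theorem kV_1512 : (List.range 128).all (fun k => chkVn Vtab XYgens V0 (128 * 1512 + k)) = true := by decide +kernel
theorem kV_1513 : (List.range 128).all (fun k => chkVn Vtab XYgens V0 (128 * 1513 + k)) = true := by decide +kernel
theorem kV_1514 : (List.range 128).all (fun k => chkVn Vtab XYgens V0 (128 * 1514 + k)) = true := by decide +kernel
theorem kV_1515 : (List.range 128).all (fun k => chkVn Vtab XYgens V0 (128 * 1515 + k)) = true := by decide +kernel
theorem kV_1516 : (List.range 128).all (fun k => chkVn Vtab XYgens V0 (128 * 1516 + k)) = true := by decide +kernel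
theorem kV_1517 : (List.range 128).all (fun k => chkVn Vtab XYgens V0 (128 * 1517 + k)) = true := by decide +kernel
theorem kV_1518 : (List.range 128).all (fun k => chkVn Vtab XYgens V0 (128 * 1518 + k)) = true := by decide +kernel
theorem kV_1519 : (List.range 128).all (fun k => chkVn Vtab XYgens V0 (128 * 1519 + k)) = true := by decide +kernel
theorem kV_1520 : (List.range 128).all (fun k => chkVn Vtab XYgens V0 (128 * 1520 + k)) = true := by decide +kernel
theorem kV_1521 : (List.range 128).all (fun k => chkVn Vtab XYgens V0 (128 * 1521 + k)) = true := by decide +kernel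
theorem kV_1522 : (List.range 128).all (fun k => chkVn Vtab XYgens V0 (128 * 1522 + k)) = true := by decide +kernel
theorem kV_1523 : (List.range 128).all (fun k => chkVn Vtab XYgens V0 (128 * 1523 + k)) = true := by decide +kernel
theorem kV_1524 : (List.range 128).all (fun k => chkVn Vtab XYgens V0 (128 * 1524 + k)) = true := by decide +kernel
theorem kV_1525 : (List.range 128).all (fun k => chkVn Vtab XYgens V0 (128 * 1525 + k)) = true := by decide +kernel
theorem kV_1526 : (List.range 128).all (fun k => chkVn Vtab XYgens V0 (128 * 1526 + k)) = true := by decide +kernel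
theorem kV_1527 : (List.range 128).all (fun k => chkVn Vtab XYgens V0 (128 * 1527 + k)) = true := by decide +kernel
theorem kV_1528 : (List.range 128).all (fun k => chkVn Vtab XYgens V0 (128 * 1528 + k)) = true := by decide +kernel
theorem kV_1529 : (List.range 128).all (fun k => chkVn Vtab XYgens V0 (128 * 1529 + k)) = true := by decide +kernel
theorem kV_1530 : (List.range 128).all (fun k => chkVn Vtab XYgens V0 (128 * 1530 + k)) = true := by decide +kernel
theorem kV_1531 : (List.range 128).all (fun k => chkVn Vtab XYgens V0 (128 * 1531 + k)) = true := by decide +kernel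
theorem kV_1532 : (List.range 128).all (fun k => chkVn Vtab XYgens V0 (128 * 1532 + k)) = true := by decide +kernel
theorem kV_1533 : (List.range 128).all (fun k => chkVn Vtab XYgens V0 (128 * 1533 + k)) = true := by decide +kernel
theorem kV_1534 : (List.range 128).all (fun k => chkVn Vtab XYgens V0 (128 * 1534 + k)) = true := by decide +kernel
theorem kV_1535 : (List.range 128).all (fun k => chkVn Vtab XYgens V0 (128 * 1535 + k)) = true := by decide +kernel

theorem chkV_11 : ∀ n, 180224 ≤ n → n < 196608 → chkVn Vtab XYgens V0 n = true := by
  intro n h1 h2
  obtain ⟨J, hJ⟩ : ∃ J, J = n / 128 := ⟨_, rfl⟩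
  have hJ1 : 1408 ≤ J := by omega
  have hJ2 : J < 1536 := by omega
  interval_cases J
  · exact chunk_apply kV_1408 (by omega) (by omega)
  · exact chunk_apply kV_1409 (by omega) (by omega)
  · exact chunk_apply kV_1410 (by omega) (by omega)
  · exact chunk_apply kV_1411 (by omega) (by omega)
  · exact chunk_apply kV_1412 (by omega) (by omega)
  · exact chunk_apply kV_1413 (by omega) (by omega)
  · exact chunk_apply kV_1414 (by omega) (by omega)
  · exact chunk_apply kV_1415 (by omega) (by omega)
  · exact chunk_apply kV_1416 (by omega) (by omega)
  · exact chunk_apply kV_1417 (by omega) (by omega)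
  · exact chunk_apply kV_1418 (by omega) (by omega)
  · exact chunk_apply kV_1419 (by omega) (by omega)
  · exact chunk_apply kV_1420 (by omega) (by omega)
  · exact chunk_apply kV_1421 (by omega) (by omega)
  · exact chunk_apply kV_1422 (by omega) (by omega)
  · exact chunk_apply kV_1423 (by omega) (by omega)
  · exact chunk_apply kV_1424 (by omega) (by omega)
  · exact chunk_apply kV_1425 (by omega) (by omega)
  · exact chunk_apply kV_1426 (by omega) (by omega)
  · exact chunk_apply kV_1427 (by omega) (by omega)
  · exact chunk_apply kV_1428 (by omega) (by omega)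
  · exact chunk_apply kV_1429 (by omega) (by omega)
  · exact chunk_apply kV_1430 (by omega) (by omega)
  · exact chunk_apply kV_1431 (by omega) (by omega)
  · exact chunk_apply kV_1432 (by omega) (by omega)
  · exact chunk_apply kV_1433 (by omega) (by omega)
  · exact chunk_apply kV_1434 (by omega) (by omega)
  · exact chunk_apply kV_1435 (by omega) (by omega)
  · exact chunk_apply kV_1436 (by omega) (by omega)
  · exact chunk_apply kV_1437 (by omega) (by omega)
  · exact chunk_apply kV_1438 (by omega) (by omega)
  · exact chunk_apply kV_1439 (by omega) (by omega)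
  · exact chunk_apply kV_1440 (by omega) (by omega)
  · exact chunk_apply kV_1441 (by omega) (by omega)
  · exact chunk_apply kV_1442 (by omega) (by omega)
  · exact chunk_apply kV_1443 (by omega) (by omega)
  · exact chunk_apply kV_1444 (by omega) (by omega)
  · exact chunk_apply kV_1445 (by omega) (by omega)
  · exact chunk_apply kV_1446 (by omega) (by omega)
  · exact chunk_apply kV_1447 (by omega) (by omega)
  · exact chunk_apply kV_1448 (by omega) (by omega)
  · exact chunk_apply kV_1449 (by omega) (by omega)
  · exact chunk_apply kV_1450 (by omega) (by omega)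
  · exact chunk_apply kV_1451 (by omega) (by omega)
  · exact chunk_apply kV_1452 (by omega) (by omega)
  · exact chunk_apply kV_1453 (by omega) (by omega)
  · exact chunk_apply kV_1454 (by omega) (by omega)
  · exact chunk_apply kV_1455 (by omega) (by omega)
  · exact chunk_apply kV_1456 (by omega) (by omega)
  · exact chunk_apply kV_1457 (by omega) (by omega)
  · exact chunk_apply kV_1458 (by omega) (by omega)
  · exact chunk_apply kV_1459 (by omega) (by omega)
  · exact chunk_apply kV_1460 (by omega) (by omega)
  · exact chunk_apply kV_1461 (by omega) (by omega)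
  · exact chunk_apply kV_1462 (by omega) (by omega)
  · exact chunk_apply kV_1463 (by omega) (by omega)
  · exact chunk_apply kV_1464 (by omega) (by omega)
  · exact chunk_apply kV_1465 (by omega) (by omega)
  · exact chunk_apply kV_1466 (by omega) (by omega)
  · exact chunk_apply kV_1467 (by omega) (by omega)
  · exact chunk_apply kV_1468 (by omega) (by omega)
  · exact chunk_apply kV_1469 (by omega) (by omega)
  · exact chunk_apply kV_1470 (by omega) (by omega)
  · exact chunk_apply kV_1471 (by omega) (by omega)
  · exact chunk_apply kV_1472 (by omega) (by omega)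
  · exact chunk_apply kV_1473 (by omega) (by omega)
  · exact chunk_apply kV_1474 (by omega) (by omega)
  · exact chunk_apply kV_1475 (by omega) (by omega)
  · exact chunk_apply kV_1476 (by omega) (by omega)
  · exact chunk_apply kV_1477 (by omega) (by omega)
  · exact chunk_apply kV_1478 (by omega) (by omega)
  · exact chunk_apply kV_1479 (by omega) (by omega)
  · exact chunk_apply kV_1480 (by omega) (by omega)
  · exact chunk_apply kV_1481 (by omega) (by omega)
  · exact chunk_apply kV_1482 (by omega) (by omega)
  · exact chunk_apply kV_1483 (by omega) (by omega)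
  · exact chunk_apply kV_1484 (by omega) (by omega)
  · exact chunk_apply kV_1485 (by omega) (by omega)
  · exact chunk_apply kV_1486 (by omega) (by omega)
  · exact chunk_apply kV_1487 (by omega) (by omega)
  · exact chunk_apply kV_1488 (by omega) (by omega)
  · exact chunk_apply kV_1489 (by omega) (by omega)
  · exact chunk_apply kV_1490 (by omega) (by omega)
  · exact chunk_apply kV_1491 (by omega) (by omega)
  · exact chunk_apply kV_1492 (by omega) (by omega)
  · exact chunk_apply kV_1493 (by omega) (by omega)
  · exact chunk_apply kV_1494 (by omega) (by omega)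
  · exact chunk_apply kV_1495 (by omega) (by omega)
  · exact chunk_apply kV_1496 (by omega) (by omega)
  · exact chunk_apply kV_1497 (by omega) (by omega)
  · exact chunk_apply kV_1498 (by omega) (by omega)
  · exact chunk_apply kV_1499 (by omega) (by omega)
  · exact chunk_apply kV_1500 (by omega) (by omega)
  · exact chunk_apply kV_1501 (by omega) (by omega)
  · exact chunk_apply kV_1502 (by omega) (by omega)
  · exact chunk_apply kV_1503 (by omega) (by omega)
  · exact chunk_apply kV_1504 (by omega) (by omega)
  · exact chunk_apply kV_1505 (by omega) (by omega)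
  · exact chunk_apply kV_1506 (by omega) (by omega)
  · exact chunk_apply kV_1507 (by omega) (by omega)
  · exact chunk_apply kV_1508 (by omega) (by omega)
  · exact chunk_apply kV_1509 (by omega) (by omega)
  · exact chunk_apply kV_1510 (by omega) (by omega)
  · exact chunk_apply kV_1511 (by omega) (by omega)
  · exact chunk_apply kV_1512 (by omega) (by omega)
  · exact chunk_apply kV_1513 (by omega) (by omega)
  · exact chunk_apply kV_1514 (by omega) (by omega)
  · exact chunk_apply kV_1515 (by omega) (by omega)
  · exact chunk_apply kV_1516 (by omega) (by omega)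
  · exact chunk_apply kV_1517 (by omega) (by omega)
  · exact chunk_apply kV_1518 (by omega) (by omega)
  · exact chunk_apply kV_1519 (by omega) (by omega)
  · exact chunk_apply kV_1520 (by omega) (by omega)
  · exact chunk_apply kV_1521 (by omega) (by omega)
  · exact chunk_apply kV_1522 (by omega) (by omega)
  · exact chunk_apply kV_1523 (by omega) (by omega)
  · exact chunk_apply kV_1524 (by omega) (by omega)
  · exact chunk_apply kV_1525 (by omega) (by omega)
  · exact chunk_apply kV_1526 (by omega) (by omega)
  · exact chunk_apply kV_1527 (by omega) (by omega)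
  · exact chunk_apply kV_1528 (by omega) (by omega)
  · exact chunk_apply kV_1529 (by omega) (by omega)
  · exact chunk_apply kV_1530 (by omega) (by omega)
  · exact chunk_apply kV_1531 (by omega) (by omega)
  · exact chunk_apply kV_1532 (by omega) (by omega)
  · exact chunk_apply kV_1533 (by omega) (by omega)
  · exact chunk_apply kV_1534 (by omega) (by omega)
  · exact chunk_apply kV_1535 (by omega) (by omega)

end Cfsg.Agent.Helper14.J3
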