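import Mathlib
import Cfsg.Agent.Helper14.J3Y

set_option autoImplicit false

namespace Cfsg.Agent.Helper14.J3

theorem kV_1536 : (List.range 128).all (fun k => chkVn Vtab XYgens V0 (128 * 1536 + k)) = true := by decide +kernel
theorem kV_1537 : (List.range 128).all (fun k => chkVn Vtab XYgens V0 (128 * 1537 + k)) = true := by decide +kernel
theorem kV_1538 : (List.range 128).all (fun k => chkVn Vtab XYgens V0 (128 * 1538 + k)) = true := by decide +kernel
theorem kV_1539 : (List.range 128).all (fun k => chkVn Vtab XYgens V0 (128 * 1539 + k)) = true := by decide +kernel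
theorem kV_1540 : (List.range 128).all (fun k => chkVn Vtab XYgens V0 (128 * 1540 + k)) = true := by decide +kernel
theorem kV_1541 : (List.range 128).all (fun k => chkVn Vtab XYgens V0 (128 * 1541 + k)) = true := by decide +kernel
theorem kV_1542 : (List.range 128).all (fun k => chkVn Vtab XYgens V0 (128 * 1542 + k)) = true := by decide +kernel
theorem kV_1543 : (List.range 128).all (fun k => chkVn Vtab XYgens V0 (128 * 1543 + k)) = true := by decide +kernel
theorem kV_1544 : (List.range 128).all (fun k => chkVn Vtab XYgens V0 (128 * 1544 + k)) = true := by decide +kernel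
theorem kV_1545 : (List.range 128).all (fun k => chkVn Vtab XYgens V0 (128 * 1545 + k)) = true := by decide +kernel
theorem kV_1546 : (List.range 128).all (fun k => chkVn Vtab XYgens V0 (128 * 1546 + k)) = true := by decide +kernel
theorem kV_1547 : (List.range 128).all (fun k => chkVn Vtab XYgens V0 (128 * 1547 + k)) = true := by decide +kernel
theorem kV_1548 : (List.range 128).all (fun k => chkVn Vtab XYgens V0 (128 * 1548 + k)) = true := by decide +kernel
theorem kV_1549 : (List.range 128).all (fun k => chkVn Vtab XYgens V0 (128 * 1549 + k)) = true := by decide +kernel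
theorem kV_1550 : (List.range 128).all (fun k => chkVn Vtab XYgens V0 (128 * 1550 + k)) = true := by decide +kernel
theorem kV_1551 : (List.range 128).all (fun k => chkVn Vtab XYgens V0 (128 * 1551 + k)) = true := by decide +kernel
theorem kV_1552 : (List.range 128).all (fun k => chkVn Vtab XYgens V0 (128 * 1552 + k)) = true := by decide +kernel
theorem kV_1553 : (List.range 128).all (fun k => chkVn Vtab XYgens V0 (128 * 1553 + k)) = true := by decide +kernel
theorem kV_1554 : (List.range 128).all (fun k => chkVn Vtab XYgens V0 (128 * 1554 + k)) = true := by decide +kernel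
theorem kV_1555 : (List.range 128).all (fun k => chkVn Vtab XYgens V0 (128 * 1555 + k)) = true := by decide +kernel
theorem kV_1556 : (List.range 128).all (fun k => chkVn Vtab XYgens V0 (128 * 1556 + k)) = true := by decide +kernel
theorem kV_1557 : (List.range 128).all (fun k => chkVn Vtab XYgens V0 (128 * 1557 + k)) = true := by decide +kernel
theorem kV_1558 : (List.range 128).all (fun k => chkVn Vtab XYgens V0 (128 * 1558 + k)) = true := by decide +kernel
theorem kV_1559 : (List.range 128).all (fun k => chkVn Vtab XYgens V0 (128 * 1559 + k)) = true := by decide +kernel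
theorem kV_1560 : (List.range 128).all (fun k => chkVn Vtab XYgens V0 (128 * 1560 + k)) = true := by decide +kernel
theorem kV_1561 : (List.range 128).all (fun k => chkVn Vtab XYgens V0 (128 * 1561 + k)) = true := by decide +kernel
theorem kV_1562 : (List.range 128).all (fun k => chkVn Vtab XYgens V0 (128 * 1562 + k)) = true := by decide +kernel
theorem kV_1563 : (List.range 128).all (fun k => chkVn Vtab XYgens V0 (128 * 1563 + k)) = true := by decide +kernel
theorem kV_1564 : (List.range 128).all (fun k => chkVn Vtab XYgens V0 (128 * 1564 + k)) = true := by decide +kernel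
theorem kV_1565 : (List.range 128).all (fun k => chkVn Vtab XYgens V0 (128 * 1565 + k)) = true := by decide +kernel
theorem kV_1566 : (List.range 128).all (fun k => chkVn Vtab XYgens V0 (128 * 1566 + k)) = true := by decide +kernel
theorem kV_1567 : (List.range 128).all (fun k => chkVn Vtab XYgens V0 (128 * 1567 + k)) = true := by decide +kernel
theorem kV_1568 : (List.range 128).all (fun k => chkVn Vtab XYgens V0 (128 * 1568 + k)) = true := by decide +kernel
theorem kV_1569 : (List.range 128).all (fun k => chkVn Vtab XYgens V0 (128 * 1569 + k)) = true := by decide +kernel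
theorem kV_1570 : (List.range 128).all (fun k => chkVn Vtab XYgens V0 (128 * 1570 + k)) = true := by decide +kernel
theorem kV_1571 : (List.range 128).all (fun k => chkVn Vtab XYgens V0 (128 * 1571 + k)) = true := by decide +kernel
theorem kV_1572 : (List.range 128).all (fun k => chkVn Vtab XYgens V0 (128 * 1572 + k)) = true := by decide +kernel
theorem kV_1573 : (List.range 128).all (fun k => chkVn Vtab XYgens V0 (128 * 1573 + k)) = true := by decide +kernel
theorem kV_1574 : (List.range 128).all (fun k => chkVn Vtab XYgens V0 (128 * 1574 + k)) = true := by decide +kernel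
theorem kV_1575 : (List.range 128).all (fun k => chkVn Vtab XYgens V0 (128 * 1575 + k)) = true := by decide +kernel
theorem kV_1576 : (List.range 128).all (fun k => chkVn Vtab XYgens V0 (128 * 1576 + k)) = true := by decide +kernel
theorem kV_1577 : (List.range 128).all (fun k => chkVn Vtab XYgens V0 (128 * 1577 + k)) = true := by decide +kernel
theorem kV_1578 : (List.range 128).all (fun k => chkVn Vtab XYgens V0 (128 * 1578 + k)) = true := by decide +kernel
theorem kV_1579 : (List.range 128).all (fun k => chkVn Vtab XYgens V0 (128 * 1579 + k)) = true := by decide +kernel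
theorem kV_1580 : (List.range 128).all (fun k => chkVn Vtab XYgens V0 (128 * 1580 + k)) = true := by decide +kernel
theorem kV_1581 : (List.range 128).all (fun k => chkVn Vtab XYgens V0 (128 * 1581 + k)) = true := by decide +kernel
theorem kV_1582 : (List.range 128).all (fun k => chkVn Vtab XYgens V0 (128 * 1582 + k)) = true := by decide +kernel
theorem kV_1583 : (List.range 128).all (fun k => chkVn Vtab XYgens V0 (128 * 1583 + k)) = true := by decide +kernel
theorem kV_1584 : (List.range 128).all (fun k => chkVn Vtab XYgens V0 (128 * 1584 + k)) = true := by decide +kernel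
theorem kV_1585 : (List.range 128).all (fun k => chkVn Vtab XYgens V0 (128 * 1585 + k)) = true := by decide +kernel
theorem kV_1586 : (List.range 128).all (fun k => chkVn Vtab XYgens V0 (128 * 1586 + k)) = true := by decide +kernel
theorem kV_1587 : (List.range 128).all (fun k => chkVn Vtab XYgens V0 (128 * 1587 + k)) = true := by decide +kernel
theorem kV_1588 : (List.range 128).all (fun k => chkVn Vtab XYgens V0 (128 * 1588 + k)) = true := by decide +kernel
theorem kV_1589 : (List.range 128).all (fun k => chkVn Vtab XYgens V0 (128 * 1589 + k)) = true := by decide +kernel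
theorem kV_1590 : (List.range 128).all (fun k => chkVn Vtab XYgens V0 (128 * 1590 + k)) = true := by decide +kernel
theorem kV_1591 : (List.range 128).all (fun k => chkVn Vtab XYgens V0 (128 * 1591 + k)) = true := by decide +kernel
theorem kV_1592 : (List.range 128).all (fun k => chkVn Vtab XYgens V0 (128 * 1592 + k)) = true := by decide +kernel
theorem kV_1593 : (List.range 128).all (fun k => chkVn Vtab XYgens V0 (128 * 1593 + k)) = true := by decide +kernel
theorem kV_1594 : (List.range 128).all (fun k => chkVn Vtab XYgens V0 (128 * 1594 + k)) = true := by decide +kernel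
theorem kV_1595 : (List.range 128).all (fun k => chkVn Vtab XYgens V0 (128 * 1595 + k)) = true := by decide +kernel
theorem kV_1596 : (List.range 128).all (fun k => chkVn Vtab XYgens V0 (128 * 1596 + k)) = true := by decide +kernel
theorem kV_1597 : (List.range 128).all (fun k => chkVn Vtab XYgens V0 (128 * 1597 + k)) = true := by decide +kernel
theorem kV_1598 : (List.range 128).all (fun k => chkVn Vtab XYgens V0 (128 * 1598 + k)) = true := by decide +kernel
theorem kV_1599 : (List.range 128).all (fun k => chkVn Vtab XYgens V0 (128 * 1599 + k)) = true := by decide +kernel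
theorem kV_1600 : (List.range 128).all (fun k => chkVn Vtab XYgens V0 (128 * 1600 + k)) = true := by decide +kernel
theorem kV_1601 : (List.range 128).all (fun k => chkVn Vtab XYgens V0 (128 * 1601 + k)) = true := by decide +kernel
theorem kV_1602 : (List.range 128).all (fun k => chkVn Vtab XYgens V0 (128 * 1602 + k)) = true := by decide +kernel
theorem kV_1603 : (List.range 128).all (fun k => chkVn Vtab XYgens V0 (128 * 1603 + k)) = true := by decide +kernel
theorem kV_1604 : (List.range 128).all (fun k => chkVn Vtab XYgens V0 (128 * 1604 + k)) = true := by decide +kernel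
theorem kV_1605 : (List.range 128).all (fun k => chkVn Vtab XYgens V0 (128 * 1605 + k)) = true := by decide +kernel
theorem kV_1606 : (List.range 128).all (fun k => chkVn Vtab XYgens V0 (128 * 1606 + k)) = true := by decide +kernel
theorem kV_1607 : (List.range 128).all (fun k => chkVn Vtab XYgens V0 (128 * 1607 + k)) = true := by decide +kernel
theorem kV_1608 : (List.range 128).all (fun k => chkVn Vtab XYgens V0 (128 * 1608 + k)) = true := by decide +kernel
theorem kV_1609 : (List.range 128).all (fun k => chkVn Vtab XYgens V0 (128 * 1609 + k)) = true := by decide +kernel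
theorem kV_1610 : (List.range 128).all (fun k => chkVn Vtab XYgens V0 (128 * 1610 + k)) = true := by decide +kernel
theorem kV_1611 : (List.range 128).all (fun k => chkVn Vtab XYgens V0 (128 * 1611 + k)) = true := by decide +kernel
theorem kV_1612 : (List.range 128).all (fun k => chkVn Vtab XYgens V0 (128 * 1612 + k)) = true := by decide +kernel
theorem kV_1613 : (List.range 128).all (fun k => chkVn Vtab XYgens V0 (128 * 1613 + k)) = true := by decide +kernel
theorem kV_1614 : (List.range 128).all (fun k => chkVn Vtab XYgens V0 (128 * 1614 + k)) = true := by decide +kernel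
theorem kV_1615 : (List.range 128).all (fun k => chkVn Vtab XYgens V0 (128 * 1615 + k)) = true := by decide +kernel
theorem kV_1616 : (List.range 128).all (fun k => chkVn Vtab XYgens V0 (128 * 1616 + k)) = true := by decide +kernel
theorem kV_1617 : (List.range 128).all (fun k => chkVn Vtab XYgens V0 (128 * 1617 + k)) = true := by decide +kernel
theorem kV_1618 : (List.range 128).all (fun k => chkVn Vtab XYgens V0 (128 * 1618 + k)) = true := by decide +kernel
theorem kV_1619 : (List.range 128).all (fun k => chkVn Vtab XYgens V0 (128 * 1619 + k)) = true := by decide +kernel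
theorem kV_1620 : (List.range 128).all (fun k => chkVn Vtab XYgens V0 (128 * 1620 + k)) = true := by decide +kernel
theorem kV_1621 : (List.range 128).all (fun k => chkVn Vtab XYgens V0 (128 * 1621 + k)) = true := by decide +kernel
theorem kV_1622 : (List.range 128).all (fun k => chkVn Vtab XYgens V0 (128 * 1622 + k)) = true := by decide +kernel
theorem kV_1623 : (List.range 128).all (fun k => chkVn Vtab XYgens V0 (128 * 1623 + k)) = true := by decide +kernel
theorem kV_1624 : (List.range 128).all (fun k => chkVn Vtab XYgens V0 (128 * 1624 + k)) = true := by decide +kernel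
theorem kV_1625 : (List.range 128).all (fun k => chkVn Vtab XYgens V0 (128 * 1625 + k)) = true := by decide +kernel
theorem kV_1626 : (List.range 128).all (fun k => chkVn Vtab XYgens V0 (128 * 1626 + k)) = true := by decide +kernel
theorem kV_1627 : (List.range 128).all (fun k => chkVn Vtab XYgens V0 (128 * 1627 + k)) = true := by decide +kernel
theorem kV_1628 : (List.range 128).all (fun k => chkVn Vtab XYgens V0 (128 * 1628 + k)) = true := by decide +kernel
theorem kV_1629 : (List.range 128).all (fun k => chkVn Vtab XYgens V0 (128 * 1629 + k)) = true := by decide +kernel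
theorem kV_1630 : (List.range 128).all (fun k => chkVn Vtab XYgens V0 (128 * 1630 + k)) = true := by decide +kernel
theorem kV_1631 : (List.range 128).all (fun k => chkVn Vtab XYgens V0 (128 * 1631 + k)) = true := by decide +kernel
theorem kV_1632 : (List.range 128).all (fun k => chkVn Vtab XYgens V0 (128 * 1632 + k)) = true := by decide +kernel
theorem kV_1633 : (List.range 128).all (fun k => chkVn Vtab XYgens V0 (128 * 1633 + k)) = true := by decide +kernel
theorem kV_1634 : (List.range 128).all (fun k => chkVn Vtab XYgens V0 (128 * 1634 + k)) = true := by decide +kernel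
theorem kV_1635 : (List.range 128).all (fun k => chkVn Vtab XYgens V0 (128 * 1635 + k)) = true := by decide +kernel
theorem kV_1636 : (List.range 128).all (fun k => chkVn Vtab XYgens V0 (128 * 1636 + k)) = true := by decide +kernel
theorem kV_1637 : (List.range 128).all (fun k => chkVn Vtab XYgens V0 (128 * 1637 + k)) = true := by decide +kernel
theorem kV_1638 : (List.range 128).all (fun k => chkVn Vtab XYgens V0 (128 * 1638 + k)) = true := by decide +kernel
theorem kV_1639 : (List.range 128).all (fun k => chkVn Vtab XYgens V0 (128 * 1639 + k)) = true := by decide +kernel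
theorem kV_1640 : (List.range 128).all (fun k => chkVn Vtab XYgens V0 (128 * 1640 + k)) = true := by decide +kernel
theorem kV_1641 : (List.range 128).all (fun k => chkVn Vtab XYgens V0 (128 * 1641 + k)) = true := by decide +kernel
theorem kV_1642 : (List.range 128).all (fun k => chkVn Vtab XYgens V0 (128 * 1642 + k)) = true := by decide +kernel
theorem kV_1643 : (List.range 128).all (fun k => chkVn Vtab XYgens V0 (128 * 1643 + k)) = true := by decide +kernel
theorem kV_1644 : (List.range 128).all (fun k => chkVn Vtab XYgens V0 (128 * 1644 + k)) = true := by decide +kernel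
theorem kV_1645 : (List.range 128).all (fun k => chkVn Vtab XYgens V0 (128 * 1645 + k)) = true := by decide +kernel
theorem kV_1646 : (List.range 128).all (fun k => chkVn Vtab XYgens V0 (128 * 1646 + k)) = true := by decide +kernel
theorem kV_1647 : (List.range 128).all (fun k => chkVn Vtab XYgens V0 (128 * 1647 + k)) = true := by decide +kernel
theorem kV_1648 : (List.range 128).all (fun k => chkVn Vtab XYgens V0 (128 * 1648 + k)) = true := by decide +kernel
theorem kV_1649 : (List.range 128).all (fun k => chkVn Vtab XYgens V0 (128 * 1649 + k)) = true := by decide +kernel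
theorem kV_1650 : (List.range 128).all (fun k => chkVn Vtab XYgens V0 (128 * 1650 + k)) = true := by decide +kernel
theorem kV_1651 : (List.range 128).all (fun k => chkVn Vtab XYgens V0 (128 * 1651 + k)) = true := by decide +kernel
theorem kV_1652 : (List.range 128).all (fun k => chkVn Vtab XYgens V0 (128 * 1652 + k)) = true := by decide +kernel
theorem kV_1653 : (List.range 128).all (fun k => chkVn Vtab XYgens V0 (128 * 1653 + k)) = true := by decide +kernel
theorem kV_1654 : (List.range 128).all (fun k => chkVn Vtab XYgens V0 (128 * 1654 + k)) = true := by decide +kernel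
theorem kV_1655 : (List.range 128).all (fun k => chkVn Vtab XYgens V0 (128 * 1655 + k)) = true := by decide +kernel
theorem kV_1656 : (List.range 128).all (fun k => chkVn Vtab XYgens V0 (128 * 1656 + k)) = true := by decide +kernel
theorem kV_1657 : (List.range 128).all (fun k => chkVn Vtab XYgens V0 (128 * 1657 + k)) = true := by decide +kernel
theorem kV_1658 : (List.range 128).all (fun k => chkVn Vtab XYgens V0 (128 * 1658 + k)) = true := by decide +kernel
theorem kV_1659 : (List.range 128).all (fun k => chkVn Vtab XYgens V0 (128 * 1659 + k)) = true := by decide +kernel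
theorem kV_1660 : (List.range 128).all (fun k => chkVn Vtab XYgens V0 (128 * 1660 + k)) = true := by decide +kernel
theorem kV_1661 : (List.range 128).all (fun k => chkVn Vtab XYgens V0 (128 * 1661 + k)) = true := by decide +kernel
theorem kV_1662 : (List.range 128).all (fun k => chkVn Vtab XYgens V0 (128 * 1662 + k)) = true := by decide +kernel
theorem kV_1663 : (List.range 128).all (fun k => chkVn Vtab XYgens V0 (128 * 1663 + k)) = true := by decide +kernel

theorem chkV_12 : ∀ n, 196608 ≤ n → n < 212992 → chkVn Vtab XYgens V0 n = true := by
  intro n h1 h2
  obtain ⟨J, hJ⟩ : ∃ J, J = n / 128 := ⟨_, rfl⟩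
  have hJ1 : 1536 ≤ J := by omega
  have hJ2 : J < 1664 := by omega
  interval_cases J
  · exact chunk_apply kV_1536 (by omega) (by omega)
  · exact chunk_apply kV_1537 (by omega) (by omega)
  · exact chunk_apply kV_1538 (by omega) (by omega)
  · exact chunk_apply kV_1539 (by omega) (by omega)
  · exact chunk_apply kV_1540 (by omega) (by omega)
  · exact chunk_apply kV_1541 (by omega) (by omega)
  · exact chunk_apply kV_1542 (by omega) (by omega)
  · exact chunk_apply kV_1543 (by omega) (by omega)
  · exact chunk_apply kV_1544 (by omega) (by omega)
  · exact chunk_apply kV_1545 (by omega) (by omega)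
  · exact chunk_apply kV_1546 (by omega) (by omega)
  · exact chunk_apply kV_1547 (by omega) (by omega)
  · exact chunk_apply kV_1548 (by omega) (by omega)
  · exact chunk_apply kV_1549 (by omega) (by omega)
  · exact chunk_apply kV_1550 (by omega) (by omega)
  · exact chunk_apply kV_1551 (by omega) (by omega)
  · exact chunk_apply kV_1552 (by omega) (by omega)
  · exact chunk_apply kV_1553 (by omega) (by omega)
  · exact chunk_apply kV_1554 (by omega) (by omega)
  · exact chunk_apply kV_1555 (by omega) (by omega)
  · exact chunk_apply kV_1556 (by omega) (by omega)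
  · exact chunk_apply kV_1557 (by omega) (by omega)
  · exact chunk_apply kV_1558 (by omega) (by omega)
  · exact chunk_apply kV_1559 (by omega) (by omega)
  · exact chunk_apply kV_1560 (by omega) (by omega)
  · exact chunk_apply kV_1561 (by omega) (by omega)
  · exact chunk_apply kV_1562 (by omega) (by omega)
  · exact chunk_apply kV_1563 (by omega) (by omega)
  · exact chunk_apply kV_1564 (by omega) (by omega)
  · exact chunk_apply kV_1565 (by omega) (by omega)
  · exact chunk_apply kV_1566 (by omega) (by omega)
  · exact chunk_apply kV_1567 (by omega) (by omega)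
  · exact chunk_apply kV_1568 (by omega) (by omega)
  · exact chunk_apply kV_1569 (by omega) (by omega)
  · exact chunk_apply kV_1570 (by omega) (by omega)
  · exact chunk_apply kV_1571 (by omega) (by omega)
  · exact chunk_apply kV_1572 (by omega) (by omega)
  · exact chunk_apply kV_1573 (by omega) (by omega)
  · exact chunk_apply kV_1574 (by omega) (by omega)
  · exact chunk_apply kV_1575 (by omega) (by omega)
  · exact chunk_apply kV_1576 (by omega) (by omega)
  · exact chunk_apply kV_1577 (by omega) (by omega)
  · exact chunk_apply kV_1578 (by omega) (by omega)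
  · exact chunk_apply kV_1579 (by omega) (by omega)
  · exact chunk_apply kV_1580 (by omega) (by omega)
  · exact chunk_apply kV_1581 (by omega) (by omega)
  · exact chunk_apply kV_1582 (by omega) (by omega)
  · exact chunk_apply kV_1583 (by omega) (by omega)
  · exact chunk_apply kV_1584 (by omega) (by omega)
  · exact chunk_apply kV_1585 (by omega) (by omega)
  · exact chunk_apply kV_1586 (by omega) (by omega)
  · exact chunk_apply kV_1587 (by omega) (by omega)
  · exact chunk_apply kV_1588 (by omega) (by omega)
  · exact chunk_apply kV_1589 (by omega) (by omega)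
  · exact chunk_apply kV_1590 (by omega) (by omega)
  · exact chunk_apply kV_1591 (by omega) (by omega)
  · exact chunk_apply kV_1592 (by omega) (by omega)
  · exact chunk_apply kV_1593 (by omega) (by omega)
  · exact chunk_apply kV_1594 (by omega) (by omega)
  · exact chunk_apply kV_1595 (by omega) (by omega)
  · exact chunk_apply kV_1596 (by omega) (by omega)
  · exact chunk_apply kV_1597 (by omega) (by omega)
  · exact chunk_apply kV_1598 (by omega) (by omega)
  · exact chunk_apply kV_1599 (by omega) (by omega)
  · exact chunk_apply kV_1600 (by omega) (by omega)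
  · exact chunk_apply kV_1601 (by omega) (by omega)
  · exact chunk_apply kV_1602 (by omega) (by omega)
  · exact chunk_apply kV_1603 (by omega) (by omega)
  · exact chunk_apply kV_1604 (by omega) (by omega)
  · exact chunk_apply kV_1605 (by omega) (by omega)
  · exact chunk_apply kV_1606 (by omega) (by omega)
  · exact chunk_apply kV_1607 (by omega) (by omega)
  · exact chunk_apply kV_1608 (by omega) (by omega)
  · exact chunk_apply kV_1609 (by omega) (by omega)
  · exact chunk_apply kV_1610 (by omega) (by omega)
  · exact chunk_apply kV_1611 (by omega) (by omega)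
  · exact chunk_apply kV_1612 (by omega) (by omega)
  · exact chunk_apply kV_1613 (by omega) (by omega)
  · exact chunk_apply kV_1614 (by omega) (by omega)
  · exact chunk_apply kV_1615 (by omega) (by omega)
  · exact chunk_apply kV_1616 (by omega) (by omega)
  · exact chunk_apply kV_1617 (by omega) (by omega)
  · exact chunk_apply kV_1618 (by omega) (by omega)
  · exact chunk_apply kV_1619 (by omega) (by omega)
  · exact chunk_apply kV_1620 (by omega) (by omega)
  · exact chunk_apply kV_1621 (by omega) (by omega)
  · exact chunk_apply kV_1622 (by omega) (by omega)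
  · exact chunk_apply kV_1623 (by omega) (by omega)
  · exact chunk_apply kV_1624 (by omega) (by omega)
  · exact chunk_apply kV_1625 (by omega) (by omega)
  · exact chunk_apply kV_1626 (by omega) (by omega)
  · exact chunk_apply kV_1627 (by omega) (by omega)
  · exact chunk_apply kV_1628 (by omega) (by omega)
  · exact chunk_apply kV_1629 (by omega) (by omega)
  · exact chunk_apply kV_1630 (by omega) (by omega)
  · exact chunk_apply kV_1631 (by omega) (by omega)
  · exact chunk_apply kV_1632 (by omega) (by omega)
  · exact chunk_apply kV_1633 (by omega) (by omega)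
  · exact chunk_apply kV_1634 (by omega) (by omega)
  · exact chunk_apply kV_1635 (by omega) (by omega)
  · exact chunk_apply kV_1636 (by omega) (by omega)
  · exact chunk_apply kV_1637 (by omega) (by omega)
  · exact chunk_apply kV_1638 (by omega) (by omega)
  · exact chunk_apply kV_1639 (by omega) (by omega)
  · exact chunk_apply kV_1640 (by omega) (by omega)
  · exact chunk_apply kV_1641 (by omega) (by omega)
  · exact chunk_apply kV_1642 (by omega) (by omega)
  · exact chunk_apply kV_1643 (by omega) (by omega)
  · exact chunk_apply kV_1644 (by omega) (by omega)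
  · exact chunk_apply kV_1645 (by omega) (by omega)
  · exact chunk_apply kV_1646 (by omega) (by omega)
  · exact chunk_apply kV_1647 (by omega) (by omega)
  · exact chunk_apply kV_1648 (by omega) (by omega)
  · exact chunk_apply kV_1649 (by omega) (by omega)
  · exact chunk_apply kV_1650 (by omega) (by omega)
  · exact chunk_apply kV_1651 (by omega) (by omega)
  · exact chunk_apply kV_1652 (by omega) (by omega)
  · exact chunk_apply kV_1653 (by omega) (by omega)
  · exact chunk_apply kV_1654 (by omega) (by omega)
  · exact chunk_apply kV_1655 (by omega) (by omega)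
  · exact chunk_apply kV_1656 (by omega) (by omega)
  · exact chunk_apply kV_1657 (by omega) (by omega)
  · exact chunk_apply kV_1658 (by omega) (by omega)
  · exact chunk_apply kV_1659 (by omega) (by omega)
  · exact chunk_apply kV_1660 (by omega) (by omega)
  · exact chunk_apply kV_1661 (by omega) (by omega)
  · exact chunk_apply kV_1662 (by omega) (by omega)
  · exact chunk_apply kV_1663 (by omega) (by omega)

end Cfsg.Agent.Helper14.J3
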