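import Mathlib
import Cfsg.Agent.Helper14.J3Y

set_option autoImplicit false

namespace Cfsg.Agent.Helper14.J3

theorem kV_1664 : (List.range 128).all (fun k => chkVn Vtab XYgens V0 (128 * 1664 + k)) = true := by decide +kernel
theorem kV_1665 : (List.range 128).all (fun k => chkVn Vtab XYgens V0 (128 * 1665 + k)) = true := by decide +kernel
theorem kV_1666 : (List.range 128).all (fun k => chkVn Vtab XYgens V0 (128 * 1666 + k)) = true := by decide +kernel
theorem kV_1667 : (List.range 128).all (fun k => chkVn Vtab XYgens V0 (128 * 1667 + k)) = true := by decide +kernel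
theorem kV_1668 : (List.range 128).all (fun k => chkVn Vtab XYgens V0 (128 * 1668 + k)) = true := by decide +kernel
theorem kV_1669 : (List.range 128).all (fun k => chkVn Vtab XYgens V0 (128 * 1669 + k)) = true := by decide +kernel
theorem kV_1670 : (List.range 128).all (fun k => chkVn Vtab XYgens V0 (128 * 1670 + k)) = true := by decide +kernel
theorem kV_1671 : (List.range 128).all (fun k => chkVn Vtab XYgens V0 (128 * 1671 + k)) = true := by decide +kernel
theorem kV_1672 : (List.range 128).all (fun k => chkVn Vtab XYgens V0 (128 * 1672 + k)) = true := by decide +kernel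
theorem kV_1673 : (List.range 128).all (fun k => chkVn Vtab XYgens V0 (128 * 1673 + k)) = true := by decide +kernel
theorem kV_1674 : (List.range 128).all (fun k => chkVn Vtab XYgens V0 (128 * 1674 + k)) = true := by decide +kernel
theorem kV_1675 : (List.range 128).all (fun k => chkVn Vtab XYgens V0 (128 * 1675 + k)) = true := by decide +kernel
theorem kV_1676 : (List.range 128).all (fun k => chkVn Vtab XYgens V0 (128 * 1676 + k)) = true := by decide +kernel
theorem kV_1677 : (List.range 128).all (fun k => chkVn Vtab XYgens V0 (128 * 1677 + k)) = true := by decide +kernel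
theorem kV_1678 : (List.range 128).all (fun k => chkVn Vtab XYgens V0 (128 * 1678 + k)) = true := by decide +kernel
theorem kV_1679 : (List.range 128).all (fun k => chkVn Vtab XYgens V0 (128 * 1679 + k)) = true := by decide +kernel
theorem kV_1680 : (List.range 128).all (fun k => chkVn Vtab XYgens V0 (128 * 1680 + k)) = true := by decide +kernel
theorem kV_1681 : (List.range 128).all (fun k => chkVn Vtab XYgens V0 (128 * 1681 + k)) = true := by decide +kernel
theorem kV_1682 : (List.range 128).all (fun k => chkVn Vtab XYgens V0 (128 * 1682 + k)) = true := by decide +kernel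
theorem kV_1683 : (List.range 128).all (fun k => chkVn Vtab XYgens V0 (128 * 1683 + k)) = true := by decide +kernel
theorem kV_1684 : (List.range 128).all (fun k => chkVn Vtab XYgens V0 (128 * 1684 + k)) = true := by decide +kernel
theorem kV_1685 : (List.range 128).all (fun k => chkVn Vtab XYgens V0 (128 * 1685 + k)) = true := by decide +kernel
theorem kV_1686 : (List.range 128).all (fun k => chkVn Vtab XYgens V0 (128 * 1686 + k)) = true := by decide +kernel
theorem kV_1687 : (List.range 128).all (fun k => chkVn Vtab XYgens V0 (128 * 1687 + k)) = true := by decide +kernel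
theorem kV_1688 : (List.range 128).all (fun k => chkVn Vtab XYgens V0 (128 * 1688 + k)) = true := by decide +kernel
theorem kV_1689 : (List.range 128).all (fun k => chkVn Vtab XYgens V0 (128 * 1689 + k)) = true := by decide +kernel
theorem kV_1690 : (List.range 128).all (fun k => chkVn Vtab XYgens V0 (128 * 1690 + k)) = true := by decide +kernel
theorem kV_1691 : (List.range 128).all (fun k => chkVn Vtab XYgens V0 (128 * 1691 + k)) = true := by decide +kernel
theorem kV_1692 : (List.range 128).all (fun k => chkVn Vtab XYgens V0 (128 * 1692 + k)) = true := by decide +kernel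
theorem kV_1693 : (List.range 128).all (fun k => chkVn Vtab XYgens V0 (128 * 1693 + k)) = true := by decide +kernel
theorem kV_1694 : (List.range 128).all (fun k => chkVn Vtab XYgens V0 (128 * 1694 + k)) = true := by decide +kernel
theorem kV_1695 : (List.range 128).all (fun k => chkVn Vtab XYgens V0 (128 * 1695 + k)) = true := by decide +kernel
theorem kV_1696 : (List.range 128).all (fun k => chkVn Vtab XYgens V0 (128 * 1696 + k)) = true := by decide +kernel
theorem kV_1697 : (List.range 128).all (fun k => chkVn Vtab XYgens V0 (128 * 1697 + k)) = true := by decide +kernel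
theorem kV_1698 : (List.range 128).all (fun k => chkVn Vtab XYgens V0 (128 * 1698 + k)) = true := by decide +kernel
theorem kV_1699 : (List.range 128).all (fun k => chkVn Vtab XYgens V0 (128 * 1699 + k)) = true := by decide +kernel
theorem kV_1700 : (List.range 128).all (fun k => chkVn Vtab XYgens V0 (128 * 1700 + k)) = true := by decide +kernel
theorem kV_1701 : (List.range 128).all (fun k => chkVn Vtab XYgens V0 (128 * 1701 + k)) = true := by decide +kernel
theorem kV_1702 : (List.range 128).all (fun k => chkVn Vtab XYgens V0 (128 * 1702 + k)) = true := by decide +kernel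
theorem kV_1703 : (List.range 128).all (fun k => chkVn Vtab XYgens V0 (128 * 1703 + k)) = true := by decide +kernel
theorem kV_1704 : (List.range 128).all (fun k => chkVn Vtab XYgens V0 (128 * 1704 + k)) = true := by decide +kernel
theorem kV_1705 : (List.range 128).all (fun k => chkVn Vtab XYgens V0 (128 * 1705 + k)) = true := by decide +kernel
theorem kV_1706 : (List.range 128).all (fun k => chkVn Vtab XYgens V0 (128 * 1706 + k)) = true := by decide +kernel
theorem kV_1707 : (List.range 128).all (fun k => chkVn Vtab XYgens V0 (128 * 1707 + k)) = true := by decide +kernel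
theorem kV_1708 : (List.range 128).all (fun k => chkVn Vtab XYgens V0 (128 * 1708 + k)) = true := by decide +kernel
theorem kV_1709 : (List.range 128).all (fun k => chkVn Vtab XYgens V0 (128 * 1709 + k)) = true := by decide +kernel
theorem kV_1710 : (List.range 128).all (fun k => chkVn Vtab XYgens V0 (128 * 1710 + k)) = true := by decide +kernel
theorem kV_1711 : (List.range 128).all (fun k => chkVn Vtab XYgens V0 (128 * 1711 + k)) = true := by decide +kernel
theorem kV_1712 : (List.range 128).all (fun k => chkVn Vtab XYgens V0 (128 * 1712 + k)) = true := by decide +kernel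
theorem kV_1713 : (List.range 128).all (fun k => chkVn Vtab XYgens V0 (128 * 1713 + k)) = true := by decide +kernel
theorem kV_1714 : (List.range 128).all (fun k => chkVn Vtab XYgens V0 (128 * 1714 + k)) = true := by decide +kernel
theorem kV_1715 : (List.range 128).all (fun k => chkVn Vtab XYgens V0 (128 * 1715 + k)) = true := by decide +kernel
theorem kV_1716 : (List.range 128).all (fun k => chkVn Vtab XYgens V0 (128 * 1716 + k)) = true := by decide +kernel
theorem kV_1717 : (List.range 128).all (fun k => chkVn Vtab XYgens V0 (128 * 1717 + k)) = true := by decide +kernel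
theorem kV_1718 : (List.range 128).all (fun k => chkVn Vtab XYgens V0 (128 * 1718 + k)) = true := by decide +kernel
theorem kV_1719 : (List.range 128).all (fun k => chkVn Vtab XYgens V0 (128 * 1719 + k)) = true := by decide +kernel
theorem kV_1720 : (List.range 128).all (fun k => chkVn Vtab XYgens V0 (128 * 1720 + k)) = true := by decide +kernel
theorem kV_1721 : (List.range 128).all (fun k => chkVn Vtab XYgens V0 (128 * 1721 + k)) = true := by decide +kernel
theorem kV_1722 : (List.range 128).all (fun k => chkVn Vtab XYgens V0 (128 * 1722 + k)) = true := by decide +kernel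
theorem kV_1723 : (List.range 128).all (fun k => chkVn Vtab XYgens V0 (128 * 1723 + k)) = true := by decide +kernel
theorem kV_1724 : (List.range 128).all (fun k => chkVn Vtab XYgens V0 (128 * 1724 + k)) = true := by decide +kernel
theorem kV_1725 : (List.range 128).all (fun k => chkVn Vtab XYgens V0 (128 * 1725 + k)) = true := by decide +kernel
theorem kV_1726 : (List.range 128).all (fun k => chkVn Vtab XYgens V0 (128 * 1726 + k)) = true := by decide +kernel
theorem kV_1727 : (List.range 128).all (fun k => chkVn Vtab XYgens V0 (128 * 1727 + k)) = true := by decide +kernel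
theorem kV_1728 : (List.range 128).all (fun k => chkVn Vtab XYgens V0 (128 * 1728 + k)) = true := by decide +kernel
theorem kV_1729 : (List.range 128).all (fun k => chkVn Vtab XYgens V0 (128 * 1729 + k)) = true := by decide +kernel
theorem kV_1730 : (List.range 128).all (fun k => chkVn Vtab XYgens V0 (128 * 1730 + k)) = true := by decide +kernel
theorem kV_1731 : (List.range 128).all (fun k => chkVn Vtab XYgens V0 (128 * 1731 + k)) = true := by decide +kernel
theorem kV_1732 : (List.range 128).all (fun k => chkVn Vtab XYgens V0 (128 * 1732 + k)) = true := by decide +kernel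
theorem kV_1733 : (List.range 128).all (fun k => chkVn Vtab XYgens V0 (128 * 1733 + k)) = true := by decide +kernel
theorem kV_1734 : (List.range 128).all (fun k => chkVn Vtab XYgens V0 (128 * 1734 + k)) = true := by decide +kernel
theorem kV_1735 : (List.range 128).all (fun k => chkVn Vtab XYgens V0 (128 * 1735 + k)) = true := by decide +kernel
theorem kV_1736 : (List.range 128).all (fun k => chkVn Vtab XYgens V0 (128 * 1736 + k)) = true := by decide +kernel
theorem kV_1737 : (List.range 128).all (fun k => chkVn Vtab XYgens V0 (128 * 1737 + k)) = true := by decide +kernel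
theorem kV_1738 : (List.range 128).all (fun k => chkVn Vtab XYgens V0 (128 * 1738 + k)) = true := by decide +kernel
theorem kV_1739 : (List.range 128).all (fun k => chkVn Vtab XYgens V0 (128 * 1739 + k)) = true := by decide +kernel
theorem kV_1740 : (List.range 128).all (fun k => chkVn Vtab XYgens V0 (128 * 1740 + k)) = true := by decide +kernel
theorem kV_1741 : (List.range 128).all (fun k => chkVn Vtab XYgens V0 (128 * 1741 + k)) = true := by decide +kernel
theorem kV_1742 : (List.range 128).all (fun k => chkVn Vtab XYgens V0 (128 * 1742 + k)) = true := by decide +kernel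
theorem kV_1743 : (List.range 128).all (fun k => chkVn Vtab XYgens V0 (128 * 1743 + k)) = true := by decide +kernel
theorem kV_1744 : (List.range 128).all (fun k => chkVn Vtab XYgens V0 (128 * 1744 + k)) = true := by decide +kernel
theorem kV_1745 : (List.range 128).all (fun k => chkVn Vtab XYgens V0 (128 * 1745 + k)) = true := by decide +kernel
theorem kV_1746 : (List.range 128).all (fun k => chkVn Vtab XYgens V0 (128 * 1746 + k)) = true := by decide +kernel
theorem kV_1747 : (List.range 128).all (fun k => chkVn Vtab XYgens V0 (128 * 1747 + k)) = true := by decide +kernel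
theorem kV_1748 : (List.range 128).all (fun k => chkVn Vtab XYgens V0 (128 * 1748 + k)) = true := by decide +kernel
theorem kV_1749 : (List.range 128).all (fun k => chkVn Vtab XYgens V0 (128 * 1749 + k)) = true := by decide +kernel
theorem kV_1750 : (List.range 128).all (fun k => chkVn Vtab XYgens V0 (128 * 1750 + k)) = true := by decide +kernel
theorem kV_1751 : (List.range 128).all (fun k => chkVn Vtab XYgens V0 (128 * 1751 + k)) = true := by decide +kernel
theorem kV_1752 : (List.range 128).all (fun k => chkVn Vtab XYgens V0 (128 * 1752 + k)) = true := by decide +kernel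
theorem kV_1753 : (List.range 128).all (fun k => chkVn Vtab XYgens V0 (128 * 1753 + k)) = true := by decide +kernel
theorem kV_1754 : (List.range 128).all (fun k => chkVn Vtab XYgens V0 (128 * 1754 + k)) = true := by decide +kernel
theorem kV_1755 : (List.range 128).all (fun k => chkVn Vtab XYgens V0 (128 * 1755 + k)) = true := by decide +kernel
theorem kV_1756 : (List.range 128).all (fun k => chkVn Vtab XYgens V0 (128 * 1756 + k)) = true := by decide +kernel
theorem kV_1757 : (List.range 128).all (fun k => chkVn Vtab XYgens V0 (128 * 1757 + k)) = true := by decide +kernel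
theorem kV_1758 : (List.range 128).all (fun k => chkVn Vtab XYgens V0 (128 * 1758 + k)) = true := by decide +kernel
theorem kV_1759 : (List.range 128).all (fun k => chkVn Vtab XYgens V0 (128 * 1759 + k)) = true := by decide +kernel
theorem kV_1760 : (List.range 128).all (fun k => chkVn Vtab XYgens V0 (128 * 1760 + k)) = true := by decide +kernel
theorem kV_1761 : (List.range 128).all (fun k => chkVn Vtab XYgens V0 (128 * 1761 + k)) = true := by decide +kernel
theorem kV_1762 : (List.range 128).all (fun k => chkVn Vtab XYgens V0 (128 * 1762 + k)) = true := by decide +kernel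
theorem kV_1763 : (List.range 128).all (fun k => chkVn Vtab XYgens V0 (128 * 1763 + k)) = true := by decide +kernel
theorem kV_1764 : (List.range 128).all (fun k => chkVn Vtab XYgens V0 (128 * 1764 + k)) = true := by decide +kernel
theorem kV_1765 : (List.range 128).all (fun k => chkVn Vtab XYgens V0 (128 * 1765 + k)) = true := by decide +kernel
theorem kV_1766 : (List.range 128).all (fun k => chkVn Vtab XYgens V0 (128 * 1766 + k)) = true := by decide +kernel
theorem kV_1767 : (List.range 128).all (fun k => chkVn Vtab XYgens V0 (128 * 1767 + k)) = true := by decide +kernel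
theorem kV_1768 : (List.range 128).all (fun k => chkVn Vtab XYgens V0 (128 * 1768 + k)) = true := by decide +kernel
theorem kV_1769 : (List.range 128).all (fun k => chkVn Vtab XYgens V0 (128 * 1769 + k)) = true := by decide +kernel
theorem kV_1770 : (List.range 128).all (fun k => chkVn Vtab XYgens V0 (128 * 1770 + k)) = true := by decide +kernel
theorem kV_1771 : (List.range 128).all (fun k => chkVn Vtab XYgens V0 (128 * 1771 + k)) = true := by decide +kernel
theorem kV_1772 : (List.range 128).all (fun k => chkVn Vtab XYgens V0 (128 * 1772 + k)) = true := by decide +kernel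
theorem kV_1773 : (List.range 128).all (fun k => chkVn Vtab XYgens V0 (128 * 1773 + k)) = true := by decide +kernel
theorem kV_1774 : (List.range 128).all (fun k => chkVn Vtab XYgens V0 (128 * 1774 + k)) = true := by decide +kernel
theorem kV_1775 : (List.range 128).all (fun k => chkVn Vtab XYgens V0 (128 * 1775 + k)) = true := by decide +kernel
theorem kV_1776 : (List.range 128).all (fun k => chkVn Vtab XYgens V0 (128 * 1776 + k)) = true := by decide +kernel
theorem kV_1777 : (List.range 128).all (fun k => chkVn Vtab XYgens V0 (128 * 1777 + k)) = true := by decide +kernel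
theorem kV_1778 : (List.range 128).all (fun k => chkVn Vtab XYgens V0 (128 * 1778 + k)) = true := by decide +kernel
theorem kV_1779 : (List.range 128).all (fun k => chkVn Vtab XYgens V0 (128 * 1779 + k)) = true := by decide +kernel
theorem kV_1780 : (List.range 128).all (fun k => chkVn Vtab XYgens V0 (128 * 1780 + k)) = true := by decide +kernel
theorem kV_1781 : (List.range 128).all (fun k => chkVn Vtab XYgens V0 (128 * 1781 + k)) = true := by decide +kernel
theorem kV_1782 : (List.range 128).all (fun k => chkVn Vtab XYgens V0 (128 * 1782 + k)) = true := by decide +kernel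
theorem kV_1783 : (List.range 128).all (fun k => chkVn Vtab XYgens V0 (128 * 1783 + k)) = true := by decide +kernel
theorem kV_1784 : (List.range 128).all (fun k => chkVn Vtab XYgens V0 (128 * 1784 + k)) = true := by decide +kernel
theorem kV_1785 : (List.range 128).all (fun k => chkVn Vtab XYgens V0 (128 * 1785 + k)) = true := by decide +kernel
theorem kV_1786 : (List.range 128).all (fun k => chkVn Vtab XYgens V0 (128 * 1786 + k)) = true := by decide +kernel
theorem kV_1787 : (List.range 128).all (fun k => chkVn Vtab XYgens V0 (128 * 1787 + k)) = true := by decide +kernel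
theorem kV_1788 : (List.range 128).all (fun k => chkVn Vtab XYgens V0 (128 * 1788 + k)) = true := by decide +kernel
theorem kV_1789 : (List.range 128).all (fun k => chkVn Vtab XYgens V0 (128 * 1789 + k)) = true := by decide +kernel
theorem kV_1790 : (List.range 128).all (fun k => chkVn Vtab XYgens V0 (128 * 1790 + k)) = true := by decide +kernel
theorem kV_1791 : (List.range 128).all (fun k => chkVn Vtab XYgens V0 (128 * 1791 + k)) = true := by decide +kernel

theorem chkV_13 : ∀ n, 212992 ≤ n → n < 229376 → chkVn Vtab XYgens V0 n = true := by
  intro n h1 h2
  obtain ⟨J, hJ⟩ : ∃ J, J = n / 128 := ⟨_, rfl⟩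
  have hJ1 : 1664 ≤ J := by omega
  have hJ2 : J < 1792 := by omega
  interval_cases J
  · exact chunk_apply kV_1664 (by omega) (by omega)
  · exact chunk_apply kV_1665 (by omega) (by omega)
  · exact chunk_apply kV_1666 (by omega) (by omega)
  · exact chunk_apply kV_1667 (by omega) (by omega)
  · exact chunk_apply kV_1668 (by omega) (by omega)
  · exact chunk_apply kV_1669 (by omega) (by omega)
  · exact chunk_apply kV_1670 (by omega) (by omega)
  · exact chunk_apply kV_1671 (by omega) (by omega)
  · exact chunk_apply kV_1672 (by omega) (by omega)
  · exact chunk_apply kV_1673 (by omega) (by omega)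
  · exact chunk_apply kV_1674 (by omega) (by omega)
  · exact chunk_apply kV_1675 (by omega) (by omega)
  · exact chunk_apply kV_1676 (by omega) (by omega)
  · exact chunk_apply kV_1677 (by omega) (by omega)
  · exact chunk_apply kV_1678 (by omega) (by omega)
  · exact chunk_apply kV_1679 (by omega) (by omega)
  · exact chunk_apply kV_1680 (by omega) (by omega)
  · exact chunk_apply kV_1681 (by omega) (by omega)
  · exact chunk_apply kV_1682 (by omega) (by omega)
  · exact chunk_apply kV_1683 (by omega) (by omega)
  · exact chunk_apply kV_1684 (by omega) (by omega)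
  · exact chunk_apply kV_1685 (by omega) (by omega)
  · exact chunk_apply kV_1686 (by omega) (by omega)
  · exact chunk_apply kV_1687 (by omega) (by omega)
  · exact chunk_apply kV_1688 (by omega) (by omega)
  · exact chunk_apply kV_1689 (by omega) (by omega)
  · exact chunk_apply kV_1690 (by omega) (by omega)
  · exact chunk_apply kV_1691 (by omega) (by omega)
  · exact chunk_apply kV_1692 (by omega) (by omega)
  · exact chunk_apply kV_1693 (by omega) (by omega)
  · exact chunk_apply kV_1694 (by omega) (by omega)
  · exact chunk_apply kV_1695 (by omega) (by omega)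
  · exact chunk_apply kV_1696 (by omega) (by omega)
  · exact chunk_apply kV_1697 (by omega) (by omega)
  · exact chunk_apply kV_1698 (by omega) (by omega)
  · exact chunk_apply kV_1699 (by omega) (by omega)
  · exact chunk_apply kV_1700 (by omega) (by omega)
  · exact chunk_apply kV_1701 (by omega) (by omega)
  · exact chunk_apply kV_1702 (by omega) (by omega)
  · exact chunk_apply kV_1703 (by omega) (by omega)
  · exact chunk_apply kV_1704 (by omega) (by omega)
  · exact chunk_apply kV_1705 (by omega) (by omega)
  · exact chunk_apply kV_1706 (by omega) (by omega)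
  · exact chunk_apply kV_1707 (by omega) (by omega)
  · exact chunk_apply kV_1708 (by omega) (by omega)
  · exact chunk_apply kV_1709 (by omega) (by omega)
  · exact chunk_apply kV_1710 (by omega) (by omega)
  · exact chunk_apply kV_1711 (by omega) (by omega)
  · exact chunk_apply kV_1712 (by omega) (by omega)
  · exact chunk_apply kV_1713 (by omega) (by omega)
  · exact chunk_apply kV_1714 (by omega) (by omega)
  · exact chunk_apply kV_1715 (by omega) (by omega)
  · exact chunk_apply kV_1716 (by omega) (by omega)
  · exact chunk_apply kV_1717 (by omega) (by omega)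
  · exact chunk_apply kV_1718 (by omega) (by omega)
  · exact chunk_apply kV_1719 (by omega) (by omega)
  · exact chunk_apply kV_1720 (by omega) (by omega)
  · exact chunk_apply kV_1721 (by omega) (by omega)
  · exact chunk_apply kV_1722 (by omega) (by omega)
  · exact chunk_apply kV_1723 (by omega) (by omega)
  · exact chunk_apply kV_1724 (by omega) (by omega)
  · exact chunk_apply kV_1725 (by omega) (by omega)
  · exact chunk_apply kV_1726 (by omega) (by omega)
  · exact chunk_apply kV_1727 (by omega) (by omega)
  · exact chunk_apply kV_1728 (by omega) (by omega)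
  · exact chunk_apply kV_1729 (by omega) (by omega)
  · exact chunk_apply kV_1730 (by omega) (by omega)
  · exact chunk_apply kV_1731 (by omega) (by omega)
  · exact chunk_apply kV_1732 (by omega) (by omega)
  · exact chunk_apply kV_1733 (by omega) (by omega)
  · exact chunk_apply kV_1734 (by omega) (by omega)
  · exact chunk_apply kV_1735 (by omega) (by omega)
  · exact chunk_apply kV_1736 (by omega) (by omega)
  · exact chunk_apply kV_1737 (by omega) (by omega)
  · exact chunk_apply kV_1738 (by omega) (by omega)
  · exact chunk_apply kV_1739 (by omega) (by omega)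
  · exact chunk_apply kV_1740 (by omega) (by omega)
  · exact chunk_apply kV_1741 (by omega) (by omega)
  · exact chunk_apply kV_1742 (by omega) (by omega)
  · exact chunk_apply kV_1743 (by omega) (by omega)
  · exact chunk_apply kV_1744 (by omega) (by omega)
  · exact chunk_apply kV_1745 (by omega) (by omega)
  · exact chunk_apply kV_1746 (by omega) (by omega)
  · exact chunk_apply kV_1747 (by omega) (by omega)
  · exact chunk_apply kV_1748 (by omega) (by omega)
  · exact chunk_apply kV_1749 (by omega) (by omega)
  · exact chunk_apply kV_1750 (by omega) (by omega)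
  · exact chunk_apply kV_1751 (by omega) (by omega)
  · exact chunk_apply kV_1752 (by omega) (by omega)
  · exact chunk_apply kV_1753 (by omega) (by omega)
  · exact chunk_apply kV_1754 (by omega) (by omega)
  · exact chunk_apply kV_1755 (by omega) (by omega)
  · exact chunk_apply kV_1756 (by omega) (by omega)
  · exact chunk_apply kV_1757 (by omega) (by omega)
  · exact chunk_apply kV_1758 (by omega) (by omega)
  · exact chunk_apply kV_1759 (by omega) (by omega)
  · exact chunk_apply kV_1760 (by omega) (by omega)
  · exact chunk_apply kV_1761 (by omega) (by omega)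
  · exact chunk_apply kV_1762 (by omega) (by omega)
  · exact chunk_apply kV_1763 (by omega) (by omega)
  · exact chunk_apply kV_1764 (by omega) (by omega)
  · exact chunk_apply kV_1765 (by omega) (by omega)
  · exact chunk_apply kV_1766 (by omega) (by omega)
  · exact chunk_apply kV_1767 (by omega) (by omega)
  · exact chunk_apply kV_1768 (by omega) (by omega)
  · exact chunk_apply kV_1769 (by omega) (by omega)
  · exact chunk_apply kV_1770 (by omega) (by omega)
  · exact chunk_apply kV_1771 (by omega) (by omega)
  · exact chunk_apply kV_1772 (by omega) (by omega)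
  · exact chunk_apply kV_1773 (by omega) (by omega)
  · exact chunk_apply kV_1774 (by omega) (by omega)
  · exact chunk_apply kV_1775 (by omega) (by omega)
  · exact chunk_apply kV_1776 (by omega) (by omega)
  · exact chunk_apply kV_1777 (by omega) (by omega)
  · exact chunk_apply kV_1778 (by omega) (by omega)
  · exact chunk_apply kV_1779 (by omega) (by omega)
  · exact chunk_apply kV_1780 (by omega) (by omega)
  · exact chunk_apply kV_1781 (by omega) (by omega)
  · exact chunk_apply kV_1782 (by omega) (by omega)
  · exact chunk_apply kV_1783 (by omega) (by omega)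
  · exact chunk_apply kV_1784 (by omega) (by omega)
  · exact chunk_apply kV_1785 (by omega) (by omega)
  · exact chunk_apply kV_1786 (by omega) (by omega)
  · exact chunk_apply kV_1787 (by omega) (by omega)
  · exact chunk_apply kV_1788 (by omega) (by omega)
  · exact chunk_apply kV_1789 (by omega) (by omega)
  · exact chunk_apply kV_1790 (by omega) (by omega)
  · exact chunk_apply kV_1791 (by omega) (by omega)

end Cfsg.Agent.Helper14.J3
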