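import Mathlib
import Cfsg.Agent.Helper14.J3Y

set_option autoImplicit false

namespace Cfsg.Agent.Helper14.J3

theorem kV_1792 : (List.range 128).all (fun k => chkVn Vtab XYgens V0 (128 * 1792 + k)) = true := by decide +kernel
theorem kV_1793 : (List.range 128).all (fun k => chkVn Vtab XYgens V0 (128 * 1793 + k)) = true := by decide +kernel
theorem kV_1794 : (List.range 128).all (fun k => chkVn Vtab XYgens V0 (128 * 1794 + k)) = true := by decide +kernel
theorem kV_1795 : (List.range 128).all (fun k => chkVn Vtab XYgens V0 (128 * 1795 + k)) = true := by decide +kernel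
theorem kV_1796 : (List.range 128).all (fun k => chkVn Vtab XYgens V0 (128 * 1796 + k)) = true := by decide +kernel
theorem kV_1797 : (List.range 128).all (fun k => chkVn Vtab XYgens V0 (128 * 1797 + k)) = true := by decide +kernel
theorem kV_1798 : (List.range 128).all (fun k => chkVn Vtab XYgens V0 (128 * 1798 + k)) = true := by decide +kernel
theorem kV_1799 : (List.range 128).all (fun k => chkVn Vtab XYgens V0 (128 * 1799 + k)) = true := by decide +kernel
theorem kV_1800 : (List.range 128).all (fun k => chkVn Vtab XYgens V0 (128 * 1800 + k)) = true := by decide +kernel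
theorem kV_1801 : (List.range 128).all (fun k => chkVn Vtab XYgens V0 (128 * 1801 + k)) = true := by decide +kernel
theorem kV_1802 : (List.range 128).all (fun k => chkVn Vtab XYgens V0 (128 * 1802 + k)) = true := by decide +kernel
theorem kV_1803 : (List.range 128).all (fun k => chkVn Vtab XYgens V0 (128 * 1803 + k)) = true := by decide +kernel
theorem kV_1804 : (List.range 128).all (fun k => chkVn Vtab XYgens V0 (128 * 1804 + k)) = true := by decide +kernel
theorem kV_1805 : (List.range 128).all (fun k => chkVn Vtab XYgens V0 (128 * 1805 + k)) = true := by decide +kernel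
theorem kV_1806 : (List.range 128).all (fun k => chkVn Vtab XYgens V0 (128 * 1806 + k)) = true := by decide +kernel
theorem kV_1807 : (List.range 128).all (fun k => chkVn Vtab XYgens V0 (128 * 1807 + k)) = true := by decide +kernel
theorem kV_1808 : (List.range 128).all (fun k => chkVn Vtab XYgens V0 (128 * 1808 + k)) = true := by decide +kernel
theorem kV_1809 : (List.range 128).all (fun k => chkVn Vtab XYgens V0 (128 * 1809 + k)) = true := by decide +kernel
theorem kV_1810 : (List.range 128).all (fun k => chkVn Vtab XYgens V0 (128 * 1810 + k)) = true := by decide +kernel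
theorem kV_1811 : (List.range 128).all (fun k => chkVn Vtab XYgens V0 (128 * 1811 + k)) = true := by decide +kernel
theorem kV_1812 : (List.range 128).all (fun k => chkVn Vtab XYgens V0 (128 * 1812 + k)) = true := by decide +kernel
theorem kV_1813 : (List.range 128).all (fun k => chkVn Vtab XYgens V0 (128 * 1813 + k)) = true := by decide +kernel
theorem kV_1814 : (List.range 128).all (fun k => chkVn Vtab XYgens V0 (128 * 1814 + k)) = true := by decide +kernel
theorem kV_1815 : (List.range 128).all (fun k => chkVn Vtab XYgens V0 (128 * 1815 + k)) = true := by decide +kernel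
theorem kV_1816 : (List.range 128).all (fun k => chkVn Vtab XYgens V0 (128 * 1816 + k)) = true := by decide +kernel
theorem kV_1817 : (List.range 128).all (fun k => chkVn Vtab XYgens V0 (128 * 1817 + k)) = true := by decide +kernel
theorem kV_1818 : (List.range 128).all (fun k => chkVn Vtab XYgens V0 (128 * 1818 + k)) = true := by decide +kernel
theorem kV_1819 : (List.range 128).all (fun k => chkVn Vtab XYgens V0 (128 * 1819 + k)) = true := by decide +kernel
theorem kV_1820 : (List.range 128).all (fun k => chkVn Vtab XYgens V0 (128 * 1820 + k)) = true := by decide +kernel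
theorem kV_1821 : (List.range 128).all (fun k => chkVn Vtab XYgens V0 (128 * 1821 + k)) = true := by decide +kernel
theorem kV_1822 : (List.range 128).all (fun k => chkVn Vtab XYgens V0 (128 * 1822 + k)) = true := by decide +kernel
theorem kV_1823 : (List.range 128).all (fun k => chkVn Vtab XYgens V0 (128 * 1823 + k)) = true := by decide +kernel
theorem kV_1824 : (List.range 128).all (fun k => chkVn Vtab XYgens V0 (128 * 1824 + k)) = true := by decide +kernel
theorem kV_1825 : (List.range 128).all (fun k => chkVn Vtab XYgens V0 (128 * 1825 + k)) = true := by decide +kernel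
theorem kV_1826 : (List.range 128).all (fun k => chkVn Vtab XYgens V0 (128 * 1826 + k)) = true := by decide +kernel
theorem kV_1827 : (List.range 128).all (fun k => chkVn Vtab XYgens V0 (128 * 1827 + k)) = true := by decide +kernel
theorem kV_1828 : (List.range 128).all (fun k => chkVn Vtab XYgens V0 (128 * 1828 + k)) = true := by decide +kernel
theorem kV_1829 : (List.range 128).all (fun k => chkVn Vtab XYgens V0 (128 * 1829 + k)) = true := by decide +kernel
theorem kV_1830 : (List.range 128).all (fun k => chkVn Vtab XYgens V0 (128 * 1830 + k)) = true := by decide +kernel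
theorem kV_1831 : (List.range 128).all (fun k => chkVn Vtab XYgens V0 (128 * 1831 + k)) = true := by decide +kernel
theorem kV_1832 : (List.range 128).all (fun k => chkVn Vtab XYgens V0 (128 * 1832 + k)) = true := by decide +kernel
theorem kV_1833 : (List.range 128).all (fun k => chkVn Vtab XYgens V0 (128 * 1833 + k)) = true := by decide +kernel
theorem kV_1834 : (List.range 128).all (fun k => chkVn Vtab XYgens V0 (128 * 1834 + k)) = true := by decide +kernel
theorem kV_1835 : (List.range 128).all (fun k => chkVn Vtab XYgens V0 (128 * 1835 + k)) = true := by decide +kernel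
theorem kV_1836 : (List.range 128).all (fun k => chkVn Vtab XYgens V0 (128 * 1836 + k)) = true := by decide +kernel
theorem kV_1837 : (List.range 128).all (fun k => chkVn Vtab XYgens V0 (128 * 1837 + k)) = true := by decide +kernel
theorem kV_1838 : (List.range 128).all (fun k => chkVn Vtab XYgens V0 (128 * 1838 + k)) = true := by decide +kernel
theorem kV_1839 : (List.range 128).all (fun k => chkVn Vtab XYgens V0 (128 * 1839 + k)) = true := by decide +kernel
theorem kV_1840 : (List.range 128).all (fun k => chkVn Vtab XYgens V0 (128 * 1840 + k)) = true := by decide +kernel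
theorem kV_1841 : (List.range 128).all (fun k => chkVn Vtab XYgens V0 (128 * 1841 + k)) = true := by decide +kernel
theorem kV_1842 : (List.range 128).all (fun k => chkVn Vtab XYgens V0 (128 * 1842 + k)) = true := by decide +kernel
theorem kV_1843 : (List.range 128).all (fun k => chkVn Vtab XYgens V0 (128 * 1843 + k)) = true := by decide +kernel
theorem kV_1844 : (List.range 128).all (fun k => chkVn Vtab XYgens V0 (128 * 1844 + k)) = true := by decide +kernel
theorem kV_1845 : (List.range 128).all (fun k => chkVn Vtab XYgens V0 (128 * 1845 + k)) = true := by decide +kernel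
theorem kV_1846 : (List.range 128).all (fun k => chkVn Vtab XYgens V0 (128 * 1846 + k)) = true := by decide +kernel
theorem kV_1847 : (List.range 128).all (fun k => chkVn Vtab XYgens V0 (128 * 1847 + k)) = true := by decide +kernel
theorem kV_1848 : (List.range 128).all (fun k => chkVn Vtab XYgens V0 (128 * 1848 + k)) = true := by decide +kernel
theorem kV_1849 : (List.range 128).all (fun k => chkVn Vtab XYgens V0 (128 * 1849 + k)) = true := by decide +kernel
theorem kV_1850 : (List.range 128).all (fun k => chkVn Vtab XYgens V0 (128 * 1850 + k)) = true := by decide +kernel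
theorem kV_1851 : (List.range 128).all (fun k => chkVn Vtab XYgens V0 (128 * 1851 + k)) = true := by decide +kernel
theorem kV_1852 : (List.range 128).all (fun k => chkVn Vtab XYgens V0 (128 * 1852 + k)) = true := by decide +kernel
theorem kV_1853 : (List.range 128).all (fun k => chkVn Vtab XYgens V0 (128 * 1853 + k)) = true := by decide +kernel
theorem kV_1854 : (List.range 128).all (fun k => chkVn Vtab XYgens V0 (128 * 1854 + k)) = true := by decide +kernel
theorem kV_1855 : (List.range 128).all (fun k => chkVn Vtab XYgens V0 (128 * 1855 + k)) = true := by decide +kernel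
theorem kV_1856 : (List.range 128).all (fun k => chkVn Vtab XYgens V0 (128 * 1856 + k)) = true := by decide +kernel
theorem kV_1857 : (List.range 128).all (fun k => chkVn Vtab XYgens V0 (128 * 1857 + k)) = true := by decide +kernel
theorem kV_1858 : (List.range 128).all (fun k => chkVn Vtab XYgens V0 (128 * 1858 + k)) = true := by decide +kernel
theorem kV_1859 : (List.range 128).all (fun k => chkVn Vtab XYgens V0 (128 * 1859 + k)) = true := by decide +kernel
theorem kV_1860 : (List.range 128).all (fun k => chkVn Vtab XYgens V0 (128 * 1860 + k)) = true := by decide +kernel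
theorem kV_1861 : (List.range 128).all (fun k => chkVn Vtab XYgens V0 (128 * 1861 + k)) = true := by decide +kernel
theorem kV_1862 : (List.range 128).all (fun k => chkVn Vtab XYgens V0 (128 * 1862 + k)) = true := by decide +kernel
theorem kV_1863 : (List.range 128).all (fun k => chkVn Vtab XYgens V0 (128 * 1863 + k)) = true := by decide +kernel
theorem kV_1864 : (List.range 128).all (fun k => chkVn Vtab XYgens V0 (128 * 1864 + k)) = true := by decide +kernel
theorem kV_1865 : (List.range 128).all (fun k => chkVn Vtab XYgens V0 (128 * 1865 + k)) = true := by decide +kernel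
theorem kV_1866 : (List.range 128).all (fun k => chkVn Vtab XYgens V0 (128 * 1866 + k)) = true := by decide +kernel
theorem kV_1867 : (List.range 128).all (fun k => chkVn Vtab XYgens V0 (128 * 1867 + k)) = true := by decide +kernel
theorem kV_1868 : (List.range 128).all (fun k => chkVn Vtab XYgens V0 (128 * 1868 + k)) = true := by decide +kernel
theorem kV_1869 : (List.range 128).all (fun k => chkVn Vtab XYgens V0 (128 * 1869 + k)) = true := by decide +kernel
theorem kV_1870 : (List.range 128).all (fun k => chkVn Vtab XYgens V0 (128 * 1870 + k)) = true := by decide +kernel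
theorem kV_1871 : (List.range 128).all (fun k => chkVn Vtab XYgens V0 (128 * 1871 + k)) = true := by decide +kernel
theorem kV_1872 : (List.range 128).all (fun k => chkVn Vtab XYgens V0 (128 * 1872 + k)) = true := by decide +kernel
theorem kV_1873 : (List.range 128).all (fun k => chkVn Vtab XYgens V0 (128 * 1873 + k)) = true := by decide +kernel
theorem kV_1874 : (List.range 128).all (fun k => chkVn Vtab XYgens V0 (128 * 1874 + k)) = true := by decide +kernel
theorem kV_1875 : (List.range 128).all (fun k => chkVn Vtab XYgens V0 (128 * 1875 + k)) = true := by decide +kernel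
theorem kV_1876 : (List.range 128).all (fun k => chkVn Vtab XYgens V0 (128 * 1876 + k)) = true := by decide +kernel
theorem kV_1877 : (List.range 128).all (fun k => chkVn Vtab XYgens V0 (128 * 1877 + k)) = true := by decide +kernel
theorem kV_1878 : (List.range 128).all (fun k => chkVn Vtab XYgens V0 (128 * 1878 + k)) = true := by decide +kernel
theorem kV_1879 : (List.range 128).all (fun k => chkVn Vtab XYgens V0 (128 * 1879 + k)) = true := by decide +kernel
theorem kV_1880 : (List.range 128).all (fun k => chkVn Vtab XYgens V0 (128 * 1880 + k)) = true := by decide +kernel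
theorem kV_1881 : (List.range 128).all (fun k => chkVn Vtab XYgens V0 (128 * 1881 + k)) = true := by decide +kernel
theorem kV_1882 : (List.range 128).all (fun k => chkVn Vtab XYgens V0 (128 * 1882 + k)) = true := by decide +kernel
theorem kV_1883 : (List.range 128).all (fun k => chkVn Vtab XYgens V0 (128 * 1883 + k)) = true := by decide +kernel
theorem kV_1884 : (List.range 128).all (fun k => chkVn Vtab XYgens V0 (128 * 1884 + k)) = true := by decide +kernel
theorem kV_1885 : (List.range 128).all (fun k => chkVn Vtab XYgens V0 (128 * 1885 + k)) = true := by decide +kernel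
theorem kV_1886 : (List.range 128).all (fun k => chkVn Vtab XYgens V0 (128 * 1886 + k)) = true := by decide +kernel
theorem kV_1887 : (List.range 128).all (fun k => chkVn Vtab XYgens V0 (128 * 1887 + k)) = true := by decide +kernel
theorem kV_1888 : (List.range 128).all (fun k => chkVn Vtab XYgens V0 (128 * 1888 + k)) = true := by decide +kernel
theorem kV_1889 : (List.range 128).all (fun k => chkVn Vtab XYgens V0 (128 * 1889 + k)) = true := by decide +kernel
theorem kV_1890 : (List.range 128).all (fun k => chkVn Vtab XYgens V0 (128 * 1890 + k)) = true := by decide +kernel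
theorem kV_1891 : (List.range 128).all (fun k => chkVn Vtab XYgens V0 (128 * 1891 + k)) = true := by decide +kernel
theorem kV_1892 : (List.range 128).all (fun k => chkVn Vtab XYgens V0 (128 * 1892 + k)) = true := by decide +kernel
theorem kV_1893 : (List.range 128).all (fun k => chkVn Vtab XYgens V0 (128 * 1893 + k)) = true := by decide +kernel
theorem kV_1894 : (List.range 128).all (fun k => chkVn Vtab XYgens V0 (128 * 1894 + k)) = true := by decide +kernel
theorem kV_1895 : (List.range 128).all (fun k => chkVn Vtab XYgens V0 (128 * 1895 + k)) = true := by decide +kernel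
theorem kV_1896 : (List.range 128).all (fun k => chkVn Vtab XYgens V0 (128 * 1896 + k)) = true := by decide +kernel
theorem kV_1897 : (List.range 128).all (fun k => chkVn Vtab XYgens V0 (128 * 1897 + k)) = true := by decide +kernel
theorem kV_1898 : (List.range 128).all (fun k => chkVn Vtab XYgens V0 (128 * 1898 + k)) = true := by decide +kernel
theorem kV_1899 : (List.range 128).all (fun k => chkVn Vtab XYgens V0 (128 * 1899 + k)) = true := by decide +kernel
theorem kV_1900 : (List.range 128).all (fun k => chkVn Vtab XYgens V0 (128 * 1900 + k)) = true := by decide +kernel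
theorem kV_1901 : (List.range 128).all (fun k => chkVn Vtab XYgens V0 (128 * 1901 + k)) = true := by decide +kernel
theorem kV_1902 : (List.range 128).all (fun k => chkVn Vtab XYgens V0 (128 * 1902 + k)) = true := by decide +kernel
theorem kV_1903 : (List.range 128).all (fun k => chkVn Vtab XYgens V0 (128 * 1903 + k)) = true := by decide +kernel
theorem kV_1904 : (List.range 128).all (fun k => chkVn Vtab XYgens V0 (128 * 1904 + k)) = true := by decide +kernel
theorem kV_1905 : (List.range 128).all (fun k => chkVn Vtab XYgens V0 (128 * 1905 + k)) = true := by decide +kernel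
theorem kV_1906 : (List.range 128).all (fun k => chkVn Vtab XYgens V0 (128 * 1906 + k)) = true := by decide +kernel
theorem kV_1907 : (List.range 128).all (fun k => chkVn Vtab XYgens V0 (128 * 1907 + k)) = true := by decide +kernel
theorem kV_1908 : (List.range 128).all (fun k => chkVn Vtab XYgens V0 (128 * 1908 + k)) = true := by decide +kernel
theorem kV_1909 : (List.range 128).all (fun k => chkVn Vtab XYgens V0 (128 * 1909 + k)) = true := by decide +kernel
theorem kV_1910 : (List.range 128).all (fun k => chkVn Vtab XYgens V0 (128 * 1910 + k)) = true := by decide +kernel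
theorem kV_1911 : (List.range 128).all (fun k => chkVn Vtab XYgens V0 (128 * 1911 + k)) = true := by decide +kernel
theorem kV_1912 : (List.range 128).all (fun k => chkVn Vtab XYgens V0 (128 * 1912 + k)) = true := by decide +kernel
theorem kV_1913 : (List.range 128).all (fun k => chkVn Vtab XYgens V0 (128 * 1913 + k)) = true := by decide +kernel
theorem kV_1914 : (List.range 128).all (fun k => chkVn Vtab XYgens V0 (128 * 1914 + k)) = true := by decide +kernel
theorem kV_1915 : (List.range 128).all (fun k => chkVn Vtab XYgens V0 (128 * 1915 + k)) = true := by decide +kernel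
theorem kV_1916 : (List.range 128).all (fun k => chkVn Vtab XYgens V0 (128 * 1916 + k)) = true := by decide +kernel
theorem kV_1917 : (List.range 128).all (fun k => chkVn Vtab XYgens V0 (128 * 1917 + k)) = true := by decide +kernel
theorem kV_1918 : (List.range 128).all (fun k => chkVn Vtab XYgens V0 (128 * 1918 + k)) = true := by decide +kernel
theorem kV_1919 : (List.range 128).all (fun k => chkVn Vtab XYgens V0 (128 * 1919 + k)) = true := by decide +kernel

theorem chkV_14 : ∀ n, 229376 ≤ n → n < 245760 → chkVn Vtab XYgens V0 n = true := by
  intro n h1 h2
  obtain ⟨J, hJ⟩ : ∃ J, J = n / 128 := ⟨_, rfl⟩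
  have hJ1 : 1792 ≤ J := by omega
  have hJ2 : J < 1920 := by omega
  interval_cases J
  · exact chunk_apply kV_1792 (by omega) (by omega)
  · exact chunk_apply kV_1793 (by omega) (by omega)
  · exact chunk_apply kV_1794 (by omega) (by omega)
  · exact chunk_apply kV_1795 (by omega) (by omega)
  · exact chunk_apply kV_1796 (by omega) (by omega)
  · exact chunk_apply kV_1797 (by omega) (by omega)
  · exact chunk_apply kV_1798 (by omega) (by omega)
  · exact chunk_apply kV_1799 (by omega) (by omega)
  · exact chunk_apply kV_1800 (by omega) (by omega)
  · exact chunk_apply kV_1801 (by omega) (by omega)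
  · exact chunk_apply kV_1802 (by omega) (by omega)
  · exact chunk_apply kV_1803 (by omega) (by omega)
  · exact chunk_apply kV_1804 (by omega) (by omega)
  · exact chunk_apply kV_1805 (by omega) (by omega)
  · exact chunk_apply kV_1806 (by omega) (by omega)
  · exact chunk_apply kV_1807 (by omega) (by omega)
  · exact chunk_apply kV_1808 (by omega) (by omega)
  · exact chunk_apply kV_1809 (by omega) (by omega)
  · exact chunk_apply kV_1810 (by omega) (by omega)
  · exact chunk_apply kV_1811 (by omega) (by omega)
  · exact chunk_apply kV_1812 (by omega) (by omega)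
  · exact chunk_apply kV_1813 (by omega) (by omega)
  · exact chunk_apply kV_1814 (by omega) (by omega)
  · exact chunk_apply kV_1815 (by omega) (by omega)
  · exact chunk_apply kV_1816 (by omega) (by omega)
  · exact chunk_apply kV_1817 (by omega) (by omega)
  · exact chunk_apply kV_1818 (by omega) (by omega)
  · exact chunk_apply kV_1819 (by omega) (by omega)
  · exact chunk_apply kV_1820 (by omega) (by omega)
  · exact chunk_apply kV_1821 (by omega) (by omega)
  · exact chunk_apply kV_1822 (by omega) (by omega)
  · exact chunk_apply kV_1823 (by omega) (by omega)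
  · exact chunk_apply kV_1824 (by omega) (by omega)
  · exact chunk_apply kV_1825 (by omega) (by omega)
  · exact chunk_apply kV_1826 (by omega) (by omega)
  · exact chunk_apply kV_1827 (by omega) (by omega)
  · exact chunk_apply kV_1828 (by omega) (by omega)
  · exact chunk_apply kV_1829 (by omega) (by omega)
  · exact chunk_apply kV_1830 (by omega) (by omega)
  · exact chunk_apply kV_1831 (by omega) (by omega)
  · exact chunk_apply kV_1832 (by omega) (by omega)
  · exact chunk_apply kV_1833 (by omega) (by omega)
  · exact chunk_apply kV_1834 (by omega) (by omega)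
  · exact chunk_apply kV_1835 (by omega) (by omega)
  · exact chunk_apply kV_1836 (by omega) (by omega)
  · exact chunk_apply kV_1837 (by omega) (by omega)
  · exact chunk_apply kV_1838 (by omega) (by omega)
  · exact chunk_apply kV_1839 (by omega) (by omega)
  · exact chunk_apply kV_1840 (by omega) (by omega)
  · exact chunk_apply kV_1841 (by omega) (by omega)
  · exact chunk_apply kV_1842 (by omega) (by omega)
  · exact chunk_apply kV_1843 (by omega) (by omega)
  · exact chunk_apply kV_1844 (by omega) (by omega)
  · exact chunk_apply kV_1845 (by omega) (by omega)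
  · exact chunk_apply kV_1846 (by omega) (by omega)
  · exact chunk_apply kV_1847 (by omega) (by omega)
  · exact chunk_apply kV_1848 (by omega) (by omega)
  · exact chunk_apply kV_1849 (by omega) (by omega)
  · exact chunk_apply kV_1850 (by omega) (by omega)
  · exact chunk_apply kV_1851 (by omega) (by omega)
  · exact chunk_apply kV_1852 (by omega) (by omega)
  · exact chunk_apply kV_1853 (by omega) (by omega)
  · exact chunk_apply kV_1854 (by omega) (by omega)
  · exact chunk_apply kV_1855 (by omega) (by omega)
  · exact chunk_apply kV_1856 (by omega) (by omega)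
  · exact chunk_apply kV_1857 (by omega) (by omega)
  · exact chunk_apply kV_1858 (by omega) (by omega)
  · exact chunk_apply kV_1859 (by omega) (by omega)
  · exact chunk_apply kV_1860 (by omega) (by omega)
  · exact chunk_apply kV_1861 (by omega) (by omega)
  · exact chunk_apply kV_1862 (by omega) (by omega)
  · exact chunk_apply kV_1863 (by omega) (by omega)
  · exact chunk_apply kV_1864 (by omega) (by omega)
  · exact chunk_apply kV_1865 (by omega) (by omega)
  · exact chunk_apply kV_1866 (by omega) (by omega)
  · exact chunk_apply kV_1867 (by omega) (by omega)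
  · exact chunk_apply kV_1868 (by omega) (by omega)
  · exact chunk_apply kV_1869 (by omega) (by omega)
  · exact chunk_apply kV_1870 (by omega) (by omega)
  · exact chunk_apply kV_1871 (by omega) (by omega)
  · exact chunk_apply kV_1872 (by omega) (by omega)
  · exact chunk_apply kV_1873 (by omega) (by omega)
  · exact chunk_apply kV_1874 (by omega) (by omega)
  · exact chunk_apply kV_1875 (by omega) (by omega)
  · exact chunk_apply kV_1876 (by omega) (by omega)
  · exact chunk_apply kV_1877 (by omega) (by omega)
  · exact chunk_apply kV_1878 (by omega) (by omega)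
  · exact chunk_apply kV_1879 (by omega) (by omega)
  · exact chunk_apply kV_1880 (by omega) (by omega)
  · exact chunk_apply kV_1881 (by omega) (by omega)
  · exact chunk_apply kV_1882 (by omega) (by omega)
  · exact chunk_apply kV_1883 (by omega) (by omega)
  · exact chunk_apply kV_1884 (by omega) (by omega)
  · exact chunk_apply kV_1885 (by omega) (by omega)
  · exact chunk_apply kV_1886 (by omega) (by omega)
  · exact chunk_apply kV_1887 (by omega) (by omega)
  · exact chunk_apply kV_1888 (by omega) (by omega)
  · exact chunk_apply kV_1889 (by omega) (by omega)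
  · exact chunk_apply kV_1890 (by omega) (by omega)
  · exact chunk_apply kV_1891 (by omega) (by omega)
  · exact chunk_apply kV_1892 (by omega) (by omega)
  · exact chunk_apply kV_1893 (by omega) (by omega)
  · exact chunk_apply kV_1894 (by omega) (by omega)
  · exact chunk_apply kV_1895 (by omega) (by omega)
  · exact chunk_apply kV_1896 (by omega) (by omega)
  · exact chunk_apply kV_1897 (by omega) (by omega)
  · exact chunk_apply kV_1898 (by omega) (by omega)
  · exact chunk_apply kV_1899 (by omega) (by omega)
  · exact chunk_apply kV_1900 (by omega) (by omega)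
  · exact chunk_apply kV_1901 (by omega) (by omega)
  · exact chunk_apply kV_1902 (by omega) (by omega)
  · exact chunk_apply kV_1903 (by omega) (by omega)
  · exact chunk_apply kV_1904 (by omega) (by omega)
  · exact chunk_apply kV_1905 (by omega) (by omega)
  · exact chunk_apply kV_1906 (by omega) (by omega)
  · exact chunk_apply kV_1907 (by omega) (by omega)
  · exact chunk_apply kV_1908 (by omega) (by omega)
  · exact chunk_apply kV_1909 (by omega) (by omega)
  · exact chunk_apply kV_1910 (by omega) (by omega)
  · exact chunk_apply kV_1911 (by omega) (by omega)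
  · exact chunk_apply kV_1912 (by omega) (by omega)
  · exact chunk_apply kV_1913 (by omega) (by omega)
  · exact chunk_apply kV_1914 (by omega) (by omega)
  · exact chunk_apply kV_1915 (by omega) (by omega)
  · exact chunk_apply kV_1916 (by omega) (by omega)
  · exact chunk_apply kV_1917 (by omega) (by omega)
  · exact chunk_apply kV_1918 (by omega) (by omega)
  · exact chunk_apply kV_1919 (by omega) (by omega)

end Cfsg.Agent.Helper14.J3
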