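import Mathlib
import Cfsg.Agent.Helper14.J3Y

set_option autoImplicit false

namespace Cfsg.Agent.Helper14.J3

theorem kV_1920 : (List.range 128).all (fun k => chkVn Vtab XYgens V0 (128 * 1920 + k)) = true := by decide +kernel
theorem kV_1921 : (List.range 128).all (fun k => chkVn Vtab XYgens V0 (128 * 1921 + k)) = true := by decide +kernel
theorem kV_1922 : (List.range 128).all (fun k => chkVn Vtab XYgens V0 (128 * 1922 + k)) = true := by decide +kernel
theorem kV_1923 : (List.range 128).all (fun k => chkVn Vtab XYgens V0 (128 * 1923 + k)) = true := by decide +kernel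
theorem kV_1924 : (List.range 128).all (fun k => chkVn Vtab XYgens V0 (128 * 1924 + k)) = true := by decide +kernel
theorem kV_1925 : (List.range 128).all (fun k => chkVn Vtab XYgens V0 (128 * 1925 + k)) = true := by decide +kernel
theorem kV_1926 : (List.range 128).all (fun k => chkVn Vtab XYgens V0 (128 * 1926 + k)) = true := by decide +kernel
theorem kV_1927 : (List.range 128).all (fun k => chkVn Vtab XYgens V0 (128 * 1927 + k)) = true := by decide +kernel
theorem kV_1928 : (List.range 128).all (fun k => chkVn Vtab XYgens V0 (128 * 1928 + k)) = true := by decide +kernel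
theorem kV_1929 : (List.range 128).all (fun k => chkVn Vtab XYgens V0 (128 * 1929 + k)) = true := by decide +kernel
theorem kV_1930 : (List.range 128).all (fun k => chkVn Vtab XYgens V0 (128 * 1930 + k)) = true := by decide +kernel
theorem kV_1931 : (List.range 128).all (fun k => chkVn Vtab XYgens V0 (128 * 1931 + k)) = true := by decide +kernel
theorem kV_1932 : (List.range 128).all (fun k => chkVn Vtab XYgens V0 (128 * 1932 + k)) = true := by decide +kernel
theorem kV_1933 : (List.range 128).all (fun k => chkVn Vtab XYgens V0 (128 * 1933 + k)) = true := by decide +kernel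
theorem kV_1934 : (List.range 128).all (fun k => chkVn Vtab XYgens V0 (128 * 1934 + k)) = true := by decide +kernel
theorem kV_1935 : (List.range 128).all (fun k => chkVn Vtab XYgens V0 (128 * 1935 + k)) = true := by decide +kernel
theorem kV_1936 : (List.range 128).all (fun k => chkVn Vtab XYgens V0 (128 * 1936 + k)) = true := by decide +kernel
theorem kV_1937 : (List.range 128).all (fun k => chkVn Vtab XYgens V0 (128 * 1937 + k)) = true := by decide +kernel
theorem kV_1938 : (List.range 128).all (fun k => chkVn Vtab XYgens V0 (128 * 1938 + k)) = true := by decide +kernel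
theorem kV_1939 : (List.range 128).all (fun k => chkVn Vtab XYgens V0 (128 * 1939 + k)) = true := by decide +kernel
theorem kV_1940 : (List.range 128).all (fun k => chkVn Vtab XYgens V0 (128 * 1940 + k)) = true := by decide +kernel
theorem kV_1941 : (List.range 128).all (fun k => chkVn Vtab XYgens V0 (128 * 1941 + k)) = true := by decide +kernel
theorem kV_1942 : (List.range 128).all (fun k => chkVn Vtab XYgens V0 (128 * 1942 + k)) = true := by decide +kernel
theorem kV_1943 : (List.range 128).all (fun k => chkVn Vtab XYgens V0 (128 * 1943 + k)) = true := by decide +kernel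
theorem kV_1944 : (List.range 128).all (fun k => chkVn Vtab XYgens V0 (128 * 1944 + k)) = true := by decide +kernel
theorem kV_1945 : (List.range 128).all (fun k => chkVn Vtab XYgens V0 (128 * 1945 + k)) = true := by decide +kernel
theorem kV_1946 : (List.range 128).all (fun k => chkVn Vtab XYgens V0 (128 * 1946 + k)) = true := by decide +kernel
theorem kV_1947 : (List.range 128).all (fun k => chkVn Vtab XYgens V0 (128 * 1947 + k)) = true := by decide +kernel
theorem kV_1948 : (List.range 128).all (fun k => chkVn Vtab XYgens V0 (128 * 1948 + k)) = true := by decide +kernel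
theorem kV_1949 : (List.range 128).all (fun k => chkVn Vtab XYgens V0 (128 * 1949 + k)) = true := by decide +kernel
theorem kV_1950 : (List.range 128).all (fun k => chkVn Vtab XYgens V0 (128 * 1950 + k)) = true := by decide +kernel
theorem kV_1951 : (List.range 128).all (fun k => chkVn Vtab XYgens V0 (128 * 1951 + k)) = true := by decide +kernel
theorem kV_1952 : (List.range 128).all (fun k => chkVn Vtab XYgens V0 (128 * 1952 + k)) = true := by decide +kernel
theorem kV_1953 : (List.range 128).all (fun k => chkVn Vtab XYgens V0 (128 * 1953 + k)) = true := by decide +kernel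
theorem kV_1954 : (List.range 128).all (fun k => chkVn Vtab XYgens V0 (128 * 1954 + k)) = true := by decide +kernel
theorem kV_1955 : (List.range 128).all (fun k => chkVn Vtab XYgens V0 (128 * 1955 + k)) = true := by decide +kernel
theorem kV_1956 : (List.range 128).all (fun k => chkVn Vtab XYgens V0 (128 * 1956 + k)) = true := by decide +kernel
theorem kV_1957 : (List.range 128).all (fun k => chkVn Vtab XYgens V0 (128 * 1957 + k)) = true := by decide +kernel
theorem kV_1958 : (List.range 128).all (fun k => chkVn Vtab XYgens V0 (128 * 1958 + k)) = true := by decide +kernel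
theorem kV_1959 : (List.range 128).all (fun k => chkVn Vtab XYgens V0 (128 * 1959 + k)) = true := by decide +kernel
theorem kV_1960 : (List.range 128).all (fun k => chkVn Vtab XYgens V0 (128 * 1960 + k)) = true := by decide +kernel
theorem kV_1961 : (List.range 128).all (fun k => chkVn Vtab XYgens V0 (128 * 1961 + k)) = true := by decide +kernel
theorem kV_1962 : (List.range 128).all (fun k => chkVn Vtab XYgens V0 (128 * 1962 + k)) = true := by decide +kernel
theorem kV_1963 : (List.range 128).all (fun k => chkVn Vtab XYgens V0 (128 * 1963 + k)) = true := by decide +kernel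
theorem kV_1964 : (List.range 128).all (fun k => chkVn Vtab XYgens V0 (128 * 1964 + k)) = true := by decide +kernel
theorem kV_1965 : (List.range 128).all (fun k => chkVn Vtab XYgens V0 (128 * 1965 + k)) = true := by decide +kernel
theorem kV_1966 : (List.range 128).all (fun k => chkVn Vtab XYgens V0 (128 * 1966 + k)) = true := by decide +kernel
theorem kV_1967 : (List.range 128).all (fun k => chkVn Vtab XYgens V0 (128 * 1967 + k)) = true := by decide +kernel
theorem kV_1968 : (List.range 128).all (fun k => chkVn Vtab XYgens V0 (128 * 1968 + k)) = true := by decide +kernel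
theorem kV_1969 : (List.range 128).all (fun k => chkVn Vtab XYgens V0 (128 * 1969 + k)) = true := by decide +kernel
theorem kV_1970 : (List.range 128).all (fun k => chkVn Vtab XYgens V0 (128 * 1970 + k)) = true := by decide +kernel
theorem kV_1971 : (List.range 128).all (fun k => chkVn Vtab XYgens V0 (128 * 1971 + k)) = true := by decide +kernel
theorem kV_1972 : (List.range 128).all (fun k => chkVn Vtab XYgens V0 (128 * 1972 + k)) = true := by decide +kernel
theorem kV_1973 : (List.range 128).all (fun k => chkVn Vtab XYgens V0 (128 * 1973 + k)) = true := by decide +kernel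
theorem kV_1974 : (List.range 128).all (fun k => chkVn Vtab XYgens V0 (128 * 1974 + k)) = true := by decide +kernel
theorem kV_1975 : (List.range 128).all (fun k => chkVn Vtab XYgens V0 (128 * 1975 + k)) = true := by decide +kernel
theorem kV_1976 : (List.range 128).all (fun k => chkVn Vtab XYgens V0 (128 * 1976 + k)) = true := by decide +kernel
theorem kV_1977 : (List.range 128).all (fun k => chkVn Vtab XYgens V0 (128 * 1977 + k)) = true := by decide +kernel
theorem kV_1978 : (List.range 128).all (fun k => chkVn Vtab XYgens V0 (128 * 1978 + k)) = true := by decide +kernel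
theorem kV_1979 : (List.range 128).all (fun k => chkVn Vtab XYgens V0 (128 * 1979 + k)) = true := by decide +kernel
theorem kV_1980 : (List.range 128).all (fun k => chkVn Vtab XYgens V0 (128 * 1980 + k)) = true := by decide +kernel
theorem kV_1981 : (List.range 128).all (fun k => chkVn Vtab XYgens V0 (128 * 1981 + k)) = true := by decide +kernel
theorem kV_1982 : (List.range 128).all (fun k => chkVn Vtab XYgens V0 (128 * 1982 + k)) = true := by decide +kernel
theorem kV_1983 : (List.range 128).all (fun k => chkVn Vtab XYgens V0 (128 * 1983 + k)) = true := by decide +kernel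
theorem kV_1984 : (List.range 128).all (fun k => chkVn Vtab XYgens V0 (128 * 1984 + k)) = true := by decide +kernel
theorem kV_1985 : (List.range 128).all (fun k => chkVn Vtab XYgens V0 (128 * 1985 + k)) = true := by decide +kernel
theorem kV_1986 : (List.range 128).all (fun k => chkVn Vtab XYgens V0 (128 * 1986 + k)) = true := by decide +kernel
theorem kV_1987 : (List.range 128).all (fun k => chkVn Vtab XYgens V0 (128 * 1987 + k)) = true := by decide +kernel
theorem kV_1988 : (List.range 128).all (fun k => chkVn Vtab XYgens V0 (128 * 1988 + k)) = true := by decide +kernel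
theorem kV_1989 : (List.range 128).all (fun k => chkVn Vtab XYgens V0 (128 * 1989 + k)) = true := by decide +kernel
theorem kV_1990 : (List.range 128).all (fun k => chkVn Vtab XYgens V0 (128 * 1990 + k)) = true := by decide +kernel
theorem kV_1991 : (List.range 128).all (fun k => chkVn Vtab XYgens V0 (128 * 1991 + k)) = true := by decide +kernel
theorem kV_1992 : (List.range 128).all (fun k => chkVn Vtab XYgens V0 (128 * 1992 + k)) = true := by decide +kernel
theorem kV_1993 : (List.range 128).all (fun k => chkVn Vtab XYgens V0 (128 * 1993 + k)) = true := by decide +kernel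
theorem kV_1994 : (List.range 128).all (fun k => chkVn Vtab XYgens V0 (128 * 1994 + k)) = true := by decide +kernel
theorem kV_1995 : (List.range 128).all (fun k => chkVn Vtab XYgens V0 (128 * 1995 + k)) = true := by decide +kernel
theorem kV_1996 : (List.range 128).all (fun k => chkVn Vtab XYgens V0 (128 * 1996 + k)) = true := by decide +kernel
theorem kV_1997 : (List.range 128).all (fun k => chkVn Vtab XYgens V0 (128 * 1997 + k)) = true := by decide +kernel
theorem kV_1998 : (List.range 128).all (fun k => chkVn Vtab XYgens V0 (128 * 1998 + k)) = true := by decide +kernel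
theorem kV_1999 : (List.range 128).all (fun k => chkVn Vtab XYgens V0 (128 * 1999 + k)) = true := by decide +kernel
theorem kV_2000 : (List.range 128).all (fun k => chkVn Vtab XYgens V0 (128 * 2000 + k)) = true := by decide +kernel
theorem kV_2001 : (List.range 128).all (fun k => chkVn Vtab XYgens V0 (128 * 2001 + k)) = true := by decide +kernel
theorem kV_2002 : (List.range 128).all (fun k => chkVn Vtab XYgens V0 (128 * 2002 + k)) = true := by decide +kernel
theorem kV_2003 : (List.range 128).all (fun k => chkVn Vtab XYgens V0 (128 * 2003 + k)) = true := by decide +kernel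
theorem kV_2004 : (List.range 128).all (fun k => chkVn Vtab XYgens V0 (128 * 2004 + k)) = true := by decide +kernel
theorem kV_2005 : (List.range 128).all (fun k => chkVn Vtab XYgens V0 (128 * 2005 + k)) = true := by decide +kernel
theorem kV_2006 : (List.range 128).all (fun k => chkVn Vtab XYgens V0 (128 * 2006 + k)) = true := by decide +kernel
theorem kV_2007 : (List.range 128).all (fun k => chkVn Vtab XYgens V0 (128 * 2007 + k)) = true := by decide +kernel
theorem kV_2008 : (List.range 128).all (fun k => chkVn Vtab XYgens V0 (128 * 2008 + k)) = true := by decide +kernel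
theorem kV_2009 : (List.range 128).all (fun k => chkVn Vtab XYgens V0 (128 * 2009 + k)) = true := by decide +kernel
theorem kV_2010 : (List.range 128).all (fun k => chkVn Vtab XYgens V0 (128 * 2010 + k)) = true := by decide +kernel
theorem kV_2011 : (List.range 128).all (fun k => chkVn Vtab XYgens V0 (128 * 2011 + k)) = true := by decide +kernel
theorem kV_2012 : (List.range 128).all (fun k => chkVn Vtab XYgens V0 (128 * 2012 + k)) = true := by decide +kernel
theorem kV_2013 : (List.range 128).all (fun k => chkVn Vtab XYgens V0 (128 * 2013 + k)) = true := by decide +kernel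
theorem kV_2014 : (List.range 128).all (fun k => chkVn Vtab XYgens V0 (128 * 2014 + k)) = true := by decide +kernel
theorem kV_2015 : (List.range 128).all (fun k => chkVn Vtab XYgens V0 (128 * 2015 + k)) = true := by decide +kernel
theorem kV_2016 : (List.range 128).all (fun k => chkVn Vtab XYgens V0 (128 * 2016 + k)) = true := by decide +kernel
theorem kV_2017 : (List.range 128).all (fun k => chkVn Vtab XYgens V0 (128 * 2017 + k)) = true := by decide +kernel
theorem kV_2018 : (List.range 128).all (fun k => chkVn Vtab XYgens V0 (128 * 2018 + k)) = true := by decide +kernel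
theorem kV_2019 : (List.range 128).all (fun k => chkVn Vtab XYgens V0 (128 * 2019 + k)) = true := by decide +kernel
theorem kV_2020 : (List.range 128).all (fun k => chkVn Vtab XYgens V0 (128 * 2020 + k)) = true := by decide +kernel
theorem kV_2021 : (List.range 128).all (fun k => chkVn Vtab XYgens V0 (128 * 2021 + k)) = true := by decide +kernel
theorem kV_2022 : (List.range 128).all (fun k => chkVn Vtab XYgens V0 (128 * 2022 + k)) = true := by decide +kernel
theorem kV_2023 : (List.range 128).all (fun k => chkVn Vtab XYgens V0 (128 * 2023 + k)) = true := by decide +kernel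
theorem kV_2024 : (List.range 128).all (fun k => chkVn Vtab XYgens V0 (128 * 2024 + k)) = true := by decide +kernel
theorem kV_2025 : (List.range 128).all (fun k => chkVn Vtab XYgens V0 (128 * 2025 + k)) = true := by decide +kernel
theorem kV_2026 : (List.range 128).all (fun k => chkVn Vtab XYgens V0 (128 * 2026 + k)) = true := by decide +kernel
theorem kV_2027 : (List.range 128).all (fun k => chkVn Vtab XYgens V0 (128 * 2027 + k)) = true := by decide +kernel
theorem kV_2028 : (List.range 128).all (fun k => chkVn Vtab XYgens V0 (128 * 2028 + k)) = true := by decide +kernel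
theorem kV_2029 : (List.range 128).all (fun k => chkVn Vtab XYgens V0 (128 * 2029 + k)) = true := by decide +kernel
theorem kV_2030 : (List.range 128).all (fun k => chkVn Vtab XYgens V0 (128 * 2030 + k)) = true := by decide +kernel
theorem kV_2031 : (List.range 128).all (fun k => chkVn Vtab XYgens V0 (128 * 2031 + k)) = true := by decide +kernel
theorem kV_2032 : (List.range 128).all (fun k => chkVn Vtab XYgens V0 (128 * 2032 + k)) = true := by decide +kernel
theorem kV_2033 : (List.range 128).all (fun k => chkVn Vtab XYgens V0 (128 * 2033 + k)) = true := by decide +kernel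
theorem kV_2034 : (List.range 128).all (fun k => chkVn Vtab XYgens V0 (128 * 2034 + k)) = true := by decide +kernel
theorem kV_2035 : (List.range 128).all (fun k => chkVn Vtab XYgens V0 (128 * 2035 + k)) = true := by decide +kernel
theorem kV_2036 : (List.range 128).all (fun k => chkVn Vtab XYgens V0 (128 * 2036 + k)) = true := by decide +kernel
theorem kV_2037 : (List.range 128).all (fun k => chkVn Vtab XYgens V0 (128 * 2037 + k)) = true := by decide +kernel
theorem kV_2038 : (List.range 128).all (fun k => chkVn Vtab XYgens V0 (128 * 2038 + k)) = true := by decide +kernel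
theorem kV_2039 : (List.range 128).all (fun k => chkVn Vtab XYgens V0 (128 * 2039 + k)) = true := by decide +kernel
theorem kV_2040 : (List.range 128).all (fun k => chkVn Vtab XYgens V0 (128 * 2040 + k)) = true := by decide +kernel
theorem kV_2041 : (List.range 128).all (fun k => chkVn Vtab XYgens V0 (128 * 2041 + k)) = true := by decide +kernel
theorem kV_2042 : (List.range 128).all (fun k => chkVn Vtab XYgens V0 (128 * 2042 + k)) = true := by decide +kernel
theorem kV_2043 : (List.range 128).all (fun k => chkVn Vtab XYgens V0 (128 * 2043 + k)) = true := by decide +kernel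
theorem kV_2044 : (List.range 128).all (fun k => chkVn Vtab XYgens V0 (128 * 2044 + k)) = true := by decide +kernel
theorem kV_2045 : (List.range 128).all (fun k => chkVn Vtab XYgens V0 (128 * 2045 + k)) = true := by decide +kernel
theorem kV_2046 : (List.range 128).all (fun k => chkVn Vtab XYgens V0 (128 * 2046 + k)) = true := by decide +kernel
theorem kV_2047 : (List.range 128).all (fun k => chkVn Vtab XYgens V0 (128 * 2047 + k)) = true := by decide +kernel

theorem chkV_15 : ∀ n, 245760 ≤ n → n < 262144 → chkVn Vtab XYgens V0 n = true := by
  intro n h1 h2
  obtain ⟨J, hJ⟩ : ∃ J, J = n / 128 := ⟨_, rfl⟩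
  have hJ1 : 1920 ≤ J := by omega
  have hJ2 : J < 2048 := by omega
  interval_cases J
  · exact chunk_apply kV_1920 (by omega) (by omega)
  · exact chunk_apply kV_1921 (by omega) (by omega)
  · exact chunk_apply kV_1922 (by omega) (by omega)
  · exact chunk_apply kV_1923 (by omega) (by omega)
  · exact chunk_apply kV_1924 (by omega) (by omega)
  · exact chunk_apply kV_1925 (by omega) (by omega)
  · exact chunk_apply kV_1926 (by omega) (by omega)
  · exact chunk_apply kV_1927 (by omega) (by omega)
  · exact chunk_apply kV_1928 (by omega) (by omega)
  · exact chunk_apply kV_1929 (by omega) (by omega)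
  · exact chunk_apply kV_1930 (by omega) (by omega)
  · exact chunk_apply kV_1931 (by omega) (by omega)
  · exact chunk_apply kV_1932 (by omega) (by omega)
  · exact chunk_apply kV_1933 (by omega) (by omega)
  · exact chunk_apply kV_1934 (by omega) (by omega)
  · exact chunk_apply kV_1935 (by omega) (by omega)
  · exact chunk_apply kV_1936 (by omega) (by omega)
  · exact chunk_apply kV_1937 (by omega) (by omega)
  · exact chunk_apply kV_1938 (by omega) (by omega)
  · exact chunk_apply kV_1939 (by omega) (by omega)
  · exact chunk_apply kV_1940 (by omega) (by omega)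
  · exact chunk_apply kV_1941 (by omega) (by omega)
  · exact chunk_apply kV_1942 (by omega) (by omega)
  · exact chunk_apply kV_1943 (by omega) (by omega)
  · exact chunk_apply kV_1944 (by omega) (by omega)
  · exact chunk_apply kV_1945 (by omega) (by omega)
  · exact chunk_apply kV_1946 (by omega) (by omega)
  · exact chunk_apply kV_1947 (by omega) (by omega)
  · exact chunk_apply kV_1948 (by omega) (by omega)
  · exact chunk_apply kV_1949 (by omega) (by omega)
  · exact chunk_apply kV_1950 (by omega) (by omega)
  · exact chunk_apply kV_1951 (by omega) (by omega)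
  · exact chunk_apply kV_1952 (by omega) (by omega)
  · exact chunk_apply kV_1953 (by omega) (by omega)
  · exact chunk_apply kV_1954 (by omega) (by omega)
  · exact chunk_apply kV_1955 (by omega) (by omega)
  · exact chunk_apply kV_1956 (by omega) (by omega)
  · exact chunk_apply kV_1957 (by omega) (by omega)
  · exact chunk_apply kV_1958 (by omega) (by omega)
  · exact chunk_apply kV_1959 (by omega) (by omega)
  · exact chunk_apply kV_1960 (by omega) (by omega)
  · exact chunk_apply kV_1961 (by omega) (by omega)
  · exact chunk_apply kV_1962 (by omega) (by omega)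
  · exact chunk_apply kV_1963 (by omega) (by omega)
  · exact chunk_apply kV_1964 (by omega) (by omega)
  · exact chunk_apply kV_1965 (by omega) (by omega)
  · exact chunk_apply kV_1966 (by omega) (by omega)
  · exact chunk_apply kV_1967 (by omega) (by omega)
  · exact chunk_apply kV_1968 (by omega) (by omega)
  · exact chunk_apply kV_1969 (by omega) (by omega)
  · exact chunk_apply kV_1970 (by omega) (by omega)
  · exact chunk_apply kV_1971 (by omega) (by omega)
  · exact chunk_apply kV_1972 (by omega) (by omega)
  · exact chunk_apply kV_1973 (by omega) (by omega)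
  · exact chunk_apply kV_1974 (by omega) (by omega)
  · exact chunk_apply kV_1975 (by omega) (by omega)
  · exact chunk_apply kV_1976 (by omega) (by omega)
  · exact chunk_apply kV_1977 (by omega) (by omega)
  · exact chunk_apply kV_1978 (by omega) (by omega)
  · exact chunk_apply kV_1979 (by omega) (by omega)
  · exact chunk_apply kV_1980 (by omega) (by omega)
  · exact chunk_apply kV_1981 (by omega) (by omega)
  · exact chunk_apply kV_1982 (by omega) (by omega)
  · exact chunk_apply kV_1983 (by omega) (by omega)
  · exact chunk_apply kV_1984 (by omega) (by omega)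
  · exact chunk_apply kV_1985 (by omega) (by omega)
  · exact chunk_apply kV_1986 (by omega) (by omega)
  · exact chunk_apply kV_1987 (by omega) (by omega)
  · exact chunk_apply kV_1988 (by omega) (by omega)
  · exact chunk_apply kV_1989 (by omega) (by omega)
  · exact chunk_apply kV_1990 (by omega) (by omega)
  · exact chunk_apply kV_1991 (by omega) (by omega)
  · exact chunk_apply kV_1992 (by omega) (by omega)
  · exact chunk_apply kV_1993 (by omega) (by omega)
  · exact chunk_apply kV_1994 (by omega) (by omega)
  · exact chunk_apply kV_1995 (by omega) (by omega)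
  · exact chunk_apply kV_1996 (by omega) (by omega)
  · exact chunk_apply kV_1997 (by omega) (by omega)
  · exact chunk_apply kV_1998 (by omega) (by omega)
  · exact chunk_apply kV_1999 (by omega) (by omega)
  · exact chunk_apply kV_2000 (by omega) (by omega)
  · exact chunk_apply kV_2001 (by omega) (by omega)
  · exact chunk_apply kV_2002 (by omega) (by omega)
  · exact chunk_apply kV_2003 (by omega) (by omega)
  · exact chunk_apply kV_2004 (by omega) (by omega)
  · exact chunk_apply kV_2005 (by omega) (by omega)
  · exact chunk_apply kV_2006 (by omega) (by omega)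
  · exact chunk_apply kV_2007 (by omega) (by omega)
  · exact chunk_apply kV_2008 (by omega) (by omega)
  · exact chunk_apply kV_2009 (by omega) (by omega)
  · exact chunk_apply kV_2010 (by omega) (by omega)
  · exact chunk_apply kV_2011 (by omega) (by omega)
  · exact chunk_apply kV_2012 (by omega) (by omega)
  · exact chunk_apply kV_2013 (by omega) (by omega)
  · exact chunk_apply kV_2014 (by omega) (by omega)
  · exact chunk_apply kV_2015 (by omega) (by omega)
  · exact chunk_apply kV_2016 (by omega) (by omega)
  · exact chunk_apply kV_2017 (by omega) (by omega)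
  · exact chunk_apply kV_2018 (by omega) (by omega)
  · exact chunk_apply kV_2019 (by omega) (by omega)
  · exact chunk_apply kV_2020 (by omega) (by omega)
  · exact chunk_apply kV_2021 (by omega) (by omega)
  · exact chunk_apply kV_2022 (by omega) (by omega)
  · exact chunk_apply kV_2023 (by omega) (by omega)
  · exact chunk_apply kV_2024 (by omega) (by omega)
  · exact chunk_apply kV_2025 (by omega) (by omega)
  · exact chunk_apply kV_2026 (by omega) (by omega)
  · exact chunk_apply kV_2027 (by omega) (by omega)
  · exact chunk_apply kV_2028 (by omega) (by omega)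
  · exact chunk_apply kV_2029 (by omega) (by omega)
  · exact chunk_apply kV_2030 (by omega) (by omega)
  · exact chunk_apply kV_2031 (by omega) (by omega)
  · exact chunk_apply kV_2032 (by omega) (by omega)
  · exact chunk_apply kV_2033 (by omega) (by omega)
  · exact chunk_apply kV_2034 (by omega) (by omega)
  · exact chunk_apply kV_2035 (by omega) (by omega)
  · exact chunk_apply kV_2036 (by omega) (by omega)
  · exact chunk_apply kV_2037 (by omega) (by omega)
  · exact chunk_apply kV_2038 (by omega) (by omega)
  · exact chunk_apply kV_2039 (by omega) (by omega)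
  · exact chunk_apply kV_2040 (by omega) (by omega)
  · exact chunk_apply kV_2041 (by omega) (by omega)
  · exact chunk_apply kV_2042 (by omega) (by omega)
  · exact chunk_apply kV_2043 (by omega) (by omega)
  · exact chunk_apply kV_2044 (by omega) (by omega)
  · exact chunk_apply kV_2045 (by omega) (by omega)
  · exact chunk_apply kV_2046 (by omega) (by omega)
  · exact chunk_apply kV_2047 (by omega) (by omega)

end Cfsg.Agent.Helper14.J3
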