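import Mathlib
import Cfsg.Agent.Helper14.J3Y

set_option autoImplicit false

namespace Cfsg.Agent.Helper14.J3

theorem kV_256 : (List.range 128).all (fun k => chkVn Vtab XYgens V0 (128 * 256 + k)) = true := by decide +kernel
theorem kV_257 : (List.range 128).all (fun k => chkVn Vtab XYgens V0 (128 * 257 + k)) = true := by decide +kernel
theorem kV_258 : (List.range 128).all (fun k => chkVn Vtab XYgens V0 (128 * 258 + k)) = true := by decide +kernel
theorem kV_259 : (List.range 128).all (fun k => chkVn Vtab XYgens V0 (128 * 259 + k)) = true := by decide +kernel
theorem kV_260 : (List.range 128).all (fun k => chkVn Vtab XYgens V0 (128 * 260 + k)) = true := by decide +kernel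
theorem kV_261 : (List.range 128).all (fun k => chkVn Vtab XYgens V0 (128 * 261 + k)) = true := by decide +kernel
theorem kV_262 : (List.range 128).all (fun k => chkVn Vtab XYgens V0 (128 * 262 + k)) = true := by decide +kernel
theorem kV_263 : (List.range 128).all (fun k => chkVn Vtab XYgens V0 (128 * 263 + k)) = true := by decide +kernel
theorem kV_264 : (List.range 128).all (fun k => chkVn Vtab XYgens V0 (128 * 264 + k)) = true := by decide +kernel
theorem kV_265 : (List.range 128).all (fun k => chkVn Vtab XYgens V0 (128 * 265 + k)) = true := by decide +kernel
theorem kV_266 : (List.range 128).all (fun k => chkVn Vtab XYgens V0 (128 * 266 + k)) = true := by decide +kernel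
theorem kV_267 : (List.range 128).all (fun k => chkVn Vtab XYgens V0 (128 * 267 + k)) = true := by decide +kernel
theorem kV_268 : (List.range 128).all (fun k => chkVn Vtab XYgens V0 (128 * 268 + k)) = true := by decide +kernel
theorem kV_269 : (List.range 128).all (fun k => chkVn Vtab XYgens V0 (128 * 269 + k)) = true := by decide +kernel
theorem kV_270 : (List.range 128).all (fun k => chkVn Vtab XYgens V0 (128 * 270 + k)) = true := by decide +kernel
theorem kV_271 : (List.range 128).all (fun k => chkVn Vtab XYgens V0 (128 * 271 + k)) = true := by decide +kernel
theorem kV_272 : (List.range 128).all (fun k => chkVn Vtab XYgens V0 (128 * 272 + k)) = true := by decide +kernel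
theorem kV_273 : (List.range 128).all (fun k => chkVn Vtab XYgens V0 (128 * 273 + k)) = true := by decide +kernel
theorem kV_274 : (List.range 128).all (fun k => chkVn Vtab XYgens V0 (128 * 274 + k)) = true := by decide +kernel
theorem kV_275 : (List.range 128).all (fun k => chkVn Vtab XYgens V0 (128 * 275 + k)) = true := by decide +kernel
theorem kV_276 : (List.range 128).all (fun k => chkVn Vtab XYgens V0 (128 * 276 + k)) = true := by decide +kernel
theorem kV_277 : (List.range 128).all (fun k => chkVn Vtab XYgens V0 (128 * 277 + k)) = true := by decide +kernel
theorem kV_278 : (List.range 128).all (fun k => chkVn Vtab XYgens V0 (128 * 278 + k)) = true := by decide +kernel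
theorem kV_279 : (List.range 128).all (fun k => chkVn Vtab XYgens V0 (128 * 279 + k)) = true := by decide +kernel
theorem kV_280 : (List.range 128).all (fun k => chkVn Vtab XYgens V0 (128 * 280 + k)) = true := by decide +kernel
theorem kV_281 : (List.range 128).all (fun k => chkVn Vtab XYgens V0 (128 * 281 + k)) = true := by decide +kernel
theorem kV_282 : (List.range 128).all (fun k => chkVn Vtab XYgens V0 (128 * 282 + k)) = true := by decide +kernel
theorem kV_283 : (List.range 128).all (fun k => chkVn Vtab XYgens V0 (128 * 283 + k)) = true := by decide +kernel
theorem kV_284 : (List.range 128).all (fun k => chkVn Vtab XYgens V0 (128 * 284 + k)) = true := by decide +kernel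
theorem kV_285 : (List.range 128).all (fun k => chkVn Vtab XYgens V0 (128 * 285 + k)) = true := by decide +kernel
theorem kV_286 : (List.range 128).all (fun k => chkVn Vtab XYgens V0 (128 * 286 + k)) = true := by decide +kernel
theorem kV_287 : (List.range 128).all (fun k => chkVn Vtab XYgens V0 (128 * 287 + k)) = true := by decide +kernel
theorem kV_288 : (List.range 128).all (fun k => chkVn Vtab XYgens V0 (128 * 288 + k)) = true := by decide +kernel
theorem kV_289 : (List.range 128).all (fun k => chkVn Vtab XYgens V0 (128 * 289 + k)) = true := by decide +kernel
theorem kV_290 : (List.range 128).all (fun k => chkVn Vtab XYgens V0 (128 * 290 + k)) = true := by decide +kernel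
theorem kV_291 : (List.range 128).all (fun k => chkVn Vtab XYgens V0 (128 * 291 + k)) = true := by decide +kernel
theorem kV_292 : (List.range 128).all (fun k => chkVn Vtab XYgens V0 (128 * 292 + k)) = true := by decide +kernel
theorem kV_293 : (List.range 128).all (fun k => chkVn Vtab XYgens V0 (128 * 293 + k)) = true := by decide +kernel
theorem kV_294 : (List.range 128).all (fun k => chkVn Vtab XYgens V0 (128 * 294 + k)) = true := by decide +kernel
theorem kV_295 : (List.range 128).all (fun k => chkVn Vtab XYgens V0 (128 * 295 + k)) = true := by decide +kernel
theorem kV_296 : (List.range 128).all (fun k => chkVn Vtab XYgens V0 (128 * 296 + k)) = true := by decide +kernel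
theorem kV_297 : (List.range 128).all (fun k => chkVn Vtab XYgens V0 (128 * 297 + k)) = true := by decide +kernel
theorem kV_298 : (List.range 128).all (fun k => chkVn Vtab XYgens V0 (128 * 298 + k)) = true := by decide +kernel
theorem kV_299 : (List.range 128).all (fun k => chkVn Vtab XYgens V0 (128 * 299 + k)) = true := by decide +kernel
theorem kV_300 : (List.range 128).all (fun k => chkVn Vtab XYgens V0 (128 * 300 + k)) = true := by decide +kernel
theorem kV_301 : (List.range 128).all (fun k => chkVn Vtab XYgens V0 (128 * 301 + k)) = true := by decide +kernel
theorem kV_302 : (List.range 128).all (fun k => chkVn Vtab XYgens V0 (128 * 302 + k)) = true := by decide +kernel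
theorem kV_303 : (List.range 128).all (fun k => chkVn Vtab XYgens V0 (128 * 303 + k)) = true := by decide +kernel
theorem kV_304 : (List.range 128).all (fun k => chkVn Vtab XYgens V0 (128 * 304 + k)) = true := by decide +kernel
theorem kV_305 : (List.range 128).all (fun k => chkVn Vtab XYgens V0 (128 * 305 + k)) = true := by decide +kernel
theorem kV_306 : (List.range 128).all (fun k => chkVn Vtab XYgens V0 (128 * 306 + k)) = true := by decide +kernel
theorem kV_307 : (List.range 128).all (fun k => chkVn Vtab XYgens V0 (128 * 307 + k)) = true := by decide +kernel
theorem kV_308 : (List.range 128).all (fun k => chkVn Vtab XYgens V0 (128 * 308 + k)) = true := by decide +kernel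
theorem kV_309 : (List.range 128).all (fun k => chkVn Vtab XYgens V0 (128 * 309 + k)) = true := by decide +kernel
theorem kV_310 : (List.range 128).all (fun k => chkVn Vtab XYgens V0 (128 * 310 + k)) = true := by decide +kernel
theorem kV_311 : (List.range 128).all (fun k => chkVn Vtab XYgens V0 (128 * 311 + k)) = true := by decide +kernel
theorem kV_312 : (List.range 128).all (fun k => chkVn Vtab XYgens V0 (128 * 312 + k)) = true := by decide +kernel
theorem kV_313 : (List.range 128).all (fun k => chkVn Vtab XYgens V0 (128 * 313 + k)) = true := by decide +kernel
theorem kV_314 : (List.range 128).all (fun k => chkVn Vtab XYgens V0 (128 * 314 + k)) = true := by decide +kernel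
theorem kV_315 : (List.range 128).all (fun k => chkVn Vtab XYgens V0 (128 * 315 + k)) = true := by decide +kernel
theorem kV_316 : (List.range 128).all (fun k => chkVn Vtab XYgens V0 (128 * 316 + k)) = true := by decide +kernel
theorem kV_317 : (List.range 128).all (fun k => chkVn Vtab XYgens V0 (128 * 317 + k)) = true := by decide +kernel
theorem kV_318 : (List.range 128).all (fun k => chkVn Vtab XYgens V0 (128 * 318 + k)) = true := by decide +kernel
theorem kV_319 : (List.range 128).all (fun k => chkVn Vtab XYgens V0 (128 * 319 + k)) = true := by decide +kernel
theorem kV_320 : (List.range 128).all (fun k => chkVn Vtab XYgens V0 (128 * 320 + k)) = true := by decide +kernel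
theorem kV_321 : (List.range 128).all (fun k => chkVn Vtab XYgens V0 (128 * 321 + k)) = true := by decide +kernel
theorem kV_322 : (List.range 128).all (fun k => chkVn Vtab XYgens V0 (128 * 322 + k)) = true := by decide +kernel
theorem kV_323 : (List.range 128).all (fun k => chkVn Vtab XYgens V0 (128 * 323 + k)) = true := by decide +kernel
theorem kV_324 : (List.range 128).all (fun k => chkVn Vtab XYgens V0 (128 * 324 + k)) = true := by decide +kernel
theorem kV_325 : (List.range 128).all (fun k => chkVn Vtab XYgens V0 (128 * 325 + k)) = true := by decide +kernel
theorem kV_326 : (List.range 128).all (fun k => chkVn Vtab XYgens V0 (128 * 326 + k)) = true := by decide +kernel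
theorem kV_327 : (List.range 128).all (fun k => chkVn Vtab XYgens V0 (128 * 327 + k)) = true := by decide +kernel
theorem kV_328 : (List.range 128).all (fun k => chkVn Vtab XYgens V0 (128 * 328 + k)) = true := by decide +kernel
theorem kV_329 : (List.range 128).all (fun k => chkVn Vtab XYgens V0 (128 * 329 + k)) = true := by decide +kernel
theorem kV_330 : (List.range 128).all (fun k => chkVn Vtab XYgens V0 (128 * 330 + k)) = true := by decide +kernel
theorem kV_331 : (List.range 128).all (fun k => chkVn Vtab XYgens V0 (128 * 331 + k)) = true := by decide +kernel
theorem kV_332 : (List.range 128).all (fun k => chkVn Vtab XYgens V0 (128 * 332 + k)) = true := by decide +kernel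
theorem kV_333 : (List.range 128).all (fun k => chkVn Vtab XYgens V0 (128 * 333 + k)) = true := by decide +kernel
theorem kV_334 : (List.range 128).all (fun k => chkVn Vtab XYgens V0 (128 * 334 + k)) = true := by decide +kernel
theorem kV_335 : (List.range 128).all (fun k => chkVn Vtab XYgens V0 (128 * 335 + k)) = true := by decide +kernel
theorem kV_336 : (List.range 128).all (fun k => chkVn Vtab XYgens V0 (128 * 336 + k)) = true := by decide +kernel
theorem kV_337 : (List.range 128).all (fun k => chkVn Vtab XYgens V0 (128 * 337 + k)) = true := by decide +kernel
theorem kV_338 : (List.range 128).all (fun k => chkVn Vtab XYgens V0 (128 * 338 + k)) = true := by decide +kernel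
theorem kV_339 : (List.range 128).all (fun k => chkVn Vtab XYgens V0 (128 * 339 + k)) = true := by decide +kernel
theorem kV_340 : (List.range 128).all (fun k => chkVn Vtab XYgens V0 (128 * 340 + k)) = true := by decide +kernel
theorem kV_341 : (List.range 128).all (fun k => chkVn Vtab XYgens V0 (128 * 341 + k)) = true := by decide +kernel
theorem kV_342 : (List.range 128).all (fun k => chkVn Vtab XYgens V0 (128 * 342 + k)) = true := by decide +kernel
theorem kV_343 : (List.range 128).all (fun k => chkVn Vtab XYgens V0 (128 * 343 + k)) = true := by decide +kernel
theorem kV_344 : (List.range 128).all (fun k => chkVn Vtab XYgens V0 (128 * 344 + k)) = true := by decide +kernel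
theorem kV_345 : (List.range 128).all (fun k => chkVn Vtab XYgens V0 (128 * 345 + k)) = true := by decide +kernel
theorem kV_346 : (List.range 128).all (fun k => chkVn Vtab XYgens V0 (128 * 346 + k)) = true := by decide +kernel
theorem kV_347 : (List.range 128).all (fun k => chkVn Vtab XYgens V0 (128 * 347 + k)) = true := by decide +kernel
theorem kV_348 : (List.range 128).all (fun k => chkVn Vtab XYgens V0 (128 * 348 + k)) = true := by decide +kernel
theorem kV_349 : (List.range 128).all (fun k => chkVn Vtab XYgens V0 (128 * 349 + k)) = true := by decide +kernel
theorem kV_350 : (List.range 128).all (fun k => chkVn Vtab XYgens V0 (128 * 350 + k)) = true := by decide +kernel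
theorem kV_351 : (List.range 128).all (fun k => chkVn Vtab XYgens V0 (128 * 351 + k)) = true := by decide +kernel
theorem kV_352 : (List.range 128).all (fun k => chkVn Vtab XYgens V0 (128 * 352 + k)) = true := by decide +kernel
theorem kV_353 : (List.range 128).all (fun k => chkVn Vtab XYgens V0 (128 * 353 + k)) = true := by decide +kernel
theorem kV_354 : (List.range 128).all (fun k => chkVn Vtab XYgens V0 (128 * 354 + k)) = true := by decide +kernel
theorem kV_355 : (List.range 128).all (fun k => chkVn Vtab XYgens V0 (128 * 355 + k)) = true := by decide +kernel
theorem kV_356 : (List.range 128).all (fun k => chkVn Vtab XYgens V0 (128 * 356 + k)) = true := by decide +kernel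
theorem kV_357 : (List.range 128).all (fun k => chkVn Vtab XYgens V0 (128 * 357 + k)) = true := by decide +kernel
theorem kV_358 : (List.range 128).all (fun k => chkVn Vtab XYgens V0 (128 * 358 + k)) = true := by decide +kernel
theorem kV_359 : (List.range 128).all (fun k => chkVn Vtab XYgens V0 (128 * 359 + k)) = true := by decide +kernel
theorem kV_360 : (List.range 128).all (fun k => chkVn Vtab XYgens V0 (128 * 360 + k)) = true := by decide +kernel
theorem kV_361 : (List.range 128).all (fun k => chkVn Vtab XYgens V0 (128 * 361 + k)) = true := by decide +kernel
theorem kV_362 : (List.range 128).all (fun k => chkVn Vtab XYgens V0 (128 * 362 + k)) = true := by decide +kernel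
theorem kV_363 : (List.range 128).all (fun k => chkVn Vtab XYgens V0 (128 * 363 + k)) = true := by decide +kernel
theorem kV_364 : (List.range 128).all (fun k => chkVn Vtab XYgens V0 (128 * 364 + k)) = true := by decide +kernel
theorem kV_365 : (List.range 128).all (fun k => chkVn Vtab XYgens V0 (128 * 365 + k)) = true := by decide +kernel
theorem kV_366 : (List.range 128).all (fun k => chkVn Vtab XYgens V0 (128 * 366 + k)) = true := by decide +kernel
theorem kV_367 : (List.range 128).all (fun k => chkVn Vtab XYgens V0 (128 * 367 + k)) = true := by decide +kernel
theorem kV_368 : (List.range 128).all (fun k => chkVn Vtab XYgens V0 (128 * 368 + k)) = true := by decide +kernel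
theorem kV_369 : (List.range 128).all (fun k => chkVn Vtab XYgens V0 (128 * 369 + k)) = true := by decide +kernel
theorem kV_370 : (List.range 128).all (fun k => chkVn Vtab XYgens V0 (128 * 370 + k)) = true := by decide +kernel
theorem kV_371 : (List.range 128).all (fun k => chkVn Vtab XYgens V0 (128 * 371 + k)) = true := by decide +kernel
theorem kV_372 : (List.range 128).all (fun k => chkVn Vtab XYgens V0 (128 * 372 + k)) = true := by decide +kernel
theorem kV_373 : (List.range 128).all (fun k => chkVn Vtab XYgens V0 (128 * 373 + k)) = true := by decide +kernel
theorem kV_374 : (List.range 128).all (fun k => chkVn Vtab XYgens V0 (128 * 374 + k)) = true := by decide +kernel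
theorem kV_375 : (List.range 128).all (fun k => chkVn Vtab XYgens V0 (128 * 375 + k)) = true := by decide +kernel
theorem kV_376 : (List.range 128).all (fun k => chkVn Vtab XYgens V0 (128 * 376 + k)) = true := by decide +kernel
theorem kV_377 : (List.range 128).all (fun k => chkVn Vtab XYgens V0 (128 * 377 + k)) = true := by decide +kernel
theorem kV_378 : (List.range 128).all (fun k => chkVn Vtab XYgens V0 (128 * 378 + k)) = true := by decide +kernel
theorem kV_379 : (List.range 128).all (fun k => chkVn Vtab XYgens V0 (128 * 379 + k)) = true := by decide +kernel
theorem kV_380 : (List.range 128).all (fun k => chkVn Vtab XYgens V0 (128 * 380 + k)) = true := by decide +kernel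
theorem kV_381 : (List.range 128).all (fun k => chkVn Vtab XYgens V0 (128 * 381 + k)) = true := by decide +kernel
theorem kV_382 : (List.range 128).all (fun k => chkVn Vtab XYgens V0 (128 * 382 + k)) = true := by decide +kernel
theorem kV_383 : (List.range 128).all (fun k => chkVn Vtab XYgens V0 (128 * 383 + k)) = true := by decide +kernel

theorem chkV_2 : ∀ n, 32768 ≤ n → n < 49152 → chkVn Vtab XYgens V0 n = true := by
  intro n h1 h2
  obtain ⟨J, hJ⟩ : ∃ J, J = n / 128 := ⟨_, rfl⟩
  have hJ1 : 256 ≤ J := by omega
  have hJ2 : J < 384 := by omega
  interval_cases J
  · exact chunk_apply kV_256 (by omega) (by omega)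
  · exact chunk_apply kV_257 (by omega) (by omega)
  · exact chunk_apply kV_258 (by omega) (by omega)
  · exact chunk_apply kV_259 (by omega) (by omega)
  · exact chunk_apply kV_260 (by omega) (by omega)
  · exact chunk_apply kV_261 (by omega) (by omega)
  · exact chunk_apply kV_262 (by omega) (by omega)
  · exact chunk_apply kV_263 (by omega) (by omega)
  · exact chunk_apply kV_264 (by omega) (by omega)
  · exact chunk_apply kV_265 (by omega) (by omega)
  · exact chunk_apply kV_266 (by omega) (by omega)
  · exact chunk_apply kV_267 (by omega) (by omega)
  · exact chunk_apply kV_268 (by omega) (by omega)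
  · exact chunk_apply kV_269 (by omega) (by omega)
  · exact chunk_apply kV_270 (by omega) (by omega)
  · exact chunk_apply kV_271 (by omega) (by omega)
  · exact chunk_apply kV_272 (by omega) (by omega)
  · exact chunk_apply kV_273 (by omega) (by omega)
  · exact chunk_apply kV_274 (by omega) (by omega)
  · exact chunk_apply kV_275 (by omega) (by omega)
  · exact chunk_apply kV_276 (by omega) (by omega)
  · exact chunk_apply kV_277 (by omega) (by omega)
  · exact chunk_apply kV_278 (by omega) (by omega)
  · exact chunk_apply kV_279 (by omega) (by omega)
  · exact chunk_apply kV_280 (by omega) (by omega)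
  · exact chunk_apply kV_281 (by omega) (by omega)
  · exact chunk_apply kV_282 (by omega) (by omega)
  · exact chunk_apply kV_283 (by omega) (by omega)
  · exact chunk_apply kV_284 (by omega) (by omega)
  · exact chunk_apply kV_285 (by omega) (by omega)
  · exact chunk_apply kV_286 (by omega) (by omega)
  · exact chunk_apply kV_287 (by omega) (by omega)
  · exact chunk_apply kV_288 (by omega) (by omega)
  · exact chunk_apply kV_289 (by omega) (by omega)
  · exact chunk_apply kV_290 (by omega) (by omega)
  · exact chunk_apply kV_291 (by omega) (by omega)
  · exact chunk_apply kV_292 (by omega) (by omega)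
  · exact chunk_apply kV_293 (by omega) (by omega)
  · exact chunk_apply kV_294 (by omega) (by omega)
  · exact chunk_apply kV_295 (by omega) (by omega)
  · exact chunk_apply kV_296 (by omega) (by omega)
  · exact chunk_apply kV_297 (by omega) (by omega)
  · exact chunk_apply kV_298 (by omega) (by omega)
  · exact chunk_apply kV_299 (by omega) (by omega)
  · exact chunk_apply kV_300 (by omega) (by omega)
  · exact chunk_apply kV_301 (by omega) (by omega)
  · exact chunk_apply kV_302 (by omega) (by omega)
  · exact chunk_apply kV_303 (by omega) (by omega)
  · exact chunk_apply kV_304 (by omega) (by omega)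
  · exact chunk_apply kV_305 (by omega) (by omega)
  · exact chunk_apply kV_306 (by omega) (by omega)
  · exact chunk_apply kV_307 (by omega) (by omega)
  · exact chunk_apply kV_308 (by omega) (by omega)
  · exact chunk_apply kV_309 (by omega) (by omega)
  · exact chunk_apply kV_310 (by omega) (by omega)
  · exact chunk_apply kV_311 (by omega) (by omega)
  · exact chunk_apply kV_312 (by omega) (by omega)
  · exact chunk_apply kV_313 (by omega) (by omega)
  · exact chunk_apply kV_314 (by omega) (by omega)
  · exact chunk_apply kV_315 (by omega) (by omega)
  · exact chunk_apply kV_316 (by omega) (by omega)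
  · exact chunk_apply kV_317 (by omega) (by omega)
  · exact chunk_apply kV_318 (by omega) (by omega)
  · exact chunk_apply kV_319 (by omega) (by omega)
  · exact chunk_apply kV_320 (by omega) (by omega)
  · exact chunk_apply kV_321 (by omega) (by omega)
  · exact chunk_apply kV_322 (by omega) (by omega)
  · exact chunk_apply kV_323 (by omega) (by omega)
  · exact chunk_apply kV_324 (by omega) (by omega)
  · exact chunk_apply kV_325 (by omega) (by omega)
  · exact chunk_apply kV_326 (by omega) (by omega)
  · exact chunk_apply kV_327 (by omega) (by omega)
  · exact chunk_apply kV_328 (by omega) (by omega)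
  · exact chunk_apply kV_329 (by omega) (by omega)
  · exact chunk_apply kV_330 (by omega) (by omega)
  · exact chunk_apply kV_331 (by omega) (by omega)
  · exact chunk_apply kV_332 (by omega) (by omega)
  · exact chunk_apply kV_333 (by omega) (by omega)
  · exact chunk_apply kV_334 (by omega) (by omega)
  · exact chunk_apply kV_335 (by omega) (by omega)
  · exact chunk_apply kV_336 (by omega) (by omega)
  · exact chunk_apply kV_337 (by omega) (by omega)
  · exact chunk_apply kV_338 (by omega) (by omega)
  · exact chunk_apply kV_339 (by omega) (by omega)
  · exact chunk_apply kV_340 (by omega) (by omega)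
  · exact chunk_apply kV_341 (by omega) (by omega)
  · exact chunk_apply kV_342 (by omega) (by omega)
  · exact chunk_apply kV_343 (by omega) (by omega)
  · exact chunk_apply kV_344 (by omega) (by omega)
  · exact chunk_apply kV_345 (by omega) (by omega)
  · exact chunk_apply kV_346 (by omega) (by omega)
  · exact chunk_apply kV_347 (by omega) (by omega)
  · exact chunk_apply kV_348 (by omega) (by omega)
  · exact chunk_apply kV_349 (by omega) (by omega)
  · exact chunk_apply kV_350 (by omega) (by omega)
  · exact chunk_apply kV_351 (by omega) (by omega)
  · exact chunk_apply kV_352 (by omega) (by omega)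
  · exact chunk_apply kV_353 (by omega) (by omega)
  · exact chunk_apply kV_354 (by omega) (by omega)
  · exact chunk_apply kV_355 (by omega) (by omega)
  · exact chunk_apply kV_356 (by omega) (by omega)
  · exact chunk_apply kV_357 (by omega) (by omega)
  · exact chunk_apply kV_358 (by omega) (by omega)
  · exact chunk_apply kV_359 (by omega) (by omega)
  · exact chunk_apply kV_360 (by omega) (by omega)
  · exact chunk_apply kV_361 (by omega) (by omega)
  · exact chunk_apply kV_362 (by omega) (by omega)
  · exact chunk_apply kV_363 (by omega) (by omega)
  · exact chunk_apply kV_364 (by omega) (by omega)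
  · exact chunk_apply kV_365 (by omega) (by omega)
  · exact chunk_apply kV_366 (by omega) (by omega)
  · exact chunk_apply kV_367 (by omega) (by omega)
  · exact chunk_apply kV_368 (by omega) (by omega)
  · exact chunk_apply kV_369 (by omega) (by omega)
  · exact chunk_apply kV_370 (by omega) (by omega)
  · exact chunk_apply kV_371 (by omega) (by omega)
  · exact chunk_apply kV_372 (by omega) (by omega)
  · exact chunk_apply kV_373 (by omega) (by omega)
  · exact chunk_apply kV_374 (by omega) (by omega)
  · exact chunk_apply kV_375 (by omega) (by omega)
  · exact chunk_apply kV_376 (by omega) (by omega)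
  · exact chunk_apply kV_377 (by omega) (by omega)
  · exact chunk_apply kV_378 (by omega) (by omega)
  · exact chunk_apply kV_379 (by omega) (by omega)
  · exact chunk_apply kV_380 (by omega) (by omega)
  · exact chunk_apply kV_381 (by omega) (by omega)
  · exact chunk_apply kV_382 (by omega) (by omega)
  · exact chunk_apply kV_383 (by omega) (by omega)

end Cfsg.Agent.Helper14.J3
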