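import Mathlib
import Cfsg.Agent.Helper14.J3Y

set_option autoImplicit false

namespace Cfsg.Agent.Helper14.J3

theorem kV_384 : (List.range 128).all (fun k => chkVn Vtab XYgens V0 (128 * 384 + k)) = true := by decide +kernel
theorem kV_385 : (List.range 128).all (fun k => chkVn Vtab XYgens V0 (128 * 385 + k)) = true := by decide +kernel
theorem kV_386 : (List.range 128).all (fun k => chkVn Vtab XYgens V0 (128 * 386 + k)) = true := by decide +kernel
theorem kV_387 : (List.range 128).all (fun k => chkVn Vtab XYgens V0 (128 * 387 + k)) = true := by decide +kernel
theorem kV_388 : (List.range 128).all (fun k => chkVn Vtab XYgens V0 (128 * 388 + k)) = true := by decide +kernel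
theorem kV_389 : (List.range 128).all (fun k => chkVn Vtab XYgens V0 (128 * 389 + k)) = true := by decide +kernel
theorem kV_390 : (List.range 128).all (fun k => chkVn Vtab XYgens V0 (128 * 390 + k)) = true := by decide +kernel
theorem kV_391 : (List.range 128).all (fun k => chkVn Vtab XYgens V0 (128 * 391 + k)) = true := by decide +kernel
theorem kV_392 : (List.range 128).all (fun k => chkVn Vtab XYgens V0 (128 * 392 + k)) = true := by decide +kernel
theorem kV_393 : (List.range 128).all (fun k => chkVn Vtab XYgens V0 (128 * 393 + k)) = true := by decide +kernel
theorem kV_394 : (List.range 128).all (fun k => chkVn Vtab XYgens V0 (128 * 394 + k)) = true := by decide +kernel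
theorem kV_395 : (List.range 128).all (fun k => chkVn Vtab XYgens V0 (128 * 395 + k)) = true := by decide +kernel
theorem kV_396 : (List.range 128).all (fun k => chkVn Vtab XYgens V0 (128 * 396 + k)) = true := by decide +kernel
theorem kV_397 : (List.range 128).all (fun k => chkVn Vtab XYgens V0 (128 * 397 + k)) = true := by decide +kernel
theorem kV_398 : (List.range 128).all (fun k => chkVn Vtab XYgens V0 (128 * 398 + k)) = true := by decide +kernel
theorem kV_399 : (List.range 128).all (fun k => chkVn Vtab XYgens V0 (128 * 399 + k)) = true := by decide +kernel
theorem kV_400 : (List.range 128).all (fun k => chkVn Vtab XYgens V0 (128 * 400 + k)) = true := by decide +kernel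
theorem kV_401 : (List.range 128).all (fun k => chkVn Vtab XYgens V0 (128 * 401 + k)) = true := by decide +kernel
theorem kV_402 : (List.range 128).all (fun k => chkVn Vtab XYgens V0 (128 * 402 + k)) = true := by decide +kernel
theorem kV_403 : (List.range 128).all (fun k => chkVn Vtab XYgens V0 (128 * 403 + k)) = true := by decide +kernel
theorem kV_404 : (List.range 128).all (fun k => chkVn Vtab XYgens V0 (128 * 404 + k)) = true := by decide +kernel
theorem kV_405 : (List.range 128).all (fun k => chkVn Vtab XYgens V0 (128 * 405 + k)) = true := by decide +kernel
theorem kV_406 : (List.range 128).all (fun k => chkVn Vtab XYgens V0 (128 * 406 + k)) = true := by decide +kernel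
theorem kV_407 : (List.range 128).all (fun k => chkVn Vtab XYgens V0 (128 * 407 + k)) = true := by decide +kernel
theorem kV_408 : (List.range 128).all (fun k => chkVn Vtab XYgens V0 (128 * 408 + k)) = true := by decide +kernel
theorem kV_409 : (List.range 128).all (fun k => chkVn Vtab XYgens V0 (128 * 409 + k)) = true := by decide +kernel
theorem kV_410 : (List.range 128).all (fun k => chkVn Vtab XYgens V0 (128 * 410 + k)) = true := by decide +kernel
theorem kV_411 : (List.range 128).all (fun k => chkVn Vtab XYgens V0 (128 * 411 + k)) = true := by decide +kernel
theorem kV_412 : (List.range 128).all (fun k => chkVn Vtab XYgens V0 (128 * 412 + k)) = true := by decide +kernel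
theorem kV_413 : (List.range 128).all (fun k => chkVn Vtab XYgens V0 (128 * 413 + k)) = true := by decide +kernel
theorem kV_414 : (List.range 128).all (fun k => chkVn Vtab XYgens V0 (128 * 414 + k)) = true := by decide +kernel
theorem kV_415 : (List.range 128).all (fun k => chkVn Vtab XYgens V0 (128 * 415 + k)) = true := by decide +kernel
theorem kV_416 : (List.range 128).all (fun k => chkVn Vtab XYgens V0 (128 * 416 + k)) = true := by decide +kernel
theorem kV_417 : (List.range 128).all (fun k => chkVn Vtab XYgens V0 (128 * 417 + k)) = true := by decide +kernel
theorem kV_418 : (List.range 128).all (fun k => chkVn Vtab XYgens V0 (128 * 418 + k)) = true := by decide +kernel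
theorem kV_419 : (List.range 128).all (fun k => chkVn Vtab XYgens V0 (128 * 419 + k)) = true := by decide +kernel
theorem kV_420 : (List.range 128).all (fun k => chkVn Vtab XYgens V0 (128 * 420 + k)) = true := by decide +kernel
theorem kV_421 : (List.range 128).all (fun k => chkVn Vtab XYgens V0 (128 * 421 + k)) = true := by decide +kernel
theorem kV_422 : (List.range 128).all (fun k => chkVn Vtab XYgens V0 (128 * 422 + k)) = true := by decide +kernel
theorem kV_423 : (List.range 128).all (fun k => chkVn Vtab XYgens V0 (128 * 423 + k)) = true := by decide +kernel
theorem kV_424 : (List.range 128).all (fun k => chkVn Vtab XYgens V0 (128 * 424 + k)) = true := by decide +kernel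
theorem kV_425 : (List.range 128).all (fun k => chkVn Vtab XYgens V0 (128 * 425 + k)) = true := by decide +kernel
theorem kV_426 : (List.range 128).all (fun k => chkVn Vtab XYgens V0 (128 * 426 + k)) = true := by decide +kernel
theorem kV_427 : (List.range 128).all (fun k => chkVn Vtab XYgens V0 (128 * 427 + k)) = true := by decide +kernel
theorem kV_428 : (List.range 128).all (fun k => chkVn Vtab XYgens V0 (128 * 428 + k)) = true := by decide +kernel
theorem kV_429 : (List.range 128).all (fun k => chkVn Vtab XYgens V0 (128 * 429 + k)) = true := by decide +kernel
theorem kV_430 : (List.range 128).all (fun k => chkVn Vtab XYgens V0 (128 * 430 + k)) = true := by decide +kernel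
theorem kV_431 : (List.range 128).all (fun k => chkVn Vtab XYgens V0 (128 * 431 + k)) = true := by decide +kernel
theorem kV_432 : (List.range 128).all (fun k => chkVn Vtab XYgens V0 (128 * 432 + k)) = true := by decide +kernel
theorem kV_433 : (List.range 128).all (fun k => chkVn Vtab XYgens V0 (128 * 433 + k)) = true := by decide +kernel
theorem kV_434 : (List.range 128).all (fun k => chkVn Vtab XYgens V0 (128 * 434 + k)) = true := by decide +kernel
theorem kV_435 : (List.range 128).all (fun k => chkVn Vtab XYgens V0 (128 * 435 + k)) = true := by decide +kernel
theorem kV_436 : (List.range 128).all (fun k => chkVn Vtab XYgens V0 (128 * 436 + k)) = true := by decide +kernel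
theorem kV_437 : (List.range 128).all (fun k => chkVn Vtab XYgens V0 (128 * 437 + k)) = true := by decide +kernel
theorem kV_438 : (List.range 128).all (fun k => chkVn Vtab XYgens V0 (128 * 438 + k)) = true := by decide +kernel
theorem kV_439 : (List.range 128).all (fun k => chkVn Vtab XYgens V0 (128 * 439 + k)) = true := by decide +kernel
theorem kV_440 : (List.range 128).all (fun k => chkVn Vtab XYgens V0 (128 * 440 + k)) = true := by decide +kernel
theorem kV_441 : (List.range 128).all (fun k => chkVn Vtab XYgens V0 (128 * 441 + k)) = true := by decide +kernel
theorem kV_442 : (List.range 128).all (fun k => chkVn Vtab XYgens V0 (128 * 442 + k)) = true := by decide +kernel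
theorem kV_443 : (List.range 128).all (fun k => chkVn Vtab XYgens V0 (128 * 443 + k)) = true := by decide +kernel
theorem kV_444 : (List.range 128).all (fun k => chkVn Vtab XYgens V0 (128 * 444 + k)) = true := by decide +kernel
theorem kV_445 : (List.range 128).all (fun k => chkVn Vtab XYgens V0 (128 * 445 + k)) = true := by decide +kernel
theorem kV_446 : (List.range 128).all (fun k => chkVn Vtab XYgens V0 (128 * 446 + k)) = true := by decide +kernel
theorem kV_447 : (List.range 128).all (fun k => chkVn Vtab XYgens V0 (128 * 447 + k)) = true := by decide +kernel
theorem kV_448 : (List.range 128).all (fun k => chkVn Vtab XYgens V0 (128 * 448 + k)) = true := by decide +kernel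
theorem kV_449 : (List.range 128).all (fun k => chkVn Vtab XYgens V0 (128 * 449 + k)) = true := by decide +kernel
theorem kV_450 : (List.range 128).all (fun k => chkVn Vtab XYgens V0 (128 * 450 + k)) = true := by decide +kernel
theorem kV_451 : (List.range 128).all (fun k => chkVn Vtab XYgens V0 (128 * 451 + k)) = true := by decide +kernel
theorem kV_452 : (List.range 128).all (fun k => chkVn Vtab XYgens V0 (128 * 452 + k)) = true := by decide +kernel
theorem kV_453 : (List.range 128).all (fun k => chkVn Vtab XYgens V0 (128 * 453 + k)) = true := by decide +kernel
theorem kV_454 : (List.range 128).all (fun k => chkVn Vtab XYgens V0 (128 * 454 + k)) = true := by decide +kernel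
theorem kV_455 : (List.range 128).all (fun k => chkVn Vtab XYgens V0 (128 * 455 + k)) = true := by decide +kernel
theorem kV_456 : (List.range 128).all (fun k => chkVn Vtab XYgens V0 (128 * 456 + k)) = true := by decide +kernel
theorem kV_457 : (List.range 128).all (fun k => chkVn Vtab XYgens V0 (128 * 457 + k)) = true := by decide +kernel
theorem kV_458 : (List.range 128).all (fun k => chkVn Vtab XYgens V0 (128 * 458 + k)) = true := by decide +kernel
theorem kV_459 : (List.range 128).all (fun k => chkVn Vtab XYgens V0 (128 * 459 + k)) = true := by decide +kernel
theorem kV_460 : (List.range 128).all (fun k => chkVn Vtab XYgens V0 (128 * 460 + k)) = true := by decide +kernel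
theorem kV_461 : (List.range 128).all (fun k => chkVn Vtab XYgens V0 (128 * 461 + k)) = true := by decide +kernel
theorem kV_462 : (List.range 128).all (fun k => chkVn Vtab XYgens V0 (128 * 462 + k)) = true := by decide +kernel
theorem kV_463 : (List.range 128).all (fun k => chkVn Vtab XYgens V0 (128 * 463 + k)) = true := by decide +kernel
theorem kV_464 : (List.range 128).all (fun k => chkVn Vtab XYgens V0 (128 * 464 + k)) = true := by decide +kernel
theorem kV_465 : (List.range 128).all (fun k => chkVn Vtab XYgens V0 (128 * 465 + k)) = true := by decide +kernel
theorem kV_466 : (List.range 128).all (fun k => chkVn Vtab XYgens V0 (128 * 466 + k)) = true := by decide +kernel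
theorem kV_467 : (List.range 128).all (fun k => chkVn Vtab XYgens V0 (128 * 467 + k)) = true := by decide +kernel
theorem kV_468 : (List.range 128).all (fun k => chkVn Vtab XYgens V0 (128 * 468 + k)) = true := by decide +kernel
theorem kV_469 : (List.range 128).all (fun k => chkVn Vtab XYgens V0 (128 * 469 + k)) = true := by decide +kernel
theorem kV_470 : (List.range 128).all (fun k => chkVn Vtab XYgens V0 (128 * 470 + k)) = true := by decide +kernel
theorem kV_471 : (List.range 128).all (fun k => chkVn Vtab XYgens V0 (128 * 471 + k)) = true := by decide +kernel
theorem kV_472 : (List.range 128).all (fun k => chkVn Vtab XYgens V0 (128 * 472 + k)) = true := by decide +kernel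
theorem kV_473 : (List.range 128).all (fun k => chkVn Vtab XYgens V0 (128 * 473 + k)) = true := by decide +kernel
theorem kV_474 : (List.range 128).all (fun k => chkVn Vtab XYgens V0 (128 * 474 + k)) = true := by decide +kernel
theorem kV_475 : (List.range 128).all (fun k => chkVn Vtab XYgens V0 (128 * 475 + k)) = true := by decide +kernel
theorem kV_476 : (List.range 128).all (fun k => chkVn Vtab XYgens V0 (128 * 476 + k)) = true := by decide +kernel
theorem kV_477 : (List.range 128).all (fun k => chkVn Vtab XYgens V0 (128 * 477 + k)) = true := by decide +kernel
theorem kV_478 : (List.range 128).all (fun k => chkVn Vtab XYgens V0 (128 * 478 + k)) = true := by decide +kernel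
theorem kV_479 : (List.range 128).all (fun k => chkVn Vtab XYgens V0 (128 * 479 + k)) = true := by decide +kernel
theorem kV_480 : (List.range 128).all (fun k => chkVn Vtab XYgens V0 (128 * 480 + k)) = true := by decide +kernel
theorem kV_481 : (List.range 128).all (fun k => chkVn Vtab XYgens V0 (128 * 481 + k)) = true := by decide +kernel
theorem kV_482 : (List.range 128).all (fun k => chkVn Vtab XYgens V0 (128 * 482 + k)) = true := by decide +kernel
theorem kV_483 : (List.range 128).all (fun k => chkVn Vtab XYgens V0 (128 * 483 + k)) = true := by decide +kernel
theorem kV_484 : (List.range 128).all (fun k => chkVn Vtab XYgens V0 (128 * 484 + k)) = true := by decide +kernel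
theorem kV_485 : (List.range 128).all (fun k => chkVn Vtab XYgens V0 (128 * 485 + k)) = true := by decide +kernel
theorem kV_486 : (List.range 128).all (fun k => chkVn Vtab XYgens V0 (128 * 486 + k)) = true := by decide +kernel
theorem kV_487 : (List.range 128).all (fun k => chkVn Vtab XYgens V0 (128 * 487 + k)) = true := by decide +kernel
theorem kV_488 : (List.range 128).all (fun k => chkVn Vtab XYgens V0 (128 * 488 + k)) = true := by decide +kernel
theorem kV_489 : (List.range 128).all (fun k => chkVn Vtab XYgens V0 (128 * 489 + k)) = true := by decide +kernel
theorem kV_490 : (List.range 128).all (fun k => chkVn Vtab XYgens V0 (128 * 490 + k)) = true := by decide +kernel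
theorem kV_491 : (List.range 128).all (fun k => chkVn Vtab XYgens V0 (128 * 491 + k)) = true := by decide +kernel
theorem kV_492 : (List.range 128).all (fun k => chkVn Vtab XYgens V0 (128 * 492 + k)) = true := by decide +kernel
theorem kV_493 : (List.range 128).all (fun k => chkVn Vtab XYgens V0 (128 * 493 + k)) = true := by decide +kernel
theorem kV_494 : (List.range 128).all (fun k => chkVn Vtab XYgens V0 (128 * 494 + k)) = true := by decide +kernel
theorem kV_495 : (List.range 128).all (fun k => chkVn Vtab XYgens V0 (128 * 495 + k)) = true := by decide +kernel
theorem kV_496 : (List.range 128).all (fun k => chkVn Vtab XYgens V0 (128 * 496 + k)) = true := by decide +kernel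
theorem kV_497 : (List.range 128).all (fun k => chkVn Vtab XYgens V0 (128 * 497 + k)) = true := by decide +kernel
theorem kV_498 : (List.range 128).all (fun k => chkVn Vtab XYgens V0 (128 * 498 + k)) = true := by decide +kernel
theorem kV_499 : (List.range 128).all (fun k => chkVn Vtab XYgens V0 (128 * 499 + k)) = true := by decide +kernel
theorem kV_500 : (List.range 128).all (fun k => chkVn Vtab XYgens V0 (128 * 500 + k)) = true := by decide +kernel
theorem kV_501 : (List.range 128).all (fun k => chkVn Vtab XYgens V0 (128 * 501 + k)) = true := by decide +kernel
theorem kV_502 : (List.range 128).all (fun k => chkVn Vtab XYgens V0 (128 * 502 + k)) = true := by decide +kernel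
theorem kV_503 : (List.range 128).all (fun k => chkVn Vtab XYgens V0 (128 * 503 + k)) = true := by decide +kernel
theorem kV_504 : (List.range 128).all (fun k => chkVn Vtab XYgens V0 (128 * 504 + k)) = true := by decide +kernel
theorem kV_505 : (List.range 128).all (fun k => chkVn Vtab XYgens V0 (128 * 505 + k)) = true := by decide +kernel
theorem kV_506 : (List.range 128).all (fun k => chkVn Vtab XYgens V0 (128 * 506 + k)) = true := by decide +kernel
theorem kV_507 : (List.range 128).all (fun k => chkVn Vtab XYgens V0 (128 * 507 + k)) = true := by decide +kernel
theorem kV_508 : (List.range 128).all (fun k => chkVn Vtab XYgens V0 (128 * 508 + k)) = true := by decide +kernel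
theorem kV_509 : (List.range 128).all (fun k => chkVn Vtab XYgens V0 (128 * 509 + k)) = true := by decide +kernel
theorem kV_510 : (List.range 128).all (fun k => chkVn Vtab XYgens V0 (128 * 510 + k)) = true := by decide +kernel
theorem kV_511 : (List.range 128).all (fun k => chkVn Vtab XYgens V0 (128 * 511 + k)) = true := by decide +kernel

theorem chkV_3 : ∀ n, 49152 ≤ n → n < 65536 → chkVn Vtab XYgens V0 n = true := by
  intro n h1 h2
  obtain ⟨J, hJ⟩ : ∃ J, J = n / 128 := ⟨_, rfl⟩
  have hJ1 : 384 ≤ J := by omega
  have hJ2 : J < 512 := by omega
  interval_cases J
  · exact chunk_apply kV_384 (by omega) (by omega)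
  · exact chunk_apply kV_385 (by omega) (by omega)
  · exact chunk_apply kV_386 (by omega) (by omega)
  · exact chunk_apply kV_387 (by omega) (by omega)
  · exact chunk_apply kV_388 (by omega) (by omega)
  · exact chunk_apply kV_389 (by omega) (by omega)
  · exact chunk_apply kV_390 (by omega) (by omega)
  · exact chunk_apply kV_391 (by omega) (by omega)
  · exact chunk_apply kV_392 (by omega) (by omega)
  · exact chunk_apply kV_393 (by omega) (by omega)
  · exact chunk_apply kV_394 (by omega) (by omega)
  · exact chunk_apply kV_395 (by omega) (by omega)
  · exact chunk_apply kV_396 (by omega) (by omega)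
  · exact chunk_apply kV_397 (by omega) (by omega)
  · exact chunk_apply kV_398 (by omega) (by omega)
  · exact chunk_apply kV_399 (by omega) (by omega)
  · exact chunk_apply kV_400 (by omega) (by omega)
  · exact chunk_apply kV_401 (by omega) (by omega)
  · exact chunk_apply kV_402 (by omega) (by omega)
  · exact chunk_apply kV_403 (by omega) (by omega)
  · exact chunk_apply kV_404 (by omega) (by omega)
  · exact chunk_apply kV_405 (by omega) (by omega)
  · exact chunk_apply kV_406 (by omega) (by omega)
  · exact chunk_apply kV_407 (by omega) (by omega)
  · exact chunk_apply kV_408 (by omega) (by omega)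
  · exact chunk_apply kV_409 (by omega) (by omega)
  · exact chunk_apply kV_410 (by omega) (by omega)
  · exact chunk_apply kV_411 (by omega) (by omega)
  · exact chunk_apply kV_412 (by omega) (by omega)
  · exact chunk_apply kV_413 (by omega) (by omega)
  · exact chunk_apply kV_414 (by omega) (by omega)
  · exact chunk_apply kV_415 (by omega) (by omega)
  · exact chunk_apply kV_416 (by omega) (by omega)
  · exact chunk_apply kV_417 (by omega) (by omega)
  · exact chunk_apply kV_418 (by omega) (by omega)
  · exact chunk_apply kV_419 (by omega) (by omega)
  · exact chunk_apply kV_420 (by omega) (by omega)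
  · exact chunk_apply kV_421 (by omega) (by omega)
  · exact chunk_apply kV_422 (by omega) (by omega)
  · exact chunk_apply kV_423 (by omega) (by omega)
  · exact chunk_apply kV_424 (by omega) (by omega)
  · exact chunk_apply kV_425 (by omega) (by omega)
  · exact chunk_apply kV_426 (by omega) (by omega)
  · exact chunk_apply kV_427 (by omega) (by omega)
  · exact chunk_apply kV_428 (by omega) (by omega)
  · exact chunk_apply kV_429 (by omega) (by omega)
  · exact chunk_apply kV_430 (by omega) (by omega)
  · exact chunk_apply kV_431 (by omega) (by omega)
  · exact chunk_apply kV_432 (by omega) (by omega)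
  · exact chunk_apply kV_433 (by omega) (by omega)
  · exact chunk_apply kV_434 (by omega) (by omega)
  · exact chunk_apply kV_435 (by omega) (by omega)
  · exact chunk_apply kV_436 (by omega) (by omega)
  · exact chunk_apply kV_437 (by omega) (by omega)
  · exact chunk_apply kV_438 (by omega) (by omega)
  · exact chunk_apply kV_439 (by omega) (by omega)
  · exact chunk_apply kV_440 (by omega) (by omega)
  · exact chunk_apply kV_441 (by omega) (by omega)
  · exact chunk_apply kV_442 (by omega) (by omega)
  · exact chunk_apply kV_443 (by omega) (by omega)
  · exact chunk_apply kV_444 (by omega) (by omega)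
  · exact chunk_apply kV_445 (by omega) (by omega)
  · exact chunk_apply kV_446 (by omega) (by omega)
  · exact chunk_apply kV_447 (by omega) (by omega)
  · exact chunk_apply kV_448 (by omega) (by omega)
  · exact chunk_apply kV_449 (by omega) (by omega)
  · exact chunk_apply kV_450 (by omega) (by omega)
  · exact chunk_apply kV_451 (by omega) (by omega)
  · exact chunk_apply kV_452 (by omega) (by omega)
  · exact chunk_apply kV_453 (by omega) (by omega)
  · exact chunk_apply kV_454 (by omega) (by omega)
  · exact chunk_apply kV_455 (by omega) (by omega)
  · exact chunk_apply kV_456 (by omega) (by omega)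
  · exact chunk_apply kV_457 (by omega) (by omega)
  · exact chunk_apply kV_458 (by omega) (by omega)
  · exact chunk_apply kV_459 (by omega) (by omega)
  · exact chunk_apply kV_460 (by omega) (by omega)
  · exact chunk_apply kV_461 (by omega) (by omega)
  · exact chunk_apply kV_462 (by omega) (by omega)
  · exact chunk_apply kV_463 (by omega) (by omega)
  · exact chunk_apply kV_464 (by omega) (by omega)
  · exact chunk_apply kV_465 (by omega) (by omega)
  · exact chunk_apply kV_466 (by omega) (by omega)
  · exact chunk_apply kV_467 (by omega) (by omega)
  · exact chunk_apply kV_468 (by omega) (by omega)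
  · exact chunk_apply kV_469 (by omega) (by omega)
  · exact chunk_apply kV_470 (by omega) (by omega)
  · exact chunk_apply kV_471 (by omega) (by omega)
  · exact chunk_apply kV_472 (by omega) (by omega)
  · exact chunk_apply kV_473 (by omega) (by omega)
  · exact chunk_apply kV_474 (by omega) (by omega)
  · exact chunk_apply kV_475 (by omega) (by omega)
  · exact chunk_apply kV_476 (by omega) (by omega)
  · exact chunk_apply kV_477 (by omega) (by omega)
  · exact chunk_apply kV_478 (by omega) (by omega)
  · exact chunk_apply kV_479 (by omega) (by omega)
  · exact chunk_apply kV_480 (by omega) (by omega)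
  · exact chunk_apply kV_481 (by omega) (by omega)
  · exact chunk_apply kV_482 (by omega) (by omega)
  · exact chunk_apply kV_483 (by omega) (by omega)
  · exact chunk_apply kV_484 (by omega) (by omega)
  · exact chunk_apply kV_485 (by omega) (by omega)
  · exact chunk_apply kV_486 (by omega) (by omega)
  · exact chunk_apply kV_487 (by omega) (by omega)
  · exact chunk_apply kV_488 (by omega) (by omega)
  · exact chunk_apply kV_489 (by omega) (by omega)
  · exact chunk_apply kV_490 (by omega) (by omega)
  · exact chunk_apply kV_491 (by omega) (by omega)
  · exact chunk_apply kV_492 (by omega) (by omega)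
  · exact chunk_apply kV_493 (by omega) (by omega)
  · exact chunk_apply kV_494 (by omega) (by omega)
  · exact chunk_apply kV_495 (by omega) (by omega)
  · exact chunk_apply kV_496 (by omega) (by omega)
  · exact chunk_apply kV_497 (by omega) (by omega)
  · exact chunk_apply kV_498 (by omega) (by omega)
  · exact chunk_apply kV_499 (by omega) (by omega)
  · exact chunk_apply kV_500 (by omega) (by omega)
  · exact chunk_apply kV_501 (by omega) (by omega)
  · exact chunk_apply kV_502 (by omega) (by omega)
  · exact chunk_apply kV_503 (by omega) (by omega)
  · exact chunk_apply kV_504 (by omega) (by omega)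
  · exact chunk_apply kV_505 (by omega) (by omega)
  · exact chunk_apply kV_506 (by omega) (by omega)
  · exact chunk_apply kV_507 (by omega) (by omega)
  · exact chunk_apply kV_508 (by omega) (by omega)
  · exact chunk_apply kV_509 (by omega) (by omega)
  · exact chunk_apply kV_510 (by omega) (by omega)
  · exact chunk_apply kV_511 (by omega) (by omega)

end Cfsg.Agent.Helper14.J3
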