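import Mathlib
import Cfsg.Agent.Helper14.J3Y

set_option autoImplicit false

namespace Cfsg.Agent.Helper14.J3

theorem kV_512 : (List.range 128).all (fun k => chkVn Vtab XYgens V0 (128 * 512 + k)) = true := by decide +kernel
theorem kV_513 : (List.range 128).all (fun k => chkVn Vtab XYgens V0 (128 * 513 + k)) = true := by decide +kernel
theorem kV_514 : (List.range 128).all (fun k => chkVn Vtab XYgens V0 (128 * 514 + k)) = true := by decide +kernel
theorem kV_515 : (List.range 128).all (fun k => chkVn Vtab XYgens V0 (128 * 515 + k)) = true := by decide +kernel
theorem kV_516 : (List.range 128).all (fun k => chkVn Vtab XYgens V0 (128 * 516 + k)) = true := by decide +kernel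
theorem kV_517 : (List.range 128).all (fun k => chkVn Vtab XYgens V0 (128 * 517 + k)) = true := by decide +kernel
theorem kV_518 : (List.range 128).all (fun k => chkVn Vtab XYgens V0 (128 * 518 + k)) = true := by decide +kernel
theorem kV_519 : (List.range 128).all (fun k => chkVn Vtab XYgens V0 (128 * 519 + k)) = true := by decide +kernel
theorem kV_520 : (List.range 128).all (fun k => chkVn Vtab XYgens V0 (128 * 520 + k)) = true := by decide +kernel
theorem kV_521 : (List.range 128).all (fun k => chkVn Vtab XYgens V0 (128 * 521 + k)) = true := by decide +kernel
theorem kV_522 : (List.range 128).all (fun k => chkVn Vtab XYgens V0 (128 * 522 + k)) = true := by decide +kernel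
theorem kV_523 : (List.range 128).all (fun k => chkVn Vtab XYgens V0 (128 * 523 + k)) = true := by decide +kernel
theorem kV_524 : (List.range 128).all (fun k => chkVn Vtab XYgens V0 (128 * 524 + k)) = true := by decide +kernel
theorem kV_525 : (List.range 128).all (fun k => chkVn Vtab XYgens V0 (128 * 525 + k)) = true := by decide +kernel
theorem kV_526 : (List.range 128).all (fun k => chkVn Vtab XYgens V0 (128 * 526 + k)) = true := by decide +kernel
theorem kV_527 : (List.range 128).all (fun k => chkVn Vtab XYgens V0 (128 * 527 + k)) = true := by decide +kernel
theorem kV_528 : (List.range 128).all (fun k => chkVn Vtab XYgens V0 (128 * 528 + k)) = true := by decide +kernel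
theorem kV_529 : (List.range 128).all (fun k => chkVn Vtab XYgens V0 (128 * 529 + k)) = true := by decide +kernel
theorem kV_530 : (List.range 128).all (fun k => chkVn Vtab XYgens V0 (128 * 530 + k)) = true := by decide +kernel
theorem kV_531 : (List.range 128).all (fun k => chkVn Vtab XYgens V0 (128 * 531 + k)) = true := by decide +kernel
theorem kV_532 : (List.range 128).all (fun k => chkVn Vtab XYgens V0 (128 * 532 + k)) = true := by decide +kernel
theorem kV_533 : (List.range 128).all (fun k => chkVn Vtab XYgens V0 (128 * 533 + k)) = true := by decide +kernel
theorem kV_534 : (List.range 128).all (fun k => chkVn Vtab XYgens V0 (128 * 534 + k)) = true := by decide +kernel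
theorem kV_535 : (List.range 128).all (fun k => chkVn Vtab XYgens V0 (128 * 535 + k)) = true := by decide +kernel
theorem kV_536 : (List.range 128).all (fun k => chkVn Vtab XYgens V0 (128 * 536 + k)) = true := by decide +kernel
theorem kV_537 : (List.range 128).all (fun k => chkVn Vtab XYgens V0 (128 * 537 + k)) = true := by decide +kernel
theorem kV_538 : (List.range 128).all (fun k => chkVn Vtab XYgens V0 (128 * 538 + k)) = true := by decide +kernel
theorem kV_539 : (List.range 128).all (fun k => chkVn Vtab XYgens V0 (128 * 539 + k)) = true := by decide +kernel
theorem kV_540 : (List.range 128).all (fun k => chkVn Vtab XYgens V0 (128 * 540 + k)) = true := by decide +kernel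
theorem kV_541 : (List.range 128).all (fun k => chkVn Vtab XYgens V0 (128 * 541 + k)) = true := by decide +kernel
theorem kV_542 : (List.range 128).all (fun k => chkVn Vtab XYgens V0 (128 * 542 + k)) = true := by decide +kernel
theorem kV_543 : (List.range 128).all (fun k => chkVn Vtab XYgens V0 (128 * 543 + k)) = true := by decide +kernel
theorem kV_544 : (List.range 128).all (fun k => chkVn Vtab XYgens V0 (128 * 544 + k)) = true := by decide +kernel
theorem kV_545 : (List.range 128).all (fun k => chkVn Vtab XYgens V0 (128 * 545 + k)) = true := by decide +kernel
theorem kV_546 : (List.range 128).all (fun k => chkVn Vtab XYgens V0 (128 * 546 + k)) = true := by decide +kernel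
theorem kV_547 : (List.range 128).all (fun k => chkVn Vtab XYgens V0 (128 * 547 + k)) = true := by decide +kernel
theorem kV_548 : (List.range 128).all (fun k => chkVn Vtab XYgens V0 (128 * 548 + k)) = true := by decide +kernel
theorem kV_549 : (List.range 128).all (fun k => chkVn Vtab XYgens V0 (128 * 549 + k)) = true := by decide +kernel
theorem kV_550 : (List.range 128).all (fun k => chkVn Vtab XYgens V0 (128 * 550 + k)) = true := by decide +kernel
theorem kV_551 : (List.range 128).all (fun k => chkVn Vtab XYgens V0 (128 * 551 + k)) = true := by decide +kernel
theorem kV_552 : (List.range 128).all (fun k => chkVn Vtab XYgens V0 (128 * 552 + k)) = true := by decide +kernel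
theorem kV_553 : (List.range 128).all (fun k => chkVn Vtab XYgens V0 (128 * 553 + k)) = true := by decide +kernel
theorem kV_554 : (List.range 128).all (fun k => chkVn Vtab XYgens V0 (128 * 554 + k)) = true := by decide +kernel
theorem kV_555 : (List.range 128).all (fun k => chkVn Vtab XYgens V0 (128 * 555 + k)) = true := by decide +kernel
theorem kV_556 : (List.range 128).all (fun k => chkVn Vtab XYgens V0 (128 * 556 + k)) = true := by decide +kernel
theorem kV_557 : (List.range 128).all (fun k => chkVn Vtab XYgens V0 (128 * 557 + k)) = true := by decide +kernel
theorem kV_558 : (List.range 128).all (fun k => chkVn Vtab XYgens V0 (128 * 558 + k)) = true := by decide +kernel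
theorem kV_559 : (List.range 128).all (fun k => chkVn Vtab XYgens V0 (128 * 559 + k)) = true := by decide +kernel
theorem kV_560 : (List.range 128).all (fun k => chkVn Vtab XYgens V0 (128 * 560 + k)) = true := by decide +kernel
theorem kV_561 : (List.range 128).all (fun k => chkVn Vtab XYgens V0 (128 * 561 + k)) = true := by decide +kernel
theorem kV_562 : (List.range 128).all (fun k => chkVn Vtab XYgens V0 (128 * 562 + k)) = true := by decide +kernel
theorem kV_563 : (List.range 128).all (fun k => chkVn Vtab XYgens V0 (128 * 563 + k)) = true := by decide +kernel
theorem kV_564 : (List.range 128).all (fun k => chkVn Vtab XYgens V0 (128 * 564 + k)) = true := by decide +kernel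
theorem kV_565 : (List.range 128).all (fun k => chkVn Vtab XYgens V0 (128 * 565 + k)) = true := by decide +kernel
theorem kV_566 : (List.range 128).all (fun k => chkVn Vtab XYgens V0 (128 * 566 + k)) = true := by decide +kernel
theorem kV_567 : (List.range 128).all (fun k => chkVn Vtab XYgens V0 (128 * 567 + k)) = true := by decide +kernel
theorem kV_568 : (List.range 128).all (fun k => chkVn Vtab XYgens V0 (128 * 568 + k)) = true := by decide +kernel
theorem kV_569 : (List.range 128).all (fun k => chkVn Vtab XYgens V0 (128 * 569 + k)) = true := by decide +kernel
theorem kV_570 : (List.range 128).all (fun k => chkVn Vtab XYgens V0 (128 * 570 + k)) = true := by decide +kernel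
theorem kV_571 : (List.range 128).all (fun k => chkVn Vtab XYgens V0 (128 * 571 + k)) = true := by decide +kernel
theorem kV_572 : (List.range 128).all (fun k => chkVn Vtab XYgens V0 (128 * 572 + k)) = true := by decide +kernel
theorem kV_573 : (List.range 128).all (fun k => chkVn Vtab XYgens V0 (128 * 573 + k)) = true := by decide +kernel
theorem kV_574 : (List.range 128).all (fun k => chkVn Vtab XYgens V0 (128 * 574 + k)) = true := by decide +kernel
theorem kV_575 : (List.range 128).all (fun k => chkVn Vtab XYgens V0 (128 * 575 + k)) = true := by decide +kernel
theorem kV_576 : (List.range 128).all (fun k => chkVn Vtab XYgens V0 (128 * 576 + k)) = true := by decide +kernel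
theorem kV_577 : (List.range 128).all (fun k => chkVn Vtab XYgens V0 (128 * 577 + k)) = true := by decide +kernel
theorem kV_578 : (List.range 128).all (fun k => chkVn Vtab XYgens V0 (128 * 578 + k)) = true := by decide +kernel
theorem kV_579 : (List.range 128).all (fun k => chkVn Vtab XYgens V0 (128 * 579 + k)) = true := by decide +kernel
theorem kV_580 : (List.range 128).all (fun k => chkVn Vtab XYgens V0 (128 * 580 + k)) = true := by decide +kernel
theorem kV_581 : (List.range 128).all (fun k => chkVn Vtab XYgens V0 (128 * 581 + k)) = true := by decide +kernel
theorem kV_582 : (List.range 128).all (fun k => chkVn Vtab XYgens V0 (128 * 582 + k)) = true := by decide +kernel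
theorem kV_583 : (List.range 128).all (fun k => chkVn Vtab XYgens V0 (128 * 583 + k)) = true := by decide +kernel
theorem kV_584 : (List.range 128).all (fun k => chkVn Vtab XYgens V0 (128 * 584 + k)) = true := by decide +kernel
theorem kV_585 : (List.range 128).all (fun k => chkVn Vtab XYgens V0 (128 * 585 + k)) = true := by decide +kernel
theorem kV_586 : (List.range 128).all (fun k => chkVn Vtab XYgens V0 (128 * 586 + k)) = true := by decide +kernel
theorem kV_587 : (List.range 128).all (fun k => chkVn Vtab XYgens V0 (128 * 587 + k)) = true := by decide +kernel
theorem kV_588 : (List.range 128).all (fun k => chkVn Vtab XYgens V0 (128 * 588 + k)) = true := by decide +kernel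
theorem kV_589 : (List.range 128).all (fun k => chkVn Vtab XYgens V0 (128 * 589 + k)) = true := by decide +kernel
theorem kV_590 : (List.range 128).all (fun k => chkVn Vtab XYgens V0 (128 * 590 + k)) = true := by decide +kernel
theorem kV_591 : (List.range 128).all (fun k => chkVn Vtab XYgens V0 (128 * 591 + k)) = true := by decide +kernel
theorem kV_592 : (List.range 128).all (fun k => chkVn Vtab XYgens V0 (128 * 592 + k)) = true := by decide +kernel
theorem kV_593 : (List.range 128).all (fun k => chkVn Vtab XYgens V0 (128 * 593 + k)) = true := by decide +kernel
theorem kV_594 : (List.range 128).all (fun k => chkVn Vtab XYgens V0 (128 * 594 + k)) = true := by decide +kernel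
theorem kV_595 : (List.range 128).all (fun k => chkVn Vtab XYgens V0 (128 * 595 + k)) = true := by decide +kernel
theorem kV_596 : (List.range 128).all (fun k => chkVn Vtab XYgens V0 (128 * 596 + k)) = true := by decide +kernel
theorem kV_597 : (List.range 128).all (fun k => chkVn Vtab XYgens V0 (128 * 597 + k)) = true := by decide +kernel
theorem kV_598 : (List.range 128).all (fun k => chkVn Vtab XYgens V0 (128 * 598 + k)) = true := by decide +kernel
theorem kV_599 : (List.range 128).all (fun k => chkVn Vtab XYgens V0 (128 * 599 + k)) = true := by decide +kernel
theorem kV_600 : (List.range 128).all (fun k => chkVn Vtab XYgens V0 (128 * 600 + k)) = true := by decide +kernel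
theorem kV_601 : (List.range 128).all (fun k => chkVn Vtab XYgens V0 (128 * 601 + k)) = true := by decide +kernel
theorem kV_602 : (List.range 128).all (fun k => chkVn Vtab XYgens V0 (128 * 602 + k)) = true := by decide +kernel
theorem kV_603 : (List.range 128).all (fun k => chkVn Vtab XYgens V0 (128 * 603 + k)) = true := by decide +kernel
theorem kV_604 : (List.range 128).all (fun k => chkVn Vtab XYgens V0 (128 * 604 + k)) = true := by decide +kernel
theorem kV_605 : (List.range 128).all (fun k => chkVn Vtab XYgens V0 (128 * 605 + k)) = true := by decide +kernel
theorem kV_606 : (List.range 128).all (fun k => chkVn Vtab XYgens V0 (128 * 606 + k)) = true := by decide +kernel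
theorem kV_607 : (List.range 128).all (fun k => chkVn Vtab XYgens V0 (128 * 607 + k)) = true := by decide +kernel
theorem kV_608 : (List.range 128).all (fun k => chkVn Vtab XYgens V0 (128 * 608 + k)) = true := by decide +kernel
theorem kV_609 : (List.range 128).all (fun k => chkVn Vtab XYgens V0 (128 * 609 + k)) = true := by decide +kernel
theorem kV_610 : (List.range 128).all (fun k => chkVn Vtab XYgens V0 (128 * 610 + k)) = true := by decide +kernel
theorem kV_611 : (List.range 128).all (fun k => chkVn Vtab XYgens V0 (128 * 611 + k)) = true := by decide +kernel
theorem kV_612 : (List.range 128).all (fun k => chkVn Vtab XYgens V0 (128 * 612 + k)) = true := by decide +kernel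
theorem kV_613 : (List.range 128).all (fun k => chkVn Vtab XYgens V0 (128 * 613 + k)) = true := by decide +kernel
theorem kV_614 : (List.range 128).all (fun k => chkVn Vtab XYgens V0 (128 * 614 + k)) = true := by decide +kernel
theorem kV_615 : (List.range 128).all (fun k => chkVn Vtab XYgens V0 (128 * 615 + k)) = true := by decide +kernel
theorem kV_616 : (List.range 128).all (fun k => chkVn Vtab XYgens V0 (128 * 616 + k)) = true := by decide +kernel
theorem kV_617 : (List.range 128).all (fun k => chkVn Vtab XYgens V0 (128 * 617 + k)) = true := by decide +kernel
theorem kV_618 : (List.range 128).all (fun k => chkVn Vtab XYgens V0 (128 * 618 + k)) = true := by decide +kernel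
theorem kV_619 : (List.range 128).all (fun k => chkVn Vtab XYgens V0 (128 * 619 + k)) = true := by decide +kernel
theorem kV_620 : (List.range 128).all (fun k => chkVn Vtab XYgens V0 (128 * 620 + k)) = true := by decide +kernel
theorem kV_621 : (List.range 128).all (fun k => chkVn Vtab XYgens V0 (128 * 621 + k)) = true := by decide +kernel
theorem kV_622 : (List.range 128).all (fun k => chkVn Vtab XYgens V0 (128 * 622 + k)) = true := by decide +kernel
theorem kV_623 : (List.range 128).all (fun k => chkVn Vtab XYgens V0 (128 * 623 + k)) = true := by decide +kernel
theorem kV_624 : (List.range 128).all (fun k => chkVn Vtab XYgens V0 (128 * 624 + k)) = true := by decide +kernel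
theorem kV_625 : (List.range 128).all (fun k => chkVn Vtab XYgens V0 (128 * 625 + k)) = true := by decide +kernel
theorem kV_626 : (List.range 128).all (fun k => chkVn Vtab XYgens V0 (128 * 626 + k)) = true := by decide +kernel
theorem kV_627 : (List.range 128).all (fun k => chkVn Vtab XYgens V0 (128 * 627 + k)) = true := by decide +kernel
theorem kV_628 : (List.range 128).all (fun k => chkVn Vtab XYgens V0 (128 * 628 + k)) = true := by decide +kernel
theorem kV_629 : (List.range 128).all (fun k => chkVn Vtab XYgens V0 (128 * 629 + k)) = true := by decide +kernel
theorem kV_630 : (List.range 128).all (fun k => chkVn Vtab XYgens V0 (128 * 630 + k)) = true := by decide +kernel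
theorem kV_631 : (List.range 128).all (fun k => chkVn Vtab XYgens V0 (128 * 631 + k)) = true := by decide +kernel
theorem kV_632 : (List.range 128).all (fun k => chkVn Vtab XYgens V0 (128 * 632 + k)) = true := by decide +kernel
theorem kV_633 : (List.range 128).all (fun k => chkVn Vtab XYgens V0 (128 * 633 + k)) = true := by decide +kernel
theorem kV_634 : (List.range 128).all (fun k => chkVn Vtab XYgens V0 (128 * 634 + k)) = true := by decide +kernel
theorem kV_635 : (List.range 128).all (fun k => chkVn Vtab XYgens V0 (128 * 635 + k)) = true := by decide +kernel
theorem kV_636 : (List.range 128).all (fun k => chkVn Vtab XYgens V0 (128 * 636 + k)) = true := by decide +kernel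
theorem kV_637 : (List.range 128).all (fun k => chkVn Vtab XYgens V0 (128 * 637 + k)) = true := by decide +kernel
theorem kV_638 : (List.range 128).all (fun k => chkVn Vtab XYgens V0 (128 * 638 + k)) = true := by decide +kernel
theorem kV_639 : (List.range 128).all (fun k => chkVn Vtab XYgens V0 (128 * 639 + k)) = true := by decide +kernel

theorem chkV_4 : ∀ n, 65536 ≤ n → n < 81920 → chkVn Vtab XYgens V0 n = true := by
  intro n h1 h2
  obtain ⟨J, hJ⟩ : ∃ J, J = n / 128 := ⟨_, rfl⟩
  have hJ1 : 512 ≤ J := by omega
  have hJ2 : J < 640 := by omega
  interval_cases J
  · exact chunk_apply kV_512 (by omega) (by omega)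
  · exact chunk_apply kV_513 (by omega) (by omega)
  · exact chunk_apply kV_514 (by omega) (by omega)
  · exact chunk_apply kV_515 (by omega) (by omega)
  · exact chunk_apply kV_516 (by omega) (by omega)
  · exact chunk_apply kV_517 (by omega) (by omega)
  · exact chunk_apply kV_518 (by omega) (by omega)
  · exact chunk_apply kV_519 (by omega) (by omega)
  · exact chunk_apply kV_520 (by omega) (by omega)
  · exact chunk_apply kV_521 (by omega) (by omega)
  · exact chunk_apply kV_522 (by omega) (by omega)
  · exact chunk_apply kV_523 (by omega) (by omega)
  · exact chunk_apply kV_524 (by omega) (by omega)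
  · exact chunk_apply kV_525 (by omega) (by omega)
  · exact chunk_apply kV_526 (by omega) (by omega)
  · exact chunk_apply kV_527 (by omega) (by omega)
  · exact chunk_apply kV_528 (by omega) (by omega)
  · exact chunk_apply kV_529 (by omega) (by omega)
  · exact chunk_apply kV_530 (by omega) (by omega)
  · exact chunk_apply kV_531 (by omega) (by omega)
  · exact chunk_apply kV_532 (by omega) (by omega)
  · exact chunk_apply kV_533 (by omega) (by omega)
  · exact chunk_apply kV_534 (by omega) (by omega)
  · exact chunk_apply kV_535 (by omega) (by omega)
  · exact chunk_apply kV_536 (by omega) (by omega)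
  · exact chunk_apply kV_537 (by omega) (by omega)
  · exact chunk_apply kV_538 (by omega) (by omega)
  · exact chunk_apply kV_539 (by omega) (by omega)
  · exact chunk_apply kV_540 (by omega) (by omega)
  · exact chunk_apply kV_541 (by omega) (by omega)
  · exact chunk_apply kV_542 (by omega) (by omega)
  · exact chunk_apply kV_543 (by omega) (by omega)
  · exact chunk_apply kV_544 (by omega) (by omega)
  · exact chunk_apply kV_545 (by omega) (by omega)
  · exact chunk_apply kV_546 (by omega) (by omega)
  · exact chunk_apply kV_547 (by omega) (by omega)
  · exact chunk_apply kV_548 (by omega) (by omega)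
  · exact chunk_apply kV_549 (by omega) (by omega)
  · exact chunk_apply kV_550 (by omega) (by omega)
  · exact chunk_apply kV_551 (by omega) (by omega)
  · exact chunk_apply kV_552 (by omega) (by omega)
  · exact chunk_apply kV_553 (by omega) (by omega)
  · exact chunk_apply kV_554 (by omega) (by omega)
  · exact chunk_apply kV_555 (by omega) (by omega)
  · exact chunk_apply kV_556 (by omega) (by omega)
  · exact chunk_apply kV_557 (by omega) (by omega)
  · exact chunk_apply kV_558 (by omega) (by omega)
  · exact chunk_apply kV_559 (by omega) (by omega)
  · exact chunk_apply kV_560 (by omega) (by omega)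
  · exact chunk_apply kV_561 (by omega) (by omega)
  · exact chunk_apply kV_562 (by omega) (by omega)
  · exact chunk_apply kV_563 (by omega) (by omega)
  · exact chunk_apply kV_564 (by omega) (by omega)
  · exact chunk_apply kV_565 (by omega) (by omega)
  · exact chunk_apply kV_566 (by omega) (by omega)
  · exact chunk_apply kV_567 (by omega) (by omega)
  · exact chunk_apply kV_568 (by omega) (by omega)
  · exact chunk_apply kV_569 (by omega) (by omega)
  · exact chunk_apply kV_570 (by omega) (by omega)
  · exact chunk_apply kV_571 (by omega) (by omega)
  · exact chunk_apply kV_572 (by omega) (by omega)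
  · exact chunk_apply kV_573 (by omega) (by omega)
  · exact chunk_apply kV_574 (by omega) (by omega)
  · exact chunk_apply kV_575 (by omega) (by omega)
  · exact chunk_apply kV_576 (by omega) (by omega)
  · exact chunk_apply kV_577 (by omega) (by omega)
  · exact chunk_apply kV_578 (by omega) (by omega)
  · exact chunk_apply kV_579 (by omega) (by omega)
  · exact chunk_apply kV_580 (by omega) (by omega)
  · exact chunk_apply kV_581 (by omega) (by omega)
  · exact chunk_apply kV_582 (by omega) (by omega)
  · exact chunk_apply kV_583 (by omega) (by omega)
  · exact chunk_apply kV_584 (by omega) (by omega)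
  · exact chunk_apply kV_585 (by omega) (by omega)
  · exact chunk_apply kV_586 (by omega) (by omega)
  · exact chunk_apply kV_587 (by omega) (by omega)
  · exact chunk_apply kV_588 (by omega) (by omega)
  · exact chunk_apply kV_589 (by omega) (by omega)
  · exact chunk_apply kV_590 (by omega) (by omega)
  · exact chunk_apply kV_591 (by omega) (by omega)
  · exact chunk_apply kV_592 (by omega) (by omega)
  · exact chunk_apply kV_593 (by omega) (by omega)
  · exact chunk_apply kV_594 (by omega) (by omega)
  · exact chunk_apply kV_595 (by omega) (by omega)
  · exact chunk_apply kV_596 (by omega) (by omega)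
  · exact chunk_apply kV_597 (by omega) (by omega)
  · exact chunk_apply kV_598 (by omega) (by omega)
  · exact chunk_apply kV_599 (by omega) (by omega)
  · exact chunk_apply kV_600 (by omega) (by omega)
  · exact chunk_apply kV_601 (by omega) (by omega)
  · exact chunk_apply kV_602 (by omega) (by omega)
  · exact chunk_apply kV_603 (by omega) (by omega)
  · exact chunk_apply kV_604 (by omega) (by omega)
  · exact chunk_apply kV_605 (by omega) (by omega)
  · exact chunk_apply kV_606 (by omega) (by omega)
  · exact chunk_apply kV_607 (by omega) (by omega)
  · exact chunk_apply kV_608 (by omega) (by omega)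
  · exact chunk_apply kV_609 (by omega) (by omega)
  · exact chunk_apply kV_610 (by omega) (by omega)
  · exact chunk_apply kV_611 (by omega) (by omega)
  · exact chunk_apply kV_612 (by omega) (by omega)
  · exact chunk_apply kV_613 (by omega) (by omega)
  · exact chunk_apply kV_614 (by omega) (by omega)
  · exact chunk_apply kV_615 (by omega) (by omega)
  · exact chunk_apply kV_616 (by omega) (by omega)
  · exact chunk_apply kV_617 (by omega) (by omega)
  · exact chunk_apply kV_618 (by omega) (by omega)
  · exact chunk_apply kV_619 (by omega) (by omega)
  · exact chunk_apply kV_620 (by omega) (by omega)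
  · exact chunk_apply kV_621 (by omega) (by omega)
  · exact chunk_apply kV_622 (by omega) (by omega)
  · exact chunk_apply kV_623 (by omega) (by omega)
  · exact chunk_apply kV_624 (by omega) (by omega)
  · exact chunk_apply kV_625 (by omega) (by omega)
  · exact chunk_apply kV_626 (by omega) (by omega)
  · exact chunk_apply kV_627 (by omega) (by omega)
  · exact chunk_apply kV_628 (by omega) (by omega)
  · exact chunk_apply kV_629 (by omega) (by omega)
  · exact chunk_apply kV_630 (by omega) (by omega)
  · exact chunk_apply kV_631 (by omega) (by omega)
  · exact chunk_apply kV_632 (by omega) (by omega)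
  · exact chunk_apply kV_633 (by omega) (by omega)
  · exact chunk_apply kV_634 (by omega) (by omega)
  · exact chunk_apply kV_635 (by omega) (by omega)
  · exact chunk_apply kV_636 (by omega) (by omega)
  · exact chunk_apply kV_637 (by omega) (by omega)
  · exact chunk_apply kV_638 (by omega) (by omega)
  · exact chunk_apply kV_639 (by omega) (by omega)

end Cfsg.Agent.Helper14.J3
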