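import Mathlib
import Cfsg.Agent.Helper14.J3Y

set_option autoImplicit false

namespace Cfsg.Agent.Helper14.J3

theorem kV_640 : (List.range 128).all (fun k => chkVn Vtab XYgens V0 (128 * 640 + k)) = true := by decide +kernel
theorem kV_641 : (List.range 128).all (fun k => chkVn Vtab XYgens V0 (128 * 641 + k)) = true := by decide +kernel
theorem kV_642 : (List.range 128).all (fun k => chkVn Vtab XYgens V0 (128 * 642 + k)) = true := by decide +kernel
theorem kV_643 : (List.range 128).all (fun k => chkVn Vtab XYgens V0 (128 * 643 + k)) = true := by decide +kernel
theorem kV_644 : (List.range 128).all (fun k => chkVn Vtab XYgens V0 (128 * 644 + k)) = true := by decide +kernel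
theorem kV_645 : (List.range 128).all (fun k => chkVn Vtab XYgens V0 (128 * 645 + k)) = true := by decide +kernel
theorem kV_646 : (List.range 128).all (fun k => chkVn Vtab XYgens V0 (128 * 646 + k)) = true := by decide +kernel
theorem kV_647 : (List.range 128).all (fun k => chkVn Vtab XYgens V0 (128 * 647 + k)) = true := by decide +kernel
theorem kV_648 : (List.range 128).all (fun k => chkVn Vtab XYgens V0 (128 * 648 + k)) = true := by decide +kernel
theorem kV_649 : (List.range 128).all (fun k => chkVn Vtab XYgens V0 (128 * 649 + k)) = true := by decide +kernel
theorem kV_650 : (List.range 128).all (fun k => chkVn Vtab XYgens V0 (128 * 650 + k)) = true := by decide +kernel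
theorem kV_651 : (List.range 128).all (fun k => chkVn Vtab XYgens V0 (128 * 651 + k)) = true := by decide +kernel
theorem kV_652 : (List.range 128).all (fun k => chkVn Vtab XYgens V0 (128 * 652 + k)) = true := by decide +kernel
theorem kV_653 : (List.range 128).all (fun k => chkVn Vtab XYgens V0 (128 * 653 + k)) = true := by decide +kernel
theorem kV_654 : (List.range 128).all (fun k => chkVn Vtab XYgens V0 (128 * 654 + k)) = true := by decide +kernel
theorem kV_655 : (List.range 128).all (fun k => chkVn Vtab XYgens V0 (128 * 655 + k)) = true := by decide +kernel
theorem kV_656 : (List.range 128).all (fun k => chkVn Vtab XYgens V0 (128 * 656 + k)) = true := by decide +kernel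
theorem kV_657 : (List.range 128).all (fun k => chkVn Vtab XYgens V0 (128 * 657 + k)) = true := by decide +kernel
theorem kV_658 : (List.range 128).all (fun k => chkVn Vtab XYgens V0 (128 * 658 + k)) = true := by decide +kernel
theorem kV_659 : (List.range 128).all (fun k => chkVn Vtab XYgens V0 (128 * 659 + k)) = true := by decide +kernel
theorem kV_660 : (List.range 128).all (fun k => chkVn Vtab XYgens V0 (128 * 660 + k)) = true := by decide +kernel
theorem kV_661 : (List.range 128).all (fun k => chkVn Vtab XYgens V0 (128 * 661 + k)) = true := by decide +kernel
theorem kV_662 : (List.range 128).all (fun k => chkVn Vtab XYgens V0 (128 * 662 + k)) = true := by decide +kernel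
theorem kV_663 : (List.range 128).all (fun k => chkVn Vtab XYgens V0 (128 * 663 + k)) = true := by decide +kernel
theorem kV_664 : (List.range 128).all (fun k => chkVn Vtab XYgens V0 (128 * 664 + k)) = true := by decide +kernel
theorem kV_665 : (List.range 128).all (fun k => chkVn Vtab XYgens V0 (128 * 665 + k)) = true := by decide +kernel
theorem kV_666 : (List.range 128).all (fun k => chkVn Vtab XYgens V0 (128 * 666 + k)) = true := by decide +kernel
theorem kV_667 : (List.range 128).all (fun k => chkVn Vtab XYgens V0 (128 * 667 + k)) = true := by decide +kernel
theorem kV_668 : (List.range 128).all (fun k => chkVn Vtab XYgens V0 (128 * 668 + k)) = true := by decide +kernel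
theorem kV_669 : (List.range 128).all (fun k => chkVn Vtab XYgens V0 (128 * 669 + k)) = true := by decide +kernel
theorem kV_670 : (List.range 128).all (fun k => chkVn Vtab XYgens V0 (128 * 670 + k)) = true := by decide +kernel
theorem kV_671 : (List.range 128).all (fun k => chkVn Vtab XYgens V0 (128 * 671 + k)) = true := by decide +kernel
theorem kV_672 : (List.range 128).all (fun k => chkVn Vtab XYgens V0 (128 * 672 + k)) = true := by decide +kernel
theorem kV_673 : (List.range 128).all (fun k => chkVn Vtab XYgens V0 (128 * 673 + k)) = true := by decide +kernel
theorem kV_674 : (List.range 128).all (fun k => chkVn Vtab XYgens V0 (128 * 674 + k)) = true := by decide +kernel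
theorem kV_675 : (List.range 128).all (fun k => chkVn Vtab XYgens V0 (128 * 675 + k)) = true := by decide +kernel
theorem kV_676 : (List.range 128).all (fun k => chkVn Vtab XYgens V0 (128 * 676 + k)) = true := by decide +kernel
theorem kV_677 : (List.range 128).all (fun k => chkVn Vtab XYgens V0 (128 * 677 + k)) = true := by decide +kernel
theorem kV_678 : (List.range 128).all (fun k => chkVn Vtab XYgens V0 (128 * 678 + k)) = true := by decide +kernel
theorem kV_679 : (List.range 128).all (fun k => chkVn Vtab XYgens V0 (128 * 679 + k)) = true := by decide +kernel
theorem kV_680 : (List.range 128).all (fun k => chkVn Vtab XYgens V0 (128 * 680 + k)) = true := by decide +kernel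
theorem kV_681 : (List.range 128).all (fun k => chkVn Vtab XYgens V0 (128 * 681 + k)) = true := by decide +kernel
theorem kV_682 : (List.range 128).all (fun k => chkVn Vtab XYgens V0 (128 * 682 + k)) = true := by decide +kernel
theorem kV_683 : (List.range 128).all (fun k => chkVn Vtab XYgens V0 (128 * 683 + k)) = true := by decide +kernel
theorem kV_684 : (List.range 128).all (fun k => chkVn Vtab XYgens V0 (128 * 684 + k)) = true := by decide +kernel
theorem kV_685 : (List.range 128).all (fun k => chkVn Vtab XYgens V0 (128 * 685 + k)) = true := by decide +kernel
theorem kV_686 : (List.range 128).all (fun k => chkVn Vtab XYgens V0 (128 * 686 + k)) = true := by decide +kernel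
theorem kV_687 : (List.range 128).all (fun k => chkVn Vtab XYgens V0 (128 * 687 + k)) = true := by decide +kernel
theorem kV_688 : (List.range 128).all (fun k => chkVn Vtab XYgens V0 (128 * 688 + k)) = true := by decide +kernel
theorem kV_689 : (List.range 128).all (fun k => chkVn Vtab XYgens V0 (128 * 689 + k)) = true := by decide +kernel
theorem kV_690 : (List.range 128).all (fun k => chkVn Vtab XYgens V0 (128 * 690 + k)) = true := by decide +kernel
theorem kV_691 : (List.range 128).all (fun k => chkVn Vtab XYgens V0 (128 * 691 + k)) = true := by decide +kernel
theorem kV_692 : (List.range 128).all (fun k => chkVn Vtab XYgens V0 (128 * 692 + k)) = true := by decide +kernel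
theorem kV_693 : (List.range 128).all (fun k => chkVn Vtab XYgens V0 (128 * 693 + k)) = true := by decide +kernel
theorem kV_694 : (List.range 128).all (fun k => chkVn Vtab XYgens V0 (128 * 694 + k)) = true := by decide +kernel
theorem kV_695 : (List.range 128).all (fun k => chkVn Vtab XYgens V0 (128 * 695 + k)) = true := by decide +kernel
theorem kV_696 : (List.range 128).all (fun k => chkVn Vtab XYgens V0 (128 * 696 + k)) = true := by decide +kernel
theorem kV_697 : (List.range 128).all (fun k => chkVn Vtab XYgens V0 (128 * 697 + k)) = true := by decide +kernel
theorem kV_698 : (List.range 128).all (fun k => chkVn Vtab XYgens V0 (128 * 698 + k)) = true := by decide +kernel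
theorem kV_699 : (List.range 128).all (fun k => chkVn Vtab XYgens V0 (128 * 699 + k)) = true := by decide +kernel
theorem kV_700 : (List.range 128).all (fun k => chkVn Vtab XYgens V0 (128 * 700 + k)) = true := by decide +kernel
theorem kV_701 : (List.range 128).all (fun k => chkVn Vtab XYgens V0 (128 * 701 + k)) = true := by decide +kernel
theorem kV_702 : (List.range 128).all (fun k => chkVn Vtab XYgens V0 (128 * 702 + k)) = true := by decide +kernel
theorem kV_703 : (List.range 128).all (fun k => chkVn Vtab XYgens V0 (128 * 703 + k)) = true := by decide +kernel
theorem kV_704 : (List.range 128).all (fun k => chkVn Vtab XYgens V0 (128 * 704 + k)) = true := by decide +kernel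
theorem kV_705 : (List.range 128).all (fun k => chkVn Vtab XYgens V0 (128 * 705 + k)) = true := by decide +kernel
theorem kV_706 : (List.range 128).all (fun k => chkVn Vtab XYgens V0 (128 * 706 + k)) = true := by decide +kernel
theorem kV_707 : (List.range 128).all (fun k => chkVn Vtab XYgens V0 (128 * 707 + k)) = true := by decide +kernel
theorem kV_708 : (List.range 128).all (fun k => chkVn Vtab XYgens V0 (128 * 708 + k)) = true := by decide +kernel
theorem kV_709 : (List.range 128).all (fun k => chkVn Vtab XYgens V0 (128 * 709 + k)) = true := by decide +kernel
theorem kV_710 : (List.range 128).all (fun k => chkVn Vtab XYgens V0 (128 * 710 + k)) = true := by decide +kernel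
theorem kV_711 : (List.range 128).all (fun k => chkVn Vtab XYgens V0 (128 * 711 + k)) = true := by decide +kernel
theorem kV_712 : (List.range 128).all (fun k => chkVn Vtab XYgens V0 (128 * 712 + k)) = true := by decide +kernel
theorem kV_713 : (List.range 128).all (fun k => chkVn Vtab XYgens V0 (128 * 713 + k)) = true := by decide +kernel
theorem kV_714 : (List.range 128).all (fun k => chkVn Vtab XYgens V0 (128 * 714 + k)) = true := by decide +kernel
theorem kV_715 : (List.range 128).all (fun k => chkVn Vtab XYgens V0 (128 * 715 + k)) = true := by decide +kernel
theorem kV_716 : (List.range 128).all (fun k => chkVn Vtab XYgens V0 (128 * 716 + k)) = true := by decide +kernel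
theorem kV_717 : (List.range 128).all (fun k => chkVn Vtab XYgens V0 (128 * 717 + k)) = true := by decide +kernel
theorem kV_718 : (List.range 128).all (fun k => chkVn Vtab XYgens V0 (128 * 718 + k)) = true := by decide +kernel
theorem kV_719 : (List.range 128).all (fun k => chkVn Vtab XYgens V0 (128 * 719 + k)) = true := by decide +kernel
theorem kV_720 : (List.range 128).all (fun k => chkVn Vtab XYgens V0 (128 * 720 + k)) = true := by decide +kernel
theorem kV_721 : (List.range 128).all (fun k => chkVn Vtab XYgens V0 (128 * 721 + k)) = true := by decide +kernel
theorem kV_722 : (List.range 128).all (fun k => chkVn Vtab XYgens V0 (128 * 722 + k)) = true := by decide +kernel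
theorem kV_723 : (List.range 128).all (fun k => chkVn Vtab XYgens V0 (128 * 723 + k)) = true := by decide +kernel
theorem kV_724 : (List.range 128).all (fun k => chkVn Vtab XYgens V0 (128 * 724 + k)) = true := by decide +kernel
theorem kV_725 : (List.range 128).all (fun k => chkVn Vtab XYgens V0 (128 * 725 + k)) = true := by decide +kernel
theorem kV_726 : (List.range 128).all (fun k => chkVn Vtab XYgens V0 (128 * 726 + k)) = true := by decide +kernel
theorem kV_727 : (List.range 128).all (fun k => chkVn Vtab XYgens V0 (128 * 727 + k)) = true := by decide +kernel
theorem kV_728 : (List.range 128).all (fun k => chkVn Vtab XYgens V0 (128 * 728 + k)) = true := by decide +kernel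
theorem kV_729 : (List.range 128).all (fun k => chkVn Vtab XYgens V0 (128 * 729 + k)) = true := by decide +kernel
theorem kV_730 : (List.range 128).all (fun k => chkVn Vtab XYgens V0 (128 * 730 + k)) = true := by decide +kernel
theorem kV_731 : (List.range 128).all (fun k => chkVn Vtab XYgens V0 (128 * 731 + k)) = true := by decide +kernel
theorem kV_732 : (List.range 128).all (fun k => chkVn Vtab XYgens V0 (128 * 732 + k)) = true := by decide +kernel
theorem kV_733 : (List.range 128).all (fun k => chkVn Vtab XYgens V0 (128 * 733 + k)) = true := by decide +kernel
theorem kV_734 : (List.range 128).all (fun k => chkVn Vtab XYgens V0 (128 * 734 + k)) = true := by decide +kernel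
theorem kV_735 : (List.range 128).all (fun k => chkVn Vtab XYgens V0 (128 * 735 + k)) = true := by decide +kernel
theorem kV_736 : (List.range 128).all (fun k => chkVn Vtab XYgens V0 (128 * 736 + k)) = true := by decide +kernel
theorem kV_737 : (List.range 128).all (fun k => chkVn Vtab XYgens V0 (128 * 737 + k)) = true := by decide +kernel
theorem kV_738 : (List.range 128).all (fun k => chkVn Vtab XYgens V0 (128 * 738 + k)) = true := by decide +kernel
theorem kV_739 : (List.range 128).all (fun k => chkVn Vtab XYgens V0 (128 * 739 + k)) = true := by decide +kernel
theorem kV_740 : (List.range 128).all (fun k => chkVn Vtab XYgens V0 (128 * 740 + k)) = true := by decide +kernel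
theorem kV_741 : (List.range 128).all (fun k => chkVn Vtab XYgens V0 (128 * 741 + k)) = true := by decide +kernel
theorem kV_742 : (List.range 128).all (fun k => chkVn Vtab XYgens V0 (128 * 742 + k)) = true := by decide +kernel
theorem kV_743 : (List.range 128).all (fun k => chkVn Vtab XYgens V0 (128 * 743 + k)) = true := by decide +kernel
theorem kV_744 : (List.range 128).all (fun k => chkVn Vtab XYgens V0 (128 * 744 + k)) = true := by decide +kernel
theorem kV_745 : (List.range 128).all (fun k => chkVn Vtab XYgens V0 (128 * 745 + k)) = true := by decide +kernel
theorem kV_746 : (List.range 128).all (fun k => chkVn Vtab XYgens V0 (128 * 746 + k)) = true := by decide +kernel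
theorem kV_747 : (List.range 128).all (fun k => chkVn Vtab XYgens V0 (128 * 747 + k)) = true := by decide +kernel
theorem kV_748 : (List.range 128).all (fun k => chkVn Vtab XYgens V0 (128 * 748 + k)) = true := by decide +kernel
theorem kV_749 : (List.range 128).all (fun k => chkVn Vtab XYgens V0 (128 * 749 + k)) = true := by decide +kernel
theorem kV_750 : (List.range 128).all (fun k => chkVn Vtab XYgens V0 (128 * 750 + k)) = true := by decide +kernel
theorem kV_751 : (List.range 128).all (fun k => chkVn Vtab XYgens V0 (128 * 751 + k)) = true := by decide +kernel
theorem kV_752 : (List.range 128).all (fun k => chkVn Vtab XYgens V0 (128 * 752 + k)) = true := by decide +kernel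
theorem kV_753 : (List.range 128).all (fun k => chkVn Vtab XYgens V0 (128 * 753 + k)) = true := by decide +kernel
theorem kV_754 : (List.range 128).all (fun k => chkVn Vtab XYgens V0 (128 * 754 + k)) = true := by decide +kernel
theorem kV_755 : (List.range 128).all (fun k => chkVn Vtab XYgens V0 (128 * 755 + k)) = true := by decide +kernel
theorem kV_756 : (List.range 128).all (fun k => chkVn Vtab XYgens V0 (128 * 756 + k)) = true := by decide +kernel
theorem kV_757 : (List.range 128).all (fun k => chkVn Vtab XYgens V0 (128 * 757 + k)) = true := by decide +kernel
theorem kV_758 : (List.range 128).all (fun k => chkVn Vtab XYgens V0 (128 * 758 + k)) = true := by decide +kernel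
theorem kV_759 : (List.range 128).all (fun k => chkVn Vtab XYgens V0 (128 * 759 + k)) = true := by decide +kernel
theorem kV_760 : (List.range 128).all (fun k => chkVn Vtab XYgens V0 (128 * 760 + k)) = true := by decide +kernel
theorem kV_761 : (List.range 128).all (fun k => chkVn Vtab XYgens V0 (128 * 761 + k)) = true := by decide +kernel
theorem kV_762 : (List.range 128).all (fun k => chkVn Vtab XYgens V0 (128 * 762 + k)) = true := by decide +kernel
theorem kV_763 : (List.range 128).all (fun k => chkVn Vtab XYgens V0 (128 * 763 + k)) = true := by decide +kernel
theorem kV_764 : (List.range 128).all (fun k => chkVn Vtab XYgens V0 (128 * 764 + k)) = true := by decide +kernel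
theorem kV_765 : (List.range 128).all (fun k => chkVn Vtab XYgens V0 (128 * 765 + k)) = true := by decide +kernel
theorem kV_766 : (List.range 128).all (fun k => chkVn Vtab XYgens V0 (128 * 766 + k)) = true := by decide +kernel
theorem kV_767 : (List.range 128).all (fun k => chkVn Vtab XYgens V0 (128 * 767 + k)) = true := by decide +kernel

theorem chkV_5 : ∀ n, 81920 ≤ n → n < 98304 → chkVn Vtab XYgens V0 n = true := by
  intro n h1 h2
  obtain ⟨J, hJ⟩ : ∃ J, J = n / 128 := ⟨_, rfl⟩
  have hJ1 : 640 ≤ J := by omega
  have hJ2 : J < 768 := by omega
  interval_cases J
  · exact chunk_apply kV_640 (by omega) (by omega)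
  · exact chunk_apply kV_641 (by omega) (by omega)
  · exact chunk_apply kV_642 (by omega) (by omega)
  · exact chunk_apply kV_643 (by omega) (by omega)
  · exact chunk_apply kV_644 (by omega) (by omega)
  · exact chunk_apply kV_645 (by omega) (by omega)
  · exact chunk_apply kV_646 (by omega) (by omega)
  · exact chunk_apply kV_647 (by omega) (by omega)
  · exact chunk_apply kV_648 (by omega) (by omega)
  · exact chunk_apply kV_649 (by omega) (by omega)
  · exact chunk_apply kV_650 (by omega) (by omega)
  · exact chunk_apply kV_651 (by omega) (by omega)
  · exact chunk_apply kV_652 (by omega) (by omega)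
  · exact chunk_apply kV_653 (by omega) (by omega)
  · exact chunk_apply kV_654 (by omega) (by omega)
  · exact chunk_apply kV_655 (by omega) (by omega)
  · exact chunk_apply kV_656 (by omega) (by omega)
  · exact chunk_apply kV_657 (by omega) (by omega)
  · exact chunk_apply kV_658 (by omega) (by omega)
  · exact chunk_apply kV_659 (by omega) (by omega)
  · exact chunk_apply kV_660 (by omega) (by omega)
  · exact chunk_apply kV_661 (by omega) (by omega)
  · exact chunk_apply kV_662 (by omega) (by omega)
  · exact chunk_apply kV_663 (by omega) (by omega)
  · exact chunk_apply kV_664 (by omega) (by omega)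
  · exact chunk_apply kV_665 (by omega) (by omega)
  · exact chunk_apply kV_666 (by omega) (by omega)
  · exact chunk_apply kV_667 (by omega) (by omega)
  · exact chunk_apply kV_668 (by omega) (by omega)
  · exact chunk_apply kV_669 (by omega) (by omega)
  · exact chunk_apply kV_670 (by omega) (by omega)
  · exact chunk_apply kV_671 (by omega) (by omega)
  · exact chunk_apply kV_672 (by omega) (by omega)
  · exact chunk_apply kV_673 (by omega) (by omega)
  · exact chunk_apply kV_674 (by omega) (by omega)
  · exact chunk_apply kV_675 (by omega) (by omega)
  · exact chunk_apply kV_676 (by omega) (by omega)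
  · exact chunk_apply kV_677 (by omega) (by omega)
  · exact chunk_apply kV_678 (by omega) (by omega)
  · exact chunk_apply kV_679 (by omega) (by omega)
  · exact chunk_apply kV_680 (by omega) (by omega)
  · exact chunk_apply kV_681 (by omega) (by omega)
  · exact chunk_apply kV_682 (by omega) (by omega)
  · exact chunk_apply kV_683 (by omega) (by omega)
  · exact chunk_apply kV_684 (by omega) (by omega)
  · exact chunk_apply kV_685 (by omega) (by omega)
  · exact chunk_apply kV_686 (by omega) (by omega)
  · exact chunk_apply kV_687 (by omega) (by omega)
  · exact chunk_apply kV_688 (by omega) (by omega)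
  · exact chunk_apply kV_689 (by omega) (by omega)
  · exact chunk_apply kV_690 (by omega) (by omega)
  · exact chunk_apply kV_691 (by omega) (by omega)
  · exact chunk_apply kV_692 (by omega) (by omega)
  · exact chunk_apply kV_693 (by omega) (by omega)
  · exact chunk_apply kV_694 (by omega) (by omega)
  · exact chunk_apply kV_695 (by omega) (by omega)
  · exact chunk_apply kV_696 (by omega) (by omega)
  · exact chunk_apply kV_697 (by omega) (by omega)
  · exact chunk_apply kV_698 (by omega) (by omega)
  · exact chunk_apply kV_699 (by omega) (by omega)
  · exact chunk_apply kV_700 (by omega) (by omega)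
  · exact chunk_apply kV_701 (by omega) (by omega)
  · exact chunk_apply kV_702 (by omega) (by omega)
  · exact chunk_apply kV_703 (by omega) (by omega)
  · exact chunk_apply kV_704 (by omega) (by omega)
  · exact chunk_apply kV_705 (by omega) (by omega)
  · exact chunk_apply kV_706 (by omega) (by omega)
  · exact chunk_apply kV_707 (by omega) (by omega)
  · exact chunk_apply kV_708 (by omega) (by omega)
  · exact chunk_apply kV_709 (by omega) (by omega)
  · exact chunk_apply kV_710 (by omega) (by omega)
  · exact chunk_apply kV_711 (by omega) (by omega)
  · exact chunk_apply kV_712 (by omega) (by omega)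
  · exact chunk_apply kV_713 (by omega) (by omega)
  · exact chunk_apply kV_714 (by omega) (by omega)
  · exact chunk_apply kV_715 (by omega) (by omega)
  · exact chunk_apply kV_716 (by omega) (by omega)
  · exact chunk_apply kV_717 (by omega) (by omega)
  · exact chunk_apply kV_718 (by omega) (by omega)
  · exact chunk_apply kV_719 (by omega) (by omega)
  · exact chunk_apply kV_720 (by omega) (by omega)
  · exact chunk_apply kV_721 (by omega) (by omega)
  · exact chunk_apply kV_722 (by omega) (by omega)
  · exact chunk_apply kV_723 (by omega) (by omega)
  · exact chunk_apply kV_724 (by omega) (by omega)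
  · exact chunk_apply kV_725 (by omega) (by omega)
  · exact chunk_apply kV_726 (by omega) (by omega)
  · exact chunk_apply kV_727 (by omega) (by omega)
  · exact chunk_apply kV_728 (by omega) (by omega)
  · exact chunk_apply kV_729 (by omega) (by omega)
  · exact chunk_apply kV_730 (by omega) (by omega)
  · exact chunk_apply kV_731 (by omega) (by omega)
  · exact chunk_apply kV_732 (by omega) (by omega)
  · exact chunk_apply kV_733 (by omega) (by omega)
  · exact chunk_apply kV_734 (by omega) (by omega)
  · exact chunk_apply kV_735 (by omega) (by omega)
  · exact chunk_apply kV_736 (by omega) (by omega)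
  · exact chunk_apply kV_737 (by omega) (by omega)
  · exact chunk_apply kV_738 (by omega) (by omega)
  · exact chunk_apply kV_739 (by omega) (by omega)
  · exact chunk_apply kV_740 (by omega) (by omega)
  · exact chunk_apply kV_741 (by omega) (by omega)
  · exact chunk_apply kV_742 (by omega) (by omega)
  · exact chunk_apply kV_743 (by omega) (by omega)
  · exact chunk_apply kV_744 (by omega) (by omega)
  · exact chunk_apply kV_745 (by omega) (by omega)
  · exact chunk_apply kV_746 (by omega) (by omega)
  · exact chunk_apply kV_747 (by omega) (by omega)
  · exact chunk_apply kV_748 (by omega) (by omega)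
  · exact chunk_apply kV_749 (by omega) (by omega)
  · exact chunk_apply kV_750 (by omega) (by omega)
  · exact chunk_apply kV_751 (by omega) (by omega)
  · exact chunk_apply kV_752 (by omega) (by omega)
  · exact chunk_apply kV_753 (by omega) (by omega)
  · exact chunk_apply kV_754 (by omega) (by omega)
  · exact chunk_apply kV_755 (by omega) (by omega)
  · exact chunk_apply kV_756 (by omega) (by omega)
  · exact chunk_apply kV_757 (by omega) (by omega)
  · exact chunk_apply kV_758 (by omega) (by omega)
  · exact chunk_apply kV_759 (by omega) (by omega)
  · exact chunk_apply kV_760 (by omega) (by omega)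
  · exact chunk_apply kV_761 (by omega) (by omega)
  · exact chunk_apply kV_762 (by omega) (by omega)
  · exact chunk_apply kV_763 (by omega) (by omega)
  · exact chunk_apply kV_764 (by omega) (by omega)
  · exact chunk_apply kV_765 (by omega) (by omega)
  · exact chunk_apply kV_766 (by omega) (by omega)
  · exact chunk_apply kV_767 (by omega) (by omega)

end Cfsg.Agent.Helper14.J3
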