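import Mathlib
import Cfsg.Agent.Helper14.J3Y

set_option autoImplicit false

namespace Cfsg.Agent.Helper14.J3

theorem kV_768 : (List.range 128).all (fun k => chkVn Vtab XYgens V0 (128 * 768 + k)) = true := by decide +kernel
theorem kV_769 : (List.range 128).all (fun k => chkVn Vtab XYgens V0 (128 * 769 + k)) = true := by decide +kernel
theorem kV_770 : (List.range 128).all (fun k => chkVn Vtab XYgens V0 (128 * 770 + k)) = true := by decide +kernel
theorem kV_771 : (List.range 128).all (fun k => chkVn Vtab XYgens V0 (128 * 771 + k)) = true := by decide +kernel
theorem kV_772 : (List.range 128).all (fun k => chkVn Vtab XYgens V0 (128 * 772 + k)) = true := by decide +kernel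
theorem kV_773 : (List.range 128).all (fun k => chkVn Vtab XYgens V0 (128 * 773 + k)) = true := by decide +kernel
theorem kV_774 : (List.range 128).all (fun k => chkVn Vtab XYgens V0 (128 * 774 + k)) = true := by decide +kernel
theorem kV_775 : (List.range 128).all (fun k => chkVn Vtab XYgens V0 (128 * 775 + k)) = true := by decide +kernel
theorem kV_776 : (List.range 128).all (fun k => chkVn Vtab XYgens V0 (128 * 776 + k)) = true := by decide +kernel
theorem kV_777 : (List.range 128).all (fun k => chkVn Vtab XYgens V0 (128 * 777 + k)) = true := by decide +kernel
theorem kV_778 : (List.range 128).all (fun k => chkVn Vtab XYgens V0 (128 * 778 + k)) = true := by decide +kernel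
theorem kV_779 : (List.range 128).all (fun k => chkVn Vtab XYgens V0 (128 * 779 + k)) = true := by decide +kernel
theorem kV_780 : (List.range 128).all (fun k => chkVn Vtab XYgens V0 (128 * 780 + k)) = true := by decide +kernel
theorem kV_781 : (List.range 128).all (fun k => chkVn Vtab XYgens V0 (128 * 781 + k)) = true := by decide +kernel
theorem kV_782 : (List.range 128).all (fun k => chkVn Vtab XYgens V0 (128 * 782 + k)) = true := by decide +kernel
theorem kV_783 : (List.range 128).all (fun k => chkVn Vtab XYgens V0 (128 * 783 + k)) = true := by decide +kernel
theorem kV_784 : (List.range 128).all (fun k => chkVn Vtab XYgens V0 (128 * 784 + k)) = true := by decide +kernel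
theorem kV_785 : (List.range 128).all (fun k => chkVn Vtab XYgens V0 (128 * 785 + k)) = true := by decide +kernel
theorem kV_786 : (List.range 128).all (fun k => chkVn Vtab XYgens V0 (128 * 786 + k)) = true := by decide +kernel
theorem kV_787 : (List.range 128).all (fun k => chkVn Vtab XYgens V0 (128 * 787 + k)) = true := by decide +kernel
theorem kV_788 : (List.range 128).all (fun k => chkVn Vtab XYgens V0 (128 * 788 + k)) = true := by decide +kernel
theorem kV_789 : (List.range 128).all (fun k => chkVn Vtab XYgens V0 (128 * 789 + k)) = true := by decide +kernel
theorem kV_790 : (List.range 128).all (fun k => chkVn Vtab XYgens V0 (128 * 790 + k)) = true := by decide +kernel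
theorem kV_791 : (List.range 128).all (fun k => chkVn Vtab XYgens V0 (128 * 791 + k)) = true := by decide +kernel
theorem kV_792 : (List.range 128).all (fun k => chkVn Vtab XYgens V0 (128 * 792 + k)) = true := by decide +kernel
theorem kV_793 : (List.range 128).all (fun k => chkVn Vtab XYgens V0 (128 * 793 + k)) = true := by decide +kernel
theorem kV_794 : (List.range 128).all (fun k => chkVn Vtab XYgens V0 (128 * 794 + k)) = true := by decide +kernel
theorem kV_795 : (List.range 128).all (fun k => chkVn Vtab XYgens V0 (128 * 795 + k)) = true := by decide +kernel
theorem kV_796 : (List.range 128).all (fun k => chkVn Vtab XYgens V0 (128 * 796 + k)) = true := by decide +kernel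
theorem kV_797 : (List.range 128).all (fun k => chkVn Vtab XYgens V0 (128 * 797 + k)) = true := by decide +kernel
theorem kV_798 : (List.range 128).all (fun k => chkVn Vtab XYgens V0 (128 * 798 + k)) = true := by decide +kernel
theorem kV_799 : (List.range 128).all (fun k => chkVn Vtab XYgens V0 (128 * 799 + k)) = true := by decide +kernel
theorem kV_800 : (List.range 128).all (fun k => chkVn Vtab XYgens V0 (128 * 800 + k)) = true := by decide +kernel
theorem kV_801 : (List.range 128).all (fun k => chkVn Vtab XYgens V0 (128 * 801 + k)) = true := by decide +kernel
theorem kV_802 : (List.range 128).all (fun k => chkVn Vtab XYgens V0 (128 * 802 + k)) = true := by decide +kernel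
theorem kV_803 : (List.range 128).all (fun k => chkVn Vtab XYgens V0 (128 * 803 + k)) = true := by decide +kernel
theorem kV_804 : (List.range 128).all (fun k => chkVn Vtab XYgens V0 (128 * 804 + k)) = true := by decide +kernel
theorem kV_805 : (List.range 128).all (fun k => chkVn Vtab XYgens V0 (128 * 805 + k)) = true := by decide +kernel
theorem kV_806 : (List.range 128).all (fun k => chkVn Vtab XYgens V0 (128 * 806 + k)) = true := by decide +kernel
theorem kV_807 : (List.range 128).all (fun k => chkVn Vtab XYgens V0 (128 * 807 + k)) = true := by decide +kernel
theorem kV_808 : (List.range 128).all (fun k => chkVn Vtab XYgens V0 (128 * 808 + k)) = true := by decide +kernel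
theorem kV_809 : (List.range 128).all (fun k => chkVn Vtab XYgens V0 (128 * 809 + k)) = true := by decide +kernel
theorem kV_810 : (List.range 128).all (fun k => chkVn Vtab XYgens V0 (128 * 810 + k)) = true := by decide +kernel
theorem kV_811 : (List.range 128).all (fun k => chkVn Vtab XYgens V0 (128 * 811 + k)) = true := by decide +kernel
theorem kV_812 : (List.range 128).all (fun k => chkVn Vtab XYgens V0 (128 * 812 + k)) = true := by decide +kernel
theorem kV_813 : (List.range 128).all (fun k => chkVn Vtab XYgens V0 (128 * 813 + k)) = true := by decide +kernel
theorem kV_814 : (List.range 128).all (fun k => chkVn Vtab XYgens V0 (128 * 814 + k)) = true := by decide +kernel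
theorem kV_815 : (List.range 128).all (fun k => chkVn Vtab XYgens V0 (128 * 815 + k)) = true := by decide +kernel
theorem kV_816 : (List.range 128).all (fun k => chkVn Vtab XYgens V0 (128 * 816 + k)) = true := by decide +kernel
theorem kV_817 : (List.range 128).all (fun k => chkVn Vtab XYgens V0 (128 * 817 + k)) = true := by decide +kernel
theorem kV_818 : (List.range 128).all (fun k => chkVn Vtab XYgens V0 (128 * 818 + k)) = true := by decide +kernel
theorem kV_819 : (List.range 128).all (fun k => chkVn Vtab XYgens V0 (128 * 819 + k)) = true := by decide +kernel
theorem kV_820 : (List.range 128).all (fun k => chkVn Vtab XYgens V0 (128 * 820 + k)) = true := by decide +kernel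
theorem kV_821 : (List.range 128).all (fun k => chkVn Vtab XYgens V0 (128 * 821 + k)) = true := by decide +kernel
theorem kV_822 : (List.range 128).all (fun k => chkVn Vtab XYgens V0 (128 * 822 + k)) = true := by decide +kernel
theorem kV_823 : (List.range 128).all (fun k => chkVn Vtab XYgens V0 (128 * 823 + k)) = true := by decide +kernel
theorem kV_824 : (List.range 128).all (fun k => chkVn Vtab XYgens V0 (128 * 824 + k)) = true := by decide +kernel
theorem kV_825 : (List.range 128).all (fun k => chkVn Vtab XYgens V0 (128 * 825 + k)) = true := by decide +kernel
theorem kV_826 : (List.range 128).all (fun k => chkVn Vtab XYgens V0 (128 * 826 + k)) = true := by decide +kernel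
theorem kV_827 : (List.range 128).all (fun k => chkVn Vtab XYgens V0 (128 * 827 + k)) = true := by decide +kernel
theorem kV_828 : (List.range 128).all (fun k => chkVn Vtab XYgens V0 (128 * 828 + k)) = true := by decide +kernel
theorem kV_829 : (List.range 128).all (fun k => chkVn Vtab XYgens V0 (128 * 829 + k)) = true := by decide +kernel
theorem kV_830 : (List.range 128).all (fun k => chkVn Vtab XYgens V0 (128 * 830 + k)) = true := by decide +kernel
theorem kV_831 : (List.range 128).all (fun k => chkVn Vtab XYgens V0 (128 * 831 + k)) = true := by decide +kernel
theorem kV_832 : (List.range 128).all (fun k => chkVn Vtab XYgens V0 (128 * 832 + k)) = true := by decide +kernel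
theorem kV_833 : (List.range 128).all (fun k => chkVn Vtab XYgens V0 (128 * 833 + k)) = true := by decide +kernel
theorem kV_834 : (List.range 128).all (fun k => chkVn Vtab XYgens V0 (128 * 834 + k)) = true := by decide +kernel
theorem kV_835 : (List.range 128).all (fun k => chkVn Vtab XYgens V0 (128 * 835 + k)) = true := by decide +kernel
theorem kV_836 : (List.range 128).all (fun k => chkVn Vtab XYgens V0 (128 * 836 + k)) = true := by decide +kernel
theorem kV_837 : (List.range 128).all (fun k => chkVn Vtab XYgens V0 (128 * 837 + k)) = true := by decide +kernel
theorem kV_838 : (List.range 128).all (fun k => chkVn Vtab XYgens V0 (128 * 838 + k)) = true := by decide +kernel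
theorem kV_839 : (List.range 128).all (fun k => chkVn Vtab XYgens V0 (128 * 839 + k)) = true := by decide +kernel
theorem kV_840 : (List.range 128).all (fun k => chkVn Vtab XYgens V0 (128 * 840 + k)) = true := by decide +kernel
theorem kV_841 : (List.range 128).all (fun k => chkVn Vtab XYgens V0 (128 * 841 + k)) = true := by decide +kernel
theorem kV_842 : (List.range 128).all (fun k => chkVn Vtab XYgens V0 (128 * 842 + k)) = true := by decide +kernel
theorem kV_843 : (List.range 128).all (fun k => chkVn Vtab XYgens V0 (128 * 843 + k)) = true := by decide +kernel
theorem kV_844 : (List.range 128).all (fun k => chkVn Vtab XYgens V0 (128 * 844 + k)) = true := by decide +kernel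
theorem kV_845 : (List.range 128).all (fun k => chkVn Vtab XYgens V0 (128 * 845 + k)) = true := by decide +kernel
theorem kV_846 : (List.range 128).all (fun k => chkVn Vtab XYgens V0 (128 * 846 + k)) = true := by decide +kernel
theorem kV_847 : (List.range 128).all (fun k => chkVn Vtab XYgens V0 (128 * 847 + k)) = true := by decide +kernel
theorem kV_848 : (List.range 128).all (fun k => chkVn Vtab XYgens V0 (128 * 848 + k)) = true := by decide +kernel
theorem kV_849 : (List.range 128).all (fun k => chkVn Vtab XYgens V0 (128 * 849 + k)) = true := by decide +kernel
theorem kV_850 : (List.range 128).all (fun k => chkVn Vtab XYgens V0 (128 * 850 + k)) = true := by decide +kernel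
theorem kV_851 : (List.range 128).all (fun k => chkVn Vtab XYgens V0 (128 * 851 + k)) = true := by decide +kernel
theorem kV_852 : (List.range 128).all (fun k => chkVn Vtab XYgens V0 (128 * 852 + k)) = true := by decide +kernel
theorem kV_853 : (List.range 128).all (fun k => chkVn Vtab XYgens V0 (128 * 853 + k)) = true := by decide +kernel
theorem kV_854 : (List.range 128).all (fun k => chkVn Vtab XYgens V0 (128 * 854 + k)) = true := by decide +kernel
theorem kV_855 : (List.range 128).all (fun k => chkVn Vtab XYgens V0 (128 * 855 + k)) = true := by decide +kernel
theorem kV_856 : (List.range 128).all (fun k => chkVn Vtab XYgens V0 (128 * 856 + k)) = true := by decide +kernel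
theorem kV_857 : (List.range 128).all (fun k => chkVn Vtab XYgens V0 (128 * 857 + k)) = true := by decide +kernel
theorem kV_858 : (List.range 128).all (fun k => chkVn Vtab XYgens V0 (128 * 858 + k)) = true := by decide +kernel
theorem kV_859 : (List.range 128).all (fun k => chkVn Vtab XYgens V0 (128 * 859 + k)) = true := by decide +kernel
theorem kV_860 : (List.range 128).all (fun k => chkVn Vtab XYgens V0 (128 * 860 + k)) = true := by decide +kernel
theorem kV_861 : (List.range 128).all (fun k => chkVn Vtab XYgens V0 (128 * 861 + k)) = true := by decide +kernel
theorem kV_862 : (List.range 128).all (fun k => chkVn Vtab XYgens V0 (128 * 862 + k)) = true := by decide +kernel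
theorem kV_863 : (List.range 128).all (fun k => chkVn Vtab XYgens V0 (128 * 863 + k)) = true := by decide +kernel
theorem kV_864 : (List.range 128).all (fun k => chkVn Vtab XYgens V0 (128 * 864 + k)) = true := by decide +kernel
theorem kV_865 : (List.range 128).all (fun k => chkVn Vtab XYgens V0 (128 * 865 + k)) = true := by decide +kernel
theorem kV_866 : (List.range 128).all (fun k => chkVn Vtab XYgens V0 (128 * 866 + k)) = true := by decide +kernel
theorem kV_867 : (List.range 128).all (fun k => chkVn Vtab XYgens V0 (128 * 867 + k)) = true := by decide +kernel
theorem kV_868 : (List.range 128).all (fun k => chkVn Vtab XYgens V0 (128 * 868 + k)) = true := by decide +kernel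
theorem kV_869 : (List.range 128).all (fun k => chkVn Vtab XYgens V0 (128 * 869 + k)) = true := by decide +kernel
theorem kV_870 : (List.range 128).all (fun k => chkVn Vtab XYgens V0 (128 * 870 + k)) = true := by decide +kernel
theorem kV_871 : (List.range 128).all (fun k => chkVn Vtab XYgens V0 (128 * 871 + k)) = true := by decide +kernel
theorem kV_872 : (List.range 128).all (fun k => chkVn Vtab XYgens V0 (128 * 872 + k)) = true := by decide +kernel
theorem kV_873 : (List.range 128).all (fun k => chkVn Vtab XYgens V0 (128 * 873 + k)) = true := by decide +kernel
theorem kV_874 : (List.range 128).all (fun k => chkVn Vtab XYgens V0 (128 * 874 + k)) = true := by decide +kernel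
theorem kV_875 : (List.range 128).all (fun k => chkVn Vtab XYgens V0 (128 * 875 + k)) = true := by decide +kernel
theorem kV_876 : (List.range 128).all (fun k => chkVn Vtab XYgens V0 (128 * 876 + k)) = true := by decide +kernel
theorem kV_877 : (List.range 128).all (fun k => chkVn Vtab XYgens V0 (128 * 877 + k)) = true := by decide +kernel
theorem kV_878 : (List.range 128).all (fun k => chkVn Vtab XYgens V0 (128 * 878 + k)) = true := by decide +kernel
theorem kV_879 : (List.range 128).all (fun k => chkVn Vtab XYgens V0 (128 * 879 + k)) = true := by decide +kernel
theorem kV_880 : (List.range 128).all (fun k => chkVn Vtab XYgens V0 (128 * 880 + k)) = true := by decide +kernel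
theorem kV_881 : (List.range 128).all (fun k => chkVn Vtab XYgens V0 (128 * 881 + k)) = true := by decide +kernel
theorem kV_882 : (List.range 128).all (fun k => chkVn Vtab XYgens V0 (128 * 882 + k)) = true := by decide +kernel
theorem kV_883 : (List.range 128).all (fun k => chkVn Vtab XYgens V0 (128 * 883 + k)) = true := by decide +kernel
theorem kV_884 : (List.range 128).all (fun k => chkVn Vtab XYgens V0 (128 * 884 + k)) = true := by decide +kernel
theorem kV_885 : (List.range 128).all (fun k => chkVn Vtab XYgens V0 (128 * 885 + k)) = true := by decide +kernel
theorem kV_886 : (List.range 128).all (fun k => chkVn Vtab XYgens V0 (128 * 886 + k)) = true := by decide +kernel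
theorem kV_887 : (List.range 128).all (fun k => chkVn Vtab XYgens V0 (128 * 887 + k)) = true := by decide +kernel
theorem kV_888 : (List.range 128).all (fun k => chkVn Vtab XYgens V0 (128 * 888 + k)) = true := by decide +kernel
theorem kV_889 : (List.range 128).all (fun k => chkVn Vtab XYgens V0 (128 * 889 + k)) = true := by decide +kernel
theorem kV_890 : (List.range 128).all (fun k => chkVn Vtab XYgens V0 (128 * 890 + k)) = true := by decide +kernel
theorem kV_891 : (List.range 128).all (fun k => chkVn Vtab XYgens V0 (128 * 891 + k)) = true := by decide +kernel
theorem kV_892 : (List.range 128).all (fun k => chkVn Vtab XYgens V0 (128 * 892 + k)) = true := by decide +kernel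
theorem kV_893 : (List.range 128).all (fun k => chkVn Vtab XYgens V0 (128 * 893 + k)) = true := by decide +kernel
theorem kV_894 : (List.range 128).all (fun k => chkVn Vtab XYgens V0 (128 * 894 + k)) = true := by decide +kernel
theorem kV_895 : (List.range 128).all (fun k => chkVn Vtab XYgens V0 (128 * 895 + k)) = true := by decide +kernel

theorem chkV_6 : ∀ n, 98304 ≤ n → n < 114688 → chkVn Vtab XYgens V0 n = true := by
  intro n h1 h2
  obtain ⟨J, hJ⟩ : ∃ J, J = n / 128 := ⟨_, rfl⟩
  have hJ1 : 768 ≤ J := by omega
  have hJ2 : J < 896 := by omega
  interval_cases J
  · exact chunk_apply kV_768 (by omega) (by omega)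
  · exact chunk_apply kV_769 (by omega) (by omega)
  · exact chunk_apply kV_770 (by omega) (by omega)
  · exact chunk_apply kV_771 (by omega) (by omega)
  · exact chunk_apply kV_772 (by omega) (by omega)
  · exact chunk_apply kV_773 (by omega) (by omega)
  · exact chunk_apply kV_774 (by omega) (by omega)
  · exact chunk_apply kV_775 (by omega) (by omega)
  · exact chunk_apply kV_776 (by omega) (by omega)
  · exact chunk_apply kV_777 (by omega) (by omega)
  · exact chunk_apply kV_778 (by omega) (by omega)
  · exact chunk_apply kV_779 (by omega) (by omega)
  · exact chunk_apply kV_780 (by omega) (by omega)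
  · exact chunk_apply kV_781 (by omega) (by omega)
  · exact chunk_apply kV_782 (by omega) (by omega)
  · exact chunk_apply kV_783 (by omega) (by omega)
  · exact chunk_apply kV_784 (by omega) (by omega)
  · exact chunk_apply kV_785 (by omega) (by omega)
  · exact chunk_apply kV_786 (by omega) (by omega)
  · exact chunk_apply kV_787 (by omega) (by omega)
  · exact chunk_apply kV_788 (by omega) (by omega)
  · exact chunk_apply kV_789 (by omega) (by omega)
  · exact chunk_apply kV_790 (by omega) (by omega)
  · exact chunk_apply kV_791 (by omega) (by omega)
  · exact chunk_apply kV_792 (by omega) (by omega)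
  · exact chunk_apply kV_793 (by omega) (by omega)
  · exact chunk_apply kV_794 (by omega) (by omega)
  · exact chunk_apply kV_795 (by omega) (by omega)
  · exact chunk_apply kV_796 (by omega) (by omega)
  · exact chunk_apply kV_797 (by omega) (by omega)
  · exact chunk_apply kV_798 (by omega) (by omega)
  · exact chunk_apply kV_799 (by omega) (by omega)
  · exact chunk_apply kV_800 (by omega) (by omega)
  · exact chunk_apply kV_801 (by omega) (by omega)
  · exact chunk_apply kV_802 (by omega) (by omega)
  · exact chunk_apply kV_803 (by omega) (by omega)
  · exact chunk_apply kV_804 (by omega) (by omega)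
  · exact chunk_apply kV_805 (by omega) (by omega)
  · exact chunk_apply kV_806 (by omega) (by omega)
  · exact chunk_apply kV_807 (by omega) (by omega)
  · exact chunk_apply kV_808 (by omega) (by omega)
  · exact chunk_apply kV_809 (by omega) (by omega)
  · exact chunk_apply kV_810 (by omega) (by omega)
  · exact chunk_apply kV_811 (by omega) (by omega)
  · exact chunk_apply kV_812 (by omega) (by omega)
  · exact chunk_apply kV_813 (by omega) (by omega)
  · exact chunk_apply kV_814 (by omega) (by omega)
  · exact chunk_apply kV_815 (by omega) (by omega)
  · exact chunk_apply kV_816 (by omega) (by omega)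
  · exact chunk_apply kV_817 (by omega) (by omega)
  · exact chunk_apply kV_818 (by omega) (by omega)
  · exact chunk_apply kV_819 (by omega) (by omega)
  · exact chunk_apply kV_820 (by omega) (by omega)
  · exact chunk_apply kV_821 (by omega) (by omega)
  · exact chunk_apply kV_822 (by omega) (by omega)
  · exact chunk_apply kV_823 (by omega) (by omega)
  · exact chunk_apply kV_824 (by omega) (by omega)
  · exact chunk_apply kV_825 (by omega) (by omega)
  · exact chunk_apply kV_826 (by omega) (by omega)
  · exact chunk_apply kV_827 (by omega) (by omega)
  · exact chunk_apply kV_828 (by omega) (by omega)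
  · exact chunk_apply kV_829 (by omega) (by omega)
  · exact chunk_apply kV_830 (by omega) (by omega)
  · exact chunk_apply kV_831 (by omega) (by omega)
  · exact chunk_apply kV_832 (by omega) (by omega)
  · exact chunk_apply kV_833 (by omega) (by omega)
  · exact chunk_apply kV_834 (by omega) (by omega)
  · exact chunk_apply kV_835 (by omega) (by omega)
  · exact chunk_apply kV_836 (by omega) (by omega)
  · exact chunk_apply kV_837 (by omega) (by omega)
  · exact chunk_apply kV_838 (by omega) (by omega)
  · exact chunk_apply kV_839 (by omega) (by omega)
  · exact chunk_apply kV_840 (by omega) (by omega)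
  · exact chunk_apply kV_841 (by omega) (by omega)
  · exact chunk_apply kV_842 (by omega) (by omega)
  · exact chunk_apply kV_843 (by omega) (by omega)
  · exact chunk_apply kV_844 (by omega) (by omega)
  · exact chunk_apply kV_845 (by omega) (by omega)
  · exact chunk_apply kV_846 (by omega) (by omega)
  · exact chunk_apply kV_847 (by omega) (by omega)
  · exact chunk_apply kV_848 (by omega) (by omega)
  · exact chunk_apply kV_849 (by omega) (by omega)
  · exact chunk_apply kV_850 (by omega) (by omega)
  · exact chunk_apply kV_851 (by omega) (by omega)
  · exact chunk_apply kV_852 (by omega) (by omega)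
  · exact chunk_apply kV_853 (by omega) (by omega)
  · exact chunk_apply kV_854 (by omega) (by omega)
  · exact chunk_apply kV_855 (by omega) (by omega)
  · exact chunk_apply kV_856 (by omega) (by omega)
  · exact chunk_apply kV_857 (by omega) (by omega)
  · exact chunk_apply kV_858 (by omega) (by omega)
  · exact chunk_apply kV_859 (by omega) (by omega)
  · exact chunk_apply kV_860 (by omega) (by omega)
  · exact chunk_apply kV_861 (by omega) (by omega)
  · exact chunk_apply kV_862 (by omega) (by omega)
  · exact chunk_apply kV_863 (by omega) (by omega)
  · exact chunk_apply kV_864 (by omega) (by omega)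
  · exact chunk_apply kV_865 (by omega) (by omega)
  · exact chunk_apply kV_866 (by omega) (by omega)
  · exact chunk_apply kV_867 (by omega) (by omega)
  · exact chunk_apply kV_868 (by omega) (by omega)
  · exact chunk_apply kV_869 (by omega) (by omega)
  · exact chunk_apply kV_870 (by omega) (by omega)
  · exact chunk_apply kV_871 (by omega) (by omega)
  · exact chunk_apply kV_872 (by omega) (by omega)
  · exact chunk_apply kV_873 (by omega) (by omega)
  · exact chunk_apply kV_874 (by omega) (by omega)
  · exact chunk_apply kV_875 (by omega) (by omega)
  · exact chunk_apply kV_876 (by omega) (by omega)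
  · exact chunk_apply kV_877 (by omega) (by omega)
  · exact chunk_apply kV_878 (by omega) (by omega)
  · exact chunk_apply kV_879 (by omega) (by omega)
  · exact chunk_apply kV_880 (by omega) (by omega)
  · exact chunk_apply kV_881 (by omega) (by omega)
  · exact chunk_apply kV_882 (by omega) (by omega)
  · exact chunk_apply kV_883 (by omega) (by omega)
  · exact chunk_apply kV_884 (by omega) (by omega)
  · exact chunk_apply kV_885 (by omega) (by omega)
  · exact chunk_apply kV_886 (by omega) (by omega)
  · exact chunk_apply kV_887 (by omega) (by omega)
  · exact chunk_apply kV_888 (by omega) (by omega)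
  · exact chunk_apply kV_889 (by omega) (by omega)
  · exact chunk_apply kV_890 (by omega) (by omega)
  · exact chunk_apply kV_891 (by omega) (by omega)
  · exact chunk_apply kV_892 (by omega) (by omega)
  · exact chunk_apply kV_893 (by omega) (by omega)
  · exact chunk_apply kV_894 (by omega) (by omega)
  · exact chunk_apply kV_895 (by omega) (by omega)

end Cfsg.Agent.Helper14.J3
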