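import Mathlib
import Cfsg.Agent.Helper14.J3Y

set_option autoImplicit false

namespace Cfsg.Agent.Helper14.J3

theorem kV_896 : (List.range 128).all (fun k => chkVn Vtab XYgens V0 (128 * 896 + k)) = true := by decide +kernel
theorem kV_897 : (List.range 128).all (fun k => chkVn Vtab XYgens V0 (128 * 897 + k)) = true := by decide +kernel
theorem kV_898 : (List.range 128).all (fun k => chkVn Vtab XYgens V0 (128 * 898 + k)) = true := by decide +kernel
theorem kV_899 : (List.range 128).all (fun k => chkVn Vtab XYgens V0 (128 * 899 + k)) = true := by decide +kernel
theorem kV_900 : (List.range 128).all (fun k => chkVn Vtab XYgens V0 (128 * 900 + k)) = true := by decide +kernel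
theorem kV_901 : (List.range 128).all (fun k => chkVn Vtab XYgens V0 (128 * 901 + k)) = true := by decide +kernel
theorem kV_902 : (List.range 128).all (fun k => chkVn Vtab XYgens V0 (128 * 902 + k)) = true := by decide +kernel
theorem kV_903 : (List.range 128).all (fun k => chkVn Vtab XYgens V0 (128 * 903 + k)) = true := by decide +kernel
theorem kV_904 : (List.range 128).all (fun k => chkVn Vtab XYgens V0 (128 * 904 + k)) = true := by decide +kernel
theorem kV_905 : (List.range 128).all (fun k => chkVn Vtab XYgens V0 (128 * 905 + k)) = true := by decide +kernel
theorem kV_906 : (List.range 128).all (fun k => chkVn Vtab XYgens V0 (128 * 906 + k)) = true := by decide +kernel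
theorem kV_907 : (List.range 128).all (fun k => chkVn Vtab XYgens V0 (128 * 907 + k)) = true := by decide +kernel
theorem kV_908 : (List.range 128).all (fun k => chkVn Vtab XYgens V0 (128 * 908 + k)) = true := by decide +kernel
theorem kV_909 : (List.range 128).all (fun k => chkVn Vtab XYgens V0 (128 * 909 + k)) = true := by decide +kernel
theorem kV_910 : (List.range 128).all (fun k => chkVn Vtab XYgens V0 (128 * 910 + k)) = true := by decide +kernel
theorem kV_911 : (List.range 128).all (fun k => chkVn Vtab XYgens V0 (128 * 911 + k)) = true := by decide +kernel
theorem kV_912 : (List.range 128).all (fun k => chkVn Vtab XYgens V0 (128 * 912 + k)) = true := by decide +kernel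
theorem kV_913 : (List.range 128).all (fun k => chkVn Vtab XYgens V0 (128 * 913 + k)) = true := by decide +kernel
theorem kV_914 : (List.range 128).all (fun k => chkVn Vtab XYgens V0 (128 * 914 + k)) = true := by decide +kernel
theorem kV_915 : (List.range 128).all (fun k => chkVn Vtab XYgens V0 (128 * 915 + k)) = true := by decide +kernel
theorem kV_916 : (List.range 128).all (fun k => chkVn Vtab XYgens V0 (128 * 916 + k)) = true := by decide +kernel
theorem kV_917 : (List.range 128).all (fun k => chkVn Vtab XYgens V0 (128 * 917 + k)) = true := by decide +kernel
theorem kV_918 : (List.range 128).all (fun k => chkVn Vtab XYgens V0 (128 * 918 + k)) = true := by decide +kernel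
theorem kV_919 : (List.range 128).all (fun k => chkVn Vtab XYgens V0 (128 * 919 + k)) = true := by decide +kernel
theorem kV_920 : (List.range 128).all (fun k => chkVn Vtab XYgens V0 (128 * 920 + k)) = true := by decide +kernel
theorem kV_921 : (List.range 128).all (fun k => chkVn Vtab XYgens V0 (128 * 921 + k)) = true := by decide +kernel
theorem kV_922 : (List.range 128).all (fun k => chkVn Vtab XYgens V0 (128 * 922 + k)) = true := by decide +kernel
theorem kV_923 : (List.range 128).all (fun k => chkVn Vtab XYgens V0 (128 * 923 + k)) = true := by decide +kernel
theorem kV_924 : (List.range 128).all (fun k => chkVn Vtab XYgens V0 (128 * 924 + k)) = true := by decide +kernel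
theorem kV_925 : (List.range 128).all (fun k => chkVn Vtab XYgens V0 (128 * 925 + k)) = true := by decide +kernel
theorem kV_926 : (List.range 128).all (fun k => chkVn Vtab XYgens V0 (128 * 926 + k)) = true := by decide +kernel
theorem kV_927 : (List.range 128).all (fun k => chkVn Vtab XYgens V0 (128 * 927 + k)) = true := by decide +kernel
theorem kV_928 : (List.range 128).all (fun k => chkVn Vtab XYgens V0 (128 * 928 + k)) = true := by decide +kernel
theorem kV_929 : (List.range 128).all (fun k => chkVn Vtab XYgens V0 (128 * 929 + k)) = true := by decide +kernel
theorem kV_930 : (List.range 128).all (fun k => chkVn Vtab XYgens V0 (128 * 930 + k)) = true := by decide +kernel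
theorem kV_931 : (List.range 128).all (fun k => chkVn Vtab XYgens V0 (128 * 931 + k)) = true := by decide +kernel
theorem kV_932 : (List.range 128).all (fun k => chkVn Vtab XYgens V0 (128 * 932 + k)) = true := by decide +kernel
theorem kV_933 : (List.range 128).all (fun k => chkVn Vtab XYgens V0 (128 * 933 + k)) = true := by decide +kernel
theorem kV_934 : (List.range 128).all (fun k => chkVn Vtab XYgens V0 (128 * 934 + k)) = true := by decide +kernel
theorem kV_935 : (List.range 128).all (fun k => chkVn Vtab XYgens V0 (128 * 935 + k)) = true := by decide +kernel
theorem kV_936 : (List.range 128).all (fun k => chkVn Vtab XYgens V0 (128 * 936 + k)) = true := by decide +kernel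
theorem kV_937 : (List.range 128).all (fun k => chkVn Vtab XYgens V0 (128 * 937 + k)) = true := by decide +kernel
theorem kV_938 : (List.range 128).all (fun k => chkVn Vtab XYgens V0 (128 * 938 + k)) = true := by decide +kernel
theorem kV_939 : (List.range 128).all (fun k => chkVn Vtab XYgens V0 (128 * 939 + k)) = true := by decide +kernel
theorem kV_940 : (List.range 128).all (fun k => chkVn Vtab XYgens V0 (128 * 940 + k)) = true := by decide +kernel
theorem kV_941 : (List.range 128).all (fun k => chkVn Vtab XYgens V0 (128 * 941 + k)) = true := by decide +kernel
theorem kV_942 : (List.range 128).all (fun k => chkVn Vtab XYgens V0 (128 * 942 + k)) = true := by decide +kernel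
theorem kV_943 : (List.range 128).all (fun k => chkVn Vtab XYgens V0 (128 * 943 + k)) = true := by decide +kernel
theorem kV_944 : (List.range 128).all (fun k => chkVn Vtab XYgens V0 (128 * 944 + k)) = true := by decide +kernel
theorem kV_945 : (List.range 128).all (fun k => chkVn Vtab XYgens V0 (128 * 945 + k)) = true := by decide +kernel
theorem kV_946 : (List.range 128).all (fun k => chkVn Vtab XYgens V0 (128 * 946 + k)) = true := by decide +kernel
theorem kV_947 : (List.range 128).all (fun k => chkVn Vtab XYgens V0 (128 * 947 + k)) = true := by decide +kernel
theorem kV_948 : (List.range 128).all (fun k => chkVn Vtab XYgens V0 (128 * 948 + k)) = true := by decide +kernel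
theorem kV_949 : (List.range 128).all (fun k => chkVn Vtab XYgens V0 (128 * 949 + k)) = true := by decide +kernel
theorem kV_950 : (List.range 128).all (fun k => chkVn Vtab XYgens V0 (128 * 950 + k)) = true := by decide +kernel
theorem kV_951 : (List.range 128).all (fun k => chkVn Vtab XYgens V0 (128 * 951 + k)) = true := by decide +kernel
theorem kV_952 : (List.range 128).all (fun k => chkVn Vtab XYgens V0 (128 * 952 + k)) = true := by decide +kernel
theorem kV_953 : (List.range 128).all (fun k => chkVn Vtab XYgens V0 (128 * 953 + k)) = true := by decide +kernel
theorem kV_954 : (List.range 128).all (fun k => chkVn Vtab XYgens V0 (128 * 954 + k)) = true := by decide +kernel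
theorem kV_955 : (List.range 128).all (fun k => chkVn Vtab XYgens V0 (128 * 955 + k)) = true := by decide +kernel
theorem kV_956 : (List.range 128).all (fun k => chkVn Vtab XYgens V0 (128 * 956 + k)) = true := by decide +kernel
theorem kV_957 : (List.range 128).all (fun k => chkVn Vtab XYgens V0 (128 * 957 + k)) = true := by decide +kernel
theorem kV_958 : (List.range 128).all (fun k => chkVn Vtab XYgens V0 (128 * 958 + k)) = true := by decide +kernel
theorem kV_959 : (List.range 128).all (fun k => chkVn Vtab XYgens V0 (128 * 959 + k)) = true := by decide +kernel
theorem kV_960 : (List.range 128).all (fun k => chkVn Vtab XYgens V0 (128 * 960 + k)) = true := by decide +kernel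
theorem kV_961 : (List.range 128).all (fun k => chkVn Vtab XYgens V0 (128 * 961 + k)) = true := by decide +kernel
theorem kV_962 : (List.range 128).all (fun k => chkVn Vtab XYgens V0 (128 * 962 + k)) = true := by decide +kernel
theorem kV_963 : (List.range 128).all (fun k => chkVn Vtab XYgens V0 (128 * 963 + k)) = true := by decide +kernel
theorem kV_964 : (List.range 128).all (fun k => chkVn Vtab XYgens V0 (128 * 964 + k)) = true := by decide +kernel
theorem kV_965 : (List.range 128).all (fun k => chkVn Vtab XYgens V0 (128 * 965 + k)) = true := by decide +kernel
theorem kV_966 : (List.range 128).all (fun k => chkVn Vtab XYgens V0 (128 * 966 + k)) = true := by decide +kernel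
theorem kV_967 : (List.range 128).all (fun k => chkVn Vtab XYgens V0 (128 * 967 + k)) = true := by decide +kernel
theorem kV_968 : (List.range 128).all (fun k => chkVn Vtab XYgens V0 (128 * 968 + k)) = true := by decide +kernel
theorem kV_969 : (List.range 128).all (fun k => chkVn Vtab XYgens V0 (128 * 969 + k)) = true := by decide +kernel
theorem kV_970 : (List.range 128).all (fun k => chkVn Vtab XYgens V0 (128 * 970 + k)) = true := by decide +kernel
theorem kV_971 : (List.range 128).all (fun k => chkVn Vtab XYgens V0 (128 * 971 + k)) = true := by decide +kernel
theorem kV_972 : (List.range 128).all (fun k => chkVn Vtab XYgens V0 (128 * 972 + k)) = true := by decide +kernel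
theorem kV_973 : (List.range 128).all (fun k => chkVn Vtab XYgens V0 (128 * 973 + k)) = true := by decide +kernel
theorem kV_974 : (List.range 128).all (fun k => chkVn Vtab XYgens V0 (128 * 974 + k)) = true := by decide +kernel
theorem kV_975 : (List.range 128).all (fun k => chkVn Vtab XYgens V0 (128 * 975 + k)) = true := by decide +kernel
theorem kV_976 : (List.range 128).all (fun k => chkVn Vtab XYgens V0 (128 * 976 + k)) = true := by decide +kernel
theorem kV_977 : (List.range 128).all (fun k => chkVn Vtab XYgens V0 (128 * 977 + k)) = true := by decide +kernel
theorem kV_978 : (List.range 128).all (fun k => chkVn Vtab XYgens V0 (128 * 978 + k)) = true := by decide +kernel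
theorem kV_979 : (List.range 128).all (fun k => chkVn Vtab XYgens V0 (128 * 979 + k)) = true := by decide +kernel
theorem kV_980 : (List.range 128).all (fun k => chkVn Vtab XYgens V0 (128 * 980 + k)) = true := by decide +kernel
theorem kV_981 : (List.range 128).all (fun k => chkVn Vtab XYgens V0 (128 * 981 + k)) = true := by decide +kernel
theorem kV_982 : (List.range 128).all (fun k => chkVn Vtab XYgens V0 (128 * 982 + k)) = true := by decide +kernel
theorem kV_983 : (List.range 128).all (fun k => chkVn Vtab XYgens V0 (128 * 983 + k)) = true := by decide +kernel
theorem kV_984 : (List.range 128).all (fun k => chkVn Vtab XYgens V0 (128 * 984 + k)) = true := by decide +kernel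
theorem kV_985 : (List.range 128).all (fun k => chkVn Vtab XYgens V0 (128 * 985 + k)) = true := by decide +kernel
theorem kV_986 : (List.range 128).all (fun k => chkVn Vtab XYgens V0 (128 * 986 + k)) = true := by decide +kernel
theorem kV_987 : (List.range 128).all (fun k => chkVn Vtab XYgens V0 (128 * 987 + k)) = true := by decide +kernel
theorem kV_988 : (List.range 128).all (fun k => chkVn Vtab XYgens V0 (128 * 988 + k)) = true := by decide +kernel
theorem kV_989 : (List.range 128).all (fun k => chkVn Vtab XYgens V0 (128 * 989 + k)) = true := by decide +kernel
theorem kV_990 : (List.range 128).all (fun k => chkVn Vtab XYgens V0 (128 * 990 + k)) = true := by decide +kernel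
theorem kV_991 : (List.range 128).all (fun k => chkVn Vtab XYgens V0 (128 * 991 + k)) = true := by decide +kernel
theorem kV_992 : (List.range 128).all (fun k => chkVn Vtab XYgens V0 (128 * 992 + k)) = true := by decide +kernel
theorem kV_993 : (List.range 128).all (fun k => chkVn Vtab XYgens V0 (128 * 993 + k)) = true := by decide +kernel
theorem kV_994 : (List.range 128).all (fun k => chkVn Vtab XYgens V0 (128 * 994 + k)) = true := by decide +kernel
theorem kV_995 : (List.range 128).all (fun k => chkVn Vtab XYgens V0 (128 * 995 + k)) = true := by decide +kernel
theorem kV_996 : (List.range 128).all (fun k => chkVn Vtab XYgens V0 (128 * 996 + k)) = true := by decide +kernel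
theorem kV_997 : (List.range 128).all (fun k => chkVn Vtab XYgens V0 (128 * 997 + k)) = true := by decide +kernel
theorem kV_998 : (List.range 128).all (fun k => chkVn Vtab XYgens V0 (128 * 998 + k)) = true := by decide +kernel
theorem kV_999 : (List.range 128).all (fun k => chkVn Vtab XYgens V0 (128 * 999 + k)) = true := by decide +kernel
theorem kV_1000 : (List.range 128).all (fun k => chkVn Vtab XYgens V0 (128 * 1000 + k)) = true := by decide +kernel
theorem kV_1001 : (List.range 128).all (fun k => chkVn Vtab XYgens V0 (128 * 1001 + k)) = true := by decide +kernel
theorem kV_1002 : (List.range 128).all (fun k => chkVn Vtab XYgens V0 (128 * 1002 + k)) = true := by decide +kernel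
theorem kV_1003 : (List.range 128).all (fun k => chkVn Vtab XYgens V0 (128 * 1003 + k)) = true := by decide +kernel
theorem kV_1004 : (List.range 128).all (fun k => chkVn Vtab XYgens V0 (128 * 1004 + k)) = true := by decide +kernel
theorem kV_1005 : (List.range 128).all (fun k => chkVn Vtab XYgens V0 (128 * 1005 + k)) = true := by decide +kernel
theorem kV_1006 : (List.range 128).all (fun k => chkVn Vtab XYgens V0 (128 * 1006 + k)) = true := by decide +kernel
theorem kV_1007 : (List.range 128).all (fun k => chkVn Vtab XYgens V0 (128 * 1007 + k)) = true := by decide +kernel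
theorem kV_1008 : (List.range 128).all (fun k => chkVn Vtab XYgens V0 (128 * 1008 + k)) = true := by decide +kernel
theorem kV_1009 : (List.range 128).all (fun k => chkVn Vtab XYgens V0 (128 * 1009 + k)) = true := by decide +kernel
theorem kV_1010 : (List.range 128).all (fun k => chkVn Vtab XYgens V0 (128 * 1010 + k)) = true := by decide +kernel
theorem kV_1011 : (List.range 128).all (fun k => chkVn Vtab XYgens V0 (128 * 1011 + k)) = true := by decide +kernel
theorem kV_1012 : (List.range 128).all (fun k => chkVn Vtab XYgens V0 (128 * 1012 + k)) = true := by decide +kernel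
theorem kV_1013 : (List.range 128).all (fun k => chkVn Vtab XYgens V0 (128 * 1013 + k)) = true := by decide +kernel
theorem kV_1014 : (List.range 128).all (fun k => chkVn Vtab XYgens V0 (128 * 1014 + k)) = true := by decide +kernel
theorem kV_1015 : (List.range 128).all (fun k => chkVn Vtab XYgens V0 (128 * 1015 + k)) = true := by decide +kernel
theorem kV_1016 : (List.range 128).all (fun k => chkVn Vtab XYgens V0 (128 * 1016 + k)) = true := by decide +kernel
theorem kV_1017 : (List.range 128).all (fun k => chkVn Vtab XYgens V0 (128 * 1017 + k)) = true := by decide +kernel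
theorem kV_1018 : (List.range 128).all (fun k => chkVn Vtab XYgens V0 (128 * 1018 + k)) = true := by decide +kernel
theorem kV_1019 : (List.range 128).all (fun k => chkVn Vtab XYgens V0 (128 * 1019 + k)) = true := by decide +kernel
theorem kV_1020 : (List.range 128).all (fun k => chkVn Vtab XYgens V0 (128 * 1020 + k)) = true := by decide +kernel
theorem kV_1021 : (List.range 128).all (fun k => chkVn Vtab XYgens V0 (128 * 1021 + k)) = true := by decide +kernel
theorem kV_1022 : (List.range 128).all (fun k => chkVn Vtab XYgens V0 (128 * 1022 + k)) = true := by decide +kernel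
theorem kV_1023 : (List.range 128).all (fun k => chkVn Vtab XYgens V0 (128 * 1023 + k)) = true := by decide +kernel

theorem chkV_7 : ∀ n, 114688 ≤ n → n < 131072 → chkVn Vtab XYgens V0 n = true := by
  intro n h1 h2
  obtain ⟨J, hJ⟩ : ∃ J, J = n / 128 := ⟨_, rfl⟩
  have hJ1 : 896 ≤ J := by omega
  have hJ2 : J < 1024 := by omega
  interval_cases J
  · exact chunk_apply kV_896 (by omega) (by omega)
  · exact chunk_apply kV_897 (by omega) (by omega)
  · exact chunk_apply kV_898 (by omega) (by omega)
  · exact chunk_apply kV_899 (by omega) (by omega)
  · exact chunk_apply kV_900 (by omega) (by omega)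
  · exact chunk_apply kV_901 (by omega) (by omega)
  · exact chunk_apply kV_902 (by omega) (by omega)
  · exact chunk_apply kV_903 (by omega) (by omega)
  · exact chunk_apply kV_904 (by omega) (by omega)
  · exact chunk_apply kV_905 (by omega) (by omega)
  · exact chunk_apply kV_906 (by omega) (by omega)
  · exact chunk_apply kV_907 (by omega) (by omega)
  · exact chunk_apply kV_908 (by omega) (by omega)
  · exact chunk_apply kV_909 (by omega) (by omega)
  · exact chunk_apply kV_910 (by omega) (by omega)
  · exact chunk_apply kV_911 (by omega) (by omega)
  · exact chunk_apply kV_912 (by omega) (by omega)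
  · exact chunk_apply kV_913 (by omega) (by omega)
  · exact chunk_apply kV_914 (by omega) (by omega)
  · exact chunk_apply kV_915 (by omega) (by omega)
  · exact chunk_apply kV_916 (by omega) (by omega)
  · exact chunk_apply kV_917 (by omega) (by omega)
  · exact chunk_apply kV_918 (by omega) (by omega)
  · exact chunk_apply kV_919 (by omega) (by omega)
  · exact chunk_apply kV_920 (by omega) (by omega)
  · exact chunk_apply kV_921 (by omega) (by omega)
  · exact chunk_apply kV_922 (by omega) (by omega)
  · exact chunk_apply kV_923 (by omega) (by omega)
  · exact chunk_apply kV_924 (by omega) (by omega)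
  · exact chunk_apply kV_925 (by omega) (by omega)
  · exact chunk_apply kV_926 (by omega) (by omega)
  · exact chunk_apply kV_927 (by omega) (by omega)
  · exact chunk_apply kV_928 (by omega) (by omega)
  · exact chunk_apply kV_929 (by omega) (by omega)
  · exact chunk_apply kV_930 (by omega) (by omega)
  · exact chunk_apply kV_931 (by omega) (by omega)
  · exact chunk_apply kV_932 (by omega) (by omega)
  · exact chunk_apply kV_933 (by omega) (by omega)
  · exact chunk_apply kV_934 (by omega) (by omega)
  · exact chunk_apply kV_935 (by omega) (by omega)
  · exact chunk_apply kV_936 (by omega) (by omega)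
  · exact chunk_apply kV_937 (by omega) (by omega)
  · exact chunk_apply kV_938 (by omega) (by omega)
  · exact chunk_apply kV_939 (by omega) (by omega)
  · exact chunk_apply kV_940 (by omega) (by omega)
  · exact chunk_apply kV_941 (by omega) (by omega)
  · exact chunk_apply kV_942 (by omega) (by omega)
  · exact chunk_apply kV_943 (by omega) (by omega)
  · exact chunk_apply kV_944 (by omega) (by omega)
  · exact chunk_apply kV_945 (by omega) (by omega)
  · exact chunk_apply kV_946 (by omega) (by omega)
  · exact chunk_apply kV_947 (by omega) (by omega)
  · exact chunk_apply kV_948 (by omega) (by omega)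
  · exact chunk_apply kV_949 (by omega) (by omega)
  · exact chunk_apply kV_950 (by omega) (by omega)
  · exact chunk_apply kV_951 (by omega) (by omega)
  · exact chunk_apply kV_952 (by omega) (by omega)
  · exact chunk_apply kV_953 (by omega) (by omega)
  · exact chunk_apply kV_954 (by omega) (by omega)
  · exact chunk_apply kV_955 (by omega) (by omega)
  · exact chunk_apply kV_956 (by omega) (by omega)
  · exact chunk_apply kV_957 (by omega) (by omega)
  · exact chunk_apply kV_958 (by omega) (by omega)
  · exact chunk_apply kV_959 (by omega) (by omega)
  · exact chunk_apply kV_960 (by omega) (by omega)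
  · exact chunk_apply kV_961 (by omega) (by omega)
  · exact chunk_apply kV_962 (by omega) (by omega)
  · exact chunk_apply kV_963 (by omega) (by omega)
  · exact chunk_apply kV_964 (by omega) (by omega)
  · exact chunk_apply kV_965 (by omega) (by omega)
  · exact chunk_apply kV_966 (by omega) (by omega)
  · exact chunk_apply kV_967 (by omega) (by omega)
  · exact chunk_apply kV_968 (by omega) (by omega)
  · exact chunk_apply kV_969 (by omega) (by omega)
  · exact chunk_apply kV_970 (by omega) (by omega)
  · exact chunk_apply kV_971 (by omega) (by omega)
  · exact chunk_apply kV_972 (by omega) (by omega)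
  · exact chunk_apply kV_973 (by omega) (by omega)
  · exact chunk_apply kV_974 (by omega) (by omega)
  · exact chunk_apply kV_975 (by omega) (by omega)
  · exact chunk_apply kV_976 (by omega) (by omega)
  · exact chunk_apply kV_977 (by omega) (by omega)
  · exact chunk_apply kV_978 (by omega) (by omega)
  · exact chunk_apply kV_979 (by omega) (by omega)
  · exact chunk_apply kV_980 (by omega) (by omega)
  · exact chunk_apply kV_981 (by omega) (by omega)
  · exact chunk_apply kV_982 (by omega) (by omega)
  · exact chunk_apply kV_983 (by omega) (by omega)
  · exact chunk_apply kV_984 (by omega) (by omega)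
  · exact chunk_apply kV_985 (by omega) (by omega)
  · exact chunk_apply kV_986 (by omega) (by omega)
  · exact chunk_apply kV_987 (by omega) (by omega)
  · exact chunk_apply kV_988 (by omega) (by omega)
  · exact chunk_apply kV_989 (by omega) (by omega)
  · exact chunk_apply kV_990 (by omega) (by omega)
  · exact chunk_apply kV_991 (by omega) (by omega)
  · exact chunk_apply kV_992 (by omega) (by omega)
  · exact chunk_apply kV_993 (by omega) (by omega)
  · exact chunk_apply kV_994 (by omega) (by omega)
  · exact chunk_apply kV_995 (by omega) (by omega)
  · exact chunk_apply kV_996 (by omega) (by omega)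
  · exact chunk_apply kV_997 (by omega) (by omega)
  · exact chunk_apply kV_998 (by omega) (by omega)
  · exact chunk_apply kV_999 (by omega) (by omega)
  · exact chunk_apply kV_1000 (by omega) (by omega)
  · exact chunk_apply kV_1001 (by omega) (by omega)
  · exact chunk_apply kV_1002 (by omega) (by omega)
  · exact chunk_apply kV_1003 (by omega) (by omega)
  · exact chunk_apply kV_1004 (by omega) (by omega)
  · exact chunk_apply kV_1005 (by omega) (by omega)
  · exact chunk_apply kV_1006 (by omega) (by omega)
  · exact chunk_apply kV_1007 (by omega) (by omega)
  · exact chunk_apply kV_1008 (by omega) (by omega)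
  · exact chunk_apply kV_1009 (by omega) (by omega)
  · exact chunk_apply kV_1010 (by omega) (by omega)
  · exact chunk_apply kV_1011 (by omega) (by omega)
  · exact chunk_apply kV_1012 (by omega) (by omega)
  · exact chunk_apply kV_1013 (by omega) (by omega)
  · exact chunk_apply kV_1014 (by omega) (by omega)
  · exact chunk_apply kV_1015 (by omega) (by omega)
  · exact chunk_apply kV_1016 (by omega) (by omega)
  · exact chunk_apply kV_1017 (by omega) (by omega)
  · exact chunk_apply kV_1018 (by omega) (by omega)
  · exact chunk_apply kV_1019 (by omega) (by omega)
  · exact chunk_apply kV_1020 (by omega) (by omega)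
  · exact chunk_apply kV_1021 (by omega) (by omega)
  · exact chunk_apply kV_1022 (by omega) (by omega)
  · exact chunk_apply kV_1023 (by omega) (by omega)

end Cfsg.Agent.Helper14.J3
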