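import Mathlib
import Cfsg.Agent.Helper14.J3Y

set_option autoImplicit false

namespace Cfsg.Agent.Helper14.J3

theorem kV_1024 : (List.range 128).all (fun k => chkVn Vtab XYgens V0 (128 * 1024 + k)) = true := by decide +kernel
theorem kV_1025 : (List.range 128).all (fun k => chkVn Vtab XYgens V0 (128 * 1025 + k)) = true := by decide +kernel
theorem kV_1026 : (List.range 128).all (fun k => chkVn Vtab XYgens V0 (128 * 1026 + k)) = true := by decide +kernel
theorem kV_1027 : (List.range 128).all (fun k => chkVn Vtab XYgens V0 (128 * 1027 + k)) = true := by decide +kernel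
theorem kV_1028 : (List.range 128).all (fun k => chkVn Vtab XYgens V0 (128 * 1028 + k)) = true := by decide +kernel
theorem kV_1029 : (List.range 128).all (fun k => chkVn Vtab XYgens V0 (128 * 1029 + k)) = true := by decide +kernel
theorem kV_1030 : (List.range 128).all (fun k => chkVn Vtab XYgens V0 (128 * 1030 + k)) = true := by decide +kernel
theorem kV_1031 : (List.range 128).all (fun k => chkVn Vtab XYgens V0 (128 * 1031 + k)) = true := by decide +kernel
theorem kV_1032 : (List.range 128).all (fun k => chkVn Vtab XYgens V0 (128 * 1032 + k)) = true := by decide +kernel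
theorem kV_1033 : (List.range 128).all (fun k => chkVn Vtab XYgens V0 (128 * 1033 + k)) = true := by decide +kernel
theorem kV_1034 : (List.range 128).all (fun k => chkVn Vtab XYgens V0 (128 * 1034 + k)) = true := by decide +kernel
theorem kV_1035 : (List.range 128).all (fun k => chkVn Vtab XYgens V0 (128 * 1035 + k)) = true := by decide +kernel
theorem kV_1036 : (List.range 128).all (fun k => chkVn Vtab XYgens V0 (128 * 1036 + k)) = true := by decide +kernel
theorem kV_1037 : (List.range 128).all (fun k => chkVn Vtab XYgens V0 (128 * 1037 + k)) = true := by decide +kernel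
theorem kV_1038 : (List.range 128).all (fun k => chkVn Vtab XYgens V0 (128 * 1038 + k)) = true := by decide +kernel
theorem kV_1039 : (List.range 128).all (fun k => chkVn Vtab XYgens V0 (128 * 1039 + k)) = true := by decide +kernel
theorem kV_1040 : (List.range 128).all (fun k => chkVn Vtab XYgens V0 (128 * 1040 + k)) = true := by decide +kernel
theorem kV_1041 : (List.range 128).all (fun k => chkVn Vtab XYgens V0 (128 * 1041 + k)) = true := by decide +kernel
theorem kV_1042 : (List.range 128).all (fun k => chkVn Vtab XYgens V0 (128 * 1042 + k)) = true := by decide +kernel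
theorem kV_1043 : (List.range 128).all (fun k => chkVn Vtab XYgens V0 (128 * 1043 + k)) = true := by decide +kernel
theorem kV_1044 : (List.range 128).all (fun k => chkVn Vtab XYgens V0 (128 * 1044 + k)) = true := by decide +kernel
theorem kV_1045 : (List.range 128).all (fun k => chkVn Vtab XYgens V0 (128 * 1045 + k)) = true := by decide +kernel
theorem kV_1046 : (List.range 128).all (fun k => chkVn Vtab XYgens V0 (128 * 1046 + k)) = true := by decide +kernel
theorem kV_1047 : (List.range 128).all (fun k => chkVn Vtab XYgens V0 (128 * 1047 + k)) = true := by decide +kernel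
theorem kV_1048 : (List.range 128).all (fun k => chkVn Vtab XYgens V0 (128 * 1048 + k)) = true := by decide +kernel
theorem kV_1049 : (List.range 128).all (fun k => chkVn Vtab XYgens V0 (128 * 1049 + k)) = true := by decide +kernel
theorem kV_1050 : (List.range 128).all (fun k => chkVn Vtab XYgens V0 (128 * 1050 + k)) = true := by decide +kernel
theorem kV_1051 : (List.range 128).all (fun k => chkVn Vtab XYgens V0 (128 * 1051 + k)) = true := by decide +kernel
theorem kV_1052 : (List.range 128).all (fun k => chkVn Vtab XYgens V0 (128 * 1052 + k)) = true := by decide +kernel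
theorem kV_1053 : (List.range 128).all (fun k => chkVn Vtab XYgens V0 (128 * 1053 + k)) = true := by decide +kernel
theorem kV_1054 : (List.range 128).all (fun k => chkVn Vtab XYgens V0 (128 * 1054 + k)) = true := by decide +kernel
theorem kV_1055 : (List.range 128).all (fun k => chkVn Vtab XYgens V0 (128 * 1055 + k)) = true := by decide +kernel
theorem kV_1056 : (List.range 128).all (fun k => chkVn Vtab XYgens V0 (128 * 1056 + k)) = true := by decide +kernel
theorem kV_1057 : (List.range 128).all (fun k => chkVn Vtab XYgens V0 (128 * 1057 + k)) = true := by decide +kernel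
theorem kV_1058 : (List.range 128).all (fun k => chkVn Vtab XYgens V0 (128 * 1058 + k)) = true := by decide +kernel
theorem kV_1059 : (List.range 128).all (fun k => chkVn Vtab XYgens V0 (128 * 1059 + k)) = true := by decide +kernel
theorem kV_1060 : (List.range 128).all (fun k => chkVn Vtab XYgens V0 (128 * 1060 + k)) = true := by decide +kernel
theorem kV_1061 : (List.range 128).all (fun k => chkVn Vtab XYgens V0 (128 * 1061 + k)) = true := by decide +kernel
theorem kV_1062 : (List.range 128).all (fun k => chkVn Vtab XYgens V0 (128 * 1062 + k)) = true := by decide +kernel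
theorem kV_1063 : (List.range 128).all (fun k => chkVn Vtab XYgens V0 (128 * 1063 + k)) = true := by decide +kernel
theorem kV_1064 : (List.range 128).all (fun k => chkVn Vtab XYgens V0 (128 * 1064 + k)) = true := by decide +kernel
theorem kV_1065 : (List.range 128).all (fun k => chkVn Vtab XYgens V0 (128 * 1065 + k)) = true := by decide +kernel
theorem kV_1066 : (List.range 128).all (fun k => chkVn Vtab XYgens V0 (128 * 1066 + k)) = true := by decide +kernel
theorem kV_1067 : (List.range 128).all (fun k => chkVn Vtab XYgens V0 (128 * 1067 + k)) = true := by decide +kernel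
theorem kV_1068 : (List.range 128).all (fun k => chkVn Vtab XYgens V0 (128 * 1068 + k)) = true := by decide +kernel
theorem kV_1069 : (List.range 128).all (fun k => chkVn Vtab XYgens V0 (128 * 1069 + k)) = true := by decide +kernel
theorem kV_1070 : (List.range 128).all (fun k => chkVn Vtab XYgens V0 (128 * 1070 + k)) = true := by decide +kernel
theorem kV_1071 : (List.range 128).all (fun k => chkVn Vtab XYgens V0 (128 * 1071 + k)) = true := by decide +kernel
theorem kV_1072 : (List.range 128).all (fun k => chkVn Vtab XYgens V0 (128 * 1072 + k)) = true := by decide +kernel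
theorem kV_1073 : (List.range 128).all (fun k => chkVn Vtab XYgens V0 (128 * 1073 + k)) = true := by decide +kernel
theorem kV_1074 : (List.range 128).all (fun k => chkVn Vtab XYgens V0 (128 * 1074 + k)) = true := by decide +kernel
theorem kV_1075 : (List.range 128).all (fun k => chkVn Vtab XYgens V0 (128 * 1075 + k)) = true := by decide +kernel
theorem kV_1076 : (List.range 128).all (fun k => chkVn Vtab XYgens V0 (128 * 1076 + k)) = true := by decide +kernel
theorem kV_1077 : (List.range 128).all (fun k => chkVn Vtab XYgens V0 (128 * 1077 + k)) = true := by decide +kernel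
theorem kV_1078 : (List.range 128).all (fun k => chkVn Vtab XYgens V0 (128 * 1078 + k)) = true := by decide +kernel
theorem kV_1079 : (List.range 128).all (fun k => chkVn Vtab XYgens V0 (128 * 1079 + k)) = true := by decide +kernel
theorem kV_1080 : (List.range 128).all (fun k => chkVn Vtab XYgens V0 (128 * 1080 + k)) = true := by decide +kernel
theorem kV_1081 : (List.range 128).all (fun k => chkVn Vtab XYgens V0 (128 * 1081 + k)) = true := by decide +kernel
theorem kV_1082 : (List.range 128).all (fun k => chkVn Vtab XYgens V0 (128 * 1082 + k)) = true := by decide +kernel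
theorem kV_1083 : (List.range 128).all (fun k => chkVn Vtab XYgens V0 (128 * 1083 + k)) = true := by decide +kernel
theorem kV_1084 : (List.range 128).all (fun k => chkVn Vtab XYgens V0 (128 * 1084 + k)) = true := by decide +kernel
theorem kV_1085 : (List.range 128).all (fun k => chkVn Vtab XYgens V0 (128 * 1085 + k)) = true := by decide +kernel
theorem kV_1086 : (List.range 128).all (fun k => chkVn Vtab XYgens V0 (128 * 1086 + k)) = true := by decide +kernel
theorem kV_1087 : (List.range 128).all (fun k => chkVn Vtab XYgens V0 (128 * 1087 + k)) = true := by decide +kernel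
theorem kV_1088 : (List.range 128).all (fun k => chkVn Vtab XYgens V0 (128 * 1088 + k)) = true := by decide +kernel
theorem kV_1089 : (List.range 128).all (fun k => chkVn Vtab XYgens V0 (128 * 1089 + k)) = true := by decide +kernel
theorem kV_1090 : (List.range 128).all (fun k => chkVn Vtab XYgens V0 (128 * 1090 + k)) = true := by decide +kernel
theorem kV_1091 : (List.range 128).all (fun k => chkVn Vtab XYgens V0 (128 * 1091 + k)) = true := by decide +kernel
theorem kV_1092 : (List.range 128).all (fun k => chkVn Vtab XYgens V0 (128 * 1092 + k)) = true := by decide +kernel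
theorem kV_1093 : (List.range 128).all (fun k => chkVn Vtab XYgens V0 (128 * 1093 + k)) = true := by decide +kernel
theorem kV_1094 : (List.range 128).all (fun k => chkVn Vtab XYgens V0 (128 * 1094 + k)) = true := by decide +kernel
theorem kV_1095 : (List.range 128).all (fun k => chkVn Vtab XYgens V0 (128 * 1095 + k)) = true := by decide +kernel
theorem kV_1096 : (List.range 128).all (fun k => chkVn Vtab XYgens V0 (128 * 1096 + k)) = true := by decide +kernel
theorem kV_1097 : (List.range 128).all (fun k => chkVn Vtab XYgens V0 (128 * 1097 + k)) = true := by decide +kernel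
theorem kV_1098 : (List.range 128).all (fun k => chkVn Vtab XYgens V0 (128 * 1098 + k)) = true := by decide +kernel
theorem kV_1099 : (List.range 128).all (fun k => chkVn Vtab XYgens V0 (128 * 1099 + k)) = true := by decide +kernel
theorem kV_1100 : (List.range 128).all (fun k => chkVn Vtab XYgens V0 (128 * 1100 + k)) = true := by decide +kernel
theorem kV_1101 : (List.range 128).all (fun k => chkVn Vtab XYgens V0 (128 * 1101 + k)) = true := by decide +kernel
theorem kV_1102 : (List.range 128).all (fun k => chkVn Vtab XYgens V0 (128 * 1102 + k)) = true := by decide +kernel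
theorem kV_1103 : (List.range 128).all (fun k => chkVn Vtab XYgens V0 (128 * 1103 + k)) = true := by decide +kernel
theorem kV_1104 : (List.range 128).all (fun k => chkVn Vtab XYgens V0 (128 * 1104 + k)) = true := by decide +kernel
theorem kV_1105 : (List.range 128).all (fun k => chkVn Vtab XYgens V0 (128 * 1105 + k)) = true := by decide +kernel
theorem kV_1106 : (List.range 128).all (fun k => chkVn Vtab XYgens V0 (128 * 1106 + k)) = true := by decide +kernel
theorem kV_1107 : (List.range 128).all (fun k => chkVn Vtab XYgens V0 (128 * 1107 + k)) = true := by decide +kernel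
theorem kV_1108 : (List.range 128).all (fun k => chkVn Vtab XYgens V0 (128 * 1108 + k)) = true := by decide +kernel
theorem kV_1109 : (List.range 128).all (fun k => chkVn Vtab XYgens V0 (128 * 1109 + k)) = true := by decide +kernel
theorem kV_1110 : (List.range 128).all (fun k => chkVn Vtab XYgens V0 (128 * 1110 + k)) = true := by decide +kernel
theorem kV_1111 : (List.range 128).all (fun k => chkVn Vtab XYgens V0 (128 * 1111 + k)) = true := by decide +kernel
theorem kV_1112 : (List.range 128).all (fun k => chkVn Vtab XYgens V0 (128 * 1112 + k)) = true := by decide +kernel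
theorem kV_1113 : (List.range 128).all (fun k => chkVn Vtab XYgens V0 (128 * 1113 + k)) = true := by decide +kernel
theorem kV_1114 : (List.range 128).all (fun k => chkVn Vtab XYgens V0 (128 * 1114 + k)) = true := by decide +kernel
theorem kV_1115 : (List.range 128).all (fun k => chkVn Vtab XYgens V0 (128 * 1115 + k)) = true := by decide +kernel
theorem kV_1116 : (List.range 128).all (fun k => chkVn Vtab XYgens V0 (128 * 1116 + k)) = true := by decide +kernel
theorem kV_1117 : (List.range 128).all (fun k => chkVn Vtab XYgens V0 (128 * 1117 + k)) = true := by decide +kernel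
theorem kV_1118 : (List.range 128).all (fun k => chkVn Vtab XYgens V0 (128 * 1118 + k)) = true := by decide +kernel
theorem kV_1119 : (List.range 128).all (fun k => chkVn Vtab XYgens V0 (128 * 1119 + k)) = true := by decide +kernel
theorem kV_1120 : (List.range 128).all (fun k => chkVn Vtab XYgens V0 (128 * 1120 + k)) = true := by decide +kernel
theorem kV_1121 : (List.range 128).all (fun k => chkVn Vtab XYgens V0 (128 * 1121 + k)) = true := by decide +kernel
theorem kV_1122 : (List.range 128).all (fun k => chkVn Vtab XYgens V0 (128 * 1122 + k)) = true := by decide +kernel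
theorem kV_1123 : (List.range 128).all (fun k => chkVn Vtab XYgens V0 (128 * 1123 + k)) = true := by decide +kernel
theorem kV_1124 : (List.range 128).all (fun k => chkVn Vtab XYgens V0 (128 * 1124 + k)) = true := by decide +kernel
theorem kV_1125 : (List.range 128).all (fun k => chkVn Vtab XYgens V0 (128 * 1125 + k)) = true := by decide +kernel
theorem kV_1126 : (List.range 128).all (fun k => chkVn Vtab XYgens V0 (128 * 1126 + k)) = true := by decide +kernel
theorem kV_1127 : (List.range 128).all (fun k => chkVn Vtab XYgens V0 (128 * 1127 + k)) = true := by decide +kernel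
theorem kV_1128 : (List.range 128).all (fun k => chkVn Vtab XYgens V0 (128 * 1128 + k)) = true := by decide +kernel
theorem kV_1129 : (List.range 128).all (fun k => chkVn Vtab XYgens V0 (128 * 1129 + k)) = true := by decide +kernel
theorem kV_1130 : (List.range 128).all (fun k => chkVn Vtab XYgens V0 (128 * 1130 + k)) = true := by decide +kernel
theorem kV_1131 : (List.range 128).all (fun k => chkVn Vtab XYgens V0 (128 * 1131 + k)) = true := by decide +kernel
theorem kV_1132 : (List.range 128).all (fun k => chkVn Vtab XYgens V0 (128 * 1132 + k)) = true := by decide +kernel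
theorem kV_1133 : (List.range 128).all (fun k => chkVn Vtab XYgens V0 (128 * 1133 + k)) = true := by decide +kernel
theorem kV_1134 : (List.range 128).all (fun k => chkVn Vtab XYgens V0 (128 * 1134 + k)) = true := by decide +kernel
theorem kV_1135 : (List.range 128).all (fun k => chkVn Vtab XYgens V0 (128 * 1135 + k)) = true := by decide +kernel
theorem kV_1136 : (List.range 128).all (fun k => chkVn Vtab XYgens V0 (128 * 1136 + k)) = true := by decide +kernel
theorem kV_1137 : (List.range 128).all (fun k => chkVn Vtab XYgens V0 (128 * 1137 + k)) = true := by decide +kernel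
theorem kV_1138 : (List.range 128).all (fun k => chkVn Vtab XYgens V0 (128 * 1138 + k)) = true := by decide +kernel
theorem kV_1139 : (List.range 128).all (fun k => chkVn Vtab XYgens V0 (128 * 1139 + k)) = true := by decide +kernel
theorem kV_1140 : (List.range 128).all (fun k => chkVn Vtab XYgens V0 (128 * 1140 + k)) = true := by decide +kernel
theorem kV_1141 : (List.range 128).all (fun k => chkVn Vtab XYgens V0 (128 * 1141 + k)) = true := by decide +kernel
theorem kV_1142 : (List.range 128).all (fun k => chkVn Vtab XYgens V0 (128 * 1142 + k)) = true := by decide +kernel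
theorem kV_1143 : (List.range 128).all (fun k => chkVn Vtab XYgens V0 (128 * 1143 + k)) = true := by decide +kernel
theorem kV_1144 : (List.range 128).all (fun k => chkVn Vtab XYgens V0 (128 * 1144 + k)) = true := by decide +kernel
theorem kV_1145 : (List.range 128).all (fun k => chkVn Vtab XYgens V0 (128 * 1145 + k)) = true := by decide +kernel
theorem kV_1146 : (List.range 128).all (fun k => chkVn Vtab XYgens V0 (128 * 1146 + k)) = true := by decide +kernel
theorem kV_1147 : (List.range 128).all (fun k => chkVn Vtab XYgens V0 (128 * 1147 + k)) = true := by decide +kernel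
theorem kV_1148 : (List.range 128).all (fun k => chkVn Vtab XYgens V0 (128 * 1148 + k)) = true := by decide +kernel
theorem kV_1149 : (List.range 128).all (fun k => chkVn Vtab XYgens V0 (128 * 1149 + k)) = true := by decide +kernel
theorem kV_1150 : (List.range 128).all (fun k => chkVn Vtab XYgens V0 (128 * 1150 + k)) = true := by decide +kernel
theorem kV_1151 : (List.range 128).all (fun k => chkVn Vtab XYgens V0 (128 * 1151 + k)) = true := by decide +kernel

theorem chkV_8 : ∀ n, 131072 ≤ n → n < 147456 → chkVn Vtab XYgens V0 n = true := by
  intro n h1 h2
  obtain ⟨J, hJ⟩ : ∃ J, J = n / 128 := ⟨_, rfl⟩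
  have hJ1 : 1024 ≤ J := by omega
  have hJ2 : J < 1152 := by omega
  interval_cases J
  · exact chunk_apply kV_1024 (by omega) (by omega)
  · exact chunk_apply kV_1025 (by omega) (by omega)
  · exact chunk_apply kV_1026 (by omega) (by omega)
  · exact chunk_apply kV_1027 (by omega) (by omega)
  · exact chunk_apply kV_1028 (by omega) (by omega)
  · exact chunk_apply kV_1029 (by omega) (by omega)
  · exact chunk_apply kV_1030 (by omega) (by omega)
  · exact chunk_apply kV_1031 (by omega) (by omega)
  · exact chunk_apply kV_1032 (by omega) (by omega)
  · exact chunk_apply kV_1033 (by omega) (by omega)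
  · exact chunk_apply kV_1034 (by omega) (by omega)
  · exact chunk_apply kV_1035 (by omega) (by omega)
  · exact chunk_apply kV_1036 (by omega) (by omega)
  · exact chunk_apply kV_1037 (by omega) (by omega)
  · exact chunk_apply kV_1038 (by omega) (by omega)
  · exact chunk_apply kV_1039 (by omega) (by omega)
  · exact chunk_apply kV_1040 (by omega) (by omega)
  · exact chunk_apply kV_1041 (by omega) (by omega)
  · exact chunk_apply kV_1042 (by omega) (by omega)
  · exact chunk_apply kV_1043 (by omega) (by omega)
  · exact chunk_apply kV_1044 (by omega) (by omega)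
  · exact chunk_apply kV_1045 (by omega) (by omega)
  · exact chunk_apply kV_1046 (by omega) (by omega)
  · exact chunk_apply kV_1047 (by omega) (by omega)
  · exact chunk_apply kV_1048 (by omega) (by omega)
  · exact chunk_apply kV_1049 (by omega) (by omega)
  · exact chunk_apply kV_1050 (by omega) (by omega)
  · exact chunk_apply kV_1051 (by omega) (by omega)
  · exact chunk_apply kV_1052 (by omega) (by omega)
  · exact chunk_apply kV_1053 (by omega) (by omega)
  · exact chunk_apply kV_1054 (by omega) (by omega)
  · exact chunk_apply kV_1055 (by omega) (by omega)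
  · exact chunk_apply kV_1056 (by omega) (by omega)
  · exact chunk_apply kV_1057 (by omega) (by omega)
  · exact chunk_apply kV_1058 (by omega) (by omega)
  · exact chunk_apply kV_1059 (by omega) (by omega)
  · exact chunk_apply kV_1060 (by omega) (by omega)
  · exact chunk_apply kV_1061 (by omega) (by omega)
  · exact chunk_apply kV_1062 (by omega) (by omega)
  · exact chunk_apply kV_1063 (by omega) (by omega)
  · exact chunk_apply kV_1064 (by omega) (by omega)
  · exact chunk_apply kV_1065 (by omega) (by omega)
  · exact chunk_apply kV_1066 (by omega) (by omega)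
  · exact chunk_apply kV_1067 (by omega) (by omega)
  · exact chunk_apply kV_1068 (by omega) (by omega)
  · exact chunk_apply kV_1069 (by omega) (by omega)
  · exact chunk_apply kV_1070 (by omega) (by omega)
  · exact chunk_apply kV_1071 (by omega) (by omega)
  · exact chunk_apply kV_1072 (by omega) (by omega)
  · exact chunk_apply kV_1073 (by omega) (by omega)
  · exact chunk_apply kV_1074 (by omega) (by omega)
  · exact chunk_apply kV_1075 (by omega) (by omega)
  · exact chunk_apply kV_1076 (by omega) (by omega)
  · exact chunk_apply kV_1077 (by omega) (by omega)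
  · exact chunk_apply kV_1078 (by omega) (by omega)
  · exact chunk_apply kV_1079 (by omega) (by omega)
  · exact chunk_apply kV_1080 (by omega) (by omega)
  · exact chunk_apply kV_1081 (by omega) (by omega)
  · exact chunk_apply kV_1082 (by omega) (by omega)
  · exact chunk_apply kV_1083 (by omega) (by omega)
  · exact chunk_apply kV_1084 (by omega) (by omega)
  · exact chunk_apply kV_1085 (by omega) (by omega)
  · exact chunk_apply kV_1086 (by omega) (by omega)
  · exact chunk_apply kV_1087 (by omega) (by omega)
  · exact chunk_apply kV_1088 (by omega) (by omega)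
  · exact chunk_apply kV_1089 (by omega) (by omega)
  · exact chunk_apply kV_1090 (by omega) (by omega)
  · exact chunk_apply kV_1091 (by omega) (by omega)
  · exact chunk_apply kV_1092 (by omega) (by omega)
  · exact chunk_apply kV_1093 (by omega) (by omega)
  · exact chunk_apply kV_1094 (by omega) (by omega)
  · exact chunk_apply kV_1095 (by omega) (by omega)
  · exact chunk_apply kV_1096 (by omega) (by omega)
  · exact chunk_apply kV_1097 (by omega) (by omega)
  · exact chunk_apply kV_1098 (by omega) (by omega)
  · exact chunk_apply kV_1099 (by omega) (by omega)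
  · exact chunk_apply kV_1100 (by omega) (by omega)
  · exact chunk_apply kV_1101 (by omega) (by omega)
  · exact chunk_apply kV_1102 (by omega) (by omega)
  · exact chunk_apply kV_1103 (by omega) (by omega)
  · exact chunk_apply kV_1104 (by omega) (by omega)
  · exact chunk_apply kV_1105 (by omega) (by omega)
  · exact chunk_apply kV_1106 (by omega) (by omega)
  · exact chunk_apply kV_1107 (by omega) (by omega)
  · exact chunk_apply kV_1108 (by omega) (by omega)
  · exact chunk_apply kV_1109 (by omega) (by omega)
  · exact chunk_apply kV_1110 (by omega) (by omega)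
  · exact chunk_apply kV_1111 (by omega) (by omega)
  · exact chunk_apply kV_1112 (by omega) (by omega)
  · exact chunk_apply kV_1113 (by omega) (by omega)
  · exact chunk_apply kV_1114 (by omega) (by omega)
  · exact chunk_apply kV_1115 (by omega) (by omega)
  · exact chunk_apply kV_1116 (by omega) (by omega)
  · exact chunk_apply kV_1117 (by omega) (by omega)
  · exact chunk_apply kV_1118 (by omega) (by omega)
  · exact chunk_apply kV_1119 (by omega) (by omega)
  · exact chunk_apply kV_1120 (by omega) (by omega)
  · exact chunk_apply kV_1121 (by omega) (by omega)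
  · exact chunk_apply kV_1122 (by omega) (by omega)
  · exact chunk_apply kV_1123 (by omega) (by omega)
  · exact chunk_apply kV_1124 (by omega) (by omega)
  · exact chunk_apply kV_1125 (by omega) (by omega)
  · exact chunk_apply kV_1126 (by omega) (by omega)
  · exact chunk_apply kV_1127 (by omega) (by omega)
  · exact chunk_apply kV_1128 (by omega) (by omega)
  · exact chunk_apply kV_1129 (by omega) (by omega)
  · exact chunk_apply kV_1130 (by omega) (by omega)
  · exact chunk_apply kV_1131 (by omega) (by omega)
  · exact chunk_apply kV_1132 (by omega) (by omega)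
  · exact chunk_apply kV_1133 (by omega) (by omega)
  · exact chunk_apply kV_1134 (by omega) (by omega)
  · exact chunk_apply kV_1135 (by omega) (by omega)
  · exact chunk_apply kV_1136 (by omega) (by omega)
  · exact chunk_apply kV_1137 (by omega) (by omega)
  · exact chunk_apply kV_1138 (by omega) (by omega)
  · exact chunk_apply kV_1139 (by omega) (by omega)
  · exact chunk_apply kV_1140 (by omega) (by omega)
  · exact chunk_apply kV_1141 (by omega) (by omega)
  · exact chunk_apply kV_1142 (by omega) (by omega)
  · exact chunk_apply kV_1143 (by omega) (by omega)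
  · exact chunk_apply kV_1144 (by omega) (by omega)
  · exact chunk_apply kV_1145 (by omega) (by omega)
  · exact chunk_apply kV_1146 (by omega) (by omega)
  · exact chunk_apply kV_1147 (by omega) (by omega)
  · exact chunk_apply kV_1148 (by omega) (by omega)
  · exact chunk_apply kV_1149 (by omega) (by omega)
  · exact chunk_apply kV_1150 (by omega) (by omega)
  · exact chunk_apply kV_1151 (by omega) (by omega)

end Cfsg.Agent.Helper14.J3
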