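import Mathlib
import Cfsg.Agent.Helper14.J3Y

set_option autoImplicit false

namespace Cfsg.Agent.Helper14.J3

theorem kV_1152 : (List.range 128).all (fun k => chkVn Vtab XYgens V0 (128 * 1152 + k)) = true := by decide +kernel
theorem kV_1153 : (List.range 128).all (fun k => chkVn Vtab XYgens V0 (128 * 1153 + k)) = true := by decide +kernel
theorem kV_1154 : (List.range 128).all (fun k => chkVn Vtab XYgens V0 (128 * 1154 + k)) = true := by decide +kernel
theorem kV_1155 : (List.range 128).all (fun k => chkVn Vtab XYgens V0 (128 * 1155 + k)) = true := by decide +kernel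
theorem kV_1156 : (List.range 128).all (fun k => chkVn Vtab XYgens V0 (128 * 1156 + k)) = true := by decide +kernel
theorem kV_1157 : (List.range 128).all (fun k => chkVn Vtab XYgens V0 (128 * 1157 + k)) = true := by decide +kernel
theorem kV_1158 : (List.range 128).all (fun k => chkVn Vtab XYgens V0 (128 * 1158 + k)) = true := by decide +kernel
theorem kV_1159 : (List.range 128).all (fun k => chkVn Vtab XYgens V0 (128 * 1159 + k)) = true := by decide +kernel
theorem kV_1160 : (List.range 128).all (fun k => chkVn Vtab XYgens V0 (128 * 1160 + k)) = true := by decide +kernel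
theorem kV_1161 : (List.range 128).all (fun k => chkVn Vtab XYgens V0 (128 * 1161 + k)) = true := by decide +kernel
theorem kV_1162 : (List.range 128).all (fun k => chkVn Vtab XYgens V0 (128 * 1162 + k)) = true := by decide +kernel
theorem kV_1163 : (List.range 128).all (fun k => chkVn Vtab XYgens V0 (128 * 1163 + k)) = true := by decide +kernel
theorem kV_1164 : (List.range 128).all (fun k => chkVn Vtab XYgens V0 (128 * 1164 + k)) = true := by decide +kernel
theorem kV_1165 : (List.range 128).all (fun k => chkVn Vtab XYgens V0 (128 * 1165 + k)) = true := by decide +kernel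
theorem kV_1166 : (List.range 128).all (fun k => chkVn Vtab XYgens V0 (128 * 1166 + k)) = true := by decide +kernel
theorem kV_1167 : (List.range 128).all (fun k => chkVn Vtab XYgens V0 (128 * 1167 + k)) = true := by decide +kernel
theorem kV_1168 : (List.range 128).all (fun k => chkVn Vtab XYgens V0 (128 * 1168 + k)) = true := by decide +kernel
theorem kV_1169 : (List.range 128).all (fun k => chkVn Vtab XYgens V0 (128 * 1169 + k)) = true := by decide +kernel
theorem kV_1170 : (List.range 128).all (fun k => chkVn Vtab XYgens V0 (128 * 1170 + k)) = true := by decide +kernel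
theorem kV_1171 : (List.range 128).all (fun k => chkVn Vtab XYgens V0 (128 * 1171 + k)) = true := by decide +kernel
theorem kV_1172 : (List.range 128).all (fun k => chkVn Vtab XYgens V0 (128 * 1172 + k)) = true := by decide +kernel
theorem kV_1173 : (List.range 128).all (fun k => chkVn Vtab XYgens V0 (128 * 1173 + k)) = true := by decide +kernel
theorem kV_1174 : (List.range 128).all (fun k => chkVn Vtab XYgens V0 (128 * 1174 + k)) = true := by decide +kernel
theorem kV_1175 : (List.range 128).all (fun k => chkVn Vtab XYgens V0 (128 * 1175 + k)) = true := by decide +kernel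
theorem kV_1176 : (List.range 128).all (fun k => chkVn Vtab XYgens V0 (128 * 1176 + k)) = true := by decide +kernel
theorem kV_1177 : (List.range 128).all (fun k => chkVn Vtab XYgens V0 (128 * 1177 + k)) = true := by decide +kernel
theorem kV_1178 : (List.range 128).all (fun k => chkVn Vtab XYgens V0 (128 * 1178 + k)) = true := by decide +kernel
theorem kV_1179 : (List.range 128).all (fun k => chkVn Vtab XYgens V0 (128 * 1179 + k)) = true := by decide +kernel
theorem kV_1180 : (List.range 128).all (fun k => chkVn Vtab XYgens V0 (128 * 1180 + k)) = true := by decide +kernel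
theorem kV_1181 : (List.range 128).all (fun k => chkVn Vtab XYgens V0 (128 * 1181 + k)) = true := by decide +kernel
theorem kV_1182 : (List.range 128).all (fun k => chkVn Vtab XYgens V0 (128 * 1182 + k)) = true := by decide +kernel
theorem kV_1183 : (List.range 128).all (fun k => chkVn Vtab XYgens V0 (128 * 1183 + k)) = true := by decide +kernel
theorem kV_1184 : (List.range 128).all (fun k => chkVn Vtab XYgens V0 (128 * 1184 + k)) = true := by decide +kernel
theorem kV_1185 : (List.range 128).all (fun k => chkVn Vtab XYgens V0 (128 * 1185 + k)) = true := by decide +kernel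
theorem kV_1186 : (List.range 128).all (fun k => chkVn Vtab XYgens V0 (128 * 1186 + k)) = true := by decide +kernel
theorem kV_1187 : (List.range 128).all (fun k => chkVn Vtab XYgens V0 (128 * 1187 + k)) = true := by decide +kernel
theorem kV_1188 : (List.range 128).all (fun k => chkVn Vtab XYgens V0 (128 * 1188 + k)) = true := by decide +kernel
theorem kV_1189 : (List.range 128).all (fun k => chkVn Vtab XYgens V0 (128 * 1189 + k)) = true := by decide +kernel
theorem kV_1190 : (List.range 128).all (fun k => chkVn Vtab XYgens V0 (128 * 1190 + k)) = true := by decide +kernel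
theorem kV_1191 : (List.range 128).all (fun k => chkVn Vtab XYgens V0 (128 * 1191 + k)) = true := by decide +kernel
theorem kV_1192 : (List.range 128).all (fun k => chkVn Vtab XYgens V0 (128 * 1192 + k)) = true := by decide +kernel
theorem kV_1193 : (List.range 128).all (fun k => chkVn Vtab XYgens V0 (128 * 1193 + k)) = true := by decide +kernel
theorem kV_1194 : (List.range 128).all (fun k => chkVn Vtab XYgens V0 (128 * 1194 + k)) = true := by decide +kernel
theorem kV_1195 : (List.range 128).all (fun k => chkVn Vtab XYgens V0 (128 * 1195 + k)) = true := by decide +kernel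
theorem kV_1196 : (List.range 128).all (fun k => chkVn Vtab XYgens V0 (128 * 1196 + k)) = true := by decide +kernel
theorem kV_1197 : (List.range 128).all (fun k => chkVn Vtab XYgens V0 (128 * 1197 + k)) = true := by decide +kernel
theorem kV_1198 : (List.range 128).all (fun k => chkVn Vtab XYgens V0 (128 * 1198 + k)) = true := by decide +kernel
theorem kV_1199 : (List.range 128).all (fun k => chkVn Vtab XYgens V0 (128 * 1199 + k)) = true := by decide +kernel
theorem kV_1200 : (List.range 128).all (fun k => chkVn Vtab XYgens V0 (128 * 1200 + k)) = true := by decide +kernel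
theorem kV_1201 : (List.range 128).all (fun k => chkVn Vtab XYgens V0 (128 * 1201 + k)) = true := by decide +kernel
theorem kV_1202 : (List.range 128).all (fun k => chkVn Vtab XYgens V0 (128 * 1202 + k)) = true := by decide +kernel
theorem kV_1203 : (List.range 128).all (fun k => chkVn Vtab XYgens V0 (128 * 1203 + k)) = true := by decide +kernel
theorem kV_1204 : (List.range 128).all (fun k => chkVn Vtab XYgens V0 (128 * 1204 + k)) = true := by decide +kernel
theorem kV_1205 : (List.range 128).all (fun k => chkVn Vtab XYgens V0 (128 * 1205 + k)) = true := by decide +kernel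
theorem kV_1206 : (List.range 128).all (fun k => chkVn Vtab XYgens V0 (128 * 1206 + k)) = true := by decide +kernel
theorem kV_1207 : (List.range 128).all (fun k => chkVn Vtab XYgens V0 (128 * 1207 + k)) = true := by decide +kernel
theorem kV_1208 : (List.range 128).all (fun k => chkVn Vtab XYgens V0 (128 * 1208 + k)) = true := by decide +kernel
theorem kV_1209 : (List.range 128).all (fun k => chkVn Vtab XYgens V0 (128 * 1209 + k)) = true := by decide +kernel
theorem kV_1210 : (List.range 128).all (fun k => chkVn Vtab XYgens V0 (128 * 1210 + k)) = true := by decide +kernel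
theorem kV_1211 : (List.range 128).all (fun k => chkVn Vtab XYgens V0 (128 * 1211 + k)) = true := by decide +kernel
theorem kV_1212 : (List.range 128).all (fun k => chkVn Vtab XYgens V0 (128 * 1212 + k)) = true := by decide +kernel
theorem kV_1213 : (List.range 128).all (fun k => chkVn Vtab XYgens V0 (128 * 1213 + k)) = true := by decide +kernel
theorem kV_1214 : (List.range 128).all (fun k => chkVn Vtab XYgens V0 (128 * 1214 + k)) = true := by decide +kernel
theorem kV_1215 : (List.range 128).all (fun k => chkVn Vtab XYgens V0 (128 * 1215 + k)) = true := by decide +kernel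
theorem kV_1216 : (List.range 128).all (fun k => chkVn Vtab XYgens V0 (128 * 1216 + k)) = true := by decide +kernel
theorem kV_1217 : (List.range 128).all (fun k => chkVn Vtab XYgens V0 (128 * 1217 + k)) = true := by decide +kernel
theorem kV_1218 : (List.range 128).all (fun k => chkVn Vtab XYgens V0 (128 * 1218 + k)) = true := by decide +kernel
theorem kV_1219 : (List.range 128).all (fun k => chkVn Vtab XYgens V0 (128 * 1219 + k)) = true := by decide +kernel
theorem kV_1220 : (List.range 128).all (fun k => chkVn Vtab XYgens V0 (128 * 1220 + k)) = true := by decide +kernel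
theorem kV_1221 : (List.range 128).all (fun k => chkVn Vtab XYgens V0 (128 * 1221 + k)) = true := by decide +kernel
theorem kV_1222 : (List.range 128).all (fun k => chkVn Vtab XYgens V0 (128 * 1222 + k)) = true := by decide +kernel
theorem kV_1223 : (List.range 128).all (fun k => chkVn Vtab XYgens V0 (128 * 1223 + k)) = true := by decide +kernel
theorem kV_1224 : (List.range 128).all (fun k => chkVn Vtab XYgens V0 (128 * 1224 + k)) = true := by decide +kernel
theorem kV_1225 : (List.range 128).all (fun k => chkVn Vtab XYgens V0 (128 * 1225 + k)) = true := by decide +kernel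
theorem kV_1226 : (List.range 128).all (fun k => chkVn Vtab XYgens V0 (128 * 1226 + k)) = true := by decide +kernel
theorem kV_1227 : (List.range 128).all (fun k => chkVn Vtab XYgens V0 (128 * 1227 + k)) = true := by decide +kernel
theorem kV_1228 : (List.range 128).all (fun k => chkVn Vtab XYgens V0 (128 * 1228 + k)) = true := by decide +kernel
theorem kV_1229 : (List.range 128).all (fun k => chkVn Vtab XYgens V0 (128 * 1229 + k)) = true := by decide +kernel
theorem kV_1230 : (List.range 128).all (fun k => chkVn Vtab XYgens V0 (128 * 1230 + k)) = true := by decide +kernel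
theorem kV_1231 : (List.range 128).all (fun k => chkVn Vtab XYgens V0 (128 * 1231 + k)) = true := by decide +kernel
theorem kV_1232 : (List.range 128).all (fun k => chkVn Vtab XYgens V0 (128 * 1232 + k)) = true := by decide +kernel
theorem kV_1233 : (List.range 128).all (fun k => chkVn Vtab XYgens V0 (128 * 1233 + k)) = true := by decide +kernel
theorem kV_1234 : (List.range 128).all (fun k => chkVn Vtab XYgens V0 (128 * 1234 + k)) = true := by decide +kernel
theorem kV_1235 : (List.range 128).all (fun k => chkVn Vtab XYgens V0 (128 * 1235 + k)) = true := by decide +kernel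
theorem kV_1236 : (List.range 128).all (fun k => chkVn Vtab XYgens V0 (128 * 1236 + k)) = true := by decide +kernel
theorem kV_1237 : (List.range 128).all (fun k => chkVn Vtab XYgens V0 (128 * 1237 + k)) = true := by decide +kernel
theorem kV_1238 : (List.range 128).all (fun k => chkVn Vtab XYgens V0 (128 * 1238 + k)) = true := by decide +kernel
theorem kV_1239 : (List.range 128).all (fun k => chkVn Vtab XYgens V0 (128 * 1239 + k)) = true := by decide +kernel
theorem kV_1240 : (List.range 128).all (fun k => chkVn Vtab XYgens V0 (128 * 1240 + k)) = true := by decide +kernel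
theorem kV_1241 : (List.range 128).all (fun k => chkVn Vtab XYgens V0 (128 * 1241 + k)) = true := by decide +kernel
theorem kV_1242 : (List.range 128).all (fun k => chkVn Vtab XYgens V0 (128 * 1242 + k)) = true := by decide +kernel
theorem kV_1243 : (List.range 128).all (fun k => chkVn Vtab XYgens V0 (128 * 1243 + k)) = true := by decide +kernel
theorem kV_1244 : (List.range 128).all (fun k => chkVn Vtab XYgens V0 (128 * 1244 + k)) = true := by decide +kernel
theorem kV_1245 : (List.range 128).all (fun k => chkVn Vtab XYgens V0 (128 * 1245 + k)) = true := by decide +kernel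
theorem kV_1246 : (List.range 128).all (fun k => chkVn Vtab XYgens V0 (128 * 1246 + k)) = true := by decide +kernel
theorem kV_1247 : (List.range 128).all (fun k => chkVn Vtab XYgens V0 (128 * 1247 + k)) = true := by decide +kernel
theorem kV_1248 : (List.range 128).all (fun k => chkVn Vtab XYgens V0 (128 * 1248 + k)) = true := by decide +kernel
theorem kV_1249 : (List.range 128).all (fun k => chkVn Vtab XYgens V0 (128 * 1249 + k)) = true := by decide +kernel
theorem kV_1250 : (List.range 128).all (fun k => chkVn Vtab XYgens V0 (128 * 1250 + k)) = true := by decide +kernel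
theorem kV_1251 : (List.range 128).all (fun k => chkVn Vtab XYgens V0 (128 * 1251 + k)) = true := by decide +kernel
theorem kV_1252 : (List.range 128).all (fun k => chkVn Vtab XYgens V0 (128 * 1252 + k)) = true := by decide +kernel
theorem kV_1253 : (List.range 128).all (fun k => chkVn Vtab XYgens V0 (128 * 1253 + k)) = true := by decide +kernel
theorem kV_1254 : (List.range 128).all (fun k => chkVn Vtab XYgens V0 (128 * 1254 + k)) = true := by decide +kernel
theorem kV_1255 : (List.range 128).all (fun k => chkVn Vtab XYgens V0 (128 * 1255 + k)) = true := by decide +kernel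
theorem kV_1256 : (List.range 128).all (fun k => chkVn Vtab XYgens V0 (128 * 1256 + k)) = true := by decide +kernel
theorem kV_1257 : (List.range 128).all (fun k => chkVn Vtab XYgens V0 (128 * 1257 + k)) = true := by decide +kernel
theorem kV_1258 : (List.range 128).all (fun k => chkVn Vtab XYgens V0 (128 * 1258 + k)) = true := by decide +kernel
theorem kV_1259 : (List.range 128).all (fun k => chkVn Vtab XYgens V0 (128 * 1259 + k)) = true := by decide +kernel
theorem kV_1260 : (List.range 128).all (fun k => chkVn Vtab XYgens V0 (128 * 1260 + k)) = true := by decide +kernel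
theorem kV_1261 : (List.range 128).all (fun k => chkVn Vtab XYgens V0 (128 * 1261 + k)) = true := by decide +kernel
theorem kV_1262 : (List.range 128).all (fun k => chkVn Vtab XYgens V0 (128 * 1262 + k)) = true := by decide +kernel
theorem kV_1263 : (List.range 128).all (fun k => chkVn Vtab XYgens V0 (128 * 1263 + k)) = true := by decide +kernel
theorem kV_1264 : (List.range 128).all (fun k => chkVn Vtab XYgens V0 (128 * 1264 + k)) = true := by decide +kernel
theorem kV_1265 : (List.range 128).all (fun k => chkVn Vtab XYgens V0 (128 * 1265 + k)) = true := by decide +kernel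
theorem kV_1266 : (List.range 128).all (fun k => chkVn Vtab XYgens V0 (128 * 1266 + k)) = true := by decide +kernel
theorem kV_1267 : (List.range 128).all (fun k => chkVn Vtab XYgens V0 (128 * 1267 + k)) = true := by decide +kernel
theorem kV_1268 : (List.range 128).all (fun k => chkVn Vtab XYgens V0 (128 * 1268 + k)) = true := by decide +kernel
theorem kV_1269 : (List.range 128).all (fun k => chkVn Vtab XYgens V0 (128 * 1269 + k)) = true := by decide +kernel
theorem kV_1270 : (List.range 128).all (fun k => chkVn Vtab XYgens V0 (128 * 1270 + k)) = true := by decide +kernel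
theorem kV_1271 : (List.range 128).all (fun k => chkVn Vtab XYgens V0 (128 * 1271 + k)) = true := by decide +kernel
theorem kV_1272 : (List.range 128).all (fun k => chkVn Vtab XYgens V0 (128 * 1272 + k)) = true := by decide +kernel
theorem kV_1273 : (List.range 128).all (fun k => chkVn Vtab XYgens V0 (128 * 1273 + k)) = true := by decide +kernel
theorem kV_1274 : (List.range 128).all (fun k => chkVn Vtab XYgens V0 (128 * 1274 + k)) = true := by decide +kernel
theorem kV_1275 : (List.range 128).all (fun k => chkVn Vtab XYgens V0 (128 * 1275 + k)) = true := by decide +kernel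
theorem kV_1276 : (List.range 128).all (fun k => chkVn Vtab XYgens V0 (128 * 1276 + k)) = true := by decide +kernel
theorem kV_1277 : (List.range 128).all (fun k => chkVn Vtab XYgens V0 (128 * 1277 + k)) = true := by decide +kernel
theorem kV_1278 : (List.range 128).all (fun k => chkVn Vtab XYgens V0 (128 * 1278 + k)) = true := by decide +kernel
theorem kV_1279 : (List.range 128).all (fun k => chkVn Vtab XYgens V0 (128 * 1279 + k)) = true := by decide +kernel

theorem chkV_9 : ∀ n, 147456 ≤ n → n < 163840 → chkVn Vtab XYgens V0 n = true := by
  intro n h1 h2
  obtain ⟨J, hJ⟩ : ∃ J, J = n / 128 := ⟨_, rfl⟩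
  have hJ1 : 1152 ≤ J := by omega
  have hJ2 : J < 1280 := by omega
  interval_cases J
  · exact chunk_apply kV_1152 (by omega) (by omega)
  · exact chunk_apply kV_1153 (by omega) (by omega)
  · exact chunk_apply kV_1154 (by omega) (by omega)
  · exact chunk_apply kV_1155 (by omega) (by omega)
  · exact chunk_apply kV_1156 (by omega) (by omega)
  · exact chunk_apply kV_1157 (by omega) (by omega)
  · exact chunk_apply kV_1158 (by omega) (by omega)
  · exact chunk_apply kV_1159 (by omega) (by omega)
  · exact chunk_apply kV_1160 (by omega) (by omega)
  · exact chunk_apply kV_1161 (by omega) (by omega)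
  · exact chunk_apply kV_1162 (by omega) (by omega)
  · exact chunk_apply kV_1163 (by omega) (by omega)
  · exact chunk_apply kV_1164 (by omega) (by omega)
  · exact chunk_apply kV_1165 (by omega) (by omega)
  · exact chunk_apply kV_1166 (by omega) (by omega)
  · exact chunk_apply kV_1167 (by omega) (by omega)
  · exact chunk_apply kV_1168 (by omega) (by omega)
  · exact chunk_apply kV_1169 (by omega) (by omega)
  · exact chunk_apply kV_1170 (by omega) (by omega)
  · exact chunk_apply kV_1171 (by omega) (by omega)
  · exact chunk_apply kV_1172 (by omega) (by omega)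
  · exact chunk_apply kV_1173 (by omega) (by omega)
  · exact chunk_apply kV_1174 (by omega) (by omega)
  · exact chunk_apply kV_1175 (by omega) (by omega)
  · exact chunk_apply kV_1176 (by omega) (by omega)
  · exact chunk_apply kV_1177 (by omega) (by omega)
  · exact chunk_apply kV_1178 (by omega) (by omega)
  · exact chunk_apply kV_1179 (by omega) (by omega)
  · exact chunk_apply kV_1180 (by omega) (by omega)
  · exact chunk_apply kV_1181 (by omega) (by omega)
  · exact chunk_apply kV_1182 (by omega) (by omega)
  · exact chunk_apply kV_1183 (by omega) (by omega)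
  · exact chunk_apply kV_1184 (by omega) (by omega)
  · exact chunk_apply kV_1185 (by omega) (by omega)
  · exact chunk_apply kV_1186 (by omega) (by omega)
  · exact chunk_apply kV_1187 (by omega) (by omega)
  · exact chunk_apply kV_1188 (by omega) (by omega)
  · exact chunk_apply kV_1189 (by omega) (by omega)
  · exact chunk_apply kV_1190 (by omega) (by omega)
  · exact chunk_apply kV_1191 (by omega) (by omega)
  · exact chunk_apply kV_1192 (by omega) (by omega)
  · exact chunk_apply kV_1193 (by omega) (by omega)
  · exact chunk_apply kV_1194 (by omega) (by omega)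
  · exact chunk_apply kV_1195 (by omega) (by omega)
  · exact chunk_apply kV_1196 (by omega) (by omega)
  · exact chunk_apply kV_1197 (by omega) (by omega)
  · exact chunk_apply kV_1198 (by omega) (by omega)
  · exact chunk_apply kV_1199 (by omega) (by omega)
  · exact chunk_apply kV_1200 (by omega) (by omega)
  · exact chunk_apply kV_1201 (by omega) (by omega)
  · exact chunk_apply kV_1202 (by omega) (by omega)
  · exact chunk_apply kV_1203 (by omega) (by omega)
  · exact chunk_apply kV_1204 (by omega) (by omega)
  · exact chunk_apply kV_1205 (by omega) (by omega)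
  · exact chunk_apply kV_1206 (by omega) (by omega)
  · exact chunk_apply kV_1207 (by omega) (by omega)
  · exact chunk_apply kV_1208 (by omega) (by omega)
  · exact chunk_apply kV_1209 (by omega) (by omega)
  · exact chunk_apply kV_1210 (by omega) (by omega)
  · exact chunk_apply kV_1211 (by omega) (by omega)
  · exact chunk_apply kV_1212 (by omega) (by omega)
  · exact chunk_apply kV_1213 (by omega) (by omega)
  · exact chunk_apply kV_1214 (by omega) (by omega)
  · exact chunk_apply kV_1215 (by omega) (by omega)
  · exact chunk_apply kV_1216 (by omega) (by omega)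
  · exact chunk_apply kV_1217 (by omega) (by omega)
  · exact chunk_apply kV_1218 (by omega) (by omega)
  · exact chunk_apply kV_1219 (by omega) (by omega)
  · exact chunk_apply kV_1220 (by omega) (by omega)
  · exact chunk_apply kV_1221 (by omega) (by omega)
  · exact chunk_apply kV_1222 (by omega) (by omega)
  · exact chunk_apply kV_1223 (by omega) (by omega)
  · exact chunk_apply kV_1224 (by omega) (by omega)
  · exact chunk_apply kV_1225 (by omega) (by omega)
  · exact chunk_apply kV_1226 (by omega) (by omega)
  · exact chunk_apply kV_1227 (by omega) (by omega)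
  · exact chunk_apply kV_1228 (by omega) (by omega)
  · exact chunk_apply kV_1229 (by omega) (by omega)
  · exact chunk_apply kV_1230 (by omega) (by omega)
  · exact chunk_apply kV_1231 (by omega) (by omega)
  · exact chunk_apply kV_1232 (by omega) (by omega)
  · exact chunk_apply kV_1233 (by omega) (by omega)
  · exact chunk_apply kV_1234 (by omega) (by omega)
  · exact chunk_apply kV_1235 (by omega) (by omega)
  · exact chunk_apply kV_1236 (by omega) (by omega)
  · exact chunk_apply kV_1237 (by omega) (by omega)
  · exact chunk_apply kV_1238 (by omega) (by omega)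
  · exact chunk_apply kV_1239 (by omega) (by omega)
  · exact chunk_apply kV_1240 (by omega) (by omega)
  · exact chunk_apply kV_1241 (by omega) (by omega)
  · exact chunk_apply kV_1242 (by omega) (by omega)
  · exact chunk_apply kV_1243 (by omega) (by omega)
  · exact chunk_apply kV_1244 (by omega) (by omega)
  · exact chunk_apply kV_1245 (by omega) (by omega)
  · exact chunk_apply kV_1246 (by omega) (by omega)
  · exact chunk_apply kV_1247 (by omega) (by omega)
  · exact chunk_apply kV_1248 (by omega) (by omega)
  · exact chunk_apply kV_1249 (by omega) (by omega)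
  · exact chunk_apply kV_1250 (by omega) (by omega)
  · exact chunk_apply kV_1251 (by omega) (by omega)
  · exact chunk_apply kV_1252 (by omega) (by omega)
  · exact chunk_apply kV_1253 (by omega) (by omega)
  · exact chunk_apply kV_1254 (by omega) (by omega)
  · exact chunk_apply kV_1255 (by omega) (by omega)
  · exact chunk_apply kV_1256 (by omega) (by omega)
  · exact chunk_apply kV_1257 (by omega) (by omega)
  · exact chunk_apply kV_1258 (by omega) (by omega)
  · exact chunk_apply kV_1259 (by omega) (by omega)
  · exact chunk_apply kV_1260 (by omega) (by omega)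
  · exact chunk_apply kV_1261 (by omega) (by omega)
  · exact chunk_apply kV_1262 (by omega) (by omega)
  · exact chunk_apply kV_1263 (by omega) (by omega)
  · exact chunk_apply kV_1264 (by omega) (by omega)
  · exact chunk_apply kV_1265 (by omega) (by omega)
  · exact chunk_apply kV_1266 (by omega) (by omega)
  · exact chunk_apply kV_1267 (by omega) (by omega)
  · exact chunk_apply kV_1268 (by omega) (by omega)
  · exact chunk_apply kV_1269 (by omega) (by omega)
  · exact chunk_apply kV_1270 (by omega) (by omega)
  · exact chunk_apply kV_1271 (by omega) (by omega)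
  · exact chunk_apply kV_1272 (by omega) (by omega)
  · exact chunk_apply kV_1273 (by omega) (by omega)
  · exact chunk_apply kV_1274 (by omega) (by omega)
  · exact chunk_apply kV_1275 (by omega) (by omega)
  · exact chunk_apply kV_1276 (by omega) (by omega)
  · exact chunk_apply kV_1277 (by omega) (by omega)
  · exact chunk_apply kV_1278 (by omega) (by omega)
  · exact chunk_apply kV_1279 (by omega) (by omega)

end Cfsg.Agent.Helper14.J3
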