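import Mathlib
import Cfsg.Prelude.Def_Classical
import Cfsg.Prelude.Def_Sporadic
import Cfsg.Agent.Helper14.J3S

/-!
# The triple cover of the third Janko group inside the special unitary group
-/

set_option autoImplicit false
set_option linter.unusedSectionVars false

namespace Cfsg.Agent.Helper14.J3

open Cfsg Cfsg.Spor
open scoped MatrixGroups

/-- the code of the matrix with all entries squared -/
def conjc (c : Nat) : Nat := (lo c ^^^ hi c) + P81 * hi c

/-- `t` codes the transpose of the matrix coded by `c` -/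
def trOK (c t : Nat) : Bool :=
  (List.range 9).all fun i => (List.range 9).all fun j =>
    ((lo t).testBit (9 * i + j) == (lo c).testBit (9 * j + i)) &&
    ((hi t).testBit (9 * i + j) == (hi c).testBit (9 * j + i))

def XcT : Nat := 1892783774330118428726273

def YcT : Nat := 5487053166639746809363345982857299378192

theorem trOK_X : trOK Xc XcT = true := by decide +kernel

theorem trOK_Y : trOK Yc YcT = true := by decide +kernel

theorem uni_X : mul4 XcT (conjc Xc) = ONE := by decide +kernel

theorem uni_Y : mul4 YcT (conjc Yc) = ONE := by decide +kernel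

section field

variable {F : Type*} [Field F] [CharP F 2] (ω : F) (hω : ω * ω = ω + 1)

include hω in
theorem toMat9_conjc (c : Nat) : toMat9 F ω (conjc c) = (toMat9 F ω c).map (· ^ 2) := by
  have hx : lo c ^^^ hi c < 2 ^ 81 := Nat.xor_lt_two_pow (lo_lt c) (hi_lt c)
  unfold toMat9 conjc
  rw [lo_pack hx, hi_pack hx (hi_lt c), bitMat_xor]
  ext i j
  simp only [Matrix.add_apply, Matrix.smul_apply, Matrix.map_apply, bitMat_apply, smul_eq_mul]
  have hw2 : ω ^ 2 = ω + 1 := by rw [pow_two, hω]
  have h11 : (1 : F) + 1 = 0 := CharTwo.add_self_eq_zero 1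
  cases (lo c).testBit (9 * i.val + j.val) <;> cases (hi c).testBit (9 * i.val + j.val) <;>
    simp [hw2, add_pow_char_of_commute, add_comm, add_left_comm]

theorem toMat9_transpose {c t : Nat} (h : trOK c t = true) :
    toMat9 F ω t = (toMat9 F ω c).transpose := by
  unfold trOK at h
  rw [List.all_eq_true] at h
  ext i j
  have h1 := h i.val (List.mem_range.2 i.isLt)
  rw [List.all_eq_true] at h1
  have h2 := h1 j.val (List.mem_range.2 j.isLt)
  rw [Bool.and_eq_true] at h2
  have e1 := eq_of_beq h2.1
  have e2 := eq_of_beq h2.2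
  unfold toMat9
  simp only [Matrix.transpose_apply, Matrix.add_apply, Matrix.smul_apply, bitMat_apply, e1, e2]

/-- unitary matrices for the form `Σ u_i v_i ^ 2` -/
def Uni (M : Matrix (Fin 9) (Fin 9) F) : Prop := M.transpose * M.map (· ^ 2) = 1

include hω in
theorem uni_of_check {c t : Nat} (h : trOK c t = true) (h' : mul4 t (conjc c) = ONE) :
    Uni (toMat9 F ω c) := by
  unfold Uni
  rw [← toMat9_transpose ω h, ← toMat9_conjc ω hω, ← toMat9_mul4 F ω hω, h', toMat9_ONE]

theorem Uni_one : Uni (1 : Matrix (Fin 9) (Fin 9) F) := by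
  unfold Uni
  rw [Matrix.transpose_one, Matrix.map_one _ (by simp) (by simp), mul_one]

theorem Uni_mul {A B : Matrix (Fin 9) (Fin 9) F} (hA : Uni A) (hB : Uni B) : Uni (A * B) := by
  unfold Uni at *
  have : ExpChar F 2 := ExpChar.prime Nat.prime_two
  have e : (fun x : F => x ^ 2) = ⇑(frobenius F 2) := by
    funext x; rw [frobenius_def]
  have hm : (A * B).map (· ^ 2) = A.map (· ^ 2) * B.map (· ^ 2) := by
    rw [e]; exact Matrix.map_mul
  rw [hm, Matrix.transpose_mul, mul_assoc, ← mul_assoc A.transpose, hA, one_mul, hB]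

theorem herm_of_Uni {M : Matrix (Fin 9) (Fin 9) F} (h : Uni M) (u v : Fin 9 → F) :
    hermForm 9 F 2 (M.mulVec u) (M.mulVec v) = hermForm 9 F 2 u v := by
  have : ExpChar F 2 := ExpChar.prime Nat.prime_two
  have e : ∀ a b : Fin 9 → F, hermForm 9 F 2 a b = dotProduct a (fun i => b i ^ 2) := fun a b => rfl
  have e2 : (fun i => (M.mulVec v) i ^ 2) = (M.map (· ^ 2)).mulVec (fun i => v i ^ 2) := by
    ext i
    simp only [Matrix.mulVec, dotProduct, Matrix.map_apply]
    rw [← frobenius_def, map_sum]
    simp [frobenius_def, mul_pow]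
  unfold Uni at h
  rw [e, e, e2, Matrix.dotProduct_mulVec, ← Matrix.vecMul_transpose, Matrix.vecMul_vecMul, h,
    Matrix.vecMul_one]

variable [Finite F] (h0 : ω ≠ 0) (h1 : ω ≠ 1)

/-- the matrix of an element, with rows and columns numbered from 0 to 8 -/
def m9 (g : threeJ3 F ω) : Matrix (Fin 9) (Fin 9) F := (valHom ω g).submatrix posE.symm posE.symm

theorem m9_mul (a b : threeJ3 F ω) : m9 ω (a * b) = m9 ω a * m9 ω b := by
  unfold m9
  rw [map_mul, Matrix.submatrix_mul_equiv]

theorem m9_one : m9 ω (1 : threeJ3 F ω) = 1 := by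
  unfold m9
  rw [map_one, Matrix.submatrix_one_equiv]

theorem m9_injective : Function.Injective (m9 (F := F) ω) := by
  intro a b h
  apply valHom_injective ω
  unfold m9 at h
  ext i j
  have := congrFun (congrFun h (posE i)) (posE j)
  simpa using this

theorem submatrix_toMat (c : Nat) :
    ((toMat F ω c).submatrix posE.symm posE.symm : Matrix (Fin 9) (Fin 9) F) = toMat9 F ω c := by
  unfold toMat
  ext i j
  simp only [Matrix.submatrix_apply, Equiv.apply_symm_apply]

include hω in
theorem Uni_m9 (g : threeJ3 F ω) : Uni (m9 ω g) := by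
  let U : Submonoid (Matrix F9 F9 F) :=
    { carrier := {m | Uni (m.submatrix posE.symm posE.symm)}
      mul_mem' := by
        intro a b ha hb
        simp only [Set.mem_ofPred_eq] at ha hb ⊢
        have e : (a * b).submatrix posE.symm posE.symm =
            a.submatrix posE.symm posE.symm * b.submatrix posE.symm posE.symm :=
          (Matrix.submatrix_mul_equiv a b _ _ _).symm
        rw [e]
        exact Uni_mul ha hb
      one_mem' := by
        simp only [Set.mem_ofPred_eq]
        rw [Matrix.submatrix_one_equiv]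
        exact Uni_one }
  have hU : Sxy ω ≤ U := by
    unfold Sxy
    rw [Submonoid.closure_le]
    rintro _ ⟨c, hc, rfl⟩
    rw [XYc_eq] at hc
    simp only [List.mem_cons, List.not_mem_nil, or_false] at hc
    show Uni ((toMat F ω c).submatrix posE.symm posE.symm)
    rw [submatrix_toMat]
    rcases hc with rfl | rfl
    · exact uni_of_check ω hω trOK_X uni_X
    · exact uni_of_check ω hω trOK_Y uni_Y
  exact hU (Gm_le_Sxy ω hω (valHom_mem_Gm ω g))

include hω in
theorem det_eq_one (g : threeJ3 F ω) : (valHom ω g).det = 1 := by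
  have h : g ∈ (Matrix.GeneralLinearGroup.det.comp (threeJ3 F ω).subtype).ker := by
    apply Abelianization.commutator_subset_ker
    rw [commutator_eq_top ω hω]; exact Subgroup.mem_top _
  rw [MonoidHom.mem_ker] at h
  have := congrArg Units.val h
  show ((g : GL F9 F) : Matrix F9 F9 F).det = 1
  simpa using this

include hω in
theorem det_m9 (g : threeJ3 F ω) : (m9 ω g).det = 1 := by
  unfold m9
  rw [Matrix.det_submatrix_equiv_self]
  exact det_eq_one ω hω g

/-- the embedding in the special unitary group -/
def toSU (hω : ω * ω = ω + 1) : threeJ3 F ω →* Cfsg.SU 9 F 2 :=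
  MonoidHom.mk' (fun g => ⟨⟨m9 ω g, det_m9 ω hω g⟩, by
    intro u v
    exact herm_of_Uni (Uni_m9 ω hω g) u v⟩) (by
    intro a b
    apply Subtype.ext
    apply Subtype.ext
    exact m9_mul ω a b)

theorem toSU_injective : Function.Injective (toSU ω hω) := by
  intro a b h
  apply m9_injective ω
  have := congrArg (fun x : Cfsg.SU 9 F 2 => ((x : Matrix.SpecialLinearGroup (Fin 9) F) :
    Matrix (Fin 9) (Fin 9) F)) h
  exact this

theorem map_center_eq {G H : Type*} [Group G] [Group H] (e : G ≃* H) :
    (Subgroup.center G).map e.toMonoidHom = Subgroup.center H := by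
  ext h
  rw [Subgroup.mem_map]
  constructor
  · rintro ⟨g, hg, rfl⟩
    rw [Subgroup.mem_center_iff] at hg ⊢
    intro k
    obtain ⟨k', rfl⟩ := e.surjective k
    show e k' * e g = e g * e k'
    rw [← map_mul, ← map_mul, hg k']
  · intro hh
    refine ⟨e.symm h, ?_, by simp⟩
    rw [Subgroup.mem_center_iff] at hh ⊢
    intro k
    apply e.injective
    rw [map_mul, map_mul, e.apply_symm_apply]
    exact hh (e k)

include hω h0 h1 in
/-- the triple cover as a subgroup of the special unitary group -/
theorem exists_SU : ∃ H : Subgroup (Cfsg.SU 9 F 2), Nat.card (Subgroup.center H) = 3 ∧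
    Cfsg.IsJ3 (H ⧸ Subgroup.center H) := by
  refine ⟨(toSU ω hω).range, ?_, ?_⟩
  · have e := MonoidHom.ofInjective (toSU_injective ω hω)
    rw [← Nat.card_congr (Subgroup.centerCongr e).toEquiv]
    exact card_center ω hω h0 h1
  · have e := MonoidHom.ofInjective (toSU_injective ω hω)
    have q : threeJ3 F ω ⧸ Subgroup.center (threeJ3 F ω) ≃*
        (toSU ω hω).range ⧸ Subgroup.center (toSU ω hω).range :=
      QuotientGroup.congr _ _ e (map_center_eq e)
    have hs : IsSimpleGroup (J3 F ω) := simple_J3 ω hω h0 h1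
    refine ⟨q.symm.isSimpleGroup, ?_⟩
    rw [← Nat.card_congr q.toEquiv]
    exact card_J3 ω hω h0 h1

end field

/-- a field with four elements has a primitive cube root of unity -/
theorem exists_omega {F : Type*} [Field F] [Fintype F] (hF : Fintype.card F = 4) :
    ∃ ω : F, ω ^ 2 + ω + 1 = 0 := by
  classical
  have hex : ∃ x : F, x ∉ ({0, 1} : Finset F) := by
    by_contra hcon
    simp only [not_exists, not_not] at hcon
    have h1 : (Finset.univ : Finset F) ⊆ {0, 1} := fun x _ => hcon x
    have h2 := Finset.card_le_card h1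
    rw [Finset.card_univ, hF] at h2
    have h3 : ({0, 1} : Finset F).card ≤ 2 := Finset.card_le_two
    omega
  obtain ⟨x, hx⟩ := hex
  rw [Finset.mem_insert, Finset.mem_singleton, not_or] at hx
  have hx3 : x ^ 3 = 1 := by
    have := FiniteField.pow_card_sub_one_eq_one x hx.1
    rwa [hF] at this
  refine ⟨x, ?_⟩
  have h : (x - 1) * (x ^ 2 + x + 1) = 0 := by
    have e : (x - 1) * (x ^ 2 + x + 1) = x ^ 3 - 1 := by ring
    rw [e, hx3, sub_self]
  rcases mul_eq_zero.1 h with h | h
  · exact absurd (sub_eq_zero.1 h) hx.2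
  · exact h

/-- the statement for an arbitrary field with four elements -/
theorem exists_SU_of_card {F : Type*} [Field F] [Fintype F] (hF : Fintype.card F = 4) :
    ∃ H : Subgroup (Cfsg.SU 9 F 2), Nat.card (Subgroup.center H) = 3 ∧
      Cfsg.IsJ3 (H ⧸ Subgroup.center H) := by
  obtain ⟨ω, hω⟩ := exists_omega hF
  have : CharP F 2 := charTwo hF
  exact exists_SU ω (omega_mul ω hω) (omega_ne_zero ω hω) (omega_ne_one ω hω)

end Cfsg.Agent.Helper14.J3
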