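import Mathlib
import Cfsg.Agent.Helper14.J3CP
import Cfsg.Agent.Helper14.J3V
import Cfsg.Agent.Helper14.J3PK1

/-!
# Data for the automorphism group of the third Janko group

An element `u` of order 19 (57 in the triple cover), an element normalising the group it generates,
a matrix realising the field automorphism twisted back into the group, and the nineteen involutions
that can be the image of the first generator under an automorphism fixing `u`.
-/

set_option autoImplicit false

namespace Cfsg.Agent.Helper14.J3

def U1c : Nat := 194465285812252820610643031838373539009061210368

def U2c : Nat := 3859688430227098335417127936214020190364719504920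

def U3c : Nat := 4872425399645610116123946314335390134014225542115

def U5c : Nat := 5222117479503707995707091340647969488711106459888

def U6c : Nat := 437143184019621756668616613616659419718581262791

def Nc : Nat := 1154280570705021165781567916222470523978942645460

def Ndec : List (Nat × Nat) := [(5415, 3081)]

def Ac : Nat := 1031870653270365901644168323206141709428039858770

def Aic : Nat := 1031870653270365901644167973099411196616404413015

def XAc : Nat := 68888969799972411707569799881630349244134989967

def YAc : Nat := 3187192544604791482992552407421631716159379219489

def Adec : List (Nat × Nat) := [(1407, 945), (19021, 4109)]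

def Good19 : List Nat := [1892783774330118428726273, 1573467165256777673498941221147267118929425, 34343934015584386141170703849647244174659346138, 606047660090552858100906660258155490325248823412, 721212134954371521729322048270725597630767973779, 788187651063942561423747156278140509299659570253, 1427371812613810268303336569246244483565084617880, 1502713774499873373671631663291647468486323111979, 1503901377467340939864273613038991129318210067953, 1697362643379583176123144483824292311411595856604, 1857234655285314639904337412801708702585983860066, 1901942608360075102503105768639821783964931635821, 2006404309117696097162371906234411810046750888797, 2073124484229314327094236353473153999792639111461, 2370514259634385158905080284918622728262233429017, 2771509947121000887745567467716443475380448911567, 2851212985944689347304430359676133433459218011606, 2895183737950237783878593584592632646360799985494, 2907923724770334893938332075053406048793140916194]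

/-- the seventh power -/
def pow7 (c : Nat) : Nat := force c fun c' => mul4 (sq (mul4 (sq c') c')) c'

theorem pow7_eq (c : Nat) : pow7 c = mul4 (sq (mul4 (sq c) c)) c := by simp only [pow7, force_eq]

theorem U1_eq : mul4 Xc (sq (sq Yc)) = U1c := by decide +kernel

theorem U2_eq : sq U1c = U2c := by decide +kernel

theorem U3_eq : mul4 U2c U1c = U3c := by decide +kernel

theorem U5_eq : mul4 U3c U2c = U5c := by decide +kernel

theorem U6_eq : sq U3c = U6c := by decide +kernel

theorem Y_eq : pow7 (mul4 Xc U1c) = Yc := by decide +kernel

theorem U_ns : isScal U1c = false := by decide +kernel

theorem N_ok : mul4 Nc U1c = mul4 (sq U2c) Nc := by decide +kernel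

theorem Ndec_eq : decRH Ndec = [Nc] := by decide +kernel

theorem A_inv : (mul4 Ac Aic == ONE && mul4 Aic Ac == ONE) = true := by decide +kernel

theorem Adec_eq : decRH Adec = [XAc, YAc] := by decide +kernel

theorem XA_eq : mul4 Aic (mul4 (conjc Xc) Ac) = XAc := by decide +kernel

theorem YA_eq : mul4 Aic (mul4 (conjc Yc) Ac) = YAc := by decide +kernel

theorem ZA_eq : mul4 Aic (mul4 (conjc Z1) Ac) = Z2 := by decide +kernel

/-- the four words whose values must be scalar -/
def w1 (c : Nat) : Nat := pow5 (mul4 c U3c)

def w2 (c : Nat) : Nat := sq (sq (sq (mul4 c U2c)))

def w3 (c : Nat) : Nat := pow9 (mul4 c U1c)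

def w4 (c : Nat) : Nat := sq (sq (mul4 (mul4 c U1c) (mul4 (mul4 c U6c) (mul4 c U5c))))

theorem wX : (isScal (w1 Xc) && isScal (w2 Xc) && isScal (w3 Xc) && isScal (w4 Xc)) = true := by
  decide +kernel

/-- the test for one entry of the table of involutions: if the four words are scalar then the
involution is one of the nineteen -/
def goodChk (e : Nat) : Bool :=
  force (codeOf e) fun c =>
  force (w1 c) fun p1 => !(isScal p1) ||
  (force (w2 c) fun p2 => !(isScal p2) ||
  (force (w3 c) fun p3 => !(isScal p3) ||
  (force (w4 c) fun p4 => !(isScal p4) || Good19.contains c)))

theorem goodChk_spec {e : Nat} (h : goodChk e = true) (h1 : isScal (w1 (codeOf e)) = true)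
    (h2 : isScal (w2 (codeOf e)) = true) (h3 : isScal (w3 (codeOf e)) = true)
    (h4 : isScal (w4 (codeOf e)) = true) : codeOf e ∈ Good19 := by
  simp only [goodChk, force_eq, h1, h2, h3, h4, Bool.not_true, Bool.false_or] at h
  exact List.contains_iff_mem.1 h

theorem Good19_len : Good19.length = 19 := by decide

end Cfsg.Agent.Helper14.J3
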