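import Mathlib
import Cfsg.Agent.Helper14.J3OA
import Cfsg.Agent.Helper14.J3OB
import Cfsg.Agent.Helper14.J3OK0
import Cfsg.Agent.Helper14.J3OK1
import Cfsg.Agent.Helper14.J3OK2
import Cfsg.Agent.Helper14.J3OK3
import Cfsg.Agent.Helper14.J3OK4
import Cfsg.Agent.Helper14.J3OK5
import Cfsg.Agent.Helper14.J3OK6
import Cfsg.Agent.Helper14.J3CU

/-!
# The automorphism group of the third Janko group: at most two classes of automorphisms

The group is generated by an involution `x` and an element `u` of order 19.  The elements of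
order 19 fall into two classes, and an automorphism fixing `u` sends `x` to one of nineteen
involutions.
-/

set_option autoImplicit false
set_option linter.unusedSectionVars false

namespace Cfsg.Agent.Helper14.J3

open Cfsg Cfsg.Spor
open scoped MatrixGroups Pointwise

/-- the table of involutions passes the test -/
theorem goodI : ∀ e, memT Itab e → goodChk e = true := by
  rintro e ⟨B, hB, p, hp, c, hc, he⟩
  simp only [Itab, List.mem_cons, List.not_mem_nil, or_false] at hB
  rcases hB with rfl | rfl | rfl | rfl | rfl | rfl | rfl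
  · exact allB_of_mem gchkI0 hp hc he
  · exact allB_of_mem gchkI1 hp hc he
  · exact allB_of_mem gchkI2 hp hc he
  · exact allB_of_mem gchkI3 hp hc he
  · exact allB_of_mem gchkI4 hp hc he
  · exact allB_of_mem gchkI5 hp hc he
  · exact allB_of_mem gchkI6 hp hc he

/-! ### Words in two elements of a group -/

section words

variable {G H : Type*} [Group G] [Group H]

def W1 (a b : G) : G := (a * b ^ 3) ^ 5

def W2 (a b : G) : G := (((a * b ^ 2) ^ 2) ^ 2) ^ 2

def W3 (a b : G) : G := (a * b) ^ 9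

def W4 (a b : G) : G := (((a * b) * ((a * b ^ 6) * (a * b ^ 5))) ^ 2) ^ 2

theorem map_W1 (f : G →* H) (a b : G) : f (W1 a b) = W1 (f a) (f b) := by
  simp only [W1, map_pow, map_mul]

theorem map_W2 (f : G →* H) (a b : G) : f (W2 a b) = W2 (f a) (f b) := by
  simp only [W2, map_pow, map_mul]

theorem map_W3 (f : G →* H) (a b : G) : f (W3 a b) = W3 (f a) (f b) := by
  simp only [W3, map_pow, map_mul]

theorem map_W4 (f : G →* H) (a b : G) : f (W4 a b) = W4 (f a) (f b) := by
  simp only [W4, map_pow, map_mul]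

end words

section field

variable {F : Type*} [Field F] [CharP F 2] [Finite F] (ω : F) (hω : ω * ω = ω + 1)
variable (h0 : ω ≠ 0) (h1 : ω ≠ 1)

include hω h0 h1 in
/-- an element maps to the identity of the quotient exactly when its matrix is scalar -/
theorem piJ_eq_one_iff {g : threeJ3 F ω} {c : Nat} (hc : c < 2 ^ 162)
    (hg : valHom ω g = toMat F ω c) : piJ ω g = 1 ↔ isScal c = true := by
  have e : piJ ω g = 1 ↔ g ∈ Subgroup.center (threeJ3 F ω) := QuotientGroup.eq_one_iff g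
  rw [e, mem_center_iff ω hω h0 h1]
  unfold IsScalarElt isScal
  rw [hg]
  obtain ⟨hz1, hz2, hz0⟩ := Z_lt
  constructor
  · rintro (h | h | h)
    · rw [toMat_inj F ω h0 h1 hc hz0 h]; simp
    · rw [toMat_inj F ω h0 h1 hc hz1 h]; simp
    · rw [toMat_inj F ω h0 h1 hc hz2 h]; simp
  · intro h
    simp only [Bool.or_eq_true, beq_iff_eq] at h
    rcases h with (h | h) | h
    · left; rw [h]
    · right; left; rw [h]
    · right; right; rw [h]

/-- the seventh power, for a multiplicative decoding -/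
theorem dec_pow7 {M : Type*} [Monoid M] (dec : Nat → M)
    (hmul : ∀ a b, dec (mul4 a b) = dec a * dec b) (c : Nat) : dec (pow7 c) = dec c ^ 7 := by
  rw [pow7_eq, hmul, dec_sq dec hmul, hmul, dec_sq dec hmul, ← pow_succ, ← pow_mul, ← pow_succ]

include hω in
/-- the powers of `u` -/
theorem toMat_Upow : toMat F ω U2c = toMat F ω U1c ^ 2 ∧ toMat F ω U3c = toMat F ω U1c ^ 3 ∧
    toMat F ω U5c = toMat F ω U1c ^ 5 ∧ toMat F ω U6c = toMat F ω U1c ^ 6 := by
  have hmul := toMat_mul4 F ω hω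
  have e2 : toMat F ω U2c = toMat F ω U1c ^ 2 := by
    rw [← U2_eq, dec_sq (toMat F ω) hmul]
  have e3 : toMat F ω U3c = toMat F ω U1c ^ 3 := by
    rw [← U3_eq, hmul, e2, ← pow_succ]
  have e5 : toMat F ω U5c = toMat F ω U1c ^ 5 := by
    rw [← U5_eq, hmul, e3, e2, ← pow_add]
  have e6 : toMat F ω U6c = toMat F ω U1c ^ 6 := by
    rw [← U6_eq, dec_sq (toMat F ω) hmul, e3, ← pow_mul]
  exact ⟨e2, e3, e5, e6⟩

include hω in
/-- the matrices of the four words -/
theorem valHom_W {m U : threeJ3 F ω} {c : Nat} (hm : valHom ω m = toMat F ω c)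
    (hU : valHom ω U = toMat F ω U1c) :
    valHom ω (W1 m U) = toMat F ω (w1 c) ∧ valHom ω (W2 m U) = toMat F ω (w2 c) ∧
    valHom ω (W3 m U) = toMat F ω (w3 c) ∧ valHom ω (W4 m U) = toMat F ω (w4 c) := by
  have hmul := toMat_mul4 F ω hω
  obtain ⟨e2, e3, e5, e6⟩ := toMat_Upow ω hω
  refine ⟨?_, ?_, ?_, ?_⟩
  · unfold W1 w1
    rw [map_pow, map_mul, map_pow, hm, hU, dec_pow5 (toMat F ω) hmul, hmul, e3]
  · unfold W2 w2
    rw [map_pow, map_pow, map_pow, map_mul, map_pow, hm, hU, dec_sq (toMat F ω) hmul,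
      dec_sq (toMat F ω) hmul, dec_sq (toMat F ω) hmul, hmul, e2]
  · unfold W3 w3
    rw [map_pow, map_mul, hm, hU, dec_pow9 (toMat F ω) hmul, hmul]
  · unfold W4 w4
    rw [map_pow, map_pow, map_mul, map_mul, map_mul, map_mul, map_mul, map_pow, map_pow, hm, hU,
      dec_sq (toMat F ω) hmul, dec_sq (toMat F ω) hmul, hmul, hmul, hmul, hmul, hmul, e5, e6]

theorem w_lt (c : Nat) : w1 c < 2 ^ 162 ∧ w2 c < 2 ^ 162 ∧ w3 c < 2 ^ 162 ∧ w4 c < 2 ^ 162 := by
  refine ⟨?_, ?_, ?_, ?_⟩
  · unfold w1; rw [pow5_eq]; exact mul4_lt _ _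
  · unfold w2; rw [sq_eq]; exact mul4_lt _ _
  · unfold w3; rw [pow9_eq]; exact mul4_lt _ _
  · unfold w4; rw [sq_eq]; exact mul4_lt _ _

include hω h0 h1 in
/-- the image of the first generator is an involution -/
theorem orderOf_piJ_X (X : threeJ3 F ω) (hX : valHom ω X = toMat F ω Xc) :
    X * X = 1 ∧ orderOf (piJ ω X) = 2 := by
  have hmul := toMat_mul4 F ω hω
  have hXX : X * X = 1 := by
    apply valHom_injective ω
    rw [map_mul, hX, ← hmul, ← sq_eq, relX, toMat_ONE, map_one]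
  refine ⟨hXX, ?_⟩
  have : Fact (Nat.Prime 2) := ⟨Nat.prime_two⟩
  apply orderOf_eq_prime
  · rw [pow_two, ← map_mul, hXX, map_one]
  · intro h
    have hne := X_ne
    rw [Bool.and_eq_true, Bool.and_eq_true, bne_iff_ne, bne_iff_ne, bne_iff_ne] at hne
    have hs := (piJ_eq_one_iff ω hω h0 h1 (by decide) hX).1 h
    unfold isScal at hs
    simp only [Bool.or_eq_true, beq_iff_eq] at hs
    rcases hs with (hs | hs) | hs
    · exact hne.1.1 hs
    · exact hne.1.2 hs
    · exact hne.2 hs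

include hω h0 h1 in
/-- every involution of the quotient is the image of an entry of the table -/
theorem exists_Itab_of_orderOf_two (X : threeJ3 F ω) (hX : valHom ω X = toMat F ω Xc)
    (t : J3 F ω) (ht : orderOf t = 2) :
    ∃ e, memT Itab e ∧ ∃ m : threeJ3 F ω, valHom ω m = toMat F ω (codeOf e) ∧ piJ ω m = t := by
  obtain ⟨hconj, -⟩ := twoLocalHyp_J3 ω hω h0 h1
  obtain ⟨hXX, hord⟩ := orderOf_piJ_X ω hω h0 h1 X hX
  -- the class of the image of `X`
  have hk : ∀ m : setOfT (toMat F ω) Itab, ∃ k : threeJ3 F ω, valHom ω (k * X * k⁻¹) = m.1 := by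
    rintro ⟨m, e, he, rfl⟩
    exact exists_conj_of_Itab ω hω conjI X hX _ e he rfl
  choose k hk using hk
  let f : setOfT (toMat F ω) Itab → Set.range fun g : J3 F ω => g * piJ ω X * g⁻¹ :=
    fun m => ⟨piJ ω (k m * X * (k m)⁻¹), piJ ω (k m), by simp [map_mul, map_inv]⟩
  have hf : Function.Injective f := by
    intro m m' hmm
    have h2 : piJ ω (k m * X * (k m)⁻¹) = piJ ω (k m' * X * (k m')⁻¹) := congrArg Subtype.val hmm
    have hinv : ∀ a : threeJ3 F ω, (a * X * a⁻¹) * (a * X * a⁻¹) = 1 := by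
      intro a
      calc (a * X * a⁻¹) * (a * X * a⁻¹) = a * (X * X) * a⁻¹ := by group
        _ = 1 := by rw [hXX]; group
    have h3 := eq_of_piJ_eq ω hω h0 h1 (hinv _) (hinv _) h2
    apply Subtype.ext
    rw [← hk m, ← hk m', h3]
  have hcard : Nat.card (setOfT (toMat F ω) Itab) = 26163 := by
    rw [card_setOfT (toMat F ω) (fun c d hc hd hcd => toMat_inj F ω h0 h1 hc hd hcd) Itab incI, lenI]
  have hcent : Nat.card (Subgroup.centralizer ({piJ ω X} : Set (J3 F ω))) = 1920 := by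
    rw [← map_C0sub ω hω h0 h1 conjI X hX, card_map_piJ ω (C0sub_inf_center ω hω h0 h1),
      card_C0sub ω hω h0 h1]
  have hmulc := card_range_conj_mul (piJ ω X)
  rw [card_J3 ω hω h0 h1, hcent] at hmulc
  have hcl : Nat.card (Set.range fun g : J3 F ω => g * piJ ω X * g⁻¹) = 26163 := by omega
  have hbij : Function.Bijective f :=
    hf.bijective_of_nat_card_le (by rw [hcl, hcard])
  obtain ⟨g, hg⟩ := isConj_iff.1 (hconj (piJ ω X) t hord ht)
  obtain ⟨⟨m, e, he, rfl⟩, hm⟩ := hbij.2 ⟨t, g, hg⟩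
  refine ⟨e, he, k ⟨_, e, he, rfl⟩ * X * (k ⟨_, e, he, rfl⟩)⁻¹, hk _, ?_⟩
  exact congrArg Subtype.val hm

theorem residues_19 : ∀ k < 19, 0 < k → ∃ j < 9, k % 19 = 4 ^ j % 19 ∨ k % 19 = 2 * 4 ^ j % 19 := by
  decide

include hω h0 h1 in
/-- the automorphism group has order at most twice the order of the group -/
theorem card_mulAut_J3_le : Nat.card (MulAut (J3 F ω)) ≤ 2 * Nat.card (J3 F ω) := by
  have hmul := toMat_mul4 F ω hω
  obtain ⟨X, Y, hX, hY, hXY⟩ := exists_XY ω hω
  obtain ⟨hXX, hordX⟩ := orderOf_piJ_X ω hω h0 h1 X hX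
  -- the element of order 19
  obtain ⟨U, hUdef⟩ : ∃ U : threeJ3 F ω, U = X * Y ^ 4 := ⟨_, rfl⟩
  have hU : valHom ω U = toMat F ω U1c := by
    rw [hUdef, map_mul, map_pow, hX, hY, ← U1_eq, hmul, dec_sq (toMat F ω) hmul,
      dec_sq (toMat F ω) hmul, ← pow_mul]
  have hYU : Y = (X * U) ^ 7 := by
    apply valHom_injective ω
    rw [map_pow, map_mul, hX, hU, hY, ← hmul, ← dec_pow7 (toMat F ω) hmul, Y_eq]
  -- the normalising element
  have hNm : toMat F ω Nc ∈ Gm ω := by
    apply Sxy_le_Gm ω hω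
    apply decRH_mem_Sxy ω hω Ndec
    rw [Ndec_eq]; simp
  obtain ⟨N, hN⟩ := exists_of_mem_Gm ω hNm
  have hNU : N * U * N⁻¹ = U ^ 4 := by
    have : N * U = U ^ 4 * N := by
      apply valHom_injective ω
      rw [map_mul, map_mul, map_pow, hN, hU, ← hmul, N_ok, hmul, dec_sq (toMat F ω) hmul,
        (toMat_Upow ω hω).1, ← pow_mul]
    rw [this]; group
  -- generation
  have hcl : Subgroup.closure ({X, U} : Set (threeJ3 F ω)) = ⊤ := by
    rw [eq_top_iff, ← hXY, Subgroup.closure_le]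
    intro y hy
    rcases hy with rfl | hy
    · exact Subgroup.subset_closure (by simp)
    · rw [Set.mem_singleton_iff] at hy
      rw [hy, hYU]
      apply Subgroup.pow_mem
      exact Subgroup.mul_mem _ (Subgroup.subset_closure (by simp)) (Subgroup.subset_closure (by simp))
  have hgen : Subgroup.closure ({piJ ω X, piJ ω U} : Set (J3 F ω)) = ⊤ := by
    have : ({piJ ω X, piJ ω U} : Set (J3 F ω)) = (piJ ω) '' {X, U} := by
      rw [Set.image_pair]
    rw [this, ← MonoidHom.map_closure, hcl,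
      Subgroup.map_top_of_surjective _ (QuotientGroup.mk'_surjective _)]
  -- the order of the image of `U`
  have hU19 : pow19 U1c = Z1 := by
    have := relXY
    rw [U1_eq] at this
    exact this
  have hU1lt : U1c < 2 ^ 162 := by rw [← U1_eq]; exact mul4_lt _ _
  have : Fact (Nat.Prime 19) := ⟨by norm_num⟩
  have hordU : orderOf (piJ ω U) = 19 := by
    apply orderOf_eq_prime
    · rw [← map_pow]
      have hv : valHom ω (U ^ 19) = toMat F ω (pow19 U1c) := by
        rw [map_pow, hU, dec_pow19 (toMat F ω) hmul]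
      apply (piJ_eq_one_iff ω hω h0 h1 (by rw [pow19_eq]; exact mul4_lt _ _) hv).2
      rw [hU19]; decide
    · intro h
      have := (piJ_eq_one_iff ω hω h0 h1 hU1lt hU).1 h
      rw [U_ns] at this
      exact Bool.false_ne_true this
  have hnu : piJ ω N * piJ ω U * (piJ ω N)⁻¹ = piJ ω U ^ 4 := by
    rw [← map_inv, ← map_mul, ← map_mul, hNU, map_pow]
  -- the words are trivial on the pair of generators
  have hwX := wX
  rw [Bool.and_eq_true, Bool.and_eq_true, Bool.and_eq_true] at hwX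
  obtain ⟨⟨⟨hs1, hs2⟩, hs3⟩, hs4⟩ := hwX
  obtain ⟨v1, v2, v3, v4⟩ := valHom_W ω hω hX hU
  obtain ⟨l1, l2, l3, l4⟩ := w_lt Xc
  have hW1 : W1 (piJ ω X) (piJ ω U) = 1 := by
    rw [← map_W1]; exact (piJ_eq_one_iff ω hω h0 h1 l1 v1).2 hs1
  have hW2 : W2 (piJ ω X) (piJ ω U) = 1 := by
    rw [← map_W2]; exact (piJ_eq_one_iff ω hω h0 h1 l2 v2).2 hs2
  have hW3 : W3 (piJ ω X) (piJ ω U) = 1 := by
    rw [← map_W3]; exact (piJ_eq_one_iff ω hω h0 h1 l3 v3).2 hs3
  have hW4 : W4 (piJ ω X) (piJ ω U) = 1 := by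
    rw [← map_W4]; exact (piJ_eq_one_iff ω hω h0 h1 l4 v4).2 hs4
  -- the set of possible images of the first generator
  classical
  let gfun : Nat → J3 F ω := fun c =>
    if h : ∃ m : threeJ3 F ω, valHom ω m = toMat F ω c then piJ ω h.choose else 1
  let S : Finset (J3 F ω) := Good19.toFinset.image gfun
  have hS : S.card ≤ 19 := by
    calc S.card ≤ Good19.toFinset.card := Finset.card_image_le
      _ ≤ Good19.length := List.toFinset_card_le _
      _ = 19 := Good19_len
  have hstab : ∀ φ : MulAut (J3 F ω), φ (piJ ω U) = piJ ω U → φ (piJ ω X) ∈ S := by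
    intro φ hφ
    have hord : orderOf (φ (piJ ω X)) = 2 := by rw [MulEquiv.orderOf_eq, hordX]
    obtain ⟨e, he, m, hm, hmt⟩ := exists_Itab_of_orderOf_two ω hω h0 h1 X hX _ hord
    obtain ⟨u1, u2, u3, u4⟩ := valHom_W ω hω hm hU
    obtain ⟨k1, k2, k3, k4⟩ := w_lt (codeOf e)
    have c1 : isScal (w1 (codeOf e)) = true := by
      apply (piJ_eq_one_iff ω hω h0 h1 k1 u1).1
      have key : W1 (φ (piJ ω X)) (φ (piJ ω U)) = φ (W1 (piJ ω X) (piJ ω U)) :=
        (map_W1 φ.toMonoidHom _ _).symm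
      rw [map_W1, hmt, ← hφ, key, hW1, map_one]
    have c2 : isScal (w2 (codeOf e)) = true := by
      apply (piJ_eq_one_iff ω hω h0 h1 k2 u2).1
      have key : W2 (φ (piJ ω X)) (φ (piJ ω U)) = φ (W2 (piJ ω X) (piJ ω U)) :=
        (map_W2 φ.toMonoidHom _ _).symm
      rw [map_W2, hmt, ← hφ, key, hW2, map_one]
    have c3 : isScal (w3 (codeOf e)) = true := by
      apply (piJ_eq_one_iff ω hω h0 h1 k3 u3).1
      have key : W3 (φ (piJ ω X)) (φ (piJ ω U)) = φ (W3 (piJ ω X) (piJ ω U)) :=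
        (map_W3 φ.toMonoidHom _ _).symm
      rw [map_W3, hmt, ← hφ, key, hW3, map_one]
    have c4 : isScal (w4 (codeOf e)) = true := by
      apply (piJ_eq_one_iff ω hω h0 h1 k4 u4).1
      have key : W4 (φ (piJ ω X)) (φ (piJ ω U)) = φ (W4 (piJ ω X) (piJ ω U)) :=
        (map_W4 φ.toMonoidHom _ _).symm
      rw [map_W4, hmt, ← hφ, key, hW4, map_one]
    have hgood := goodChk_spec (goodI e he) c1 c2 c3 c4
    rw [Finset.mem_image]
    refine ⟨codeOf e, List.mem_toFinset.2 hgood, ?_⟩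
    have hex : ∃ m' : threeJ3 F ω, valHom ω m' = toMat F ω (codeOf e) := ⟨m, hm⟩
    show (if h : ∃ m : threeJ3 F ω, valHom ω m = toMat F ω (codeOf e) then piJ ω h.choose else 1) = _
    rw [dif_pos hex]
    have : hex.choose = m := valHom_injective ω (hex.choose_spec.trans hm.symm)
    rw [this, hmt]
  have hcard : Nat.card (J3 F ω) = 19 * 2643840 := by rw [card_J3 ω hω h0 h1]
  apply J3Out.card_mulAut_le 19 2643840 hcard (by norm_num) (piJ ω X) (piJ ω U) (piJ ω N) hgen hordU 4
    hnu ?_ S hS hstab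
  intro k hk0 hk
  obtain ⟨j, -, hj⟩ := residues_19 k hk hk0
  exact ⟨j, hj⟩

end field

end Cfsg.Agent.Helper14.J3
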