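import Mathlib
import Cfsg.Agent.Helper14.J3OA
import Cfsg.Agent.Helper14.J3OB
import Cfsg.Agent.Helper14.J3CT

/-!
# An outer automorphism of the third Janko group

The field automorphism applied to the entries of the matrices, followed by conjugation by a
suitable matrix, maps the triple cover to itself and inverts its centre.
-/

set_option autoImplicit false
set_option linter.unusedSectionVars false

namespace Cfsg.Agent.Helper14.J3

open Cfsg Cfsg.Spor
open scoped MatrixGroups Pointwise

section field

variable {F : Type*} [Field F] [CharP F 2] [Finite F] (ω : F) (hω : ω * ω = ω + 1)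
variable (h0 : ω ≠ 0) (h1 : ω ≠ 1)

include hω in
theorem toMat_conjc (c : Nat) : toMat F ω (conjc c) = (toMat F ω c).map (· ^ 2) := by
  unfold toMat
  rw [toMat9_conjc ω hω]
  rfl

omit [Finite F] in
theorem map_sq_mul (M N : Matrix F9 F9 F) :
    (M * N).map (· ^ 2) = M.map (· ^ 2) * N.map (· ^ 2) := by
  have : ExpChar F 2 := ExpChar.prime Nat.prime_two
  have e : (fun x : F => x ^ 2) = ⇑(frobenius F 2) := by
    funext x; rw [frobenius_def]
  rw [e]; exact Matrix.map_mul

omit [Finite F] in
theorem map_sq_injective : Function.Injective fun M : Matrix F9 F9 F => M.map (· ^ 2) := by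
  have : ExpChar F 2 := ExpChar.prime Nat.prime_two
  intro M N h
  ext i j
  have h2 : (M.map (· ^ 2)) i j = (N.map (· ^ 2)) i j := congrFun (congrFun h i) j
  simp only [Matrix.map_apply] at h2
  apply frobenius_inj F 2
  rw [frobenius_def, frobenius_def, h2]

include hω in
theorem A_mul : toMat F ω Ac * toMat F ω Aic = 1 ∧ toMat F ω Aic * toMat F ω Ac = 1 := by
  have hmul := toMat_mul4 F ω hω
  have h := A_inv
  rw [Bool.and_eq_true] at h
  exact ⟨by rw [← hmul, eq_of_beq h.1, toMat_ONE], by rw [← hmul, eq_of_beq h.2, toMat_ONE]⟩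

/-- the twisted field automorphism on matrices -/
def psiFun (M : Matrix F9 F9 F) : Matrix F9 F9 F := toMat F ω Aic * M.map (· ^ 2) * toMat F ω Ac

include hω in
theorem psiFun_mul (M N : Matrix F9 F9 F) : psiFun ω (M * N) = psiFun ω M * psiFun ω N := by
  obtain ⟨hA, -⟩ := A_mul ω hω
  unfold psiFun
  rw [map_sq_mul]
  calc toMat F ω Aic * (M.map (· ^ 2) * N.map (· ^ 2)) * toMat F ω Ac
      = toMat F ω Aic * M.map (· ^ 2) * 1 * N.map (· ^ 2) * toMat F ω Ac := by
        rw [mul_one]; simp only [mul_assoc]
    _ = toMat F ω Aic * M.map (· ^ 2) * toMat F ω Ac * (toMat F ω Aic * N.map (· ^ 2) * toMat F ω Ac) := by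
        rw [← hA]; simp only [mul_assoc]

include hω in
theorem psiFun_one : psiFun ω (1 : Matrix F9 F9 F) = 1 := by
  obtain ⟨-, hA⟩ := A_mul ω hω
  unfold psiFun
  rw [Matrix.map_one _ (by simp) (by simp), mul_one, hA]

include hω in
theorem psiFun_toMat (c : Nat) :
    psiFun ω (toMat F ω c) = toMat F ω (mul4 Aic (mul4 (conjc c) Ac)) := by
  have hmul := toMat_mul4 F ω hω
  unfold psiFun
  rw [hmul, hmul, toMat_conjc ω hω, mul_assoc]

include hω in
theorem psiFun_injective : Function.Injective (psiFun (F := F) ω) := by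
  obtain ⟨hA, hA'⟩ := A_mul ω hω
  intro M N h
  apply map_sq_injective
  unfold psiFun at h
  show M.map (· ^ 2) = N.map (· ^ 2)
  calc M.map (· ^ 2) = toMat F ω Ac * (toMat F ω Aic * M.map (· ^ 2) * toMat F ω Ac) * toMat F ω Aic := by
        rw [mul_assoc, mul_assoc, hA, mul_one, ← mul_assoc, hA, one_mul]
    _ = toMat F ω Ac * (toMat F ω Aic * N.map (· ^ 2) * toMat F ω Ac) * toMat F ω Aic := by rw [h]
    _ = N.map (· ^ 2) := by
        rw [mul_assoc, mul_assoc, hA, mul_one, ← mul_assoc, hA, one_mul]

/-- the twisted field automorphism as a homomorphism of monoids -/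
def psiHom : Matrix F9 F9 F →* Matrix F9 F9 F where
  toFun := psiFun ω
  map_one' := psiFun_one ω hω
  map_mul' := psiFun_mul ω hω

include hω in
/-- the twisted field automorphism preserves the matrices of the group -/
theorem psi_mem_Gm {M : Matrix F9 F9 F} (hM : M ∈ Gm ω) : psiFun ω M ∈ Gm ω := by
  have hle : Sxy ω ≤ (Gm ω).comap (psiHom ω hω) := by
    unfold Sxy
    rw [Submonoid.closure_le]
    rintro _ ⟨c, hc, rfl⟩
    rw [XYc_eq] at hc
    simp only [List.mem_cons, List.not_mem_nil, or_false] at hc
    show psiFun ω (toMat F ω c) ∈ Gm ω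
    rw [psiFun_toMat ω hω]
    apply Sxy_le_Gm ω hω
    apply decRH_mem_Sxy ω hω Adec
    rw [Adec_eq]
    rcases hc with rfl | rfl
    · rw [XA_eq]; simp
    · rw [YA_eq]; simp
  exact hle (Gm_le_Sxy ω hω hM)

include hω in
/-- the image of an element under the twisted field automorphism -/
theorem exists_psi (g : threeJ3 F ω) : ∃ g' : threeJ3 F ω, valHom ω g' = psiFun ω (valHom ω g) :=
  exists_of_mem_Gm ω (psi_mem_Gm ω hω (valHom_mem_Gm ω g))

/-- the twisted field automorphism on the group -/
noncomputable def alphaFun (g : threeJ3 F ω) : threeJ3 F ω := (exists_psi ω hω g).choose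

theorem valHom_alphaFun (g : threeJ3 F ω) : valHom ω (alphaFun ω hω g) = psiFun ω (valHom ω g) :=
  (exists_psi ω hω g).choose_spec

/-- the twisted field automorphism as an endomorphism -/
noncomputable def alphaHom : threeJ3 F ω →* threeJ3 F ω where
  toFun := alphaFun ω hω
  map_one' := by
    apply valHom_injective ω
    rw [valHom_alphaFun, map_one, psiFun_one ω hω]
  map_mul' := by
    intro a b
    apply valHom_injective ω
    rw [valHom_alphaFun, map_mul, map_mul, psiFun_mul ω hω, valHom_alphaFun, valHom_alphaFun]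

theorem alphaHom_injective : Function.Injective (alphaHom ω hω) := by
  intro a b h
  apply valHom_injective ω
  apply psiFun_injective ω hω
  have h2 : alphaFun ω hω a = alphaFun ω hω b := h
  rw [← valHom_alphaFun ω hω, ← valHom_alphaFun ω hω, h2]

/-- the twisted field automorphism as an automorphism -/
noncomputable def alphaEquiv : threeJ3 F ω ≃* threeJ3 F ω :=
  MulEquiv.ofBijective (alphaHom ω hω)
    ⟨alphaHom_injective ω hω, Finite.injective_iff_surjective.1 (alphaHom_injective ω hω)⟩

theorem map_center_coe {G : Type*} [Group G] (e : G ≃* G) :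
    (Subgroup.center G).map (e : G →* G) = Subgroup.center G := by
  ext h
  rw [Subgroup.mem_map]
  constructor
  · rintro ⟨g, hg, rfl⟩
    rw [Subgroup.mem_center_iff] at hg ⊢
    intro k
    obtain ⟨k', rfl⟩ := e.surjective k
    show e k' * e g = e g * e k'
    rw [← map_mul, ← map_mul, hg k']
  · intro hh
    refine ⟨e.symm h, ?_, by simp⟩
    rw [Subgroup.mem_center_iff] at hh ⊢
    intro k
    apply e.injective
    rw [map_mul, map_mul, e.apply_symm_apply]
    exact hh (e k)

include hω h0 h1 in
/-- the third Janko group has an automorphism that is not inner -/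
theorem exists_not_inner : ∃ τ : MulAut (J3 F ω), τ ∉ Cfsg.Inn (J3 F ω) := by
  obtain ⟨z, hz, hzc, -, -⟩ := exists_Z ω hω h0 h1
  refine ⟨QuotientGroup.congr _ _ (alphaEquiv ω hω) (map_center_coe _), ?_⟩
  apply J3Out.not_inner_of_center (commutator_eq_top ω hω) (alphaEquiv ω hω) z hzc
  intro h
  have h2 : alphaFun ω hω z = z := h
  have h3 := valHom_alphaFun ω hω z
  rw [h2, hz, psiFun_toMat ω hω, ZA_eq] at h3
  have hne := Z_ne
  rw [Bool.and_eq_true, Bool.and_eq_true, bne_iff_ne, bne_iff_ne, bne_iff_ne] at hne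
  obtain ⟨hz1, hz2, -⟩ := Z_lt
  exact hne.2 (toMat_inj F ω h0 h1 hz1 hz2 h3)

end field

end Cfsg.Agent.Helper14.J3
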