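import Mathlib
import Cfsg.Agent.Helper14.J3OC
import Cfsg.Agent.Helper14.J3OD

/-!
# The outer automorphism group of the third Janko group has order two
-/

set_option autoImplicit false
set_option linter.unusedSectionVars false

namespace Cfsg.Agent.Helper14.J3

open Cfsg Cfsg.Spor
open scoped MatrixGroups Pointwise

section field

variable {F : Type*} [Field F] [CharP F 2] [Finite F] (ω : F) (hω : ω * ω = ω + 1)
variable (h0 : ω ≠ 0) (h1 : ω ≠ 1)

include hω h0 h1 in
theorem center_J3 : Subgroup.center (J3 F ω) = ⊥ := by
  have hs := simple_J3 ω hω h0 h1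
  rcases hs.eq_bot_or_eq_top_of_normal (Subgroup.center (J3 F ω)) inferInstance with h | h
  · exact h
  · exfalso
    have hsurj : Function.Surjective (piJ ω) := QuotientGroup.mk'_surjective _
    have hperf : commutator (J3 F ω) = ⊤ := by
      rw [commutator_def, ← Subgroup.map_top_of_surjective _ hsurj, ← Subgroup.map_commutator,
        ← commutator_def, commutator_eq_top ω hω]
    rw [← commutator_eq_bot_iff_center_eq_top, hperf] at h
    have hc := card_J3 ω hω h0 h1
    have : Nat.card (J3 F ω) = 1 := by
      rw [← Subgroup.card_top, h, Subgroup.card_bot]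
    omega

include hω h0 h1 in
/-- the outer automorphism group of the third Janko group has order two -/
theorem card_out_J3 : Nat.card (Cfsg.Out (J3 F ω)) = 2 := by
  obtain ⟨τ, hτ⟩ := exists_not_inner ω hω h0 h1
  exact J3Out.card_out_eq_two (center_J3 ω hω h0 h1) (card_mulAut_J3_le ω hω h0 h1) τ hτ

end field

end Cfsg.Agent.Helper14.J3
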