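import Mathlib
import Cfsg.Agent.Helper14.J3Y

/-! # Checks on the first columns of the coset representatives and of the line stabiliser -/

set_option autoImplicit false

namespace Cfsg.Agent.Helper14.J3

/-- the first column of the coded matrix has a nonzero entry below the first row -/
def col0Bad (c : Nat) : Bool := (List.range 8).any fun i => ent c (i + 1) 0 != 0

theorem incH : incCodes (flatT Htab) = true := by decide +kernel

theorem colH_0 : allB Hblk0 (fun e => col0OK (codeOf e)) = true := by decide +kernel

theorem colH_1 : allB Hblk1 (fun e => col0OK (codeOf e)) = true := by decide +kernel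

theorem colR_0 : allB Rblk0 (fun e => codeOf e == ONE || col0Bad (codeOf e)) = true := by
  decide +kernel

theorem colR_1 : allB Rblk1 (fun e => codeOf e == ONE || col0Bad (codeOf e)) = true := by
  decide +kernel

theorem colR_2 : allB Rblk2 (fun e => codeOf e == ONE || col0Bad (codeOf e)) = true := by
  decide +kernel

theorem colR_3 : allB Rblk3 (fun e => codeOf e == ONE || col0Bad (codeOf e)) = true := by
  decide +kernel

theorem colR_4 : allB Rblk4 (fun e => codeOf e == ONE || col0Bad (codeOf e)) = true := by
  decide +kernel

theorem colR_5 : allB Rblk5 (fun e => codeOf e == ONE || col0Bad (codeOf e)) = true := by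
  decide +kernel

end Cfsg.Agent.Helper14.J3
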