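import Mathlib
import Cfsg.Prelude.Def_Sporadic
import Cfsg.Agent.Helper14.J3V
import Cfsg.Agent.Helper14.J3Q
import Cfsg.Agent.Helper14.J3KK0
import Cfsg.Agent.Helper14.J3KK1
import Cfsg.Agent.Helper14.J3KK2
import Cfsg.Agent.Helper14.J3KK3
import Cfsg.Agent.Helper14.J3KK4
import Cfsg.Agent.Helper14.J3KK5

/-!
# The third Janko group as a permutation group of degree 6156
-/

set_option autoImplicit false
set_option linter.unusedSectionVars false

namespace Cfsg.Agent.Helper14.J3

open Cfsg Cfsg.Spor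
open scoped MatrixGroups

/-- the action on the cosets of a subgroup whose core is the centre, transported to `Fin n` -/
theorem perm_realization {G : Type*} [Group G] [Finite G] (K : Subgroup G) (n : ℕ)
    (hn : K.index = n) (hcore : K.normalCore = Subgroup.center G) :
    ∃ H : Subgroup (Equiv.Perm (Fin n)), Nonempty (G ⧸ Subgroup.center G ≃* H) ∧
      MulAction.IsPretransitive H (Fin n) := by
  have hcard : Nat.card (G ⧸ K) = n := by rw [← hn]; rfl
  let e : (G ⧸ K) ≃ Fin n := Finite.equivFinOfCardEq hcard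
  let φ : G →* Equiv.Perm (G ⧸ K) := MulAction.toPermHom G (G ⧸ K)
  let ψ : G →* Equiv.Perm (Fin n) := (e.permCongrHom.toMonoidHom).comp φ
  have hker : ψ.ker = Subgroup.center G := by
    rw [← hcore, Subgroup.normalCore_eq_ker]
    ext g
    rw [MonoidHom.mem_ker, MonoidHom.mem_ker]
    show e.permCongrHom (φ g) = 1 ↔ φ g = 1
    rw [← map_one e.permCongrHom]
    exact e.permCongrHom.injective.eq_iff
  refine ⟨ψ.range, ⟨?_⟩, ?_⟩
  · exact (QuotientGroup.quotientMulEquivOfEq hker.symm).trans (QuotientGroup.quotientKerEquivRange ψ)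
  · refine ⟨fun i j => ?_⟩
    obtain ⟨g, hg⟩ := MulAction.exists_smul_eq G (e.symm i) (e.symm j)
    refine ⟨⟨ψ g, ⟨g, rfl⟩⟩, ?_⟩
    show (ψ g) i = j
    show e (g • e.symm i) = j
    rw [hg, Equiv.apply_symm_apply]

/-- the order of a point stabiliser of a transitive permutation group -/
theorem card_stabilizer_of_pretransitive {n : ℕ} [NeZero n] (H : Subgroup (Equiv.Perm (Fin n)))
    [MulAction.IsPretransitive H (Fin n)] (m : ℕ) (hm : Nat.card H = n * m) :
    Nat.card (MulAction.stabilizer H (0 : Fin n)) = m := by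
  have h1 := Subgroup.card_eq_card_quotient_mul_card_subgroup (MulAction.stabilizer H (0 : Fin n))
  have h2 : Nat.card (H ⧸ MulAction.stabilizer H (0 : Fin n)) = n := by
    rw [← Nat.card_congr (MulAction.orbitEquivQuotientStabilizer H (0 : Fin n)),
      MulAction.orbit_eq_univ, Nat.card_congr (Equiv.Set.univ _), Nat.card_fin]
  rw [h2, hm] at h1
  exact (Nat.eq_of_mul_eq_mul_left (Nat.pos_of_ne_zero (NeZero.ne n)) h1).symm

theorem closedK : ∀ e, memT Ktab e → chkClosedEntry Ktab Kgens e = true := by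
  rintro e ⟨B, hB, p, hp, c, hc, he⟩
  simp only [Ktab, List.mem_cons, List.not_mem_nil, or_false] at hB
  rcases hB with rfl | rfl | rfl | rfl | rfl | rfl
  · exact allB_of_mem chkK0 hp hc he
  · exact allB_of_mem chkK1 hp hc he
  · exact allB_of_mem chkK2 hp hc he
  · exact allB_of_mem chkK3 hp hc he
  · exact allB_of_mem chkK4 hp hc he
  · exact allB_of_mem chkK5 hp hc he

theorem rootK : ∃ e, memT Ktab e ∧ codeOf e = ONE := by
  obtain ⟨e, he, h⟩ := rootK_mem
  exact ⟨e, mem_tab_of_chunk0 (T := Ktab) (B := Kblk0) rfl (p := Kblk0.headD []) rfl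
    (c := Kc_0_0_0) rfl he, h⟩

theorem Z1K : ∃ e, memT Ktab e ∧ codeOf e = Z1 := by
  obtain ⟨e, he, h⟩ := Z1K_mem
  refine ⟨e, ⟨Kblk3, ?_, Kblk3.headD [], List.mem_of_mem_head? rfl, Kc_3_0_3, ?_, he⟩, h⟩
  · simp [Ktab]
  · exact List.mem_of_getElem? (i := 3) rfl

section field

variable {F : Type*} [Field F] [CharP F 2] [Finite F] (ω : F) (hω : ω * ω = ω + 1)
variable (h0 : ω ≠ 0) (h1 : ω ≠ 1)

include hω in
theorem Kgens_le : Submonoid.closure (setOfL (toMat F ω) Kgens) ≤ Gm ω := by
  rw [Submonoid.closure_le]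
  rintro _ ⟨g, hg, rfl⟩
  rw [← Kdec_eq] at hg
  exact Sxy_le_Gm ω hω (decRH_mem_Sxy ω hω _ _ hg)

/-- a subgroup of order 24480 -/
def Ksub : Subgroup (threeJ3 F ω) := pull ω (Submonoid.closure (setOfL (toMat F ω) Kgens))

include hω h0 h1 in
theorem card_Ksub : Nat.card (Ksub ω) = 24480 := by
  unfold Ksub
  rw [card_pull_table ω hω h0 h1 closedK rootK incK (Kgens_le ω hω), lenK]

include hω h0 h1 in
theorem center_le_Ksub : Subgroup.center (threeJ3 F ω) ≤ Ksub ω := by
  have hmem : ∀ g : threeJ3 F ω, g ∈ Ksub ω ↔ ∃ e, memT Ktab e ∧ valHom ω g = toMat F ω (codeOf e) :=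
    fun g => mem_pull_table ω hω closedK rootK
  obtain ⟨z, hz, hzc, hzo, hz2⟩ := exists_Z ω hω h0 h1
  have hzK : z ∈ Ksub ω := by
    rw [hmem]
    obtain ⟨e, he, hc⟩ := Z1K
    exact ⟨e, he, by rw [hc, hz]⟩
  intro g hg
  rcases (mem_center_iff ω hω h0 h1).1 hg with h | h | h
  · have : g = 1 := by
      apply valHom_injective ω
      rw [h, toMat_ONE, map_one]
    rw [this]; exact Subgroup.one_mem _
  · have : g = z := by
      apply valHom_injective ω
      rw [h, hz]
    rw [this]; exact hzK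
  · have : g = z ^ 2 := by
      apply valHom_injective ω
      rw [h, hz2]
    rw [this]; exact Subgroup.pow_mem _ hzK 2

include hω h0 h1 in
theorem normalCore_Ksub : (Ksub ω).normalCore = Subgroup.center (threeJ3 F ω) := by
  apply le_antisymm
  · rcases dichotomy ω hω h0 h1 (Ksub ω).normalCore with h19 | hs
    · exfalso
      have htop := eq_top_of_dvd ω hω h0 h1 _ h19
      have hK : Ksub ω = ⊤ := by
        rw [eq_top_iff, ← htop]
        exact Subgroup.normalCore_le _
      have h := card_Ksub ω hω h0 h1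
      rw [hK, Subgroup.card_top, card_eq ω hω h0 h1] at h
      omega
    · intro g hg
      exact (mem_center_iff ω hω h0 h1).2 (hs g hg)
  · rw [Subgroup.normal_le_normalCore]
    exact center_le_Ksub ω hω h0 h1

include hω h0 h1 in
theorem exists_perm : ∃ H : Subgroup (Equiv.Perm (Fin 6156)), Cfsg.IsJ3 H ∧
    MulAction.IsPretransitive H (Fin 6156) ∧
    Nat.card (MulAction.stabilizer H (0 : Fin 6156)) = 8160 := by
  have hidx : (Ksub ω).index = 6156 := by
    have h := (Ksub ω).card_mul_index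
    rw [card_Ksub ω hω h0 h1, card_eq ω hω h0 h1] at h
    omega
  obtain ⟨H, ⟨q⟩, htr⟩ := perm_realization (Ksub ω) 6156 hidx (normalCore_Ksub ω hω h0 h1)
  have hs : IsSimpleGroup (J3 F ω) := simple_J3 ω hω h0 h1
  have hcardH : Nat.card H = 50232960 := by
    rw [← Nat.card_congr q.toEquiv]
    exact card_J3 ω hω h0 h1
  refine ⟨H, ⟨q.symm.isSimpleGroup, hcardH⟩, htr, ?_⟩
  exact card_stabilizer_of_pretransitive H 8160 (by rw [hcardH])

end field

/-- the statement for an arbitrary field with four elements -/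
theorem exists_perm_of_card {F : Type*} [Field F] [Fintype F] (hF : Fintype.card F = 4) :
    ∃ H : Subgroup (Equiv.Perm (Fin 6156)), Cfsg.IsJ3 H ∧
      MulAction.IsPretransitive H (Fin 6156) ∧
      Nat.card (MulAction.stabilizer H (0 : Fin 6156)) = 8160 := by
  obtain ⟨ω, hω⟩ := exists_omega hF
  have : CharP F 2 := charTwo hF
  exact exists_perm ω (omega_mul ω hω) (omega_ne_zero ω hω) (omega_ne_one ω hω)

end Cfsg.Agent.Helper14.J3
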