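
import Cfsg.Agent.Helper14.J3S
import Cfsg.Agent.Helper14.J3Y
import Cfsg.Agent.Helper14.J3PK5

set_option autoImplicit false
set_option linter.unusedSectionVars false

namespace Cfsg.Agent.Helper14.J3

open Cfsg Cfsg.Spor
open scoped MatrixGroups

theorem posN_lt (w : F9) : posN w < 9 := (posE w).isLt

theorem posN_eq_zero {z : F9} : posN z = 0 ↔ z = 0 := by
  have h0 : posN (0 : F9) = 0 := by decide
  constructor
  · intro h
    have : posE z = posE 0 := Fin.ext (by rw [← posN, ← posN, h, h0])
    exact posE.injective this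
  · rintro rfl; exact h0

theorem toF_eq_zero {F : Type*} [Field F] [CharP F 2] (ω : F) (h0 : ω ≠ 0) (h1 : ω ≠ 1) {k : Nat}
    (hk : k < 4) (h : toF F ω k = 0) : k = 0 := by
  have h11 : (1 : F) + 1 = 0 := CharTwo.add_self_eq_zero 1
  have hw1 : (1 : F) + ω ≠ 0 := by
    intro h'
    apply h1
    have : ω = ω + (1 + 1) := by rw [h11, add_zero]
    rw [this, ← add_assoc, add_comm ω 1, h', zero_add]
  interval_cases k
  · rfl
  · rw [toF_one] at h; exact absurd h one_ne_zero
  · rw [toF_two] at h; exact absurd h h0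
  · rw [toF_three] at h; exact absurd h hw1

section field

variable {F : Type*} [Field F] [CharP F 2] (ω : F) (hω : ω * ω = ω + 1)

/-- the digit at place `i` of the vector with number `n` -/
def digit (n i : Nat) : Nat :=
  (if (n % 512).testBit i then 1 else 0) + (if (n / 512 % 512).testBit i then 2 else 0)

/-- the vector with number `n` -/
def vecOf (n : Nat) : F9 → F := fun w => toF F ω (digit n (posN w))

/-- the matrix with first column `v`, the other columns zero -/
def colMat (v : F9 → F) : Matrix F9 F9 F := fun w z => if z = 0 then v w else 0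

theorem colMat_injective : Function.Injective (colMat (F := F)) := by
  intro v v' h
  funext w
  have := congrFun (congrFun h w) 0
  simpa [colMat] using this

theorem mul_colMat (M : Matrix F9 F9 F) (v : F9 → F) : M * colMat v = colMat (M.mulVec v) := by
  ext w z
  simp only [Matrix.mul_apply, colMat, Matrix.mulVec, dotProduct]
  by_cases hz : z = 0
  · simp [hz]
  · simp [hz]

theorem ent_vcode (n i j : Nat) (hi : i < 9) (hj : j < 9) :
    ent (vcode n) i j = if j = 0 then digit n i else 0 := by
  have ha : n % 512 < 512 := Nat.mod_lt _ (by norm_num)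
  have hb : n / 512 % 512 < 512 := Nat.mod_lt _ (by norm_num)
  unfold ent vcode
  rw [lo_pack (spread_lt _ ha), hi_pack (spread_lt _ ha) (spread_lt _ hb),
    spread_testBit _ ha i hi j hj, spread_testBit _ hb i hi j hj]
  unfold digit
  by_cases h : j = 0
  · simp [h]
  · simp [h]

theorem toMat_vcode (n : Nat) : toMat F ω (vcode n) = colMat (vecOf ω n) := by
  ext w z
  rw [toMat_apply, ent_vcode n _ _ (posN_lt w) (posN_lt z)]
  unfold colMat vecOf
  by_cases hz : z = 0
  · rw [if_pos (posN_eq_zero.2 hz), if_pos hz]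
  · rw [if_neg (fun h => hz (posN_eq_zero.1 h)), if_neg hz, toF_zero]

theorem chkVn_cases {T : Tab} {gs : List Nat} {v0 n : Nat} (h : chkVn T gs v0 n = true)
    (hn : isIso n = true) : n = v0 ∨
      (isIso (getT T n % 262144) = true ∧
        getT T (getT T n % 262144) / 524288 % 1024 + 1 = getT T n / 524288 % 1024 ∧
        mul4 (gs.getD (getT T n / 262144 % 2) ONE) (vcode (getT T n % 262144)) = vcode n) := by
  unfold chkVn at h
  simp only [force_eq] at h
  rw [Bool.or_eq_true, Bool.or_eq_true] at h
  rcases h with (h | h) | h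
  · rw [hn] at h; simp at h
  · left; exact eq_of_beq h
  · right
    rw [Bool.and_eq_true, Bool.and_eq_true] at h
    exact ⟨h.1.1, eq_of_beq h.1.2, eq_of_beq h.2⟩

include hω in
/-- every vector of the table is an image of the first one -/
theorem orbit_V (hchk : ∀ n < 262144, chkVn Vtab XYgens V0 n = true) :
    ∀ d n : Nat, n < 262144 → isIso n = true → getT Vtab n / 524288 % 1024 = d →
      ∃ m ∈ Gm ω, m.mulVec (vecOf ω V0) = vecOf ω n := by
  intro d
  induction d with
  | zero =>
    intro n hn hi hd
    rcases chkVn_cases (hchk n hn) hi with h | h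
    · subst h; exact ⟨1, Submonoid.one_mem _, Matrix.one_mulVec _⟩
    · omega
  | succ d ih =>
    intro n hn hi hd
    rcases chkVn_cases (hchk n hn) hi with h | ⟨h1, h2, h3⟩
    · subst h; exact ⟨1, Submonoid.one_mem _, Matrix.one_mulVec _⟩
    · obtain ⟨m, hm, e⟩ := ih (getT Vtab n % 262144) (Nat.mod_lt _ (by norm_num)) h1 (by omega)
      have hg : toMat F ω (XYgens.getD (getT Vtab n / 262144 % 2) ONE) ∈ Gm ω :=
        Sxy_le_Gm ω hω (dec_getD_mem (toMat F ω) (toMat_ONE F ω) XYgens _)
      refine ⟨_, Submonoid.mul_mem _ hg hm, ?_⟩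
      rw [← Matrix.mulVec_mulVec, e]
      apply colMat_injective
      rw [← mul_colMat, ← toMat_vcode, ← toMat_vcode, ← toMat_mul4 F ω hω, h3]

variable [Fintype F] (hF : Fintype.card F = 4) (h0 : ω ≠ 0) (h1 : ω ≠ 1)

include hF h0 h1 in
/-- the four elements of the field -/
theorem exists_toF (x : F) : ∃ k < 4, toF F ω k = x := by
  have hinj : Function.Injective (fun k : Fin 4 => toF F ω k.val) := by
    have h11 : (1 : F) + 1 = 0 := CharTwo.add_self_eq_zero 1
    have hw1 : (1 : F) + ω ≠ 0 := by
      intro h'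
      apply h1
      have : ω = ω + (1 + 1) := by rw [h11, add_zero]
      rw [this, ← add_assoc, add_comm ω 1, h', zero_add]
    have hw2 : (1 : F) + ω ≠ 1 := by
      intro h'
      apply h0
      have := congrArg (fun t => 1 + t) h'
      simp only [← add_assoc, h11, zero_add] at this
      exact this
    have hw3 : (1 : F) + ω ≠ ω := by
      intro h'
      have := congrArg (fun t => t + ω) h'
      simp only [add_assoc, CharTwo.add_self_eq_zero, add_zero] at this
      exact one_ne_zero this
    intro a b hab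
    simp only at hab
    fin_cases a <;> fin_cases b <;>
      simp only [toF_zero, toF_one, toF_two, toF_three,
        Fin.isValue, Fin.reduceFinMk, Fin.zero_eta, Fin.mk_one] at hab ⊢ <;>
      first
        | rfl
        | exact absurd hab one_ne_zero
        | exact absurd hab.symm one_ne_zero
        | exact absurd hab h0
        | exact absurd hab.symm h0
        | exact absurd hab h1
        | exact absurd hab.symm h1
        | exact absurd hab hw1
        | exact absurd hab.symm hw1
        | exact absurd hab hw2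
        | exact absurd hab.symm hw2
        | exact absurd hab hw3
        | exact absurd hab.symm hw3
  have hbij : Function.Bijective (fun k : Fin 4 => toF F ω k.val) := by
    rw [Fintype.bijective_iff_injective_and_card]
    exact ⟨hinj, by rw [Fintype.card_fin, hF]⟩
  obtain ⟨k, hk⟩ := hbij.2 x
  exact ⟨k.val, k.isLt, hk⟩

omit [CharP F 2] [Fintype F] in
theorem wt_cast (s k : Nat) :
    ((wt s k : ℕ) : F) = ∑ i ∈ Finset.range k, if s.testBit i then (1 : F) else 0 := by
  induction k with
  | zero => simp [wt]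
  | succ k ih =>
    have e : wt s (k + 1) = wt s k + (if s.testBit k then 1 else 0) := rfl
    rw [Finset.sum_range_succ, ← ih, e, Nat.cast_add]
    split_ifs <;> simp

omit [CharP F 2] in
include hF in
theorem cube_eq (x : F) (hx : x ≠ 0) : x ^ 3 = 1 := by
  have := FiniteField.pow_card_sub_one_eq_one x hx
  rwa [hF] at this

omit [CharP F 2] [Fintype F] in
theorem sum_posN (f : Nat → F) : ∑ w : F9, f (posN w) = ∑ i ∈ Finset.range 9, f i := by
  rw [← Fin.sum_univ_eq_sum_range]
  exact Fintype.sum_equiv posE (fun w => f (posN w)) (fun i : Fin 9 => f i.val) (fun w => rfl)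

theorem digit_lt_four (k : Nat) (hk : k < 4) :
    (if decide (k % 2 = 1) then 1 else 0) + (if decide (k / 2 % 2 = 1) then 2 else 0) = k := by
  interval_cases k <;> simp

include hF h0 h1 in
/-- every vector has a number; the number of a nonzero isotropic vector passes the test -/
theorem exists_number (v : F9 → F) : ∃ n < 262144, vecOf ω n = v ∧
    (v ≠ 0 → ∑ z, v z ^ 3 = 0 → isIso n = true) := by
  classical
  have hk : ∀ w : F9, ∃ k < 4, toF F ω k = v w := fun w => exists_toF ω hF h0 h1 (v w)
  choose k hk4 hkv using hk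
  let A : Fin 9 → Bool := fun i => decide (k (posE.symm i) % 2 = 1)
  let B : Fin 9 → Bool := fun i => decide (k (posE.symm i) / 2 % 2 = 1)
  have ha : Nat.ofBits A < 512 := Nat.ofBits_lt_two_pow A
  have hb : Nat.ofBits B < 512 := Nat.ofBits_lt_two_pow B
  have e1 : (Nat.ofBits A + 512 * Nat.ofBits B) % 512 = Nat.ofBits A := by omega
  have e2 : (Nat.ofBits A + 512 * Nat.ofBits B) / 512 % 512 = Nat.ofBits B := by omega
  have tA : ∀ w : F9, (Nat.ofBits A).testBit (posN w) = decide (k w % 2 = 1) := by
    intro w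
    rw [Nat.testBit_ofBits_lt A (posN w) (posN_lt w)]
    show decide (k (posE.symm ⟨posN w, posN_lt w⟩) % 2 = 1) = _
    have : posE.symm ⟨posN w, posN_lt w⟩ = w := posE.symm_apply_apply w
    rw [this]
  have tB : ∀ w : F9, (Nat.ofBits B).testBit (posN w) = decide (k w / 2 % 2 = 1) := by
    intro w
    rw [Nat.testBit_ofBits_lt B (posN w) (posN_lt w)]
    show decide (k (posE.symm ⟨posN w, posN_lt w⟩) / 2 % 2 = 1) = _
    have : posE.symm ⟨posN w, posN_lt w⟩ = w := posE.symm_apply_apply w
    rw [this]
  have hdig : ∀ w : F9, digit (Nat.ofBits A + 512 * Nat.ofBits B) (posN w) = k w := by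
    intro w
    unfold digit
    rw [e1, e2, tA, tB]
    exact digit_lt_four _ (hk4 w)
  refine ⟨Nat.ofBits A + 512 * Nat.ofBits B, by omega, ?_, ?_⟩
  · funext w
    unfold vecOf
    rw [hdig, hkv]
  · intro hv hsum
    set s := Nat.ofBits A ||| Nat.ofBits B with hs
    have hs512 : s < 512 := Nat.or_lt_two_pow (n := 9) ha hb
    have tS : ∀ w : F9, s.testBit (posN w) = decide (v w ≠ 0) := by
      intro w
      rw [hs, Nat.testBit_or, tA, tB, ← hkv w]
      have h4 := hk4 w
      by_cases hz : k w = 0
      · rw [hz, toF_zero]; simp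
      · have : toF F ω (k w) ≠ 0 := fun h => hz (toF_eq_zero ω h0 h1 h4 h)
        have h4' : k w = 1 ∨ k w = 2 ∨ k w = 3 := by omega
        rcases h4' with h | h | h <;> rw [h] at this ⊢ <;> simp [this]
    have hne : s ≠ 0 := by
      obtain ⟨w, hw⟩ : ∃ w, v w ≠ 0 := by
        by_contra hcon
        apply hv
        funext w
        by_contra hw
        exact hcon ⟨w, hw⟩
      intro hs0
      have := tS w
      rw [hs0, Nat.zero_testBit] at this
      simp [hw] at this
    have hwt : ((wt s 9 : ℕ) : F) = 0 := by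
      have e : ∑ w : F9, (if s.testBit (posN w) then (1 : F) else 0) = ∑ z, v z ^ 3 := by
        apply Finset.sum_congr rfl
        intro w _
        rw [tS]
        by_cases hw : v w = 0
        · simp [hw]
        · rw [cube_eq hF _ hw]; simp [hw]
      rw [wt_cast, ← sum_posN (fun i => if s.testBit i then (1 : F) else 0), e, hsum]
    have heven : wt s 9 % 2 = 0 := by
      have := (CharP.cast_eq_zero_iff F 2 (wt s 9)).1 hwt
      omega
    unfold isIso
    rw [e1, e2, ← hs, PAR_testBit s hs512, heven]
    simp [hne]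

include hω hF h0 h1 in
/-- the group is transitive on the nonzero isotropic vectors -/
theorem trans_iso (hchk : ∀ n < 262144, chkVn Vtab XYgens V0 n = true) (v w : F9 → F)
    (hv : v ≠ 0) (hw : w ≠ 0) (hv3 : ∑ z, v z ^ 3 = 0) (hw3 : ∑ z, w z ^ 3 = 0) :
    ∃ g ∈ threeJ3 F ω, ∃ c : F, c ≠ 0 ∧ (g : Matrix F9 F9 F).mulVec v = c • w := by
  obtain ⟨nv, hnv, ev, hiv⟩ := exists_number ω hF h0 h1 v
  obtain ⟨nw, hnw, ew, hiw⟩ := exists_number ω hF h0 h1 w
  obtain ⟨mv, hmv, emv⟩ := orbit_V ω hω hchk _ nv hnv (hiv hv hv3) rfl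
  obtain ⟨mw, hmw, emw⟩ := orbit_V ω hω hchk _ nw hnw (hiw hw hw3) rfl
  obtain ⟨gv, hgv, rfl⟩ := (mem_Gm ω).1 hmv
  obtain ⟨gw, hgw, rfl⟩ := (mem_Gm ω).1 hmw
  refine ⟨gw * gv⁻¹, mul_mem hgw (inv_mem hgv), 1, one_ne_zero, ?_⟩
  rw [one_smul, ← ev, ← ew, ← emv, ← emw, Matrix.mulVec_mulVec, Units.val_mul, mul_assoc,
    ← Units.val_mul, inv_mul_cancel, Units.val_one, mul_one]

omit [CharP F 2] [Fintype F] in
theorem mulVec_single (M : Matrix F9 F9 F) :
    M.mulVec (Pi.single (0 : F9) (1 : F)) = fun w => M w 0 := by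
  funext w
  simp [Matrix.mulVec, dotProduct, Pi.single_apply]

theorem posN_ne_zero {w : F9} (hw : w ≠ 0) : ∃ i < 8, posN w = i + 1 := by
  have h1 : posN w ≠ 0 := fun h => hw (posN_eq_zero.1 h)
  have h2 := posN_lt w
  exact ⟨posN w - 1, by omega, by omega⟩

omit [Fintype F] in
theorem col0_of_OK {c : Nat} (h : col0OK c = true) {w : F9} (hw : w ≠ 0) :
    toMat F ω c w 0 = 0 := by
  obtain ⟨i, hi8, hp⟩ := posN_ne_zero hw
  unfold col0OK at h
  rw [Bool.and_eq_true] at h
  have hl := eq_of_beq h.1
  have hh := eq_of_beq h.2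
  have tl : (lo c).testBit (9 * (i + 1)) = false := by
    have := congrArg (fun t => t.testBit (9 * (i + 1))) hl
    simp only [Nat.testBit_and, M0_testBit i hi8, Bool.and_true, Nat.zero_testBit] at this
    exact this
  have th : (hi c).testBit (9 * (i + 1)) = false := by
    have := congrArg (fun t => t.testBit (9 * (i + 1))) hh
    simp only [Nat.testBit_and, M0_testBit i hi8, Bool.and_true, Nat.zero_testBit] at this
    exact this
  rw [toMat_apply, hp, posN_eq_zero.2 rfl]
  unfold ent
  rw [Nat.add_zero, tl, th]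
  simp [toF_zero]

omit [Fintype F] in
include h0 h1 in
theorem col0_of_Bad {c : Nat} (h : col0Bad c = true) : ∃ w : F9, w ≠ 0 ∧ toMat F ω c w 0 ≠ 0 := by
  unfold col0Bad at h
  rw [List.any_eq_true] at h
  obtain ⟨i, hi, hne⟩ := h
  rw [List.mem_range] at hi
  refine ⟨posE.symm ⟨i + 1, by omega⟩, ?_, ?_⟩
  · intro h
    have := congrArg posN h
    rw [posN_eq_zero.2 rfl] at this
    simp [posN] at this
  · rw [toMat_apply, posN_eq_zero.2 rfl]
    have e : posN (posE.symm ⟨i + 1, by omega⟩) = i + 1 := by simp [posN]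
    rw [e]
    intro hz
    have hlt : ent c (i + 1) 0 < 4 := by
      unfold ent
      split_ifs <;> omega
    have := toF_eq_zero ω h0 h1 hlt hz
    rw [this] at hne
    simp at hne

theorem colH : ∀ e, memT Htab e → col0OK (codeOf e) = true := by
  rintro e ⟨B, hB, p, hp, c, hc, he⟩
  simp only [Htab, List.mem_cons, List.not_mem_nil, or_false] at hB
  rcases hB with rfl | rfl
  · exact allB_of_mem colH_0 hp hc he
  · exact allB_of_mem colH_1 hp hc he

theorem colR : ∀ e, memT Rtab e → codeOf e = ONE ∨ col0Bad (codeOf e) = true := by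
  have key : ∀ e : Nat, (codeOf e == ONE || col0Bad (codeOf e)) = true →
      codeOf e = ONE ∨ col0Bad (codeOf e) = true := by
    intro e h
    rw [Bool.or_eq_true] at h
    rcases h with h | h
    · left; exact eq_of_beq h
    · right; exact h
  rintro e ⟨B, hB, p, hp, c, hc, he⟩
  simp only [Rtab, List.mem_cons, List.not_mem_nil, or_false] at hB
  rcases hB with rfl | rfl | rfl | rfl | rfl | rfl
  · exact key e (allB_of_mem colR_0 hp hc he)
  · exact key e (allB_of_mem colR_1 hp hc he)
  · exact key e (allB_of_mem colR_2 hp hc he)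
  · exact key e (allB_of_mem colR_3 hp hc he)
  · exact key e (allB_of_mem colR_4 hp hc he)
  · exact key e (allB_of_mem colR_5 hp hc he)

/-- the stabiliser of the line through the first basis vector -/
def HS : Subgroup (threeJ3 F ω) := pull ω (Submonoid.closure (setOfL (toMat F ω) Hgens))

include hω h0 h1 in
theorem card_HS : Nat.card (HS ω) = 6480 := by
  unfold HS
  rw [card_pull_table ω hω h0 h1 closedH rootH incH
    ((Hgens_le_Sxy ω hω).trans (Sxy_le_Gm ω hω)), lenH]

include hω in
theorem mem_HS {g : threeJ3 F ω} :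
    g ∈ HS ω ↔ ∃ e, memT Htab e ∧ valHom ω g = toMat F ω (codeOf e) :=
  mem_pull_table ω hω closedH rootH

include hω h0 h1 in
/-- the elements fixing the line through the first basis vector -/
theorem mem_HS_iff (g : threeJ3 F ω) :
    g ∈ HS ω ↔ ∀ w : F9, w ≠ 0 → valHom ω g w 0 = 0 := by
  constructor
  · intro hg w hw
    obtain ⟨e, he, hv⟩ := (mem_HS ω hω).1 hg
    rw [hv]
    exact col0_of_OK ω (colH e he) hw
  · intro hcol
    obtain ⟨_, ⟨er, her, rfl⟩, _, ⟨eh, heh, rfl⟩, hg⟩ := mem_mul ω hω g.1 g.2
    have hg' : valHom ω g = toMat F ω (codeOf er) * toMat F ω (codeOf eh) := hg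
    -- the first column of the second factor
    have hH : ∀ w : F9, w ≠ 0 → toMat F ω (codeOf eh) w 0 = 0 := fun w hw =>
      col0_of_OK ω (colH eh heh) hw
    have hx : toMat F ω (codeOf eh) 0 0 ≠ 0 := by
      intro hx
      -- then the first column of `g` vanishes, but `g` is invertible
      have hcol0 : ∀ w : F9, valHom ω g w 0 = 0 := by
        intro w
        rw [hg', Matrix.mul_apply]
        apply Finset.sum_eq_zero
        intro u _
        by_cases hu : u = 0
        · rw [hu, hx, mul_zero]
        · rw [hH u hu, mul_zero]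
      have h1' : (valHom ω g⁻¹ * valHom ω g) 0 0 = 1 := by
        rw [← map_mul, inv_mul_cancel, map_one, Matrix.one_apply_eq]
      rw [Matrix.mul_apply] at h1'
      have : ∑ j, valHom ω g⁻¹ 0 j * valHom ω g j 0 = 0 := by
        apply Finset.sum_eq_zero
        intro u _
        rw [hcol0 u, mul_zero]
      rw [this] at h1'
      exact zero_ne_one h1'
    have hR : ∀ w : F9, w ≠ 0 → toMat F ω (codeOf er) w 0 = 0 := by
      intro w hw
      have := hcol w hw
      rw [hg', Matrix.mul_apply, Finset.sum_eq_single (0 : F9)] at this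
      · rcases mul_eq_zero.1 this with h | h
        · exact h
        · exact absurd h hx
      · intro u _ hu
        rw [hH u hu, mul_zero]
      · intro h; exact absurd (Finset.mem_univ _) h
    rcases colR er her with h | h
    · rw [mem_HS ω hω]
      exact ⟨eh, heh, by rw [hg', h, toMat_ONE, one_mul]⟩
    · obtain ⟨w, hw, hne⟩ := col0_of_Bad ω h0 h1 h
      exact absurd (hR w hw) hne

/-- the image of the first basis vector -/
def lineOf (g : threeJ3 F ω) : Submodule F (F9 → F) :=
  Submodule.span F {(valHom ω g).mulVec (Pi.single (0 : F9) (1 : F))}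

omit [CharP F 2] [Fintype F] in
theorem mulVec_single_apply (M : Matrix F9 F9 F) (w : F9) :
    M.mulVec (Pi.single (0 : F9) (1 : F)) w = M w 0 := by
  rw [mulVec_single]

include hω h0 h1 in
theorem lineOf_eq_iff (a b : threeJ3 F ω) : lineOf ω a = lineOf ω b ↔ a⁻¹ * b ∈ HS ω := by
  have e0ne : (Pi.single (0 : F9) (1 : F) : F9 → F) ≠ 0 := by
    intro h
    have := congrFun h 0
    simp at this
  have hinv : ∀ g : threeJ3 F ω, ∀ x : F9 → F,
      (valHom ω g⁻¹).mulVec ((valHom ω g).mulVec x) = x := by
    intro g x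
    rw [Matrix.mulVec_mulVec, ← map_mul, inv_mul_cancel, map_one, Matrix.one_mulVec]
  unfold lineOf
  rw [Submodule.span_singleton_eq_span_singleton, mem_HS_iff ω hω h0 h1]
  constructor
  · rintro ⟨z, hz⟩ w hw
    have e : (valHom ω (a⁻¹ * b)).mulVec (Pi.single (0 : F9) (1 : F)) =
        (z : F) • (Pi.single (0 : F9) (1 : F) : F9 → F) := by
      rw [map_mul, ← Matrix.mulVec_mulVec, ← hz, Units.smul_def, Matrix.mulVec_smul, hinv]
    have := congrFun e w
    rw [mulVec_single_apply] at this
    rw [this]
    simp [hw]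
  · intro hcol
    obtain ⟨k, hk⟩ : ∃ k, k = a⁻¹ * b := ⟨_, rfl⟩
    rw [← hk] at hcol
    have hb : b = a * k := by rw [hk, mul_inv_cancel_left]
    have hck : (valHom ω k).mulVec (Pi.single (0 : F9) (1 : F)) =
        (valHom ω k 0 0) • (Pi.single (0 : F9) (1 : F) : F9 → F) := by
      funext w
      rw [mulVec_single_apply]
      by_cases hw : w = 0
      · subst hw; simp
      · rw [hcol w hw]; simp [hw]
    have hx : valHom ω k 0 0 ≠ 0 := by
      intro hx
      rw [hx, zero_smul] at hck
      have := hinv k (Pi.single (0 : F9) (1 : F))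
      rw [hck, Matrix.mulVec_zero] at this
      exact e0ne this.symm
    refine ⟨Units.mk0 _ hx, ?_⟩
    rw [Units.smul_def, Units.val_mk0, hb, map_mul, ← Matrix.mulVec_mulVec, hck, Matrix.mulVec_smul]

include hω h0 h1 in
theorem lineOf_respects (a b : threeJ3 F ω) (hab : (QuotientGroup.leftRel (HS ω)) a b) :
    lineOf ω a = lineOf ω b := by
  rw [lineOf_eq_iff ω hω h0 h1]
  exact QuotientGroup.leftRel_apply.1 hab

include hω h0 h1 in
/-- the line through the first basis vector has 23256 images -/
theorem ncard_lines : {L : Submodule F (F9 → F) | ∃ g ∈ threeJ3 F ω,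
    L = Submodule.span F {(g : Matrix F9 F9 F).mulVec (Pi.single (0 : F9) (1 : F))}}.ncard = 23256 := by
  have hS : {L : Submodule F (F9 → F) | ∃ g ∈ threeJ3 F ω,
      L = Submodule.span F {(g : Matrix F9 F9 F).mulVec (Pi.single (0 : F9) (1 : F))}} =
      Set.range (Quotient.lift (s := QuotientGroup.leftRel (HS ω)) (lineOf ω)
        (lineOf_respects ω hω h0 h1)) := by
    ext L
    constructor
    · rintro ⟨g, hg, rfl⟩
      exact ⟨Quotient.mk _ ⟨g, hg⟩, rfl⟩
    · rintro ⟨q, rfl⟩
      induction q using Quotient.inductionOn with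
      | h g => exact ⟨g.1, g.2, rfl⟩
  have hinj : Function.Injective (Quotient.lift (s := QuotientGroup.leftRel (HS ω)) (lineOf ω)
        (lineOf_respects ω hω h0 h1)) := by
    intro q q' h
    induction q using Quotient.inductionOn with
    | h a =>
      induction q' using Quotient.inductionOn with
      | h b =>
        apply Quotient.sound
        apply QuotientGroup.leftRel_apply.2
        exact (lineOf_eq_iff ω hω h0 h1 a b).1 h
  rw [hS, ← Nat.card_coe_set_eq, Nat.card_range_of_injective hinj]
  have hidx := (HS ω).card_mul_index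
  rw [card_HS ω hω h0 h1, card_eq ω hω h0 h1] at hidx
  have : (HS ω).index = 23256 := by omega
  rw [← this]
  rfl

end field

end Cfsg.Agent.Helper14.J3
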