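import Cfsg.Agent.Helper14.J3Z
import Cfsg.Agent.Helper14.J3KV0
import Cfsg.Agent.Helper14.J3KV1
import Cfsg.Agent.Helper14.J3KV2
import Cfsg.Agent.Helper14.J3KV3
import Cfsg.Agent.Helper14.J3KV4
import Cfsg.Agent.Helper14.J3KV5
import Cfsg.Agent.Helper14.J3KV6
import Cfsg.Agent.Helper14.J3KV7
import Cfsg.Agent.Helper14.J3KV8
import Cfsg.Agent.Helper14.J3KV9
import Cfsg.Agent.Helper14.J3KV10
import Cfsg.Agent.Helper14.J3KV11
import Cfsg.Agent.Helper14.J3KV12
import Cfsg.Agent.Helper14.J3KV13
import Cfsg.Agent.Helper14.J3KV14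
import Cfsg.Agent.Helper14.J3KV15

set_option autoImplicit false
set_option linter.unusedSectionVars false

namespace Cfsg.Agent.Helper14.J3

open Cfsg Cfsg.Spor
open scoped MatrixGroups

/-- the whole table of vectors passes the test -/
theorem chkV_all : ∀ n < 262144, chkVn Vtab XYgens V0 n = true := by
  intro n hn
  obtain ⟨J, hJ⟩ : ∃ J, J = n / 16384 := ⟨_, rfl⟩
  have hJ2 : J < 16 := by omega
  interval_cases J
  · exact chkV_0 n (by omega) (by omega)
  · exact chkV_1 n (by omega) (by omega)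
  · exact chkV_2 n (by omega) (by omega)
  · exact chkV_3 n (by omega) (by omega)
  · exact chkV_4 n (by omega) (by omega)
  · exact chkV_5 n (by omega) (by omega)
  · exact chkV_6 n (by omega) (by omega)
  · exact chkV_7 n (by omega) (by omega)
  · exact chkV_8 n (by omega) (by omega)
  · exact chkV_9 n (by omega) (by omega)
  · exact chkV_10 n (by omega) (by omega)
  · exact chkV_11 n (by omega) (by omega)
  · exact chkV_12 n (by omega) (by omega)
  · exact chkV_13 n (by omega) (by omega)
  · exact chkV_14 n (by omega) (by omega)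
  · exact chkV_15 n (by omega) (by omega)

section field

variable {F : Type*} [Field F] [CharP F 2] (ω : F) (hω : ω * ω = ω + 1)
variable [Fintype F] (hF : Fintype.card F = 4) (h0 : ω ≠ 0) (h1 : ω ≠ 1)

include hω hF h0 h1 in
/-- the group is transitive on the nonzero isotropic vectors -/
theorem trans_iso' (v w : F9 → F)
    (hv : v ≠ 0) (hw : w ≠ 0) (hv3 : ∑ z, v z ^ 3 = 0) (hw3 : ∑ z, w z ^ 3 = 0) :
    ∃ g ∈ threeJ3 F ω, ∃ c : F, c ≠ 0 ∧ (g : Matrix F9 F9 F).mulVec v = c • w :=
  trans_iso ω hω hF h0 h1 chkV_all v w hv hw hv3 hw3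

end field

end Cfsg.Agent.Helper14.J3
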