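import Mathlib
import Cfsg.Agent.Helper18.K2P.Defs
import Cfsg.Agent.Helper18.K2P.Defs2
import Cfsg.Agent.Helper18.K2P.QB
import Cfsg.Agent.Helper18.K2P.RACT
import Cfsg.Agent.Helper18.K2P.STAB
import Cfsg.Agent.Helper18.K2P.OMEGA
import Cfsg.Agent.Helper18.K2P.BASIS
import Cfsg.Agent.Helper8.K2PG
import Cfsg.Agent.Helper8.K2PROT
import Cfsg.Agent.Helper1.K2PPAIRF
import Cfsg.Agent.Helper1.K2PBPAIRK
import Cfsg.Agent.Helper7.K2MSMOVE

set_option autoImplicit false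
set_option linter.unusedSectionVars false
set_option linter.unusedVariables false

/-! # K2P (S5692, `k = 2`, hyperbolic blocks), chapter B, piece B-THREE (helper14, hedge):
three nonzero components (`i, k, p`) and two more blocks (`j, l`) give `SiegOut`. -/

namespace Cfsg.Agent.K2P

open Matrix Cfsg.Agent.OC2P Cfsg.Agent.Helper28.Sg Cfsg.Agent.Helper28.Spin
  Cfsg.Agent.Helper12.OrthGen Cfsg.Agent.K2M

variable {F : Type*} [Field F] [Fintype F] {t : ℕ} {Q : QuadraticForm F (Fin t × Fin 2 → F)}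
  {q : QuadraticForm F (Fin 2 → F)} {e f : Fin 2 → F} {M : Subgroup (OG Q)}

namespace B.THREE

/-- a rotation `ν ∉ {0, 1}` fixes no nonzero vector -/
theorem aux_ne (bp : BP Q q e f) {ν : F} (hν0 : ν ≠ 0) (hν1 : ν ≠ 1) {y : Fin 2 → F} (hy : y ≠ 0) :
    rotV q e f ν y - y ≠ 0 := by
  intro h
  rw [ROT.aux_rotV_sub bp] at h
  have h1 := congrArg (fun z => QuadraticMap.polar ⇑q z f) h
  have h2 := congrArg (fun z => QuadraticMap.polar ⇑q z e) h
  simp only [BASIS.polar_comb_f bp, BASIS.polar_comb_e bp, QuadraticMap.polar_zero_left] at h1 h2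
  have h3 : ν - 1 ≠ 0 := sub_ne_zero.mpr hν1
  have h4 : ν⁻¹ - 1 ≠ 0 := by
    intro h5
    apply hν1
    exact inv_eq_one.mp (sub_eq_zero.mp h5)
  have h5 : QuadraticMap.polar ⇑q y f = 0 := (mul_eq_zero.mp h1).resolve_left h3
  have h6 : QuadraticMap.polar ⇑q y e = 0 := (mul_eq_zero.mp h2).resolve_left h4
  apply hy
  rw [BASIS.eq bp y, h5, h6, zero_smul, zero_smul, add_zero]

/-- the common computation: `m = ρ_i(λ) ρ_j(λ⁻¹) ρ_k(μ) ρ_l(μ⁻¹)` -/
theorem core (bp : BP Q q e f) (ht : 3 ≤ t) (hM : HasMO M)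
    {a : Fin t × Fin 2 → F} (ha : InA M a) {i j k l p : Fin t} (hij : i ≠ j) (hik : i ≠ k) (hil : i ≠ l)
    (hip : i ≠ p) (hjk : j ≠ k) (hjl : j ≠ l) (hjp : j ≠ p) (hkl : k ≠ l) (hkp : k ≠ p) (hlp : l ≠ p)
    {lam mu : F} (hl0 : lam ≠ 0) (hm0 : mu ≠ 0)
    (hQ : (lam - 1) * (lam⁻¹ - 1) * (q (bproj i a) + q (bproj j a))
      + (mu - 1) * (mu⁻¹ - 1) * (q (bproj k a) + q (bproj l a)) = 0)
    (hnz : (lam ≠ 1 ∧ bproj i a ≠ 0) ∨ (mu ≠ 1 ∧ bproj k a ≠ 0))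
    (hp : bproj p a ≠ 0) : SiegOut M := by
  classical
  obtain ⟨yb, ha', hb, hqb, hab⟩ := B.PAIRK.aux_changeb bp ht hM ha p
  have hl0' : lam⁻¹ ≠ 0 := inv_ne_zero hl0
  have hm0' : mu⁻¹ ≠ 0 := inv_ne_zero hm0
  have hg1 : TOR.rho bp i lam hl0 * TOR.rho bp j lam⁻¹ hl0' ∈ M := by
    apply TOR.mem2 bp ht hM hij hl0 hl0'
    rw [mul_inv_cancel₀ hl0]
    exact ⟨1, by ring⟩
  have hg2 : TOR.rho bp k mu hm0 * TOR.rho bp l mu⁻¹ hm0' ∈ M := by
    apply TOR.mem2 bp ht hM hkl hm0 hm0'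
    rw [mul_inv_cancel₀ hm0]
    exact ⟨1, by ring⟩
  have hm := M.mul_mem hg1 hg2
  -- `m b = b`
  have hmb : mt Q (TOR.rho bp i lam hl0 * TOR.rho bp j lam⁻¹ hl0' *
      (TOR.rho bp k mu hm0 * TOR.rho bp l mu⁻¹ hm0')) *ᵥ binj p yb = binj p yb := by
    rw [mt_mul_mulVec, mt_mul_mulVec, mt_mul_mulVec, B.PAIRK.aux_fix_binj bp hlp,
      B.PAIRK.aux_fix_binj bp hkp, B.PAIRK.aux_fix_binj bp hjp, B.PAIRK.aux_fix_binj bp hip]
  -- `m a`
  have hma : mt Q (TOR.rho bp i lam hl0 * TOR.rho bp j lam⁻¹ hl0' *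
      (TOR.rho bp k mu hm0 * TOR.rho bp l mu⁻¹ hm0')) *ᵥ a =
      a + binj l (rotV q e f mu⁻¹ (bproj l a) - bproj l a)
        + binj k (rotV q e f mu (bproj k a) - bproj k a)
        + binj j (rotV q e f lam⁻¹ (bproj j a) - bproj j a)
        + binj i (rotV q e f lam (bproj i a) - bproj i a) := by
    rw [mt_mul_mulVec, mt_mul_mulVec, mt_mul_mulVec, ROT.aux_rho bp l hm0', ROT.aux_rho bp k hm0,
      ROT.aux_rho bp j hl0', ROT.aux_rho bp i hl0]
    simp only [QB.bproj_add, bproj_binj_ne hkl, bproj_binj_ne hjl, bproj_binj_ne hjk,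
      bproj_binj_ne hil, bproj_binj_ne hik, bproj_binj_ne hij, add_zero]
  have hzeq : a - mt Q (TOR.rho bp i lam hl0 * TOR.rho bp j lam⁻¹ hl0' *
      (TOR.rho bp k mu hm0 * TOR.rho bp l mu⁻¹ hm0')) *ᵥ a =
      -(binj l (rotV q e f mu⁻¹ (bproj l a) - bproj l a)
        + binj k (rotV q e f mu (bproj k a) - bproj k a)
        + binj j (rotV q e f lam⁻¹ (bproj j a) - bproj j a)
        + binj i (rotV q e f lam (bproj i a) - bproj i a)) := by
    rw [hma]; abel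
  -- `Q z = 0`
  have hz : Q (-(binj l (rotV q e f mu⁻¹ (bproj l a) - bproj l a)
        + binj k (rotV q e f mu (bproj k a) - bproj k a)
        + binj j (rotV q e f lam⁻¹ (bproj j a) - bproj j a)
        + binj i (rotV q e f lam (bproj i a) - bproj i a))) = 0 := by
    have h1 : bproj i (binj l (rotV q e f mu⁻¹ (bproj l a) - bproj l a)
        + binj k (rotV q e f mu (bproj k a) - bproj k a)
        + binj j (rotV q e f lam⁻¹ (bproj j a) - bproj j a)) = 0 := by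
      rw [QB.bproj_add, QB.bproj_add, bproj_binj_ne hil, bproj_binj_ne hik, bproj_binj_ne hij]
      simp
    have h2 : bproj j (binj l (rotV q e f mu⁻¹ (bproj l a) - bproj l a)
        + binj k (rotV q e f mu (bproj k a) - bproj k a)) = 0 := by
      rw [QB.bproj_add, bproj_binj_ne hjl, bproj_binj_ne hjk]
      simp
    have h3 : bproj k (binj l (rotV q e f mu⁻¹ (bproj l a) - bproj l a)) = 0 :=
      bproj_binj_ne hkl _
    rw [QuadraticMap.map_neg, B.PAIRK.aux_Q_add bp i _ h1, B.PAIRK.aux_Q_add bp j _ h2,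
      B.PAIRK.aux_Q_add bp k _ h3, QB.Q_binj bp.toBM0,
      B.PAIRK.aux_q_dsp bp, B.PAIRK.aux_q_dsp bp, B.PAIRK.aux_q_dsp bp, B.PAIRK.aux_q_dsp bp,
      inv_inv, inv_inv]
    linear_combination hQ
  -- `z ≠ 0`
  have hz0 : -(binj l (rotV q e f mu⁻¹ (bproj l a) - bproj l a)
        + binj k (rotV q e f mu (bproj k a) - bproj k a)
        + binj j (rotV q e f lam⁻¹ (bproj j a) - bproj j a)
        + binj i (rotV q e f lam (bproj i a) - bproj i a)) ≠ 0 := by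
    intro h0
    rcases hnz with ⟨hl1, hia⟩ | ⟨hm1, hka⟩
    · have h1 := congrArg (bproj i) h0
      rw [QB.bproj_neg, QB.bproj_add, QB.bproj_add, QB.bproj_add, bproj_binj_ne hil,
        bproj_binj_ne hik, bproj_binj_ne hij, bproj_binj, zero_add, zero_add, zero_add,
        QB.bproj_zero, neg_eq_zero] at h1
      exact aux_ne bp hl0 hl1 hia h1
    · have h1 := congrArg (bproj k) h0
      rw [QB.bproj_neg, QB.bproj_add, QB.bproj_add, QB.bproj_add, bproj_binj_ne hkl,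
        bproj_binj_ne (Ne.symm hjk), bproj_binj_ne (Ne.symm hik), bproj_binj, zero_add, add_zero,
        add_zero, QB.bproj_zero, neg_eq_zero] at h1
      exact aux_ne bp hm0 hm1 hka h1
  refine B.PAIRK.aux_core ha' hb hab hm hmb hzeq hz hz0 {i, j, k, l} Finset.card_le_four ?_ ?_ hp
  · intro c hc
    simp only [Finset.mem_insert, Finset.mem_singleton, not_or] at hc
    obtain ⟨hci, hcj, hck, hcl⟩ := hc
    rw [QB.bproj_neg, QB.bproj_add, QB.bproj_add, QB.bproj_add, bproj_binj_ne hcl,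
      bproj_binj_ne hck, bproj_binj_ne hcj, bproj_binj_ne hci]
    simp
  · simp only [Finset.mem_insert, Finset.mem_singleton, not_or]
    exact ⟨Ne.symm hip, Ne.symm hjp, Ne.symm hkp, Ne.symm hlp⟩

/-- some `ν ∉ {0, 1}` -/
theorem aux_nu (hq : 7 ≤ Fintype.card F) : ∃ ν : F, ν ≠ 0 ∧ ν ≠ 1 := by
  classical
  obtain ⟨k, h0, h1, -⟩ := PAIRF.exists_avoid hq (0 : F) 1 0 0 0
  exact ⟨k, h0, h1⟩

end B.THREE

open B.THREE in
/-- B-THREE -/
theorem B.THREE (bp : BP Q q e f) (ht : 5 ≤ t) (hq : 7 ≤ Fintype.card F) (hM : HasMO M)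
    {a : Fin t × Fin 2 → F} (ha : InA M a) {i j k l p : Fin t} (hij : i ≠ j) (hik : i ≠ k) (hil : i ≠ l)
    (hip : i ≠ p) (hjk : j ≠ k) (hjl : j ≠ l) (hjp : j ≠ p) (hkl : k ≠ l) (hkp : k ≠ p) (hlp : l ≠ p)
    (hi : bproj i a ≠ 0) (hk : bproj k a ≠ 0) (hp : bproj p a ≠ 0) : SiegOut M := by
  have ht3 : 3 ≤ t := by omega
  by_cases hn : q (bproj i a) + q (bproj j a) = 0
  · obtain ⟨ν, hν0, hν1⟩ := aux_nu hq
    refine core bp ht3 hM ha hij hik hil hip hjk hjl hjp hkl hkp hlp hν0 (one_ne_zero) ?_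
      (Or.inl ⟨hν1, hi⟩) hp
    rw [hn]; simp
  by_cases hn' : q (bproj k a) + q (bproj l a) = 0
  · obtain ⟨ν, hν0, hν1⟩ := aux_nu hq
    refine core bp ht3 hM ha hij hik hil hip hjk hjl hjp hkl hkp hlp (one_ne_zero) hν0 ?_
      (Or.inr ⟨hν1, hk⟩) hp
    rw [hn']; simp
  obtain ⟨lam, mu, s, hl0, hl1, hm0, hm1, heq, -⟩ := PAIRF.main hq hn hn'
  refine core bp ht3 hM ha hij hik hil hip hjk hjl hjp hkl hkp hlp hl0 hm0 ?_ (Or.inl ⟨hl1, hi⟩) hp
  field_simp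
  linear_combination (-1 : F) * heq

end Cfsg.Agent.K2P
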