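import Mathlib
import Cfsg.Agent.Helper18.K2P.Defs
import Cfsg.Agent.Helper18.K2P.Defs2
import Cfsg.Agent.Helper18.K2P.QB
import Cfsg.Agent.Helper12.K2PSADD23
import Cfsg.Agent.Helper14.K2PBTHREE

set_option autoImplicit false
set_option linter.unusedSectionVars false
set_option linter.unusedVariables false

/-! # K2P (S5692, `k = 2`, hyperbolic blocks), chapter B, assembly (helper14):
`InA M a`, `a` not a block vector ⟹ `SiegOut M`.

At least three nonzero components: `B.THREE` (two more blocks exist as `5 ≤ t`).  Exactly two nonzero components: one of them is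
nonsingular (`Q a ≠ 0`), helper12's `SADD23.main` gives a vector with three nonzero components, then `B.THREE`. -/

namespace Cfsg.Agent.K2P

open Matrix Cfsg.Agent.OC2P Cfsg.Agent.Helper28.Sg Cfsg.Agent.Helper28.Spin
  Cfsg.Agent.Helper12.OrthGen Cfsg.Agent.K2M

variable {F : Type*} [Field F] [Fintype F] {t : ℕ} {Q : QuadraticForm F (Fin t × Fin 2 → F)}
  {q : QuadraticForm F (Fin 2 → F)} {e f : Fin 2 → F} {M : Subgroup (OG Q)}

namespace SIEGEL

/-- three nonzero components -/
theorem three (bp : BP Q q e f) (ht : 5 ≤ t) (hF : 7 ≤ Fintype.card F) (hM : HasMO M)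
    {a : Fin t × Fin 2 → F} (ha : InA M a) {i k p : Fin t} (hik : i ≠ k) (hip : i ≠ p) (hkp : k ≠ p)
    (hi : bproj i a ≠ 0) (hk : bproj k a ≠ 0) (hp : bproj p a ≠ 0) : SiegOut M := by
  classical
  have hcard : 1 < (({i, k, p} : Finset (Fin t))ᶜ).card := by
    rw [Finset.card_compl, Fintype.card_fin]
    have : ({i, k, p} : Finset (Fin t)).card ≤ 3 := Finset.card_le_three
    omega
  obtain ⟨j, hj, l, hl, hjl⟩ := Finset.one_lt_card.mp hcard
  simp only [Finset.mem_compl, Finset.mem_insert, Finset.mem_singleton, not_or] at hj hl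
  exact B.THREE bp ht hF hM ha (Ne.symm hj.1) hik (Ne.symm hl.1) hip hj.2.1 hjl hj.2.2
    (Ne.symm hl.2.1) hkp hl.2.2 hi hk hp

end SIEGEL

open SIEGEL in
/-- **chapter B** -/
theorem SIEGEL.main (bp : BP Q q e f) (ht : 7 ≤ t) (hF : 7 ≤ Fintype.card F) (hM : HasMO M)
    {a : Fin t × Fin 2 → F} (ha : InA M a) (hab : ¬ IsBlk a) : SiegOut M := by
  classical
  set T : Finset (Fin t) := Finset.univ.filter (fun i => bproj i a ≠ 0) with hT
  have hmemT : ∀ i, i ∈ T ↔ bproj i a ≠ 0 := fun i => by rw [hT]; simp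
  -- at least two nonzero components
  have h2 : 2 ≤ T.card := by
    by_contra hlt
    have hle : T.card ≤ 1 := by omega
    have : Nonempty (Fin t) := ⟨⟨0, by omega⟩⟩
    apply hab
    rcases Finset.card_le_one_iff_subset_singleton.mp hle with ⟨l, hl⟩
    refine ⟨l, QB.mem_Dblk_iff.mpr ?_⟩
    intro i hi
    by_contra h0
    have := hl ((hmemT i).mpr h0)
    rw [Finset.mem_singleton] at this
    exact hi this
  by_cases h3 : 3 ≤ T.card
  · obtain ⟨i, hi, j, hj, k, hk, hij, hik, hjk⟩ := Finset.two_lt_card.mp (by omega : 2 < T.card)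
    exact three bp (by omega) hF hM ha hij hik hjk ((hmemT i).mp hi) ((hmemT j).mp hj)
      ((hmemT k).mp hk)
  · -- exactly two components
    have hc2 : T.card = 2 := by omega
    obtain ⟨i, j, hij, hTij⟩ := Finset.card_eq_two.mp hc2
    have hi : bproj i a ≠ 0 := (hmemT i).mp (by rw [hTij]; simp)
    have hj : bproj j a ≠ 0 := (hmemT j).mp (by rw [hTij]; simp)
    have h0 : ∀ m, m ≠ i → m ≠ j → bproj m a = 0 := by
      intro m hmi hmj
      by_contra hm
      have := (hmemT m).mpr hm
      rw [hTij] at this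
      simp at this
      rcases this with h | h
      · exact hmi h
      · exact hmj h
    have hQa : Q a ≠ 0 := by
      obtain ⟨b, ha', -⟩ := ha
      exact ha'
    have hsum : Q a = q (bproj i a) + q (bproj j a) := by
      rw [bp.sum a]
      apply Finset.sum_eq_add i j hij
      · intro c _ hc
        rw [h0 c hc.1 hc.2, map_zero]
      · intro h; exact absurd (Finset.mem_univ i) h
      · intro h; exact absurd (Finset.mem_univ j) h
    have hex : ∃ (a' : Fin t × Fin 2 → F) (i' j' k' p' : Fin t), InA M a' ∧ i' ≠ j' ∧ i' ≠ k' ∧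
        j' ≠ k' ∧ bproj i' a' ≠ 0 ∧ bproj j' a' ≠ 0 ∧ bproj k' a' ≠ 0 ∧ bproj p' a' = 0 := by
      by_cases hqi : q (bproj i a) = 0
      · have hqj : q (bproj j a) ≠ 0 := by
          intro hqj
          rw [hqi, hqj, add_zero] at hsum
          exact hQa hsum
        exact SADD23.main bp (by omega) hF hM ha (Ne.symm hij) hqj hi
          (fun m hmj hmi => h0 m hmi hmj)
      · exact SADD23.main bp (by omega) hF hM ha hij hqi hj h0
    obtain ⟨a', i', j', k', p', ha', hij', hik', hjk', hi', hj', hk', hp'⟩ := hex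
    exact three bp (by omega) hF hM ha' hij' hik' hjk' hi' hj' hk'

end Cfsg.Agent.K2P
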