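import Mathlib
import Cfsg.Agent.Helper18.K2P.Defs
import Cfsg.Agent.Helper18.K2P.QB
import Cfsg.Agent.Helper18.K2P.STAB
import Cfsg.Agent.Helper28.OrthMax3

set_option autoImplicit false
set_option linter.unusedSectionVars false
set_option linter.unusedVariables false

/-! # S5692, `k = 2` plus blocks, top level pieces HYP and PROPER (helper14):
a binary form of plus type has a hyperbolic basis; `Ω = S Q` does not permute the blocks. -/

namespace Cfsg.Agent.K2P

open Matrix Cfsg.Agent.OC2P Cfsg.Agent.Helper28.Sg Cfsg.Agent.Helper28.Spin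
  Cfsg.Agent.Helper12.OrthGen Cfsg.Agent.K2M

variable {F : Type*} [Field F] {t : ℕ} {Q : QuadraticForm F (Fin t × Fin 2 → F)}
  {q : QuadraticForm F (Fin 2 → F)}

/-- HYP: a nondegenerate binary quadratic form of plus type has a hyperbolic basis -/
theorem HYP.exists_pair (q : QuadraticForm F (Fin 2 → F))
    (hnd : (QuadraticMap.polarBilin q).Nondegenerate)
    (hplus : Cfsg.Geo.IsPlusTypeOn (⇑q) ⊤) :
    ∃ e f : Fin 2 → F, q e = 0 ∧ q f = 0 ∧ QuadraticMap.polar (⇑q) e f = 1 := by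
  obtain ⟨U, -, hU, hdim⟩ := hplus
  rw [finrank_top, Module.finrank_fin_fun] at hdim
  have hU1 : Module.finrank F U = 1 := by omega
  have hpos : 0 < Module.finrank F U := by omega
  have : Nontrivial U := Module.finrank_pos_iff.mp hpos
  obtain ⟨⟨e, heU⟩, he0⟩ := exists_ne (0 : U)
  have he : e ≠ 0 := fun h => he0 (Subtype.ext h)
  have hqe : q e = 0 := hU e heU
  have h : ∃ z, QuadraticMap.polar ⇑q e z ≠ 0 := by
    by_contra hcon
    push Not at hcon
    apply he
    apply hnd.1 e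
    intro z
    rw [QuadraticMap.polarBilin_apply_apply]
    exact hcon z
  obtain ⟨z, hz⟩ := h
  obtain ⟨f', hef'⟩ : ∃ f' : Fin 2 → F, QuadraticMap.polar ⇑q e f' = 1 := by
    refine ⟨(QuadraticMap.polar ⇑q e z)⁻¹ • z, ?_⟩
    rw [QuadraticMap.polar_smul_right, smul_eq_mul, inv_mul_cancel₀ hz]
  obtain ⟨c, hc⟩ : ∃ c : F, c = q f' := ⟨_, rfl⟩
  refine ⟨e, f' - c • e, hqe, ?_, ?_⟩
  · have h1 : q (f' - c • e) = q f' + q (-(c • e)) + QuadraticMap.polar ⇑q f' (-(c • e)) := by
      rw [sub_eq_add_neg, QuadraticMap.polar]; ring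
    rw [h1, QuadraticMap.map_neg, QuadraticMap.map_smul, hqe, QuadraticMap.polar_neg_right,
      QuadraticMap.polar_smul_right, QuadraticMap.polar_comm, hef', ← hc]
    simp
  · rw [QuadraticMap.polar_sub_right, QuadraticMap.polar_smul_right, hef', QuadraticMap.polar_self, hqe]
    simp

/-- PROPER: `Ω` does not permute the blocks (`E(e_0, w)`, `w = e_2`, moves `f_0` to `f_0 + e_2`) -/
theorem PROPER.main {e f : Fin 2 → F} (bp : BP Q q e f) (ht : 3 ≤ t) :
    ∃ g : OG Q, g ∈ S Q ∧ ¬ StabD Q g := by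
  classical
  have bm : BM0 Q q := bp.toBM0
  let i0 : Fin t := ⟨0, by omega⟩
  let i2 : Fin t := ⟨2, by omega⟩
  have h02 : i0 ≠ i2 := by intro h; simpa [i0, i2, Fin.ext_iff] using h
  have he0 : e ≠ 0 := by
    intro h0
    have := bp.ef
    rw [h0, QuadraticMap.polar_zero_left] at this
    exact zero_ne_one this
  set u : Fin t × Fin 2 → F := binj i0 e with hu
  set w : Fin t × Fin 2 → F := binj i2 e with hw
  set x : Fin t × Fin 2 → F := binj i0 f with hx
  have hQu : Q u = 0 := by rw [hu, QB.Q_binj bm, bp.qe]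
  have hQw : Q w = 0 := by rw [hw, QB.Q_binj bm, bp.qe]
  have hBuw : B Q u w = 0 := QB.B_binj_binj_ne bm h02 e e
  have hBux : B Q u x = 1 := by
    rw [hu, hx, QB.B_binj_left bm, bproj_binj, bp.ef]
  have hBwx : B Q w x = 0 := QB.B_binj_binj_ne bm h02.symm e f
  refine ⟨siegO Q u w hQu hBuw, siegO_mem_S Q u w hQu hBuw, ?_⟩
  intro hst
  obtain ⟨σ, hσ⟩ := (STAB.iff bm _).mp hst
  have hmem := hσ i0 f
  rw [siegO_mulVec, hBux, hBwx, hQw, one_smul, zero_smul, sub_zero, zero_mul, zero_smul, sub_zero] at hmem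
  rw [QB.mem_Dblk_iff] at hmem
  have hb2 : bproj i2 (binj i0 f + w) = e := by
    rw [QB.bproj_add, hw, bproj_binj_ne h02.symm, bproj_binj, zero_add]
  have hb0 : bproj i0 (binj i0 f + w) = f := by
    rw [QB.bproj_add, hw, bproj_binj, bproj_binj_ne h02, add_zero]
  have hf0 : f ≠ 0 := by
    intro h0
    have := bp.ef
    rw [h0, QuadraticMap.polar_zero_right] at this
    exact zero_ne_one this
  by_cases hs : σ i0 = i2
  · have h1 := hmem i0 (by rw [hs]; exact h02)
    rw [hb0] at h1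
    exact hf0 h1
  · have h2 := hmem i2 (fun h => hs h.symm)
    rw [hb2] at h2
    exact he0 h2

end Cfsg.Agent.K2P
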