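import Cfsg.Statements.S5692
import Cfsg.Agent.Helper3.OC2TOFBLK
import Cfsg.Agent.Helper7.K2M.Main
import Cfsg.Agent.Helper29.OC2K.K3Odd
import Cfsg.Agent.Helper13.OC2TBLKPLUS
import Cfsg.Agent.Helper17.OC2TBLKDEC
import Cfsg.Agent.Helper17.OC2TBLKND
import Cfsg.Agent.Helper29.OC2E.Final
import Cfsg.Agent.Helper17.OC2KC2Final

set_option autoImplicit false

/-! # S5692 (`Ω⁺`, decomposition stabilisers `O^ε_k(q) ≀ S_t`): the assembly, MODULO the chapter K2P (helper14)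

Everything except the case `k = 2` with hyperbolic (plus-type) blocks is on main:
`K2M.FINAL.maximal` (`k = 2`, anisotropic blocks), `OC2K.K3ODD.maximal_fun` (`q` odd, `k ≥ 3`, all `t ≥ 2`),
`OC2K.T2.maximal_fun` (`t = 2`, any `q`), `OC2E.FINAL.maximal_fun` (`q ≥ 4` even, `k ≥ 4`, `t ≥ 3`),
`OC2K.C2.FINAL.maximal_fun` / `maximal_std'` (`q = 2`).  `S5692P.K2PHyp F` is the exact statement of the missing
chapter (block model, `k = 2`, `q₀` of plus type, `t ≥ 7`, `|F| ∉ {2,3,4,5}`); `S5692P.frozen_of_K2P` derives the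
frozen statement S5692 from it (via helper3's `OC2P.OFBLK92.main`). -/

open Cfsg

namespace Cfsg.Agent.S5692P

/-- the missing chapter K2P: the normaliser of the split torus `O_2^+(q) ≀ S_t` is maximal in `Ω⁺_{2t}(q)`,
block model -/
def K2PHyp (F : Type*) [Field F] [Fintype F] : Prop :=
  ∀ (t : ℕ) (q₀ : (Fin 2 → F) → F), Cfsg.Geo.IsNondegenerateQuadraticForm q₀ → 7 ≤ t →
    Cfsg.Geo.IsPlusTypeOn q₀ ⊤ → Fintype.card F ≠ 2 → Fintype.card F ≠ 3 → Fintype.card F ≠ 4 →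
    Fintype.card F ≠ 5 →
    Cfsg.Geo.IsMaximalIn (Cfsg.Geo.omegaGL (Cfsg.Agent.OC2P.Qblk t q₀))
      (Cfsg.Geo.decompositionStabilizer (Cfsg.Agent.OC2P.Dblk F t 2) ⊓
        Cfsg.Geo.omegaGL (Cfsg.Agent.OC2P.Qblk t q₀))

section

variable {F : Type*} [Field F] [Fintype F]

/-- `q = 2`, `k ≥ 6`: no hypothesis on the type of the blocks -/
theorem c2_ne4 {t k : ℕ} {ι : Type} [Fintype ι] [DecidableEq ι] (Q₀ : (ι → F) → F)
    (hQ₀ : Cfsg.Geo.IsNondegenerateQuadraticForm Q₀) (h2 : (2 : F) = 0)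
    (hn : 8 ≤ Fintype.card ι) (hk : 4 ≤ k) (hk4 : k ≠ 4) (ht : 3 ≤ t)
    {D : Fin t → Submodule F (ι → F)} (hD : Cfsg.Geo.IsOrthogonalMDecomposition Q₀ k D) :
    Cfsg.Geo.IsMaximalIn (Cfsg.Geo.omegaGL Q₀)
      (Cfsg.Geo.decompositionStabilizer D ⊓ Cfsg.Geo.omegaGL Q₀) := by
  classical
  have hQ := Cfsg.Agent.Helper28.NM.ofFun_nondeg Q₀ hQ₀
  obtain ⟨fr⟩ := Cfsg.Agent.Helper28.OM.exists_frame3 hQ hn
  have : Cfsg.Agent.OC2K.QHyp (Cfsg.Agent.Helper28.NM.ofFun Q₀ hQ₀) :=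
    ⟨hQ, Cfsg.Agent.Helper28.Sg.Omega_eq_S hQ fr
      (Cfsg.Agent.Helper28.OM.hgen_all hQ (by omega))⟩
  exact Cfsg.Agent.OC2K.C2.FINAL.maximal_std' (Q := Cfsg.Agent.Helper28.NM.ofFun Q₀ hQ₀) h2
    (Cfsg.Agent.OC2K.BRIDGEHD.hd (by omega) ht hD) hk (fun _ h4 => absurd h4 hk4)

/-- the block-model statement of S5692, by cases, modulo K2P -/
theorem blk (hK2P : K2PHyp F) (t k : ℕ) (q : (Fin k → F) → F)
    (hq : Cfsg.Geo.IsNondegenerateQuadraticForm q) (hn : 13 ≤ t * k) (heven : Even (t * k))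
    (hk : 2 ≤ k) (ht : 2 ≤ t) (hplus : Cfsg.Geo.IsPlusTypeOn (Cfsg.Agent.OC2P.Qblk t q) ⊤)
    (hke : Even k → (Cfsg.Geo.IsPlusTypeOn q ⊤ ∨ Even t))
    (hko : Odd k → (Odd (Fintype.card F) ∧
      Cfsg.Geo.HasSquareDiscriminant (Cfsg.Agent.OC2P.Qblk t q)))
    (hex : ¬ ((k = 2 ∧ (Fintype.card F = 3 ∨ (Cfsg.Geo.IsPlusTypeOn q ⊤ ∧
          (Fintype.card F = 2 ∨ Fintype.card F = 4 ∨ Fintype.card F = 5)))) ∨
        (k = 3 ∧ Fintype.card F = 3) ∨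
        (k = 4 ∧ Fintype.card F = 2 ∧ Cfsg.Geo.IsPlusTypeOn q ⊤))) :
    Cfsg.Geo.IsMaximalIn (Cfsg.Geo.omegaGL (Cfsg.Agent.OC2P.Qblk t q))
      (Cfsg.Geo.decompositionStabilizer (Cfsg.Agent.OC2P.Dblk F t k) ⊓
        Cfsg.Geo.omegaGL (Cfsg.Agent.OC2P.Qblk t q)) := by
  classical
  by_cases hk2 : k = 2
  · subst hk2
    have h3 : Fintype.card F ≠ 3 := fun h => hex (Or.inl ⟨rfl, Or.inl h⟩)
    by_cases hp : Cfsg.Geo.IsPlusTypeOn q ⊤
    · exact hK2P t q hq (by omega) hp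
        (fun h => hex (Or.inl ⟨rfl, Or.inr ⟨hp, Or.inl h⟩⟩)) h3
        (fun h => hex (Or.inl ⟨rfl, Or.inr ⟨hp, Or.inr (Or.inl h)⟩⟩))
        (fun h => hex (Or.inl ⟨rfl, Or.inr ⟨hp, Or.inr (Or.inr h)⟩⟩))
    · exact Cfsg.Agent.K2M.FINAL.maximal t q hq (by omega) hp h3
  · have hk3 : 3 ≤ k := by omega
    have hQ₀ := Cfsg.Agent.OC2P.BLKND.main (t := t) q hq
    have hD := Cfsg.Agent.OC2P.BLKDEC.main (F := F) q hq ht (by omega : 0 < k)
    have hcard : 13 ≤ Fintype.card (Fin t × Fin k) := by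
      rw [Fintype.card_prod, Fintype.card_fin, Fintype.card_fin]; exact hn
    by_cases h2 : (2 : F) = 0
    · -- characteristic 2: `k` is even
      have hchar : ringChar F = 2 :=
        CharP.ringChar_of_prime_eq_zero Nat.prime_two (by exact_mod_cast h2)
      have hcardeven : Fintype.card F % 2 = 0 := FiniteField.even_card_iff_char_two.mp hchar
      have hkeven : Even k := by
        rcases Nat.even_or_odd k with h | h
        · exact h
        · exfalso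
          have := (hko h).1
          rw [Nat.odd_iff] at this
          omega
      have hk4 : 4 ≤ k := by
        obtain ⟨c, hc⟩ := hkeven
        omega
      by_cases ht3 : 3 ≤ t
      · by_cases hq2 : Fintype.card F = 2
        · by_cases hk44 : k = 4
          · have hm : ¬ Cfsg.Geo.IsPlusTypeOn q ⊤ := fun h =>
              hex (Or.inr (Or.inr ⟨hk44, hq2, h⟩))
            exact Cfsg.Agent.OC2K.C2.FINAL.maximal_fun _ hQ₀ h2 (by omega) hk4 ht3 hD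
              (fun i h => hm ((Cfsg.Agent.OC2P.BLKPLUS.main q hq i).mp h))
          · exact c2_ne4 _ hQ₀ h2 (by omega) hk4 hk44 ht3 hD
        · exact Cfsg.Agent.OC2E.FINAL.maximal_fun _ hQ₀ h2 hq2 (by omega) hk4 ht3 hD
      · obtain rfl : t = 2 := by omega
        exact Cfsg.Agent.OC2K.T2.maximal_fun _ hQ₀ hcard (by omega) hD
    · exact Cfsg.Agent.OC2K.K3ODD.maximal_fun _ hQ₀ h2 hcard hk3 hD
        (fun h => hex (Or.inr (Or.inl ⟨h.2, h.1⟩)))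

end

/-- **S5692 from K2P**: the frozen statement, given the missing chapter. -/
theorem frozen_of_K2P {F : Type*} [Field F] [Fintype F] (hK2P : K2PHyp F) {n : ℕ} (hn : 13 ≤ n)
    (heven : Even n) (Q : (Fin n → F) → F) (hQ : Cfsg.Geo.IsNondegenerateQuadraticForm Q)
    (hplus : Cfsg.Geo.IsPlusTypeOn Q ⊤) {t : ℕ} (k : ℕ) (hk : 2 ≤ k)
    (D : Fin t → Submodule F (Fin n → F)) (hD : Cfsg.Geo.IsOrthogonalMDecomposition Q k D)
    (hke : Even k → ((∀ i, Cfsg.Geo.IsPlusTypeOn Q (D i)) ∨ Even t))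
    (hko : Odd k → (Odd (Fintype.card F) ∧ Cfsg.Geo.HasSquareDiscriminant Q))
    (hex : ¬ ((k = 2 ∧ (Fintype.card F = 3 ∨ ((∀ i, Cfsg.Geo.IsPlusTypeOn Q (D i)) ∧
        (Fintype.card F = 2 ∨ Fintype.card F = 4 ∨ Fintype.card F = 5)))) ∨
      (k = 3 ∧ Fintype.card F = 3) ∨
      (k = 4 ∧ Fintype.card F = 2 ∧ ∀ i, Cfsg.Geo.IsPlusTypeOn Q (D i)))) :
    Cfsg.Geo.IsMaximalIn (Cfsg.Geo.omegaGL Q)
      (Cfsg.Geo.decompositionStabilizer D ⊓ Cfsg.Geo.omegaGL Q) :=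
  Cfsg.Agent.OC2P.OFBLK92.main (fun t k q hq hn hev hk ht hp hke hko hex =>
    blk hK2P t k q hq hn hev hk ht hp hke hko hex) hn heven Q hQ hplus k hk D hD hke hko hex

end Cfsg.Agent.S5692P
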