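import Mathlib
import Cfsg.Agent.Helper18.K2P.Defs
import Cfsg.Agent.Helper28.OrthMax3
import Cfsg.Agent.Helper17.OC2TBLKND
import Cfsg.Agent.Helper14.K2PPROPER
import Cfsg.Agent.Helper14.S5692Blk

set_option autoImplicit false
set_option linter.unusedSectionVars false
set_option linter.unusedVariables false

/-! # S5692, `k = 2` plus blocks: assembly (helper14)

`MAIN.S_le_of` / `FINAL.maximal_of`: the maximality of `O_2^+(q) wr S_t` in `Ω_{2t}^+(q)` in the block model, from the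
top statements of the four chapters of `departures/helper18_k2p_route.md`
(A: CLAIM, B: SIEGEL, C: CONVERT, D: SPREAD), taken as hypotheses.  `FINAL.K2PHyp_of` is the interface
`S5692P.K2PHyp F` of `Helper14/S5692Blk.lean`. -/

namespace Cfsg.Agent.K2P

open Matrix Cfsg.Agent.OC2P Cfsg.Agent.Helper28.Sg Cfsg.Agent.Helper28.Spin
  Cfsg.Agent.Helper12.OrthGen Cfsg.Agent.K2M

variable {F : Type*} [Field F] [Fintype F]

/-- chapter A (CLAIM), as a hypothesis for a given `t` -/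
def TopA (F : Type*) [Field F] (t : ℕ) : Prop :=
  ∀ (Q : QuadraticForm F (Fin t × Fin 2 → F)) (q : QuadraticForm F (Fin 2 → F)) (e f : Fin 2 → F),
    BP Q q e f → ∀ M : Subgroup (OG Q), HasMO M → ∀ g : OG Q, g ∈ M → ¬ StabD Q g →
      SiegF Q q e f M ∨ ∃ a, InA M a ∧ ¬ IsBlk a

/-- chapter B (SIEGEL), as a hypothesis for a given `t` -/
def TopB (F : Type*) [Field F] (t : ℕ) : Prop :=
  ∀ (Q : QuadraticForm F (Fin t × Fin 2 → F)) (q : QuadraticForm F (Fin 2 → F)) (e f : Fin 2 → F),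
    BP Q q e f → ∀ M : Subgroup (OG Q), HasMO M → ∀ a, InA M a → ¬ IsBlk a →
      SiegF Q q e f M ∨ SiegOut M

/-- chapter C (CONVERT), as a hypothesis for a given `t` -/
def TopC (F : Type*) [Field F] (t : ℕ) : Prop :=
  ∀ (Q : QuadraticForm F (Fin t × Fin 2 → F)) (q : QuadraticForm F (Fin 2 → F)) (e f : Fin 2 → F),
    BP Q q e f → ∀ M : Subgroup (OG Q), HasMO M → SiegOut M → SiegF Q q e f M

/-- chapter D (SPREAD), as a hypothesis for a given `t` -/
def TopD (F : Type*) [Field F] (t : ℕ) : Prop :=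
  ∀ (Q : QuadraticForm F (Fin t × Fin 2 → F)) (q : QuadraticForm F (Fin 2 → F)) (e f : Fin 2 → F),
    BP Q q e f → ∀ M : Subgroup (OG Q), HasMO M → SiegF Q q e f M → S Q ≤ M

/-- **the main dichotomy** from the four chapter tops -/
theorem MAIN.S_le_of {t : ℕ} (hA : TopA F t) (hB : TopB F t) (hC : TopC F t) (hD : TopD F t)
    {Q : QuadraticForm F (Fin t × Fin 2 → F)} {q : QuadraticForm F (Fin 2 → F)} {e f : Fin 2 → F}
    (bp : BP Q q e f) (M : Subgroup (OG Q)) (hM : HasMO M) {g : OG Q} (hg : g ∈ M)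
    (hgN : ¬ StabD Q g) : S Q ≤ M := by
  have hFS : SiegF Q q e f M := by
    rcases hA Q q e f bp M hM g hg hgN with h | ⟨a, ha, hab⟩
    · exact h
    · rcases hB Q q e f bp M hM a ha hab with h | h
      · exact h
      · exact hC Q q e f bp M hM h
  exact hD Q q e f bp M hM hFS

/-- **S5692, `k = 2`, plus blocks** in the block model, from the four chapter tops -/
theorem FINAL.maximal_of (t : ℕ) (hA : TopA F t) (hB : TopB F t) (hC : TopC F t) (hD : TopD F t)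
    (q₀ : (Fin 2 → F) → F) (hq : Cfsg.Geo.IsNondegenerateQuadraticForm q₀)
    (ht : 7 ≤ t) (hplus : Cfsg.Geo.IsPlusTypeOn q₀ ⊤) :
    Cfsg.Geo.IsMaximalIn (Cfsg.Geo.omegaGL (Qblk t q₀))
      (Cfsg.Geo.decompositionStabilizer (Dblk F t 2) ⊓ Cfsg.Geo.omegaGL (Qblk t q₀)) := by
  classical
  have hQ : Cfsg.Geo.IsNondegenerateQuadraticForm (Qblk t q₀) := BLKND.main q₀ hq
  set Q' : QuadraticForm F (Fin t × Fin 2 → F) := Cfsg.Agent.Helper28.NM.ofFun (Qblk t q₀) hQ with hQ'def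
  set q' : QuadraticForm F (Fin 2 → F) := Cfsg.Agent.Helper28.NM.ofFun q₀ hq with hq'def
  have hQ' : (QuadraticMap.polarBilin Q').Nondegenerate := Cfsg.Agent.Helper28.NM.ofFun_nondeg _ hQ
  have hq'nd : (QuadraticMap.polarBilin q').Nondegenerate := Cfsg.Agent.Helper28.NM.ofFun_nondeg _ hq
  obtain ⟨e, f, hqe, hqf, hef⟩ := HYP.exists_pair q' hq'nd hplus
  have bp : BP Q' q' e f := { sum := fun x => rfl, ndQ := hQ', ndq := hq'nd, qe := hqe, qf := hqf, ef := hef }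
  have hcard : Fintype.card (Fin t × Fin 2) = t * 2 := by
    rw [Fintype.card_prod, Fintype.card_fin, Fintype.card_fin]
  obtain ⟨fr⟩ := Cfsg.Agent.Helper28.OM.exists_frame3 hQ' (by rw [hcard]; omega)
  have hΩ : Cfsg.Omega F ⇑Q' = S Q' :=
    Omega_eq_S hQ' fr (Cfsg.Agent.Helper28.OM.hgen_all hQ' (by rw [hcard]; omega))
  show Cfsg.Geo.IsMaximalIn (Cfsg.Geo.omegaGL ⇑Q')
    (Cfsg.Geo.decompositionStabilizer (Dblk F t 2) ⊓ Cfsg.Geo.omegaGL ⇑Q')
  refine ⟨lt_of_le_of_ne inf_le_right ?_, ?_⟩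
  · intro heq
    obtain ⟨g, hgS, hgN⟩ := PROPER.main bp (by omega : 3 ≤ t)
    have h1 : ((g : OG Q') : GL (Fin t × Fin 2) F) ∈
        Cfsg.Geo.decompositionStabilizer (Dblk F t 2) ⊓ Cfsg.Geo.omegaGL ⇑Q' := by
      rw [heq]
      exact (Cfsg.Agent.Helper28.NM.mem_omegaGL_iff Q' _).mpr ⟨g, by rw [hΩ]; exact hgS, rfl⟩
    exact hgN h1.1
  · intro M hHM hMΩ
    by_cases hMH : M ≤ Cfsg.Geo.decompositionStabilizer (Dblk F t 2) ⊓ Cfsg.Geo.omegaGL ⇑Q'
    · left; exact le_antisymm hMH hHM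
    right
    refine le_antisymm hMΩ ?_
    obtain ⟨g, hgM, hgH⟩ := SetLike.not_le_iff_exists.mp hMH
    have hgΩ := hMΩ hgM
    obtain ⟨h, hhΩ, rfl⟩ := (Cfsg.Agent.Helper28.NM.mem_omegaGL_iff Q' g).mp hgΩ
    have hhN : ¬ StabD Q' h := fun hc => hgH ⟨hc, hgΩ⟩
    set M' : Subgroup (OG Q') := M.comap (Cfsg.isometryGroup F ⇑Q').subtype with hM'
    have hM'H : HasMO M' := by
      intro s hs hsN
      show ((s : OG Q') : GL (Fin t × Fin 2) F) ∈ M
      apply hHM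
      exact ⟨hsN, (Cfsg.Agent.Helper28.NM.mem_omegaGL_iff Q' _).mpr ⟨s, hs, rfl⟩⟩
    have hkey := MAIN.S_le_of hA hB hC hD bp M' hM'H (g := h) hgM hhN
    intro x hx
    obtain ⟨y, hyΩ, rfl⟩ := (Cfsg.Agent.Helper28.NM.mem_omegaGL_iff Q' x).mp hx
    rw [hΩ] at hyΩ
    exact hkey hyΩ

/-- a finite field with more than five elements has at least seven -/
theorem FINAL.card_ge7 (h2 : Fintype.card F ≠ 2) (h3 : Fintype.card F ≠ 3)
    (h4 : Fintype.card F ≠ 4) (h5 : Fintype.card F ≠ 5) : 7 ≤ Fintype.card F := by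
  have h1 : 1 < Fintype.card F := Fintype.one_lt_card
  have hpp : IsPrimePow (Fintype.card F) := FiniteField.isPrimePow_card F
  have h6 : Fintype.card F ≠ 6 := by
    intro h
    rw [h] at hpp
    revert hpp
    rw [isPrimePow_nat_iff_bounded]
    decide
  omega

/-- the interface `S5692P.K2PHyp F` from the four chapter tops (for all `t ≥ 7`, under `7 ≤ |F|`) -/
theorem FINAL.K2PHyp_of
    (hA : 7 ≤ Fintype.card F → ∀ t, 7 ≤ t → TopA F t) (hB : 7 ≤ Fintype.card F → ∀ t, 7 ≤ t → TopB F t)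
    (hC : 7 ≤ Fintype.card F → ∀ t, 7 ≤ t → TopC F t) (hD : 7 ≤ Fintype.card F → ∀ t, 7 ≤ t → TopD F t) :
    Cfsg.Agent.S5692P.K2PHyp F := by
  intro t q₀ hq ht hplus h2 h3 h4 h5
  have hF := FINAL.card_ge7 h2 h3 h4 h5
  exact FINAL.maximal_of t (hA hF t ht) (hB hF t ht) (hC hF t ht) (hD hF t ht) q₀ hq ht hplus

end Cfsg.Agent.K2P
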