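import Mathlib
import Cfsg.Prelude.Def_CaseTheorems
import Cfsg.Agent.Helper18.QD

set_option autoImplicit false
set_option linter.unusedSectionVars false

/-!
# S5287 piece QDU: quasi-dihedral groups of equal order are isomorphic.
-/

namespace Cfsg.Agent.Helper14.MSup

open Cfsg Subgroup Cfsg.Agent.Helper18.QD

section
variable {A B : Type*} [Group A] [Group B] [Finite A] [Finite B]

theorem elim_injective (D : QDData A) : Function.Injective (Sum.elim D.r D.sr) := by
  rintro (a | a) (b | b) hab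
  · exact congrArg _ (D.r_inj.mp hab)
  · exact absurd hab (D.r_ne_sr a b)
  · exact absurd hab.symm (D.r_ne_sr b a)
  · exact congrArg _ (D.sr_inj.mp hab)

theorem elim_surjective (D : QDData A) : Function.Surjective (Sum.elim D.r D.sr) := by
  intro s
  rcases D.exists_rep s with ⟨i, rfl⟩ | ⟨i, rfl⟩
  · exact ⟨Sum.inl i, rfl⟩
  · exact ⟨Sum.inr i, rfl⟩

/-- the normal-form coordinates -/
noncomputable def coord (D : QDData A) : ZMod (2 ^ D.n) ⊕ ZMod (2 ^ D.n) ≃ A :=
  Equiv.ofBijective (Sum.elim D.r D.sr) ⟨elim_injective D, elim_surjective D⟩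

theorem coord_inl (D : QDData A) (i : ZMod (2 ^ D.n)) : coord D (Sum.inl i) = D.r i := rfl
theorem coord_inr (D : QDData A) (i : ZMod (2 ^ D.n)) : coord D (Sum.inr i) = D.sr i := rfl

theorem coord_symm_r (D : QDData A) (i : ZMod (2 ^ D.n)) : (coord D).symm (D.r i) = Sum.inl i := by
  rw [← coord_inl, Equiv.symm_apply_apply]

theorem coord_symm_sr (D : QDData A) (i : ZMod (2 ^ D.n)) :
    (coord D).symm (D.sr i) = Sum.inr i := by
  rw [← coord_inr, Equiv.symm_apply_apply]

variable (D : QDData A) (E : QDData B) (hn : D.n = E.n)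

/-- index transport -/
def cc : ZMod (2 ^ D.n) ≃+* ZMod (2 ^ E.n) := ZMod.ringEquivCongr (by rw [hn])

theorem cc_k : cc D E hn D.k = E.k := by
  unfold QDData.k hh
  rw [map_sub, map_pow, map_one, map_ofNat, hn]

/-- the map `A → B` in normal form -/
noncomputable def phi : A → B := fun s =>
  Sum.elim (fun i => E.r (cc D E hn i)) (fun i => E.sr (cc D E hn i)) ((coord D).symm s)

theorem phi_r (i : ZMod (2 ^ D.n)) : phi D E hn (D.r i) = E.r (cc D E hn i) := by
  unfold phi; rw [coord_symm_r]; rfl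

theorem phi_sr (i : ZMod (2 ^ D.n)) : phi D E hn (D.sr i) = E.sr (cc D E hn i) := by
  unfold phi; rw [coord_symm_sr]; rfl

theorem phi_mul (s t : A) : phi D E hn (s * t) = phi D E hn s * phi D E hn t := by
  rcases D.exists_rep s with ⟨i, rfl⟩ | ⟨i, rfl⟩ <;> rcases D.exists_rep t with ⟨j, rfl⟩ | ⟨j, rfl⟩
  · rw [← D.r_add, phi_r, phi_r, phi_r, map_add, E.r_add]
  · rw [D.r_mul_sr, phi_r, phi_sr, phi_sr, map_add, E.r_mul_sr]
  · rw [D.sr_mul_r, phi_r, phi_sr, phi_sr, map_add, map_mul, cc_k, E.sr_mul_r]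
  · rw [D.sr_mul_sr, phi_r, phi_sr, phi_sr, map_add, map_mul, cc_k, E.sr_mul_sr]

theorem phi_injective : Function.Injective (phi D E hn) := by
  intro s t h
  rcases D.exists_rep s with ⟨i, rfl⟩ | ⟨i, rfl⟩ <;> rcases D.exists_rep t with ⟨j, rfl⟩ | ⟨j, rfl⟩
  · rw [phi_r, phi_r, E.r_inj] at h
    rw [(cc D E hn).injective h]
  · rw [phi_r, phi_sr] at h
    exact absurd h (E.r_ne_sr _ _)
  · rw [phi_r, phi_sr] at h
    exact absurd h.symm (E.r_ne_sr _ _)
  · rw [phi_sr, phi_sr, E.sr_inj] at h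
    rw [(cc D E hn).injective h]

include D E hn in
theorem iso_of_data : Nonempty (A ≃* B) := by
  have hcard : Nat.card B ≤ Nat.card A := by rw [D.card, E.card, hn]
  have hbij : Function.Bijective (phi D E hn) :=
    (phi_injective D E hn).bijective_of_nat_card_le hcard
  exact ⟨MulEquiv.ofBijective (MonoidHom.mk' (phi D E hn) (phi_mul D E hn)) hbij⟩

end

/-- **S5287 piece QDU**: quasi-dihedral groups of equal order are isomorphic. -/
theorem QDU {A B : Type*} [Group A] [Group B] [Finite A] [Finite B]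
    (hA : Cfsg.IsQuasiDihedral A) (hB : Cfsg.IsQuasiDihedral B) (h : Nat.card A = Nat.card B) :
    Nonempty (A ≃* B) := by
  obtain ⟨D⟩ := exists_qdData hA
  obtain ⟨E⟩ := exists_qdData hB
  have hn : D.n = E.n := by
    have h1 := D.card
    have h2 := E.card
    rw [h, h2] at h1
    have h3 := Nat.pow_right_injective (le_refl 2) h1
    omega
  exact iso_of_data D E hn

end Cfsg.Agent.Helper14.MSup
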