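import Cfsg.Agent.Helper14.MinimalOver2
import Cfsg.Agent.Helper14.Irreducible4
import Cfsg.Agent.Helper14.PReduced3
import Cfsg.Agent.Lead.SylowNumber3
import Cfsg.Agent.Lead.Carter0

set_option autoImplicit false
set_option linter.unusedSectionVars false
set_option linter.style.haveILetI false

namespace Cfsg.Agent.Helper14

open Cfsg

section MinimalOverC

variable {L : Type*} [Group L] [Finite L] {p : ℕ} [Fact p.Prime]

/-- Data extracted from `Y`-minimality with `Y ≤ P ≤ L₀`. -/
structure YMinData (p : ℕ) [Fact p.Prime] (L₀ Y : Subgroup L) (P : Sylow p L) : Prop where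
  coatom : IsCoatom L₀
  hYP : Y ≤ (P : Subgroup L)
  hPL : (P : Subgroup L) ≤ L₀
  hU : ∀ X : Subgroup L, Y ≤ X → X ≠ ⊤ → X ≤ L₀
  hV : ∀ X : Subgroup L, X.Normal → Y ≤ X → X = ⊤

theorem exists_yMinData (L₀ : Subgroup L) (hL₀ : IsCoatom L₀) (T : Sylow p ↥L₀)
    (Y : Subgroup L) (hYT : Y ≤ (T : Subgroup ↥L₀).map L₀.subtype) (hmin : IsMinimalOver Y) :
    ∃ P : Sylow p L, YMinData p L₀ Y P := by
  obtain ⟨-, -, ⟨P, hP⟩, -, -, -⟩ := minimalOver_maximal_structure L₀ hL₀ T Y hYT hmin
  have hTTL : (T : Subgroup ↥L₀).map L₀.subtype ≤ L₀ := map_subtype_le _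
  have hYL : Y ≤ L₀ := hYT.trans hTTL
  obtain ⟨hnc, M, ⟨hM, hYM⟩, huniq⟩ := hmin
  have hML : M = L₀ := (huniq L₀ ⟨hL₀, hYL⟩).symm
  refine ⟨P, hL₀, hP ▸ hYT, hP ▸ hTTL, ?_, ?_⟩
  · intro X hYX hX
    obtain ⟨M1, hM1, hle⟩ := exists_coatom_ge_of_ne_top hX
    have := huniq M1 ⟨hM1, hYX.trans hle⟩
    rw [this, hML] at hle
    exact hle
  · intro X hX hYX
    rw [eq_top_iff, ← hnc]
    exact Subgroup.normalClosure_le_normal hYX

namespace YMinData

variable {L₀ Y : Subgroup L} {P : Sylow p L} (h : YMinData p L₀ Y P)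

include h

theorem normal_inf (N : Subgroup L) [hN : N.Normal] (hNL : N ≤ L₀) :
    ((P : Subgroup L) ⊓ N).Normal := by
  have hS := sylow_inf_normal_isSylowIn P N
  have hfr := Sylow.normalizer_sup_eq_top hS.toSylow
  rw [hS.toSylow_map] at hfr
  have hPn : (P : Subgroup L) ≤ Subgroup.normalizer (((P : Subgroup L) ⊓ N : Subgroup L) : Set L) :=
    le_normalizer_inf Subgroup.le_normalizer
      (by rw [Subgroup.normalizer_eq_top_iff.2 hN]; exact le_top)
  rw [← Subgroup.normalizer_eq_top_iff]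
  by_contra hne
  have h1 := h.hU _ (h.hYP.trans hPn) hne
  have h2 : (⊤ : Subgroup L) ≤ L₀ := by
    rw [← hfr]; exact sup_le h1 hNL
  exact h.coatom.1 (top_le_iff.1 h2)

theorem isPClosed (N : Subgroup L) [hN : N.Normal] (hNL : N ≤ L₀) : IsPClosed p ↥N :=
  (isPClosed_normal_iff P N).2 (h.normal_inf N hNL)

theorem pCore_inf (N : Subgroup L) [hN : N.Normal] (hNL : N ≤ L₀) :
    pCore p L ⊓ N = (P : Subgroup L) ⊓ N := by
  apply le_antisymm
  · exact inf_le_inf_right _ (pCore_le_sylow p P)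
  · refine le_inf ?_ inf_le_right
    exact le_pCore p (h.normal_inf N hNL) (P.isPGroup'.to_le inf_le_left)

theorem pCore_subgroup (N : Subgroup L) [hN : N.Normal] (hNL : N ≤ L₀) :
    pCore p ↥N = ((P : Subgroup L) ⊓ N).subgroupOf N := by
  have hS := sylow_inf_normal_isSylowIn P N
  haveI := h.normal_inf N hNL
  apply le_antisymm
  · exact pCore_le_sylow p hS.toSylow
  · apply le_pCore p
    · infer_instance
    · exact hS.toSylow.isPGroup'

theorem coprime_card_quotient (N : Subgroup L) [hN : N.Normal] (hNL : N ≤ L₀) :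
    (Nat.card (↥N ⧸ pCore p ↥N)).Coprime p := by
  have hp : p.Prime := Fact.out
  have hS := sylow_inf_normal_isSylowIn P N
  have h1 : Nat.card (↥N ⧸ pCore p ↥N) = (pCore p ↥N).index := rfl
  have h2 : (pCore p ↥N).index = (hS.toSylow : Subgroup ↥N).index := by
    rw [h.pCore_subgroup N hNL]; rfl
  rw [h1, h2]
  exact ((Nat.Prime.coprime_iff_not_dvd hp).2 hS.toSylow.not_dvd_index).symm

theorem pCore_le_normalCore : pCore p L ≤ L₀.normalCore :=
  (Subgroup.normal_le_normalCore).2 ((pCore_le_sylow p P).trans h.hPL)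

/-- the core of `L₀` lies in every maximal subgroup containing `O_p(L)` -/
theorem normalCore_le_coatom (X : Subgroup L) (hX : IsCoatom X) (hOX : pCore p L ≤ X) :
    L₀.normalCore ≤ X := by
  have hp : p.Prime := Fact.out
  set D := L₀.normalCore with hD
  have hDL : D ≤ L₀ := Subgroup.normalCore_le L₀
  by_contra hDX
  have hsup : X ⊔ D = ⊤ := by
    apply hX.2
    exact lt_of_le_of_ne le_sup_left (fun e => hDX (by rw [e]; exact le_sup_right))
  -- index computation
  have hidx : X.index = X.relIndex D := by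
    have := Lead.relIndex_sup_of_le_normalizer X D
      (by rw [Subgroup.normalizer_eq_top_iff.2 (inferInstance : D.Normal)]; exact le_top)
    rw [hsup, Subgroup.relIndex_top_right] at this
    exact this
  have hS := sylow_inf_normal_isSylowIn P D
  have hOD : pCore p L ≤ D := h.pCore_le_normalCore
  have hdvd : X.relIndex D ∣ ((P : Subgroup L) ⊓ D).relIndex D := by
    rw [← Subgroup.inf_relIndex_right X D]
    apply Subgroup.relIndex_dvd_of_le_left
    rw [← h.pCore_inf D hDL]
    exact le_inf (inf_le_left.trans hOX) inf_le_right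
  have hnd : ¬ p ∣ X.index := by
    intro hpd
    rw [hidx] at hpd
    have := hS.toSylow.not_dvd_index
    exact this (hpd.trans hdvd)
  -- X contains a Sylow p-subgroup of L
  obtain ⟨PX⟩ : Nonempty (Sylow p ↥X) := inferInstance
  have hP'p : IsPGroup p ↥((PX : Subgroup ↥X).map X.subtype) := PX.isPGroup'.map _
  have hP'i : ¬ p ∣ ((PX : Subgroup ↥X).map X.subtype).index := by
    rw [Subgroup.index_map_subtype]
    intro hd
    rcases (Nat.Prime.dvd_mul hp).1 hd with hd | hd
    · exact PX.not_dvd_index hd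
    · exact hnd hd
  obtain ⟨g, hg⟩ := MulAction.exists_smul_eq L P (hP'p.toSylow hP'i)
  have hYg : ∀ y ∈ Y, g * y * g⁻¹ ∈ X := by
    intro y hy
    have h1 : g * y * g⁻¹ ∈ (g • P : Sylow p L) := by
      rw [mem_sylow_smul]
      have : g⁻¹ * (g * y * g⁻¹) * g = y := by group
      rw [this]; exact h.hYP hy
    rw [hg] at h1
    have h2 : g * y * g⁻¹ ∈ (PX : Subgroup ↥X).map X.subtype := h1
    exact map_subtype_le _ h2
  have hYX' : Y ≤ X.map (cj g⁻¹) := by
    intro y hy
    rw [mem_map_cj, inv_inv]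
    exact hYg y hy
  have hX'top : X.map (cj g⁻¹) ≠ ⊤ := by
    intro e
    apply hX.1
    have := congrArg (Subgroup.map (cj g)) e
    rw [map_cj_inv_map_cj] at this
    rw [this, ← MonoidHom.range_eq_map, MonoidHom.range_eq_top]
    exact (MulAut.conj g).surjective
  have hX'L : X.map (cj g⁻¹) ≤ L₀ := h.hU _ hYX' hX'top
  have hXL : X ≤ L₀.map (cj g) := by
    have := (map_cj_le_iff X L₀ g⁻¹).1 hX'L
    rwa [inv_inv] at this
  have hLg : L₀.map (cj g) ≠ ⊤ := by
    intro e
    apply h.coatom.1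
    have := congrArg (Subgroup.map (cj g⁻¹)) e
    rw [map_cj_map_cj_inv] at this
    rw [this, ← MonoidHom.range_eq_map, MonoidHom.range_eq_top]
    exact (MulAut.conj g⁻¹).surjective
  have hXeq : X = L₀.map (cj g) := by
    by_contra hne
    exact hLg (hX.2 _ (lt_of_le_of_ne hXL hne))
  apply hDX
  rw [hXeq]
  have hDg : D.map (cj g) = D :=
    mem_normalizer_iff_map_cj.1
      (by rw [Subgroup.normalizer_eq_top_iff.2 (inferInstance : D.Normal)]; trivial)
  rw [← hDg]
  exact Subgroup.map_mono hDL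

end YMinData

end MinimalOverC

end Cfsg.Agent.Helper14
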