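import Cfsg.Agent.Helper14.MinimalOver2
import Cfsg.Agent.Helper14.Frattini
import Cfsg.Agent.Helper1.PGroup

set_option autoImplicit false
set_option linter.unusedSectionVars false
set_option linter.style.haveILetI false

namespace Cfsg.Agent.Helper14

open Cfsg

open scoped commutatorElement

section MinimalOverE

variable {L : Type*} [Group L]

theorem normal_of_le_center' (C : Subgroup L) (hC : C ≤ Subgroup.center L) : C.Normal := ⟨by
  intro c hc g
  have h1 : g * c = c * g := (Subgroup.mem_center_iff.1 (hC hc) g)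
  have : g * c * g⁻¹ = c := by rw [h1]; group
  rw [this]; exact hc⟩

/-- If `Y₀`, `Y₁` are abelian subgroups whose commutator is central, then
`(Y₀ ⊔ Y₁)' ≤ [Y₀, Y₁]`. -/
theorem commutator_sup_le_of_central (Y₀ Y₁ : Subgroup L) (h0 : ⁅Y₀, Y₀⁆ = ⊥)
    (h1 : ⁅Y₁, Y₁⁆ = ⊥) (hc : ⁅Y₀, Y₁⁆ ≤ Subgroup.center L) :
    ⁅Y₀ ⊔ Y₁, Y₀ ⊔ Y₁⁆ ≤ ⁅Y₀, Y₁⁆ := by
  set C := ⁅Y₀, Y₁⁆ with hCdef
  haveI : C.Normal := normal_of_le_center' C hc
  have key : ∀ U V : Subgroup L, ⁅U, V⁆ ≤ C →
      U.map (QuotientGroup.mk' C) ≤ Subgroup.centralizer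
        ((V.map (QuotientGroup.mk' C) : Subgroup (L ⧸ C)) : Set (L ⧸ C)) := by
    intro U V hUV
    rw [← Subgroup.commutator_eq_bot_iff_le_centralizer, ← Subgroup.map_commutator,
      Subgroup.map_eq_bot_iff, QuotientGroup.ker_mk']
    exact hUV
  have h00 := key Y₀ Y₀ (by rw [h0]; exact bot_le)
  have h11 := key Y₁ Y₁ (by rw [h1]; exact bot_le)
  have h01 := key Y₀ Y₁ le_rfl
  have h10 := key Y₁ Y₀ (by rw [Subgroup.commutator_comm])
  have hfin : (⁅Y₀ ⊔ Y₁, Y₀ ⊔ Y₁⁆).map (QuotientGroup.mk' C) = ⊥ := by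
    rw [Subgroup.map_commutator, Subgroup.commutator_eq_bot_iff_le_centralizer, Subgroup.map_sup]
    refine sup_le ?_ ?_
    · rw [Subgroup.le_centralizer_iff]
      exact sup_le (Subgroup.le_centralizer_iff.1 h00) (Subgroup.le_centralizer_iff.1 h01)
    · rw [Subgroup.le_centralizer_iff]
      exact sup_le (Subgroup.le_centralizer_iff.1 h10) (Subgroup.le_centralizer_iff.1 h11)
  rw [Subgroup.map_eq_bot_iff, QuotientGroup.ker_mk'] at hfin
  exact hfin

/-- A group generated by two subgroups of exponent `p` has Frattini subgroup inside its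
commutator subgroup. -/
theorem frattini_le_commutator_of_gen [Finite L] {p : ℕ} [Fact p.Prime] (A Y₀ Y₁ : Subgroup L)
    (hA : A = Y₀ ⊔ Y₁) (e0 : ∀ y ∈ Y₀, y ^ p = 1) (e1 : ∀ y ∈ Y₁, y ^ p = 1) :
    (frattini ↥A).map A.subtype ≤ ⁅A, A⁆ := by
  have h0A : Y₀ ≤ A := hA ▸ le_sup_left
  have h1A : Y₁ ≤ A := hA ▸ le_sup_right
  rw [← Subgroup.map_subtype_commutator]
  apply Subgroup.map_mono
  apply frattini_le_of_elemAb p
  · intro a b
    rw [commutator_def]
    exact Subgroup.commutator_mem_commutator (Subgroup.mem_top a) (Subgroup.mem_top b)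
  · set E : Subgroup ↥A :=
      ((powMonoidHom p : Abelianization ↥A →* Abelianization ↥A).comp Abelianization.of).ker
      with hE
    have hmemE : ∀ a : ↥A, a ∈ E ↔ a ^ p ∈ commutator ↥A := by
      intro a
      rw [hE, MonoidHom.mem_ker, MonoidHom.comp_apply, powMonoidHom_apply, ← map_pow,
        ← MonoidHom.mem_ker, Abelianization.ker_of]
    have hYE : ∀ Y' : Subgroup L, (∀ y ∈ Y', y ^ p = 1) → Y'.subgroupOf A ≤ E := by
      intro Y' hY' a ha
      rw [hmemE]
      have : a ^ p = 1 := by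
        apply Subtype.ext
        have := hY' a.1 (Subgroup.mem_subgroupOf.1 ha)
        simpa using this
      rw [this]; exact Subgroup.one_mem _
    have htop : E = ⊤ := by
      rw [eq_top_iff]
      have : (Y₀ ⊔ Y₁).subgroupOf A = ⊤ := by
        rw [← hA]; exact Subgroup.subgroupOf_self A
      rw [← this, Subgroup.subgroupOf_sup h0A h1A]
      exact sup_le (hYE Y₀ e0) (hYE Y₁ e1)
    intro a
    rw [← hmemE, htop]
    trivial

end MinimalOverE

end Cfsg.Agent.Helper14
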