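import Cfsg.Agent.Helper14.MinimalOver5

set_option autoImplicit false
set_option linter.unusedSectionVars false
set_option linter.style.haveILetI false

namespace Cfsg.Agent.Helper14

open Cfsg

open scoped commutatorElement

section MinimalOverF

variable {L : Type*} [Group L] [Finite L]

theorem le_normalizer_sup_aux (Y Y₀ Y₁ : Subgroup L) (hY₀Y : Y₀ ≤ Y)
    (hcomm : ∀ a ∈ Y, ∀ b ∈ Y, a * b = b * a) (h : ⁅Y, Y₁⁆ ≤ Y₀) :
    Y ≤ Subgroup.normalizer ((Y₀ ⊔ Y₁ : Subgroup L) : Set L) := by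
  apply le_normalizer_of_map_cj_le
  intro y hy
  rw [Subgroup.map_sup]
  refine sup_le ?_ ?_
  · rintro _ ⟨y₀, hy₀, rfl⟩
    rw [cj_apply]
    have : y * y₀ * y⁻¹ = y₀ := by
      rw [hcomm y hy y₀ (hY₀Y hy₀)]; group
    rw [this]
    exact (le_sup_left : Y₀ ≤ Y₀ ⊔ Y₁) hy₀
  · rintro _ ⟨y₁, hy₁, rfl⟩
    rw [cj_apply]
    have e : y * y₁ * y⁻¹ = ⁅y, y₁⁆ * y₁ := by
      rw [commutatorElement_def]; group
    rw [e]
    exact Subgroup.mul_mem _
      ((le_sup_left : Y₀ ≤ Y₀ ⊔ Y₁) (h (Subgroup.commutator_mem_commutator hy hy₁)))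
      ((le_sup_right : Y₁ ≤ Y₀ ⊔ Y₁) hy₁)

variable {p : ℕ} [Fact p.Prime]

/-- S2837 -/
theorem minimalOver_charP_commutators
    (hchar : Subgroup.centralizer (pCore p L : Set L) ≤ pCore p L) (L₀ : Subgroup L)
    (hL₀ : IsCoatom L₀) (Y : Subgroup L) (hYL₀ : Y ≤ L₀) (hYel : IsElementaryAbelian p Y)
    (hmin : IsMinimalOver Y) (hOY : pCore p L ≤ Subgroup.normalizer (Y : Set L))
    (A : Subgroup L)
    (hA : A = Subgroup.normalClosure (((pCore p L ⊓ Y : Subgroup L)) : Set L)) (g : L)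
    (hg : g ∉ L₀) :
    (frattini ↥A).map A.subtype = ⁅A, A⁆ ∧ ⁅A, A⁆ = ⁅A ⊓ Y, A⁆ ∧
    ⁅A ⊓ Y, A⁆ = ⁅A ⊓ Y, A ⊓ Y.map (MulAut.conj g).toMonoidHom⁆ ∧
    ⁅A ⊓ Y, A⁆ ≤ Y ⊓ Subgroup.center L ∧
    Y ⊓ Y.map (MulAut.conj g).toMonoidHom = Y ⊓ Subgroup.center L ∧
    (A ⊓ Y) ⊓ (A ⊓ Y.map (MulAut.conj g).toMonoidHom) = Y ⊓ Subgroup.center L ∧
    A ⊓ Subgroup.center L = Y ⊓ Subgroup.center L := by
  set Q := pCore p L with hQ
  haveI hQn : Q.Normal := pCore_normal p
  have hYab : IsMulCommutative ↥Y := hYel.1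
  have hYcomm : ∀ a ∈ Y, ∀ b ∈ Y, a * b = b * a := by
    intro a ha b hb
    have := hYab.is_comm.comm ⟨a, ha⟩ ⟨b, hb⟩
    exact congrArg Subtype.val this
  have hYp : IsPGroup p ↥Y := by
    intro y
    refine ⟨1, ?_⟩
    apply Subtype.ext
    have := hYel.2 y.1 y.2
    simpa using this
  obtain ⟨T, hT⟩ := (hYp.comap_subtype (K := L₀)).exists_le_sylow
  have hYT : Y ≤ (T : Subgroup ↥L₀).map L₀.subtype := by
    intro y hy
    exact ⟨⟨y, hYL₀ hy⟩, hT (Subgroup.mem_subgroupOf.2 hy), rfl⟩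
  obtain ⟨-, -, -, -, h5, h6⟩ := minimalOver_maximal_structure L₀ hL₀ T Y hYT hmin
  have hgen := h5 g hg
  have hint := h6 hYab g hg
  set Yg : Subgroup L := Y.map (MulAut.conj g).toMonoidHom with hYg
  have hYgdef : Yg = Y.map (cj g) := rfl
  have hYgcomm : ∀ a ∈ Yg, ∀ b ∈ Yg, a * b = b * a := by
    rintro _ ⟨a, ha, rfl⟩ _ ⟨b, hb, rfl⟩
    rw [← map_mul, ← map_mul, hYcomm a ha b hb]
  set Y₀ := Q ⊓ Y with hY₀
  set Y₁ := Q ⊓ Yg with hY₁
  have hQg : Q.map (cj g) = Q :=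
    mem_normalizer_iff_map_cj.1 (by rw [Subgroup.normalizer_eq_top_iff.2 hQn]; trivial)
  have hY₁map : Y₁ = Y₀.map (cj g) := by
    rw [hY₀, map_cj_inf, hQg]
  have hOYg : Q ≤ Subgroup.normalizer (Yg : Set L) := by
    rw [hYgdef, ← map_cj_normalizer, ← hQg]
    exact Subgroup.map_mono hOY
  have F1 : ⁅Q, Y⁆ ≤ Y₀ :=
    le_inf (Subgroup.commutator_le_left Q Y) (Subgroup.le_normalizer_iff_commutator_le_right.1 hOY)
  have F1' : ⁅Q, Yg⁆ ≤ Y₁ :=
    le_inf (Subgroup.commutator_le_left Q Yg)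
      (Subgroup.le_normalizer_iff_commutator_le_right.1 hOYg)
  have hAn : A.Normal := hA ▸ Subgroup.normalClosure_normal
  have F2 : A ≤ Q := by
    rw [hA]; exact Subgroup.normalClosure_le_normal inf_le_left
  have hY₀A : Y₀ ≤ A := by
    rw [hA]; exact Subgroup.subset_normalClosure
  have hAg : A.map (cj g) = A :=
    mem_normalizer_iff_map_cj.1 (by rw [Subgroup.normalizer_eq_top_iff.2 hAn]; trivial)
  have hY₁A : Y₁ ≤ A := by
    rw [hY₁map, ← hAg]; exact Subgroup.map_mono hY₀A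
  have F3 : A ⊓ Y = Y₀ :=
    le_antisymm (inf_le_inf_right _ F2) (le_inf hY₀A inf_le_right)
  have F3' : A ⊓ Yg = Y₁ :=
    le_antisymm (inf_le_inf_right _ F2) (le_inf hY₁A inf_le_right)
  have F4 : ⁅Y₀, Y₁⁆ ≤ Y₀ ⊓ Y₁ := by
    refine le_inf ?_ ?_
    · refine le_trans (Subgroup.commutator_mono inf_le_right inf_le_left) ?_
      rw [Subgroup.commutator_comm]; exact F1
    · exact le_trans (Subgroup.commutator_mono inf_le_left inf_le_right) F1'
  have F5 : Y₀ ⊓ Y₁ ≤ Y ⊓ Subgroup.center L := by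
    rw [← hint]; exact inf_le_inf inf_le_right inf_le_right
  have F6 : ⁅Y₀, Y₁⁆ ≤ Subgroup.center L := (F4.trans F5).trans inf_le_right
  have habY : ⁅Y, Y⁆ = ⊥ := by
    rw [Subgroup.commutator_eq_bot_iff_le_centralizer]
    intro a ha
    rw [Subgroup.mem_centralizer_iff]
    intro b hb
    exact hYcomm b hb a ha
  have habY₀ : ⁅Y₀, Y₀⁆ = ⊥ := by
    rw [eq_bot_iff, ← habY]; exact Subgroup.commutator_mono inf_le_right inf_le_right
  have habY₁ : ⁅Y₁, Y₁⁆ = ⊥ := by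
    rw [hY₁map, ← Subgroup.map_commutator, habY₀, Subgroup.map_bot]
  -- B = Y₀ ⊔ Y₁ is normal
  have hYB : Y ≤ Subgroup.normalizer ((Y₀ ⊔ Y₁ : Subgroup L) : Set L) :=
    le_normalizer_sup_aux Y Y₀ Y₁ inf_le_right hYcomm
      (by
        refine le_trans (Subgroup.commutator_mono le_rfl inf_le_left) ?_
        rw [Subgroup.commutator_comm]; exact F1)
  have hYgB : Yg ≤ Subgroup.normalizer ((Y₀ ⊔ Y₁ : Subgroup L) : Set L) := by
    rw [sup_comm]
    exact le_normalizer_sup_aux Yg Y₁ Y₀ inf_le_right hYgcomm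
      (by
        refine le_trans (Subgroup.commutator_mono le_rfl inf_le_left) ?_
        rw [Subgroup.commutator_comm]; exact F1')
  have hBn : (Y₀ ⊔ Y₁).Normal := by
    rw [← Subgroup.normalizer_eq_top_iff, eq_top_iff, ← hgen]
    exact sup_le hYB hYgB
  have hAB : A = Y₀ ⊔ Y₁ := by
    apply le_antisymm
    · rw [hA]
      exact Subgroup.normalClosure_le_normal (N := Y₀ ⊔ Y₁)
        (SetLike.coe_subset_coe.2 (le_sup_left : Y₀ ≤ Y₀ ⊔ Y₁))
    · exact sup_le hY₀A hY₁A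
  -- commutators
  have F8 : ⁅A, A⁆ ≤ ⁅Y₀, Y₁⁆ := by
    rw [hAB]; exact commutator_sup_le_of_central Y₀ Y₁ habY₀ habY₁ F6
  have F8a : ⁅Y₀, Y₁⁆ ≤ ⁅Y₀, A⁆ := Subgroup.commutator_mono le_rfl hY₁A
  have F8b : ⁅Y₀, A⁆ ≤ ⁅A, A⁆ := Subgroup.commutator_mono hY₀A le_rfl
  have e1 : ⁅A, A⁆ = ⁅Y₀, A⁆ := le_antisymm (F8.trans F8a) F8b
  have e2 : ⁅Y₀, A⁆ = ⁅Y₀, Y₁⁆ := le_antisymm (F8b.trans F8) F8a
  -- Z₀
  have hZQ : Y ⊓ Subgroup.center L ≤ Q :=
    inf_le_right.trans ((Subgroup.center_le_centralizer _).trans hchar)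
  have hZ₀ : Y ⊓ Subgroup.center L ≤ Y₀ ⊓ Y₁ := by
    refine le_inf (le_inf hZQ inf_le_left) (le_inf hZQ ?_)
    rw [← hint]; exact inf_le_right
  have hAp : IsPGroup p ↥A := (pCore_isPGroup p).to_le F2
  refine ⟨?_, ?_, ?_, ?_, hint, ?_, ?_⟩
  · apply le_antisymm
    · exact frattini_le_commutator_of_gen (p := p) A Y₀ Y₁ hAB
        (fun y hy => hYel.2 y hy.2)
        (by
          rintro y ⟨-, ⟨x, hx, rfl⟩⟩
          rw [← map_pow, hYel.2 x hx, map_one])
    · rw [← Subgroup.map_subtype_commutator]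
      exact Subgroup.map_mono (Helper1.IsPGroup.commutator_le_frattini hAp)
  · rw [F3]; exact e1
  · rw [F3, F3']; exact e2
  · rw [F3, e2]; exact F4.trans F5
  · rw [F3, F3']; exact le_antisymm F5 hZ₀
  · apply le_antisymm
    · intro a ⟨haA, haZ⟩
      refine ⟨?_, haZ⟩
      rw [hAB] at haA
      have hnorm : Y₁ ≤ Subgroup.normalizer (Y₀ : Set L) :=
        Subgroup.le_normalizer_iff_commutator_le_left.2 (F4.trans inf_le_left)
      have hmem : a ∈ ((Y₀ ⊔ Y₁ : Subgroup L) : Set L) := haA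
      rw [Subgroup.coe_mul_of_right_le_normalizer_left Y₀ Y₁ hnorm, Set.mem_mul] at hmem
      obtain ⟨y₀, hy₀, y₁, hy₁, rfl⟩ := hmem
      have hy₀Y : y₀ ∈ Y := hy₀.2
      have hy₁Yg : y₁ ∈ Yg := hy₁.2
      have hac : ∀ x : L, x * (y₀ * y₁) = (y₀ * y₁) * x := Subgroup.mem_center_iff.1 haZ
      -- y₁ commutes with Y and Yg
      have hcent : (⊤ : Subgroup L) ≤ Subgroup.centralizer ({y₁} : Set L) := by
        rw [← hgen]
        refine sup_le ?_ ?_
        · intro y hy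
          rw [Subgroup.mem_centralizer_iff]
          intro z hz
          rw [Set.mem_singleton_iff] at hz
          subst hz
          have h1 := hac y
          have h2 := hYcomm y hy y₀ hy₀Y
          have : y₀ * (y * z) = y₀ * (z * y) := by
            calc y₀ * (y * z) = (y₀ * y) * z := by group
              _ = (y * y₀) * z := by rw [h2]
              _ = y * (y₀ * z) := by group
              _ = y₀ * z * y := h1
              _ = y₀ * (z * y) := by group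
          exact (mul_left_cancel this).symm
        · intro y hy
          rw [Subgroup.mem_centralizer_iff]
          intro z hz
          rw [Set.mem_singleton_iff] at hz
          subst hz
          exact hYgcomm z hy₁Yg y hy
      have hy₁Z : y₁ ∈ Subgroup.center L := by
        rw [Subgroup.mem_center_iff]
        intro x
        have := hcent (Subgroup.mem_top x)
        rw [Subgroup.mem_centralizer_iff] at this
        exact (this y₁ (Set.mem_singleton _)).symm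
      have hy₁Y : y₁ ∈ Y := by
        obtain ⟨x, hx, hxe⟩ := hy₁Yg
        have hxe' : g * x * g⁻¹ = y₁ := hxe
        have : x = y₁ := by
          have h1 := Subgroup.mem_center_iff.1 hy₁Z g
          calc x = g⁻¹ * (g * x * g⁻¹) * g := by group
            _ = g⁻¹ * y₁ * g := by rw [hxe']
            _ = g⁻¹ * (y₁ * g) := by group
            _ = g⁻¹ * (g * y₁) := by rw [h1]
            _ = y₁ := by group
        rw [← this]; exact hx
      exact Y.mul_mem hy₀Y hy₁Y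
    · exact le_inf ((hZ₀.trans inf_le_left).trans hY₀A) inf_le_right

end MinimalOverF

end Cfsg.Agent.Helper14
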