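import Cfsg.Agent.Helper14.PReduced4

set_option autoImplicit false
set_option linter.unusedSectionVars false

namespace Cfsg.Agent.Helper14

open Cfsg

variable {G : Type*} [Group G] [Finite G] {p : ℕ} [Fact p.Prime]

/-- Averaging (transfer) over a Sylow subgroup: if `T ≤ K` has `p'`-index, `V` is an elementary
abelian `p`-group normalized by `K`, `v ∈ C_V(T)` and all commutators `[k, v]` lie in `W ≤ V`,
then `v ∈ C_V(K) W`. -/
theorem transfer_fixed_point {V K T W : Subgroup G} (hV : IsElementaryAbelian p V)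
    (hKV : K ≤ Subgroup.normalizer (V : Set G)) (hT : IsSylowIn p T K)
    {v : G} (hv : v ∈ V) (hvT : ∀ t ∈ T, t * v = v * t)
    (hvW : ∀ k ∈ K, k * v * k⁻¹ * v⁻¹ ∈ W) :
    v ∈ (V ⊓ Subgroup.centralizer (K : Set G)) ⊔ W := by
  classical
  have hp : p.Prime := Fact.out
  have : IsMulCommutative ↥V := hV.1
  let _ : CommGroup ↥V := { (inferInstance : Group ↥V) with mul_comm := mul_comm' }
  let act : MulDistribMulAction ↥K ↥V :=
    { smul := fun k z => ⟨k.1 * z.1 * k.1⁻¹, (Subgroup.mem_normalizer_iff.1 (hKV k.2) z.1).1 z.2⟩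
      one_smul := fun z => Subtype.ext (by show (1 : G) * z.1 * (1 : G)⁻¹ = z.1; simp)
      mul_smul := fun a b z => Subtype.ext (by
        show (a.1 * b.1) * z.1 * (a.1 * b.1)⁻¹ = a.1 * (b.1 * z.1 * b.1⁻¹) * a.1⁻¹
        group)
      smul_mul := fun k a b => Subtype.ext (by
        show k.1 * (a.1 * b.1) * k.1⁻¹ = (k.1 * a.1 * k.1⁻¹) * (k.1 * b.1 * k.1⁻¹)
        group)
      smul_one := fun k => Subtype.ext (by show k.1 * (1 : G) * k.1⁻¹ = 1; simp) }
  have hsmul : ∀ (k : ↥K) (z : ↥V), ((k • z : ↥V) : G) = k.1 * z.1 * k.1⁻¹ := fun _ _ => rfl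
  set v' : ↥V := ⟨v, hv⟩ with hv'
  set O : Finset ↥V := (Set.toFinite (MulAction.orbit ↥K v')).toFinset with hO
  have hmemO : ∀ x : ↥V, x ∈ O ↔ x ∈ MulAction.orbit ↥K v' := fun x => by
    rw [hO, Set.Finite.mem_toFinset]
  set u' : ↥V := ∏ x ∈ O, x with hu'
  -- invariance
  have hinv : ∀ k : ↥K, k • u' = u' := by
    intro k
    rw [hu', Finset.smul_prod']
    refine Finset.prod_nbij' (fun x => k • x) (fun x => k⁻¹ • x) ?_ ?_ ?_ ?_ ?_
    · intro x hx
      rw [hmemO] at hx ⊢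
      obtain ⟨g, rfl⟩ := hx
      exact ⟨k * g, mul_smul k g v'⟩
    · intro x hx
      rw [hmemO] at hx ⊢
      obtain ⟨g, rfl⟩ := hx
      exact ⟨k⁻¹ * g, mul_smul k⁻¹ g v'⟩
    · intro x _; simp
    · intro x _; simp
    · intro x _; rfl
  -- card of the orbit
  have hcard : ¬ p ∣ O.card := by
    have h1 : O.card = (MulAction.orbit ↥K v').ncard := by
      rw [hO, Set.ncard_eq_toFinset_card _ (Set.toFinite _)]
    rw [h1, ← MulAction.index_stabilizer]
    have h2 : (hT.toSylow : Subgroup ↥K) ≤ MulAction.stabilizer ↥K v' := by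
      intro t ht
      have ht' : (t : G) ∈ T := Subgroup.mem_subgroupOf.1 ht
      rw [MulAction.mem_stabilizer_iff]
      apply Subtype.ext
      rw [hsmul]
      show t.1 * v * t.1⁻¹ = v
      rw [hvT t.1 ht']; group
    intro hdvd
    exact Sylow.not_dvd_index hT.toSylow (hdvd.trans (Subgroup.index_dvd_of_le h2))
  -- u' ≡ v'^|O| mod W
  set W' : Subgroup ↥V := W.subgroupOf V with hW'
  have hq : ∀ x ∈ O, QuotientGroup.mk' W' x = QuotientGroup.mk' W' v' := by
    intro x hx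
    rw [hmemO] at hx
    obtain ⟨k, rfl⟩ := hx
    show QuotientGroup.mk' W' (k • v') = QuotientGroup.mk' W' v'
    rw [QuotientGroup.mk'_apply, QuotientGroup.mk'_apply, QuotientGroup.eq]
    show (k • v')⁻¹ * v' ∈ W'
    rw [hW', Subgroup.mem_subgroupOf]
    have h1 := W.inv_mem (hvW k.1 k.2)
    have h2 : (((k • v')⁻¹ * v' : ↥V) : G) = v * ((k • v' : ↥V) : G)⁻¹ := by
      rw [mul_comm]; rfl
    show (((k • v')⁻¹ * v' : ↥V) : G) ∈ W
    rw [h2, hsmul]
    have h3 : v * (k.1 * v'.1 * k.1⁻¹)⁻¹ = (k.1 * v * k.1⁻¹ * v⁻¹)⁻¹ := by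
      show v * (k.1 * v * k.1⁻¹)⁻¹ = _
      group
    rw [h3]; exact h1
  have hqu : QuotientGroup.mk' W' u' = (QuotientGroup.mk' W' v') ^ O.card := by
    rw [hu', map_prod, Finset.prod_congr rfl hq, Finset.prod_const]
  -- invert the exponent
  have hcop : Nat.Coprime O.card p := ((Nat.Prime.coprime_iff_not_dvd hp).2 hcard).symm
  have hvp : v' ^ p = 1 := Subtype.ext (by simpa using hV.2 v hv)
  obtain ⟨j, hj⟩ := exists_pow_eq_self_of_coprime (hcop.coprime_dvd_right (orderOf_dvd_of_pow_eq_one hvp))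
  -- v' = (v'^|O|)^j
  have h5 : QuotientGroup.mk' W' (u' ^ j) = QuotientGroup.mk' W' v' := by
    rw [map_pow, hqu, ← map_pow, ← map_pow, hj]
  rw [QuotientGroup.mk'_apply, QuotientGroup.mk'_apply, QuotientGroup.eq] at h5
  have h6 : ((u' ^ j)⁻¹ * v' : ↥V) ∈ W' := h5
  rw [hW', Subgroup.mem_subgroupOf] at h6
  have h7 : (u' : G) ∈ V ⊓ Subgroup.centralizer (K : Set G) := by
    refine ⟨u'.2, ?_⟩
    show (u' : G) ∈ Subgroup.centralizer (K : Set G)
    rw [Subgroup.mem_centralizer_iff]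
    intro k hk
    have := congrArg Subtype.val (hinv ⟨k, hk⟩)
    rw [hsmul] at this
    show k * (u' : G) = (u' : G) * k
    calc k * (u' : G) = (k * (u' : G) * k⁻¹) * k := by group
      _ = (u' : G) * k := by rw [this]
  have h8 : v = ((u' : G) ^ j) * (((u' : G) ^ j)⁻¹ * v) := by group
  rw [h8]
  refine Subgroup.mul_mem _ (Subgroup.mem_sup_left (Subgroup.pow_mem _ h7 j)) (Subgroup.mem_sup_right ?_)
  have h9 : (((u' ^ j)⁻¹ * v' : ↥V) : G) = ((u' : G) ^ j)⁻¹ * v := by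
    simp [hv']
  rw [← h9]; exact h6

end Cfsg.Agent.Helper14
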