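import Cfsg.Agent.Helper14.ModTransfer
import Cfsg.Agent.Helper14.Irreducible2
import Cfsg.Agent.Helper14.QuadPair

set_option autoImplicit false
set_option linter.unusedSectionVars false

namespace Cfsg.Agent.Helper14

open Cfsg
open scoped commutatorElement

variable {G : Type*} [Group G] [Finite G] {p : ℕ} [Fact p.Prime]

theorem pResidualOf_le (H : Subgroup G) : (pResidual p ↥H).map H.subtype ≤ H := map_subtype_le _

theorem le_normalizer_pResidualOf (H : Subgroup G) :
    H ≤ Subgroup.normalizer (((pResidual p ↥H).map H.subtype : Subgroup G) : Set G) := by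
  have h1 : (((pResidual p ↥H).map H.subtype).subgroupOf H).Normal := by
    rw [subgroupOf_map_subtype']; infer_instance
  exact (Subgroup.normal_subgroupOf_iff_le_normalizer (pResidualOf_le H)).1 h1

theorem le_normalizer_commutator {A B K : Subgroup G} (hA : K ≤ Subgroup.normalizer (A : Set G))
    (hB : K ≤ Subgroup.normalizer (B : Set G)) :
    K ≤ Subgroup.normalizer ((⁅A, B⁆ : Subgroup G) : Set G) := by
  intro g hg
  rw [mem_normalizer_iff_map_cj, Subgroup.map_commutator, mem_normalizer_iff_map_cj.1 (hA hg),
    mem_normalizer_iff_map_cj.1 (hB hg)]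

/-- S2781 -/
theorem module_splits_of_generated_by_fixed_points (V H : Subgroup G)
    (hV : IsElementaryAbelian p V) (hHV : H ≤ Subgroup.normalizer (V : Set G))
    (R : Subgroup G) (hR : R = (pResidual p ↥H).map H.subtype) (S : Sylow p ↥R)
    (T : Subgroup G) (hT : T = ((S : Subgroup ↥R).map R.subtype))
    (hgen : ∀ W : Subgroup G, H ≤ Subgroup.normalizer (W : Set G) →
      (V ⊓ Subgroup.centralizer ((T : Subgroup G) : Set G)) ≤ W → V ≤ W) :
    ⁅V, R⁆ ⊔ (V ⊓ Subgroup.centralizer ((R : Subgroup G) : Set G)) = V := by
  have hRH : R ≤ H := by rw [hR]; exact pResidualOf_le H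
  have hHR : H ≤ Subgroup.normalizer (R : Set G) := by rw [hR]; exact le_normalizer_pResidualOf H
  have hRV : R ≤ Subgroup.normalizer (V : Set G) := hRH.trans hHV
  have hTS : IsSylowIn p T R := by rw [hT]; exact isSylowIn_of_sylow S
  apply le_antisymm
  · exact sup_le (commutator_le_left_of_le_normalizer hRV) inf_le_left
  · apply hgen
    · apply le_normalizer_sup (le_normalizer_commutator hHV hHR)
      exact le_normalizer_inf hHV (hHR.trans (normalizer_le_normalizer_centralizer' R))
    · rintro v ⟨hvV, hvT⟩
      have hvT' : v ∈ Subgroup.centralizer (T : Set G) := hvT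
      rw [Subgroup.mem_centralizer_iff] at hvT'
      have h1 := transfer_fixed_point (W := ⁅V, R⁆) hV hRV hTS hvV hvT' (by
        intro k hk
        have h2 : k * v * k⁻¹ * v⁻¹ = ⁅k, v⁆ := by rw [commutatorElement_def]
        rw [h2, Subgroup.commutator_comm]
        exact Subgroup.commutator_mem_commutator hk hvV)
      rw [sup_comm]
      exact h1

end Cfsg.Agent.Helper14
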