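import Cfsg.Agent.Helper14.ModTransfer3

set_option autoImplicit false
set_option linter.unusedSectionVars false

namespace Cfsg.Agent.Helper14

open Cfsg
open scoped commutatorElement

variable {H : Type*} [Group H] [Finite H] {p : ℕ} [Fact p.Prime]

/-- S2826 -/
theorem centralizer_ozc_eq (T : Sylow p H) (V : Subgroup H) [hVn : V.Normal]
    (hV : IsElementaryAbelian p V) (hZV : ozc p (T : Subgroup H) ≤ V) :
    Subgroup.centralizer ((ozc p (T : Subgroup H) : Subgroup H) : Set H) =
      Subgroup.centralizer (((⁅V, pResidual p H⁆ ⊓ ozc p (T : Subgroup H)) : Subgroup H) : Set H) := by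
  set Z₀ := ozc p (T : Subgroup H) with hZ₀
  set R := pResidual p H with hR
  set W := ⁅V, R⁆ with hW
  apply le_antisymm (Subgroup.centralizer_le inf_le_right)
  intro c hc
  rw [Subgroup.mem_centralizer_iff] at hc ⊢
  intro z₀ hz₀
  have hTc := le_centralizer_ozc (p := p) (T : Subgroup H)
  have hTS : IsSylowIn p (T : Subgroup H) ⊤ := isSylowIn_of_sylow_le T le_top
  have h1 : z₀ ∈ (V ⊓ Subgroup.centralizer ((⊤ : Subgroup H) : Set H)) ⊔ W := by
    apply transfer_fixed_point hV (by rw [Subgroup.normalizer_eq_top]) hTS (hZV hz₀)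
    · intro t ht
      exact (Subgroup.mem_centralizer_iff.1 (hTc ht) z₀ hz₀).symm
    · intro l _
      have hl : l ∈ R ⊔ (T : Subgroup H) := by
        rw [hR, pResidual_sup_sylow T]; trivial
      rw [Subgroup.mem_sup_of_normal_left] at hl
      obtain ⟨r, hr, t, ht, rfl⟩ := hl
      have htz : z₀ * t = t * z₀ := Subgroup.mem_centralizer_iff.1 (hTc ht) z₀ hz₀
      have e1 : r * t * z₀ * (r * t)⁻¹ * z₀⁻¹ = r * (t * z₀) * t⁻¹ * r⁻¹ * z₀⁻¹ := by group
      have e2 : r * (z₀ * t) * t⁻¹ * r⁻¹ * z₀⁻¹ = ⁅r, z₀⁆ := by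
        rw [commutatorElement_def]; group
      rw [e1, ← htz, e2, hW, Subgroup.commutator_comm]
      exact Subgroup.commutator_mem_commutator hr (hZV hz₀)
  have hcn : (V ⊓ Subgroup.centralizer ((⊤ : Subgroup H) : Set H)).Normal := by
    have : (Subgroup.centralizer ((⊤ : Subgroup H) : Set H)).Normal := inferInstance
    infer_instance
  rw [Subgroup.mem_sup_of_normal_left] at h1
  obtain ⟨u, ⟨huV, huC⟩, w, hw, rfl⟩ := h1
  have huc : ∀ x : H, x * u = u * x := fun x =>
    Subgroup.mem_centralizer_iff.1 huC x (Subgroup.mem_top x)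
  -- u ∈ Z₀
  have huZ : u ∈ Z₀ := by
    have hzu : IsPGroup p ↥(Subgroup.zpowers u) := by
      have : Subgroup.zpowers u ≤ V := by rw [Subgroup.zpowers_le]; exact huV
      exact (isPGroup_of_isElementaryAbelian hV).to_le this
    have hzn : (Subgroup.zpowers u).Normal := by
      constructor
      intro n hn g
      obtain ⟨k, rfl⟩ := Subgroup.mem_zpowers_iff.1 hn
      have : g * u ^ k * g⁻¹ = u ^ k := by
        have hcm : Commute g u := huc g
        have := hcm.zpow_right k
        rw [this.eq]; group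
      rw [this]; exact Subgroup.zpow_mem_zpowers u k
    have huT : u ∈ (T : Subgroup H) :=
      (hzu.le_sylow_of_normal T) (Subgroup.mem_zpowers u)
    refine Subgroup.subset_closure ⟨⟨huT, ?_⟩, hV.2 u huV⟩
    show u ∈ Subgroup.centralizer (((T : Subgroup H) : Subgroup H) : Set H)
    rw [Subgroup.mem_centralizer_iff]
    intro x _
    exact huc x
  have hwZ : w ∈ W ⊓ Z₀ := by
    refine ⟨hw, ?_⟩
    have : w = u⁻¹ * (u * w) := by group
    rw [this]
    exact Z₀.mul_mem (Z₀.inv_mem huZ) hz₀
  have h2 : w * c = c * w := hc w hwZ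
  calc u * w * c = u * (w * c) := by group
    _ = u * (c * w) := by rw [h2]
    _ = (u * c) * w := by group
    _ = (c * u) * w := by rw [huc c]
    _ = c * (u * w) := by group

end Cfsg.Agent.Helper14
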