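import Mathlib

set_option autoImplicit false
set_option linter.unusedSectionVars false

namespace Cfsg.Agent.Helper14

open Matrix

section SL2Nat

variable {F : Type*} [Field F]

theorem sl2_smul_eq_mulVec (g : SpecialLinearGroup (Fin 2) F) (v : Fin 2 → F) :
    g • v = (g : Matrix (Fin 2) (Fin 2) F).mulVec v := rfl

/-- a matrix in `SL₂(F)` with prescribed nonzero first column -/
theorem exists_sl2_smul_e0 (v : Fin 2 → F) (hv : v ≠ 0) :
    ∃ g : SpecialLinearGroup (Fin 2) F, g • (![1, 0] : Fin 2 → F) = v := by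
  by_cases h0 : v 0 = 0
  · have h1 : v 1 ≠ 0 := by
      intro h1
      apply hv
      ext i
      fin_cases i
      · exact h0
      · exact h1
    have hdet : (!![0, -(v 1)⁻¹; v 1, 0] : Matrix (Fin 2) (Fin 2) F).det = 1 := by
      rw [Matrix.det_fin_two_of]
      field_simp
      ring
    refine ⟨⟨!![0, -(v 1)⁻¹; v 1, 0], hdet⟩, ?_⟩
    show (!![0, -(v 1)⁻¹; v 1, 0] : Matrix (Fin 2) (Fin 2) F).mulVec ![1, 0] = v
    ext i
    fin_cases i <;> simp [Matrix.mulVec, dotProduct, h0]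
  · have hdet : (!![v 0, 0; v 1, (v 0)⁻¹] : Matrix (Fin 2) (Fin 2) F).det = 1 := by
      rw [Matrix.det_fin_two_of]
      field_simp
      ring
    refine ⟨⟨!![v 0, 0; v 1, (v 0)⁻¹], hdet⟩, ?_⟩
    show (!![v 0, 0; v 1, (v 0)⁻¹] : Matrix (Fin 2) (Fin 2) F).mulVec ![1, 0] = v
    ext i
    fin_cases i <;> simp [Matrix.mulVec, dotProduct]

theorem sl2_transitive (v w : Fin 2 → F) (hv : v ≠ 0) (hw : w ≠ 0) :
    ∃ g : SpecialLinearGroup (Fin 2) F, g • v = w := by
  obtain ⟨a, ha⟩ := exists_sl2_smul_e0 v hv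
  obtain ⟨b, hb⟩ := exists_sl2_smul_e0 w hw
  refine ⟨b * a⁻¹, ?_⟩
  rw [← ha, mul_smul, inv_smul_smul, hb]

theorem sl2_eq_one_of_forall_smul (n : SpecialLinearGroup (Fin 2) F)
    (h : ∀ w : Fin 2 → F, n • w = w) : n = 1 := by
  apply Subtype.ext
  ext i j
  have h := congrFun (h (Pi.single j 1)) i
  rw [sl2_smul_eq_mulVec, Matrix.mulVec_single_one] at h
  simpa [Matrix.one_apply, Pi.single_apply, eq_comm] using h

variable [Fintype F] {p : ℕ} [Fact p.Prime] [CharP F p]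

theorem prime_dvd_card_vec : p ∣ Nat.card (Fin 2 → F) := by
  have h1 : p ∣ Fintype.card F := by
    rw [← CharP.cast_eq_zero_iff F p]
    exact Nat.cast_card_eq_zero F
  rw [Nat.card_eq_fintype_card, Fintype.card_fun, Fintype.card_fin]
  exact dvd_pow h1 (by norm_num)

/-- a `p`-subgroup of `SL₂(F)` fixes a nonzero vector -/
theorem exists_fixed_vector (P : Subgroup (SpecialLinearGroup (Fin 2) F)) (hP : IsPGroup p ↥P) :
    ∃ v : Fin 2 → F, v ≠ 0 ∧ ∀ g ∈ P, g • v = v := by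
  have h0 : (0 : Fin 2 → F) ∈ MulAction.fixedPoints ↥P (Fin 2 → F) := by
    intro g
    exact smul_zero g
  obtain ⟨b, hb, hne⟩ := hP.exists_fixed_point_of_prime_dvd_card_of_fixed_point (Fin 2 → F)
    (prime_dvd_card_vec (F := F) (p := p)) h0
  refine ⟨b, fun h => hne h.symm, fun g hg => ?_⟩
  exact hb ⟨g, hg⟩

/-- `O_p(SL₂(F)) = 1` -/
theorem normal_pSubgroup_sl2_eq_bot (N : Subgroup (SpecialLinearGroup (Fin 2) F)) [N.Normal]
    (hN : IsPGroup p ↥N) : N = ⊥ := by
  obtain ⟨v, hv, hfix⟩ := exists_fixed_vector N hN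
  have hall : ∀ n ∈ N, ∀ w : Fin 2 → F, n • w = w := by
    intro n hn w
    by_cases hw : w = 0
    · rw [hw, smul_zero]
    obtain ⟨g, hg⟩ := sl2_transitive v w hv hw
    have hc : g⁻¹ * n * g ∈ N := by
      have := (inferInstance : N.Normal).conj_mem n hn g⁻¹
      simpa using this
    have h1 := hfix _ hc
    rw [mul_smul, mul_smul, hg] at h1
    have h2 := congrArg (fun u => g • u) h1
    simp only [smul_inv_smul] at h2
    rw [hg] at h2
    exact h2
  rw [eq_bot_iff]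
  intro n hn
  rw [Subgroup.mem_bot]
  exact sl2_eq_one_of_forall_smul n (hall n hn)

end SL2Nat

end Cfsg.Agent.Helper14
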