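import Mathlib
import Cfsg.Agent.Helper14.SL2Nat

set_option autoImplicit false
set_option linter.unusedSectionVars false

namespace Cfsg.Agent.Helper14

open Matrix

section SL2Stab

variable {F : Type*} [Field F]

/-- the first standard basis vector -/
def vE0 : Fin 2 → F := ![1, 0]

theorem sl2_smul_apply (g : SpecialLinearGroup (Fin 2) F) (v : Fin 2 → F) (i : Fin 2) :
    (g • v) i = g.1 i 0 * v 0 + g.1 i 1 * v 1 := by
  rw [sl2_smul_eq_mulVec]
  simp [Matrix.mulVec, dotProduct, Fin.sum_univ_two]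

theorem sl2_det' (g : SpecialLinearGroup (Fin 2) F) :
    g.1 0 0 * g.1 1 1 - g.1 0 1 * g.1 1 0 = 1 := by
  have h := g.det_coe
  rwa [Matrix.det_fin_two] at h

theorem sl2_stab_iff (g : SpecialLinearGroup (Fin 2) F) :
    g • (vE0 : Fin 2 → F) = vE0 ↔ g.1 0 0 = 1 ∧ g.1 1 0 = 0 := by
  constructor
  · intro h
    have h0 := congrFun h 0
    have h1 := congrFun h 1
    rw [sl2_smul_apply] at h0 h1
    simp [vE0] at h0 h1
    exact ⟨h0, h1⟩
  · rintro ⟨h0, h1⟩
    ext i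
    rw [sl2_smul_apply]
    fin_cases i <;> simp [vE0, h0, h1]

theorem sl2_stab_11 {g : SpecialLinearGroup (Fin 2) F} (h : g • (vE0 : Fin 2 → F) = vE0) :
    g.1 1 1 = 1 := by
  obtain ⟨h0, h1⟩ := (sl2_stab_iff g).1 h
  have hd := sl2_det' g
  rw [h0, h1] at hd
  linear_combination hd

theorem sl2_stab_smul {g : SpecialLinearGroup (Fin 2) F} (h : g • (vE0 : Fin 2 → F) = vE0)
    (v : Fin 2 → F) : g • v = ![v 0 + g.1 0 1 * v 1, v 1] := by
  obtain ⟨h0, h1⟩ := (sl2_stab_iff g).1 h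
  have h11 := sl2_stab_11 h
  ext i
  rw [sl2_smul_apply]
  fin_cases i <;> simp [h0, h1, h11]

/-- the unipotent element -/
def sl2U (b : F) : SpecialLinearGroup (Fin 2) F :=
  ⟨!![1, b; 0, 1], by rw [Matrix.det_fin_two_of]; ring⟩

theorem sl2U_stab (b : F) : sl2U b • (vE0 : Fin 2 → F) = vE0 := by
  rw [sl2_stab_iff]
  exact ⟨rfl, rfl⟩

theorem sl2U_01 (b : F) : (sl2U b).1 0 1 = b := rfl

/-- the diagonal element -/
def sl2D (a : F) (ha : a ≠ 0) : SpecialLinearGroup (Fin 2) F :=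
  ⟨!![a, 0; 0, a⁻¹], by rw [Matrix.det_fin_two_of]; field_simp; ring⟩

theorem sl2D_smul (a : F) (ha : a ≠ 0) (v : Fin 2 → F) :
    sl2D a ha • v = ![a * v 0, a⁻¹ * v 1] := by
  ext i
  rw [sl2_smul_apply]
  fin_cases i <;> simp [sl2D]

/-- the stabilizer of `e₀` -/
def sl2Stab (F : Type*) [Field F] : Subgroup (SpecialLinearGroup (Fin 2) F) :=
  MulAction.stabilizer (SpecialLinearGroup (Fin 2) F) (vE0 : Fin 2 → F)

theorem mem_sl2Stab (g : SpecialLinearGroup (Fin 2) F) :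
    g ∈ sl2Stab F ↔ g • (vE0 : Fin 2 → F) = vE0 := MulAction.mem_stabilizer_iff

/-- the stabilizer of `e₀` maps injectively to `(F, +)` -/
def sl2StabHom (F : Type*) [Field F] : ↥(sl2Stab F) →* Multiplicative F where
  toFun g := Multiplicative.ofAdd (g.1.1 0 1)
  map_one' := by simp
  map_mul' g h := by
    have hg := (sl2_stab_iff g.1).1 ((mem_sl2Stab g.1).1 g.2)
    have hh11 := sl2_stab_11 ((mem_sl2Stab h.1).1 h.2)
    rw [← ofAdd_add]
    congr 1
    show (g.1.1 * h.1.1) 0 1 = _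
    rw [Matrix.mul_apply, Fin.sum_univ_two, hg.1, hh11]
    ring

theorem sl2StabHom_injective : Function.Injective (sl2StabHom F) := by
  intro g h hgh
  have e : g.1.1 0 1 = h.1.1 0 1 := Multiplicative.ofAdd.injective hgh
  have hg := (sl2_stab_iff g.1).1 ((mem_sl2Stab g.1).1 g.2)
  have hh := (sl2_stab_iff h.1).1 ((mem_sl2Stab h.1).1 h.2)
  have hg11 := sl2_stab_11 ((mem_sl2Stab g.1).1 g.2)
  have hh11 := sl2_stab_11 ((mem_sl2Stab h.1).1 h.2)
  apply Subtype.ext
  apply Subtype.ext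
  ext i j
  fin_cases i <;> fin_cases j <;> simp [hg.1, hg.2, hh.1, hh.2, hg11, hh11, e]

theorem isPGroup_sl2Stab {p : ℕ} [Fact p.Prime] [CharP F p] : IsPGroup p ↥(sl2Stab F) := by
  have h : IsPGroup p (Multiplicative F) := by
    intro x
    refine ⟨1, ?_⟩
    rw [pow_one]
    apply Multiplicative.toAdd.injective
    rw [toAdd_pow, toAdd_one, nsmul_eq_mul, CharP.cast_eq_zero F p, zero_mul]
  exact h.of_injective (sl2StabHom F) sl2StabHom_injective

end SL2Stab

end Cfsg.Agent.Helper14
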