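import Mathlib
import Cfsg.Prelude.Def_LocalEven
import Cfsg.Agent.Helper14.SL2Stab

set_option autoImplicit false
set_option linter.unusedSectionVars false

namespace Cfsg.Agent.Helper14

open Matrix Cfsg

section NatData

variable {G : Type*} [Group G] {F : Type*} [Field F]

/-- faithful natural `SL₂(F)`-module data -/
structure NatSL2Data (F : Type*) [Field F] (V L : Subgroup G) where
  ρ : ↥L →* SpecialLinearGroup (Fin 2) F
  ψ : Additive ↥V ≃+ (Fin 2 → F)
  surj : Function.Surjective ρ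
  inj : Function.Injective ρ
  norm : L ≤ Subgroup.normalizer (V : Set G)
  equiv : ∀ (l : ↥L) (v w : ↥V), (w : G) = (l : G) * (v : G) * (l : G)⁻¹ →
    ψ (Additive.ofMul w) = ρ l • ψ (Additive.ofMul v)

theorem exists_natSL2Data {V L : Subgroup G} (hnat : IsNaturalSL2Module F V L)
    (hf : L ⊓ Subgroup.centralizer (V : Set G) = ⊥) : Nonempty (NatSL2Data F V L) := by
  obtain ⟨hnorm, ρ, ψ, hsurj, hker, hequiv⟩ := hnat
  refine ⟨⟨ρ, ψ, hsurj, ?_, hnorm, ?_⟩⟩
  · rw [injective_iff_map_eq_one]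
    intro l hl
    have h1 : l ∈ ρ.ker := hl
    rw [hker, Subgroup.mem_subgroupOf] at h1
    have h2 : (l : G) ∈ L ⊓ Subgroup.centralizer (V : Set G) := ⟨l.2, h1⟩
    rw [hf] at h2
    exact Subtype.ext (Subgroup.mem_bot.1 h2)
  · intro l v w hw
    obtain ⟨w', hw', he⟩ := hequiv l v
    have : w = w' := Subtype.ext (hw.trans hw'.symm)
    rw [this, he]
    rfl

/-- change of basis -/
def NatSL2Data.conj {V L : Subgroup G} (D : NatSL2Data F V L) (x : SpecialLinearGroup (Fin 2) F) :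
    NatSL2Data F V L where
  ρ := (MulAut.conj x⁻¹).toMonoidHom.comp D.ρ
  ψ := D.ψ.trans (DistribMulAction.toAddEquiv (Fin 2 → F) x⁻¹)
  surj := (MulAut.conj x⁻¹).surjective.comp D.surj
  inj := (MulAut.conj x⁻¹).injective.comp D.inj
  norm := D.norm
  equiv := by
    intro l v w hw
    have h := D.equiv l v w hw
    show x⁻¹ • D.ψ (Additive.ofMul w) = (x⁻¹ * D.ρ l * x⁻¹⁻¹) • (x⁻¹ • D.ψ (Additive.ofMul v))
    rw [h, mul_smul, mul_smul, inv_inv, smul_inv_smul]

theorem NatSL2Data.conj_ρ {V L : Subgroup G} (D : NatSL2Data F V L)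
    (x : SpecialLinearGroup (Fin 2) F) (l : ↥L) : (D.conj x).ρ l = x⁻¹ * D.ρ l * x := by
  show x⁻¹ * D.ρ l * x⁻¹⁻¹ = _
  rw [inv_inv]

variable [Finite G] [Fintype F] {p : ℕ} [Fact p.Prime] [CharP F p]

/-- standard position: the Sylow subgroup is the stabilizer of `e₀` -/
theorem exists_natSL2Data_std {V L : Subgroup G} (D₀ : NatSL2Data F V L) (S : Sylow p ↥L) :
    ∃ D : NatSL2Data F V L, ∀ l : ↥L, l ∈ S ↔ D.ρ l • (vE0 : Fin 2 → F) = vE0 := by
  obtain ⟨e, he0, hfix⟩ := exists_fixed_vector (p := p) ((S : Subgroup ↥L).map D₀.ρ)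
    (S.isPGroup'.map D₀.ρ)
  obtain ⟨x, hx⟩ := exists_sl2_smul_e0 e he0
  refine ⟨D₀.conj x, ?_⟩
  have hfwd : ∀ l : ↥L, l ∈ S → (D₀.conj x).ρ l • (vE0 : Fin 2 → F) = vE0 := by
    intro l hl
    rw [D₀.conj_ρ, mul_smul, mul_smul]
    have : x • (vE0 : Fin 2 → F) = e := hx
    rw [this, hfix _ (Subgroup.mem_map_of_mem _ hl), ← this, inv_smul_smul]
  set S' : Subgroup ↥L := (sl2Stab F).comap (D₀.conj x).ρ with hS'
  have hS'p : IsPGroup p ↥S' := by
    have h1 : IsPGroup p ↥((sl2Stab F).subgroupOf ((D₀.conj x).ρ).range) :=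
      (isPGroup_sl2Stab (p := p)).comap_subtype
    have : S' = ((sl2Stab F).subgroupOf ((D₀.conj x).ρ).range).comap ((D₀.conj x).ρ.rangeRestrict) := by
      ext l
      simp [hS', Subgroup.mem_subgroupOf]
    rw [this]
    apply h1.comap_of_injective
    intro a b hab
    apply (D₀.conj x).inj
    exact congrArg Subtype.val hab
  have hle : (S : Subgroup ↥L) ≤ S' := by
    intro l hl
    rw [hS', Subgroup.mem_comap, mem_sl2Stab]
    exact hfwd l hl
  have heq : S' = (S : Subgroup ↥L) := S.is_maximal' hS'p hle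
  intro l
  constructor
  · exact hfwd l
  · intro h
    have : l ∈ S' := by
      rw [hS', Subgroup.mem_comap, mem_sl2Stab]
      exact h
    rw [heq] at this
    exact this

end NatData

end Cfsg.Agent.Helper14
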