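import Cfsg.Agent.Helper14.NatVec

set_option autoImplicit false
set_option linter.unusedSectionVars false

namespace Cfsg.Agent.Helper14

open Matrix Cfsg

section NatStd

variable {G : Type*} [Group G] {F : Type*} [Field F] {V L : Subgroup G}

/-- `T` is in standard position with respect to the data `D` -/
def NatSL2Data.IsStd (D : NatSL2Data F V L) (T : Subgroup G) : Prop :=
  ∀ t : G, t ∈ T ↔ ∃ hl : t ∈ L, D.ρ ⟨t, hl⟩ • (vE0 : Fin 2 → F) = vE0

/-- the subgroup of `V` of vectors with vanishing second coordinate -/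
def NatSL2Data.natW (D : NatSL2Data F V L) : Subgroup G where
  carrier := {g | ∃ h : g ∈ V, D.vec g h 1 = 0}
  one_mem' := ⟨V.one_mem, by rw [D.vec_one]; rfl⟩
  mul_mem' := by
    rintro a b ⟨ha, ha'⟩ ⟨hb, hb'⟩
    refine ⟨V.mul_mem ha hb, ?_⟩
    rw [D.vec_mul ha hb, Pi.add_apply, ha', hb', add_zero]
  inv_mem' := by
    rintro a ⟨ha, ha'⟩
    refine ⟨V.inv_mem ha, ?_⟩
    rw [D.vec_inv ha, Pi.neg_apply, ha', neg_zero]

theorem NatSL2Data.mem_natW (D : NatSL2Data F V L) {g : G} :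
    g ∈ D.natW ↔ ∃ h : g ∈ V, D.vec g h 1 = 0 := Iff.rfl

theorem NatSL2Data.natW_le (D : NatSL2Data F V L) : D.natW ≤ V := fun _ h => h.1

variable {D : NatSL2Data F V L} {T : Subgroup G}

theorem NatSL2Data.IsStd.le (hT : D.IsStd T) : T ≤ L := fun t ht => ((hT t).1 ht).1

theorem NatSL2Data.IsStd.smul (hT : D.IsStd T) {t : G} (ht : t ∈ T) (x : Fin 2 → F) :
    D.ρ ⟨t, hT.le ht⟩ • x = ![x 0 + (D.ρ ⟨t, hT.le ht⟩).1 0 1 * x 1, x 1] :=
  sl2_stab_smul ((hT t).1 ht).2 x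

theorem NatSL2Data.IsStd.exists_coef (hT : D.IsStd T) (b : F) :
    ∃ (t : G) (ht : t ∈ T), (D.ρ ⟨t, hT.le ht⟩).1 0 1 = b := by
  obtain ⟨l, hl⟩ := D.surj (sl2U b)
  have ht : (l : G) ∈ T := by
    rw [hT]
    refine ⟨l.2, ?_⟩
    show D.ρ l • (vE0 : Fin 2 → F) = vE0
    rw [hl]; exact sl2U_stab b
  refine ⟨l, ht, ?_⟩
  show (D.ρ l).1 0 1 = b
  rw [hl]; rfl

theorem NatSL2Data.IsStd.coef_ne_zero (hT : D.IsStd T) {t : G} (ht : t ∈ T) (h1 : t ≠ 1) :
    (D.ρ ⟨t, hT.le ht⟩).1 0 1 ≠ 0 := by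
  intro h0
  apply h1
  have hst := ((hT t).1 ht).2
  have h2 : D.ρ ⟨t, hT.le ht⟩ = 1 := by
    apply sl2_eq_one_of_forall_smul
    intro w
    rw [sl2_stab_smul hst w, h0, zero_mul, add_zero]
    ext i
    fin_cases i <;> rfl
  have h3 : (⟨t, hT.le ht⟩ : ↥L) = 1 := D.inj (by rw [h2, map_one])
  exact congrArg Subtype.val h3

/-- fixed points of a single nontrivial element of `T` -/
theorem NatSL2Data.IsStd.inf_centralizer_singleton (hT : D.IsStd T) {s : G} (hs : s ∈ T)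
    (h1 : s ≠ 1) : V ⊓ Subgroup.centralizer ({s} : Set G) = D.natW := by
  ext v
  rw [Subgroup.mem_inf, D.mem_natW]
  constructor
  · rintro ⟨hv, hc⟩
    refine ⟨hv, ?_⟩
    have h := (D.mem_centralizer_iff (hT.le hs) hv).1 hc
    rw [hT.smul hs] at h
    have h0 := congrFun h 0
    simp only [Matrix.cons_val_zero] at h0
    have h2 : (D.ρ ⟨s, hT.le hs⟩).1 0 1 * D.vec v hv 1 = 0 := by linear_combination h0
    rcases mul_eq_zero.1 h2 with h3 | h3
    · exact absurd h3 (hT.coef_ne_zero hs h1)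
    · exact h3
  · rintro ⟨hv, h0⟩
    refine ⟨hv, ?_⟩
    rw [D.mem_centralizer_iff (hT.le hs) hv, hT.smul hs, h0, mul_zero, add_zero]
    ext i
    fin_cases i
    · rfl
    · exact h0.symm

theorem NatSL2Data.IsStd.natW_le_centralizer (hT : D.IsStd T) :
    D.natW ≤ Subgroup.centralizer (T : Set G) := by
  intro v hv
  obtain ⟨hvV, h0⟩ := hv
  rw [Subgroup.mem_centralizer_iff]
  intro t ht
  have : v ∈ Subgroup.centralizer ({t} : Set G) := by
    rw [D.mem_centralizer_iff (hT.le ht) hvV, hT.smul ht, h0, mul_zero, add_zero]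
    ext i
    fin_cases i
    · rfl
    · exact h0.symm
  exact Subgroup.mem_centralizer_iff.1 this t rfl

theorem NatSL2Data.IsStd.inf_centralizer (hT : D.IsStd T) :
    V ⊓ Subgroup.centralizer (T : Set G) = D.natW := by
  apply le_antisymm
  · obtain ⟨s, hs, hb⟩ := hT.exists_coef 1
    have hs1 : s ≠ 1 := by
      rintro rfl
      have : (D.ρ ⟨1, hT.le hs⟩).1 0 1 = 0 := by
        have : (⟨1, hT.le hs⟩ : ↥L) = 1 := rfl
        rw [this, map_one]
        rfl
      rw [this] at hb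
      exact zero_ne_one hb
    rw [← hT.inf_centralizer_singleton hs hs1]
    exact inf_le_inf_left V (Subgroup.centralizer_le (Set.singleton_subset_iff.2 hs))
  · exact le_inf D.natW_le hT.natW_le_centralizer

end NatStd

end Cfsg.Agent.Helper14
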