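import Cfsg.Agent.Helper14.NatStd

set_option autoImplicit false
set_option linter.unusedSectionVars false

namespace Cfsg.Agent.Helper14

open Matrix Cfsg

open scoped commutatorElement

section NatStd2

variable {G : Type*} [Group G] {F : Type*} [Field F] {V L : Subgroup G}
variable {D : NatSL2Data F V L} {T : Subgroup G}

/-- coordinates of a commutator `[v, t]`, `t ∈ T` -/
theorem NatSL2Data.IsStd.vec_commutator (hT : D.IsStd T) {t v : G} (ht : t ∈ T) (hv : v ∈ V) :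
    D.vec (v * t * v⁻¹ * t⁻¹) (D.commutator_mem (hT.le ht) hv) =
      ![-((D.ρ ⟨t, hT.le ht⟩).1 0 1 * D.vec v hv 1), 0] := by
  rw [D.vec_commutator (hT.le ht) hv, hT.smul ht]
  ext i
  fin_cases i
  · simp
  · simp

theorem NatSL2Data.IsStd.commutator_mem_natW (hT : D.IsStd T) {t v : G} (ht : t ∈ T)
    (hv : v ∈ V) : v * t * v⁻¹ * t⁻¹ ∈ D.natW := by
  refine ⟨D.commutator_mem (hT.le ht) hv, ?_⟩
  rw [hT.vec_commutator ht hv]
  rfl

/-- every element of `W` is a commutator `[v, t]` with prescribed `t` (coefficient nonzero) -/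
theorem NatSL2Data.IsStd.exists_commutator_eq (hT : D.IsStd T) {t : G} (ht : t ∈ T)
    (hb : (D.ρ ⟨t, hT.le ht⟩).1 0 1 ≠ 0) {w : G} (hw : w ∈ D.natW) :
    ∃ v ∈ V, v * t * v⁻¹ * t⁻¹ = w := by
  obtain ⟨hwV, hw0⟩ := hw
  set b := (D.ρ ⟨t, hT.le ht⟩).1 0 1 with hbdef
  obtain ⟨v, hv, hvec⟩ := D.exists_vec_eq ![0, -(D.vec w hwV 0) / b]
  refine ⟨v, hv, ?_⟩
  apply D.eq_of_vec_eq (D.commutator_mem (hT.le ht) hv) hwV
  rw [hT.vec_commutator ht hv, hvec, ← hbdef]
  ext i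
  fin_cases i
  · simp
    field_simp
  · simp [hw0]

/-- every element of `W` is a commutator `[v, t]` with prescribed `v` (second coordinate nonzero) -/
theorem NatSL2Data.IsStd.exists_commutator_eq' (hT : D.IsStd T) {v : G} (hv : v ∈ V)
    (hy : D.vec v hv 1 ≠ 0) {w : G} (hw : w ∈ D.natW) :
    ∃ t ∈ T, v * t * v⁻¹ * t⁻¹ = w := by
  obtain ⟨hwV, hw0⟩ := hw
  obtain ⟨t, ht, hb⟩ := hT.exists_coef (-(D.vec w hwV 0) / D.vec v hv 1)
  refine ⟨t, ht, ?_⟩
  apply D.eq_of_vec_eq (D.commutator_mem (hT.le ht) hv) hwV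
  rw [hT.vec_commutator ht hv, hb]
  ext i
  fin_cases i
  · simp
    field_simp
  · simp [hw0]

theorem NatSL2Data.IsStd.commutator_eq (hT : D.IsStd T) : ⁅V, T⁆ = D.natW := by
  apply le_antisymm
  · rw [Subgroup.commutator_le]
    intro v hv t ht
    rw [commutatorElement_def]
    exact hT.commutator_mem_natW ht hv
  · intro w hw
    obtain ⟨t, ht, hb⟩ := hT.exists_coef 1
    have hb' : (D.ρ ⟨t, hT.le ht⟩).1 0 1 ≠ 0 := by rw [hb]; exact one_ne_zero
    obtain ⟨v, hv, rfl⟩ := hT.exists_commutator_eq ht hb' hw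
    rw [← commutatorElement_def]
    exact Subgroup.commutator_mem_commutator hv ht

theorem NatSL2Data.IsStd.commutator_zpowers_eq (hT : D.IsStd T) {s : G} (hs : s ∈ T)
    (h1 : s ≠ 1) : ⁅V, Subgroup.zpowers s⁆ = D.natW := by
  apply le_antisymm
  · rw [← hT.commutator_eq]
    exact Subgroup.commutator_mono le_rfl (Subgroup.zpowers_le.2 hs)
  · intro w hw
    obtain ⟨v, hv, rfl⟩ := hT.exists_commutator_eq hs (hT.coef_ne_zero hs h1) hw
    rw [← commutatorElement_def]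
    exact Subgroup.commutator_mem_commutator hv (Subgroup.mem_zpowers s)

theorem NatSL2Data.IsStd.closure_commutators_eq (hT : D.IsStd T) {v : G} (hv : v ∈ V)
    (hvc : v ∉ Subgroup.centralizer (T : Set G)) :
    Subgroup.closure {x : G | ∃ t ∈ T, x = v * t * v⁻¹ * t⁻¹} = D.natW := by
  have hy : D.vec v hv 1 ≠ 0 := by
    intro h0
    exact hvc (hT.natW_le_centralizer ⟨hv, h0⟩)
  apply le_antisymm
  · rw [Subgroup.closure_le]
    rintro x ⟨t, ht, rfl⟩
    exact hT.commutator_mem_natW ht hv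
  · intro w hw
    obtain ⟨t, ht, rfl⟩ := hT.exists_commutator_eq' hv hy hw
    exact Subgroup.subset_closure ⟨t, ht, rfl⟩

theorem NatSL2Data.IsStd.commutator_commutator_eq_bot (hT : D.IsStd T) : ⁅⁅V, T⁆, T⁆ = ⊥ := by
  rw [hT.commutator_eq, Subgroup.commutator_eq_bot_iff_le_centralizer]
  exact hT.natW_le_centralizer

end NatStd2

end Cfsg.Agent.Helper14
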