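import Cfsg.Agent.Helper14.NatStd2

set_option autoImplicit false
set_option linter.unusedSectionVars false

namespace Cfsg.Agent.Helper14

open Matrix Cfsg

section NatStd3

variable {G : Type*} [Group G] {F : Type*} [Field F] {V L : Subgroup G}

theorem NatSL2Data.card_V [Fintype F] (D : NatSL2Data F V L) :
    Nat.card ↥V = Fintype.card F ^ 2 := by
  have h1 : Nat.card ↥V = Nat.card (Fin 2 → F) :=
    Nat.card_congr (Additive.ofMul.trans D.ψ.toEquiv)
  rw [h1, Nat.card_eq_fintype_card, Fintype.card_fun, Fintype.card_fin]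

theorem NatSL2Data.card_natW [Fintype F] (D : NatSL2Data F V L) :
    Nat.card ↥D.natW = Fintype.card F := by
  rw [← Nat.card_eq_fintype_card]
  apply Nat.card_eq_of_bijective (fun w : ↥D.natW => D.vec w.1 w.2.1 0)
  constructor
  · intro a b hab
    apply Subtype.ext
    apply D.eq_of_vec_eq a.2.1 b.2.1
    ext i
    fin_cases i
    · exact hab
    · exact a.2.2.trans b.2.2.symm
  · intro c
    obtain ⟨v, hv, hvec⟩ := D.exists_vec_eq ![c, 0]
    refine ⟨⟨v, hv, ?_⟩, ?_⟩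
    · rw [hvec]; rfl
    · show D.vec v hv 0 = c
      rw [hvec]; rfl

theorem NatSL2Data.isStd_of_sylow {p : ℕ} [Fact p.Prime] (D : NatSL2Data F V L) (S : Sylow p ↥L)
    (hstd : ∀ l : ↥L, l ∈ S ↔ D.ρ l • (vE0 : Fin 2 → F) = vE0) :
    D.IsStd ((S : Subgroup ↥L).map L.subtype) := by
  intro t
  constructor
  · rintro ⟨l, hl, rfl⟩
    exact ⟨l.2, (hstd l).1 hl⟩
  · rintro ⟨hl, h⟩
    exact ⟨⟨t, hl⟩, (hstd _).2 h, rfl⟩

/-- existence of standard data -/
theorem exists_std_data [Finite G] [Fintype F] {p : ℕ} [Fact p.Prime] (n : ℕ)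
    (hF : Fintype.card F = p ^ n) (hnat : IsNaturalSL2Module F V L)
    (hf : L ⊓ Subgroup.centralizer (V : Set G) = ⊥) (S : Sylow p ↥L) :
    ∃ D : NatSL2Data F V L, D.IsStd ((S : Subgroup ↥L).map L.subtype) := by
  have : CharP F p := charP_of_card_eq_prime_pow hF
  obtain ⟨D₀⟩ := exists_natSL2Data hnat hf
  obtain ⟨D, hD⟩ := exists_natSL2Data_std (p := p) D₀ S
  exact ⟨D, D.isStd_of_sylow S hD⟩

/-- S2779 -/
theorem natural_sl2_sylow_facts [Finite G] [Fintype F] {p : ℕ} [Fact p.Prime] (n : ℕ)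
    (hF : Fintype.card F = p ^ n) (hnat : IsNaturalSL2Module F V L)
    (hf : L ⊓ Subgroup.centralizer (V : Set G) = ⊥) (S : Sylow p ↥L) (T : Subgroup G)
    (hT : T = ((S : Subgroup ↥L).map L.subtype)) :
    ⁅⁅V, T⁆, T⁆ = ⊥ ∧ Nat.card V = p ^ (2 * n) ∧
    Nat.card ↥(V ⊓ Subgroup.centralizer ((T : Subgroup G) : Set G)) = p ^ n ∧
    ∀ s ∈ T, s ≠ 1 →
      (V ⊓ Subgroup.centralizer ({s} : Set G)) =
        (V ⊓ Subgroup.centralizer ((T : Subgroup G) : Set G)) ∧
      ⁅V, T⁆ = (V ⊓ Subgroup.centralizer ((T : Subgroup G) : Set G)) ∧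
      ⁅V, Subgroup.zpowers s⁆ = (V ⊓ Subgroup.centralizer ((T : Subgroup G) : Set G)) ∧
      ∀ v ∈ V, v ∉ Subgroup.centralizer (T : Set G) →
        Subgroup.closure {x : G | ∃ t ∈ T, x = v * t * v⁻¹ * t⁻¹} =
          (V ⊓ Subgroup.centralizer ((T : Subgroup G) : Set G)) := by
  subst hT
  obtain ⟨D, hD⟩ := exists_std_data n hF hnat hf S
  have hC := hD.inf_centralizer
  refine ⟨hD.commutator_commutator_eq_bot, ?_, ?_, ?_⟩
  · rw [D.card_V, hF, ← pow_mul, mul_comm]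
  · rw [hC, D.card_natW, hF]
  · intro s hs h1
    rw [hC]
    exact ⟨hD.inf_centralizer_singleton hs h1, hD.commutator_eq, hD.commutator_zpowers_eq hs h1,
      fun v hv hvc => hD.closure_commutators_eq hv hvc⟩

end NatStd3

end Cfsg.Agent.Helper14
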