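import Cfsg.Agent.Helper14.NatStd3
import Cfsg.Agent.Helper14.Conj

set_option autoImplicit false
set_option linter.unusedSectionVars false

namespace Cfsg.Agent.Helper14

open Matrix Cfsg

section NatStd4

variable {G : Type*} [Group G] {F : Type*} [Field F] {V L : Subgroup G}
variable {D : NatSL2Data F V L} {T : Subgroup G}

theorem sl2_upper_smul_e0 {r : SpecialLinearGroup (Fin 2) F} (h : r.1 1 0 = 0) :
    r • (vE0 : Fin 2 → F) = r.1 0 0 • (vE0 : Fin 2 → F) := by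
  ext i
  rw [sl2_smul_apply]
  fin_cases i <;> simp [vE0, h]

theorem sl2_upper_00_ne_zero {r : SpecialLinearGroup (Fin 2) F} (h : r.1 1 0 = 0) :
    r.1 0 0 ≠ 0 := by
  intro h0
  have hd := sl2_det' r
  rw [h0, h] at hd
  simp at hd

/-- upper triangular elements normalize the stabilizer of `e₀` -/
theorem sl2_upper_conj_stab {r u : SpecialLinearGroup (Fin 2) F} (h : r.1 1 0 = 0)
    (hu : u • (vE0 : Fin 2 → F) = vE0) : (r * u * r⁻¹) • (vE0 : Fin 2 → F) = vE0 := by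
  have h00 := sl2_upper_00_ne_zero h
  have h1 : r⁻¹ • (vE0 : Fin 2 → F) = (r.1 0 0)⁻¹ • (vE0 : Fin 2 → F) := by
    rw [inv_smul_eq_iff, smul_comm, sl2_upper_smul_e0 h, smul_smul, inv_mul_cancel₀ h00, one_smul]
  rw [mul_smul, mul_smul, h1, smul_comm u, hu, smul_comm r, sl2_upper_smul_e0 h, smul_smul,
    inv_mul_cancel₀ h00, one_smul]

theorem NatSL2Data.IsStd.map_cj_le_of_upper (hT : D.IsStd T) {l : G} (hl : l ∈ L)
    (h : (D.ρ ⟨l, hl⟩).1 1 0 = 0) : T.map (cj l) ≤ T := by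
  rintro _ ⟨t, ht, rfl⟩
  rw [cj_apply, hT]
  have htL := hT.le ht
  refine ⟨L.mul_mem (L.mul_mem hl htL) (L.inv_mem hl), ?_⟩
  have e : (⟨l * t * l⁻¹, L.mul_mem (L.mul_mem hl htL) (L.inv_mem hl)⟩ : ↥L) =
      ⟨l, hl⟩ * ⟨t, htL⟩ * ⟨l, hl⟩⁻¹ := rfl
  rw [e, map_mul, map_mul, map_inv]
  exact sl2_upper_conj_stab h ((hT t).1 ht).2

theorem sl2_inv_10 (r : SpecialLinearGroup (Fin 2) F) : (r⁻¹).1 1 0 = - r.1 1 0 := by
  have h : ((r⁻¹ : SpecialLinearGroup (Fin 2) F) : Matrix (Fin 2) (Fin 2) F) =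
      adjugate (r : Matrix (Fin 2) (Fin 2) F) := Matrix.SpecialLinearGroup.coe_inv r
  have h2 := congrFun (congrFun h 1) 0
  rw [Matrix.adjugate_fin_two] at h2
  exact h2

theorem NatSL2Data.IsStd.mem_normalizer_of_upper (hT : D.IsStd T) {l : G} (hl : l ∈ L)
    (h : (D.ρ ⟨l, hl⟩).1 1 0 = 0) : l ∈ Subgroup.normalizer (T : Set G) := by
  rw [mem_normalizer_iff_map_cj]
  apply le_antisymm (hT.map_cj_le_of_upper hl h)
  have h' : (D.ρ ⟨l⁻¹, L.inv_mem hl⟩).1 1 0 = 0 := by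
    have e : (⟨l⁻¹, L.inv_mem hl⟩ : ↥L) = ⟨l, hl⟩⁻¹ := rfl
    rw [e, map_inv, sl2_inv_10, h, neg_zero]
  have h2 := hT.map_cj_le_of_upper (L.inv_mem hl) h'
  have h3 := Subgroup.map_mono (f := cj l) h2
  rwa [map_cj_inv_map_cj] at h3

end NatStd4

end Cfsg.Agent.Helper14
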