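import Cfsg.Agent.Helper14.NatStd4
import Cfsg.Prelude.Def_TwoFusion

set_option autoImplicit false
set_option linter.unusedSectionVars false

namespace Cfsg.Agent.Helper14

open Matrix Cfsg

section NatStd5

variable {G : Type*} [Group G] {F : Type*} [Field F] {V L : Subgroup G}
variable {D : NatSL2Data F V L} {T : Subgroup G}

theorem NatSL2Data.comm (D : NatSL2Data F V L) {a b : G} (ha : a ∈ V) (hb : b ∈ V) :
    a * b = b * a := by
  apply D.eq_of_vec_eq (V.mul_mem ha hb) (V.mul_mem hb ha)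
  rw [D.vec_mul ha hb, D.vec_mul hb ha, add_comm]

theorem NatSL2Data.eq_one_of_vec_eq_zero (D : NatSL2Data F V L) {a : G} (ha : a ∈ V)
    (h : D.vec a ha = 0) : a = 1 := by
  apply D.eq_of_vec_eq ha V.one_mem
  rw [h, D.vec_one]

/-- (3): irreducibility of `C_V(T)` under the torus -/
theorem NatSL2Data.IsStd.irreducible_natW (hT : D.IsStd T) (U : Subgroup G) (hU : U ≤ D.natW)
    (hN : L ⊓ Subgroup.normalizer (T : Set G) ≤ Subgroup.normalizer (U : Set G)) :
    U = ⊥ ∨ U = D.natW := by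
  by_cases hbot : U = ⊥
  · exact Or.inl hbot
  right
  obtain ⟨⟨u, hu⟩, hu1⟩ := (Subgroup.ne_bot_iff_exists_ne_one).1 hbot
  have hu1' : u ≠ 1 := fun h => hu1 (Subtype.ext h)
  obtain ⟨huV, hu0⟩ := hU hu
  have hc : D.vec u huV 0 ≠ 0 := by
    intro h0
    apply hu1'
    apply D.eq_one_of_vec_eq_zero huV
    ext i
    fin_cases i
    · exact h0
    · exact hu0
  apply le_antisymm hU
  intro w hw
  obtain ⟨hwV, hw0⟩ := hw
  by_cases hc' : D.vec w hwV 0 = 0
  · have : w = 1 := by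
      apply D.eq_one_of_vec_eq_zero hwV
      ext i
      fin_cases i
      · exact hc'
      · exact hw0
    rw [this]; exact U.one_mem
  set a := D.vec w hwV 0 / D.vec u huV 0 with ha
  have ha0 : a ≠ 0 := div_ne_zero hc' hc
  obtain ⟨d, hd⟩ := D.surj (sl2D a ha0)
  have hdN : (d : G) ∈ Subgroup.normalizer (T : Set G) := by
    apply hT.mem_normalizer_of_upper d.2
    show (D.ρ d).1 1 0 = 0
    rw [hd]; rfl
  have hdU := hN ⟨d.2, hdN⟩
  have hconj : (d : G) * u * (d : G)⁻¹ ∈ U := (Subgroup.mem_normalizer_iff.1 hdU u).1 hu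
  have : w = (d : G) * u * (d : G)⁻¹ := by
    apply D.eq_of_vec_eq hwV (D.conj_mem d.2 huV)
    have hd' : D.ρ ⟨(d : G), d.2⟩ = sl2D a ha0 := hd
    rw [D.vec_conj d.2 huV, hd', sl2D_smul]
    ext i
    fin_cases i
    · simp [ha]
      field_simp
    · simp [hw0, hu0]
  rw [this]; exact hconj

/-- (4): irreducibility of `V / C_V(T)` under the torus -/
theorem NatSL2Data.IsStd.irreducible_quot (hT : D.IsStd T) (U : Subgroup G) (hWU : D.natW ≤ U)
    (hUV : U ≤ V)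
    (hN : L ⊓ Subgroup.normalizer (T : Set G) ≤ Subgroup.normalizer (U : Set G)) :
    U = D.natW ∨ U = V := by
  by_cases hW : U ≤ D.natW
  · exact Or.inl (le_antisymm hW hWU)
  right
  obtain ⟨u, hu, huW⟩ := SetLike.not_le_iff_exists.1 hW
  have huV := hUV hu
  have hy : D.vec u huV 1 ≠ 0 := fun h0 => huW ⟨huV, h0⟩
  apply le_antisymm hUV
  intro v hv
  by_cases hy' : D.vec v hv 1 = 0
  · exact hWU ⟨hv, hy'⟩
  set a := D.vec u huV 1 / D.vec v hv 1 with ha
  have ha0 : a ≠ 0 := div_ne_zero hy hy'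
  obtain ⟨d, hd⟩ := D.surj (sl2D a ha0)
  have hdN : (d : G) ∈ Subgroup.normalizer (T : Set G) := by
    apply hT.mem_normalizer_of_upper d.2
    show (D.ρ d).1 1 0 = 0
    rw [hd]; rfl
  have hdU := hN ⟨d.2, hdN⟩
  have hconj : (d : G) * u * (d : G)⁻¹ ∈ U := (Subgroup.mem_normalizer_iff.1 hdU u).1 hu
  have hcV := D.conj_mem d.2 huV
  -- v = (d u d⁻¹) * w with w ∈ W
  have hwV : ((d : G) * u * (d : G)⁻¹)⁻¹ * v ∈ V := V.mul_mem (V.inv_mem hcV) hv
  have hwW : ((d : G) * u * (d : G)⁻¹)⁻¹ * v ∈ D.natW := by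
    refine ⟨hwV, ?_⟩
    have hd' : D.ρ ⟨(d : G), d.2⟩ = sl2D a ha0 := hd
    rw [D.vec_mul (V.inv_mem hcV) hv, D.vec_inv hcV, D.vec_conj d.2 huV, hd', sl2D_smul]
    simp [ha]
    field_simp
    ring
  have : v = ((d : G) * u * (d : G)⁻¹) * (((d : G) * u * (d : G)⁻¹)⁻¹ * v) := by group
  rw [this]
  exact U.mul_mem hconj (hWU hwW)

end NatStd5

end Cfsg.Agent.Helper14
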