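import Cfsg.Agent.Helper14.NatStd5

set_option autoImplicit false
set_option linter.unusedSectionVars false

namespace Cfsg.Agent.Helper14

open Matrix Cfsg

section NatStd6

variable {G : Type*} [Group G] {F : Type*} [Field F] {V L : Subgroup G}
variable {D : NatSL2Data F V L} {T : Subgroup G}

theorem sl2_inv_11 (r : SpecialLinearGroup (Fin 2) F) : (r⁻¹).1 1 1 = r.1 0 0 := by
  have h : ((r⁻¹ : SpecialLinearGroup (Fin 2) F) : Matrix (Fin 2) (Fin 2) F) =
      adjugate (r : Matrix (Fin 2) (Fin 2) F) := Matrix.SpecialLinearGroup.coe_inv r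
  have h2 := congrFun (congrFun h 1) 1
  rw [Matrix.adjugate_fin_two] at h2
  exact h2

/-- membership in `C_V(T^g)` in coordinates -/
theorem NatSL2Data.IsStd.mem_inf_centralizer_conj (hT : D.IsStd T) {g : G} (hg : g ∈ L) (v : G) :
    v ∈ V ⊓ Subgroup.centralizer ((T.map (MulAut.conj g).toMonoidHom : Subgroup G) : Set G) ↔
      ∃ hv : v ∈ V, (D.ρ ⟨g, hg⟩).1 0 0 * D.vec v hv 1 = (D.ρ ⟨g, hg⟩).1 1 0 * D.vec v hv 0 := by
  have hcent : Subgroup.centralizer ((T.map (MulAut.conj g).toMonoidHom : Subgroup G) : Set G) =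
      (Subgroup.centralizer (T : Set G)).map (cj g) := (map_cj_centralizer T g).symm
  rw [Subgroup.mem_inf, hcent, mem_map_cj]
  have hginv : g⁻¹ ∈ L := L.inv_mem hg
  have key : ∀ hv : v ∈ V, (g⁻¹ * v * g ∈ Subgroup.centralizer (T : Set G) ↔
      (D.ρ ⟨g, hg⟩).1 0 0 * D.vec v hv 1 = (D.ρ ⟨g, hg⟩).1 1 0 * D.vec v hv 0) := by
    intro hv
    have hcV : g⁻¹ * v * g ∈ V := by
      have := D.conj_mem hginv hv
      rwa [inv_inv] at this
    have hvec : D.vec (g⁻¹ * v * g) hcV = (D.ρ ⟨g, hg⟩)⁻¹ • D.vec v hv := by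
      have h1 := D.vec_conj hginv hv
      have e : (⟨g⁻¹, hginv⟩ : ↥L) = ⟨g, hg⟩⁻¹ := rfl
      rw [e, map_inv] at h1
      rw [← h1]
      apply D.vec_congr
      rw [inv_inv]
    have h2 : g⁻¹ * v * g ∈ Subgroup.centralizer (T : Set G) ↔ g⁻¹ * v * g ∈ D.natW := by
      rw [← hT.inf_centralizer, Subgroup.mem_inf]
      exact ⟨fun h => ⟨hcV, h⟩, fun h => h.2⟩
    rw [h2, D.mem_natW]
    constructor
    · rintro ⟨_, h0⟩
      rw [hvec, sl2_smul_apply, sl2_inv_10, sl2_inv_11] at h0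
      linear_combination h0
    · intro h0
      refine ⟨hcV, ?_⟩
      rw [hvec, sl2_smul_apply, sl2_inv_10, sl2_inv_11]
      linear_combination h0
  constructor
  · rintro ⟨hv, hc⟩
    exact ⟨hv, (key hv).1 hc⟩
  · rintro ⟨hv, h0⟩
    exact ⟨hv, (key hv).2 h0⟩

/-- (1): `V = C_V(T) × C_V(T^g)` for `g ∉ N(T)` -/
theorem NatSL2Data.IsStd.internal_direct (hT : D.IsStd T) {g : G} (hg : g ∈ L)
    (hgN : g ∉ Subgroup.normalizer (T : Set G)) :
    IsInternalDirectProduct (V ⊓ Subgroup.centralizer ((T : Subgroup G) : Set G))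
      (V ⊓ Subgroup.centralizer ((T.map (MulAut.conj g).toMonoidHom : Subgroup G) : Set G)) V := by
  have hr : (D.ρ ⟨g, hg⟩).1 1 0 ≠ 0 := fun h => hgN (hT.mem_normalizer_of_upper hg h)
  set r10 := (D.ρ ⟨g, hg⟩).1 1 0 with hr10
  set r00 := (D.ρ ⟨g, hg⟩).1 0 0 with hr00
  rw [hT.inf_centralizer]
  refine ⟨D.natW_le, inf_le_left, ?_, ?_, ?_⟩
  · intro a ha b hb
    exact D.comm ha.1 hb.1
  · rw [eq_bot_iff]
    rintro v ⟨⟨hvV, h1⟩, hv2⟩
    obtain ⟨hvV', h2⟩ := (hT.mem_inf_centralizer_conj hg v).1 hv2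
    rw [Subgroup.mem_bot]
    apply D.eq_one_of_vec_eq_zero hvV
    have h3 : r10 * D.vec v hvV 0 = 0 := by
      rw [← h2, h1, mul_zero]
    ext i
    fin_cases i
    · exact (mul_eq_zero.1 h3).resolve_left hr
    · exact h1
  · apply le_antisymm (sup_le D.natW_le inf_le_left)
    intro v hv
    obtain ⟨w', hw'V, hw'⟩ := D.exists_vec_eq ![D.vec v hv 1 * r00 / r10, D.vec v hv 1]
    have hw'2 : w' ∈ V ⊓ Subgroup.centralizer
        ((T.map (MulAut.conj g).toMonoidHom : Subgroup G) : Set G) := by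
      rw [hT.mem_inf_centralizer_conj hg]
      refine ⟨hw'V, ?_⟩
      rw [hw', ← hr10, ← hr00]
      simp
      field_simp
    have hw : v * w'⁻¹ ∈ D.natW := by
      refine ⟨V.mul_mem hv (V.inv_mem hw'V), ?_⟩
      rw [D.vec_mul hv (V.inv_mem hw'V), D.vec_inv hw'V, hw']
      simp
    have : v = (v * w'⁻¹) * w' := by group
    rw [this]
    exact Subgroup.mul_mem_sup hw hw'2

/-- (2): `p'`-elements act fixed-point-freely -/
theorem NatSL2Data.fixed_point_free [Fintype F] {p : ℕ} [Fact p.Prime] [CharP F p]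
    (D : NatSL2Data F V L) {x : G} (hx : x ∈ L) (hx1 : x ≠ 1) (hcop : (orderOf x).Coprime p) :
    V ⊓ Subgroup.centralizer ({x} : Set G) = ⊥ := by
  rw [eq_bot_iff]
  rintro v ⟨hvV, hvc⟩
  rw [Subgroup.mem_bot]
  by_contra hv1
  have he : D.vec v hvV ≠ 0 := fun h => hv1 (D.eq_one_of_vec_eq_zero hvV h)
  have hfix := (D.mem_centralizer_iff hx hvV).1 hvc
  obtain ⟨y, hy⟩ := exists_sl2_smul_e0 (D.vec v hvV) he
  have hy' : y • (vE0 : Fin 2 → F) = D.vec v hvV := hy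
  have hmem : y⁻¹ * D.ρ ⟨x, hx⟩ * y ∈ sl2Stab F := by
    rw [mem_sl2Stab, mul_smul, mul_smul, hy', hfix, ← hy', inv_smul_smul]
  obtain ⟨k, hk⟩ := (isPGroup_sl2Stab (F := F) (p := p)) ⟨_, hmem⟩
  have hk' : (y⁻¹ * D.ρ ⟨x, hx⟩ * y) ^ (p ^ k) = 1 := by
    have := congrArg Subtype.val hk
    simpa using this
  have hk2 : (D.ρ ⟨x, hx⟩) ^ (p ^ k) = 1 := by
    have e : (y⁻¹ * D.ρ ⟨x, hx⟩ * y) ^ (p ^ k) = y⁻¹ * (D.ρ ⟨x, hx⟩) ^ (p ^ k) * y := by
      have := conj_pow (a := y⁻¹) (b := D.ρ ⟨x, hx⟩) (i := p ^ k)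
      rw [inv_inv] at this
      exact this
    rw [e] at hk'
    have : (D.ρ ⟨x, hx⟩) ^ (p ^ k) = y * (y⁻¹ * (D.ρ ⟨x, hx⟩) ^ (p ^ k) * y) * y⁻¹ := by group
    rw [this, hk']
    group
  have hk3 : (⟨x, hx⟩ : ↥L) ^ (p ^ k) = 1 := D.inj (by rw [map_pow, hk2, map_one])
  have hk4 : x ^ (p ^ k) = 1 := by
    have := congrArg Subtype.val hk3
    simpa using this
  have hdvd : orderOf x ∣ p ^ k := orderOf_dvd_of_pow_eq_one hk4
  have h1 : orderOf x = 1 := Nat.Coprime.eq_one_of_dvd (hcop.pow_right k) hdvd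
  exact hx1 (orderOf_eq_one_iff.1 h1)

/-- S2780 -/
theorem natural_sl2_module_facts [Finite G] [Fintype F] {p : ℕ} [Fact p.Prime] (n : ℕ)
    (hF : Fintype.card F = p ^ n) (hnat : IsNaturalSL2Module F V L)
    (hf : L ⊓ Subgroup.centralizer (V : Set G) = ⊥) (S : Sylow p ↥L) (T : Subgroup G)
    (hT : T = ((S : Subgroup ↥L).map L.subtype)) :
    (∀ g ∈ L, g ∉ Subgroup.normalizer (T : Set G) →
      IsInternalDirectProduct (V ⊓ Subgroup.centralizer ((T : Subgroup G) : Set G))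
        (V ⊓ Subgroup.centralizer ((T.map (MulAut.conj g).toMonoidHom : Subgroup G) : Set G)) V) ∧
    (∀ x ∈ L, x ≠ 1 → (orderOf x).Coprime p →
      (V ⊓ Subgroup.centralizer ({x} : Set G)) = ⊥) ∧
    (∀ U : Subgroup G, U ≤ (V ⊓ Subgroup.centralizer ((T : Subgroup G) : Set G)) →
      L ⊓ Subgroup.normalizer (T : Set G) ≤ Subgroup.normalizer (U : Set G) →
      U = ⊥ ∨ U = (V ⊓ Subgroup.centralizer ((T : Subgroup G) : Set G))) ∧
    (∀ U : Subgroup G, (V ⊓ Subgroup.centralizer ((T : Subgroup G) : Set G)) ≤ U → U ≤ V →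
      L ⊓ Subgroup.normalizer (T : Set G) ≤ Subgroup.normalizer (U : Set G) →
      U = (V ⊓ Subgroup.centralizer ((T : Subgroup G) : Set G)) ∨ U = V) := by
  subst hT
  have hchar : CharP F p := charP_of_card_eq_prime_pow hF
  obtain ⟨D, hD⟩ := exists_std_data n hF hnat hf S
  refine ⟨fun g hg hgN => hD.internal_direct hg hgN,
    fun x hx hx1 hcop => D.fixed_point_free hx hx1 hcop, ?_, ?_⟩
  · rw [hD.inf_centralizer]
    exact fun U hU hN => hD.irreducible_natW U hU hN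
  · rw [hD.inf_centralizer]
    exact fun U hWU hUV hN => hD.irreducible_quot U hWU hUV hN

end NatStd6

end Cfsg.Agent.Helper14
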