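import Cfsg.Agent.Helper14.NatData

set_option autoImplicit false
set_option linter.unusedSectionVars false

namespace Cfsg.Agent.Helper14

open Matrix Cfsg

section NatVec

variable {G : Type*} [Group G] {F : Type*} [Field F] {V L : Subgroup G}

/-- coordinates of an element of `V` -/
def NatSL2Data.vec (D : NatSL2Data F V L) (g : G) (h : g ∈ V) : Fin 2 → F :=
  D.ψ (Additive.ofMul ⟨g, h⟩)

theorem NatSL2Data.vec_mul (D : NatSL2Data F V L) {a b : G} (ha : a ∈ V) (hb : b ∈ V) :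
    D.vec (a * b) (V.mul_mem ha hb) = D.vec a ha + D.vec b hb := by
  have : (Additive.ofMul (⟨a * b, V.mul_mem ha hb⟩ : ↥V)) =
      Additive.ofMul (⟨a, ha⟩ : ↥V) + Additive.ofMul (⟨b, hb⟩ : ↥V) := rfl
  unfold NatSL2Data.vec
  rw [this, map_add]

theorem NatSL2Data.vec_one (D : NatSL2Data F V L) : D.vec 1 V.one_mem = 0 := by
  have : (Additive.ofMul (⟨1, V.one_mem⟩ : ↥V)) = 0 := rfl
  unfold NatSL2Data.vec
  rw [this, map_zero]

theorem NatSL2Data.vec_inv (D : NatSL2Data F V L) {a : G} (ha : a ∈ V) :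
    D.vec a⁻¹ (V.inv_mem ha) = - D.vec a ha := by
  have : (Additive.ofMul (⟨a⁻¹, V.inv_mem ha⟩ : ↥V)) = - Additive.ofMul (⟨a, ha⟩ : ↥V) := rfl
  unfold NatSL2Data.vec
  rw [this, map_neg]

theorem NatSL2Data.vec_congr (D : NatSL2Data F V L) {a b : G} (ha : a ∈ V) (hb : b ∈ V)
    (h : a = b) : D.vec a ha = D.vec b hb := by
  subst h; rfl

theorem NatSL2Data.eq_of_vec_eq (D : NatSL2Data F V L) {a b : G} (ha : a ∈ V) (hb : b ∈ V)
    (h : D.vec a ha = D.vec b hb) : a = b := by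
  have := D.ψ.injective h
  exact congrArg Subtype.val (Additive.ofMul.injective this)

theorem NatSL2Data.exists_vec_eq (D : NatSL2Data F V L) (x : Fin 2 → F) :
    ∃ (g : G) (h : g ∈ V), D.vec g h = x := by
  obtain ⟨a, ha⟩ := D.ψ.surjective x
  exact ⟨(Additive.toMul a).1, (Additive.toMul a).2, ha⟩

theorem NatSL2Data.conj_mem (D : NatSL2Data F V L) {l v : G} (hl : l ∈ L) (hv : v ∈ V) :
    l * v * l⁻¹ ∈ V := (Subgroup.mem_normalizer_iff.1 (D.norm hl) v).1 hv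

theorem NatSL2Data.vec_conj (D : NatSL2Data F V L) {l v : G} (hl : l ∈ L) (hv : v ∈ V) :
    D.vec (l * v * l⁻¹) (D.conj_mem hl hv) = D.ρ ⟨l, hl⟩ • D.vec v hv :=
  D.equiv ⟨l, hl⟩ ⟨v, hv⟩ ⟨l * v * l⁻¹, D.conj_mem hl hv⟩ rfl

theorem NatSL2Data.mem_centralizer_iff (D : NatSL2Data F V L) {l v : G} (hl : l ∈ L)
    (hv : v ∈ V) : v ∈ Subgroup.centralizer ({l} : Set G) ↔ D.ρ ⟨l, hl⟩ • D.vec v hv = D.vec v hv := by
  rw [← D.vec_conj hl hv]
  constructor
  · intro h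
    apply D.vec_congr
    have := Subgroup.mem_centralizer_iff.1 h l rfl
    rw [this, mul_inv_cancel_right]
  · intro h
    have h2 := D.eq_of_vec_eq _ _ h
    rw [Subgroup.mem_centralizer_iff]
    intro g hg
    rw [Set.mem_singleton_iff.1 hg]
    calc l * v = (l * v * l⁻¹) * l := by group
      _ = v * l := by rw [h2]

theorem NatSL2Data.commutator_mem (D : NatSL2Data F V L) {l v : G} (hl : l ∈ L) (hv : v ∈ V) :
    v * l * v⁻¹ * l⁻¹ ∈ V := by
  have : v * l * v⁻¹ * l⁻¹ = v * (l * v * l⁻¹)⁻¹ := by group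
  rw [this]
  exact V.mul_mem hv (V.inv_mem (D.conj_mem hl hv))

theorem NatSL2Data.vec_commutator (D : NatSL2Data F V L) {l v : G} (hl : l ∈ L) (hv : v ∈ V) :
    D.vec (v * l * v⁻¹ * l⁻¹) (D.commutator_mem hl hv) = D.vec v hv - D.ρ ⟨l, hl⟩ • D.vec v hv := by
  have e : v * l * v⁻¹ * l⁻¹ = v * (l * v * l⁻¹)⁻¹ := by group
  rw [D.vec_congr (D.commutator_mem hl hv) (V.mul_mem hv (V.inv_mem (D.conj_mem hl hv))) e,
    D.vec_mul hv (V.inv_mem (D.conj_mem hl hv)), D.vec_inv (D.conj_mem hl hv),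
    D.vec_conj hl hv, sub_eq_add_neg]

end NatVec

end Cfsg.Agent.Helper14
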