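import Cfsg.Agent.Helper14.NilpSn1

/-!
# Arithmetic for nilpotent subgroups of alternating groups
-/

set_option autoImplicit false

namespace Cfsg.Agent.Helper14.NilpSn

theorem v2_div_two (n : ℕ) : v2 n = v2 (n / 2) + n / 2 := by
  rcases Nat.even_or_odd' n with ⟨k, rfl | rfl⟩
  · rw [v2_two_mul, Nat.mul_div_cancel_left k (by norm_num)]
  · rw [v2_two_mul_add_one, v2_two_mul]
    have : (2 * k + 1) / 2 = k := by omega
    rw [this]

/-- computable version of `v2` with fuel -/
def v2f : ℕ → ℕ → ℕ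
  | 0, _ => 0
  | f + 1, n => if n < 2 then 0 else n / 2 + v2f f (n / 2)

theorem v2_eq_v2f (f n : ℕ) (h : n ≤ f) : v2 n = v2f f n := by
  induction f generalizing n with
  | zero =>
    have : n = 0 := by omega
    subst this
    simp [v2f, v2_zero]
  | succ f ih =>
    unfold v2f
    split_ifs with h2
    · interval_cases n
      · exact v2_zero
      · exact v2_one
    · rw [v2_div_two, ih (n / 2) (by omega)]
      ring

/-- computable version of `BB` -/
def BBc (n : ℕ) : ℕ := if n % 4 = 3 then 3 * 2 ^ v2f n (n - 3) else 2 ^ v2f n n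

theorem BB_eq_BBc (n : ℕ) : BB n = BBc n := by
  unfold BB BBc
  rw [v2_eq_v2f n (n - 3) (by omega), v2_eq_v2f n n le_rfl]

/-- exceptional degrees -/
def EE : Finset ℕ := {0, 1, 3, 5, 6, 9}

def sp (n : ℕ) : ℕ := if n = 3 then 3 else if n = 5 then 5 else if n = 6 then 9 else
  if n = 9 then 81 else 1

/-- the bound for alternating groups -/
def AB (n : ℕ) : ℕ := if n ∈ EE then sp n else BB n / 2

def ABc (n : ℕ) : ℕ := if n ∈ EE then sp n else BBc n / 2

theorem AB_eq_ABc (n : ℕ) : AB n = ABc n := by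
  unfold AB ABc
  rw [BB_eq_BBc]

theorem two_le_of_not_mem_EE {n : ℕ} (h : n ∉ EE) : 2 ≤ n := by
  by_contra hlt
  have : n = 0 ∨ n = 1 := by omega
  rcases this with rfl | rfl <;> exact h (by decide)

theorem v2_pos {n : ℕ} (h : 2 ≤ n) : 1 ≤ v2 n := by
  have := v2_mono h
  rwa [v2_two] at this

theorem two_dvd_BB {n : ℕ} (h : n ∉ EE) : 2 ∣ BB n := by
  have h2 := two_le_of_not_mem_EE h
  unfold BB
  split_ifs with h4
  · have h7 : 7 ≤ n := by
      by_contra hlt
      have : n = 3 := by omega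
      subst this
      exact h (by decide)
    have : 1 ≤ v2 (n - 3) := v2_pos (by omega)
    obtain ⟨k, hk⟩ : ∃ k, v2 (n - 3) = k + 1 := ⟨v2 (n - 3) - 1, by omega⟩
    rw [hk, pow_succ]
    exact ⟨3 * 2 ^ k, by ring⟩
  · have : 1 ≤ v2 n := v2_pos h2
    obtain ⟨k, hk⟩ : ∃ k, v2 n = k + 1 := ⟨v2 n - 1, by omega⟩
    rw [hk, pow_succ]
    exact ⟨2 ^ k, by ring⟩

theorem two_mul_AB {n : ℕ} (h : n ∉ EE) : 2 * AB n = BB n := by
  unfold AB
  rw [if_neg h]
  exact Nat.mul_div_cancel' (two_dvd_BB h)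

theorem BB_le_two_mul_AB (n : ℕ) : BB n ≤ 2 * AB n := by
  by_cases h : n ∈ EE
  · rw [BB_eq_BBc, AB_eq_ABc]
    have : ∀ m ∈ EE, BBc m ≤ 2 * ABc m := by decide
    exact this n h
  · rw [two_mul_AB h]

theorem AB_le_BB (n : ℕ) : AB n ≤ BB n := by
  by_cases h : n ∈ EE
  · rw [BB_eq_BBc, AB_eq_ABc]
    have : ∀ m ∈ EE, ABc m ≤ BBc m := by decide
    exact this n h
  · have := two_mul_AB h
    omega

theorem AB_pos (n : ℕ) : 0 < AB n := by
  by_cases h : n ∈ EE
  · rw [AB_eq_ABc]
    have : ∀ m ∈ EE, 0 < ABc m := by decide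
    exact this n h
  · have := two_mul_AB h
    have := BB_pos n
    omega

theorem AB_add (a b : ℕ) : AB a * AB b ≤ AB (a + b) := by
  rcases Nat.eq_zero_or_pos a with rfl | ha
  · have : AB 0 = 1 := by rw [AB_eq_ABc]; decide
    rw [this, one_mul, zero_add]
  rcases Nat.eq_zero_or_pos b with rfl | hb
  · have : AB 0 = 1 := by rw [AB_eq_ABc]; decide
    rw [this, mul_one, add_zero]
  by_cases hab : a + b ∈ EE
  · -- small cases
    have ha9 : a ≤ 9 := by
      have : a + b ≤ 9 := by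
        have : ∀ m ∈ EE, m ≤ 9 := by decide
        exact this _ hab
      omega
    have hb9 : b ≤ 9 := by
      have : a + b ≤ 9 := by
        have : ∀ m ∈ EE, m ≤ 9 := by decide
        exact this _ hab
      omega
    rw [AB_eq_ABc, AB_eq_ABc, AB_eq_ABc]
    have key : ∀ x ≤ 9, ∀ y ≤ 9, x + y ∈ EE → ABc x * ABc y ≤ ABc (x + y) := by decide
    exact key a ha9 b hb9 hab
  · have h2 : 2 * (AB a * AB b) ≤ BB (a + b) := by
      by_cases ha' : a ∈ EE
      · by_cases hb' : b ∈ EE
        · rw [AB_eq_ABc, AB_eq_ABc, BB_eq_BBc]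
          have key : ∀ x ∈ EE, ∀ y ∈ EE, 0 < x → 0 < y → x + y ∉ EE →
              2 * (ABc x * ABc y) ≤ BBc (x + y) := by decide
          exact key a ha' b hb' ha hb hab
        · calc 2 * (AB a * AB b) = AB a * (2 * AB b) := by ring
            _ = AB a * BB b := by rw [two_mul_AB hb']
            _ ≤ BB a * BB b := Nat.mul_le_mul (AB_le_BB a) le_rfl
            _ ≤ BB (a + b) := BB_add a b
      · calc 2 * (AB a * AB b) = (2 * AB a) * AB b := by ring
          _ = BB a * AB b := by rw [two_mul_AB ha']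
          _ ≤ BB a * BB b := Nat.mul_le_mul le_rfl (AB_le_BB b)
          _ ≤ BB (a + b) := BB_add a b
    have := two_mul_AB hab
    omega

end Cfsg.Agent.Helper14.NilpSn
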