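import Cfsg.Agent.Helper14.NilpAn1

/-!
# Arithmetic for nilpotent subgroups of alternating groups, II: transitive case
-/

set_option autoImplicit false

namespace Cfsg.Agent.Helper14.NilpSn

theorem two_mul_le_gg {n : ℕ} (hn : 6 ≤ n) : 2 * n ≤ 2 ^ v2 n := by
  rw [v2_div_two]
  have hk : 3 ≤ n / 2 := by omega
  have h1 := two_mul_add_one_le_pow hk
  have h2 : 1 ≤ v2 (n / 2) := v2_pos (by omega)
  have h3 : 2 ^ 1 ≤ 2 ^ v2 (n / 2) := Nat.pow_le_pow_right (by norm_num) h2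
  rw [pow_add]
  have h4 : n ≤ 2 * (n / 2) + 1 := by omega
  nlinarith

theorem two_t_step (p : ℕ) [hp : Fact p.Prime] (hp3 : 3 ≤ p) (e : ℕ)
    (h : 2 * p ^ av p e ≤ 2 ^ v2 (p ^ e)) : 2 * p ^ av p (e + 1) ≤ 2 ^ v2 (p ^ (e + 1)) := by
  rw [av_succ', pow_succ, pow_mul']
  have h1 : 2 * p ≤ 2 ^ p := by
    have := two_mul_add_one_le_pow hp3
    omega
  have h2 : (2 * p ^ av p e) ^ p ≤ (2 ^ v2 (p ^ e)) ^ p := Nat.pow_le_pow_left h p
  have h3 := v2_mul_ge p (n := p ^ e) (pow_ne_zero _ hp.out.ne_zero)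
  calc 2 * ((p ^ av p e) ^ p * p) = (2 * p) * (p ^ av p e) ^ p := by ring
    _ ≤ 2 ^ p * (p ^ av p e) ^ p := Nat.mul_le_mul h1 le_rfl
    _ = (2 * p ^ av p e) ^ p := by rw [mul_pow]
    _ ≤ (2 ^ v2 (p ^ e)) ^ p := h2
    _ = 2 ^ (p * v2 (p ^ e)) := by rw [← pow_mul, mul_comm]
    _ ≤ 2 ^ v2 (p ^ (e + 1)) := by
        rw [pow_succ' p e]
        exact Nat.pow_le_pow_right (by norm_num) (by omega)

theorem two_t_le_gg_from (p : ℕ) [hp : Fact p.Prime] (hp3 : 3 ≤ p) (e0 : ℕ)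
    (h0 : 2 * p ^ av p e0 ≤ 2 ^ v2 (p ^ e0)) (e : ℕ) (he : e0 ≤ e) :
    2 * p ^ av p e ≤ 2 ^ v2 (p ^ e) := by
  induction e, he using Nat.le_induction with
  | base => exact h0
  | succ e he ih => exact two_t_step p hp3 e ih

theorem av_one (p : ℕ) [Fact p.Prime] : av p 1 = 1 := by
  rw [av_succ', av_zero, mul_zero]

theorem two_t_le_gg_seven (p : ℕ) [hp : Fact p.Prime] (hp7 : 7 ≤ p) (e : ℕ) (he : 1 ≤ e) :
    2 * p ^ av p e ≤ 2 ^ v2 (p ^ e) := by
  apply two_t_le_gg_from p (by omega) 1 _ e he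
  rw [av_one, pow_one]
  exact two_mul_le_gg (by omega)

theorem two_t_le_gg_five (e : ℕ) (he : 2 ≤ e) : 2 * 5 ^ av 5 e ≤ 2 ^ v2 (5 ^ e) := by
  have : Fact (Nat.Prime 5) := ⟨by norm_num⟩
  apply two_t_le_gg_from 5 (by norm_num) 2 _ e he
  have h1 : av 5 2 = 6 := by rw [av_succ', av_one]
  rw [h1, show (5 : ℕ) ^ 2 = 25 by norm_num, v2_eq_v2f 25 25 le_rfl]
  decide

theorem two_t_le_gg_three (e : ℕ) (he : 3 ≤ e) : 2 * 3 ^ av 3 e ≤ 2 ^ v2 (3 ^ e) := by
  have : Fact (Nat.Prime 3) := ⟨by norm_num⟩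
  apply two_t_le_gg_from 3 (by norm_num) 3 _ e he
  have h1 : av 3 3 = 13 := by rw [av_succ', av_succ', av_one]
  rw [h1, show (3 : ℕ) ^ 3 = 27 by norm_num, v2_eq_v2f 27 27 le_rfl]
  decide

theorem le_AB_of_two_mul_le_gg {t n : ℕ} (h : 2 * t ≤ 2 ^ v2 n) : t ≤ AB n := by
  have h1 := gg_le_BB n
  have h2 := BB_le_two_mul_AB n
  omega

/-- odd prime powers: the Sylow bound is at most `AB` -/
theorem pow_av_le_AB (p : ℕ) [hp : Fact p.Prime] (hp2 : p ≠ 2) (e : ℕ) :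
    p ^ av p e ≤ AB (p ^ e) := by
  have h3 : 3 ≤ p := by
    have := hp.out.two_le
    omega
  rcases Nat.eq_zero_or_pos e with rfl | he
  · rw [av_zero, pow_zero, AB_eq_ABc]; decide
  rcases Nat.lt_or_ge p 7 with h7 | h7
  · interval_cases p
    · -- p = 3
      rcases Nat.lt_or_ge e 3 with h | h
      · interval_cases e
        · rw [av_one, AB_eq_ABc]; decide
        · have h1 : av 3 2 = 4 := by rw [av_succ', av_one]
          rw [h1, AB_eq_ABc]; decide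
      · exact le_AB_of_two_mul_le_gg (two_t_le_gg_three e h)
    · exact absurd hp.out (by norm_num)
    · -- p = 5
      rcases Nat.lt_or_ge e 2 with h | h
      · interval_cases e
        rw [av_one, AB_eq_ABc]; decide
      · exact le_AB_of_two_mul_le_gg (two_t_le_gg_five e h)
    · exact absurd hp.out (by norm_num)
  · exact le_AB_of_two_mul_le_gg (two_t_le_gg_seven p h7 e he)

theorem prod_pow_av_le_BB (S : Finset ℕ) (hS : ∀ p ∈ S, p.Prime) (a : ℕ → ℕ) :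
    ∏ p ∈ S, p ^ av p (a p) ≤ BB (∏ p ∈ S, p ^ a p) := by
  refine le_trans ?_ (prod_BB_le S (fun p => p ^ a p) ?_)
  · apply Finset.prod_le_prod'
    intro p hp
    have := Fact.mk (hS p hp)
    exact pow_av_le_BB p (a p)
  · intro p hp
    exact Nat.one_le_pow _ _ (hS p hp).pos

/-- the arithmetic of the transitive case -/
theorem prod_t_le_AB (n : ℕ) (hn : 1 ≤ n) (S : Finset ℕ) (hS : ∀ p ∈ S, p.Prime) (a : ℕ → ℕ)
    (ha : ∀ p ∈ S, 1 ≤ a p) (hd : ∏ p ∈ S, p ^ a p ∣ n) (hodd : ∃ p ∈ S, p ≠ 2) :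
    ∏ p ∈ S, p ^ av p (a p) ≤ AB n := by
  classical
  obtain ⟨p0, hp0S, hp02⟩ := hodd
  have hp0 : p0.Prime := hS p0 hp0S
  have := Fact.mk hp0
  have hp03 : 3 ≤ p0 := by
    have := hp0.two_le
    omega
  set d := ∏ p ∈ S, p ^ a p with hd_def
  have hTd : ∏ p ∈ S, p ^ av p (a p) ≤ BB d := prod_pow_av_le_BB S hS a
  -- d ≥ 3
  have hq0 : 3 ≤ p0 ^ a p0 := by
    calc 3 ≤ p0 := hp03
      _ = p0 ^ 1 := (pow_one p0).symm
      _ ≤ p0 ^ a p0 := Nat.pow_le_pow_right hp0.pos (ha p0 hp0S)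
  have hsplit : d = p0 ^ a p0 * ∏ p ∈ S.erase p0, p ^ a p := by
    rw [hd_def, ← Finset.mul_prod_erase S _ hp0S]
  have hm1 : 1 ≤ ∏ p ∈ S.erase p0, p ^ a p :=
    Nat.succ_le_of_lt (Finset.prod_pos (fun p hp =>
      Nat.pow_pos (hS p (Finset.mem_of_mem_erase hp)).pos))
  have hd3 : 3 ≤ d := by rw [hsplit]; nlinarith
  rcases Nat.lt_or_ge d n with hlt | hge
  · -- d < n, so 2 d ≤ n
    obtain ⟨c, hc⟩ := hd
    have hc2 : 2 ≤ c := by
      by_contra hcon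
      have : c = 0 ∨ c = 1 := by omega
      rcases this with rfl | rfl
      · omega
      · omega
    have h1 : d + d ≤ n := by rw [hc]; nlinarith
    have h2 : BB d * BB d ≤ BB n := (BB_add d d).trans (BB_mono h1)
    have h3 : 2 ≤ BB d := by
      have := BB_mono (show 2 ≤ d by omega)
      have h22 : BB 2 = 2 := by rw [BB_eq_BBc]; decide
      omega
    have h4 := BB_le_two_mul_AB n
    have h5 : 2 * BB d ≤ BB d * BB d := Nat.mul_le_mul h3 le_rfl
    omega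
  · have hdn : d = n := le_antisymm (Nat.le_of_dvd (by omega) hd) hge
    rw [← hdn]
    set m := ∏ p ∈ S.erase p0, p ^ a p with hm_def
    have hT : ∏ p ∈ S, p ^ av p (a p) =
        p0 ^ av p0 (a p0) * ∏ p ∈ S.erase p0, p ^ av p (a p) := by
      rw [← Finset.mul_prod_erase S _ hp0S]
    have hT' : ∏ p ∈ S.erase p0, p ^ av p (a p) ≤ BB m :=
      prod_pow_av_le_BB (S.erase p0) (fun p hp => hS p (Finset.mem_of_mem_erase hp)) a
    rw [hT, hsplit]
    rcases Nat.eq_or_lt_of_le hm1 with hm | hm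
    · -- m = 1
      rw [← hm] at hT' ⊢
      rw [BB_one] at hT'
      rw [mul_one]
      calc p0 ^ av p0 (a p0) * ∏ p ∈ S.erase p0, p ^ av p (a p)
          ≤ p0 ^ av p0 (a p0) * 1 := Nat.mul_le_mul le_rfl hT'
        _ = p0 ^ av p0 (a p0) := mul_one _
        _ ≤ AB (p0 ^ a p0) := pow_av_le_AB p0 hp02 (a p0)
    · have hq : p0 ^ av p0 (a p0) ≤ BB (p0 ^ a p0) := pow_av_le_BB p0 (a p0)
      have hprod : p0 ^ av p0 (a p0) * ∏ p ∈ S.erase p0, p ^ av p (a p) ≤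
          BB (p0 ^ a p0) * BB m := Nat.mul_le_mul hq hT'
      by_cases h6 : p0 ^ a p0 = 3 ∧ m = 2
      · rw [h6.1, h6.2] at hprod ⊢
        have e1 : BB 3 * BB 2 = 6 := by rw [BB_eq_BBc, BB_eq_BBc]; decide
        have e2 : AB (3 * 2) = 9 := by rw [AB_eq_ABc]; decide
        rw [e1] at hprod
        rw [e2]
        omega
      · have hbig : p0 ^ a p0 + m + 2 ≤ p0 ^ a p0 * m := by
          rcases Nat.eq_or_lt_of_le hq0 with h3 | h3
          · have hm3 : 3 ≤ m := by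
              by_contra hcon
              exact h6 ⟨h3.symm, by omega⟩
            rw [← h3]; omega
          · nlinarith
        have h22 : BB 2 = 2 := by rw [BB_eq_BBc]; decide
        have h7 : 2 * (BB (p0 ^ a p0) * BB m) ≤ BB (p0 ^ a p0 * m) := by
          calc 2 * (BB (p0 ^ a p0) * BB m) ≤ BB 2 * BB (p0 ^ a p0 + m) := by
                rw [h22]; exact Nat.mul_le_mul le_rfl (BB_add _ _)
            _ ≤ BB (2 + (p0 ^ a p0 + m)) := BB_add _ _
            _ ≤ BB (p0 ^ a p0 * m) := BB_mono (by omega)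
        have h8 := BB_le_two_mul_AB (p0 ^ a p0 * m)
        omega

end Cfsg.Agent.Helper14.NilpSn
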