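import Cfsg.Agent.Helper14.NilpSn2

/-!
# Nilpotent subgroups of symmetric groups: orders are at most `BB n`
-/

set_option autoImplicit false

namespace Cfsg.Agent.Helper14.NilpSn

open Equiv

universe u

section Restrict

variable {Ω : Type u} (N : Subgroup (Perm Ω)) (s : Set Ω)

/-- restriction of a permutation group to an invariant set -/
def restr (hs : ∀ g ∈ N, ∀ x, g x ∈ s ↔ x ∈ s) : ↥N →* Perm ↥s where
  toFun g := (g : Perm Ω).subtypePerm (hs g g.2)
  map_one' := by
    ext x
    rfl
  map_mul' g h := by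
    ext x
    rfl

theorem restr_apply (hs : ∀ g ∈ N, ∀ x, g x ∈ s ↔ x ∈ s) (g : ↥N) (x : ↥s) :
    ((restr N s hs g) x : Ω) = (g : Perm Ω) x := rfl

theorem compl_invariant (hs : ∀ g ∈ N, ∀ x, g x ∈ s ↔ x ∈ s) :
    ∀ g ∈ N, ∀ x, g x ∈ sᶜ ↔ x ∈ sᶜ := by
  intro g hg x
  exact not_congr (hs g hg x)

theorem card_le_mul_of_invariant [Finite Ω] (hs : ∀ g ∈ N, ∀ x, g x ∈ s ↔ x ∈ s) :
    Nat.card N ≤ Nat.card (restr N s hs).range *
      Nat.card (restr N sᶜ (compl_invariant N s hs)).range := by
  classical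
  rw [← Nat.card_prod]
  let F : ↥N → ↥(restr N s hs).range × ↥(restr N sᶜ (compl_invariant N s hs)).range :=
    fun g => (⟨restr N s hs g, ⟨g, rfl⟩⟩, ⟨restr N sᶜ (compl_invariant N s hs) g, ⟨g, rfl⟩⟩)
  apply Nat.card_le_card_of_injective F
  intro g h hgh
  have h1 : restr N s hs g = restr N s hs h := congrArg (fun z => (z.1 : Perm ↥s)) hgh
  have h2 : restr N sᶜ (compl_invariant N s hs) g = restr N sᶜ (compl_invariant N s hs) h :=
    congrArg (fun z => (z.2 : Perm ↥(sᶜ))) hgh
  apply Subtype.ext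
  ext x
  by_cases hx : x ∈ s
  · have := congrArg (fun σ : Perm ↥s => ((σ ⟨x, hx⟩ : ↥s) : Ω)) h1
    exact this
  · have := congrArg (fun σ : Perm ↥(sᶜ) => ((σ ⟨x, hx⟩ : ↥(sᶜ)) : Ω)) h2
    exact this

end Restrict

/-- the main bound: a nilpotent permutation group of degree `n` has order at most `BB n` -/
theorem card_le_BB : ∀ (n : ℕ) (Ω : Type u) [Finite Ω] (N : Subgroup (Perm Ω)),
    Nat.card Ω = n → Group.IsNilpotent N → Nat.card N ≤ BB n := by
  intro n
  induction n using Nat.strong_induction_on with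
  | _ n ih =>
    intro Ω _ N hn hnil
    classical
    rcases isEmpty_or_nonempty Ω with hE | hne
    · -- trivial group
      have : Subsingleton (Perm Ω) := inferInstance
      have h1 : Nat.card N = 1 := Nat.card_unique
      rw [h1]
      exact BB_pos n
    by_cases htr : MulAction.IsPretransitive ↥N Ω
    · rw [← hn]
      exact card_le_BB_of_transitive
    · -- an orbit which is a proper subset
      obtain ⟨ω⟩ := hne
      set s := MulAction.orbit ↥N ω with hs_def
      have hs : ∀ g ∈ N, ∀ x, g x ∈ s ↔ x ∈ s := by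
        intro g hg x
        constructor
        · rintro ⟨h, hh⟩
          refine ⟨(⟨g, hg⟩ : ↥N)⁻¹ * h, ?_⟩
          have hh' : h • ω = g x := hh
          show ((⟨g, hg⟩ : ↥N)⁻¹ * h) • ω = x
          rw [mul_smul, hh']
          show (g⁻¹ : Perm Ω) (g x) = x
          simp
        · rintro ⟨h, rfl⟩
          exact ⟨(⟨g, hg⟩ : ↥N) * h, mul_smul _ _ _⟩
      have hsne : s ≠ Set.univ := by
        intro h
        apply htr
        constructor
        intro x y
        have hx : x ∈ s := h ▸ Set.mem_univ x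
        have hy : y ∈ s := h ▸ Set.mem_univ y
        obtain ⟨a, rfl⟩ := hx
        obtain ⟨b, rfl⟩ := hy
        exact ⟨b * a⁻¹, by rw [← mul_smul, inv_mul_cancel_right]⟩
      have hωs : ω ∈ s := MulAction.mem_orbit_self ω
      obtain ⟨y, hy⟩ : ∃ y, y ∉ s := by
        by_contra hcon
        push Not at hcon
        exact hsne (Set.eq_univ_of_forall hcon)
      have hcard : Nat.card ↥s + Nat.card ↥(sᶜ) = n := by
        rw [← hn, Nat.card_coe_set_eq, Nat.card_coe_set_eq]
        exact Set.ncard_add_ncard_compl s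
      have h1 : 0 < Nat.card ↥s := by
        have : Nonempty ↥s := ⟨⟨ω, hωs⟩⟩
        exact Nat.card_pos
      have h2 : 0 < Nat.card ↥(sᶜ) := by
        have : Nonempty ↥(sᶜ) := ⟨⟨y, hy⟩⟩
        exact Nat.card_pos
      have hle := card_le_mul_of_invariant N s hs
      have hn1 : Group.IsNilpotent ↥(restr N s hs).range :=
        Group.nilpotent_of_surjective (restr N s hs).rangeRestrict
          (restr N s hs).rangeRestrict_surjective
      have hn2 : Group.IsNilpotent ↥(restr N sᶜ (compl_invariant N s hs)).range :=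
        Group.nilpotent_of_surjective (restr N sᶜ (compl_invariant N s hs)).rangeRestrict
          (restr N sᶜ (compl_invariant N s hs)).rangeRestrict_surjective
      have b1 := ih (Nat.card ↥s) (by omega) ↥s (restr N s hs).range rfl hn1
      have b2 := ih (Nat.card ↥(sᶜ)) (by omega) ↥(sᶜ) (restr N sᶜ (compl_invariant N s hs)).range
        rfl hn2
      calc Nat.card N ≤ _ := hle
        _ ≤ BB (Nat.card ↥s) * BB (Nat.card ↥(sᶜ)) := Nat.mul_le_mul b1 b2
        _ ≤ BB (Nat.card ↥s + Nat.card ↥(sᶜ)) := BB_add _ _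
        _ = BB n := by rw [hcard]

end Cfsg.Agent.Helper14.NilpSn
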