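import Cfsg.Agent.Helper14.NilpAn2
import Cfsg.Agent.Helper14.NilpSn3

/-!
# Nilpotent subgroups of alternating groups: orders are at most `AB n`
-/

set_option autoImplicit false
set_option linter.unusedSectionVars false

namespace Cfsg.Agent.Helper14.NilpSn

open Equiv

universe u

section Trans

variable {G : Type*} [Group G] [Finite G]
variable {Ω : Type*} [Finite Ω] [MulAction G Ω] [FaithfulSMul G Ω] [MulAction.IsPretransitive G Ω]

theorem sylow_card_le_of_transitive' [Group.IsNilpotent G] (p : ℕ) [Fact p.Prime] (P : Sylow p G)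
    (ω : Ω) :
    ∃ a : ℕ, p ^ a ∣ Nat.card Ω ∧ Nat.card P ≤ p ^ av p a := by
  classical
  have : (P : Subgroup G).Normal := sylow_normal_of_nilpotent p P
  set O := MulAction.orbit ↥(P : Subgroup G) ω with hO
  obtain ⟨a, ha⟩ := IsPGroup.card_orbit P.isPGroup' ω
  refine ⟨a, ?_, ?_⟩
  · have h1 := (MulAction.IsBlock.orbit_of_normal (G := G) (N := (P : Subgroup G)) ω).ncard_dvd_card
      (MulAction.nonempty_orbit ω)
    rw [← Nat.card_coe_set_eq, ha] at h1
    exact h1
  · have hinj : Function.Injective (MulAction.toPermHom ↥(P : Subgroup G) ↥O) := by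
      rw [injective_iff_map_eq_one]
      intro x hx
      apply Subtype.ext
      apply sylow_faithful_on_orbit p P ω x.1 x.2
      intro o ho
      have := congrArg (fun σ : Equiv.Perm ↥O => ((σ ⟨o, ho⟩ : ↥O) : Ω)) hx
      exact this
    have hdvd := Subgroup.card_dvd_of_injective _ hinj
    rw [Nat.card_perm, ha] at hdvd
    obtain ⟨k, hk⟩ := IsPGroup.iff_card.mp P.isPGroup'
    rw [hk] at hdvd ⊢
    have hle : k ≤ av p a := by
      unfold av
      exact (padicValNat_dvd_iff_le (Nat.factorial_ne_zero _)).mp hdvd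
    exact Nat.pow_le_pow_right (Fact.out : p.Prime).pos hle

/-- transitive nilpotent groups whose order is not a power of two -/
theorem card_le_AB_of_transitive [Group.IsNilpotent G] [Nonempty Ω]
    (hodd : ∃ p : ℕ, p.Prime ∧ p ≠ 2 ∧ p ∣ Nat.card G) :
    Nat.card G ≤ AB (Nat.card Ω) := by
  classical
  obtain ⟨ω⟩ := ‹Nonempty Ω›
  have hG : Nat.card G ≠ 0 := Nat.card_pos.ne'
  have key : ∀ p : ℕ, p.Prime → ∃ a : ℕ, p ^ a ∣ Nat.card Ω ∧
      p ^ (Nat.card G).factorization p ≤ p ^ av p a := by
    intro p hp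
    have := Fact.mk hp
    obtain ⟨a, h1, h2⟩ := sylow_card_le_of_transitive' p (default : Sylow p G) ω
    refine ⟨a, h1, ?_⟩
    rw [← Sylow.card_eq_multiplicity]; exact h2
  let a : ℕ → ℕ := fun p => if hp : p.Prime then Classical.choose (key p hp) else 0
  have hq : ∀ p (hp : p.Prime), p ^ a p ∣ Nat.card Ω ∧
      p ^ (Nat.card G).factorization p ≤ p ^ av p (a p) := by
    intro p hp
    have := Classical.choose_spec (key p hp)
    simp only [a, dif_pos hp]
    exact this
  have hΩ : 0 < Nat.card Ω := Nat.card_pos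
  have e1 : Nat.card G = ∏ p ∈ (Nat.card G).primeFactors, p ^ (Nat.card G).factorization p := by
    conv_lhs => rw [← Nat.prod_factorization_pow_eq_self hG]
    rfl
  rw [e1]
  have hS : ∀ p ∈ (Nat.card G).primeFactors, p.Prime := fun p hp => Nat.prime_of_mem_primeFactors hp
  have ha1 : ∀ p ∈ (Nat.card G).primeFactors, 1 ≤ a p := by
    intro p hp
    by_contra hcon
    have h0 : a p = 0 := by omega
    have h1 := (hq p (hS p hp)).2
    have := Fact.mk (hS p hp)
    rw [h0, av_zero, pow_zero] at h1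
    have hf : 1 ≤ (Nat.card G).factorization p :=
      (hS p hp).factorization_pos_of_dvd hG (Nat.dvd_of_mem_primeFactors hp)
    have h3 : p ^ 1 ≤ p ^ (Nat.card G).factorization p :=
      Nat.pow_le_pow_right (hS p hp).pos hf
    rw [pow_one] at h3
    have h4 := (hS p hp).two_le
    have h5 : p ≤ 1 := le_trans h3 h1
    omega
  calc ∏ p ∈ (Nat.card G).primeFactors, p ^ (Nat.card G).factorization p
      ≤ ∏ p ∈ (Nat.card G).primeFactors, p ^ av p (a p) :=
        Finset.prod_le_prod' (fun p hp => (hq p (hS p hp)).2)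
    _ ≤ AB (Nat.card Ω) := by
        apply prod_t_le_AB (Nat.card Ω) hΩ _ hS a ha1
        · apply Finset.prod_dvd_of_isRelPrime
          · intro p hp p' hp' hne
            show IsRelPrime (p ^ a p) (p' ^ a p')
            rw [← Nat.coprime_iff_isRelPrime]
            exact Nat.Coprime.pow _ _ ((Nat.coprime_primes (hS p hp) (hS p' hp')).mpr hne)
          · intro p hp
            exact (hq p (hS p hp)).1
        · obtain ⟨p, hp, hp2, hpd⟩ := hodd
          exact ⟨p, Nat.mem_primeFactors.mpr ⟨hp, hpd, hG⟩, hp2⟩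

end Trans

section Sign

variable {Ω : Type u} [Fintype Ω] [DecidableEq Ω] (N : Subgroup (Perm Ω)) (s : Set Ω)

theorem sign_eq_mul_restr (hs : ∀ g ∈ N, ∀ x, g x ∈ s ↔ x ∈ s) [Fintype ↥s] [Fintype ↥(sᶜ)]
    [DecidableEq ↥s] [DecidableEq ↥(sᶜ)] (g : ↥N) :
    Perm.sign (g : Perm Ω) =
      Perm.sign (restr N s hs g) * Perm.sign (restr N sᶜ (compl_invariant N s hs) g) := by
  classical
  have h1 := Perm.sign_subtypeCongr (p := (· ∈ s)) (restr N s hs g)
    (restr N sᶜ (compl_invariant N s hs) g)
  have h2 : (g : Perm Ω) = (restr N s hs g).subtypeCongr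
      (restr N sᶜ (compl_invariant N s hs) g) := by
    ext x
    by_cases hx : x ∈ s
    · rw [Perm.subtypeCongr.left_apply _ _ hx]; rfl
    · rw [Perm.subtypeCongr.right_apply _ _ hx]; rfl
  rw [h2]
  convert h1 using 2 <;> congr!

end Sign

end Cfsg.Agent.Helper14.NilpSn
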