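import Cfsg.Agent.Helper14.NilpAn3

/-!
# Nilpotent subgroups of alternating groups: the main bound
-/

set_option autoImplicit false
set_option linter.unusedSectionVars false

namespace Cfsg.Agent.Helper14.NilpSn

open Equiv

universe u

theorem units_eq_of_one_eq_mul : ∀ a b : ℤˣ, 1 = a * b → a = b := by decide

section Sign

variable {Ω : Type u} [Fintype Ω] [DecidableEq Ω] (N : Subgroup (Perm Ω)) (s : Set Ω)

theorem two_mul_card_le_of_odd_restr (hs : ∀ g ∈ N, ∀ x, g x ∈ s ↔ x ∈ s) [Fintype ↥s]
    [Fintype ↥(sᶜ)] [DecidableEq ↥s] [DecidableEq ↥(sᶜ)] (hev : ∀ g ∈ N, Perm.sign g = 1)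
    (x0 : ↥N) (hx0 : Perm.sign (restr N s hs x0) ≠ 1) :
    2 * Nat.card N ≤ Nat.card (restr N s hs).range *
      Nat.card (restr N sᶜ (compl_invariant N s hs)).range := by
  classical
  have hsame : ∀ g : ↥N, Perm.sign (restr N s hs g) =
      Perm.sign (restr N sᶜ (compl_invariant N s hs) g) := by
    intro g
    have h1 := sign_eq_mul_restr N s hs g
    rw [hev g g.2] at h1
    exact units_eq_of_one_eq_mul _ _ h1
  have hinj : ∀ g h : ↥N, restr N s hs g = restr N s hs h →
      restr N sᶜ (compl_invariant N s hs) g = restr N sᶜ (compl_invariant N s hs) h → g = h := by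
    intro g h h1 h2
    apply Subtype.ext
    ext x
    by_cases hx : x ∈ s
    · have := congrArg (fun σ : Perm ↥s => ((σ ⟨x, hx⟩ : ↥s) : Ω)) h1
      exact this
    · have := congrArg (fun σ : Perm ↥(sᶜ) => ((σ ⟨x, hx⟩ : ↥(sᶜ)) : Ω)) h2
      exact this
  have hx0' : Perm.sign (restr N s hs x0) = -1 := (Int.units_eq_one_or _).resolve_left hx0
  let Φ : ↥N × Bool → ↥(restr N s hs).range × ↥(restr N sᶜ (compl_invariant N s hs)).range :=
    fun z => (⟨restr N s hs (z.1 * (if z.2 then x0 else 1)), ⟨_, rfl⟩⟩,
      ⟨restr N sᶜ (compl_invariant N s hs) z.1, ⟨_, rfl⟩⟩)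
  have hΦ : Function.Injective Φ := by
    rintro ⟨g, b⟩ ⟨g', b'⟩ h
    have h1 : restr N s hs (g * (if b then x0 else 1)) =
        restr N s hs (g' * (if b' then x0 else 1)) := congrArg (fun z => (z.1 : Perm ↥s)) h
    have h2 : restr N sᶜ (compl_invariant N s hs) g = restr N sᶜ (compl_invariant N s hs) g' :=
      congrArg (fun z => (z.2 : Perm ↥(sᶜ))) h
    have hε : Perm.sign (restr N s hs g) = Perm.sign (restr N s hs g') := by
      rw [hsame g, hsame g', h2]
    have hb : b = b' := by
      have h3 := congrArg Perm.sign h1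
      simp only [map_mul] at h3
      rw [hε] at h3
      have h4 := mul_left_cancel h3
      cases b <;> cases b'
      · rfl
      · exfalso
        simp only [if_true, Bool.false_eq_true, if_false, map_one, hx0'] at h4
        exact absurd h4 (by decide)
      · exfalso
        simp only [if_true, Bool.false_eq_true, if_false, map_one, hx0'] at h4
        exact absurd h4 (by decide)
      · rfl
    subst hb
    have h5 : restr N s hs g = restr N s hs g' := by
      rw [map_mul, map_mul] at h1
      exact mul_right_cancel h1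
    rw [hinj g g' h5 h2]
  have := Nat.card_le_card_of_injective Φ hΦ
  rw [Nat.card_prod, Nat.card_prod, Nat.card_eq_fintype_card (α := Bool), Fintype.card_bool] at this
  omega

end Sign

/-- the main bound: a nilpotent group of even permutations of degree `n` has order at most
`AB n` -/
theorem card_le_AB : ∀ (n : ℕ) (Ω : Type u) [Fintype Ω] [DecidableEq Ω] (N : Subgroup (Perm Ω)),
    Nat.card Ω = n → Group.IsNilpotent N → (∀ g ∈ N, Perm.sign g = 1) →
    Nat.card N ≤ AB n := by
  intro n
  induction n using Nat.strong_induction_on with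
  | _ n ih =>
    intro Ω _ _ N hn hnil hev
    rcases subsingleton_or_nontrivial Ω with hsub | hnt
    · -- trivial group
      have : Subsingleton (Perm Ω) := inferInstance
      have h1 : Nat.card N = 1 := Nat.card_unique
      rw [h1]
      exact AB_pos n
    have hne : Nonempty Ω := inferInstance
    by_cases htr : MulAction.IsPretransitive ↥N Ω
    · by_cases hodd : ∃ p : ℕ, p.Prime ∧ p ≠ 2 ∧ p ∣ Nat.card N
      · rw [← hn]
        exact card_le_AB_of_transitive hodd
      · push Not at hodd
        have hN0 : Nat.card N ≠ 0 := Nat.card_pos.ne'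
        have hpow : Nat.card N = 2 ^ (Nat.card N).primeFactorsList.length := by
          apply Nat.eq_prime_pow_of_unique_prime_dvd hN0
          intro d hd hdvd
          by_contra h2
          exact hodd d hd h2 hdvd
        set j := (Nat.card N).primeFactorsList.length with hj
        apply le_AB_of_two_mul_le_gg
        have hle : N ≤ alternatingGroup Ω := by
          intro g hg
          rw [Perm.mem_alternatingGroup]
          exact hev g hg
        have hdvd : Nat.card N ∣ Nat.card (alternatingGroup Ω) := Subgroup.card_dvd_of_le hle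
        have h2 : 2 * Nat.card N ∣ (Nat.card Ω).factorial := by
          rw [← Nat.card_perm, ← two_mul_nat_card_alternatingGroup]
          exact Nat.mul_dvd_mul_left 2 hdvd
        rw [hpow, hn, ← pow_succ'] at h2
        have h3 : j + 1 ≤ v2 n := by
          unfold v2
          exact (padicValNat_dvd_iff_le (Nat.factorial_ne_zero _)).mp h2
        rw [hpow, ← pow_succ']
        exact Nat.pow_le_pow_right (by norm_num) h3
    · -- an orbit which is a proper subset
      classical
      obtain ⟨ω⟩ := hne
      set s := MulAction.orbit ↥N ω with hs_def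
      have hs : ∀ g ∈ N, ∀ x, g x ∈ s ↔ x ∈ s := by
        intro g hg x
        constructor
        · rintro ⟨h, hh⟩
          refine ⟨(⟨g, hg⟩ : ↥N)⁻¹ * h, ?_⟩
          have hh' : h • ω = g x := hh
          show ((⟨g, hg⟩ : ↥N)⁻¹ * h) • ω = x
          rw [mul_smul, hh']
          show (g⁻¹ : Perm Ω) (g x) = x
          simp
        · rintro ⟨h, rfl⟩
          exact ⟨(⟨g, hg⟩ : ↥N) * h, mul_smul _ _ _⟩
      have hsne : s ≠ Set.univ := by
        intro h
        apply htr
        constructor
        intro x y
        have hx : x ∈ s := h ▸ Set.mem_univ x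
        have hy : y ∈ s := h ▸ Set.mem_univ y
        obtain ⟨a, rfl⟩ := hx
        obtain ⟨b, rfl⟩ := hy
        exact ⟨b * a⁻¹, by rw [← mul_smul, inv_mul_cancel_right]⟩
      have hωs : ω ∈ s := MulAction.mem_orbit_self ω
      obtain ⟨y, hy⟩ : ∃ y, y ∉ s := by
        by_contra hcon
        push Not at hcon
        exact hsne (Set.eq_univ_of_forall hcon)
      have hcard : Nat.card ↥s + Nat.card ↥(sᶜ) = n := by
        rw [← hn, Nat.card_coe_set_eq, Nat.card_coe_set_eq]
        exact Set.ncard_add_ncard_compl s
      have h1 : 0 < Nat.card ↥s := by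
        have : Nonempty ↥s := ⟨⟨ω, hωs⟩⟩
        exact Nat.card_pos
      have h2 : 0 < Nat.card ↥(sᶜ) := by
        have : Nonempty ↥(sᶜ) := ⟨⟨y, hy⟩⟩
        exact Nat.card_pos
      have hn1 : Group.IsNilpotent ↥(restr N s hs).range :=
        Group.nilpotent_of_surjective (restr N s hs).rangeRestrict
          (restr N s hs).rangeRestrict_surjective
      have hn2 : Group.IsNilpotent ↥(restr N sᶜ (compl_invariant N s hs)).range :=
        Group.nilpotent_of_surjective (restr N sᶜ (compl_invariant N s hs)).rangeRestrict
          (restr N sᶜ (compl_invariant N s hs)).rangeRestrict_surjective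
      by_cases hall : ∀ g : ↥N, Perm.sign (restr N s hs g) = 1
      · -- both restrictions are even
        have hall2 : ∀ g : ↥N, Perm.sign (restr N sᶜ (compl_invariant N s hs) g) = 1 := by
          intro g
          have e1 := sign_eq_mul_restr N s hs g
          rw [hev g g.2, hall g, one_mul] at e1
          exact e1.symm
        have hle := card_le_mul_of_invariant N s hs
        have b1 := ih (Nat.card ↥s) (by omega) ↥s (restr N s hs).range rfl hn1
          (by rintro _ ⟨g, rfl⟩; exact hall g)
        have b2 := ih (Nat.card ↥(sᶜ)) (by omega) ↥(sᶜ)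
          (restr N sᶜ (compl_invariant N s hs)).range rfl hn2
          (by rintro _ ⟨g, rfl⟩; exact hall2 g)
        calc Nat.card N ≤ _ := hle
          _ ≤ AB (Nat.card ↥s) * AB (Nat.card ↥(sᶜ)) := Nat.mul_le_mul b1 b2
          _ ≤ AB (Nat.card ↥s + Nat.card ↥(sᶜ)) := AB_add _ _
          _ = AB n := by rw [hcard]
      · push Not at hall
        obtain ⟨x0, hx0⟩ := hall
        have hle := two_mul_card_le_of_odd_restr N s hs hev x0 hx0
        have b1 := card_le_BB (Nat.card ↥s) ↥s (restr N s hs).range rfl hn1
        have b2 := card_le_BB (Nat.card ↥(sᶜ)) ↥(sᶜ)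
          (restr N sᶜ (compl_invariant N s hs)).range rfl hn2
        have h3 : 2 * Nat.card N ≤ 2 * AB n :=
          calc 2 * Nat.card N ≤ _ := hle
            _ ≤ BB (Nat.card ↥s) * BB (Nat.card ↥(sᶜ)) := Nat.mul_le_mul b1 b2
            _ ≤ BB (Nat.card ↥s + Nat.card ↥(sᶜ)) := BB_add _ _
            _ = BB n := by rw [hcard]
            _ ≤ 2 * AB n := BB_le_two_mul_AB n
        omega

end Cfsg.Agent.Helper14.NilpSn
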