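import Cfsg.Agent.Helper14.NilpAn4

/-!
# Nilpotent subgroups of `alternatingGroup (Fin m)`
-/

set_option autoImplicit false

namespace Cfsg.Agent.Helper14.NilpSn

open Equiv

theorem card_sylow_two_alternating (m : ℕ) (hm : 2 ≤ m) (P : Sylow 2 (alternatingGroup (Fin m))) :
    2 * Nat.card P = 2 ^ v2 m := by
  have : Nontrivial (Fin m) := Fin.nontrivial_iff_two_le.mpr hm
  have h1 : 2 * Nat.card (alternatingGroup (Fin m)) = m.factorial := by
    rw [two_mul_nat_card_alternatingGroup, Nat.card_perm, Nat.card_fin]
  have hA : Nat.card (alternatingGroup (Fin m)) ≠ 0 := Nat.card_pos.ne'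
  rw [Sylow.card_eq_multiplicity, ← pow_succ']
  congr 1
  unfold v2
  rw [← h1, ← Nat.factorization_def _ Nat.prime_two, Nat.factorization_mul (by norm_num) hA]
  simp [Nat.Prime.factorization_self Nat.prime_two]
  omega

theorem card_le_AB_alt (m : ℕ) (N : Subgroup (alternatingGroup (Fin m)))
    (hN : Group.IsNilpotent N) : Nat.card N ≤ AB m := by
  have hinj : Function.Injective (alternatingGroup (Fin m)).subtype := Subtype.coe_injective
  have hc : Nat.card (N.map (alternatingGroup (Fin m)).subtype) = Nat.card N :=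
    Subgroup.card_map_of_injective hinj
  have hnil : Group.IsNilpotent ↥(N.map (alternatingGroup (Fin m)).subtype) :=
    Group.nilpotent_of_surjective (N.equivMapOfInjective _ hinj).toMonoidHom
      (N.equivMapOfInjective _ hinj).surjective
  rw [← hc]
  apply card_le_AB m (Fin m) _ (by simp) hnil
  rintro _ ⟨a, _, rfl⟩
  exact Perm.mem_alternatingGroup.mp a.2

end Cfsg.Agent.Helper14.NilpSn
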