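import Cfsg.Agent.Helper14.NilpSn4

/-!
# Existence of a nilpotent subgroup `P × C_3` of `S_n`
-/

set_option autoImplicit false

namespace Cfsg.Agent.Helper14.NilpSn

open Equiv

/-- the cyclic group of order 3 inside `S_3` -/
def z3 : Multiplicative (ZMod 3) →* Perm (Fin 3) where
  toFun k := (finRotate 3) ^ (Multiplicative.toAdd k).val
  map_one' := by decide
  map_mul' := by decide

theorem z3_injective : Function.Injective z3 := by decide

/-- `S_a × S_b → S_n` for `a + b = n` -/
def emb (a b n : ℕ) (h : a + b = n) : Perm (Fin a) × Perm (Fin b) →* Perm (Fin n) :=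
  ((finSumFinEquiv.trans (finCongr h)).permCongrHom).toMonoidHom.comp (Perm.sumCongrHom _ _)

theorem emb_injective (a b n : ℕ) (h : a + b = n) : Function.Injective (emb a b n h) := by
  unfold emb
  rw [MonoidHom.coe_comp]
  exact ((finSumFinEquiv.trans (finCongr h)).permCongrHom).injective.comp
    Perm.sumCongrHom_injective

theorem exists_extremal (n : ℕ) (hn : 3 ≤ n) (P : Sylow 2 (Perm (Fin (n - 3)))) :
    ∃ M : Subgroup (Perm (Fin n)), Group.IsNilpotent M ∧ Nat.card M = 3 * Nat.card P ∧
      Nonempty (M ≃* (↥(P : Subgroup (Perm (Fin (n - 3)))) × Multiplicative (ZMod 3))) := by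
  classical
  let f : ↥(P : Subgroup (Perm (Fin (n - 3)))) × Multiplicative (ZMod 3) →* Perm (Fin n) :=
    (emb (n - 3) 3 n (by omega)).comp (MonoidHom.prodMap (P : Subgroup (Perm (Fin (n - 3)))).subtype z3)
  have hf : Function.Injective f := by
    show Function.Injective ⇑((emb (n - 3) 3 n (by omega)).comp
      (MonoidHom.prodMap (P : Subgroup (Perm (Fin (n - 3)))).subtype z3))
    rw [MonoidHom.coe_comp]
    apply (emb_injective _ _ _ _).comp
    exact Function.Injective.prodMap (Subgroup.subtype_injective _) z3_injective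
  have hnilP : Group.IsNilpotent ↥(P : Subgroup (Perm (Fin (n - 3)))) := P.isPGroup'.isNilpotent
  have e := MonoidHom.ofInjective hf
  refine ⟨f.range, ?_, ?_, ⟨e.symm⟩⟩
  · exact Group.nilpotent_of_surjective e.toMonoidHom e.surjective
  · rw [← Nat.card_congr e.toEquiv, Nat.card_prod]
    have : Nat.card (Multiplicative (ZMod 3)) = 3 := by
      rw [Nat.card_eq_fintype_card]; rfl
    rw [this, mul_comm]

end Cfsg.Agent.Helper14.NilpSn
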