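import Cfsg.Agent.Helper14.NilpAn5
import Cfsg.Agent.Helper14.NilpSn5

/-!
# Extremal nilpotent subgroups of `A_n`, `n ≡ 3 mod 4`: conjugacy and existence
-/

set_option autoImplicit false

namespace Cfsg.Agent.Helper14.NilpSn

open Equiv Cfsg.Agent.Helper14

variable {n : ℕ}

/-- the element of order 3 in an extremal nilpotent group is a 3-cycle (weaker hypothesis) -/
theorem cycleType_eq_of_decomp' (hn : n % 4 = 3) (c : Perm (Fin n)) (Q : Subgroup (Perm (Fin n)))
    (hc : orderOf c = 3) (k : ℕ) (hk : v2 (n - 3) ≤ k + 1) (hQ : Nat.card Q = 2 ^ k)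
    (hQc : Q ≤ Subgroup.centralizer {c}) : c.cycleType = {3} := by
  classical
  obtain ⟨m', hm⟩ := Perm.cycleType_prime_order (σ := c) (by rw [hc]; exact Nat.prime_three)
  rw [hc] at hm
  rcases Nat.eq_zero_or_pos m' with h0 | hpos
  · rw [hm, h0]; rfl
  exfalso
  have hsum : c.cycleType.sum = 3 * (m' + 1) := by
    rw [hm, Multiset.sum_replicate, smul_eq_mul, mul_comm]
  have hle : 3 * (m' + 1) ≤ n := by
    rw [← hsum, Perm.sum_cycleType]
    have := Finset.card_le_univ c.support
    simpa using this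
  have hcent := Perm.nat_card_centralizer c
  rw [hsum, Fintype.card_fin] at hcent
  have hprod : c.cycleType.prod = 3 ^ (m' + 1) := by
    rw [hm, Multiset.prod_replicate]
  have hfin : c.cycleType.toFinset = {3} := by
    rw [hm, Multiset.toFinset_replicate, if_neg (Nat.succ_ne_zero _)]
  rw [hprod, hfin, Finset.prod_singleton, hm, Multiset.count_replicate_self] at hcent
  have hdvd : 2 ^ k ∣ (n - 3 * (m' + 1)).factorial * 3 ^ (m' + 1) * (m' + 1).factorial := by
    rw [← hcent, ← hQ]
    exact Subgroup.card_dvd_of_le hQc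
  have hne : (n - 3 * (m' + 1)).factorial * 3 ^ (m' + 1) * (m' + 1).factorial ≠ 0 := by positivity
  have hval := (padicValNat_dvd_iff_le hne).mp hdvd
  rw [padicValNat.mul (by positivity) (by positivity), padicValNat.mul (by positivity) (by positivity),
    padicValNat.pow] at hval
  have h3 : padicValNat 2 3 = 0 := padicValNat.eq_zero_of_not_dvd (by norm_num)
  rw [h3, mul_zero, add_zero] at hval
  have hval' : k ≤ v2 (n - 3 * (m' + 1)) + v2 (m' + 1) := hval
  have h4 : v2 (n - 3 * (m' + 1)) + v2 (m' + 1) ≤ v2 (n - 4) := by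
    refine (v2_add_le _ _).trans (v2_mono ?_)
    omega
  obtain ⟨j, hj⟩ : ∃ j, n = 4 * (j + 1) + 3 := ⟨(n - 7) / 4, by omega⟩
  have e1 : n - 3 = 4 * (j + 1) := by omega
  have e2 : n - 4 = 4 * j + 3 := by omega
  have h5 := v2_four_succ j
  have h6 := v2_four_add_three j
  rw [e1] at hk
  rw [e2] at h4
  omega

/-- two 3-cycles are conjugate under an even permutation when there are at least two further
points -/
theorem exists_even_conj (hn : 5 ≤ n) (c c' : Perm (Fin n)) (t1 : c.cycleType = {3})
    (t2 : c'.cycleType = {3}) : ∃ σ : Perm (Fin n), Perm.sign σ = 1 ∧ σ * c * σ⁻¹ = c' := by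
  classical
  have hconj : IsConj c c' := Perm.isConj_iff_cycleType_eq.mpr (t1.trans t2.symm)
  obtain ⟨σ, hσ⟩ := isConj_iff.mp hconj
  rcases Int.units_eq_one_or (Perm.sign σ) with h | h
  · exact ⟨σ, h, hσ⟩
  · -- two fixed points of c
    have hsupp : c.support.card = 3 := by
      rw [← Perm.sum_cycleType, t1]; rfl
    have hcompl : 1 < (c.supportᶜ).card := by
      rw [Finset.card_compl, hsupp, Fintype.card_fin]
      omega
    obtain ⟨a, ha, b, hb, hab⟩ := Finset.one_lt_card.mp hcompl
    rw [Finset.mem_compl, Perm.notMem_support] at ha hb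
    have hdisj : Perm.Disjoint c (Equiv.swap a b) := by
      intro x
      by_cases hxa : x = a
      · left; rw [hxa]; exact ha
      by_cases hxb : x = b
      · left; rw [hxb]; exact hb
      right
      exact Equiv.swap_apply_of_ne_of_ne hxa hxb
    have hcomm : Equiv.swap a b * c = c * Equiv.swap a b := hdisj.commute.eq.symm
    refine ⟨σ * Equiv.swap a b, ?_, ?_⟩
    · rw [map_mul, h, Perm.sign_swap hab]; decide
    · rw [← hσ]
      calc σ * Equiv.swap a b * c * (σ * Equiv.swap a b)⁻¹
          = σ * (Equiv.swap a b * c) * (Equiv.swap a b)⁻¹ * σ⁻¹ := by group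
        _ = σ * (c * Equiv.swap a b) * (Equiv.swap a b)⁻¹ * σ⁻¹ := by rw [hcomm]
        _ = σ * c * σ⁻¹ := by group

theorem card_centralizer_three_cycle (c : Perm (Fin n)) (t : c.cycleType = {3}) :
    Nat.card (Subgroup.centralizer {c}) = (n - 3).factorial * 3 := by
  classical
  have hcent := Perm.nat_card_centralizer c
  have hsum : c.cycleType.sum = 3 := by rw [t]; rfl
  rw [hcent, hsum, Fintype.card_fin, t]
  have : (({3} : Multiset ℕ).toFinset) = {3} := by rfl
  rw [this, Finset.prod_singleton]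
  have h3 : Multiset.count 3 ({3} : Multiset ℕ) = 1 := by simp
  have h4 : ({3} : Multiset ℕ).prod = 3 := by simp
  rw [h3, h4, Nat.factorial_one, mul_one]

theorem two_mul_card_centralizer_inf_alt (hn : 5 ≤ n) (c : Perm (Fin n)) (t : c.cycleType = {3}) :
    2 * Nat.card (Subgroup.centralizer {c} ⊓ alternatingGroup (Fin n) : Subgroup (Perm (Fin n))) =
      (n - 3).factorial * 3 := by
  classical
  have : Nontrivial (Fin n) := Fin.nontrivial_iff_two_le.mpr (by omega)
  rw [← card_centralizer_three_cycle c t]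
  have h1 := Subgroup.relIndex_mul_relIndex (⊥ : Subgroup (Perm (Fin n)))
    (Subgroup.centralizer {c} ⊓ alternatingGroup (Fin n)) (Subgroup.centralizer {c})
    bot_le inf_le_left
  rw [Subgroup.relIndex_bot_left, Subgroup.relIndex_bot_left, Subgroup.inf_relIndex_left] at h1
  have h2 : (alternatingGroup (Fin n)).relIndex (Subgroup.centralizer {c}) ∣ 2 := by
    have := Subgroup.relIndex_dvd_index_of_normal (alternatingGroup (Fin n))
      (Subgroup.centralizer {c})
    rwa [alternatingGroup.index_eq_two] at this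
  have h3 : (alternatingGroup (Fin n)).relIndex (Subgroup.centralizer {c}) ≠ 1 := by
    rw [Ne, Subgroup.relIndex_eq_one]
    intro hle
    have hsupp : c.support.card = 3 := by
      rw [← Perm.sum_cycleType, t]; rfl
    have hcompl : 1 < (c.supportᶜ).card := by
      rw [Finset.card_compl, hsupp, Fintype.card_fin]
      omega
    obtain ⟨a, ha, b, hb, hab⟩ := Finset.one_lt_card.mp hcompl
    rw [Finset.mem_compl, Perm.notMem_support] at ha hb
    have hdisj : Perm.Disjoint c (Equiv.swap a b) := by
      intro x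
      by_cases hxa : x = a
      · left; rw [hxa]; exact ha
      by_cases hxb : x = b
      · left; rw [hxb]; exact hb
      right
      exact Equiv.swap_apply_of_ne_of_ne hxa hxb
    have hmem : Equiv.swap a b ∈ Subgroup.centralizer {c} := by
      rw [Subgroup.mem_centralizer_singleton_iff]
      exact hdisj.commute.eq.symm
    have := Perm.mem_alternatingGroup.mp (hle hmem)
    rw [Perm.sign_swap hab] at this
    exact absurd this (by decide)
  rcases (Nat.dvd_prime Nat.prime_two).mp h2 with h | h
  · exact absurd h h3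
  · rw [h, mul_comm] at h1; exact h1

theorem conj_of_extremal_alt (hn : n % 4 = 3) (h7 : 7 ≤ n) (N1 N2 : Subgroup (Perm (Fin n)))
    (hA1 : N1 ≤ alternatingGroup (Fin n)) (hA2 : N2 ≤ alternatingGroup (Fin n))
    (h1 : Group.IsNilpotent N1) (h2 : Group.IsNilpotent N2)
    (k : ℕ) (hk : v2 (n - 3) = k + 1)
    (c1 : Nat.card N1 = 3 * 2 ^ k) (c2 : Nat.card N2 = 3 * 2 ^ k) :
    ∃ g ∈ alternatingGroup (Fin n), N2 = N1.map (cj g) := by
  classical
  obtain ⟨c, Q, hc, hQ, hQc, hN1⟩ := exists_decomp N1 h1 k c1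
  obtain ⟨c', Q', hc', hQ', hQc', hN2⟩ := exists_decomp N2 h2 k c2
  have t1 := cycleType_eq_of_decomp' hn c Q hc k hk.le hQ hQc
  have t2 := cycleType_eq_of_decomp' hn c' Q' hc' k hk.le hQ' hQc'
  obtain ⟨σ, hσs, hσ⟩ := exists_even_conj (by omega) c c' t1 t2
  have hQA : Q ≤ alternatingGroup (Fin n) := by
    refine le_trans ?_ hA1
    rw [hN1]; exact le_sup_left
  have hQ'A : Q' ≤ alternatingGroup (Fin n) := by
    refine le_trans ?_ hA2
    rw [hN2]; exact le_sup_left
  -- Q1 = σ Q σ⁻¹ centralizes c'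
  have hQ1c : Q.map (cj σ) ≤ Subgroup.centralizer {c'} ⊓ alternatingGroup (Fin n) := by
    rintro _ ⟨x, hx, rfl⟩
    refine ⟨?_, ?_⟩
    · show cj σ x ∈ (Subgroup.centralizer {c'} : Subgroup (Perm (Fin n)))
      rw [Subgroup.mem_centralizer_singleton_iff]
      have hxc : x * c = c * x := Subgroup.mem_centralizer_singleton_iff.mp (hQc hx)
      show σ * x * σ⁻¹ * c' = c' * (σ * x * σ⁻¹)
      rw [← hσ]
      calc σ * x * σ⁻¹ * (σ * c * σ⁻¹) = σ * (x * c) * σ⁻¹ := by group
        _ = σ * (c * x) * σ⁻¹ := by rw [hxc]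
        _ = σ * c * σ⁻¹ * (σ * x * σ⁻¹) := by group
    · show cj σ x ∈ alternatingGroup (Fin n)
      rw [Perm.mem_alternatingGroup]
      show Perm.sign (σ * x * σ⁻¹) = 1
      rw [map_mul, map_mul, map_inv, hσs, Perm.mem_alternatingGroup.mp (hQA hx)]
      rfl
  have hQ'c : Q' ≤ Subgroup.centralizer {c'} ⊓ alternatingGroup (Fin n) := le_inf hQc' hQ'A
  have hQ1card : Nat.card (Q.map (cj σ)) = 2 ^ k := by
    rw [Subgroup.card_map_of_injective (cj_injective σ), hQ]
  have hH := two_mul_card_centralizer_inf_alt (by omega) c' t2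
  have hfact : (Nat.card (Subgroup.centralizer {c'} ⊓ alternatingGroup (Fin n) :
      Subgroup (Perm (Fin n)))).factorization 2 = k := by
    have hpos : Nat.card (Subgroup.centralizer {c'} ⊓ alternatingGroup (Fin n) :
      Subgroup (Perm (Fin n))) ≠ 0 := Nat.card_pos.ne'
    have e1 : (2 * Nat.card (Subgroup.centralizer {c'} ⊓ alternatingGroup (Fin n) :
      Subgroup (Perm (Fin n)))).factorization 2 = ((n - 3).factorial * 3).factorization 2 := by
      rw [hH]
    rw [Nat.factorization_mul (by norm_num) hpos, Nat.factorization_mul (by positivity) (by norm_num)]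
      at e1
    simp only [Finsupp.add_apply] at e1
    have h5 : (3 : ℕ).factorization 2 = 0 :=
      Nat.factorization_eq_zero_of_not_dvd (by norm_num)
    have h6 : (n - 3).factorial.factorization 2 = k + 1 := by
      rw [Nat.factorization_def _ Nat.prime_two]; exact hk
    rw [Nat.Prime.factorization_self Nat.prime_two, h5, h6] at e1
    omega
  obtain ⟨τ, hτ, hτQ⟩ := exists_conj_in 2
    (Subgroup.centralizer {c'} ⊓ alternatingGroup (Fin n) : Subgroup (Perm (Fin n)))
    (Q.map (cj σ)) Q' hQ1c hQ'c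
    (by rw [hQ1card, hfact]) (by rw [hQ', hfact])
  refine ⟨τ * σ, ?_, ?_⟩
  · rw [Perm.mem_alternatingGroup, map_mul, hσs, Perm.mem_alternatingGroup.mp hτ.2]
    rfl
  have hτc : τ * c' * τ⁻¹ = c' := by
    have := Subgroup.mem_centralizer_singleton_iff.mp hτ.1
    rw [this]; group
  rw [hN1, hN2, Subgroup.map_sup, MonoidHom.map_zpowers, ← map_cj_mul, hτQ]
  congr 2
  show c' = τ * σ * c * (τ * σ)⁻¹
  rw [← hτc, ← hσ]
  group

theorem conj_of_extremal_alt' (hn : n % 4 = 3) (h7 : 7 ≤ n)
    (N1 N2 : Subgroup (alternatingGroup (Fin n)))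
    (h1 : Group.IsNilpotent N1) (h2 : Group.IsNilpotent N2)
    (k : ℕ) (hk : v2 (n - 3) = k + 1)
    (c1 : Nat.card N1 = 3 * 2 ^ k) (c2 : Nat.card N2 = 3 * 2 ^ k) :
    ∃ g : alternatingGroup (Fin n), N2 = N1.map (MulAut.conj g).toMonoidHom := by
  have hinj : Function.Injective (alternatingGroup (Fin n)).subtype := Subtype.coe_injective
  have hle : ∀ N : Subgroup (alternatingGroup (Fin n)),
      N.map (alternatingGroup (Fin n)).subtype ≤ alternatingGroup (Fin n) := by
    rintro N _ ⟨a, _, rfl⟩
    exact a.2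
  have hnil : ∀ N : Subgroup (alternatingGroup (Fin n)), Group.IsNilpotent N →
      Group.IsNilpotent ↥(N.map (alternatingGroup (Fin n)).subtype) := fun N hN =>
    Group.nilpotent_of_surjective (N.equivMapOfInjective _ hinj).toMonoidHom
      (N.equivMapOfInjective _ hinj).surjective
  obtain ⟨g, hg, hgN⟩ := conj_of_extremal_alt hn h7 (N1.map (alternatingGroup (Fin n)).subtype)
    (N2.map (alternatingGroup (Fin n)).subtype) (hle N1) (hle N2) (hnil N1 h1) (hnil N2 h2) k hk
    (by rw [Subgroup.card_map_of_injective hinj, c1])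
    (by rw [Subgroup.card_map_of_injective hinj, c2])
  refine ⟨⟨g, hg⟩, ?_⟩
  apply Subgroup.map_injective hinj
  rw [hgN, Subgroup.map_map, Subgroup.map_map]
  rfl

theorem sign_z3 : ∀ k : Multiplicative (ZMod 3), Perm.sign (z3 k) = 1 := by decide

theorem sign_emb (a b m : ℕ) (h : a + b = m) (x : Perm (Fin a)) (y : Perm (Fin b)) :
    Perm.sign (emb a b m h (x, y)) = Perm.sign x * Perm.sign y := by
  show Perm.sign ((finSumFinEquiv.trans (finCongr h)).permCongr (Perm.sumCongr x y)) = _
  rw [Perm.sign_permCongr, Perm.sign_sumCongr]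

theorem exists_extremal_alt (m : ℕ) (hm : 3 ≤ m) (P : Sylow 2 (alternatingGroup (Fin (m - 3)))) :
    ∃ M : Subgroup (alternatingGroup (Fin m)), Group.IsNilpotent M ∧
      Nat.card M = 3 * Nat.card P ∧
      Nonempty (M ≃* (↥(P : Subgroup (alternatingGroup (Fin (m - 3)))) ×
        Multiplicative (ZMod 3))) := by
  classical
  let f0 : ↥(P : Subgroup (alternatingGroup (Fin (m - 3)))) × Multiplicative (ZMod 3) →*
      Perm (Fin m) :=
    (emb (m - 3) 3 m (by omega)).comp (MonoidHom.prodMap
      ((alternatingGroup (Fin (m - 3))).subtype.comp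
        (P : Subgroup (alternatingGroup (Fin (m - 3)))).subtype) z3)
  have hf0 : Function.Injective f0 := by
    show Function.Injective ⇑((emb (m - 3) 3 m (by omega)).comp (MonoidHom.prodMap
      ((alternatingGroup (Fin (m - 3))).subtype.comp
        (P : Subgroup (alternatingGroup (Fin (m - 3)))).subtype) z3))
    rw [MonoidHom.coe_comp]
    apply (emb_injective _ _ _ _).comp
    have hi : Function.Injective ⇑((alternatingGroup (Fin (m - 3))).subtype.comp
        (P : Subgroup (alternatingGroup (Fin (m - 3)))).subtype) := by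
      rw [MonoidHom.coe_comp]
      exact (Subgroup.subtype_injective _).comp (Subgroup.subtype_injective _)
    exact Function.Injective.prodMap hi z3_injective
  have hmem : ∀ z, f0 z ∈ alternatingGroup (Fin m) := by
    rintro ⟨x, j⟩
    rw [Perm.mem_alternatingGroup]
    show Perm.sign (emb (m - 3) 3 m _ (((x : alternatingGroup (Fin (m - 3))) : Perm (Fin (m - 3))),
      z3 j)) = 1
    rw [sign_emb, sign_z3, Perm.mem_alternatingGroup.mp (x : alternatingGroup (Fin (m - 3))).2]
    rfl
  let f : ↥(P : Subgroup (alternatingGroup (Fin (m - 3)))) × Multiplicative (ZMod 3) →*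
      ↥(alternatingGroup (Fin m)) := f0.codRestrict (alternatingGroup (Fin m)) hmem
  have hf : Function.Injective f := by
    intro a b hab
    apply hf0
    exact congrArg Subtype.val hab
  have hnilP : Group.IsNilpotent ↥(P : Subgroup (alternatingGroup (Fin (m - 3)))) :=
    P.isPGroup'.isNilpotent
  have e := MonoidHom.ofInjective hf
  refine ⟨f.range, ?_, ?_, ⟨e.symm⟩⟩
  · exact Group.nilpotent_of_surjective e.toMonoidHom e.surjective
  · rw [← Nat.card_congr e.toEquiv, Nat.card_prod]
    have : Nat.card (Multiplicative (ZMod 3)) = 3 := by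
      rw [Nat.card_eq_fintype_card]; rfl
    rw [this, mul_comm]

end Cfsg.Agent.Helper14.NilpSn
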