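import Mathlib

namespace Cfsg.Agent.Helper14.NilpSn

/-- 2-adic valuation of `n!` -/
def v2 (n : ℕ) : ℕ := padicValNat 2 n.factorial

theorem v2_two_mul (k : ℕ) : v2 (2 * k) = v2 k + k := padicValNat_factorial_mul k

theorem v2_two_mul_add_one (k : ℕ) : v2 (2 * k + 1) = v2 (2 * k) :=
  padicValNat_factorial_mul_add k (by norm_num : 1 < 2)

theorem padicVal_le_of_dvd (p : ℕ) [Fact p.Prime] {a b : ℕ} (hb : b ≠ 0) (h : a ∣ b) :
    padicValNat p a ≤ padicValNat p b := by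
  have ha : a ≠ 0 := by
    rintro rfl
    exact hb (zero_dvd_iff.mp h)
  rw [← padicValNat_dvd_iff_le hb]
  exact dvd_trans pow_padicValNat_dvd h

theorem v2_mono {a b : ℕ} (h : a ≤ b) : v2 a ≤ v2 b :=
  padicVal_le_of_dvd 2 (Nat.factorial_ne_zero b) (Nat.factorial_dvd_factorial h)

theorem v2_add_le (a b : ℕ) : v2 a + v2 b ≤ v2 (a + b) := by
  unfold v2
  rw [← padicValNat.mul (Nat.factorial_ne_zero a) (Nat.factorial_ne_zero b)]
  exact padicVal_le_of_dvd 2 (Nat.factorial_ne_zero _) (Nat.factorial_mul_factorial_dvd_factorial_add a b)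

theorem v2_mul_ge (m : ℕ) {n : ℕ} (hn : n ≠ 0) : m * v2 n + v2 m ≤ v2 (m * n) := by
  unfold v2
  have h := Nat.uniformBell_mul_eq m hn
  have h1 : n.factorial ^ m * m.factorial ∣ (m * n).factorial := by
    rw [← h, mul_assoc]
    exact Dvd.intro_left _ rfl
  have h2 := padicVal_le_of_dvd 2 (Nat.factorial_ne_zero _) h1
  rw [padicValNat.mul (pow_ne_zero _ (Nat.factorial_ne_zero n)) (Nat.factorial_ne_zero m),
    padicValNat.pow] at h2
  exact h2

theorem v2_zero : v2 0 = 0 := by simp [v2]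
theorem v2_one : v2 1 = 0 := by simp [v2]

theorem v2_four_add_one (k : ℕ) : v2 (4 * k + 1) = v2 (4 * k) := by
  have := v2_two_mul_add_one (2 * k)
  rw [← mul_assoc] at this
  exact this

theorem v2_four_add_two (k : ℕ) : v2 (4 * k + 2) = v2 (4 * k) + 1 := by
  have e1 : 4 * k + 2 = 2 * (2 * k + 1) := by ring
  have e2 : 4 * k = 2 * (2 * k) := by ring
  rw [e1, e2, v2_two_mul, v2_two_mul, v2_two_mul_add_one]
  ring

theorem v2_four_add_three (k : ℕ) : v2 (4 * k + 3) = v2 (4 * k) + 1 := by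
  have e1 : 4 * k + 3 = 2 * (2 * k + 1) + 1 := by ring
  rw [e1, v2_two_mul_add_one, ← v2_four_add_two]
  congr 1
  ring

theorem v2_four_succ (k : ℕ) : v2 (4 * k) + 3 ≤ v2 (4 * (k + 1)) := by
  have e1 : 4 * (k + 1) = 2 * (2 * (k + 1)) := by ring
  have e2 : 4 * k = 2 * (2 * k) := by ring
  rw [e1, e2, v2_two_mul, v2_two_mul, v2_two_mul, v2_two_mul]
  have : v2 k ≤ v2 (k + 1) := v2_mono (Nat.le_succ k)
  omega


/-- the bound: `2^{ν_2(n!)}`, or `3 * 2^{ν_2((n-3)!)}` when `n ≡ 3 mod 4` -/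
def BB (n : ℕ) : ℕ := if n % 4 = 3 then 3 * 2 ^ v2 (n - 3) else 2 ^ v2 n

def cc (r : ℕ) : ℕ := if r = 2 then 2 else if r = 3 then 3 else 1

theorem BB_four_mul_add (k r : ℕ) (hr : r < 4) : BB (4 * k + r) = cc r * 2 ^ v2 (4 * k) := by
  interval_cases r
  · have h : (4 * k + 0) % 4 ≠ 3 := by omega
    unfold BB cc
    rw [if_neg h]; simp
  · have h : (4 * k + 1) % 4 ≠ 3 := by omega
    unfold BB cc
    rw [if_neg h, v2_four_add_one]; simp
  · have h : (4 * k + 2) % 4 ≠ 3 := by omega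
    unfold BB cc
    rw [if_neg h, v2_four_add_two, pow_succ]; simp [mul_comm]
  · have h : (4 * k + 3) % 4 = 3 := by omega
    unfold BB cc
    rw [if_pos h]; simp

theorem BB_one : BB 1 = 1 := by
  simp [BB, v2_one]

theorem BB_pos (n : ℕ) : 0 < BB n := by
  unfold BB
  split_ifs <;> positivity

theorem BB_add (a b : ℕ) : BB a * BB b ≤ BB (a + b) := by
  obtain ⟨i, r, hr, rfl⟩ : ∃ i r, r < 4 ∧ a = 4 * i + r :=
    ⟨a / 4, a % 4, Nat.mod_lt _ (by norm_num), (Nat.div_add_mod a 4).symm⟩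
  obtain ⟨j, s, hs, rfl⟩ : ∃ j s, s < 4 ∧ b = 4 * j + s :=
    ⟨b / 4, b % 4, Nat.mod_lt _ (by norm_num), (Nat.div_add_mod b 4).symm⟩
  rw [BB_four_mul_add i r hr, BB_four_mul_add j s hs]
  have hadd : v2 (4 * i) + v2 (4 * j) ≤ v2 (4 * (i + j)) := by
    have := v2_add_le (4 * i) (4 * j)
    rwa [← mul_add] at this
  have e0 : cc r * 2 ^ v2 (4 * i) * (cc s * 2 ^ v2 (4 * j)) =
      (cc r * cc s) * 2 ^ (v2 (4 * i) + v2 (4 * j)) := by
    rw [pow_add]; ring
  rw [e0]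
  by_cases h : r + s < 4
  · have e : 4 * i + r + (4 * j + s) = 4 * (i + j) + (r + s) := by ring
    rw [e, BB_four_mul_add (i + j) (r + s) h]
    have hc : cc r * cc s ≤ cc (r + s) := by
      interval_cases r <;> interval_cases s <;> simp_all [cc]
    exact Nat.mul_le_mul hc (Nat.pow_le_pow_right (by norm_num) hadd)
  · have e : 4 * i + r + (4 * j + s) = 4 * (i + j + 1) + (r + s - 4) := by omega
    have h' : r + s - 4 < 4 := by omega
    rw [e, BB_four_mul_add (i + j + 1) (r + s - 4) h']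
    have hc : cc r * cc s ≤ 8 * cc (r + s - 4) := by
      interval_cases r <;> interval_cases s <;> simp_all [cc]
    have h3 : v2 (4 * (i + j)) + 3 ≤ v2 (4 * (i + j + 1)) := v2_four_succ (i + j)
    calc cc r * cc s * 2 ^ (v2 (4 * i) + v2 (4 * j))
        ≤ (8 * cc (r + s - 4)) * 2 ^ v2 (4 * (i + j)) :=
          Nat.mul_le_mul hc (Nat.pow_le_pow_right (by norm_num) hadd)
      _ = cc (r + s - 4) * 2 ^ (v2 (4 * (i + j)) + 3) := by rw [pow_add]; ring
      _ ≤ cc (r + s - 4) * 2 ^ v2 (4 * (i + j + 1)) :=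
          Nat.mul_le_mul le_rfl (Nat.pow_le_pow_right (by norm_num) h3)

theorem BB_mono : Monotone BB := by
  apply monotone_nat_of_le_succ
  intro n
  have := BB_add n 1
  rwa [BB_one, mul_one] at this

theorem BB_mul {a b : ℕ} (ha : 1 ≤ a) (hb : 1 ≤ b) : BB a * BB b ≤ BB (a * b) := by
  rcases Nat.eq_or_lt_of_le ha with rfl | ha2
  · rw [BB_one, one_mul, one_mul]
  rcases Nat.eq_or_lt_of_le hb with rfl | hb2
  · rw [BB_one, mul_one, mul_one]
  refine (BB_add a b).trans (BB_mono ?_)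
  nlinarith

theorem gg_le_BB (n : ℕ) : 2 ^ v2 n ≤ BB n := by
  unfold BB
  split_ifs with h
  · obtain ⟨k, rfl⟩ : ∃ k, n = 4 * k + 3 := ⟨n / 4, by omega⟩
    rw [v2_four_add_three, show 4 * k + 3 - 3 = 4 * k by omega, pow_succ]
    omega
  · exact le_rfl

theorem prod_BB_le (S : Finset ℕ) (q : ℕ → ℕ) (hq : ∀ p ∈ S, 1 ≤ q p) :
    ∏ p ∈ S, BB (q p) ≤ BB (∏ p ∈ S, q p) := by
  classical
  induction S using Finset.induction_on with
  | empty => simp [BB_one]
  | insert a S ha ih =>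
    rw [Finset.prod_insert ha, Finset.prod_insert ha]
    have h1 : ∀ p ∈ S, 1 ≤ q p := fun p hp => hq p (Finset.mem_insert_of_mem hp)
    have h2 : 1 ≤ ∏ p ∈ S, q p := Nat.succ_le_of_lt (Finset.prod_pos (fun p hp => h1 p hp))
    exact (Nat.mul_le_mul le_rfl (ih h1)).trans (BB_mul (hq a (Finset.mem_insert_self a S)) h2)

theorem two_mul_add_one_le_pow {k : ℕ} (hk : 3 ≤ k) : 2 * k + 1 ≤ 2 ^ k := by
  induction k, hk using Nat.le_induction with
  | base => norm_num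
  | succ k hk ih => rw [pow_succ]; omega

theorem v2_two : v2 2 = 1 := by
  have := v2_two_mul 1
  rw [v2_one] at this
  simpa using this

theorem le_gg {n : ℕ} (hn : 4 ≤ n) : n ≤ 2 ^ v2 n := by
  obtain ⟨k, hk⟩ : ∃ k, n = 2 * k ∨ n = 2 * k + 1 := ⟨n / 2, by omega⟩
  have hv : v2 n = v2 k + k := by
    rcases hk with rfl | rfl
    · exact v2_two_mul k
    · rw [v2_two_mul_add_one, v2_two_mul]
  rw [hv]
  have hk2 : 2 ≤ k := by omega
  rcases Nat.eq_or_lt_of_le hk2 with rfl | hk3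
  · rw [v2_two]; omega
  · have h1 := two_mul_add_one_le_pow (k := k) hk3
    have h2 : 2 ^ k ≤ 2 ^ (v2 k + k) := Nat.pow_le_pow_right (by norm_num) (by omega)
    omega

/-- `ν_p((p^e)!)` -/
def av (p e : ℕ) : ℕ := padicValNat p (p ^ e).factorial

theorem av_zero (p : ℕ) : av p 0 = 0 := by simp [av]

theorem av_succ (p : ℕ) [Fact p.Prime] (e : ℕ) : av p (e + 1) = av p e + p ^ e := by
  unfold av
  rw [pow_succ', padicValNat_factorial_mul]

theorem av_succ' (p : ℕ) [Fact p.Prime] (e : ℕ) : av p (e + 1) = p * av p e + 1 := by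
  induction e with
  | zero => rw [av_succ, av_zero]; simp
  | succ e ih =>
    have h : p * av p e + 1 = av p e + p ^ e := by rw [← ih, av_succ]
    have h2 : p * (p * av p e + 1) = p * (av p e + p ^ e) := by rw [h]
    rw [av_succ p (e + 1), ih, pow_succ', h2]
    ring

theorem v2_three : v2 3 = 1 := by
  have := v2_two_mul_add_one 1
  rw [show 2 * 1 + 1 = 3 by norm_num, show 2 * 1 = 2 by norm_num, v2_two] at this
  exact this

theorem v2_nine : v2 9 = 7 := by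
  have h9 : v2 9 = v2 8 := by
    have := v2_two_mul_add_one 4
    exact this
  have h8 : v2 8 = v2 4 + 4 := v2_two_mul 4
  have h4 : v2 4 = v2 2 + 2 := v2_two_mul 2
  rw [h9, h8, h4, v2_two]

theorem three_v2_add_two_le {q : ℕ} (hq : Odd q) (hq3 : 3 ≤ q) : 3 * v2 q + 2 ≤ v2 (3 * q) := by
  obtain ⟨k, rfl⟩ := hq
  have hk : k ≠ 0 := by omega
  have e1 : 3 * (2 * k + 1) = 2 * (3 * k + 1) + 1 := by ring
  rw [e1, v2_two_mul_add_one, v2_two_mul_add_one, v2_two_mul, v2_two_mul]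
  have h1 : v2 (3 * k) ≤ v2 (3 * k + 1) := v2_mono (Nat.le_succ _)
  have h2 := v2_mul_ge 3 hk
  rw [v2_three] at h2
  omega

theorem pow_av_le_gg_of_five_le (p : ℕ) [hp : Fact p.Prime] (h5 : 5 ≤ p) (e : ℕ) :
    p ^ av p e ≤ 2 ^ v2 (p ^ e) := by
  induction e with
  | zero => simp [av_zero, v2_one]
  | succ e ih =>
    rw [av_succ', pow_succ, pow_mul']
    have h1 : p ≤ 2 ^ v2 p := le_gg (by omega)
    have h2 : (p ^ av p e) ^ p ≤ (2 ^ v2 (p ^ e)) ^ p := Nat.pow_le_pow_left ih p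
    have h3 := v2_mul_ge p (n := p ^ e) (pow_ne_zero _ hp.out.ne_zero)
    calc (p ^ av p e) ^ p * p ≤ (2 ^ v2 (p ^ e)) ^ p * 2 ^ v2 p := Nat.mul_le_mul h2 h1
      _ = 2 ^ (p * v2 (p ^ e) + v2 p) := by rw [← pow_mul, ← pow_add, mul_comm]
      _ ≤ 2 ^ v2 (p ^ (e + 1)) := by
        rw [pow_succ' p e]
        exact Nat.pow_le_pow_right (by norm_num) h3

theorem pow_av_three_le_gg (e : ℕ) (he : 2 ≤ e) : 3 ^ av 3 e ≤ 2 ^ v2 (3 ^ e) := by
  have : Fact (Nat.Prime 3) := ⟨by norm_num⟩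
  induction e, he using Nat.le_induction with
  | base =>
    have h : av 3 2 = 4 := by
      rw [av_succ', av_succ', av_zero]
    rw [h, show (3 : ℕ) ^ 2 = 9 by norm_num, v2_nine]
    norm_num
  | succ e he ih =>
    rw [av_succ', pow_succ, pow_mul']
    have hodd : Odd (3 ^ e) := Odd.pow (by decide)
    have h3e : 3 ≤ 3 ^ e := by
      calc 3 = 3 ^ 1 := by norm_num
        _ ≤ 3 ^ e := Nat.pow_le_pow_right (by norm_num) (by omega)
    have h2 : (3 ^ av 3 e) ^ 3 ≤ (2 ^ v2 (3 ^ e)) ^ 3 := Nat.pow_le_pow_left ih 3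
    have h3 := three_v2_add_two_le hodd h3e
    calc (3 ^ av 3 e) ^ 3 * 3 ≤ (2 ^ v2 (3 ^ e)) ^ 3 * 2 ^ 2 := Nat.mul_le_mul h2 (by norm_num)
      _ = 2 ^ (3 * v2 (3 ^ e) + 2) := by rw [← pow_mul, ← pow_add, mul_comm]
      _ ≤ 2 ^ v2 (3 ^ (e + 1)) := by
        rw [pow_succ' 3 e]
        exact Nat.pow_le_pow_right (by norm_num) h3

/-- the order of a Sylow `p`-subgroup of `S_{p^e}` is at most `BB (p^e)` -/
theorem pow_av_le_BB (p : ℕ) [hp : Fact p.Prime] (e : ℕ) : p ^ av p e ≤ BB (p ^ e) := by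
  rcases Nat.lt_or_ge p 5 with h | h
  · have h2 : 2 ≤ p := hp.out.two_le
    interval_cases p
    · exact gg_le_BB _
    · rcases Nat.lt_or_ge e 2 with he | he
      · interval_cases e
        · simp [av_zero, BB_one]
        · have h1 : av 3 1 = 1 := by rw [av_succ', av_zero]
          rw [h1]
          simp [BB, v2_zero]
      · exact (pow_av_three_le_gg e he).trans (gg_le_BB _)
    · exfalso
      exact absurd hp.out (by norm_num)
  · exact (pow_av_le_gg_of_five_le p h e).trans (gg_le_BB _)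
end Cfsg.Agent.Helper14.NilpSn
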