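import Cfsg.Agent.Helper14.NilpSn1

/-!
# Nilpotent permutation groups: the transitive case
-/

set_option autoImplicit false
set_option linter.unusedSectionVars false

namespace Cfsg.Agent.Helper14.NilpSn

open scoped Pointwise

section Nilp

variable {G : Type*} [Group G] [Finite G]

/-- a subgroup containing a Sylow `r`-subgroup for every prime `r` is everything -/
theorem eq_top_of_forall_sylow_le (H : Subgroup G)
    (h : ∀ (r : ℕ) [Fact r.Prime], ∃ R : Sylow r G, (R : Subgroup G) ≤ H) : H = ⊤ := by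
  have hdvd : Nat.card G ∣ Nat.card H := by
    rw [← Nat.factorization_prime_le_iff_dvd Nat.card_pos.ne' Nat.card_pos.ne']
    intro r hr
    have := Fact.mk hr
    obtain ⟨R, hR⟩ := h r
    have h1 : Nat.card R = r ^ (Nat.card G).factorization r := R.card_eq_multiplicity
    have h2 : Nat.card R ∣ Nat.card H := Subgroup.card_dvd_of_le hR
    rw [h1] at h2
    exact (hr.pow_dvd_iff_le_factorization Nat.card_pos.ne').mp h2
  exact Subgroup.eq_top_of_card_eq H (Nat.dvd_antisymm (Subgroup.card_subgroup_dvd_card H) hdvd)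

theorem sylow_normal_of_nilpotent [Group.IsNilpotent G] (q : ℕ) [Fact q.Prime] (Q : Sylow q G) :
    (Q : Subgroup G).Normal :=
  Sylow.normal_of_normalizerCondition Group.normalizerCondition_of_isNilpotent Q

theorem sylow_sup_centralizer_eq_top [Group.IsNilpotent G] (p : ℕ) [Fact p.Prime] (P : Sylow p G) :
    (P : Subgroup G) ⊔ Subgroup.centralizer (P : Set G) = ⊤ := by
  apply eq_top_of_forall_sylow_le
  intro r _
  by_cases hrp : r = p
  · subst hrp; exact ⟨P, le_sup_left⟩
  · refine ⟨default, le_trans ?_ le_sup_right⟩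
    intro x hx
    rw [Subgroup.mem_centralizer_iff]
    intro y hy
    have := Subgroup.commute_of_normal_of_disjoint _ _ (sylow_normal_of_nilpotent p P)
      (sylow_normal_of_nilpotent r default)
      (IsPGroup.disjoint_of_ne p r (Ne.symm hrp) _ _ P.isPGroup' (default : Sylow r G).isPGroup')
      y x hy hx
    exact this.eq

variable {Ω : Type*} [Finite Ω] [MulAction G Ω] [FaithfulSMul G Ω] [MulAction.IsPretransitive G Ω]

/-- a Sylow subgroup of a transitive nilpotent group acts faithfully on each of its orbits -/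
theorem sylow_faithful_on_orbit [Group.IsNilpotent G] (p : ℕ) [Fact p.Prime] (P : Sylow p G) (ω : Ω)
    (x : G) (hx : x ∈ (P : Subgroup G))
    (hfix : ∀ o ∈ MulAction.orbit ↥(P : Subgroup G) ω, x • o = o) : x = 1 := by
  have : (P : Subgroup G).Normal := sylow_normal_of_nilpotent p P
  apply FaithfulSMul.eq_of_smul_eq_smul (α := Ω)
  intro ω'
  rw [one_smul]
  obtain ⟨g, rfl⟩ := MulAction.exists_smul_eq G ω ω'
  have hg : g ∈ ((P : Subgroup G) ⊔ Subgroup.centralizer (P : Set G) : Subgroup G) := by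
    rw [sylow_sup_centralizer_eq_top]; exact Subgroup.mem_top g
  have hg' : g ∈ ((P : Subgroup G) : Set G) * (Subgroup.centralizer (P : Set G) : Set G) := by
    rw [← Subgroup.normal_mul]; exact hg
  obtain ⟨x', hx', y, hy, rfl⟩ := Set.mem_mul.mp hg'
  -- x'' = x'⁻¹ x x' ∈ P fixes ω
  have hx'' : x'⁻¹ * x * x' ∈ (P : Subgroup G) :=
    (P : Subgroup G).mul_mem ((P : Subgroup G).mul_mem ((P : Subgroup G).inv_mem hx') hx) hx'
  have hcomm : y * (x'⁻¹ * x * x') = (x'⁻¹ * x * x') * y :=
    (Subgroup.mem_centralizer_iff.mp hy _ hx'').symm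
  have h1 : x' • ω ∈ MulAction.orbit ↥(P : Subgroup G) ω := ⟨⟨x', hx'⟩, rfl⟩
  have h2 : (x'⁻¹ * x * x') • ω = ω := by
    rw [mul_smul, mul_smul, hfix _ h1, ← mul_smul, inv_mul_cancel, one_smul]
  calc x • (x' * y) • ω = (x' * ((x'⁻¹ * x * x') * y)) • ω := by
        rw [← mul_smul]; congr 1; group
    _ = (x' * (y * (x'⁻¹ * x * x'))) • ω := by rw [hcomm]
    _ = (x' * y) • ω := by
        rw [mul_smul, mul_smul, h2, ← mul_smul]

theorem sylow_card_le_of_transitive [Group.IsNilpotent G] (p : ℕ) [Fact p.Prime] (P : Sylow p G)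
    (ω : Ω) :
    ∃ q : ℕ, q ∣ Nat.card Ω ∧ (∃ a : ℕ, q = p ^ a) ∧ Nat.card P ≤ BB q := by
  classical
  have : (P : Subgroup G).Normal := sylow_normal_of_nilpotent p P
  set O := MulAction.orbit ↥(P : Subgroup G) ω with hO
  obtain ⟨a, ha⟩ := IsPGroup.card_orbit P.isPGroup' ω
  refine ⟨p ^ a, ?_, ⟨a, rfl⟩, ?_⟩
  · have h1 := (MulAction.IsBlock.orbit_of_normal (G := G) (N := (P : Subgroup G)) ω).ncard_dvd_card
      (MulAction.nonempty_orbit ω)
    rw [← Nat.card_coe_set_eq, ha] at h1
    exact h1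
  · -- P embeds in Perm O
    have hinj : Function.Injective (MulAction.toPermHom ↥(P : Subgroup G) ↥O) := by
      rw [injective_iff_map_eq_one]
      intro x hx
      apply Subtype.ext
      apply sylow_faithful_on_orbit p P ω x.1 x.2
      intro o ho
      have := congrArg (fun σ : Equiv.Perm ↥O => ((σ ⟨o, ho⟩ : ↥O) : Ω)) hx
      exact this
    have hdvd := Subgroup.card_dvd_of_injective _ hinj
    rw [Nat.card_perm, ha] at hdvd
    obtain ⟨k, hk⟩ := IsPGroup.iff_card.mp P.isPGroup'
    rw [hk] at hdvd ⊢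
    have hle : k ≤ av p a := by
      unfold av
      exact (padicValNat_dvd_iff_le (Nat.factorial_ne_zero _)).mp hdvd
    exact (Nat.pow_le_pow_right (Fact.out : p.Prime).pos hle).trans (pow_av_le_BB p a)

/-- transitive nilpotent permutation groups -/
theorem card_le_BB_of_transitive [Group.IsNilpotent G] [Nonempty Ω] :
    Nat.card G ≤ BB (Nat.card Ω) := by
  classical
  obtain ⟨ω⟩ := ‹Nonempty Ω›
  have key : ∀ p : ℕ, p.Prime → ∃ q : ℕ, q ∣ Nat.card Ω ∧ (∃ a : ℕ, q = p ^ a) ∧
      p ^ (Nat.card G).factorization p ≤ BB q := by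
    intro p hp
    have := Fact.mk hp
    obtain ⟨q, h1, h2, h3⟩ := sylow_card_le_of_transitive p (default : Sylow p G) ω
    refine ⟨q, h1, h2, ?_⟩
    rw [← Sylow.card_eq_multiplicity]; exact h3
  let q : ℕ → ℕ := fun p => if hp : p.Prime then Classical.choose (key p hp) else 1
  have hq : ∀ p (hp : p.Prime), q p ∣ Nat.card Ω ∧ (∃ a : ℕ, q p = p ^ a) ∧
      p ^ (Nat.card G).factorization p ≤ BB (q p) := by
    intro p hp
    have := Classical.choose_spec (key p hp)
    simp only [q, dif_pos hp]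
    exact this
  have hG : Nat.card G ≠ 0 := Nat.card_pos.ne'
  have hΩ : 0 < Nat.card Ω := Nat.card_pos
  have e1 : Nat.card G = ∏ p ∈ (Nat.card G).primeFactors, p ^ (Nat.card G).factorization p := by
    conv_lhs => rw [← Nat.prod_factorization_pow_eq_self hG]
    rfl
  rw [e1]
  have hS : ∀ p ∈ (Nat.card G).primeFactors, p.Prime := fun p hp => Nat.prime_of_mem_primeFactors hp
  calc ∏ p ∈ (Nat.card G).primeFactors, p ^ (Nat.card G).factorization p
      ≤ ∏ p ∈ (Nat.card G).primeFactors, BB (q p) :=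
        Finset.prod_le_prod' (fun p hp => (hq p (hS p hp)).2.2)
    _ ≤ BB (∏ p ∈ (Nat.card G).primeFactors, q p) := by
        apply prod_BB_le
        intro p hp
        obtain ⟨a, ha⟩ := (hq p (hS p hp)).2.1
        rw [ha]
        exact Nat.one_le_pow _ _ (hS p hp).pos
    _ ≤ BB (Nat.card Ω) := by
        apply BB_mono
        apply Nat.le_of_dvd hΩ
        apply Finset.prod_dvd_of_isRelPrime
        · intro p hp p' hp' hne
          show IsRelPrime (q p) (q p')
          obtain ⟨a, ha⟩ := (hq p (hS p hp)).2.1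
          obtain ⟨a', ha'⟩ := (hq p' (hS p' hp')).2.1
          rw [ha, ha', ← Nat.coprime_iff_isRelPrime]
          exact Nat.Coprime.pow _ _ ((Nat.coprime_primes (hS p hp) (hS p' hp')).mpr hne)
        · intro p hp
          exact (hq p (hS p hp)).1

end Nilp

end Cfsg.Agent.Helper14.NilpSn
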