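import Cfsg.Agent.Helper14.NilpSn3
import Cfsg.Agent.Helper14.Conj

/-!
# Nilpotent subgroups of `S_n` of order `3 * 2^{ν_2((n-3)!)}`, `n ≡ 3 mod 4`: conjugacy
-/

set_option autoImplicit false

namespace Cfsg.Agent.Helper14.NilpSn

open Equiv Cfsg.Agent.Helper14

/-- two `p`-subgroups of `H` of full `p`-part order are conjugate under `H` -/
theorem exists_conj_in {X : Type*} [Group X] [Finite X] (p : ℕ) [Fact p.Prime]
    (H Q1 Q2 : Subgroup X) (h1 : Q1 ≤ H) (h2 : Q2 ≤ H)
    (c1 : Nat.card Q1 = p ^ (Nat.card H).factorization p)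
    (c2 : Nat.card Q2 = p ^ (Nat.card H).factorization p) :
    ∃ τ ∈ H, Q1.map (cj τ) = Q2 := by
  have e1 : Nat.card (Q1.subgroupOf H) = p ^ (Nat.card H).factorization p := by
    rw [← c1]; exact Nat.card_congr (Subgroup.subgroupOfEquivOfLe h1).toEquiv
  have e2 : Nat.card (Q2.subgroupOf H) = p ^ (Nat.card H).factorization p := by
    rw [← c2]; exact Nat.card_congr (Subgroup.subgroupOfEquivOfLe h2).toEquiv
  let S1 : Sylow p ↥H := Sylow.ofCard (Q1.subgroupOf H) e1
  let S2 : Sylow p ↥H := Sylow.ofCard (Q2.subgroupOf H) e2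
  obtain ⟨τ, hτ⟩ := MulAction.exists_smul_eq ↥H S1 S2
  refine ⟨τ.1, τ.2, ?_⟩
  have h3 := sylow_smul_map H S1 τ
  rw [hτ] at h3
  have m1 : ((S1 : Subgroup ↥H)).map H.subtype = Q1 := Subgroup.map_subgroupOf_eq_of_le h1
  have m2 : ((S2 : Subgroup ↥H)).map H.subtype = Q2 := Subgroup.map_subgroupOf_eq_of_le h2
  rw [m1, m2] at h3
  exact h3.symm

variable {n : ℕ}

theorem factorization_three_mul_two_pow (k : ℕ) : (3 * 2 ^ k).factorization 2 = k := by
  rw [Nat.factorization_mul (by norm_num) (by positivity), Nat.factorization_pow]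
  simp [Nat.factorization_eq_zero_of_not_dvd, Nat.Prime.factorization_self Nat.prime_two]

/-- decomposition of a nilpotent group of order `3 * 2^k` -/
theorem exists_decomp (N : Subgroup (Perm (Fin n))) (hN : Group.IsNilpotent N) (k : ℕ)
    (hcard : Nat.card N = 3 * 2 ^ k) :
    ∃ (c : Perm (Fin n)) (Q : Subgroup (Perm (Fin n))), orderOf c = 3 ∧ Nat.card Q = 2 ^ k ∧
      Q ≤ Subgroup.centralizer {c} ∧ N = Q ⊔ Subgroup.zpowers c := by
  classical
  have : Fact (Nat.Prime 3) := ⟨Nat.prime_three⟩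
  let P2 : Sylow 2 ↥N := default
  obtain ⟨c', hc'⟩ := exists_prime_orderOf_dvd_card' (G := ↥N) 3 (by rw [hcard]; exact Dvd.intro _ rfl)
  have hcp : IsPGroup 3 (Subgroup.zpowers c') := by
    apply IsPGroup.of_card (n := 1)
    rw [Nat.card_zpowers, hc', pow_one]
  obtain ⟨P3, hP3⟩ := hcp.exists_le_sylow
  have hc'P3 : c' ∈ (P3 : Subgroup ↥N) := hP3 (Subgroup.mem_zpowers c')
  have hQcard : Nat.card ((P2 : Subgroup ↥N).map N.subtype) = 2 ^ k := by
    rw [Subgroup.card_map_of_injective N.subtype_injective, Sylow.card_eq_multiplicity, hcard,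
      factorization_three_mul_two_pow]
  have hcord : orderOf (c' : Perm (Fin n)) = 3 := by rw [Subgroup.orderOf_coe, hc']
  have hQN : (P2 : Subgroup ↥N).map N.subtype ≤ N := Subgroup.map_subtype_le _
  refine ⟨c', (P2 : Subgroup ↥N).map N.subtype, hcord, hQcard, ?_, ?_⟩
  · rintro _ ⟨y, hy, rfl⟩
    rw [Subgroup.mem_centralizer_singleton_iff]
    have hcomm := Subgroup.commute_of_normal_of_disjoint _ _ (sylow_normal_of_nilpotent 2 P2)
      (sylow_normal_of_nilpotent 3 P3)
      (IsPGroup.disjoint_of_ne 2 3 (by norm_num) _ _ P2.isPGroup' P3.isPGroup') y c' hy hc'P3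
    have := congrArg Subtype.val hcomm.eq
    exact this
  · symm
    apply Subgroup.eq_of_le_of_card_ge
    · exact sup_le hQN (by rw [Subgroup.zpowers_le]; exact c'.2)
    · have d1 : 2 ^ k ∣ Nat.card ((P2 : Subgroup ↥N).map N.subtype ⊔
          Subgroup.zpowers (c' : Perm (Fin n)) : Subgroup (Perm (Fin n))) := by
        rw [← hQcard]; exact Subgroup.card_dvd_of_le le_sup_left
      have d2 : 3 ∣ Nat.card ((P2 : Subgroup ↥N).map N.subtype ⊔
          Subgroup.zpowers (c' : Perm (Fin n)) : Subgroup (Perm (Fin n))) := by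
        have : Nat.card (Subgroup.zpowers (c' : Perm (Fin n))) = 3 := by
          rw [Nat.card_zpowers, hcord]
        rw [← this]; exact Subgroup.card_dvd_of_le le_sup_right
      have hcop : Nat.Coprime 3 (2 ^ k) := Nat.Coprime.pow_right k (by norm_num)
      have d3 := hcop.mul_dvd_of_dvd_of_dvd d2 d1
      rw [hcard]
      exact Nat.le_of_dvd Nat.card_pos d3

/-- the element of order 3 in an extremal nilpotent group is a 3-cycle -/
theorem cycleType_eq_of_decomp (hn : n % 4 = 3) (c : Perm (Fin n)) (Q : Subgroup (Perm (Fin n)))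
    (hc : orderOf c = 3) (hQ : Nat.card Q = 2 ^ v2 (n - 3))
    (hQc : Q ≤ Subgroup.centralizer {c}) : c.cycleType = {3} := by
  classical
  obtain ⟨m', hm⟩ := Perm.cycleType_prime_order (σ := c) (by rw [hc]; exact Nat.prime_three)
  rw [hc] at hm
  rcases Nat.eq_zero_or_pos m' with h0 | hpos
  · rw [hm, h0]; rfl
  exfalso
  have hsum : c.cycleType.sum = 3 * (m' + 1) := by
    rw [hm, Multiset.sum_replicate, smul_eq_mul, mul_comm]
  have hle : 3 * (m' + 1) ≤ n := by
    rw [← hsum, Perm.sum_cycleType]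
    have := Finset.card_le_univ c.support
    simpa using this
  have hcent := Perm.nat_card_centralizer c
  rw [hsum, Fintype.card_fin] at hcent
  have hprod : c.cycleType.prod = 3 ^ (m' + 1) := by
    rw [hm, Multiset.prod_replicate]
  have hfin : c.cycleType.toFinset = {3} := by
    rw [hm, Multiset.toFinset_replicate, if_neg (Nat.succ_ne_zero _)]
  rw [hprod, hfin, Finset.prod_singleton, hm, Multiset.count_replicate_self] at hcent
  have hdvd : 2 ^ v2 (n - 3) ∣ (n - 3 * (m' + 1)).factorial * 3 ^ (m' + 1) * (m' + 1).factorial := by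
    rw [← hcent, ← hQ]
    exact Subgroup.card_dvd_of_le hQc
  have hne : (n - 3 * (m' + 1)).factorial * 3 ^ (m' + 1) * (m' + 1).factorial ≠ 0 := by positivity
  have hval := (padicValNat_dvd_iff_le hne).mp hdvd
  rw [padicValNat.mul (by positivity) (by positivity), padicValNat.mul (by positivity) (by positivity),
    padicValNat.pow] at hval
  have h3 : padicValNat 2 3 = 0 := padicValNat.eq_zero_of_not_dvd (by norm_num)
  rw [h3, mul_zero, add_zero] at hval
  have hval' : v2 (n - 3) ≤ v2 (n - 3 * (m' + 1)) + v2 (m' + 1) := hval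
  -- but the right side is at most v2 (n - 4) < v2 (n - 3)
  have h4 : v2 (n - 3 * (m' + 1)) + v2 (m' + 1) ≤ v2 (n - 4) := by
    refine (v2_add_le _ _).trans (v2_mono ?_)
    omega
  obtain ⟨j, hj⟩ : ∃ j, n = 4 * (j + 1) + 3 := ⟨(n - 7) / 4, by omega⟩
  have e1 : n - 3 = 4 * (j + 1) := by omega
  have e2 : n - 4 = 4 * j + 3 := by omega
  have h5 := v2_four_succ j
  have h6 := v2_four_add_three j
  rw [e1] at hval'
  rw [e2] at h4
  omega

theorem conj_of_extremal (hn : n % 4 = 3) (N1 N2 : Subgroup (Perm (Fin n)))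
    (h1 : Group.IsNilpotent N1) (h2 : Group.IsNilpotent N2)
    (c1 : Nat.card N1 = 3 * 2 ^ v2 (n - 3)) (c2 : Nat.card N2 = 3 * 2 ^ v2 (n - 3)) :
    ∃ g : Perm (Fin n), N2 = N1.map (MulAut.conj g).toMonoidHom := by
  classical
  obtain ⟨c, Q, hc, hQ, hQc, hN1⟩ := exists_decomp N1 h1 _ c1
  obtain ⟨c', Q', hc', hQ', hQc', hN2⟩ := exists_decomp N2 h2 _ c2
  have t1 := cycleType_eq_of_decomp hn c Q hc hQ hQc
  have t2 := cycleType_eq_of_decomp hn c' Q' hc' hQ' hQc'
  have hconj : IsConj c c' := Perm.isConj_iff_cycleType_eq.mpr (t1.trans t2.symm)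
  obtain ⟨σ, hσ⟩ := isConj_iff.mp hconj
  -- Q1 = σ Q σ⁻¹ centralizes c'
  have hQ1c : Q.map (cj σ) ≤ Subgroup.centralizer {c'} := by
    rintro _ ⟨x, hx, rfl⟩
    rw [Subgroup.mem_centralizer_singleton_iff]
    have hxc : x * c = c * x := Subgroup.mem_centralizer_singleton_iff.mp (hQc hx)
    show σ * x * σ⁻¹ * c' = c' * (σ * x * σ⁻¹)
    rw [← hσ]
    calc σ * x * σ⁻¹ * (σ * c * σ⁻¹) = σ * (x * c) * σ⁻¹ := by group
      _ = σ * (c * x) * σ⁻¹ := by rw [hxc]
      _ = σ * c * σ⁻¹ * (σ * x * σ⁻¹) := by group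
  have hQ1card : Nat.card (Q.map (cj σ)) = 2 ^ v2 (n - 3) := by
    rw [Subgroup.card_map_of_injective (cj_injective σ), hQ]
  -- order of the centralizer
  have hcent := Perm.nat_card_centralizer c'
  have hsum : c'.cycleType.sum = 3 := by rw [t2]; rfl
  have hfact : (Nat.card (Subgroup.centralizer {c'})).factorization 2 = v2 (n - 3) := by
    rw [hcent, hsum, Fintype.card_fin, t2]
    have : (({3} : Multiset ℕ).toFinset) = {3} := by rfl
    rw [this, Finset.prod_singleton]
    have h3 : Multiset.count 3 ({3} : Multiset ℕ) = 1 := by simp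
    have h4 : ({3} : Multiset ℕ).prod = 3 := by simp
    rw [h3, h4, Nat.factorial_one, mul_one, Nat.factorization_def _ Nat.prime_two,
      padicValNat.mul (by positivity) (by norm_num)]
    have h5 : padicValNat 2 3 = 0 := padicValNat.eq_zero_of_not_dvd (by norm_num)
    rw [h5, add_zero]
    rfl
  obtain ⟨τ, hτ, hτQ⟩ := exists_conj_in 2 (Subgroup.centralizer {c'}) (Q.map (cj σ)) Q' hQ1c hQc'
    (by rw [hQ1card, hfact]) (by rw [hQ', hfact])
  refine ⟨τ * σ, ?_⟩
  have hτc : τ * c' * τ⁻¹ = c' := by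
    have := Subgroup.mem_centralizer_singleton_iff.mp hτ
    rw [this]; group
  show N2 = N1.map (cj (τ * σ))
  rw [hN1, hN2, Subgroup.map_sup, MonoidHom.map_zpowers, ← map_cj_mul, hτQ]
  congr 2
  show c' = τ * σ * c * (τ * σ)⁻¹
  rw [← hτc, ← hσ]
  group

end Cfsg.Agent.Helper14.NilpSn
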