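import Cfsg.Agent.Helper14.PReduced
import Cfsg.Agent.Helper14.SylowIn
import Cfsg.Prelude.Def_LocalStructure

set_option autoImplicit false
set_option linter.unusedSectionVars false

namespace Cfsg.Agent.Helper14

open Cfsg

variable {H : Type*} [Group H] {p : ℕ} [Fact p.Prime]

/-- ambient form of "`V` is a `p`-reduced normal subgroup of `L`" -/
def IsPReducedIn (p : ℕ) (V L : Subgroup H) : Prop :=
  V ≤ L ∧ L ≤ Subgroup.normalizer (V : Set H) ∧ IsElementaryAbelian p V ∧
  ∀ D : Subgroup H, D ≤ L → L ≤ Subgroup.normalizer (D : Set H) →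
    (∀ d ∈ D, ∃ k : ℕ, d ^ (p ^ k) ∈ Subgroup.centralizer (V : Set H)) →
    D ≤ Subgroup.centralizer (V : Set H)

theorem centralizer_subgroupOf_eq {V L : Subgroup H} (hVL : V ≤ L) :
    Subgroup.centralizer ((V.subgroupOf L : Subgroup ↥L) : Set ↥L) =
      (Subgroup.centralizer (V : Set H)).subgroupOf L := by
  ext x
  rw [Subgroup.mem_subgroupOf, Subgroup.mem_centralizer_iff, Subgroup.mem_centralizer_iff]
  constructor
  · intro h v hv
    have := h ⟨v, hVL hv⟩ (by
      show (⟨v, hVL hv⟩ : ↥L) ∈ V.subgroupOf L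
      rw [Subgroup.mem_subgroupOf]; exact hv)
    exact congrArg Subtype.val this
  · intro h v hv
    have hv' : (v : H) ∈ V := Subgroup.mem_subgroupOf.1 hv
    exact Subtype.ext (h v.1 hv')

theorem isElementaryAbelian_subgroupOf_iff {V L : Subgroup H} (hVL : V ≤ L) :
    IsElementaryAbelian p (V.subgroupOf L) ↔ IsElementaryAbelian p V := by
  constructor
  · rintro ⟨⟨⟨hc⟩⟩, he⟩
    refine ⟨⟨⟨?_⟩⟩, ?_⟩
    · rintro ⟨a, ha⟩ ⟨b, hb⟩
      have := hc ⟨⟨a, hVL ha⟩, Subgroup.mem_subgroupOf.2 ha⟩ ⟨⟨b, hVL hb⟩, Subgroup.mem_subgroupOf.2 hb⟩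
      apply Subtype.ext
      have h2 := congrArg (fun z => ((z : ↥L) : H)) (congrArg Subtype.val this)
      exact h2
    · intro a ha
      have := he ⟨a, hVL ha⟩ (Subgroup.mem_subgroupOf.2 ha)
      exact congrArg Subtype.val this
  · rintro ⟨⟨⟨hc⟩⟩, he⟩
    refine ⟨⟨⟨?_⟩⟩, ?_⟩
    · rintro ⟨a, ha⟩ ⟨b, hb⟩
      have ha' : (a : H) ∈ V := Subgroup.mem_subgroupOf.1 ha
      have hb' : (b : H) ∈ V := Subgroup.mem_subgroupOf.1 hb
      have := hc ⟨a.1, ha'⟩ ⟨b.1, hb'⟩
      apply Subtype.ext
      apply Subtype.ext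
      have h2 : (a : H) * (b : H) = (b : H) * (a : H) := congrArg Subtype.val this
      exact h2
    · intro a ha
      have ha' : (a : H) ∈ V := Subgroup.mem_subgroupOf.1 ha
      apply Subtype.ext
      exact he a.1 ha'

theorem isPReducedNormal_subgroupOf_iff {V L : Subgroup H} (hVL : V ≤ L) :
    IsPReducedNormal p (V.subgroupOf L) ↔ IsPReducedIn p V L := by
  constructor
  · rintro ⟨hn, he, hcn, hcore⟩
    refine ⟨hVL, (Subgroup.normal_subgroupOf_iff_le_normalizer hVL).1 hn,
      (isElementaryAbelian_subgroupOf_iff hVL).1 he, ?_⟩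
    intro D hDL hLD hDp
    set C' := Subgroup.centralizer ((V.subgroupOf L : Subgroup ↥L) : Set ↥L) with hC'
    have hDn : (D.subgroupOf L).Normal := (Subgroup.normal_subgroupOf_iff_le_normalizer hDL).2 hLD
    have h1 : ((D.subgroupOf L).map (QuotientGroup.mk' C')).Normal :=
      hDn.map _ (QuotientGroup.mk'_surjective _)
    have h2 : IsPGroup p ↥((D.subgroupOf L).map (QuotientGroup.mk' C')) := by
      rintro ⟨_, d, hd, rfl⟩
      obtain ⟨k, hk⟩ := hDp d.1 (Subgroup.mem_subgroupOf.1 hd)
      refine ⟨k, ?_⟩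
      apply Subtype.ext
      show (QuotientGroup.mk' C' d) ^ (p ^ k) = 1
      rw [← map_pow, QuotientGroup.mk'_apply, QuotientGroup.eq_one_iff, hC',
        centralizer_subgroupOf_eq hVL, Subgroup.mem_subgroupOf]
      exact hk
    have h3 := le_pCore p h1 h2
    rw [hcore, le_bot_iff, Subgroup.map_eq_bot_iff, QuotientGroup.ker_mk', hC',
      centralizer_subgroupOf_eq hVL] at h3
    intro d hd
    have := h3 (show (⟨d, hDL hd⟩ : ↥L) ∈ D.subgroupOf L from Subgroup.mem_subgroupOf.2 hd)
    exact Subgroup.mem_subgroupOf.1 this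
  · rintro ⟨_, hn, he, hD⟩
    have hVn : (V.subgroupOf L).Normal := (Subgroup.normal_subgroupOf_iff_le_normalizer hVL).2 hn
    refine ⟨hVn, (isElementaryAbelian_subgroupOf_iff hVL).2 he, inferInstance, ?_⟩
    set C' := Subgroup.centralizer ((V.subgroupOf L : Subgroup ↥L) : Set ↥L) with hC'
    set E := (pCore p (↥L ⧸ C')).comap (QuotientGroup.mk' C') with hE
    have hEn : E.Normal := (pCore_normal p).comap _
    have hEC : E ≤ C' := by
      have h1 : E.map L.subtype ≤ Subgroup.centralizer (V : Set H) := by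
        apply hD
        · exact map_subtype_le E
        · have : ((E.map L.subtype).subgroupOf L).Normal := by
            rw [subgroupOf_map_subtype']; exact hEn
          exact (Subgroup.normal_subgroupOf_iff_le_normalizer (map_subtype_le E)).1 this
        · rintro _ ⟨e, he', rfl⟩
          have he'' : QuotientGroup.mk' C' e ∈ pCore p (↥L ⧸ C') := he'
          obtain ⟨k, hk⟩ := (pCore_isPGroup p) ⟨_, he''⟩
          have hk' : (QuotientGroup.mk' C' e) ^ (p ^ k) = 1 := by
            simpa using congrArg Subtype.val hk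
          rw [← map_pow, QuotientGroup.mk'_apply, QuotientGroup.eq_one_iff, hC',
            centralizer_subgroupOf_eq hVL, Subgroup.mem_subgroupOf] at hk'
          exact ⟨k, by simpa using hk'⟩
      intro e he'
      rw [hC', centralizer_subgroupOf_eq hVL, Subgroup.mem_subgroupOf]
      exact h1 ⟨e, he', rfl⟩
    have h4 : pCore p (↥L ⧸ C') = E.map (QuotientGroup.mk' C') :=
      (Subgroup.map_comap_eq_self_of_surjective (QuotientGroup.mk'_surjective C') _).symm
    rw [h4, Subgroup.map_eq_bot_iff, QuotientGroup.ker_mk']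
    exact hEC

theorem largestPReduced_eq (L : Type*) [Group L] : largestPReduced p L = pReducedJoin p L := rfl

theorem largestPReducedOf_le (L : Subgroup H) : largestPReducedOf p L ≤ L :=
  map_subtype_le _

theorem largestPReducedOf_subgroupOf (L : Subgroup H) :
    (largestPReducedOf p L).subgroupOf L = largestPReduced p ↥L :=
  subgroupOf_map_subtype' _

theorem largestPReducedOf_isPReducedIn (L : Subgroup H) :
    IsPReducedIn p (largestPReducedOf p L) L := by
  rw [← isPReducedNormal_subgroupOf_iff (largestPReducedOf_le L), largestPReducedOf_subgroupOf]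
  exact pReducedJoin_isPReducedNormal

theorem le_largestPReducedOf {V L : Subgroup H} (h : IsPReducedIn p V L) :
    V ≤ largestPReducedOf p L := by
  have h1 := (isPReducedNormal_subgroupOf_iff h.1).2 h
  have h2 : V.subgroupOf L ≤ largestPReduced p ↥L := le_pReducedJoin h1
  have h3 := Subgroup.map_mono (f := L.subtype) h2
  rwa [map_subtype_subgroupOf h.1] at h3

theorem largestPReducedOf_le_pCoreOf (L : Subgroup H) :
    largestPReducedOf p L ≤ pCoreOf p L :=
  Subgroup.map_mono pReducedJoin_le_pCore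

theorem pCoreOf_le_centralizer_largestPReducedOf (L : Subgroup H) :
    pCoreOf p L ≤ Subgroup.centralizer (largestPReducedOf p L : Set H) := by
  rintro _ ⟨x, hx, rfl⟩
  have h1 := pCore_le_centralizer_pReducedJoin (p := p) hx
  rw [Subgroup.mem_centralizer_iff] at h1 ⊢
  rintro _ ⟨y, hy, rfl⟩
  exact congrArg Subtype.val (h1 y hy)

end Cfsg.Agent.Helper14
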