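import Cfsg.Agent.Helper14.PReduced4
import Cfsg.Agent.Helper14.Irreducible

set_option autoImplicit false
set_option linter.unusedSectionVars false

namespace Cfsg.Agent.Helper14

open Cfsg

variable {L : Type*} [Group L] {p : ℕ} [Fact p.Prime]

/-- type-level characterization of `p`-reduced normal subgroups without quotients -/
theorem isPReducedNormal_iff {V : Subgroup L} :
    IsPReducedNormal p V ↔ V.Normal ∧ IsElementaryAbelian p V ∧
      ∀ D : Subgroup L, D.Normal →
        (∀ d ∈ D, ∃ k : ℕ, d ^ (p ^ k) ∈ Subgroup.centralizer (V : Set L)) →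
        D ≤ Subgroup.centralizer (V : Set L) := by
  constructor
  · rintro ⟨hn, he, hcn, hcore⟩
    refine ⟨hn, he, ?_⟩
    intro D hDn hDp
    set C := Subgroup.centralizer (V : Set L) with hC
    have h1 : (D.map (QuotientGroup.mk' C)).Normal := hDn.map _ (QuotientGroup.mk'_surjective _)
    have h2 : IsPGroup p ↥(D.map (QuotientGroup.mk' C)) := by
      rintro ⟨_, d, hd, rfl⟩
      obtain ⟨k, hk⟩ := hDp d hd
      refine ⟨k, ?_⟩
      apply Subtype.ext
      show (QuotientGroup.mk' C d) ^ (p ^ k) = 1
      rw [← map_pow, QuotientGroup.mk'_apply, QuotientGroup.eq_one_iff]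
      exact hk
    have h3 := le_pCore p h1 h2
    rw [hcore, le_bot_iff, Subgroup.map_eq_bot_iff, QuotientGroup.ker_mk'] at h3
    exact h3
  · rintro ⟨hn, he, hD⟩
    refine ⟨hn, he, inferInstance, ?_⟩
    set C := Subgroup.centralizer (V : Set L) with hC
    set E := (pCore p (L ⧸ C)).comap (QuotientGroup.mk' C) with hE
    have hEn : E.Normal := (pCore_normal p).comap _
    have hEC : E ≤ C := by
      apply hD E hEn
      intro e he'
      have he'' : QuotientGroup.mk' C e ∈ pCore p (L ⧸ C) := he'
      obtain ⟨k, hk⟩ := (pCore_isPGroup p) ⟨_, he''⟩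
      have hk' : (QuotientGroup.mk' C e) ^ (p ^ k) = 1 := by
        simpa using congrArg Subtype.val hk
      rw [← map_pow, QuotientGroup.mk'_apply, QuotientGroup.eq_one_iff] at hk'
      exact ⟨k, hk'⟩
    have h4 : pCore p (L ⧸ C) = E.map (QuotientGroup.mk' C) :=
      (Subgroup.map_comap_eq_self_of_surjective (QuotientGroup.mk'_surjective C) _).symm
    rw [h4, Subgroup.map_eq_bot_iff, QuotientGroup.ker_mk']
    exact hEC

theorem ozc_normal (Q : Subgroup L) [hQ : Q.Normal] : (ozc p Q).Normal := by
  have h : ∀ g : L, (ozc p Q).map (cj g) = ozc p Q := by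
    intro g
    rw [map_cj_ozc]
    congr 1
    exact mem_normalizer_iff_map_cj.1 (by rw [Subgroup.normalizer_eq_top]; trivial)
  constructor
  intro n hn g
  have : g * n * g⁻¹ ∈ (ozc p Q).map (cj g) := ⟨n, hn, rfl⟩
  rwa [h g] at this

variable [Finite L]

/-- abstract criterion: the normal closure of `W ≤ Ω₁Z(O_p(L))` is `p`-reduced as soon as
`T ∩ D` centralizes `W` for the relevant normal subgroups `D` -/
theorem isPReducedNormal_normalClosure (T : Sylow p L) {W : Subgroup L}
    (hW : W ≤ ozc p (pCore p L))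
    (hT : ∀ D : Subgroup L, D.Normal →
      (∀ d ∈ D, ∃ k : ℕ, d ^ (p ^ k) ∈
        Subgroup.centralizer ((Subgroup.normalClosure (W : Set L) : Subgroup L) : Set L)) →
      (T : Subgroup L) ⊓ D ≤ Subgroup.centralizer (W : Set L)) :
    IsPReducedNormal p (Subgroup.normalClosure (W : Set L)) := by
  set V := Subgroup.normalClosure (W : Set L) with hV
  have hWV : W ≤ V := Subgroup.le_normalClosure
  have hozn : (ozc p (pCore p L)).Normal := ozc_normal _
  have hVoz : V ≤ ozc p (pCore p L) := Subgroup.normalClosure_le_normal hW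
  rw [isPReducedNormal_iff]
  refine ⟨Subgroup.normalClosure_normal,
    isElementaryAbelian_of_le hVoz (isElementaryAbelian_ozc _), ?_⟩
  intro D hDn hDp
  set C := Subgroup.centralizer (V : Set L) with hC
  have hCn : C.Normal := inferInstance
  have hP : IsSylowIn p ((T : Subgroup L) ⊓ D) D := sylow_inf_normal_isSylowIn T D
  have hDN : D ≤ Subgroup.normalizer ((D ⊓ C : Subgroup L) : Set L) := by
    have : (D ⊓ C).Normal := inferInstance
    rw [Subgroup.normalizer_eq_top]; exact le_top
  have hq : ∀ d ∈ D, ∃ k : ℕ, d ^ (p ^ k) ∈ D ⊓ C := by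
    intro d hd
    obtain ⟨k, hk⟩ := hDp d hd
    exact ⟨k, D.pow_mem hd _, hk⟩
  have h1 : D ≤ ((T : Subgroup L) ⊓ D) ⊔ (D ⊓ C) := le_sylow_sup_of_pQuotient hP inf_le_left hDN hq
  have h2 : D ≤ Subgroup.centralizer (W : Set L) := by
    refine h1.trans (sup_le (hT D hDn hDp) (inf_le_right.trans ?_))
    exact Subgroup.centralizer_le hWV
  -- D normal, so D centralizes the normal closure
  rw [hC, Subgroup.le_centralizer_iff]
  have hCDn : (Subgroup.centralizer (D : Set L)).Normal := inferInstance
  apply Subgroup.normalClosure_le_normal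
  rw [Subgroup.le_centralizer_iff] at h2
  exact h2

end Cfsg.Agent.Helper14

namespace Cfsg.Agent.Helper14

open Cfsg

variable {L : Type*} [Group L] [Finite L] {p : ℕ} [Fact p.Prime]

theorem pCoreOf_le_centralizer_of_isPReducedIn {W R : Subgroup L} (h : IsPReducedIn p W R) :
    pCoreOf p R ≤ Subgroup.centralizer (W : Set L) := by
  have h1 := (isPReducedNormal_subgroupOf_iff h.1).2 h
  have h2 := pCore_le_centralizer_of_isPReducedNormal h1
  rintro _ ⟨x, hx, rfl⟩
  have h3 := h2 hx
  rw [Subgroup.mem_centralizer_iff] at h3 ⊢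
  intro w hw
  exact congrArg Subtype.val (h3 ⟨w, h.1 hw⟩ (Subgroup.mem_subgroupOf.2 hw))

/-- S2802 -/
theorem isPReducedNormal_normalClosure_of_overgroup
    (hchar : Subgroup.centralizer (pCore p L : Set L) ≤ pCore p L) (T : Sylow p L)
    (R : Subgroup L) (hTR : (T : Subgroup L) ≤ R) (X : Subgroup ↥R)
    (hX : IsPReducedNormal p X) :
    IsPReducedNormal p (Subgroup.normalClosure ((X.map R.subtype : Subgroup L) : Set L)) := by
  set W := X.map R.subtype with hW
  have hWR : W ≤ R := map_subtype_le X
  have hred : IsPReducedIn p W R := by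
    rw [← isPReducedNormal_subgroupOf_iff hWR, hW, subgroupOf_map_subtype']
    exact hX
  have hQR : pCore p L ≤ R := (pCore_le_sylow p T).trans hTR
  have hQ1 : pCore p L ≤ pCoreOf p R := by
    apply le_pCoreOf p hQR _ (pCore_isPGroup p)
    rw [Subgroup.normalizer_eq_top]; exact le_top
  have hQW : W ≤ Subgroup.centralizer (pCore p L : Set L) := by
    rw [← Subgroup.le_centralizer_iff]
    exact hQ1.trans (pCoreOf_le_centralizer_of_isPReducedIn hred)
  apply isPReducedNormal_normalClosure T
  · intro w hw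
    exact Subgroup.subset_closure ⟨⟨hchar (hQW hw), hQW hw⟩, hred.2.2.1.2 w hw⟩
  · intro D hDn hDp
    have h1 : R ⊓ D ≤ Subgroup.centralizer (W : Set L) := by
      apply hred.2.2.2 (R ⊓ D) inf_le_left
      · apply le_normalizer_inf Subgroup.le_normalizer
        rw [Subgroup.normalizer_eq_top]; exact le_top
      · intro d hd
        obtain ⟨k, hk⟩ := hDp d hd.2
        exact ⟨k, Subgroup.centralizer_le Subgroup.le_normalClosure hk⟩
    exact (inf_le_inf_right D hTR).trans h1

end Cfsg.Agent.Helper14
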