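import Cfsg.Agent.Helper14.PReduced5

set_option autoImplicit false
set_option linter.unusedSectionVars false

namespace Cfsg.Agent.Helper14

open Cfsg

variable {L : Type*} [Group L] [Finite L] {p : ℕ} [Fact p.Prime]

/-- S2803 -/
theorem largest_pReduced_structure
    (hchar : Subgroup.centralizer (pCore p L : Set L) ≤ pCore p L) (T : Sylow p L)
    (Y : Subgroup L)
    (hY : IsPReducedNormal p Y ∧ ∀ V : Subgroup L, IsPReducedNormal p V → V ≤ Y)
    (TL : Subgroup L) (hTL : TL = (T : Subgroup L) ⊓ Subgroup.centralizer (Y : Set L)) :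
    (∀ g : L, ∃ a ∈ Subgroup.normalizer (TL : Set L),
      ∃ c ∈ Subgroup.centralizer (Y : Set L), g = a * c) ∧
    (pCore p ↥(Subgroup.normalizer (TL : Set L))).map (Subgroup.normalizer (TL : Set L)).subtype
      = TL ∧
    Y = omegaOne p (TL ⊓ Subgroup.centralizer (TL : Set L)) := by
  obtain ⟨hYred, hYmax⟩ := hY
  have hYn : Y.Normal := hYred.1
  set C := Subgroup.centralizer (Y : Set L) with hC
  have hCn : C.Normal := inferInstance
  have hYiff := isPReducedNormal_iff.1 hYred
  have hTLS : IsSylowIn p TL C := by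
    rw [hTL]; exact sylow_inf_normal_isSylowIn T C
  have hTLp : IsPGroup p ↥TL := hTLS.2.1
  -- (a)
  have hfrat : (⊤ : Subgroup L) ≤ C ⊔ Subgroup.normalizer (TL : Set L) := by
    have := frattini_ambient (p := p) (T := TL) (N := C) (G := ⊤) le_top
      (by rw [Subgroup.normalizer_eq_top]) hTLS
    rwa [top_inf_eq] at this
  have ha : ∀ g : L, ∃ a ∈ Subgroup.normalizer (TL : Set L), ∃ c ∈ C, g = a * c := by
    intro g
    have hg := hfrat (Subgroup.mem_top g)
    rw [sup_comm, Subgroup.mem_sup_of_normal_right] at hg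
    obtain ⟨a, ha, c, hc, hac⟩ := hg
    exact ⟨a, ha, c, hc, hac.symm⟩
  -- Y ≤ Z(TL)
  have hQT : pCore p L ≤ (T : Subgroup L) := pCore_le_sylow p T
  have hQC : pCore p L ≤ C := pCore_le_centralizer_of_isPReducedNormal hYred
  have hQTL : pCore p L ≤ TL := by rw [hTL]; exact le_inf hQT hQC
  have hYQ : Y ≤ pCore p L := le_pCore_of_isPReducedNormal hYred
  have hYTL : Y ≤ TL := hYQ.trans hQTL
  have hTLC : TL ≤ C := by rw [hTL]; exact inf_le_right
  have hYoz : Y ≤ ozc p TL := by
    intro y hy
    refine Subgroup.subset_closure ⟨⟨hYTL hy, ?_⟩, hYred.2.1.2 y hy⟩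
    have := hTLC
    rw [hC, Subgroup.le_centralizer_iff] at this
    exact this hy
  -- (b)
  set N := Subgroup.normalizer (TL : Set L) with hN
  have hb : pCoreOf p N = TL := by
    apply le_antisymm
    · set Q' := pCoreOf p N with hQ'
      have hQ'p : IsPGroup p ↥Q' := pCoreOf_isPGroup p N
      have hQ'C : Q' ≤ C := by
        have hDn : (Q' ⊔ C).Normal := by
          have h1 : N ≤ Subgroup.normalizer ((Q' ⊔ C : Subgroup L) : Set L) := by
            apply le_normalizer_sup (le_normalizer_pCoreOf p N)
            rw [Subgroup.normalizer_eq_top]; exact le_top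
          have h2 : C ≤ Subgroup.normalizer ((Q' ⊔ C : Subgroup L) : Set L) :=
            le_sup_right.trans Subgroup.le_normalizer
          have h3 : (⊤ : Subgroup L) ≤ Subgroup.normalizer ((Q' ⊔ C : Subgroup L) : Set L) :=
            hfrat.trans (sup_le h2 h1)
          exact Subgroup.normalizer_eq_top_iff.1 (top_le_iff.1 h3)
        have h4 : Q' ⊔ C ≤ C := by
          apply hYiff.2.2 _ hDn
          apply exists_pow_mem_of_mem_sup
          · rw [Subgroup.normalizer_eq_top]; exact le_top
          · intro q hq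
            obtain ⟨k, hk⟩ := hQ'p ⟨q, hq⟩
            refine ⟨k, ?_⟩
            have : q ^ (p ^ k) = 1 := by simpa using congrArg Subtype.val hk
            rw [this]; exact C.one_mem
        exact le_sup_left.trans h4
      have hTLQ' : TL ≤ Q' :=
        le_pCoreOf p Subgroup.le_normalizer le_rfl hTLp
      rw [hTLS.2.2 Q' hQ'C hQ'p hTLQ']
    · exact le_pCoreOf p Subgroup.le_normalizer le_rfl hTLp
  -- (c)
  have hc : ozc p TL ≤ Y := by
    have hWoz : ozc p TL ≤ ozc p (pCore p L) := by
      apply omegaOne_mono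
      have h1 : TL ⊓ Subgroup.centralizer (TL : Set L) ≤
          Subgroup.centralizer (pCore p L : Set L) :=
        inf_le_right.trans (Subgroup.centralizer_le hQTL)
      exact le_inf (h1.trans hchar) h1
    have hVred : IsPReducedNormal p (Subgroup.normalClosure ((ozc p TL : Subgroup L) : Set L)) := by
      apply isPReducedNormal_normalClosure T hWoz
      intro D hDn hDp
      have hDC : D ≤ C := by
        apply hYiff.2.2 D hDn
        intro d hd
        obtain ⟨k, hk⟩ := hDp d hd
        refine ⟨k, ?_⟩
        exact Subgroup.centralizer_le (hYoz.trans Subgroup.le_normalClosure) hk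
      have h1 : (T : Subgroup L) ⊓ D ≤ TL := by
        rw [hTL]; exact inf_le_inf_left _ hDC
      exact h1.trans (le_centralizer_ozc TL)
    exact Subgroup.le_normalClosure.trans (hYmax _ hVred)
  exact ⟨ha, hb, le_antisymm hYoz hc⟩

end Cfsg.Agent.Helper14
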