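import Cfsg.Agent.Helper14.PReduced5
import Cfsg.Agent.Helper14.Subnormal2
import Cfsg.Agent.Helper14.ModTransfer2
import Cfsg.Agent.Helper14.CharP

set_option autoImplicit false
set_option linter.unusedSectionVars false

namespace Cfsg.Agent.Helper14

open Cfsg
open scoped commutatorElement

section
variable {L : Type*} [Group L] {p : ℕ} [Fact p.Prime]

/-- a subnormal subgroup acting as a `p`-group on a `p`-reduced normal subgroup centralizes it -/
theorem le_centralizer_of_subnormal_pAction [Finite L] {V D : Subgroup L}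
    (hV : IsPReducedNormal p V) (hD : D.IsSubnormal)
    (hDp : ∀ d ∈ D, ∃ k : ℕ, d ^ (p ^ k) ∈ Subgroup.centralizer (V : Set L)) :
    D ≤ Subgroup.centralizer (V : Set L) := by
  obtain ⟨hn, he, hcn, hcore⟩ := hV
  set C := Subgroup.centralizer (V : Set L) with hC
  have h1 : (D.map (QuotientGroup.mk' C)).IsSubnormal := hD.map (QuotientGroup.mk'_surjective C)
  have h2 : IsPGroup p ↥(D.map (QuotientGroup.mk' C)) := by
    rintro ⟨_, d, hd, rfl⟩
    obtain ⟨k, hk⟩ := hDp d hd
    refine ⟨k, ?_⟩
    apply Subtype.ext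
    show (QuotientGroup.mk' C d) ^ (p ^ k) = 1
    rw [← map_pow, QuotientGroup.mk'_apply, QuotientGroup.eq_one_iff]
    exact hk
  have h3 := le_pCore_of_isSubnormal h1 h2
  rw [hcore, le_bot_iff, Subgroup.map_eq_bot_iff, QuotientGroup.ker_mk'] at h3
  exact h3

/-- an element acting quadratically on a normal elementary abelian `p`-subgroup has its `p`-th
power in the centralizer -/
theorem pow_mem_centralizer_of_quadratic {V : Subgroup L} (hVn : V.Normal)
    (he : IsElementaryAbelian p V) (d : L)
    (hq : ∀ v ∈ V, d * (d * v * d⁻¹ * v⁻¹) = (d * v * d⁻¹ * v⁻¹) * d) :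
    d ^ p ∈ Subgroup.centralizer (V : Set L) := by
  have key : ∀ v ∈ V, ∀ n : ℕ, d ^ n * v * (d ^ n)⁻¹ = (d * v * d⁻¹ * v⁻¹) ^ n * v := by
    intro v hv n
    induction n with
    | zero => simp
    | succ n ih =>
      set w := d * v * d⁻¹ * v⁻¹ with hw
      have hcomm : d * w ^ n = w ^ n * d := by
        have : Commute d w := hq v hv
        exact (this.pow_right n)
      have h1 : d ^ (n + 1) * v * (d ^ (n + 1))⁻¹ = d * (d ^ n * v * (d ^ n)⁻¹) * d⁻¹ := by
        rw [pow_succ']; group
      rw [h1, ih]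
      have h2 : d * (w ^ n * v) * d⁻¹ = (d * w ^ n) * (v * d⁻¹) := by group
      rw [h2, hcomm, pow_succ]
      have h3 : w ^ n * d * (v * d⁻¹) = w ^ n * (d * v * d⁻¹ * v⁻¹) * v := by group
      rw [h3]
  rw [Subgroup.mem_centralizer_iff]
  intro v hv
  have hwV : d * v * d⁻¹ * v⁻¹ ∈ V := V.mul_mem (hVn.conj_mem v hv d) (V.inv_mem hv)
  have h := key v hv p
  rw [he.2 _ hwV, one_mul] at h
  calc v * d ^ p = (d ^ p * v * (d ^ p)⁻¹) * d ^ p := by rw [h]
    _ = d ^ p * v := by group

/-- S2804: `[V, O^p(K)]` is a `p`-reduced normal subgroup of the subnormal subgroup `K` -/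
theorem commutator_pResidualOf_isPReducedIn [Finite L] (V : Subgroup L)
    (hV : IsPReducedNormal p V) (K : Subgroup L) (hK : K.IsSubnormal) :
    IsPReducedIn p ⁅V, (pResidual p ↥K).map K.subtype⁆ K := by
  have hVn : V.Normal := hV.1
  have hVe : IsElementaryAbelian p V := hV.2.1
  set R := (pResidual p ↥K).map K.subtype with hR
  set U := ⁅V, R⁆ with hU
  have hRK : R ≤ K := map_subtype_le _
  have hVcore : V ≤ pCore p L := le_pCore p hVn (isPGroup_of_isElementaryAbelian hVe)
  have hVR : V ≤ Subgroup.normalizer (R : Set L) :=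
    hVcore.trans (pCore_le_normalizer_pResidualOf hK)
  have hUR : U ≤ R := commutator_le_right_of_le_normalizer hVR
  have hUV : U ≤ V := Subgroup.commutator_le_left V R
  have hKV : K ≤ Subgroup.normalizer (V : Set L) := by
    rw [Subgroup.normalizer_eq_top_iff.2 hVn]; exact le_top
  have hKR : K ≤ Subgroup.normalizer (R : Set L) := by
    apply le_normalizer_of_map_cj_le
    intro k hk
    exact (map_cj_map_subtype_of_characteristic K (pResidual p ↥K) (Subgroup.le_normalizer hk)).le
  refine ⟨hUR.trans hRK, le_normalizer_commutator hKV hKR, isElementaryAbelian_of_le hUV hVe, ?_⟩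
  intro D hDK hKD hDp
  -- `D` is subnormal in `L`
  have hDsub : D.IsSubnormal := by
    apply Subgroup.IsSubnormal.trans hDK _ hK
    exact ((Subgroup.normal_subgroupOf_iff_le_normalizer hDK).2 hKD).isSubnormal
  -- `p'`-elements of `D` centralize `V`
  have hp' : ∀ d ∈ D, Nat.Coprime (orderOf d) p → d ∈ Subgroup.centralizer (V : Set L) := by
    intro d hd hcop
    have hdR : d ∈ R := by
      rw [hR, pResidualOf_eq_closure]
      exact Subgroup.subset_closure ⟨hDK hd, hcop⟩
    have hdU : d ∈ Subgroup.centralizer (U : Set L) := by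
      obtain ⟨k, hk⟩ := hDp d hd
      have hc : Nat.Coprime (p ^ k) (orderOf d) := (Nat.Coprime.pow_right k hcop).symm
      obtain ⟨m, hm⟩ := exists_pow_eq_self_of_coprime hc
      rw [← hm]
      exact Subgroup.pow_mem _ hk m
    have hdp : d ^ p ∈ Subgroup.centralizer (V : Set L) := by
      apply pow_mem_centralizer_of_quadratic hVn hVe
      intro v hv
      have hw : d * v * d⁻¹ * v⁻¹ ∈ U := by
        have h1 : ⁅d, v⁆ ∈ ⁅R, V⁆ := Subgroup.commutator_mem_commutator hdR hv
        rw [Subgroup.commutator_comm] at h1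
        rw [commutatorElement_def] at h1
        exact h1
      rw [Subgroup.mem_centralizer_iff] at hdU
      exact (hdU _ hw).symm
    have hc : Nat.Coprime p (orderOf d) := hcop.symm
    obtain ⟨m, hm⟩ := exists_pow_eq_self_of_coprime hc
    rw [← hm]
    exact Subgroup.pow_mem _ hdp m
  -- hence `D` acts as a `p`-group on `V`
  have hDV : D ≤ Subgroup.centralizer (V : Set L) := by
    apply le_centralizer_of_subnormal_pAction hV hDsub
    intro d hd
    have hp : p.Prime := Fact.out
    obtain ⟨n, m, hm, hnm⟩ := Nat.exists_eq_pow_mul_and_not_dvd (orderOf_pos d).ne' p hp.ne_one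
    refine ⟨n, ?_⟩
    apply hp' _ (D.pow_mem hd _)
    have : orderOf (d ^ (p ^ n)) = m := by
      rw [orderOf_pow' d (pow_ne_zero n hp.ne_zero), hnm, Nat.gcd_eq_right (Dvd.intro _ rfl),
        Nat.mul_div_cancel_left m (pow_pos hp.pos n)]
    rw [this]
    exact ((Nat.Prime.coprime_iff_not_dvd hp).2 hm).symm
  exact hDV.trans (Subgroup.centralizer_le hUV)

end

end Cfsg.Agent.Helper14
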