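import Cfsg.Agent.Helper17.SchreierSims

/-!
# Verified stabiliser chains for permutation groups of degree at most 512

Permutations of `Fin n` are described by tables packed into natural numbers (nine bits per entry).
A chain of levels (base point, orbit, transversal tables, a tree certificate for the membership of
the transversal elements, and for each Schreier generator a factorisation through the lower levels)
is checked by a Boolean function; the check implies the order of the generated group, the
membership of all products of transversal elements, the fact that every element is such a product,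
and the triviality of the pointwise stabiliser of the base.  (A port to arbitrary degree of the
chain checker of `Helper22.PermChain`.)
-/

set_option autoImplicit false
set_option linter.unusedSectionVars false

namespace Cfsg.Agent.Helper14.PermChainN

open Cfsg.Agent.Helper17

variable (n : ℕ) [NeZero n]

/-- the permutations of `n` points -/
abbrev Pm : Type := Equiv.Perm (Fin n)

/-- an entry of a table packed into a natural number, nine bits per entry -/
def look (t i : ℕ) : ℕ := Nat.mod (Nat.shiftRight t (Nat.mul 9 i)) 512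

/-- the function of a table -/
def fn (t : ℕ) (i : Fin n) : Fin n := ⟨look t i.1 % n, Nat.mod_lt _ (Nat.pos_of_ne_zero (NeZero.ne n))⟩

omit [NeZero n] in
/-- a Boolean function holds for the first `n` numbers -/
def allN : ℕ → (ℕ → Bool) → Bool
  | 0, _ => true
  | k + 1, f => and (f k) (allN k f)

variable {n}

theorem allN_spec {f : ℕ → Bool} (h : allN n f = true) (i : ℕ) (hi : i < n) : f i = true := by
  induction n with
  | zero => omega
  | succ k ih =>
    simp only [allN, Bool.and_eq_true] at h
    rcases Nat.lt_succ_iff_lt_or_eq.mp hi with h1 | h1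
    · exact ih h.2 h1
    · rw [h1]; exact h.1

/-- the bit mask of the values of a function -/
def maskUpTo (f : ℕ → ℕ) : ℕ → ℕ
  | 0 => 0
  | k + 1 => Nat.lor (maskUpTo f k) (Nat.shiftLeft 1 (f k))

theorem testBit_maskUpTo (f : ℕ → ℕ) (m k : ℕ) :
    (maskUpTo f m).testBit k = true ↔ ∃ i < m, f i = k := by
  induction m with
  | zero => simp [maskUpTo]
  | succ m ih =>
    have e : maskUpTo f (m + 1) = maskUpTo f m ||| 1 <<< f m := rfl
    rw [e, Nat.testBit_or, Bool.or_eq_true, ih, Nat.one_shiftLeft, Nat.testBit_two_pow,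
      decide_eq_true_eq]
    constructor
    · rintro (⟨i, hi, h⟩ | h)
      · exact ⟨i, by omega, h⟩
      · exact ⟨m, by omega, h⟩
    · rintro ⟨i, hi, h⟩
      rcases Nat.lt_succ_iff_lt_or_eq.mp hi with h1 | h1
      · exact Or.inl ⟨i, h1, h⟩
      · subst h1; exact Or.inr h

variable (n)

/-- the Boolean test for a table to define a permutation -/
def goodB (t : ℕ) : Bool :=
  (allN n fun i => Nat.blt (look t i) n) && Nat.beq (maskUpTo (look t) n) (2 ^ n - 1)

variable {n}

theorem look_lt {t : ℕ} (h : goodB n t = true) (i : ℕ) (hi : i < n) : look t i < n := by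
  unfold goodB at h
  rw [Bool.and_eq_true] at h
  have := allN_spec h.1 i hi
  simpa [Nat.blt] using this

theorem fn_val {t : ℕ} (h : goodB n t = true) (i : Fin n) : (fn n t i).1 = look t i.1 := by
  show look t i.1 % n = look t i.1
  exact Nat.mod_eq_of_lt (look_lt h i.1 i.2)

theorem fn_bijective {t : ℕ} (h : goodB n t = true) : Function.Bijective (fn n t) := by
  rw [← Finite.surjective_iff_bijective]
  intro k
  have hm : maskUpTo (look t) n = 2 ^ n - 1 := by
    unfold goodB at h
    rw [Bool.and_eq_true] at h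
    exact Nat.eq_of_beq_eq_true h.2
  have hb : (maskUpTo (look t) n).testBit k.1 = true := by
    rw [hm, Nat.testBit_two_pow_sub_one]
    simpa using k.2
  obtain ⟨i, hi, hik⟩ := (testBit_maskUpTo (look t) n k.1).mp hb
  refine ⟨⟨i, hi⟩, ?_⟩
  apply Fin.ext
  rw [fn_val h]
  exact hik

variable (n)

/-- the permutation of a table -/
noncomputable def P (t : ℕ) : Pm n :=
  if h : Function.Bijective (fn n t) then Equiv.ofBijective (fn n t) h else 1

variable {n}

/-- a function on the natural numbers describing a permutation -/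
def Rep (f : ℕ → ℕ) (g : Pm n) : Prop := ∀ i : Fin n, (g i).1 = f i.1

theorem rep_P {t : ℕ} (h : goodB n t = true) : Rep (look t) (P n t) := by
  intro i
  unfold P
  rw [dif_pos (fn_bijective h)]
  exact fn_val h i

theorem rep_one : Rep (fun i => i) (1 : Pm n) := fun _ => rfl

theorem rep_mul {f f' : ℕ → ℕ} {g g' : Pm n} (h : Rep f g) (h' : Rep f' g') :
    Rep (fun i => f (f' i)) (g * g') := by
  intro i
  show (g (g' i)).1 = f (f' i.1)
  rw [h, h']

theorem rep_congr {f f' : ℕ → ℕ} {g : Pm n} (h : Rep f g) (hff : ∀ i < n, f' i = f i) : Rep f' g :=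
  fun i => by rw [h, hff i.1 i.2]

theorem rep_unique {f : ℕ → ℕ} {g g' : Pm n} (h : Rep f g) (h' : Rep f g') : g = g' := by
  apply Equiv.ext
  intro i
  apply Fin.ext
  rw [h, h']

variable (n)

/-- the group generated by a list of tables -/
noncomputable def Grp (Y : List ℕ) : Subgroup (Pm n) := Subgroup.closure {g | ∃ y ∈ Y, g = P n y}

variable {n}

theorem P_mem_Grp {Y : List ℕ} {y : ℕ} (hy : y ∈ Y) : P n y ∈ Grp n Y :=
  Subgroup.subset_closure ⟨y, hy, rfl⟩

theorem Grp_mono {Y Y' : List ℕ} (h : ∀ y ∈ Y', y ∈ Y) : Grp n Y' ≤ Grp n Y := by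
  apply Subgroup.closure_mono
  rintro g ⟨y, hy, rfl⟩
  exact ⟨y, h y hy, rfl⟩

theorem Grp_fix {Y : List ℕ} (hY : ∀ y ∈ Y, goodB n y = true) {b : ℕ} (hb : b < n)
    (hfix : ∀ y ∈ Y, look y b = b) : ∀ g ∈ Grp n Y, g ⟨b, hb⟩ = ⟨b, hb⟩ := by
  have hle : Grp n Y ≤ MulAction.stabilizer (Pm n) (⟨b, hb⟩ : Fin n) := by
    unfold Grp
    rw [Subgroup.closure_le]
    rintro g ⟨y, hy, rfl⟩
    rw [SetLike.mem_coe, MulAction.mem_stabilizer_iff]
    apply Fin.ext
    show (P n y ⟨b, hb⟩).1 = b
    rw [rep_P (hY y hy)]
    exact hfix y hy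
  intro g hg
  exact MulAction.mem_stabilizer_iff.mp (hle hg)

/-- a level of a stabiliser chain -/
structure Lvl where
  /-- the base point -/
  b : ℕ
  /-- the tables of the generators of the group of this level -/
  gens : List ℕ
  /-- words for the generators of the next level in the generators of this level -/
  gw : List (List ℕ)
  /-- the orbit of the base point -/
  orb : List ℕ
  /-- the tables of the transversal elements, by point -/
  tr : List ℕ
  /-- the tree: a point, an earlier point, the index of a generator -/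
  tree : List (ℕ × ℕ × ℕ)
  /-- for each point of the orbit and each generator, a path through the lower levels -/
  cert : List (List ℕ)

/-- the table of a transversal element -/
def tbl (L : Lvl) (β : ℕ) : ℕ := L.tr.getD β 0

/-- the product of the transversal elements along a path, as a function -/
def pathLook : List Lvl → List ℕ → ℕ → ℕ
  | [], _, i => i
  | _ :: _, [], i => i
  | L :: ls, β :: p, i => look (tbl L β) (pathLook ls p i)

/-- a path with one point in the orbit of each level -/
def pathValid : List Lvl → List ℕ → Bool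
  | [], [] => true
  | [], _ :: _ => false
  | _ :: _, [] => false
  | L :: ls, β :: p => L.orb.contains β && pathValid ls p

variable (n)

/-- the check of the tree certificate -/
def treeOK (Y : List ℕ) (L : Lvl) : List (ℕ × ℕ × ℕ) → List ℕ → Bool
  | [], done => L.orb.all fun β => done.contains β
  | (β, β', j) :: rest, done =>
      done.contains β' && decide (j < Y.length) &&
        (allN n fun i => Nat.beq (look (tbl L β) i) (look (Y.getD j 0) (look (tbl L β') i))) &&
          treeOK Y L rest (β :: done)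

/-- the check of the Schreier generators -/
def certOK (Y : List ℕ) (L : Lvl) (ls : List Lvl) : Bool :=
  (List.range L.orb.length).all fun k => (List.range Y.length).all fun j =>
    pathValid ls (L.cert.getD (k * Y.length + j) []) &&
      L.orb.contains (look (Y.getD j 0) (L.orb.getD k 0)) &&
      allN n fun i => Nat.beq (look (Y.getD j 0) (look (tbl L (L.orb.getD k 0)) i))
        (look (tbl L (look (Y.getD j 0) (L.orb.getD k 0)))
          (pathLook ls (L.cert.getD (k * Y.length + j) []) i))

/-- the check of a level -/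
def levelOK (Y : List ℕ) (L : Lvl) (ls : List Lvl) : Bool :=
  L.orb.contains L.b && decide L.orb.Nodup && (L.orb.all fun β => decide (β < n)) &&
    (allN n fun i => Nat.beq (look (tbl L L.b) i) i) && (L.orb.all fun β => look (tbl L β) L.b == β) &&
      treeOK n Y L L.tree [L.b] && certOK n Y L ls

/-- the generators of the first level of a chain -/
def gensOf : List Lvl → List ℕ
  | [] => []
  | L :: _ => L.gens

/-- the value of a word in a list of tables, as a function -/
def wordLook (tabs : List ℕ) : List ℕ → ℕ → ℕ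
  | [], i => i
  | a :: w, i => look (tabs.getD a 0) (wordLook tabs w i)

/-- the check that a table is the value of a word -/
def wordOK (tabs : List ℕ) (w : List ℕ) (t : ℕ) : Bool :=
  (w.all fun a => decide (a < tabs.length)) && allN n fun i => Nat.beq (look t i) (wordLook tabs w i)

/-- the check that the generators of the next level fix the base point and are words in the
generators of this level -/
def nextOK (L : Lvl) (Y' : List ℕ) : Bool :=
  (List.range Y'.length).all fun k =>
    look (Y'.getD k 0) L.b == L.b && wordOK n L.gens (L.gw.getD k []) (Y'.getD k 0)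

/-- the check of a chain -/
def chainOK : List Lvl → Bool
  | [] => true
  | L :: ls => levelOK n L.gens L ls && nextOK n L (gensOf ls) && chainOK ls

variable {n}

theorem tree_sound (Y : List ℕ) (hY : ∀ y ∈ Y, goodB n y = true) (L : Lvl) :
    ∀ (tr : List (ℕ × ℕ × ℕ)) (done : List ℕ),
      (∀ δ ∈ done, ∃ g ∈ Grp n Y, Rep (look (tbl L δ)) g) → treeOK n Y L tr done = true →
        ∀ β ∈ L.orb, ∃ g ∈ Grp n Y, Rep (look (tbl L β)) g := by
  intro tr
  induction tr with
  | nil =>
    intro done hdone h β hβ
    have h1 := List.all_eq_true.mp h β hβ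
    exact hdone β (by simpa using h1)
  | cons e rest ih =>
    obtain ⟨β, β', j⟩ := e
    intro done hdone h
    simp only [treeOK, Bool.and_eq_true, decide_eq_true_eq] at h
    obtain ⟨⟨⟨h1, h2⟩, h3⟩, h4⟩ := h
    apply ih (β :: done) _ h4
    intro δ hδ
    rcases List.mem_cons.mp hδ with rfl | hδ
    · obtain ⟨g', hg', hrep'⟩ := hdone β' (by simpa using h1)
      have hy : Y.getD j 0 ∈ Y := by
        rw [List.getD_eq_getElem _ _ h2]
        exact List.getElem_mem h2
      refine ⟨P n (Y.getD j 0) * g', Subgroup.mul_mem _ (P_mem_Grp hy) hg', ?_⟩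
      apply rep_congr (rep_mul (rep_P (hY _ hy)) hrep')
      intro i hi
      exact Nat.eq_of_beq_eq_true (allN_spec h3 i hi)
    · exact hdone δ hδ

theorem card_filter_orb (orb : List ℕ) (hnd : orb.Nodup) (hlt : ∀ β ∈ orb, β < n) :
    (Finset.univ.filter fun x : Fin n => x.1 ∈ orb).card = orb.length := by
  rw [← List.toFinset_card_of_nodup hnd, ← Finset.card_image_of_injective _ Fin.val_injective]
  congr 1
  ext β
  simp only [Finset.mem_image, Finset.mem_filter, Finset.mem_univ, true_and, List.mem_toFinset]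
  constructor
  · rintro ⟨x, hx, rfl⟩
    exact hx
  · intro hβ
    exact ⟨⟨β, hlt β hβ⟩, hβ, rfl⟩

/-- the base points of a chain are fixed -/
def FixBase (ls : List Lvl) (g : Pm n) : Prop := ∀ L ∈ ls, ∀ h : L.b < n, g ⟨L.b, h⟩ = ⟨L.b, h⟩

/-- the value of a word lies in the group generated by the tables -/
theorem word_sound (tabs : List ℕ) (htabs : ∀ y ∈ tabs, goodB n y = true) :
    ∀ w : List ℕ, (w.all fun a => decide (a < tabs.length)) = true →
      ∃ g ∈ Grp n tabs, Rep (wordLook tabs w) g := by
  intro w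
  induction w with
  | nil =>
    intro _
    exact ⟨1, Subgroup.one_mem _, fun _ => rfl⟩
  | cons a w ih =>
    intro h
    simp only [List.all_cons, Bool.and_eq_true, decide_eq_true_eq] at h
    obtain ⟨ha, hw⟩ := h
    obtain ⟨g, hg, hrep⟩ := ih hw
    have hy : tabs.getD a 0 ∈ tabs := by
      rw [List.getD_eq_getElem _ _ ha]
      exact List.getElem_mem ha
    exact ⟨P n (tabs.getD a 0) * g, Subgroup.mul_mem _ (P_mem_Grp hy) hg,
      rep_congr (rep_mul (rep_P (htabs _ hy)) hrep) (fun _ _ => rfl)⟩

/-- a table which is the value of a word lies in the group generated by the tables -/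
theorem mem_of_wordOK {tabs : List ℕ} (htabs : ∀ y ∈ tabs, goodB n y = true) {w : List ℕ} {t : ℕ}
    (ht : goodB n t = true) (h : wordOK n tabs w t = true) : P n t ∈ Grp n tabs := by
  unfold wordOK at h
  rw [Bool.and_eq_true] at h
  obtain ⟨g, hg, hrep⟩ := word_sound tabs htabs w h.1
  have : P n t = g := by
    apply rep_unique (rep_P ht)
    apply rep_congr hrep
    intro i hi
    exact Nat.eq_of_beq_eq_true (allN_spec h.2 i hi)
  rw [this]
  exact hg

/-- the soundness of the check of a chain -/
theorem chain_sound : ∀ (ls : List Lvl), (∀ L ∈ ls, ∀ y ∈ L.gens, goodB n y = true) →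
    chainOK n ls = true →
    Nat.card (Grp n (gensOf ls)) = (ls.map fun L => L.orb.length).prod ∧
      (∀ p, pathValid ls p = true → ∃ g ∈ Grp n (gensOf ls), Rep (pathLook ls p) g) ∧
      (∀ g ∈ Grp n (gensOf ls), ∃ p, pathValid ls p = true ∧ Rep (pathLook ls p) g) ∧
      (∀ g ∈ Grp n (gensOf ls), FixBase ls g → g = 1) := by
  intro ls
  induction ls with
  | nil =>
    intro _ _
    have hbot : Grp n (gensOf []) = ⊥ := by
      unfold Grp gensOf
      simp
    refine ⟨by rw [hbot]; simp, ?_, ?_, ?_⟩
    · intro p _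
      exact ⟨1, Subgroup.one_mem _, fun _ => rfl⟩
    · intro g hg
      rw [hbot, Subgroup.mem_bot] at hg
      subst hg
      exact ⟨[], rfl, fun _ => rfl⟩
    · intro g hg _
      rw [hbot, Subgroup.mem_bot] at hg
      exact hg
  | cons L ls ih =>
    intro hgood h
    classical
    simp only [chainOK, Bool.and_eq_true] at h
    obtain ⟨⟨hL, hnext⟩, hrest⟩ := h
    have hY : ∀ y ∈ L.gens, goodB n y = true := hgood L (List.mem_cons_self ..)
    have hgood' : ∀ L' ∈ ls, ∀ y ∈ L'.gens, goodB n y = true :=
      fun L' hL' => hgood L' (List.mem_cons_of_mem _ hL')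
    have hY'good : ∀ y ∈ gensOf ls, goodB n y = true := by
      cases ls with
      | nil => intro y hy; simp [gensOf] at hy
      | cons L' ls' => exact hgood' L' (List.mem_cons_self ..)
    obtain ⟨ihcard, ihpath, ihsurj, ihfix⟩ := ih hgood' hrest
    simp only [levelOK, Bool.and_eq_true, decide_eq_true_eq] at hL
    obtain ⟨⟨⟨⟨⟨⟨hb, hnd⟩, hlt⟩, hid⟩, hTb⟩, htree⟩, hcert⟩ := hL
    have hb' : L.b ∈ L.orb := by simpa using hb
    have hlt' : ∀ β ∈ L.orb, β < n := fun β hβ => of_decide_eq_true (List.all_eq_true.mp hlt β hβ)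
    have hblt : L.b < n := hlt' _ hb'
    -- the generators of the next level
    have hnext' : ∀ y ∈ gensOf ls, look y L.b = L.b ∧ P n y ∈ Grp n L.gens := by
      intro y hy
      obtain ⟨k, hk, hky⟩ := List.mem_iff_getElem.mp hy
      have hc := List.all_eq_true.mp hnext k (List.mem_range.mpr hk)
      rw [List.getD_eq_getElem _ _ hk, hky, Bool.and_eq_true] at hc
      exact ⟨by simpa using hc.1, mem_of_wordOK hY (hY'good y hy) hc.2⟩
    have hY'fix : ∀ y ∈ gensOf ls, look y L.b = L.b := fun y hy => (hnext' y hy).1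
    have hH'le : Grp n (gensOf ls) ≤ Grp n L.gens := by
      unfold Grp
      rw [Subgroup.closure_le]
      rintro g ⟨y, hy, rfl⟩
      exact (hnext' y hy).2
    have hidrep : Rep (look (tbl L L.b)) (1 : Pm n) := by
      apply rep_congr rep_one
      intro i hi
      exact Nat.eq_of_beq_eq_true (allN_spec hid i hi)
    have htr : ∀ β ∈ L.orb, ∃ g ∈ Grp n L.gens, Rep (look (tbl L β)) g := by
      apply tree_sound L.gens hY L L.tree [L.b] _ htree
      intro δ hδ
      rw [List.mem_singleton] at hδ
      subst hδ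
      exact ⟨1, Subgroup.one_mem _, hidrep⟩
    -- the transversal
    let T : Fin n → Pm n := fun β =>
      if h : ∃ g ∈ Grp n L.gens, Rep (look (tbl L β.1)) g then Classical.choose h else 1
    have hT : ∀ β : Fin n, β.1 ∈ L.orb → T β ∈ Grp n L.gens ∧ Rep (look (tbl L β.1)) (T β) := by
      intro β hβ
      have hex := htr β.1 hβ
      have : T β = Classical.choose hex := dif_pos hex
      rw [this]
      exact Classical.choose_spec hex
    let O : Finset (Fin n) := Finset.univ.filter fun x : Fin n => x.1 ∈ L.orb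
    have hO : ∀ x : Fin n, x ∈ O ↔ x.1 ∈ L.orb := fun x => by simp [O]
    have hH'fix := Grp_fix hY'good hblt hY'fix
    have hTb' : ∀ β ∈ O, T β ⟨L.b, hblt⟩ = β := by
      intro β hβ
      apply Fin.ext
      rw [(hT β ((hO β).mp hβ)).2]
      exact beq_iff_eq.mp (List.all_eq_true.mp hTb β.1 ((hO β).mp hβ))
    have hT1 : T ⟨L.b, hblt⟩ = 1 := rep_unique (hT ⟨L.b, hblt⟩ hb').2 hidrep
    have hS : ∀ β ∈ O, ∀ y ∈ {g : Pm n | ∃ y ∈ L.gens, g = P n y},
        y β ∈ O ∧ (T (y β))⁻¹ * y * T β ∈ Grp n (gensOf ls) := by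
      rintro β hβ _ ⟨y, hy, rfl⟩
      have hβ' := (hO β).mp hβ
      obtain ⟨k, hk, hkβ⟩ := List.mem_iff_getElem.mp hβ'
      obtain ⟨j, hj, hjy⟩ := List.mem_iff_getElem.mp hy
      have hc := List.all_eq_true.mp (List.all_eq_true.mp hcert k (List.mem_range.mpr hk)) j
        (List.mem_range.mpr hj)
      rw [List.getD_eq_getElem _ _ hk, List.getD_eq_getElem _ _ hj, hkβ, hjy] at hc
      simp only [Bool.and_eq_true] at hc
      obtain ⟨⟨hc1, hc2⟩, hc3⟩ := hc
      have hyβ : (P n y β).1 = look y β.1 := rep_P (hY y hy) β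
      have hmem : (P n y β).1 ∈ L.orb := by
        rw [hyβ]
        simpa using hc2
      refine ⟨(hO _).mpr hmem, ?_⟩
      obtain ⟨gp, hgp, hgprep⟩ := ihpath _ hc1
      have heq : P n y * T β = T (P n y β) * gp := by
        apply rep_unique (rep_mul (rep_P (hY y hy)) (hT β hβ').2)
        apply rep_congr (rep_mul (hT _ hmem).2 hgprep)
        intro i hi
        rw [hyβ]
        exact Nat.eq_of_beq_eq_true (allN_spec hc3 i hi)
      have : (T (P n y β))⁻¹ * P n y * T β = gp := by
        rw [mul_assoc, heq]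
        group
      rw [this]
      exact hgp
    have hstep := SchreierSims.chain_step {g : Pm n | ∃ y ∈ L.gens, g = P n y}
      (Grp n (gensOf ls)) ⟨L.b, hblt⟩ O T ((hO _).mpr hb') hT1 hTb' hS hH'fix
    have hcard := SchreierSims.card_eq {g : Pm n | ∃ y ∈ L.gens, g = P n y}
      (Grp n (gensOf ls))
      ⟨L.b, hblt⟩ O T ((hO _).mpr hb') hT1 hTb' (fun β hβ => (hT β ((hO β).mp hβ)).1) hS hH'fix hH'le
    have hstab := SchreierSims.stabilizer_eq {g : Pm n | ∃ y ∈ L.gens, g = P n y}
      (Grp n (gensOf ls))
      ⟨L.b, hblt⟩ O T ((hO _).mpr hb') hT1 hTb' hS hH'fix hH'le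
    refine ⟨?_, ?_, ?_, ?_⟩
    · show Nat.card (Grp n L.gens) = _
      rw [List.map_cons, List.prod_cons, ← ihcard, ← card_filter_orb L.orb hnd hlt']
      exact hcard
    · intro p hp
      cases p with
      | nil => simp [pathValid] at hp
      | cons β p' =>
        simp only [pathValid, Bool.and_eq_true] at hp
        obtain ⟨hp1, hp2⟩ := hp
        have hβ : β ∈ L.orb := by simpa using hp1
        obtain ⟨gp, hgp, hgprep⟩ := ihpath p' hp2
        obtain ⟨hTm, hTrep⟩ := hT ⟨β, hlt' β hβ⟩ hβ
        exact ⟨T ⟨β, hlt' β hβ⟩ * gp, Subgroup.mul_mem _ hTm (hH'le hgp),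
          rep_congr (rep_mul hTrep hgprep) (fun _ _ => rfl)⟩
    · intro g hg
      obtain ⟨h1, h2⟩ := hstep g hg
      obtain ⟨p', hp', hrep'⟩ := ihsurj _ h2
      have hβ : (g ⟨L.b, hblt⟩).1 ∈ L.orb := (hO _).mp h1
      refine ⟨(g ⟨L.b, hblt⟩).1 :: p', ?_, ?_⟩
      · simp only [pathValid, Bool.and_eq_true]
        exact ⟨by simpa using hβ, hp'⟩
      · have hg' : T (g ⟨L.b, hblt⟩) * ((T (g ⟨L.b, hblt⟩))⁻¹ * g) = g := by group
        have hrep : Rep (pathLook (L :: ls) ((g ⟨L.b, hblt⟩).1 :: p'))
            (T (g ⟨L.b, hblt⟩) * ((T (g ⟨L.b, hblt⟩))⁻¹ * g)) :=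
          rep_congr (rep_mul (hT _ hβ).2 hrep') (fun _ _ => rfl)
        rw [hg'] at hrep
        exact hrep
    · intro g hg hfix
      have hgb : g ⟨L.b, hblt⟩ = ⟨L.b, hblt⟩ := hfix L (List.mem_cons_self ..) hblt
      have hmem : g ∈ Grp n (gensOf ls) := by
        rw [← hstab, Subgroup.mem_inf, MulAction.mem_stabilizer_iff]
        exact ⟨hg, hgb⟩
      exact ihfix g hmem (fun L' hL' h' => hfix L' (List.mem_cons_of_mem _ hL') h')

/-- the transversal of the first level -/
theorem exists_transversal {L : Lvl} {ls : List Lvl}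
    (hgood : ∀ L' ∈ L :: ls, ∀ y ∈ L'.gens, goodB n y = true)
    (h : chainOK n (L :: ls) = true) {β : ℕ} (hβ : β ∈ L.orb) :
    ∃ g ∈ Grp n L.gens, ∃ hb : L.b < n, ∃ hβ' : β < n, g ⟨L.b, hb⟩ = ⟨β, hβ'⟩ := by
  have hY : ∀ y ∈ L.gens, goodB n y = true := hgood L (List.mem_cons_self ..)
  simp only [chainOK, Bool.and_eq_true] at h
  obtain ⟨⟨hL, -⟩, -⟩ := h
  simp only [levelOK, Bool.and_eq_true, decide_eq_true_eq] at hL
  obtain ⟨⟨⟨⟨⟨⟨hb, -⟩, hlt⟩, hid⟩, hTb⟩, htree⟩, -⟩ := hL
  have hb' : L.b ∈ L.orb := by simpa using hb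
  have hlt' : ∀ β ∈ L.orb, β < n := fun β hβ => of_decide_eq_true (List.all_eq_true.mp hlt β hβ)
  have hidrep : Rep (look (tbl L L.b)) (1 : Pm n) := by
    apply rep_congr rep_one
    intro i hi
    exact Nat.eq_of_beq_eq_true (allN_spec hid i hi)
  obtain ⟨g, hg, hrep⟩ := tree_sound L.gens hY L L.tree [L.b] (by
    intro δ hδ
    rw [List.mem_singleton] at hδ
    subst hδ
    exact ⟨1, Subgroup.one_mem _, hidrep⟩) htree β hβ
  refine ⟨g, hg, hlt' _ hb', hlt' _ hβ, ?_⟩
  apply Fin.ext
  rw [hrep]
  exact beq_iff_eq.mp (List.all_eq_true.mp hTb β hβ)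

/-- the group of the next level is contained in the group of the first level and fixes the base
point -/
theorem next_le {L : Lvl} {ls : List Lvl}
    (hgood : ∀ L' ∈ L :: ls, ∀ y ∈ L'.gens, goodB n y = true)
    (h : chainOK n (L :: ls) = true) :
    Grp n (gensOf ls) ≤ Grp n L.gens ∧ ∀ y ∈ gensOf ls, look y L.b = L.b := by
  have hY : ∀ y ∈ L.gens, goodB n y = true := hgood L (List.mem_cons_self ..)
  have hY'good : ∀ y ∈ gensOf ls, goodB n y = true := by
    cases ls with
    | nil => intro y hy; simp [gensOf] at hy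
    | cons L' ls' => exact hgood L' (List.mem_cons_of_mem _ (List.mem_cons_self ..))
  simp only [chainOK, Bool.and_eq_true] at h
  obtain ⟨⟨-, hnext⟩, -⟩ := h
  have hnext' : ∀ y ∈ gensOf ls, look y L.b = L.b ∧ P n y ∈ Grp n L.gens := by
    intro y hy
    obtain ⟨k, hk, hky⟩ := List.mem_iff_getElem.mp hy
    have hc := List.all_eq_true.mp hnext k (List.mem_range.mpr hk)
    rw [List.getD_eq_getElem _ _ hk, hky, Bool.and_eq_true] at hc
    exact ⟨by simpa using hc.1, mem_of_wordOK hY (hY'good y hy) hc.2⟩
  refine ⟨?_, fun y hy => (hnext' y hy).1⟩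
  unfold Grp
  rw [Subgroup.closure_le]
  rintro g ⟨y, hy, rfl⟩
  exact (hnext' y hy).2

end Cfsg.Agent.Helper14.PermChainN
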