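import Cfsg.Agent.Helper14.PermChainN

/-!
# Element orders of permutation groups given by verified stabiliser chains

Every element of a group with a verified stabiliser chain is conjugate, under the stabiliser of the
first base point, to a product of transversal elements whose first factor belongs to a
representative of the orbits of this stabiliser; the order of such a product is found from the
lengths of the cycles of the base points.
-/

set_option autoImplicit false
set_option linter.unusedSectionVars false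

namespace Cfsg.Agent.Helper14.PermSpec

open Cfsg.Agent.Helper14.PermChainN

variable {n : ℕ} [NeZero n]

theorem allN_of_forall {m : ℕ} {f : ℕ → Bool} (h : ∀ i < m, f i = true) : allN m f = true := by
  induction m with
  | zero => rfl
  | succ k ih =>
    simp only [allN, Bool.and_eq_true]
    exact ⟨h k (by omega), ih (fun i hi => h i (by omega))⟩

theorem rep_apply {f : ℕ → ℕ} {g : Pm n} (h : Rep f g) {i : ℕ} (hi : i < n) :
    (g ⟨i, hi⟩).1 = f i := h ⟨i, hi⟩

/-- iteration -/
def iterF (f : ℕ → ℕ) : ℕ → ℕ → ℕ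
  | 0, i => i
  | k + 1, i => f (iterF f k i)

theorem rep_iter {f : ℕ → ℕ} {g : Pm n} (h : Rep f g) (k : ℕ) : Rep (iterF f k) (g ^ k) := by
  induction k with
  | zero => exact rep_one
  | succ k ih =>
    rw [pow_succ']
    exact rep_congr (rep_mul h ih) (fun _ _ => rfl)

theorem eq_one_of_rep {f : ℕ → ℕ} {g : Pm n} (h : Rep f g) (hf : ∀ i < n, f i = i) : g = 1 :=
  rep_unique h (rep_congr rep_one hf)

theorem iterF_add (f : ℕ → ℕ) (a c i : ℕ) : iterF f (a + c) i = iterF f a (iterF f c i) := by
  induction a with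
  | zero => rw [Nat.zero_add]; rfl
  | succ a ih =>
    rw [Nat.succ_add]
    show f (iterF f (a + c) i) = f (iterF f a (iterF f c i))
    rw [ih]

theorem iterF_mul {f : ℕ → ℕ} {m b : ℕ} (h : iterF f m b = b) (k : ℕ) : iterF f (m * k) b = b := by
  induction k with
  | zero => rfl
  | succ k ih => rw [Nat.mul_succ, iterF_add, h, ih]

/-- the length of the cycle of the point `b`, found within the given number of steps, or zero -/
def cyc (f : ℕ → ℕ) (b : ℕ) : ℕ → ℕ → ℕ → ℕ
  | 0, _, _ => 0
  | fuel + 1, x, k => if Nat.beq (f x) b = true then k + 1 else cyc f b fuel (f x) (k + 1)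

/-- the length of the cycle of a point, at most `fuel`, or zero -/
def cycLen (fuel : ℕ) (f : ℕ → ℕ) (b : ℕ) : ℕ := cyc f b fuel b 0

theorem cyc_sound (f : ℕ → ℕ) (b : ℕ) : ∀ (fuel x k : ℕ), x = iterF f k b →
    cyc f b fuel x k ≠ 0 → iterF f (cyc f b fuel x k) b = b := by
  intro fuel
  induction fuel with
  | zero =>
    intro x k _ h
    exact absurd rfl h
  | succ fuel ih =>
    intro x k hx h
    rw [cyc] at h ⊢
    split_ifs at h ⊢ with hb
    · show f (iterF f k b) = b
      rw [← hx]
      exact Nat.eq_of_beq_eq_true hb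
    · exact ih (f x) (k + 1) (by rw [hx]; rfl) h

theorem cycLen_sound (fuel : ℕ) (f : ℕ → ℕ) (b : ℕ) (h : cycLen fuel f b ≠ 0) :
    iterF f (cycLen fuel f b) b = b :=
  cyc_sound f b fuel b 0 rfl h

theorem iterF_of_dvd {fuel : ℕ} {f : ℕ → ℕ} {b L : ℕ} (hL : L ≠ 0) (hd : cycLen fuel f b ∣ L) :
    iterF f L b = b := by
  obtain ⟨k, rfl⟩ := hd
  have h0 : cycLen fuel f b ≠ 0 := by
    intro h0
    rw [h0, Nat.zero_mul] at hL
    exact hL rfl
  exact iterF_mul (cycLen_sound fuel f b h0) k

/-- the least common multiple of the lengths of the cycles of the points of a list -/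
def lcmCyc (fuel : ℕ) (f : ℕ → ℕ) : List ℕ → ℕ
  | [] => 1
  | b :: bs => Nat.lcm (cycLen fuel f b) (lcmCyc fuel f bs)

theorem cycLen_dvd_lcmCyc (fuel : ℕ) (f : ℕ → ℕ) : ∀ (bs : List ℕ) (b : ℕ), b ∈ bs →
    cycLen fuel f b ∣ lcmCyc fuel f bs := by
  intro bs
  induction bs with
  | nil => intro b hb; simp at hb
  | cons c bs ih =>
    intro b hb
    rcases List.mem_cons.mp hb with rfl | hb
    · exact Nat.dvd_lcm_left _ _
    · exact (ih b hb).trans (Nat.dvd_lcm_right _ _)

/-- a power which fixes the base points is trivial -/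
theorem pow_eq_one_of_fix {ls : List Lvl} (hgood : ∀ L ∈ ls, ∀ y ∈ L.gens, goodB n y = true)
    (hchain : chainOK n ls = true) {f : ℕ → ℕ} {g : Pm n} (hg : g ∈ Grp n (gensOf ls))
    (hrep : Rep f g) {m : ℕ} (hfix : ∀ L ∈ ls, iterF f m L.b = L.b) : g ^ m = 1 := by
  apply (chain_sound ls hgood hchain).2.2.2 (g ^ m) (Subgroup.pow_mem _ hg m)
  intro L hL hb
  apply Fin.ext
  rw [rep_iter hrep m]
  exact hfix L hL

/-- the check of the order of a path product -/
def ordOK (fuel : ℕ) (allowed bases : List ℕ) (ls : List Lvl) (p : List ℕ) : Bool :=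
  allowed.contains (lcmCyc fuel (pathLook ls p) bases)

theorem orderOf_of_ordOK {ls : List Lvl} (hgood : ∀ L ∈ ls, ∀ y ∈ L.gens, goodB n y = true)
    (hchain : chainOK n ls = true) {fuel : ℕ} {allowed bases : List ℕ}
    (hbases : ∀ L ∈ ls, L.b ∈ bases) (hpos : ∀ L ∈ allowed, L ≠ 0)
    (hdvd : ∀ L ∈ allowed, ∀ d, d ∣ L → d ∈ allowed) {p : List ℕ} {g : Pm n}
    (hg : g ∈ Grp n (gensOf ls)) (hrep : Rep (pathLook ls p) g)
    (h : ordOK fuel allowed bases ls p = true) : orderOf g ∈ allowed := by
  unfold ordOK at h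
  rw [List.contains_iff_mem] at h
  have hL0 := hpos _ h
  have h1 : g ^ lcmCyc fuel (pathLook ls p) bases = 1 := by
    apply pow_eq_one_of_fix hgood hchain hg hrep
    intro L hL
    exact iterF_of_dvd hL0 (cycLen_dvd_lcmCyc fuel _ bases L.b (hbases L hL))
  exact hdvd _ h _ (orderOf_dvd_of_pow_eq_one h1)

/-- a check holds for all paths extending a reversed initial segment -/
def allPaths (chk : List ℕ → Bool) : List Lvl → List ℕ → Bool
  | [], acc => chk acc.reverse
  | L :: ls, acc => L.orb.all fun b => allPaths chk ls (b :: acc)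

theorem allPaths_spec (chk : List ℕ → Bool) : ∀ (ls : List Lvl) (acc p : List ℕ),
    allPaths chk ls acc = true → pathValid ls p = true → chk (acc.reverse ++ p) = true := by
  intro ls
  induction ls with
  | nil =>
    intro acc p h hp
    cases p with
    | nil => simpa [allPaths] using h
    | cons b p' => simp [pathValid] at hp
  | cons L ls ih =>
    intro acc p h hp
    cases p with
    | nil => simp [pathValid] at hp
    | cons b p' =>
      simp only [pathValid, Bool.and_eq_true, List.contains_iff_mem] at hp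
      have h1 := List.all_eq_true.mp h b hp.1
      have h2 := ih (b :: acc) p' h1 hp.2
      rw [List.reverse_cons, List.append_assoc] at h2
      exact h2

/-- the check of a spanning forest of the orbits of a group on the points: a point, an earlier
point, the index of a generator mapping the earlier point to the point -/
def forestOK (n : ℕ) (Y : List ℕ) : List (ℕ × ℕ × ℕ) → List ℕ → Bool
  | [], done => allN n fun c => done.contains c
  | (c, c', j) :: rest, done =>
      done.contains c' && decide (j < Y.length) && Nat.beq (look (Y.getD j 0) c') c &&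
        forestOK n Y rest (c :: done)

theorem forest_sound (Y : List ℕ) (hY : ∀ y ∈ Y, goodB n y = true) (reps : List ℕ) :
    ∀ (fr : List (ℕ × ℕ × ℕ)) (done : List ℕ),
      (∀ c ∈ done, ∃ h ∈ Grp n Y, ∃ x : Fin n, x.1 ∈ reps ∧ (h x).1 = c) →
      forestOK n Y fr done = true →
      ∀ c < n, ∃ h ∈ Grp n Y, ∃ x : Fin n, x.1 ∈ reps ∧ (h x).1 = c := by
  intro fr
  induction fr with
  | nil =>
    intro done hdone h c hc
    have h1 := allN_spec h c hc
    exact hdone c (by simpa using h1)
  | cons e rest ih =>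
    obtain ⟨c, c', j⟩ := e
    intro done hdone h
    simp only [forestOK, Bool.and_eq_true, decide_eq_true_eq] at h
    obtain ⟨⟨⟨h1, h2⟩, h3⟩, h4⟩ := h
    apply ih (c :: done) _ h4
    intro δ hδ
    rcases List.mem_cons.mp hδ with rfl | hδ
    · obtain ⟨g', hg', x, hx, hxc⟩ := hdone c' (by simpa using h1)
      have hy : Y.getD j 0 ∈ Y := by
        rw [List.getD_eq_getElem _ _ h2]
        exact List.getElem_mem h2
      refine ⟨P n (Y.getD j 0) * g', Subgroup.mul_mem _ (P_mem_Grp hy) hg', x, hx, ?_⟩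
      show (P n (Y.getD j 0) (g' x)).1 = _
      rw [rep_P (hY _ hy), hxc]
      exact Nat.eq_of_beq_eq_true h3
    · exact hdone δ hδ

/-- the first point of a path is the image of the first base point -/
theorem path_head {L : Lvl} {ls : List Lvl}
    (hgood : ∀ L' ∈ L :: ls, ∀ y ∈ L'.gens, goodB n y = true)
    (h : chainOK n (L :: ls) = true) {a : ℕ} {p' : List ℕ}
    (hp : pathValid (L :: ls) (a :: p') = true) : pathLook (L :: ls) (a :: p') L.b = a := by
  have hgood' : ∀ L' ∈ ls, ∀ y ∈ L'.gens, goodB n y = true :=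
    fun L' hL' => hgood L' (List.mem_cons_of_mem _ hL')
  have hY'good : ∀ y ∈ gensOf ls, goodB n y = true := by
    cases ls with
    | nil => intro y hy; simp [gensOf] at hy
    | cons L' ls' => exact hgood' L' (List.mem_cons_self ..)
  have hnext := next_le hgood h
  simp only [pathValid, Bool.and_eq_true, List.contains_iff_mem] at hp
  have h' := h
  simp only [chainOK, Bool.and_eq_true] at h'
  obtain ⟨⟨hL, -⟩, hrest⟩ := h'
  simp only [levelOK, Bool.and_eq_true, decide_eq_true_eq] at hL
  obtain ⟨⟨⟨⟨⟨⟨hb, -⟩, hlt⟩, -⟩, hTb⟩, -⟩, -⟩ := hL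
  have hb' : L.b ∈ L.orb := by simpa using hb
  have hblt : L.b < n := of_decide_eq_true (List.all_eq_true.mp hlt L.b hb')
  obtain ⟨g, hg, hrep⟩ := (chain_sound ls hgood' hrest).2.1 p' hp.2
  have hfix := Grp_fix hY'good hblt hnext.2 g hg
  have e1 : pathLook ls p' L.b = L.b := by
    rw [← rep_apply hrep hblt, hfix]
  show look (tbl L a) (pathLook ls p' L.b) = a
  rw [e1]
  exact beq_iff_eq.mp (List.all_eq_true.mp hTb a hp.1)

/-- the orders of the elements of a group with a verified chain -/
theorem orderOf_mem_of_checks {L0 : Lvl} {rest : List Lvl}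
    (hgood : ∀ L ∈ L0 :: rest, ∀ y ∈ L.gens, goodB n y = true)
    (hchain : chainOK n (L0 :: rest) = true) {fuel : ℕ} {allowed bases reps : List ℕ}
    {forest : List (ℕ × ℕ × ℕ)} (hforest : forestOK n (gensOf rest) forest reps = true)
    (hreps : ∀ r ∈ reps, r < n) (hbases : ∀ L ∈ L0 :: rest, L.b ∈ bases)
    (hpos : ∀ L ∈ allowed, L ≠ 0) (hdvd : ∀ L ∈ allowed, ∀ d, d ∣ L → d ∈ allowed)
    (hchk : (reps.all fun r => allPaths (ordOK fuel allowed bases (L0 :: rest)) rest [r]) = true)
    {g : Pm n} (hg : g ∈ Grp n L0.gens) : orderOf g ∈ allowed := by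
  have hgood' : ∀ L' ∈ rest, ∀ y ∈ L'.gens, goodB n y = true :=
    fun L' hL' => hgood L' (List.mem_cons_of_mem _ hL')
  have hY'good : ∀ y ∈ gensOf rest, goodB n y = true := by
    cases rest with
    | nil => intro y hy; simp [gensOf] at hy
    | cons L' ls' => exact hgood' L' (List.mem_cons_self ..)
  have hnext := next_le hgood hchain
  have h' := hchain
  simp only [chainOK, Bool.and_eq_true] at h'
  obtain ⟨⟨hL, -⟩, -⟩ := h'
  simp only [levelOK, Bool.and_eq_true, decide_eq_true_eq] at hL
  obtain ⟨⟨⟨⟨⟨⟨hb, -⟩, hlt⟩, -⟩, -⟩, -⟩, -⟩ := hL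
  have hb' : L0.b ∈ L0.orb := by simpa using hb
  have hblt : L0.b < n := of_decide_eq_true (List.all_eq_true.mp hlt L0.b hb')
  obtain ⟨h, hh, x, hx, hxc⟩ := forest_sound (gensOf rest) hY'good reps forest reps (by
    intro c hc
    exact ⟨1, Subgroup.one_mem _, ⟨c, hreps c hc⟩, hc, rfl⟩) hforest (g ⟨L0.b, hblt⟩).1
      (g ⟨L0.b, hblt⟩).2
  have hhG : h ∈ Grp n L0.gens := hnext.1 hh
  have hfix : h ⟨L0.b, hblt⟩ = ⟨L0.b, hblt⟩ := Grp_fix hY'good hblt hnext.2 h hh
  have hg' : h⁻¹ * g * h ∈ Grp n L0.gens :=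
    Subgroup.mul_mem _ (Subgroup.mul_mem _ (Subgroup.inv_mem _ hhG) hg) hhG
  have hord : orderOf (h⁻¹ * g * h) = orderOf g := by
    have := MulEquiv.orderOf_eq (MulAut.conj h⁻¹) g
    rw [MulAut.conj_apply, inv_inv] at this
    exact this
  have h42 : (h⁻¹ * g * h) ⟨L0.b, hblt⟩ = x := by
    show h⁻¹ (g (h ⟨L0.b, hblt⟩)) = x
    rw [hfix, Equiv.Perm.inv_eq_iff_eq]
    exact Fin.ext hxc.symm
  obtain ⟨p, hp, hrep⟩ := (chain_sound (L0 :: rest) hgood hchain).2.2.1 _ hg'
  cases p with
  | nil => simp [pathValid] at hp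
  | cons a p' =>
    have ha : a = x.1 := by
      have e := rep_apply hrep hblt
      rw [h42, path_head hgood hchain hp] at e
      exact e.symm
    rw [← hord]
    apply orderOf_of_ordOK hgood hchain hbases hpos hdvd hg' hrep
    have hp' : pathValid rest p' = true := by
      simp only [pathValid, Bool.and_eq_true] at hp
      exact hp.2
    have := allPaths_spec (ordOK fuel allowed bases (L0 :: rest)) rest [a] p'
      (List.all_eq_true.mp hchk a (by rw [ha]; exact hx)) hp'
    simpa using this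

/-! ### elements of given orders -/

/-- the check of the order of a word in a list of tables -/
def wordOrdChk (n : ℕ) (tabs : List ℕ) (w : List ℕ) (m : ℕ) (qs : List ℕ) (i0 : ℕ) : Bool :=
  (w.all fun a => decide (a < tabs.length)) &&
    (allN n fun i => Nat.beq (iterF (wordLook tabs w) m i) i) &&
      qs.all fun q => !(Nat.beq (iterF (wordLook tabs w) q i0) i0)

theorem exists_of_wordOrdChk {tabs : List ℕ} (htabs : ∀ y ∈ tabs, goodB n y = true)
    {w : List ℕ} {m : ℕ} {qs : List ℕ} {i0 : ℕ} (hi0 : i0 < n) (hm : 0 < m)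
    (harith : ∀ p : ℕ, p.Prime → p ∣ m → m / p ∈ qs) (h : wordOrdChk n tabs w m qs i0 = true) :
    ∃ g ∈ Grp n tabs, orderOf g = m := by
  unfold wordOrdChk at h
  simp only [Bool.and_eq_true] at h
  obtain ⟨⟨hw, hpow⟩, hne⟩ := h
  obtain ⟨g, hg, hrep⟩ := word_sound tabs htabs w hw
  refine ⟨g, hg, orderOf_eq_of_pow_and_pow_div_prime hm ?_ ?_⟩
  · exact eq_one_of_rep (rep_iter hrep m) (fun i hi => Nat.eq_of_beq_eq_true (allN_spec hpow i hi))
  · intro p hp hpm h1
    have e := rep_apply (rep_iter hrep (m / p)) hi0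
    rw [h1] at e
    have hq := List.all_eq_true.mp hne (m / p) (harith p hp hpm)
    have e' : iterF (wordLook tabs w) (m / p) i0 = i0 := e.symm
    rw [e', Nat.beq_refl] at hq
    exact absurd hq (by decide)

theorem exists_of_dvd {G : Type*} [Group G] {H : Subgroup G} {m d : ℕ}
    (h : ∃ g ∈ H, orderOf g = m) (hm : m ≠ 0) (hd : d ∣ m) : ∃ g ∈ H, orderOf g = d := by
  obtain ⟨g, hg, ho⟩ := h
  have hd0 : d ≠ 0 := by
    rintro rfl
    exact hm (Nat.eq_zero_of_zero_dvd hd)
  have hq : m / d ≠ 0 := by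
    obtain ⟨k, rfl⟩ := hd
    rw [Nat.mul_div_cancel_left k (Nat.pos_of_ne_zero hd0)]
    rintro rfl
    exact hm (Nat.mul_zero d)
  refine ⟨g ^ (m / d), H.pow_mem hg _, ?_⟩
  rw [orderOf_pow_of_dvd hq (by rw [ho]; exact Nat.div_dvd_of_dvd hd), ho]
  exact Nat.div_div_self hd hm

/-! ### normalisers -/

theorem mem_normalizer_of_conj_mem {G : Type*} [Group G] (V : Subgroup G) [Finite V] (g : G)
    (h : ∀ v ∈ V, g * v * g⁻¹ ∈ V) : g ∈ Subgroup.normalizer (V : Set G) := by
  have hle : V.map (MulAut.conj g).toMonoidHom ≤ V := by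
    rintro _ ⟨v, hv, rfl⟩
    exact h v hv
  have hcard : Nat.card (V.map (MulAut.conj g).toMonoidHom) = Nat.card V :=
    Subgroup.card_map_of_injective (MulAut.conj g).injective
  have heq : V.map (MulAut.conj g).toMonoidHom = V :=
    Subgroup.eq_of_le_of_card_ge hle (by rw [hcard])
  rw [Subgroup.mem_normalizer_iff]
  intro x
  constructor
  · exact h x
  · intro hx
    rw [← heq] at hx
    obtain ⟨v, hv, hvx⟩ := hx
    have hvx' : g * v * g⁻¹ = g * x * g⁻¹ := hvx
    have : v = x := by
      have := mul_left_cancel (mul_right_cancel hvx')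
      exact this
    rw [← this]
    exact hv

end Cfsg.Agent.Helper14.PermSpec
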