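import Mathlib
import Cfsg.Agent.Helper14.ThompsonDih2

set_option autoImplicit false

namespace Cfsg.Agent.Helper14.PolarFam

variable {G : Type*} [Group G]

/-- elementwise commuting subgroups -/
def Cm (A B : Subgroup G) : Prop := ∀ a ∈ A, ∀ b ∈ B, a * b = b * a

theorem cm_iff_le_centralizer (A B : Subgroup G) :
    Cm A B ↔ A ≤ Subgroup.centralizer (B : Set G) := by
  constructor
  · intro h a ha
    rw [Subgroup.mem_centralizer_iff]
    intro b hb
    exact (h a ha b hb).symm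
  · intro h a ha b hb
    have := Subgroup.mem_centralizer_iff.1 (h ha) b hb
    exact this.symm

theorem Cm.symm {A B : Subgroup G} (h : Cm A B) : Cm B A :=
  fun b hb a ha => (h a ha b hb).symm

theorem Cm.sup_left {A B C : Subgroup G} (h1 : Cm A C) (h2 : Cm B C) : Cm (A ⊔ B) C := by
  rw [cm_iff_le_centralizer] at *
  exact sup_le h1 h2

theorem Cm.sup_right {A B C : Subgroup G} (h1 : Cm C A) (h2 : Cm C B) : Cm C (A ⊔ B) :=
  (Cm.sup_left h1.symm h2.symm).symm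

theorem Cm.mono {A B A' B' : Subgroup G} (h : Cm A B) (hA : A' ≤ A) (hB : B' ≤ B) : Cm A' B' :=
  fun a ha b hb => h a (hA ha) b (hB hb)

/-- a subgroup of prime order is abelian -/
theorem cm_self_of_card_prime {p : ℕ} (hp : p.Prime) (X : Subgroup G) (hX : Nat.card ↥X = p) :
    Cm X X := by
  haveI : Fact p.Prime := ⟨hp⟩
  haveI : IsCyclic ↥X := isCyclic_of_prime_card hX
  intro a ha b hb
  have h := IsCyclic.commGroup.mul_comm (⟨a, ha⟩ : ↥X) ⟨b, hb⟩
  exact congrArg Subtype.val h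

theorem pow_eq_one_of_card_prime {p : ℕ} (X : Subgroup G) (hX : Nat.card ↥X = p) [Finite ↥X]
    {a : G} (ha : a ∈ X) : a ^ p = 1 := by
  have h : (⟨a, ha⟩ : ↥X) ^ Nat.card ↥X = 1 := pow_card_eq_one'
  rw [hX] at h
  exact congrArg Subtype.val h

/-- a "line": an elementary abelian subgroup of order `p^2` -/
structure IsLn (p : ℕ) (l : Subgroup G) : Prop where
  comm : Cm l l
  card : Nat.card ↥l = p ^ 2
  exp : ∀ z ∈ l, z ^ p = 1

theorem inf_eq_bot_of_card_prime [Finite G] {p : ℕ} (hp : p.Prime) {X Y : Subgroup G}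
    (hX : Nat.card ↥X = p) (hY : Nat.card ↥Y = p) (hne : X ≠ Y) : X ⊓ Y = ⊥ := by
  have h1 : Nat.card ↥(X ⊓ Y) ∣ p := by
    rw [← hX]; exact Subgroup.card_dvd_of_le inf_le_left
  rcases (Nat.dvd_prime hp).1 h1 with h | h
  · exact Subgroup.card_eq_one.1 h
  · exfalso
    apply hne
    have e1 : X ⊓ Y = X := Subgroup.eq_of_le_of_card_ge inf_le_left (by rw [h, hX])
    have hXY : X ≤ Y := by rw [← e1]; exact inf_le_right
    exact Subgroup.eq_of_le_of_card_ge hXY (by rw [hX, hY])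

theorem mem_sup_exists_mul {X Y : Subgroup G} (hc : Cm X Y) {z : G} (hz : z ∈ X ⊔ Y) :
    ∃ a ∈ X, ∃ b ∈ Y, z = a * b := by
  have e : X ⊔ Y = Subgroup.closure ((X : Set G) ∪ (Y : Set G)) := by
    rw [Subgroup.closure_union, Subgroup.closure_eq, Subgroup.closure_eq]
  rw [e] at hz
  induction hz using Subgroup.closure_induction with
  | mem x hx =>
    rcases hx with hx | hx
    · exact ⟨x, hx, 1, Y.one_mem, (mul_one x).symm⟩
    · exact ⟨1, X.one_mem, x, hx, (one_mul x).symm⟩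
  | one => exact ⟨1, X.one_mem, 1, Y.one_mem, (mul_one 1).symm⟩
  | mul x y _ _ hx hy =>
    obtain ⟨a, ha, b, hb, rfl⟩ := hx
    obtain ⟨a', ha', b', hb', rfl⟩ := hy
    refine ⟨a * a', X.mul_mem ha ha', b * b', Y.mul_mem hb hb', ?_⟩
    have h1 : b * a' = a' * b := (hc a' ha' b hb).symm
    calc a * b * (a' * b') = a * (b * a') * b' := by group
      _ = a * (a' * b) * b' := by rw [h1]
      _ = a * a' * (b * b') := by group
  | inv x _ hx =>
    obtain ⟨a, ha, b, hb, rfl⟩ := hx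
    refine ⟨a⁻¹, X.inv_mem ha, b⁻¹, Y.inv_mem hb, ?_⟩
    have h1 : a * b = b * a := hc a ha b hb
    rw [h1, mul_inv_rev]

theorem isLn_sup [Finite G] {p : ℕ} (hp : p.Prime) {X Y : Subgroup G}
    (hX : Nat.card ↥X = p) (hY : Nat.card ↥Y = p) (hne : X ≠ Y) (hc : Cm X Y) :
    IsLn p (X ⊔ Y) := by
  have hXX := cm_self_of_card_prime hp X hX
  have hYY := cm_self_of_card_prime hp Y hY
  have hcomm : Cm (X ⊔ Y) (X ⊔ Y) :=
    Cm.sup_left (Cm.sup_right hXX hc) (Cm.sup_right hc.symm hYY)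
  refine ⟨hcomm, ?_, ?_⟩
  · apply le_antisymm
    · -- upper bound via surjection from X × Y
      have : Nat.card ↥(X ⊔ Y) ≤ Nat.card (↥X × ↥Y) := by
        let f : ↥X × ↥Y → ↥(X ⊔ Y) := fun q =>
          ⟨(q.1 : G) * (q.2 : G), mul_mem (le_sup_left (a := X) (b := Y) q.1.2)
            (le_sup_right (a := X) (b := Y) q.2.2)⟩
        apply Nat.card_le_card_of_surjective f
        rintro ⟨z, hz⟩
        obtain ⟨a, ha, b, hb, rfl⟩ := mem_sup_exists_mul hc hz
        exact ⟨(⟨a, ha⟩, ⟨b, hb⟩), rfl⟩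
      rw [Nat.card_prod, hX, hY] at this
      rw [pow_two]; exact this
    · have := card_mul_card_le_card_sup X Y (inf_eq_bot_of_card_prime hp hX hY hne)
      rw [hX, hY] at this
      rw [pow_two]; exact this
  · intro z hz
    obtain ⟨a, ha, b, hb, rfl⟩ := mem_sup_exists_mul hc hz
    rw [(show Commute a b from hc a ha b hb).mul_pow, pow_eq_one_of_card_prime X hX ha,
      pow_eq_one_of_card_prime Y hY hb, one_mul]

/-- a nonidentity element of a line generates a point of the line -/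
theorem point_of_mem {p : ℕ} (hp : p.Prime) {l : Subgroup G} (hl : IsLn p l) {z : G} (hz : z ∈ l)
    (hz1 : z ≠ 1) : Nat.card ↥(Subgroup.zpowers z) = p ∧ Subgroup.zpowers z ≤ l := by
  haveI : Fact p.Prime := ⟨hp⟩
  refine ⟨?_, by rw [Subgroup.zpowers_le]; exact hz⟩
  rw [Nat.card_zpowers]
  exact orderOf_eq_prime (hl.exp z hz) hz1

/-- two distinct points span the line -/
theorem sup_eq_of_points [Finite G] {p : ℕ} (hp : p.Prime) {l M₁ M₂ : Subgroup G} (hl : IsLn p l)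
    (h1 : M₁ ≤ l) (h2 : M₂ ≤ l) (c1 : Nat.card ↥M₁ = p) (c2 : Nat.card ↥M₂ = p) (hne : M₁ ≠ M₂) :
    M₁ ⊔ M₂ = l := by
  apply Subgroup.eq_of_le_of_card_ge (sup_le h1 h2)
  have := card_mul_card_le_card_sup M₁ M₂ (inf_eq_bot_of_card_prime hp c1 c2 hne)
  rw [c1, c2] at this
  rw [hl.card, pow_two]; exact this

/-- one-or-all -/
theorem cm_line_of_two [Finite G] {p : ℕ} (hp : p.Prime) {l M₁ M₂ W : Subgroup G} (hl : IsLn p l)
    (h1 : M₁ ≤ l) (h2 : M₂ ≤ l) (c1 : Nat.card ↥M₁ = p) (c2 : Nat.card ↥M₂ = p) (hne : M₁ ≠ M₂)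
    (k1 : Cm M₁ W) (k2 : Cm M₂ W) : Cm l W := by
  rw [← sup_eq_of_points hp hl h1 h2 c1 c2 hne]
  exact Cm.sup_left k1 k2

/-- an element of order dividing `p` normalizing a subgroup of order `p` centralizes it -/
theorem commute_of_normalizes [Finite G] {p : ℕ} (hp : p.Prime) (W : Subgroup G)
    (hW : Nat.card ↥W = p) (x : G) (hx : x ^ p = 1)
    (h : ∀ w ∈ W, x * w * x⁻¹ ∈ W) : ∀ w ∈ W, x * w = w * x := by
  haveI : Fact p.Prime := ⟨hp⟩
  -- generator
  have hnt : W ≠ ⊥ := by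
    intro hb
    rw [hb, Subgroup.card_bot] at hW
    exact hp.one_lt.ne hW
  obtain ⟨⟨w0, hw0W⟩, hw01⟩ := (Subgroup.ne_bot_iff_exists_ne_one.1 hnt)
  have hw0ne : (w0 : G) ≠ 1 := fun h => hw01 (Subtype.ext h)
  have hw0p : (w0 : G) ^ p = 1 := pow_eq_one_of_card_prime W hW hw0W
  have hord : orderOf (w0 : G) = p := orderOf_eq_prime hw0p hw0ne
  have hgen : Subgroup.zpowers (w0 : G) = W := by
    apply Subgroup.eq_of_le_of_card_ge
    · rw [Subgroup.zpowers_le]; exact hw0W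
    · rw [Nat.card_zpowers, hord, hW]
  obtain ⟨k, hk⟩ : ∃ k : ℤ, (w0 : G) ^ k = x * w0 * x⁻¹ := by
    have := h w0 hw0W
    rw [← hgen] at this
    exact Subgroup.mem_zpowers_iff.1 this
  have hiter : ∀ n : ℕ, x ^ n * w0 * (x ^ n)⁻¹ = (w0 : G) ^ (k ^ n) := by
    intro n
    induction n with
    | zero => simp
    | succ n ih =>
      have e1 : x ^ (n + 1) * w0 * (x ^ (n + 1))⁻¹ = x * (x ^ n * w0 * (x ^ n)⁻¹) * x⁻¹ := by
        rw [pow_succ']; group
      rw [e1, ih]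
      have e2 : x * (w0 : G) ^ (k ^ n) * x⁻¹ = (x * w0 * x⁻¹) ^ (k ^ n) := by
        rw [conj_zpow]
      rw [e2, ← hk, ← zpow_mul, pow_succ']
  have h1 := hiter p
  rw [hx] at h1
  simp only [one_mul, inv_one, mul_one] at h1
  -- w0 = w0 ^ (k^p)
  have h2 : (w0 : G) ^ (k ^ p - 1) = 1 := by
    rw [zpow_sub, zpow_one, ← h1, mul_inv_cancel]
  have h3 : (p : ℤ) ∣ k ^ p - 1 := by
    have := orderOf_dvd_iff_zpow_eq_one.2 h2
    rwa [hord] at this
  have h4 : (p : ℤ) ∣ k ^ p - k := by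
    have : ((k ^ p - k : ℤ) : ZMod p) = 0 := by
      push_cast
      rw [ZMod.pow_card, sub_self]
    exact (ZMod.intCast_zmod_eq_zero_iff_dvd _ p).1 this
  have h5 : (p : ℤ) ∣ k - 1 := by
    have : k - 1 = (k ^ p - 1) - (k ^ p - k) := by ring
    rw [this]; exact dvd_sub h3 h4
  have h6 : (w0 : G) ^ (k - 1) = 1 := by
    apply orderOf_dvd_iff_zpow_eq_one.1
    rw [hord]; exact h5
  have h7 : (w0 : G) ^ k = w0 := by
    have : k = (k - 1) + 1 := by ring
    rw [this, zpow_add, h6, one_mul, zpow_one]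
  have h8 : x * w0 = w0 * x := by
    rw [h7] at hk
    calc x * w0 = x * w0 * x⁻¹ * x := by group
      _ = w0 * x := by rw [← hk]
  intro w hw
  rw [← hgen] at hw
  obtain ⟨j, rfl⟩ := Subgroup.mem_zpowers_iff.1 hw
  exact (Commute.zpow_right (show Commute x w0 from h8) j)


theorem eq_of_mem_of_card_prime [Finite G] {p : ℕ} (hp : p.Prime) {X Y : Subgroup G}
    (hX : Nat.card ↥X = p) (hY : Nat.card ↥Y = p) {a : G} (haX : a ∈ X) (haY : a ∈ Y)
    (ha : a ≠ 1) : X = Y := by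
  by_contra hne
  have h := inf_eq_bot_of_card_prime hp hX hY hne
  have : a ∈ X ⊓ Y := ⟨haX, haY⟩
  rw [h, Subgroup.mem_bot] at this
  exact ha this

theorem exists_ne_one_of_card_prime {p : ℕ} (hp : p.Prime) {X : Subgroup G}
    (hX : Nat.card ↥X = p) : ∃ a ∈ X, a ≠ 1 := by
  have hnt : X ≠ ⊥ := by
    intro hb
    rw [hb, Subgroup.card_bot] at hX
    exact hp.one_lt.ne hX
  obtain ⟨⟨a, ha⟩, ha1⟩ := Subgroup.ne_bot_iff_exists_ne_one.1 hnt
  exact ⟨a, ha, fun h => ha1 (Subtype.ext h)⟩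

/-- a third point on a line -/
theorem third_point [Finite G] {p : ℕ} (hp : p.Prime) {l P Z : Subgroup G} (hl : IsLn p l)
    (hP : P ≤ l) (hZ : Z ≤ l) (cP : Nat.card ↥P = p) (cZ : Nat.card ↥Z = p) (hne : P ≠ Z) :
    ∃ Y : Subgroup G, Y ≤ l ∧ Nat.card ↥Y = p ∧ Y ≠ P ∧ Y ≠ Z := by
  obtain ⟨a, haP, ha1⟩ := exists_ne_one_of_card_prime hp cP
  obtain ⟨b, hbZ, hb1⟩ := exists_ne_one_of_card_prime hp cZ
  have hab : a * b ∈ l := l.mul_mem (hP haP) (hZ hbZ)
  have hab1 : a * b ≠ 1 := by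
    intro h
    have : a = b⁻¹ := eq_inv_of_mul_eq_one_left h
    exact hne (eq_of_mem_of_card_prime hp cP cZ haP (this ▸ Z.inv_mem hbZ) ha1)
  obtain ⟨c1, c2⟩ := point_of_mem hp hl hab hab1
  refine ⟨Subgroup.zpowers (a * b), c2, c1, ?_, ?_⟩
  · intro h
    have h1 : a * b ∈ P := by rw [← h]; exact Subgroup.mem_zpowers _
    have h2 : b ∈ P := by
      have := P.mul_mem (P.inv_mem haP) h1
      simpa using this
    exact hne (eq_of_mem_of_card_prime hp cP cZ h2 hbZ hb1)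
  · intro h
    have h1 : a * b ∈ Z := by rw [← h]; exact Subgroup.mem_zpowers _
    have h2 : a ∈ Z := by
      have := Z.mul_mem h1 (Z.inv_mem hbZ)
      simpa using this
    exact hne (eq_of_mem_of_card_prime hp cP cZ haP h2 ha1)

end Cfsg.Agent.Helper14.PolarFam
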