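import Mathlib
import Cfsg.Agent.Helper14.PolarFam1

set_option autoImplicit false
set_option maxHeartbeats 1000000
set_option linter.style.haveILetI false

namespace Cfsg.Agent.Helper14.PolarFam

variable {G : Type*} [Group G]

theorem exists_point [Finite G] {p : ℕ} (hp : p.Prime) (K : Set (Subgroup G))
    (hK : ∀ X ∈ K, Nat.card ↥X = p)
    (ha : ∀ X ∈ K, ∀ Y ∈ K, X ≠ Y → Cm X Y →
      ∀ Z : Subgroup G, Z ≤ X ⊔ Y → Nat.card ↥Z = p → Z ∈ K)
    (hb : ∀ X ∈ K, ∀ Y ∈ K, X ≠ Y → Cm X Y →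
      ∀ W ∈ K, (X ⊔ Y) ⊓ Subgroup.centralizer (W : Set G) ≠ ⊥)
    {X Y : Subgroup G} (hX : X ∈ K) (hY : Y ∈ K) (hne : X ≠ Y) (hc : Cm X Y)
    {W : Subgroup G} (hW : W ∈ K) : ∃ Z ∈ K, Z ≤ X ⊔ Y ∧ Cm Z W := by
  have h := hb X hX Y hY hne hc W hW
  obtain ⟨⟨z, hz⟩, hz1⟩ := Subgroup.ne_bot_iff_exists_ne_one.1 h
  have hz1' : z ≠ 1 := fun h => hz1 (Subtype.ext h)
  have hl := isLn_sup hp (hK X hX) (hK Y hY) hne hc
  obtain ⟨c1, c2⟩ := point_of_mem hp hl hz.1 hz1'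
  refine ⟨Subgroup.zpowers z, ha X hX Y hY hne hc _ c2 c1, c2, ?_⟩
  rw [cm_iff_le_centralizer, Subgroup.zpowers_le]
  exact hz.2

theorem exists_radical [Finite G] {p : ℕ} (hp : p.Prime) (K : Set (Subgroup G))
    (hK : ∀ X ∈ K, Nat.card ↥X = p)
    (hKc : ∀ X ∈ K, ∀ g : G, X.map (MulAut.conj g).toMonoidHom ∈ K)
    (hex : ∃ X ∈ K, ∃ Y ∈ K, X ≠ Y ∧ Cm X Y)
    (ha : ∀ X ∈ K, ∀ Y ∈ K, X ≠ Y → Cm X Y →
      ∀ Z : Subgroup G, Z ≤ X ⊔ Y → Nat.card ↥Z = p → Z ∈ K)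
    (hb : ∀ X ∈ K, ∀ Y ∈ K, X ≠ Y → Cm X Y →
      ∀ W ∈ K, (X ⊔ Y) ⊓ Subgroup.centralizer (W : Set G) ≠ ⊥) :
    ∃ V ∈ K, ∀ W ∈ K, Cm V W := by
  classical
  by_contra hno
  push Not at hno
  have hKfin : K.Finite := Set.toFinite K
  have hKne : K.Nonempty := by
    obtain ⟨X, hX, -⟩ := hex
    exact ⟨X, hX⟩
  obtain ⟨W, hWK, hWmax⟩ :=
    Set.exists_max_image K (fun W => ({N | N ∈ K ∧ Cm N W} : Set (Subgroup G)).ncard) hKfin hKne
  have hMAX : ∀ P ∈ K, ({N | N ∈ K ∧ Cm N W} : Set (Subgroup G)) ⊆ {N | N ∈ K ∧ Cm N P} →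
      ∀ X ∈ K, Cm X P → Cm X W := by
    intro P hP hsub X hX hXP
    have hfin : ({N | N ∈ K ∧ Cm N P} : Set (Subgroup G)).Finite :=
      hKfin.subset (fun N hN => hN.1)
    have heq := Set.eq_of_subset_of_ncard_le hsub (hWmax P hP) hfin
    have hmem : X ∈ ({N | N ∈ K ∧ Cm N P} : Set (Subgroup G)) := ⟨hX, hXP⟩
    rw [← heq] at hmem
    exact hmem.2
  have hpt := @exists_point G _ _ p hp K hK ha hb
  -- every point lies on a line
  have hline : ∀ X ∈ K, ∃ Y ∈ K, Y ≠ X ∧ Cm X Y := by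
    intro X hX
    obtain ⟨X1, hX1, Y1, hY1, hne1, hc1⟩ := hex
    obtain ⟨Z, hZK, hZle, hZX⟩ := hpt hX1 hY1 hne1 hc1 hX
    by_cases hZ : Z = X
    · have hl := isLn_sup hp (hK X1 hX1) (hK Y1 hY1) hne1 hc1
      have hXle : X ≤ X1 ⊔ Y1 := hZ ▸ hZle
      by_cases h1 : X1 = X
      · refine ⟨Y1, hY1, ?_, hl.comm.mono hXle le_sup_right⟩
        rw [← h1]; exact hne1.symm
      · exact ⟨X1, hX1, h1, hl.comm.mono hXle le_sup_left⟩
    · exact ⟨Z, hZK, hZ, hZX.symm⟩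
  obtain ⟨X0, hX0K, hX0W⟩ := hno W hWK
  obtain ⟨Y0, hY0K, hY0ne, hXY0⟩ := hline X0 hX0K
  have hE := isLn_sup hp (hK X0 hX0K) (hK Y0 hY0K) hY0ne.symm hXY0
  obtain ⟨Z, hZK, hZE, hZW⟩ := hpt hX0K hY0K hY0ne.symm hXY0 hWK
  have hEK : ∀ P : Subgroup G, P ≤ X0 ⊔ Y0 → Nat.card ↥P = p → P ∈ K :=
    fun P h1 h2 => ha X0 hX0K Y0 hY0K hY0ne.symm hXY0 P h1 h2
  have hnotW : ∀ P : Subgroup G, P ≤ X0 ⊔ Y0 → Nat.card ↥P = p → P ≠ Z → ¬ Cm P W := by
    intro P hPE hPc hPZ hPW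
    have := cm_line_of_two hp hE hPE hZE hPc (hK Z hZK) hPZ hPW hZW
    exact hX0W (this.mono le_sup_left le_rfl).symm
  by_cases hgood : ∃ X Y M : Subgroup G, X ≤ X0 ⊔ Y0 ∧ Nat.card ↥X = p ∧ X ≠ Z ∧
      Y ≤ X0 ⊔ Y0 ∧ Nat.card ↥Y = p ∧ Y ≠ Z ∧ X ≠ Y ∧ M ∈ K ∧ Cm M X ∧ Cm M W ∧ ¬ Cm M Y
  · obtain ⟨X, Y, M, hXE, hXc, hXZ, hYE, hYc, hYZ, hXY, hMK, hMX, hMW, hMY⟩ := hgood
    have hXK := hEK X hXE hXc
    have hYK := hEK Y hYE hYc
    have hXW : ¬ Cm X W := hnotW X hXE hXc hXZ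
    have hXYc : Cm X Y := hE.comm.mono hXE hYE
    have hsupXY : X ⊔ Y = X0 ⊔ Y0 := sup_eq_of_points hp hE hXE hYE hXc hYc hXY
    obtain ⟨z, hzZ, hz1⟩ := exists_ne_one_of_card_prime hp (hK Z hZK)
    have hzE : z ∈ X ⊔ Y := by rw [hsupXY]; exact hZE hzZ
    obtain ⟨x, hxX, y, hyY, hzxy⟩ := mem_sup_exists_mul hXYc hzE
    have hx1 : x ≠ 1 := by
      rintro rfl
      rw [one_mul] at hzxy
      exact hYZ (eq_of_mem_of_card_prime hp hYc (hK Z hZK) hyY (hzxy ▸ hzZ) (hzxy ▸ hz1))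
    have hxy : x * y = y * x := hXYc x hxX y hyY
    have hzW : ∀ w ∈ W, (x * y) * w = w * (x * y) := fun w hw => hzxy ▸ hZW z hzZ w hw
    -- the conjugate U of W
    have hUK : W.map (MulAut.conj x).toMonoidHom ∈ K := hKc W hWK x
    have hUmem : ∀ u ∈ W.map (MulAut.conj x).toMonoidHom, ∃ w ∈ W, u = x * w * x⁻¹ := by
      rintro u ⟨w, hw, rfl⟩
      exact ⟨w, hw, rfl⟩
    have halt : ∀ w ∈ W, x * w * x⁻¹ = y⁻¹ * w * y := by
      intro w hw
      have h1 := hzW w hw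
      have h2 : y * (x * w * x⁻¹) * y⁻¹ = w := by
        calc y * (x * w * x⁻¹) * y⁻¹ = (y * x) * w * (y * x)⁻¹ := by group
          _ = (x * y) * w * (x * y)⁻¹ := by rw [hxy]
          _ = w * (x * y) * (x * y)⁻¹ := by rw [h1]
          _ = w := by group
      calc x * w * x⁻¹ = y⁻¹ * (y * (x * w * x⁻¹) * y⁻¹) * y := by group
        _ = y⁻¹ * w * y := by rw [h2]
    have hi : ∀ N : Subgroup G, Cm N X → Cm N W → Cm N (W.map (MulAut.conj x).toMonoidHom) := by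
      intro N hNX hNW n hn u hu
      obtain ⟨w, hw, rfl⟩ := hUmem u hu
      have c1 : Commute n x := hNX n hn x hxX
      have c2 : Commute n w := hNW n hn w hw
      exact ((c1.mul_right c2).mul_right c1.inv_right)
    have hii : ∀ N : Subgroup G, Cm N Y → Cm N W → Cm N (W.map (MulAut.conj x).toMonoidHom) := by
      intro N hNY hNW n hn u hu
      obtain ⟨w, hw, rfl⟩ := hUmem u hu
      rw [halt w hw]
      have c1 : Commute n y := hNY n hn y hyY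
      have c2 : Commute n w := hNW n hn w hw
      exact ((c1.inv_right.mul_right c2).mul_right c1)
    -- Goal A
    have hMneW : M ≠ W := by
      rintro rfl
      exact hXW hMX.symm
    have hl := isLn_sup hp (hK M hMK) (hK W hWK) hMneW hMW
    obtain ⟨M2, hM2K, hM2l, hM2Y⟩ := hpt hMK hWK hMneW hMW hYK
    have hM2neM : M2 ≠ M := by
      rintro rfl
      exact hMY hM2Y
    have hM2W : Cm M2 W := hl.comm.mono hM2l le_sup_right
    have hM2U := hii M2 hM2Y hM2W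
    have hMU := hi M hMX hMW
    have hlU := cm_line_of_two hp hl le_sup_left hM2l (hK M hMK) (hK M2 hM2K) hM2neM.symm hMU hM2U
    have hUW : Cm (W.map (MulAut.conj x).toMonoidHom) W := (hlU.mono le_sup_right le_rfl).symm
    -- Goal B
    have hB : ∀ N ∈ K, Cm N W → Cm N (W.map (MulAut.conj x).toMonoidHom) := by
      intro N hNK hNW
      by_cases hNeq : N = W
      · rw [hNeq]; exact hUW.symm
      · have hl' := isLn_sup hp (hK N hNK) (hK W hWK) hNeq hNW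
        obtain ⟨M1, hM1K, hM1l, hM1X⟩ := hpt hNK hWK hNeq hNW hXK
        have hM1W : Cm M1 W := hl'.comm.mono hM1l le_sup_right
        have hM1neW : M1 ≠ W := by
          rintro rfl
          exact hXW hM1X.symm
        have hM1U := hi M1 hM1X hM1W
        have hl'U := cm_line_of_two hp hl' hM1l le_sup_right (hK M1 hM1K) (hK W hWK) hM1neW
          hM1U hUW.symm
        exact hl'U.mono le_sup_left le_rfl
    -- U ≠ W
    have hUneW : W.map (MulAut.conj x).toMonoidHom ≠ W := by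
      intro hUW'
      apply hXW
      have hnorm : ∀ w ∈ W, x * w * x⁻¹ ∈ W := by
        intro w hw
        rw [← hUW']
        exact ⟨w, hw, rfl⟩
      have hxp : x ^ p = 1 := pow_eq_one_of_card_prime X hXc hxX
      have hcomm := commute_of_normalizes hp W (hK W hWK) x hxp hnorm
      have hzp : Cm (Subgroup.zpowers x) W := by
        rw [cm_iff_le_centralizer, Subgroup.zpowers_le, Subgroup.mem_centralizer_iff]
        intro w hw
        exact (hcomm w hw).symm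
      have hcz : Nat.card ↥(Subgroup.zpowers x) = p := by
        rw [Nat.card_zpowers]
        haveI : Fact p.Prime := ⟨hp⟩
        exact orderOf_eq_prime hxp hx1
      have : Subgroup.zpowers x = X :=
        eq_of_mem_of_card_prime hp hcz hXc (Subgroup.mem_zpowers x) hxX hx1
      rw [← this]; exact hzp
    have hl'' := isLn_sup hp (hK W hWK) (hK _ hUK) hUneW.symm hUW.symm
    obtain ⟨P', hP'K, hP'l, hP'X⟩ := hpt hWK hUK hUneW.symm hUW.symm hXK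
    have hsub : ({N | N ∈ K ∧ Cm N W} : Set (Subgroup G)) ⊆ {N | N ∈ K ∧ Cm N P'} := by
      rintro N ⟨hNK, hNW⟩
      exact ⟨hNK, (Cm.sup_right hNW (hB N hNK hNW)).mono le_rfl hP'l⟩
    exact hXW (hMAX P' hP'K hsub X hXK hP'X.symm)
  · -- bad case
    push Not at hgood
    have hsub : ({N | N ∈ K ∧ Cm N W} : Set (Subgroup G)) ⊆ {N | N ∈ K ∧ Cm N Z} := by
      rintro N ⟨hNK, hNW⟩
      refine ⟨hNK, ?_⟩
      obtain ⟨P, hPK, hPE, hPN⟩ := hpt hX0K hY0K hY0ne.symm hXY0 hNK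
      by_cases hPZ : P = Z
      · rw [← hPZ]; exact hPN.symm
      · obtain ⟨Y', hY'E, hY'c, hY'P, hY'Z⟩ :=
          third_point hp hE hPE hZE (hK P hPK) (hK Z hZK) hPZ
        have hNY' : Cm N Y' :=
          hgood P Y' N hPE (hK P hPK) hPZ hY'E hY'c hY'Z hY'P.symm hNK hPN.symm hNW
        have := cm_line_of_two hp hE hPE hY'E (hK P hPK) hY'c hY'P.symm hPN hNY'.symm
        exact (this.mono hZE le_rfl).symm
    exact hX0W ((hMAX Z hZK hsub X0 hX0K (hE.comm.mono le_sup_left hZE)).symm)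

end Cfsg.Agent.Helper14.PolarFam
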