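import Mathlib
import Cfsg.Prelude.Def_Solvable
import Cfsg.Agent.Helper14.PolarFam2

set_option autoImplicit false
set_option maxHeartbeats 1000000
set_option linter.style.haveILetI false

namespace Cfsg.Agent.Helper14.PolarFam

open Cfsg

variable {G : Type*} [Group G]

theorem family_main [Finite G] {p : ℕ} (hp : p.Prime) (K : Set (Subgroup G))
    (hK : ∀ X ∈ K, Nat.card ↥X = p)
    (hKc : ∀ X ∈ K, ∀ g : G, X.map (MulAut.conj g).toMonoidHom ∈ K)
    (hex : ∃ X ∈ K, ∃ Y ∈ K, X ≠ Y ∧ ∀ x ∈ X, ∀ y ∈ Y, x * y = y * x)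
    (ha : ∀ X ∈ K, ∀ Y ∈ K, X ≠ Y → (∀ x ∈ X, ∀ y ∈ Y, x * y = y * x) →
      ∀ Z : Subgroup G, Z ≤ X ⊔ Y → Nat.card ↥Z = p → Z ∈ K)
    (hb : ∀ X ∈ K, ∀ Y ∈ K, X ≠ Y → (∀ x ∈ X, ∀ y ∈ Y, x * y = y * x) →
      ∀ W ∈ K, (X ⊔ Y) ⊓ Subgroup.centralizer (W : Set G) ≠ ⊥) :
    (∃ V ∈ K, (∀ W ∈ K, ∀ v ∈ V, ∀ w ∈ W, v * w = w * v) ∧ V ≤ Cfsg.pCore p G) ∧
      ¬ IsSimpleGroup G := by
  obtain ⟨V, hVK, hV⟩ := exists_radical hp K hK hKc hex ha hb
  -- conjugates of V are radical too
  have hVg : ∀ g : G, ∀ W ∈ K, Cm (V.map (MulAut.conj g).toMonoidHom) W := by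
    intro g W hW
    rintro a ⟨v, hv, rfl⟩ w hw
    have hW' : W.map (MulAut.conj g⁻¹).toMonoidHom ∈ K := hKc W hW g⁻¹
    have hw' : g⁻¹ * w * g ∈ W.map (MulAut.conj g⁻¹).toMonoidHom :=
      ⟨w, hw, by simp [MulAut.conj_apply]⟩
    have h1 : v * (g⁻¹ * w * g) = (g⁻¹ * w * g) * v := hV _ hW' v hv _ hw'
    show g * v * g⁻¹ * w = w * (g * v * g⁻¹)
    calc g * v * g⁻¹ * w = g * (v * (g⁻¹ * w * g)) * g⁻¹ := by group
      _ = g * ((g⁻¹ * w * g) * v) * g⁻¹ := by rw [h1]
      _ = w * (g * v * g⁻¹) := by group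
  -- the normal closure R of V
  let S : Set G := Group.conjugatesOfSet (V : Set G)
  have hSmem : ∀ a ∈ S, ∃ g : G, a ∈ V.map (MulAut.conj g).toMonoidHom := by
    intro a ha
    rw [Group.mem_conjugatesOfSet_iff] at ha
    obtain ⟨b, hb, hba⟩ := ha
    obtain ⟨c, hc⟩ := isConj_iff.1 hba
    exact ⟨c, b, hb, hc⟩
  have hScomm : ∀ a ∈ S, ∀ b ∈ S, a * b = b * a := by
    intro a ha b hb
    obtain ⟨g, hg⟩ := hSmem a ha
    obtain ⟨h, hh⟩ := hSmem b hb
    exact hVg g _ (hKc V hVK h) a hg b hh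
  have hSp : ∀ a ∈ S, a ^ p = 1 := by
    intro a ha
    obtain ⟨g, hg⟩ := hSmem a ha
    exact pow_eq_one_of_card_prime _ (hK _ (hKc V hVK g)) hg
  have h1 : Subgroup.normalClosure (V : Set G) ≤ Subgroup.centralizer S := by
    show Subgroup.closure S ≤ _
    rw [Subgroup.closure_le]
    intro a ha
    rw [SetLike.mem_coe, Subgroup.mem_centralizer_iff]
    intro b hb
    exact hScomm b hb a ha
  have hRcomm : ∀ a ∈ Subgroup.normalClosure (V : Set G),
      ∀ b ∈ Subgroup.normalClosure (V : Set G), a * b = b * a := by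
    intro a ha
    have h2 : Subgroup.normalClosure (V : Set G) ≤ Subgroup.centralizer {a} := by
      show Subgroup.closure S ≤ _
      rw [Subgroup.closure_le]
      intro b hb
      rw [SetLike.mem_coe, Subgroup.mem_centralizer_iff]
      intro c hc
      rw [Set.mem_singleton_iff] at hc
      subst hc
      exact (Subgroup.mem_centralizer_iff.1 (h1 ha) b hb).symm
    intro b hb
    have := Subgroup.mem_centralizer_iff.1 (h2 hb) a rfl
    exact this
  have hRp : ∀ a ∈ Subgroup.normalClosure (V : Set G), a ^ p = 1 := by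
    intro a ha
    have ha' : a ∈ Subgroup.closure S := ha
    induction ha' using Subgroup.closure_induction with
    | mem x hx => exact hSp x hx
    | one => exact one_pow p
    | mul x y hx hy ihx ihy =>
      rw [(show Commute x y from hRcomm x hx y hy).mul_pow, ihx hx, ihy hy, one_mul]
    | inv x hx ihx => rw [inv_pow, ihx hx, inv_one]
  have hRpg : IsPGroup p ↥(Subgroup.normalClosure (V : Set G)) := by
    rintro ⟨a, ha⟩
    refine ⟨1, ?_⟩
    apply Subtype.ext
    rw [pow_one, Subgroup.coe_pow, Subgroup.coe_one]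
    exact hRp a ha
  have hVR : V ≤ Subgroup.normalClosure (V : Set G) := Subgroup.le_normalClosure
  have hVcore : V ≤ Cfsg.pCore p G :=
    hVR.trans (le_sSup ⟨Subgroup.normalClosure_normal, hRpg⟩)
  refine ⟨⟨V, hVK, hV, hVcore⟩, ?_⟩
  intro hs
  have hVne : V ≠ ⊥ := by
    intro hb'
    have := hK V hVK
    rw [hb', Subgroup.card_bot] at this
    exact hp.one_lt.ne this
  have hRtop : Subgroup.normalClosure (V : Set G) = ⊤ := by
    rcases hs.eq_bot_or_eq_top_of_normal _ (Subgroup.normalClosure_normal (s := (V : Set G))) with h | h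
    · exfalso
      apply hVne
      rw [eq_bot_iff, ← h]; exact hVR
    · exact h
  have hGcomm : ∀ a b : G, a * b = b * a := by
    intro a b
    exact hRcomm a (by rw [hRtop]; exact Subgroup.mem_top a) b
      (by rw [hRtop]; exact Subgroup.mem_top b)
  have htop : ∀ X ∈ K, X = ⊤ := by
    intro X hX
    have hXn : X.Normal := by
      constructor
      intro n hn g
      have : g * n * g⁻¹ = n := by
        rw [hGcomm g n]; group
      rw [this]; exact hn
    rcases hs.eq_bot_or_eq_top_of_normal X hXn with h | h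
    · exfalso
      have := hK X hX
      rw [h, Subgroup.card_bot] at this
      exact hp.one_lt.ne this
    · exact h
  obtain ⟨X, hX, Y, hY, hne, -⟩ := hex
  exact hne ((htop X hX).trans (htop Y hY).symm)

end Cfsg.Agent.Helper14.PolarFam
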