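import Cfsg.Prelude.Def_OddOrderLocal
import Mathlib

/-!
# Puig series viewed in an ambient group
-/

set_option autoImplicit false

namespace Cfsg.Agent.Helper14.PuigAmb

open Cfsg

variable {G : Type*} [Group G]

/-- ambient Puig step: generated by abelian subgroups of `H` normalized by `X` -/
def LL (H X : Subgroup G) : Subgroup G :=
  sSup {A : Subgroup G | A ≤ H ∧ IsMulCommutative A ∧ X ≤ Subgroup.normalizer (A : Set G)}

theorem LL_le (H X : Subgroup G) : LL H X ≤ H := by
  unfold LL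
  apply sSup_le
  rintro A ⟨hA, _, _⟩
  exact hA

theorem LL_anti (H : Subgroup G) {X Y : Subgroup G} (h : X ≤ Y) : LL H Y ≤ LL H X := by
  unfold LL
  apply sSup_le_sSup
  rintro A ⟨hA, hc, hY⟩
  exact ⟨hA, hc, h.trans hY⟩

theorem LL_mono {H H' : Subgroup G} (h : H ≤ H') (X : Subgroup G) : LL H X ≤ LL H' X := by
  unfold LL
  apply sSup_le_sSup
  rintro A ⟨hA, hc, hY⟩
  exact ⟨hA.trans h, hc, hY⟩

theorem LL_eq_of_le {H H' : Subgroup G} (h : H ≤ H') (X : Subgroup G) (hle : LL H' X ≤ H) :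
    LL H' X = LL H X := by
  apply le_antisymm _ (LL_mono h X)
  unfold LL
  apply sSup_le
  rintro A ⟨hA, hc, hX⟩
  have hAH : A ≤ H := by
    refine le_trans ?_ hle
    unfold LL
    exact le_sSup ⟨hA, hc, hX⟩
  exact le_sSup ⟨hAH, hc, hX⟩

theorem isMulCommutative_map_subtype (H : Subgroup G) (A : Subgroup ↥H)
    (hA : IsMulCommutative A) : IsMulCommutative (A.map H.subtype) := by
  constructor
  constructor
  rintro ⟨_, ⟨a, ha, rfl⟩⟩ ⟨_, ⟨b, hb, rfl⟩⟩
  apply Subtype.ext
  have := hA.is_comm.comm ⟨a, ha⟩ ⟨b, hb⟩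
  have h2 : a * b = b * a := congrArg Subtype.val this
  show (H.subtype a) * (H.subtype b) = (H.subtype b) * (H.subtype a)
  rw [← map_mul, ← map_mul, h2]

theorem isMulCommutative_subgroupOf (H A : Subgroup G) (hA : IsMulCommutative A) :
    IsMulCommutative (A.subgroupOf H) := by
  constructor
  constructor
  rintro ⟨a, ha⟩ ⟨b, hb⟩
  apply Subtype.ext
  apply Subtype.ext
  rw [Subgroup.mem_subgroupOf] at ha hb
  have := hA.is_comm.comm ⟨a.1, ha⟩ ⟨b.1, hb⟩
  have h2 : (a : G) * (b : G) = (b : G) * (a : G) := congrArg Subtype.val this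
  exact h2

theorem map_le_normalizer_map (H : Subgroup G) (A Y : Subgroup ↥H)
    (h : Y ≤ Subgroup.normalizer (A : Set ↥H)) :
    Y.map H.subtype ≤ Subgroup.normalizer ((A.map H.subtype : Subgroup G) : Set G) := by
  rintro _ ⟨y, hy, rfl⟩
  rw [Subgroup.mem_normalizer_iff]
  intro g
  have hyN := Subgroup.mem_normalizer_iff.mp (h hy)
  constructor
  · rintro ⟨a, ha, rfl⟩
    exact ⟨y * a * y⁻¹, (hyN a).mp ha, by simp⟩
  · rintro ⟨b, hb, hbe⟩
    have hgH : g ∈ H := by
      have h1 : (y : G) * g * (y : G)⁻¹ ∈ H := by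
        have : H.subtype b = (y : G) * g * (y : G)⁻¹ := hbe
        rw [← this]; exact b.2
      have : g = (y : G)⁻¹ * ((y : G) * g * (y : G)⁻¹) * (y : G) := by group
      rw [this]
      exact H.mul_mem (H.mul_mem (H.inv_mem y.2) h1) y.2
    refine ⟨⟨g, hgH⟩, ?_, rfl⟩
    apply (hyN _).mpr
    have : y * ⟨g, hgH⟩ * y⁻¹ = b := by
      apply Subtype.ext
      exact hbe.symm
    rw [this]; exact hb

theorem subgroupOf_le_normalizer (H A : Subgroup G) (Y : Subgroup ↥H)
    (h : Y.map H.subtype ≤ Subgroup.normalizer (A : Set G)) :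
    Y ≤ Subgroup.normalizer ((A.subgroupOf H : Subgroup ↥H) : Set ↥H) := by
  intro y hy
  have hyN : (y : G) ∈ Subgroup.normalizer (A : Set G) := h ⟨y, hy, rfl⟩
  rw [Subgroup.mem_normalizer_iff] at hyN ⊢
  intro g
  rw [Subgroup.mem_subgroupOf, Subgroup.mem_subgroupOf]
  exact hyN g

/-- bridge between the intrinsic and the ambient Puig step -/
theorem map_puigStep (H : Subgroup G) (Y : Subgroup ↥H) :
    (Cfsg.puigStep Y).map H.subtype = LL H (Y.map H.subtype) := by
  apply le_antisymm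
  · rw [Subgroup.map_le_iff_le_comap]
    unfold Cfsg.puigStep
    apply sSup_le
    rintro A ⟨hA, hY⟩
    rw [← Subgroup.map_le_iff_le_comap]
    unfold LL
    apply le_sSup
    refine ⟨?_, isMulCommutative_map_subtype H A hA, map_le_normalizer_map H A Y hY⟩
    rintro _ ⟨a, _, rfl⟩
    exact a.2
  · unfold LL
    apply sSup_le
    rintro A ⟨hAH, hc, hY⟩
    have h1 : A = (A.subgroupOf H).map H.subtype := by
      rw [Subgroup.map_subgroupOf_eq_of_le hAH]
    rw [h1]
    apply Subgroup.map_mono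
    unfold Cfsg.puigStep
    apply le_sSup
    exact ⟨isMulCommutative_subgroupOf H A hc, subgroupOf_le_normalizer H A Y hY⟩

theorem map_puigSeq_succ (H : Subgroup G) (n : ℕ) :
    (Cfsg.puigSeq ↥H (n + 1)).map H.subtype = LL H ((Cfsg.puigSeq ↥H n).map H.subtype) :=
  map_puigStep H _

theorem puigStep_map_equiv_le {K K' : Type*} [Group K] [Group K'] (ψ : K ≃* K') (Y : Subgroup K) :
    (Cfsg.puigStep Y).map ψ.toMonoidHom ≤ Cfsg.puigStep (Y.map ψ.toMonoidHom) := by
  rw [Subgroup.map_le_iff_le_comap]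
  unfold Cfsg.puigStep
  apply sSup_le
  rintro A ⟨hA, hY⟩
  rw [← Subgroup.map_le_iff_le_comap]
  apply le_sSup
  refine ⟨?_, ?_⟩
  · constructor
    constructor
    rintro ⟨_, ⟨a, ha, rfl⟩⟩ ⟨_, ⟨b, hb, rfl⟩⟩
    apply Subtype.ext
    have := hA.is_comm.comm ⟨a, ha⟩ ⟨b, hb⟩
    have h2 : a * b = b * a := congrArg Subtype.val this
    show ψ.toMonoidHom a * ψ.toMonoidHom b = ψ.toMonoidHom b * ψ.toMonoidHom a
    rw [← map_mul, ← map_mul, h2]
  · rintro _ ⟨y, hy, rfl⟩
    have hyN := Subgroup.mem_normalizer_iff.mp (hY hy)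
    rw [Subgroup.mem_normalizer_iff]
    intro g
    constructor
    · rintro ⟨a, ha, rfl⟩
      exact ⟨y * a * y⁻¹, (hyN a).mp ha, by simp⟩
    · rintro ⟨b, hb, hbe⟩
      refine ⟨ψ.symm g, ?_, by simp⟩
      apply (hyN _).mpr
      have : y * ψ.symm g * y⁻¹ = b := by
        apply ψ.injective
        have : ψ.toMonoidHom b = ψ.toMonoidHom y * g * (ψ.toMonoidHom y)⁻¹ := hbe
        simp only [MulEquiv.coe_toMonoidHom] at this
        rw [map_mul, map_mul, map_inv, MulEquiv.apply_symm_apply, this]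
      rw [this]; exact hb

/-- equivariance of the Puig step under isomorphisms -/
theorem puigStep_map_equiv {H H' : Type*} [Group H] [Group H'] (φ : H ≃* H') (X : Subgroup H) :
    (Cfsg.puigStep X).map φ.toMonoidHom = Cfsg.puigStep (X.map φ.toMonoidHom) := by
  apply le_antisymm (puigStep_map_equiv_le φ X)
  have h2 := puigStep_map_equiv_le φ.symm (X.map φ.toMonoidHom)
  have h3 : (X.map φ.toMonoidHom).map φ.symm.toMonoidHom = X := by
    rw [Subgroup.map_map]
    have : φ.symm.toMonoidHom.comp φ.toMonoidHom = MonoidHom.id H := by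
      ext x; simp
    rw [this, Subgroup.map_id]
  rw [h3] at h2
  have h4 := Subgroup.map_mono (f := φ.toMonoidHom) h2
  rw [Subgroup.map_map] at h4
  have : φ.toMonoidHom.comp φ.symm.toMonoidHom = MonoidHom.id H' := by
    ext x; simp
  rw [this, Subgroup.map_id] at h4
  exact h4

theorem puigSeq_map_equiv {H H' : Type*} [Group H] [Group H'] (φ : H ≃* H') (n : ℕ) :
    (Cfsg.puigSeq H n).map φ.toMonoidHom = Cfsg.puigSeq H' n := by
  induction n with
  | zero => simp [Cfsg.puigSeq]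
  | succ n ih =>
    show (Cfsg.puigStep (Cfsg.puigSeq H n)).map φ.toMonoidHom = Cfsg.puigStep (Cfsg.puigSeq H' n)
    rw [puigStep_map_equiv, ih]

theorem puigSeq_characteristic (H : Type*) [Group H] (n : ℕ) :
    (Cfsg.puigSeq H n).Characteristic := by
  rw [Subgroup.characteristic_iff_map_eq]
  intro φ
  exact puigSeq_map_equiv φ n

end Cfsg.Agent.Helper14.PuigAmb
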