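import Cfsg.Agent.Helper14.PuigAmb
import Cfsg.Agent.Helper14.PCore
import Cfsg.Agent.S1465
import Cfsg.Agent.S1466
import Cfsg.Agent.S1467

/-!
# Puig series of a Sylow subgroup and of `O_p(G)` compared
-/

set_option autoImplicit false

namespace Cfsg.Agent.Helper14.PuigAmb

open Cfsg

variable {G : Type*} [Group G]

/-- the terms of the Puig series of a normal subgroup are normal -/
theorem map_puigSeq_normal (T : Subgroup G) [T.Normal] (n : ℕ) :
    ((Cfsg.puigSeq ↥T n).map T.subtype).Normal := by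
  have := puigSeq_characteristic ↥T n
  exact ConjAct.normal_of_characteristic_of_normal

theorem map_puigSeq_le (T : Subgroup G) (n : ℕ) :
    (Cfsg.puigSeq ↥T n).map T.subtype ≤ T := by
  rintro _ ⟨a, _, rfl⟩
  exact a.2

theorem map_puigSeq_one (T : Subgroup G) :
    (Cfsg.puigSeq ↥T 1).map T.subtype = T := by
  have h1 : Cfsg.puigSeq ↥T 1 = ⊤ :=
    (Cfsg.Agent.S1467.seq_succ 0).trans Cfsg.Agent.S1467.puigStep_bot
  rw [h1, ← MonoidHom.range_eq_map, Subgroup.range_subtype]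

/-- self-centralizing property of the positive terms, viewed in the ambient group -/
theorem inf_centralizer_map_puigSeq_le [Finite G] (p : ℕ) [Fact p.Prime] (T : Subgroup G)
    (hT : IsPGroup p ↥T) (n : ℕ) (hn : 0 < n) :
    T ⊓ Subgroup.centralizer (((Cfsg.puigSeq ↥T n).map T.subtype : Subgroup G) : Set G) ≤
      (Cfsg.puigSeq ↥T n).map T.subtype := by
  rintro x ⟨hxT, hxC⟩
  rcases subsingleton_or_nontrivial ↥T with hs | hnt
  · have : (⟨x, hxT⟩ : ↥T) = 1 := Subsingleton.elim _ _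
    have hx1 : x = 1 := congrArg Subtype.val this
    rw [hx1]; exact Subgroup.one_mem _
  · have h1 := ((Cfsg.Agent.S1466.result (R := ↥T) p hT).1 n hn).2
    refine ⟨⟨x, hxT⟩, ?_, rfl⟩
    apply h1
    rw [Subgroup.mem_centralizer_iff]
    intro y hy
    apply Subtype.ext
    have hy' : (y : G) ∈ (((Cfsg.puigSeq ↥T n).map T.subtype : Subgroup G) : Set G) :=
      ⟨y, hy, rfl⟩
    exact (Subgroup.mem_centralizer_iff.mp hxC) _ hy'

/-- key step: abelian subgroups of `S` normalised by a positive Puig term of `O_p(G)` lie in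
`O_p(G)` -/
theorem LL_sylow_le_pCore [Finite G] [Group.IsSolvable G] (hodd : Odd (Nat.card G)) (p : ℕ)
    [Fact p.Prime] (hp : p ≠ 2) (hO : Cfsg.pPrimeCore p G = ⊥) (S : Sylow p G) (n : ℕ)
    (hn : 0 < n) :
    LL (S : Subgroup G) ((Cfsg.puigSeq ↥(Cfsg.pCore p G) n).map (Cfsg.pCore p G).subtype) ≤
      Cfsg.pCore p G := by
  have : (Cfsg.pCore p G).Normal := Cfsg.Agent.Helper14.pCore_normal p
  have := map_puigSeq_normal (Cfsg.pCore p G) n
  have hT : IsPGroup p ↥(Cfsg.pCore p G) := Cfsg.Agent.Helper14.pCore_isPGroup p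
  set K := (Cfsg.puigSeq ↥(Cfsg.pCore p G) n).map (Cfsg.pCore p G).subtype with hK
  have hKT : K ≤ Cfsg.pCore p G := map_puigSeq_le _ n
  have hKp : IsPGroup p ↥K := hT.to_le hKT
  have h := (Cfsg.Agent.S1465.result hodd p hp K hKp
    {A : Subgroup G | A ≤ (S : Subgroup G) ∧ IsMulCommutative A ∧
      K ≤ Subgroup.normalizer (A : Set G)} ?_).2 hO
      (inf_centralizer_map_puigSeq_le p _ hT n hn)
  · exact h
  · rintro B ⟨hBS, hBc, hBn⟩
    exact ⟨hBc, S.isPGroup'.to_le hBS, hBn⟩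

theorem puig_induction [Finite G] [Group.IsSolvable G] (hodd : Odd (Nat.card G)) (p : ℕ)
    [Fact p.Prime] (hp : p ≠ 2) (hO : Cfsg.pPrimeCore p G = ⊥) (S : Sylow p G) (n : ℕ) :
    (Cfsg.puigSeq ↥(S : Subgroup G) (2 * n)).map (S : Subgroup G).subtype ≤
        (Cfsg.puigSeq ↥(Cfsg.pCore p G) (2 * n)).map (Cfsg.pCore p G).subtype ∧
      (Cfsg.puigSeq ↥(Cfsg.pCore p G) (2 * n + 1)).map (Cfsg.pCore p G).subtype ≤
        (Cfsg.puigSeq ↥(S : Subgroup G) (2 * n + 1)).map (S : Subgroup G).subtype := by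
  have hTS : Cfsg.pCore p G ≤ (S : Subgroup G) := Cfsg.Agent.Helper14.pCore_le_sylow p S
  induction n with
  | zero =>
    refine ⟨?_, ?_⟩
    · show (⊥ : Subgroup ↥(S : Subgroup G)).map _ ≤ _
      rw [Subgroup.map_bot]; exact bot_le
    · show (Cfsg.puigSeq ↥(Cfsg.pCore p G) 1).map (Cfsg.pCore p G).subtype ≤
        (Cfsg.puigSeq ↥(S : Subgroup G) 1).map (S : Subgroup G).subtype
      rw [map_puigSeq_one, map_puigSeq_one]
      exact hTS
  | succ n ih =>
    obtain ⟨ih1, ih2⟩ := ih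
    have hSs : ∀ m : ℕ, (Cfsg.puigSeq ↥(S : Subgroup G) (m + 1)).map (S : Subgroup G).subtype =
        LL (S : Subgroup G) ((Cfsg.puigSeq ↥(S : Subgroup G) m).map (S : Subgroup G).subtype) :=
      fun m => map_puigSeq_succ _ m
    have hTs : ∀ m : ℕ, (Cfsg.puigSeq ↥(Cfsg.pCore p G) (m + 1)).map (Cfsg.pCore p G).subtype =
        LL (Cfsg.pCore p G)
          ((Cfsg.puigSeq ↥(Cfsg.pCore p G) m).map (Cfsg.pCore p G).subtype) :=
      fun m => map_puigSeq_succ _ m
    have hA : (Cfsg.puigSeq ↥(S : Subgroup G) ((2 * n + 1) + 1)).map (S : Subgroup G).subtype ≤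
        (Cfsg.puigSeq ↥(Cfsg.pCore p G) ((2 * n + 1) + 1)).map (Cfsg.pCore p G).subtype := by
      rw [hSs, hTs]
      refine (LL_anti _ ih2).trans ?_
      rw [LL_eq_of_le hTS _ (LL_sylow_le_pCore hodd p hp hO S (2 * n + 1) (Nat.succ_pos _))]
    have hB : (Cfsg.puigSeq ↥(Cfsg.pCore p G) ((2 * n + 1 + 1) + 1)).map
          (Cfsg.pCore p G).subtype ≤
        (Cfsg.puigSeq ↥(S : Subgroup G) ((2 * n + 1 + 1) + 1)).map (S : Subgroup G).subtype := by
      rw [hSs (2 * n + 1 + 1), hTs (2 * n + 1 + 1)]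
      exact (LL_anti _ hA).trans (LL_mono hTS _)
    have e1 : 2 * (n + 1) = (2 * n + 1) + 1 := by ring
    have e2 : 2 * (n + 1) + 1 = (2 * n + 1 + 1) + 1 := by ring
    rw [e2, e1]
    exact ⟨hA, hB⟩

end Cfsg.Agent.Helper14.PuigAmb
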