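import Cfsg.Agent.Helper14.PuigAmb2

/-!
# Ambient Puig series: `L(Q) = L(R)` when `L(R) ≤ Q ≤ R`, invariance under the normalizer
-/

set_option autoImplicit false

namespace Cfsg.Agent.Helper14.PuigAmb

open Cfsg

variable {G : Type*} [Group G]

/-- the Puig series of `H`, viewed in the ambient group -/
def seqA (H : Subgroup G) (n : ℕ) : Subgroup G := (Cfsg.puigSeq ↥H n).map H.subtype

/-- `L(H)` viewed in the ambient group -/
def LA (H : Subgroup G) : Subgroup G := (Cfsg.puigSubgroup ↥H).map H.subtype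

/-- `L_*(H)` viewed in the ambient group -/
def LsA (H : Subgroup G) : Subgroup G := (Cfsg.puigLower ↥H).map H.subtype

theorem seqA_zero (H : Subgroup G) : seqA H 0 = ⊥ := by
  show (⊥ : Subgroup ↥H).map _ = ⊥
  rw [Subgroup.map_bot]

theorem seqA_one (H : Subgroup G) : seqA H 1 = H := map_puigSeq_one H

theorem seqA_succ (H : Subgroup G) (n : ℕ) : seqA H (n + 1) = LL H (seqA H n) :=
  map_puigSeq_succ H n

theorem seqA_le (H : Subgroup G) (n : ℕ) : seqA H n ≤ H := map_puigSeq_le H n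

theorem LA_le (H : Subgroup G) : LA H ≤ H := by
  rintro _ ⟨a, _, rfl⟩
  exact a.2

theorem LA_eq (H : Subgroup G) [Finite ↥H] : LA H = LL H (LsA H) := by
  have h := (Cfsg.Agent.S1467.result (G := ↥H)).2.2.2.2.2.1
  unfold LA LsA
  rw [← h, map_puigStep]

theorem LsA_eq (H : Subgroup G) [Finite ↥H] : LsA H = LL H (LA H) := by
  have h := (Cfsg.Agent.S1467.result (G := ↥H)).2.2.2.2.2.2
  unfold LA LsA
  rw [← h, map_puigStep]

theorem exists_stab (H : Subgroup G) [Finite ↥H] :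
    ∃ k : ℕ, ∀ n : ℕ, k ≤ n → seqA H (2 * n) = LsA H ∧ seqA H (2 * n + 1) = LA H := by
  obtain ⟨k, hk⟩ := (Cfsg.Agent.S1467.result (G := ↥H)).2.2.2.1
  refine ⟨k, fun n hn => ?_⟩
  obtain ⟨h1, h2⟩ := hk n hn
  unfold seqA LA LsA
  rw [h1, h2]
  exact ⟨rfl, rfl⟩

theorem LsA_le_LA (H : Subgroup G) [Finite ↥H] : LsA H ≤ LA H :=
  Subgroup.map_mono (Cfsg.Agent.S1467.result (G := ↥H)).2.2.2.2.1

theorem seqA_even_le (H : Subgroup G) (n : ℕ) : seqA H (2 * n) ≤ LsA H := by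
  apply Subgroup.map_mono
  unfold Cfsg.puigLower
  exact le_iSup (fun n => Cfsg.puigSeq ↥H (2 * n)) n

theorem LA_le_seqA_odd (H : Subgroup G) (n : ℕ) : LA H ≤ seqA H (2 * n + 1) := by
  apply Subgroup.map_mono
  unfold Cfsg.puigSubgroup
  exact iInf_le (fun n => Cfsg.puigSeq ↥H (2 * n + 1)) n

/-- B&G Lemma B.3(e), first half of the induction -/
theorem seqA_sub_ind1 {Q R : Subgroup G} [Finite ↥R] (hQR : Q ≤ R) (hL : LA R ≤ Q) (n : ℕ) :
    seqA Q (2 * n) ≤ LsA R ∧ LA R ≤ seqA Q (2 * n + 1) := by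
  induction n with
  | zero =>
    refine ⟨?_, ?_⟩
    · show seqA Q 0 ≤ _
      rw [seqA_zero]; exact bot_le
    · show _ ≤ seqA Q 1
      rw [seqA_one]; exact hL
  | succ n ih =>
    obtain ⟨ih1, ih2⟩ := ih
    have hA : seqA Q ((2 * n + 1) + 1) ≤ LsA R := by
      rw [seqA_succ Q (2 * n + 1), LsA_eq R]
      exact (LL_anti _ ih2).trans (LL_mono hQR _)
    have hB : LA R ≤ seqA Q ((2 * n + 1 + 1) + 1) := by
      rw [seqA_succ Q (2 * n + 1 + 1)]
      refine le_trans ?_ (LL_anti _ hA)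
      have h1 : LL R (LsA R) ≤ Q := by rw [← LA_eq R]; exact hL
      rw [← LL_eq_of_le hQR _ h1, ← LA_eq R]
    have e1 : 2 * (n + 1) = (2 * n + 1) + 1 := by ring
    have e2 : 2 * (n + 1) + 1 = (2 * n + 1 + 1) + 1 := by ring
    rw [e2, e1]
    exact ⟨hA, hB⟩

/-- B&G Lemma B.3(e), second half of the induction -/
theorem seqA_sub_ind2 {Q R : Subgroup G} [Finite ↥R] (hQR : Q ≤ R) (hL : LA R ≤ Q) (n : ℕ) :
    seqA R (2 * n) ≤ seqA Q (2 * n) ∧ seqA Q (2 * n + 1) ≤ seqA R (2 * n + 1) := by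
  induction n with
  | zero =>
    refine ⟨?_, ?_⟩
    · show seqA R 0 ≤ _
      rw [seqA_zero]; exact bot_le
    · show seqA Q 1 ≤ seqA R 1
      rw [seqA_one, seqA_one]; exact hQR
  | succ n ih =>
    obtain ⟨ih1, ih2⟩ := ih
    have e1 : 2 * (n + 1) = (2 * n + 1) + 1 := by ring
    have e2 : 2 * (n + 1) + 1 = (2 * n + 1 + 1) + 1 := by ring
    have hA : seqA R ((2 * n + 1) + 1) ≤ seqA Q ((2 * n + 1) + 1) := by
      have h0 : seqA R ((2 * n + 1) + 1) ≤ Q := by
        have := seqA_even_le R (n + 1)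
        rw [e1] at this
        exact this.trans ((LsA_le_LA R).trans hL)
      rw [seqA_succ R (2 * n + 1)] at h0
      rw [seqA_succ R (2 * n + 1), seqA_succ Q (2 * n + 1), LL_eq_of_le hQR _ h0]
      exact LL_anti _ ih2
    have hB : seqA Q ((2 * n + 1 + 1) + 1) ≤ seqA R ((2 * n + 1 + 1) + 1) := by
      rw [seqA_succ Q (2 * n + 1 + 1), seqA_succ R (2 * n + 1 + 1)]
      exact (LL_anti _ hA).trans (LL_mono hQR _)
    rw [e2, e1]
    exact ⟨hA, hB⟩

/-- B&G Lemma B.3(e): if `L(R) ≤ Q ≤ R` then `L(Q) = L(R)` and `L_*(Q) = L_*(R)` -/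
theorem LA_eq_of_le {Q R : Subgroup G} [Finite ↥R] (hQR : Q ≤ R) (hL : LA R ≤ Q) :
    LA Q = LA R ∧ LsA Q = LsA R := by
  have : Finite ↥Q := Finite.of_injective (Subgroup.inclusion hQR) (Subgroup.inclusion_injective hQR)
  obtain ⟨kQ, hkQ⟩ := exists_stab Q
  obtain ⟨kR, hkR⟩ := exists_stab R
  obtain ⟨a1, a2⟩ := seqA_sub_ind1 hQR hL (max kQ kR)
  obtain ⟨b1, b2⟩ := seqA_sub_ind2 hQR hL (max kQ kR)
  obtain ⟨q1, q2⟩ := hkQ (max kQ kR) (le_max_left _ _)
  obtain ⟨r1, r2⟩ := hkR (max kQ kR) (le_max_right _ _)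
  rw [q1] at a1 b1
  rw [q2] at a2 b2
  rw [r1] at b1
  rw [r2] at b2
  exact ⟨le_antisymm b2 a2, le_antisymm a1 b1⟩

/-- conjugation by an element of the normalizer, as an automorphism -/
def conjEquiv (H : Subgroup G) (g : G) (hg : g ∈ Subgroup.normalizer (H : Set G)) : ↥H ≃* ↥H where
  toFun x := ⟨g * x * g⁻¹, (Subgroup.mem_normalizer_iff.mp hg x).mp x.2⟩
  invFun x := ⟨g⁻¹ * x * g, by
    apply (Subgroup.mem_normalizer_iff.mp hg _).mpr
    have : g * (g⁻¹ * (x : G) * g) * g⁻¹ = x := by group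
    rw [this]; exact x.2⟩
  left_inv x := by
    apply Subtype.ext
    show g⁻¹ * (g * (x : G) * g⁻¹) * g = x
    group
  right_inv x := by
    apply Subtype.ext
    show g * (g⁻¹ * (x : G) * g) * g⁻¹ = x
    group
  map_mul' x y := by
    apply Subtype.ext
    show g * ((x : G) * (y : G)) * g⁻¹ = (g * (x : G) * g⁻¹) * (g * (y : G) * g⁻¹)
    group

theorem conj_seqA_eq (H : Subgroup G) (g : G) (hg : g ∈ Subgroup.normalizer (H : Set G)) (n : ℕ) :
    (seqA H n).map (MulAut.conj g).toMonoidHom = seqA H n := by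
  have h1 := puigSeq_map_equiv (conjEquiv H g hg) n
  unfold seqA
  conv_rhs => rw [← h1]
  rw [Subgroup.map_map, Subgroup.map_map]
  rfl

theorem normalizer_le_normalizer_seqA (H : Subgroup G) (n : ℕ) :
    Subgroup.normalizer (H : Set G) ≤ Subgroup.normalizer ((seqA H n : Subgroup G) : Set G) := by
  intro g hg
  have h1 := conj_seqA_eq H g hg n
  rw [Subgroup.mem_normalizer_iff]
  intro x
  constructor
  · intro hx
    rw [← h1]
    exact ⟨x, hx, rfl⟩
  · intro hx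
    rw [← h1] at hx
    obtain ⟨y, hy, hyx⟩ := hx
    have : y = x := by
      have h2 : g * y * g⁻¹ = g * x * g⁻¹ := hyx
      have h3 := mul_right_cancel h2
      exact mul_left_cancel h3
    rw [← this]; exact hy

theorem normalizer_le_normalizer_LA (H : Subgroup G) [Finite ↥H] :
    Subgroup.normalizer (H : Set G) ≤ Subgroup.normalizer ((LA H : Subgroup G) : Set G) := by
  obtain ⟨k, hk⟩ := exists_stab H
  rw [← (hk k le_rfl).2]
  exact normalizer_le_normalizer_seqA H _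

/-- `Z(K)` in ambient form -/
def ZA (K : Subgroup G) : Subgroup G := K ⊓ Subgroup.centralizer (K : Set G)

theorem normalizer_le_normalizer_ZA (K : Subgroup G) :
    Subgroup.normalizer (K : Set G) ≤ Subgroup.normalizer ((ZA K : Subgroup G) : Set G) := by
  intro g hg
  have hgi : g⁻¹ ∈ Subgroup.normalizer (K : Set G) := Subgroup.inv_mem _ hg
  have key : ∀ (h : G), h ∈ Subgroup.normalizer (K : Set G) → ∀ x ∈ ZA K, h * x * h⁻¹ ∈ ZA K := by
    intro h hh x hx
    refine ⟨(Subgroup.mem_normalizer_iff.mp hh x).mp hx.1, ?_⟩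
    show h * x * h⁻¹ ∈ Subgroup.centralizer (K : Set G)
    rw [Subgroup.mem_centralizer_iff]
    intro y hy
    have hy' : h⁻¹ * y * h ∈ K := by
      have := (Subgroup.mem_normalizer_iff.mp (Subgroup.inv_mem _ hh) y).mp hy
      rwa [inv_inv] at this
    have hc := (Subgroup.mem_centralizer_iff.mp hx.2) _ hy'
    calc y * (h * x * h⁻¹) = h * ((h⁻¹ * y * h) * x) * h⁻¹ := by group
      _ = h * (x * (h⁻¹ * y * h)) * h⁻¹ := by rw [hc]
      _ = h * x * h⁻¹ * y := by group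
  rw [Subgroup.mem_normalizer_iff]
  intro x
  constructor
  · exact key g hg x
  · intro hx
    have := key g⁻¹ hgi _ hx
    have e : g⁻¹ * (g * x * g⁻¹) * g⁻¹⁻¹ = x := by group
    rwa [e] at this

theorem isMulCommutative_ZA (K : Subgroup G) : IsMulCommutative ↥(ZA K) := by
  constructor
  constructor
  rintro ⟨a, ha⟩ ⟨b, hb⟩
  apply Subtype.ext
  show a * b = b * a
  exact (Subgroup.mem_centralizer_iff.mp hb.2) a ha.1

theorem center_map_map_eq (H : Subgroup G) (K : Subgroup ↥H) :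
    ((Subgroup.center ↥K).map K.subtype).map H.subtype = ZA (K.map H.subtype) := by
  ext x
  constructor
  · rintro ⟨_, ⟨z, hz, rfl⟩, rfl⟩
    refine ⟨⟨K.subtype z, z.2, rfl⟩, ?_⟩
    show H.subtype (K.subtype z) ∈ Subgroup.centralizer ((K.map H.subtype : Subgroup G) : Set G)
    rw [Subgroup.mem_centralizer_iff]
    rintro _ ⟨k, hk, rfl⟩
    have h1 := (Subgroup.mem_center_iff.mp hz) ⟨k, hk⟩
    have h2 : k * (z : ↥H) = (z : ↥H) * k := congrArg Subtype.val h1
    have h3 : ((k * (z : ↥H) : ↥H) : G) = ((z : ↥H) * k : ↥H) := congrArg Subtype.val h2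
    exact h3
  · rintro ⟨⟨k, hk, rfl⟩, hc⟩
    refine ⟨k, ⟨⟨k, hk⟩, ?_, rfl⟩, rfl⟩
    show (⟨k, hk⟩ : ↥K) ∈ Subgroup.center ↥K
    rw [Subgroup.mem_center_iff]
    rintro ⟨y, hy⟩
    apply Subtype.ext
    apply Subtype.ext
    have hy' : H.subtype y ∈ ((K.map H.subtype : Subgroup G) : Set G) := ⟨y, hy, rfl⟩
    exact (Subgroup.mem_centralizer_iff.mp hc) _ hy'

end Cfsg.Agent.Helper14.PuigAmb
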