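import Cfsg.Agent.Helper14.PuigAmb3
import Cfsg.Agent.Helper9.Frobenius
import Cfsg.Agent.Helper7.PPrimeCore

/-!
# `Z(L(S))` is normal in `G` when `O_{p'}(G) = 1` (B&G Theorem B.4(b))
-/

set_option autoImplicit false

namespace Cfsg.Agent.Helper14.PuigAmb

open Cfsg

variable {G : Type*} [Group G]

theorem ZA_LA_normal [Finite G] [Group.IsSolvable G] (hodd : Odd (Nat.card G)) (p : ℕ)
    [Fact p.Prime] (hp : p ≠ 2) (hO : Cfsg.pPrimeCore p G = ⊥) (S : Sylow p G) :
    (ZA (LA (S : Subgroup G))).Normal := by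
  classical
  set T := Cfsg.pCore p G with hTdef
  have hTn : T.Normal := Cfsg.Agent.Helper14.pCore_normal p
  have hTp : IsPGroup p ↥T := Cfsg.Agent.Helper14.pCore_isPGroup p
  have hTS : T ≤ (S : Subgroup G) := Cfsg.Agent.Helper14.pCore_le_sylow p S
  set LS := LA (S : Subgroup G) with hLS
  set LT := LA T with hLT
  -- Step 1: LT normal
  obtain ⟨kT, hkT⟩ := exists_stab T
  have hLTn : LT.Normal := by
    rw [hLT, ← (hkT kT le_rfl).2]
    exact map_puigSeq_normal T _
  -- Step 2,3: W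
  set W := T ⊓ Subgroup.centralizer (LT : Set G) with hW
  have hWn : W.Normal := inferInstance
  have hWLT : W ≤ LT := by
    rw [hW, hLT, ← (hkT kT le_rfl).2]
    exact inf_centralizer_map_puigSeq_le p T hTp (2 * kT + 1) (Nat.succ_pos _)
  have hWc : IsMulCommutative ↥W := by
    constructor; constructor
    rintro ⟨a, ha⟩ ⟨b, hb⟩
    apply Subtype.ext
    show a * b = b * a
    exact (Subgroup.mem_centralizer_iff.mp hb.2) a (hWLT ha)
  -- Step 4: LT ≤ LS
  have hLTLS : LT ≤ LS := by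
    obtain ⟨kS, hkS⟩ := exists_stab (S : Subgroup G)
    have h := (puig_induction hodd p hp hO S (max kS kT)).2
    have h' : seqA T (2 * max kS kT + 1) ≤ seqA (S : Subgroup G) (2 * max kS kT + 1) := h
    rw [(hkT _ (le_max_right _ _)).2, (hkS _ (le_max_left _ _)).2] at h'
    exact h'
  -- Step 5: Z ≤ T
  set Z := ZA LS with hZ
  have hLSS : LS ≤ (S : Subgroup G) := LA_le _
  have hSNLS : (S : Subgroup G) ≤ Subgroup.normalizer (LS : Set G) :=
    Subgroup.le_normalizer.trans (normalizer_le_normalizer_LA _)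
  have hSNZ : (S : Subgroup G) ≤ Subgroup.normalizer (Z : Set G) :=
    hSNLS.trans (normalizer_le_normalizer_ZA LS)
  have hZS : Z ≤ (S : Subgroup G) := inf_le_left.trans hLSS
  have hZT : Z ≤ T := by
    have h := (Cfsg.Agent.S1465.result hodd p hp T hTp {Z} ?_).2 hO inf_le_left
    · rwa [sSup_singleton] at h
    · rintro B rfl
      exact ⟨isMulCommutative_ZA LS, S.isPGroup'.to_le hZS, hTS.trans hSNZ⟩
  -- Step 6: Z ≤ W
  have hZW : Z ≤ W := by
    refine le_inf hZT ?_
    exact inf_le_right.trans (Subgroup.centralizer_le hLTLS)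
  -- Step 7: W ≤ LsA S
  have hWLs : W ≤ LsA (S : Subgroup G) := by
    rw [LsA_eq]
    unfold LL
    apply le_sSup
    refine ⟨inf_le_left.trans hTS, hWc, ?_⟩
    rw [Subgroup.normalizer_eq_top_iff.mpr hWn]
    exact le_top
  -- Step 8: C, U
  set C := Subgroup.centralizer (W : Set G) with hC
  have hCn : C.Normal := inferInstance
  set U := (Cfsg.pCore p (G ⧸ C)).comap (QuotientGroup.mk' C) with hU
  have hpcn : (Cfsg.pCore p (G ⧸ C)).Normal := Cfsg.Agent.Helper14.pCore_normal p
  have hUn : U.Normal := inferInstance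
  have hLSU : LS ≤ U := by
    have h := (Cfsg.Agent.S1465.result hodd p hp W (hTp.to_le inf_le_left)
      {A : Subgroup G | A ≤ (S : Subgroup G) ∧ IsMulCommutative A ∧
        LsA (S : Subgroup G) ≤ Subgroup.normalizer (A : Set G)} ?_).1
    · rw [← Subgroup.map_le_iff_le_comap]
      have e : LS = sSup {A : Subgroup G | A ≤ (S : Subgroup G) ∧ IsMulCommutative A ∧
          LsA (S : Subgroup G) ≤ Subgroup.normalizer (A : Set G)} := by
        rw [hLS, LA_eq]; rfl
      rw [e]; exact h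
    · rintro B ⟨hBS, hBc, hBn⟩
      exact ⟨hBc, S.isPGroup'.to_le hBS, hWLs.trans hBn⟩
  -- Step 10
  set S1 := (S : Subgroup G) ⊓ U with hS1
  have hLS1 : LA S1 = LS := (LA_eq_of_le inf_le_left (le_inf hLSS hLSU)).1
  -- Step 11
  have hCU : C ≤ U := by
    intro c hc
    show QuotientGroup.mk' C c ∈ Cfsg.pCore p (G ⧸ C)
    have : QuotientGroup.mk' C c = 1 := (QuotientGroup.eq_one_iff c).mpr hc
    rw [this]; exact Subgroup.one_mem _
  have hUdec : ∀ u ∈ U, ∃ s ∈ S1, ∃ c ∈ C, u = s * c := by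
    intro u hu
    have h1 : QuotientGroup.mk' C u ∈ Cfsg.pCore p (G ⧸ C) := hu
    have h2 := Cfsg.Agent.Helper14.pCore_le_sylow p
      (S.mapSurjective (QuotientGroup.mk'_surjective C)) h1
    rw [Sylow.coe_mapSurjective] at h2
    obtain ⟨s, hs, hsu⟩ := h2
    have h3 : s⁻¹ * u ∈ C := QuotientGroup.eq.mp hsu
    refine ⟨s, ⟨hs, ?_⟩, s⁻¹ * u, h3, by group⟩
    have : s = u * (s⁻¹ * u)⁻¹ := by group
    rw [this]; exact U.mul_mem hu (U.inv_mem (hCU h3))
  -- Step 12: Frattini
  obtain ⟨PK, hPK⟩ := Cfsg.Agent.Helper9.exists_sylow_of_normal S U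
  have hfr := Sylow.normalizer_sup_eq_top PK
  have hPKmap : (PK : Subgroup ↥U).map U.subtype = S1 := by
    rw [hPK, Subgroup.map_subgroupOf_eq_of_le inf_le_right]
  rw [hPKmap] at hfr
  -- Step 13
  rw [← Subgroup.normalizer_eq_top_iff]
  rw [eq_top_iff, ← hfr]
  apply sup_le
  · have := normalizer_le_normalizer_LA S1
    rw [hLS1] at this
    exact this.trans (normalizer_le_normalizer_ZA LS)
  · intro u hu
    obtain ⟨s, hs, c, hc, rfl⟩ := hUdec u hu
    apply Subgroup.mul_mem
    · exact hSNZ hs.1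
    · exact Subgroup.centralizer_le_normalizer _ (Subgroup.centralizer_le hZW hc)

end Cfsg.Agent.Helper14.PuigAmb
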