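import Cfsg.Agent.Helper14.PuigAmb4

/-!
# `G = O_{p'}(G) N_G(Z(L(S)))` (B&G Theorem B.4 / Puig)
-/

set_option autoImplicit false

namespace Cfsg.Agent.Helper14.PuigAmb

open Cfsg

variable {G : Type*} [Group G] {G' : Type*} [Group G']

theorem seqA_map (f : G →* G') (H : Subgroup G) (hinj : ∀ x ∈ H, f x = 1 → x = 1) (n : ℕ) :
    seqA (H.map f) n = (seqA H n).map f := by
  have hb : Function.Bijective (f.subgroupMap H) := by
    refine ⟨?_, f.subgroupMap_surjective H⟩
    rw [injective_iff_map_eq_one]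
    intro x hx
    apply Subtype.ext
    apply hinj x x.2
    exact congrArg Subtype.val hx
  have h1 := puigSeq_map_equiv (MulEquiv.ofBijective (f.subgroupMap H) hb) n
  unfold seqA
  rw [← h1, Subgroup.map_map, Subgroup.map_map]
  rfl

theorem LA_map [Finite G] [Finite G'] (f : G →* G') (H : Subgroup G)
    (hinj : ∀ x ∈ H, f x = 1 → x = 1) :
    LA (H.map f) = (LA H).map f := by
  obtain ⟨k1, hk1⟩ := exists_stab H
  obtain ⟨k2, hk2⟩ := exists_stab (H.map f)
  rw [← (hk1 _ (le_max_left k1 k2)).2, ← (hk2 _ (le_max_right k1 k2)).2]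
  exact seqA_map f H hinj _

theorem ZA_map (f : G →* G') (L : Subgroup G) (hinj : ∀ x ∈ L, f x = 1 → x = 1) :
    ZA (L.map f) = (ZA L).map f := by
  ext y
  constructor
  · rintro ⟨⟨x, hx, rfl⟩, hc⟩
    refine ⟨x, ⟨hx, ?_⟩, rfl⟩
    show x ∈ Subgroup.centralizer (L : Set G)
    rw [Subgroup.mem_centralizer_iff]
    intro z hz
    have h1 : f z * f x = f x * f z :=
      (Subgroup.mem_centralizer_iff.mp hc) (f z) ⟨z, hz, rfl⟩
    have h2 : f ((z * x) * (x * z)⁻¹) = 1 := by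
      rw [map_mul, map_inv, map_mul, map_mul, h1, mul_inv_cancel]
    have h3 := hinj _ (L.mul_mem (L.mul_mem hz hx) (L.inv_mem (L.mul_mem hx hz))) h2
    exact mul_inv_eq_one.mp h3
  · rintro ⟨x, ⟨hx, hc⟩, rfl⟩
    refine ⟨⟨x, hx, rfl⟩, ?_⟩
    show f x ∈ Subgroup.centralizer ((L.map f : Subgroup G') : Set G')
    rw [Subgroup.mem_centralizer_iff]
    rintro _ ⟨z, hz, rfl⟩
    rw [← map_mul, ← map_mul, (Subgroup.mem_centralizer_iff.mp hc) z hz]

theorem sup_normalizer_ZA_LA [Finite G] [Group.IsSolvable G] (hodd : Odd (Nat.card G)) (p : ℕ)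
    [Fact p.Prime] (hp : p ≠ 2) (S : Sylow p G) :
    Cfsg.pPrimeCore p G ⊔ Subgroup.normalizer ((ZA (LA (S : Subgroup G)) : Subgroup G) : Set G)
      = ⊤ := by
  classical
  set K := Cfsg.pPrimeCore p G with hK
  have hKn : K.Normal := inferInstance
  have hOq : Cfsg.pPrimeCore p (G ⧸ K) = ⊥ := Cfsg.Agent.Helper7.pPrimeCore_quotient_eq_bot p
  have hodd' : Odd (Nat.card (G ⧸ K)) :=
    Odd.of_dvd_nat hodd (Subgroup.card_quotient_dvd_card K)
  have hπs : Function.Surjective (QuotientGroup.mk' K) := QuotientGroup.mk'_surjective K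
  have hZbar := ZA_LA_normal (G := G ⧸ K) hodd' p hp hOq (S.mapSurjective hπs)
  rw [Sylow.coe_mapSurjective] at hZbar
  -- injectivity on S
  have hSK : (S : Subgroup G) ⊓ K = ⊥ := by
    apply Disjoint.eq_bot
    apply Subgroup.disjoint_of_coprime_natCard
    obtain ⟨n, hn⟩ := IsPGroup.iff_card.mp S.isPGroup'
    rw [hn]
    exact Nat.Coprime.pow_left n (Cfsg.Agent.Helper19.pPrimeCore_coprime p).symm
  have hinj : ∀ x ∈ (S : Subgroup G), QuotientGroup.mk' K x = 1 → x = 1 := by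
    intro x hx h1
    have hxK : x ∈ K := (QuotientGroup.eq_one_iff x).mp h1
    have : x ∈ (S : Subgroup G) ⊓ K := ⟨hx, hxK⟩
    rw [hSK] at this
    exact Subgroup.mem_bot.mp this
  have hLSS : LA (S : Subgroup G) ≤ (S : Subgroup G) := LA_le _
  rw [LA_map _ _ hinj, ZA_map _ _ (fun x hx => hinj x (hLSS hx))] at hZbar
  set Z := ZA (LA (S : Subgroup G)) with hZ
  have hZS : Z ≤ (S : Subgroup G) := inf_le_left.trans hLSS
  set M := (Z.map (QuotientGroup.mk' K)).comap (QuotientGroup.mk' K) with hM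
  have hMn : M.Normal := inferInstance
  have hSM : (S : Subgroup G) ⊓ M = Z := by
    apply le_antisymm
    · rintro x ⟨hxS, hxM⟩
      obtain ⟨z, hz, hzx⟩ := hxM
      have h1 : QuotientGroup.mk' K (z * x⁻¹) = 1 := by
        rw [map_mul, map_inv, hzx, mul_inv_cancel]
      have h2 := hinj _ ((S : Subgroup G).mul_mem (hZS hz) ((S : Subgroup G).inv_mem hxS)) h1
      have h3 : z = x := mul_inv_eq_one.mp h2
      rw [← h3]; exact hz
    · intro z hz
      exact ⟨hZS hz, ⟨z, hz, rfl⟩⟩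
  obtain ⟨PK, hPK⟩ := Cfsg.Agent.Helper9.exists_sylow_of_normal S M
  have hfr := Sylow.normalizer_sup_eq_top PK
  have hPKmap : (PK : Subgroup ↥M).map M.subtype = Z := by
    rw [hPK, Subgroup.map_subgroupOf_eq_of_le inf_le_right, hSM]
  rw [hPKmap] at hfr
  rw [eq_top_iff, ← hfr]
  apply sup_le le_sup_right
  intro m hm
  obtain ⟨z, hz, hzm⟩ := hm
  have h1 : z⁻¹ * m ∈ K := QuotientGroup.eq.mp hzm
  have h2 : m = z * (z⁻¹ * m) := by group
  rw [h2]
  apply Subgroup.mul_mem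
  · exact (le_sup_right : _ ≤ K ⊔ Subgroup.normalizer (Z : Set G)) (Subgroup.le_normalizer hz)
  · exact (le_sup_left : K ≤ K ⊔ _) h1

end Cfsg.Agent.Helper14.PuigAmb
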