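import Mathlib
import Cfsg.Prelude.Def_Characters
import Cfsg.Agent.Helper24.QP889Defs
import Cfsg.Agent.Helper24.CharBasic

/-!
S0889 piece COMM: if `|ρ(x)| = ρ(1)` then `ρ([x, m]) = ρ(1)`.
-/

set_option autoImplicit false

namespace Cfsg.Agent.QP889

open Cfsg
open scoped ComplexConjugate

universe u

theorem comm_mem_ker {Γ : Type u} [Group Γ] [Finite Γ] (ρ : Γ → ℂ) (hρ : IsIrrCharacter Γ ρ)
    (x m : Γ) (hx : ‖ρ x‖ = ‖ρ 1‖) : ρ (x * m * x⁻¹ * m⁻¹) = ρ 1 := by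
  obtain ⟨n, R, -, rfl⟩ := hρ
  have h1 : R.character 1 = (Module.finrank ℂ (Fin n → ℂ) : ℂ) := Representation.char_one R
  have hx' : ‖R.character x‖ = (Module.finrank ℂ (Fin n → ℂ) : ℝ) := by
    rw [hx, h1]
    simp
  obtain ⟨ω, hω⟩ := (Cfsg.Agent.Helper24.norm_char_eq_iff R x).1 hx'
  have hcomm : R (x * m) = R (m * x) := by
    rw [map_mul, map_mul, hω]
    ext v
    simp
  have key : R (x * m * x⁻¹ * m⁻¹) = R 1 := by
    have e1 : x * m * x⁻¹ * m⁻¹ = (x * m) * (x⁻¹ * m⁻¹) := by group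
    have e2 : (1 : Γ) = (m * x) * (x⁻¹ * m⁻¹) := by group
    rw [e1, map_mul, hcomm, ← map_mul, ← e2]
  show R.character (x * m * x⁻¹ * m⁻¹) = R.character 1
  unfold Representation.character
  rw [key]

end Cfsg.Agent.QP889
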