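import Mathlib
import Cfsg.Prelude.Def_Characters
import Cfsg.Agent.Helper24.QP889Defs

/-!
S0889 piece GRP: pure group theory (`le_of_centralizes`, `sup_comap_eq_top`, `relIndex_eq`).
-/

set_option autoImplicit false

namespace Cfsg.Agent.QP889

open Cfsg
open scoped ComplexConjugate

universe u

/-- Every element of `G = H M` (with `M` normal) is a product `m * h`. -/
theorem grp_exists_mul {G : Type u} [Group G] (H M : Subgroup G) [M.Normal]
    (hsup : H ⊔ M = ⊤) (g : G) : ∃ m ∈ M, ∃ h ∈ H, g = m * h := by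
  have hg : g ∈ ((M ⊔ H : Subgroup G) : Set G) := by
    rw [sup_comm, hsup]; trivial
  rw [Subgroup.normal_mul] at hg
  obtain ⟨m, hm, h, hh, rfl⟩ := hg
  exact ⟨m, hm, h, hh, rfl⟩

/-- Every element of `G = H M` (with `M` normal) is a product `h * m`. -/
theorem grp_exists_mul' {G : Type u} [Group G] (H M : Subgroup G) [M.Normal]
    (hsup : H ⊔ M = ⊤) (g : G) : ∃ h ∈ H, ∃ m ∈ M, g = h * m := by
  have hg : g ∈ ((H ⊔ M : Subgroup G) : Set G) := by
    rw [hsup]; trivial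
  rw [Subgroup.mul_normal] at hg
  obtain ⟨h, hh, m, hm, rfl⟩ := hg
  exact ⟨h, hh, m, hm, rfl⟩

theorem le_of_centralizes {G : Type u} [Group G] (H M N : Subgroup G) [M.Normal] [N.Normal]
    (hsup : H ⊔ M = ⊤) (hinf : H ⊓ M = H.normalCore) (hMN : M ≤ N)
    (hcent : ∀ k ∈ H ⊓ N, ∀ m ∈ M, k * m * k⁻¹ * m⁻¹ ∈ H.normalCore) : N ≤ M := by
  have hNn : N.Normal := inferInstance
  -- `H ⊓ N ≤ core(H)`
  have hcore : H ⊓ N ≤ H.normalCore := by
    intro k hk
    show ∀ b : G, b * k * b⁻¹ ∈ H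
    intro g
    obtain ⟨m, hm, h, hh, rfl⟩ := grp_exists_mul H M hsup g
    have hk' : h * k * h⁻¹ ∈ H ⊓ N :=
      ⟨H.mul_mem (H.mul_mem hh hk.1) (H.inv_mem hh), hNn.conj_mem k hk.2 h⟩
    have h1 := hcent _ hk' m hm
    have h2 : m * (h * k * h⁻¹) * m⁻¹ * (h * k * h⁻¹)⁻¹ ∈ H := by
      have := H.normalCore.inv_mem h1
      have e : ((h * k * h⁻¹) * m * (h * k * h⁻¹)⁻¹ * m⁻¹)⁻¹
          = m * (h * k * h⁻¹) * m⁻¹ * (h * k * h⁻¹)⁻¹ := by group
      rw [e] at this
      exact Subgroup.normalCore_le H this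
    have h3 := H.mul_mem h2 hk'.1
    have e : m * (h * k * h⁻¹) * m⁻¹ * (h * k * h⁻¹)⁻¹ * (h * k * h⁻¹)
        = m * h * k * (m * h)⁻¹ := by group
    rwa [e] at h3
  have hHN : H ⊓ N ≤ M := by
    intro k hk
    have := hcore hk
    rw [← hinf] at this
    exact this.2
  intro n hn
  obtain ⟨h, hh, m, hm, rfl⟩ := grp_exists_mul' H M hsup n
  have hhN : h ∈ N := by
    have := N.mul_mem hn (N.inv_mem (hMN hm))
    simpa using this
  exact M.mul_mem (hHN ⟨hh, hhN⟩) hm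

theorem sup_comap_eq_top {G Γ : Type u} [Group G] [Group Γ] (p : Γ →* G)
    (hp : Function.Surjective p) (H M : Subgroup G) (hsup : H ⊔ M = ⊤) (ι : M →* Γ)
    (hι : ∀ m : M, p (ι m) = m) : ι.range ⊔ H.comap p = ⊤ := by
  have hker : p.ker ≤ ι.range ⊔ H.comap p := by
    refine le_trans ?_ le_sup_right
    intro x hx
    rw [Subgroup.mem_comap, MonoidHom.mem_ker.1 hx]
    exact H.one_mem
  have hcomp : p.comp ι = M.subtype := by
    ext m
    simp [hι m]
  have hmap : (ι.range ⊔ H.comap p).map p = ⊤ := by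
    rw [Subgroup.map_sup, MonoidHom.map_range, hcomp, Subgroup.range_subtype,
      Subgroup.map_comap_eq_self_of_surjective hp, sup_comm, hsup]
  have := Subgroup.comap_map_eq_self hker
  rw [hmap, Subgroup.comap_top] at this
  exact this.symm

theorem relIndex_eq {G : Type u} [Group G] (H M N : Subgroup G) [M.Normal] [N.Normal]
    (hsup : H ⊔ M = ⊤) (hMN : M ≤ N) : (H ⊓ M).relIndex (H ⊓ N) = M.relIndex N := by
  have h1 : H ⊓ M = M ⊓ (H ⊓ N) := by
    apply le_antisymm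
    · intro x hx
      exact ⟨hx.2, hx.1, hMN hx.2⟩
    · intro x hx
      exact ⟨hx.2.1, hx.1⟩
  have h2 : (H ⊓ N) ⊔ M = N := by
    apply le_antisymm
    · exact sup_le inf_le_right hMN
    · intro n hn
      obtain ⟨h, hh, m, hm, rfl⟩ := grp_exists_mul' H M hsup n
      have hhN : h ∈ N := by
        have := N.mul_mem hn (N.inv_mem (hMN hm))
        simpa using this
      exact Subgroup.mul_mem_sup (show h ∈ H ⊓ N from ⟨hh, hhN⟩) hm
  rw [h1, Subgroup.inf_relIndex_right, ← Subgroup.relIndex_sup_right (H ⊓ N) M, h2]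

end Cfsg.Agent.QP889
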