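import Cfsg.Agent.Helper14.QdTwo

/-!
# `Qd(p)` is generated by elements of order `p`; affine action on `p²` points
-/

set_option autoImplicit false
set_option linter.unusedSectionVars false

namespace Cfsg.Agent.Helper14.QdAlt

open Matrix Equiv

variable {F : Type*} [Field F]

/-- transvections in `SL₃` -/
def tv (i j : Fin 3) (h : i ≠ j) (c : F) : SpecialLinearGroup (Fin 3) F :=
  ⟨Matrix.transvection i j c, Matrix.det_transvection_of_ne i j h c⟩

theorem tv_coe (i j : Fin 3) (h : i ≠ j) (c : F) :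
    ((tv i j h c : SpecialLinearGroup (Fin 3) F) : Matrix (Fin 3) (Fin 3) F) =
      Matrix.transvection i j c := rfl

theorem tv_mul_tv (i j : Fin 3) (h : i ≠ j) (c d : F) : tv i j h c * tv i j h d = tv i j h (c + d) := by
  apply Subtype.ext
  show Matrix.transvection i j c * Matrix.transvection i j d = Matrix.transvection i j (c + d)
  exact Matrix.transvection_mul_transvection_same i j h c d

theorem tv_zero (i j : Fin 3) (h : i ≠ j) : tv i j h (0 : F) = 1 := by
  apply Subtype.ext
  show Matrix.transvection i j (0 : F) = 1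
  exact Matrix.transvection_zero i j

theorem tv_pow (i j : Fin 3) (h : i ≠ j) (c : F) (k : ℕ) : (tv i j h c) ^ k = tv i j h (k • c) := by
  induction k with
  | zero => rw [pow_zero, zero_smul, tv_zero]
  | succ k ih => rw [pow_succ, ih, tv_mul_tv, succ_nsmul]

theorem tv_pow_char (p : ℕ) [CharP F p] (i j : Fin 3) (h : i ≠ j) (c : F) :
    (tv i j h c) ^ p = 1 := by
  rw [tv_pow, nsmul_eq_mul, CharP.cast_eq_zero, zero_mul, tv_zero]

theorem tv_inv (i j : Fin 3) (h : i ≠ j) (c : F) : (tv i j h c)⁻¹ = tv i j h (-c) := by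
  rw [inv_eq_iff_mul_eq_one, tv_mul_tv, add_neg_cancel, tv_zero]

theorem tv_mem_affSub (i j : Fin 3) (h : i ≠ j) (hi : i ≠ 2) (c : F) :
    tv i j h c ∈ Helper17.affSub F := by
  rw [Helper17.mem_affSub, tv_coe]
  have h2 : (2 : Fin 3) ≠ i := fun h' => hi h'.symm
  have e : ∀ b, Matrix.transvection i j c 2 b = (1 : Matrix (Fin 3) (Fin 3) F) 2 b := by
    intro b
    have := Matrix.transvection_mul_apply_of_ne i j 2 b h2 c
      (1 : Matrix (Fin 3) (Fin 3) F)
    rwa [mul_one] at this
  rw [e, e, e]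
  simp

/-- the generating set -/
def gens (F : Type*) [Field F] : Set (SpecialLinearGroup (Fin 3) F) :=
  {M | ∃ (i j : Fin 3) (h : i ≠ j) (_ : i ≠ 2) (c : F), M = tv i j h c}

theorem tv_mem_closure (i j : Fin 3) (h : i ≠ j) (hi : i ≠ 2) (c : F) :
    tv i j h c ∈ Subgroup.closure (gens F) :=
  Subgroup.subset_closure ⟨i, j, h, hi, c, rfl⟩

theorem mem_closure_of_tv_mul (i j : Fin 3) (h : i ≠ j) (hi : i ≠ 2) (c : F)
    {M : SpecialLinearGroup (Fin 3) F} (hM : tv i j h c * M ∈ Subgroup.closure (gens F)) :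
    M ∈ Subgroup.closure (gens F) := by
  have : M = (tv i j h c)⁻¹ * (tv i j h c * M) := by group
  rw [this]
  exact Subgroup.mul_mem _ (Subgroup.inv_mem _ (tv_mem_closure i j h hi c)) hM

theorem tv_mul_apply_same (i j : Fin 3) (h : i ≠ j) (c : F) (M : SpecialLinearGroup (Fin 3) F)
    (b : Fin 3) : ((tv i j h c * M : SpecialLinearGroup (Fin 3) F) :
      Matrix (Fin 3) (Fin 3) F) i b = M i b + c * M j b := by
  show (Matrix.transvection i j c * (M : Matrix (Fin 3) (Fin 3) F)) i b = _
  rw [Matrix.transvection_mul_apply_same]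

theorem tv_mul_apply_of_ne (i j : Fin 3) (h : i ≠ j) (c : F) (M : SpecialLinearGroup (Fin 3) F)
    (a b : Fin 3) (ha : a ≠ i) : ((tv i j h c * M : SpecialLinearGroup (Fin 3) F) :
      Matrix (Fin 3) (Fin 3) F) a b = M a b := by
  show (Matrix.transvection i j c * (M : Matrix (Fin 3) (Fin 3) F)) a b = _
  rw [Matrix.transvection_mul_apply_of_ne i j a b ha]

end Cfsg.Agent.Helper14.QdAlt
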