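import Cfsg.Agent.Helper14.QdAlt1

/-!
# `affSub F` is generated by transvections
-/

set_option autoImplicit false
set_option linter.unusedSectionVars false

namespace Cfsg.Agent.Helper14.QdAlt

open Matrix Equiv

variable {F : Type*} [Field F]

theorem tv_mul_apply (i j : Fin 3) (h : i ≠ j) (c : F) (M : SpecialLinearGroup (Fin 3) F)
    (a b : Fin 3) : ((tv i j h c * M : SpecialLinearGroup (Fin 3) F) :
      Matrix (Fin 3) (Fin 3) F) a b = if a = i then M a b + c * M j b else M a b := by
  split_ifs with hai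
  · subst hai; exact tv_mul_apply_same a j h c M b
  · exact tv_mul_apply_of_ne i j h c M a b hai

theorem affSub_det {M : SpecialLinearGroup (Fin 3) F} (hM : M ∈ Helper17.affSub F) :
    M 0 0 * M 1 1 - M 0 1 * M 1 0 = 1 := by
  rw [Helper17.mem_affSub] at hM
  obtain ⟨h0, h1, h2⟩ := hM
  have hdet := M.2
  rw [Matrix.det_fin_three] at hdet
  have h0' : M 2 0 = 0 := h0
  have h1' : M 2 1 = 0 := h1
  have h2' : M 2 2 = 1 := h2
  have e : ∀ i j, (M : Matrix (Fin 3) (Fin 3) F) i j = M i j := fun _ _ => rfl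
  simp only [e, h0', h1', h2'] at hdet
  linear_combination hdet

theorem mem_closure_of_col {M : SpecialLinearGroup (Fin 3) F} (hM : M ∈ Helper17.affSub F)
    (h00 : M 0 0 = 1) (h10 : M 1 0 = 0) : M ∈ Subgroup.closure (gens F) := by
  have hdet := affSub_det hM
  rw [h00, h10, mul_zero, sub_zero, one_mul] at hdet
  rw [Helper17.mem_affSub] at hM
  obtain ⟨h20, h21, h22⟩ := hM
  have h20' : M 2 0 = 0 := h20
  have h21' : M 2 1 = 0 := h21
  have h22' : M 2 2 = 1 := h22
  apply mem_closure_of_tv_mul 0 1 (by decide) (by decide) (-(M 0 1))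
  apply mem_closure_of_tv_mul 0 2 (by decide) (by decide) (-(M 0 2 - M 0 1 * M 1 2))
  apply mem_closure_of_tv_mul 1 2 (by decide) (by decide) (-(M 1 2))
  have : tv 1 2 (by decide) (-(M 1 2)) * (tv 0 2 (by decide) (-(M 0 2 - M 0 1 * M 1 2)) *
      (tv 0 1 (by decide) (-(M 0 1)) * M)) = 1 := by
    apply Subtype.ext
    ext a b
    rw [tv_mul_apply, tv_mul_apply, tv_mul_apply, tv_mul_apply, tv_mul_apply, tv_mul_apply]
    fin_cases a <;> fin_cases b <;>
      simp [h00, h10, hdet, h20', h21', h22'] <;> ring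
  rw [this]
  exact Subgroup.one_mem _

theorem mem_closure_of_ne {M : SpecialLinearGroup (Fin 3) F} (hM : M ∈ Helper17.affSub F)
    (h10 : M 1 0 ≠ 0) : M ∈ Subgroup.closure (gens F) := by
  apply mem_closure_of_tv_mul 0 1 (by decide) (by decide) ((1 - M 0 0) / M 1 0)
  apply mem_closure_of_tv_mul 1 0 (by decide) (by decide) (-(M 1 0))
  apply mem_closure_of_col
  · exact Subgroup.mul_mem _ (tv_mem_affSub _ _ _ (by decide) _)
      (Subgroup.mul_mem _ (tv_mem_affSub _ _ _ (by decide) _) hM)
  · rw [tv_mul_apply, tv_mul_apply]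
    simp
    field_simp
    ring
  · rw [tv_mul_apply, tv_mul_apply, tv_mul_apply]
    simp
    field_simp
    ring

theorem affSub_le_closure : Helper17.affSub F ≤ Subgroup.closure (gens F) := by
  intro M hM
  by_cases h10 : M 1 0 = 0
  · have hdet := affSub_det hM
    rw [h10, mul_zero, sub_zero] at hdet
    have h00 : M 0 0 ≠ 0 := by
      intro h; rw [h, zero_mul] at hdet; exact zero_ne_one hdet
    apply mem_closure_of_tv_mul 1 0 (by decide) (by decide) 1
    apply mem_closure_of_ne
    · exact Subgroup.mul_mem _ (tv_mem_affSub _ _ _ (by decide) _) hM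
    · rw [tv_mul_apply]
      simp [h10, h00]
  · exact mem_closure_of_ne hM h10

theorem closure_gens_eq : Subgroup.closure (gens F) = Helper17.affSub F := by
  apply le_antisymm
  · rw [Subgroup.closure_le]
    rintro _ ⟨i, j, h, hi, c, rfl⟩
    exact tv_mem_affSub i j h hi c
  · exact affSub_le_closure

end Cfsg.Agent.Helper14.QdAlt
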