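import Cfsg.Agent.Helper14.SylSn6

/-!
# Derived length of Sylow subgroups of `S_n`
-/

set_option autoImplicit false
set_option linter.unusedSectionVars false

namespace Cfsg.Agent.Helper14.SylSn

open Equiv
open scoped Pointwise

variable (p : ℕ) [Fact p.Prime]

theorem exists_pgroup_dS (k : ℕ) : ∃ (Ω : Type) (_ : Fintype Ω) (_ : DecidableEq Ω)
    (T : Subgroup (Perm Ω)), Fintype.card Ω = p ^ k ∧ IsPGroup p T ∧
      (1 ≤ k → dS T (k - 1) ≠ ⊥) := by
  induction k with
  | zero =>
    refine ⟨Unit, inferInstance, inferInstance, ⊥, by simp, IsPGroup.of_bot, ?_⟩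
    intro h; omega
  | succ k ih =>
    obtain ⟨Ω, hF, hD, T, hcard, hT, hdS⟩ := ih
    refine ⟨ZMod p × Ω, inferInstance, inferInstance, wrTop p T, ?_, isPGroup_wrTop p hT, ?_⟩
    · rw [Fintype.card_prod, ZMod.card, hcard, pow_succ']
    · intro _
      rcases Nat.eq_zero_or_pos k with hk | hk
      · subst hk
        show dS (wrTop p T) 0 ≠ ⊥
        rw [dS_zero]
        intro hbot
        have hs : shift p (Ω := Ω) ∈ (⊥ : Subgroup (Perm (ZMod p × Ω))) := by
          rw [← hbot]; exact shift_mem_wrTop p T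
        rw [Subgroup.mem_bot] at hs
        have hne : Nonempty Ω := by
          rw [← Fintype.card_pos_iff, hcard]; positivity
        obtain ⟨ω⟩ := hne
        have := congrArg (fun g : Perm (ZMod p × Ω) => (g (0, ω)).1) hs
        simp only [shift_apply, Perm.one_apply, zero_add] at this
        exact one_ne_zero this
      · have h1 := hdS hk
        have h2 := dS_wrTop_ne_bot p h1
        have e : k - 1 + 1 = k + 1 - 1 := by omega
        rw [e] at h2
        exact h2

theorem sylow_perm_dS_ne_bot (n : ℕ) (P : Sylow p (Perm (Fin n))) (hk : 1 ≤ Nat.log p n) :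
    dS (P : Subgroup (Perm (Fin n))) (Nat.log p n - 1) ≠ ⊥ := by
  have hn : n ≠ 0 := by
    rintro rfl
    simp at hk
  obtain ⟨Ω, hF, hD, T, hcard, hT, hdS⟩ := exists_pgroup_dS p (Nat.log p n)
  have hle : p ^ Nat.log p n ≤ n := Nat.pow_log_le_self p hn
  have hc : Fintype.card (Ω ⊕ Fin (n - p ^ Nat.log p n)) = Fintype.card (Fin n) := by
    rw [Fintype.card_sum, hcard, Fintype.card_fin, Fintype.card_fin]
    omega
  let e : Ω ⊕ Fin (n - p ^ Nat.log p n) ≃ Fin n := Fintype.equivOfCardEq hc
  have hT1 : IsPGroup p (T.map (jj e)) := hT.map _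
  obtain ⟨P', hP'⟩ := hT1.exists_le_sylow
  have h1 : dS (P' : Subgroup (Perm (Fin n))) (Nat.log p n - 1) ≠ ⊥ := by
    intro hbot
    have h2 := dS_bot_of_le hP' hbot
    rw [dS_map_eq_bot_iff _ (jj_injective e)] at h2
    exact hdS hk h2
  obtain ⟨g, hg⟩ := MulAction.exists_smul_eq (Perm (Fin n)) P' P
  have : (P : Subgroup (Perm (Fin n))) = (P' : Subgroup (Perm (Fin n))).map
      (MulAut.conj g).toMonoidHom := by
    rw [← hg]
    rfl
  rw [this, Ne, dS_map_eq_bot_iff _ (MulAut.conj g).injective]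
  exact h1

end Cfsg.Agent.Helper14.SylSn
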