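import Cfsg.Agent.Helper14.QdAlt2
import Cfsg.Agent.Helper14.SylSn7
import Cfsg.Agent.Helper11.AbelianPSubgroups
import Cfsg.Agent.S3074

/-!
# `Qd(p)` inside alternating groups
-/

set_option autoImplicit false
set_option linter.unusedSectionVars false

namespace Cfsg.Agent.Helper14.QdAlt

open Matrix Equiv

variable (p : ℕ) [Fact p.Prime]

/-- the points of the affine plane over `𝔽_p` -/
abbrev AffPt : Type := {v : Fin 3 → ZMod p // v 2 = 1}

theorem affPt_mulVec_mem (M : Helper17.affSub (ZMod p)) (v : AffPt p) :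
    ((M.1 : Matrix (Fin 3) (Fin 3) (ZMod p)) *ᵥ v.1) 2 = 1 := by
  have h := M.2
  rw [Helper17.mem_affSub] at h
  simp [Matrix.mulVec, dotProduct, Fin.sum_univ_three, h.1, h.2.1, h.2.2, v.2]

instance affPtMulAction : MulAction (Helper17.affSub (ZMod p)) (AffPt p) where
  smul M v := ⟨(M.1 : Matrix (Fin 3) (Fin 3) (ZMod p)) *ᵥ v.1, affPt_mulVec_mem p M v⟩
  one_smul v := Subtype.ext (by
    show ((1 : Helper17.affSub (ZMod p)).1 : Matrix (Fin 3) (Fin 3) (ZMod p)) *ᵥ v.1 = v.1
    simp)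
  mul_smul M N v := Subtype.ext (by
    show ((M * N).1 : Matrix (Fin 3) (Fin 3) (ZMod p)) *ᵥ v.1 =
      (M.1 : Matrix (Fin 3) (Fin 3) (ZMod p)) *ᵥ ((N.1 : Matrix (Fin 3) (Fin 3) (ZMod p)) *ᵥ v.1)
    rw [Matrix.mulVec_mulVec]
    rfl)

theorem affPt_smul_val (M : Helper17.affSub (ZMod p)) (v : AffPt p) :
    (M • v).1 = (M.1 : Matrix (Fin 3) (Fin 3) (ZMod p)) *ᵥ v.1 := rfl

/-- the affine plane has `p²` points -/
def affPtEquiv : AffPt p ≃ ZMod p × ZMod p where
  toFun v := (v.1 0, v.1 1)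
  invFun x := ⟨![x.1, x.2, 1], rfl⟩
  left_inv v := by
    apply Subtype.ext
    funext i
    fin_cases i
    · rfl
    · rfl
    · exact v.2.symm
  right_inv x := rfl

theorem card_affPt : Fintype.card (AffPt p) = p ^ 2 := by
  rw [Fintype.card_congr (affPtEquiv p), Fintype.card_prod, ZMod.card, sq]

theorem toPermHom_injective :
    Function.Injective (MulAction.toPermHom (Helper17.affSub (ZMod p)) (AffPt p)) := by
  rw [injective_iff_map_eq_one]
  intro M hM
  have hfix : ∀ v : AffPt p, M • v = v := by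
    intro v
    have := congrArg (fun σ : Perm (AffPt p) => σ v) hM
    exact this
  have hmem := M.2
  rw [Helper17.mem_affSub] at hmem
  obtain ⟨h20, h21, h22⟩ := hmem
  have e0 := congrArg Subtype.val (hfix ⟨![0, 0, 1], rfl⟩)
  have e1 := congrArg Subtype.val (hfix ⟨![1, 0, 1], rfl⟩)
  have e2 := congrArg Subtype.val (hfix ⟨![0, 1, 1], rfl⟩)
  rw [affPt_smul_val] at e0 e1 e2
  have e00 := congrFun e0 0
  have e01 := congrFun e0 1
  have e10 := congrFun e1 0
  have e11 := congrFun e1 1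
  have e20 := congrFun e2 0
  have e21 := congrFun e2 1
  simp [Matrix.mulVec, dotProduct, Fin.sum_univ_three] at e00 e01 e10 e11 e20 e21
  apply Subtype.ext
  apply Subtype.ext
  ext a b
  fin_cases a <;> fin_cases b
  · show M.1 0 0 = 1
    rw [e00, add_zero] at e10; exact e10
  · show M.1 0 1 = 0
    rw [e00, add_zero] at e20; exact e20
  · exact e00
  · show M.1 1 0 = 0
    rw [e01, add_zero] at e11; exact e11
  · show M.1 1 1 = 1
    rw [e01, add_zero] at e21; exact e21
  · exact e01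
  · exact h20
  · exact h21
  · exact h22

/-- every homomorphism from `affSub (ZMod p)` to `ℤˣ` is trivial, `p` odd -/
theorem hom_units_eq_one (hp : p ≠ 2) (σ : Helper17.affSub (ZMod p) →* ℤˣ)
    (M : Helper17.affSub (ZMod p)) : σ M = 1 := by
  have hodd : Odd p := (Fact.out : p.Prime).odd_of_ne_two hp
  have hker : Helper17.affSub (ZMod p) ≤ σ.ker.map (Helper17.affSub (ZMod p)).subtype := by
    refine le_trans (closure_gens_eq (F := ZMod p)).ge ?_
    rw [Subgroup.closure_le]
    rintro _ ⟨i, j, h, hi, c, rfl⟩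
    refine ⟨⟨tv i j h c, tv_mem_affSub i j h hi c⟩, ?_, rfl⟩
    show σ ⟨tv i j h c, tv_mem_affSub i j h hi c⟩ = 1
    have h1 : (⟨tv i j h c, tv_mem_affSub i j h hi c⟩ : Helper17.affSub (ZMod p)) ^ p = 1 := by
      apply Subtype.ext
      show (tv i j h c) ^ p = 1
      exact tv_pow_char p i j h c
    have h2 : σ ⟨tv i j h c, tv_mem_affSub i j h hi c⟩ ^ p = 1 := by
      rw [← map_pow, h1, map_one]
    rcases Int.units_eq_one_or (σ ⟨tv i j h c, tv_mem_affSub i j h hi c⟩) with h3 | h3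
    · exact h3
    · rw [h3, hodd.neg_one_pow] at h2
      exact absurd h2 (by decide)
  obtain ⟨w, hw, hwM⟩ := hker M.2
  have : w = M := Subtype.ext hwM
  rw [← this]
  exact hw

end Cfsg.Agent.Helper14.QdAlt
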