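import Cfsg.Agent.Helper14.QdAlt3

/-!
# `Qd(p)` inside alternating groups: embedding for `n ≥ p²`, non-involvement for `n < p²`
-/

set_option autoImplicit false
set_option linter.unusedSectionVars false

namespace Cfsg.Agent.Helper14.QdAlt

open Matrix Equiv Cfsg.Agent.Helper14.SylSn
open scoped commutatorElement

variable (p : ℕ) [Fact p.Prime]

theorem exists_qd_in_alt (hp : p ≠ 2) (n : ℕ) (hn : p ^ 2 ≤ n) :
    ∃ H : Subgroup (alternatingGroup (Fin n)), Nonempty (↥H ≃* ↥(Cfsg.qd p)) := by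
  have hc : Fintype.card (AffPt p ⊕ Fin (n - p ^ 2)) = Fintype.card (Fin n) := by
    rw [Fintype.card_sum, card_affPt, Fintype.card_fin, Fintype.card_fin]
    omega
  let e : AffPt p ⊕ Fin (n - p ^ 2) ≃ Fin n := Fintype.equivOfCardEq hc
  let f0 : ↥(Helper17.affSub (ZMod p)) →* Perm (Fin n) :=
    (jj e).comp (MulAction.toPermHom (Helper17.affSub (ZMod p)) (AffPt p))
  have hf0 : Function.Injective f0 := by
    show Function.Injective ⇑((jj e).comp (MulAction.toPermHom (Helper17.affSub (ZMod p)) (AffPt p)))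
    rw [MonoidHom.coe_comp]
    exact (jj_injective e).comp (toPermHom_injective p)
  have hmem : ∀ M, f0 M ∈ alternatingGroup (Fin n) := by
    intro M
    rw [Perm.mem_alternatingGroup]
    exact hom_units_eq_one p hp (Perm.sign.comp f0) M
  let f : ↥(Helper17.affSub (ZMod p)) →* ↥(alternatingGroup (Fin n)) :=
    f0.codRestrict (alternatingGroup (Fin n)) hmem
  have hf : Function.Injective f := by
    intro a b hab
    apply hf0
    exact congrArg Subtype.val hab
  let e1 : ↥(Helper17.affSub (ZMod p)) ≃* f.range := MonoidHom.ofInjective hf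
  let e2 : ↥(Cfsg.qd p) ≃* ↥(Helper17.affSub (ZMod p)) :=
    MulEquiv.subgroupCongr (qd_eq_affSub p)
  exact ⟨f.range, ⟨(e2.trans e1).symm⟩⟩

theorem dS_succ_le {G : Type*} [Group G] (H : Subgroup G) (j : ℕ) : dS H (j + 1) ≤ dS H j := by
  rw [dS_succ]
  exact Subgroup.commutator_le_self _

theorem dS_anti {G : Type*} [Group G] (H : Subgroup G) {i j : ℕ} (h : i ≤ j) : dS H j ≤ dS H i := by
  induction h with
  | refl => exact le_rfl
  | step _ ih => exact (dS_succ_le H _).trans ih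

theorem abP_alt (n : ℕ) (hn : n < p ^ 2) :
    Cfsg.Agent.Helper11.AbP p (alternatingGroup (Fin n)) := by
  intro S hS a ha b hb
  have h1 : IsPGroup p (S.map (alternatingGroup (Fin n)).subtype) := hS.map _
  obtain ⟨P, hP⟩ := h1.exists_le_sylow
  have hlog : Nat.log p n ≤ 1 := by
    rcases Nat.eq_zero_or_pos n with h0 | h0
    · subst h0; simp
    · have := Nat.log_lt_of_lt_pow h0.ne' hn
      omega
  have hd : dS (P : Subgroup (Perm (Fin n))) 1 = ⊥ :=
    le_bot_iff.mp ((dS_anti _ hlog).trans (sylow_perm_dS_eq_bot p n P).le)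
  have ha' : (a : Perm (Fin n)) ∈ (P : Subgroup (Perm (Fin n))) := hP ⟨a, ha, rfl⟩
  have hb' : (b : Perm (Fin n)) ∈ (P : Subgroup (Perm (Fin n))) := hP ⟨b, hb, rfl⟩
  have hc : ⁅(a : Perm (Fin n)), (b : Perm (Fin n))⁆ ∈ dS (P : Subgroup (Perm (Fin n))) 1 :=
    Subgroup.commutator_mem_commutator ha' hb'
  rw [hd, Subgroup.mem_bot, commutatorElement_eq_one_iff_mul_comm] at hc
  exact Subtype.ext hc

theorem not_abP_qd (hp : p ≠ 2) : ¬ Cfsg.Agent.Helper11.AbP p ↥(Cfsg.qd p) := by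
  intro h
  let P : Sylow p ↥(Cfsg.qd p) := default
  obtain ⟨hex0, -, -⟩ := Cfsg.Agent.S3074.result p hp P
  have hex : Cfsg.IsExtraspecial p ↥(P : Subgroup ↥(Cfsg.qd p)) := hex0
  have hcomm : commutator ↥(P : Subgroup ↥(Cfsg.qd p)) = ⊥ := by
    rw [commutator_def, Subgroup.commutator_eq_bot_iff_le_centralizer]
    intro x _
    rw [Subgroup.mem_centralizer_iff]
    intro y _
    have := h P P.2 (y : ↥(Cfsg.qd p)) y.2 (x : ↥(Cfsg.qd p)) x.2
    exact Subtype.ext this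
  have h1 : Nat.card (Subgroup.center ↥(P : Subgroup ↥(Cfsg.qd p))) = 1 := by
    rw [← hex.1.2.2, hcomm]
    exact Subgroup.card_bot
  rw [hex.2] at h1
  exact (Fact.out : p.Prime).one_lt.ne' h1

theorem qd_alt_main {p : ℕ} [Fact p.Prime] (hp : p ≠ 2) (n : ℕ) :
    ((∃ H : Subgroup (alternatingGroup (Fin n)), Nonempty (↥H ≃* ↥(Cfsg.qd p))) ↔ p ^ 2 ≤ n) ∧
      (n < p ^ 2 → ¬ Cfsg.Involves ↥(Cfsg.qd p) ↥(alternatingGroup (Fin n))) := by
  refine ⟨⟨?_, exists_qd_in_alt p hp n⟩, ?_⟩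
  · rintro ⟨H, ⟨e⟩⟩
    by_contra hlt
    push Not at hlt
    exact not_abP_qd p hp (((abP_alt p n hlt).subgroup H).of_mulEquiv e)
  · rintro hlt ⟨K, R, hnorm, ⟨e⟩⟩
    have := hnorm
    exact not_abP_qd p hp (((abP_alt p n hlt).section K R).of_mulEquiv e)

end Cfsg.Agent.Helper14.QdAlt
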