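import Mathlib
import Cfsg.Prelude.Def_LocalEven
import Cfsg.Agent.Helper17.AffSLFam
import Cfsg.Agent.Helper14.SL2Nat
import Cfsg.Agent.Helper14.PCore

set_option autoImplicit false
set_option linter.unusedSectionVars false

namespace Cfsg.Agent.Helper14

open Matrix Cfsg

section QdOver

variable {F : Type*} [Field F]

/-- the underlying matrix of an element of the affine group -/
def affMat3 (M : Helper17.affSub F) : Matrix (Fin 3) (Fin 3) F :=
  ((M : SpecialLinearGroup (Fin 3) F) : Matrix (Fin 3) (Fin 3) F)

theorem affMat3_mul (M N : Helper17.affSub F) : affMat3 (M * N) = affMat3 M * affMat3 N := rfl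

theorem affMat3_one : affMat3 (1 : Helper17.affSub F) = 1 := rfl

theorem affMat3_20 (M : Helper17.affSub F) : affMat3 M 2 0 = 0 := M.2.1
theorem affMat3_21 (M : Helper17.affSub F) : affMat3 M 2 1 = 0 := M.2.2.1
theorem affMat3_22 (M : Helper17.affSub F) : affMat3 M 2 2 = 1 := M.2.2.2

theorem affMat3_injective : Function.Injective (affMat3 (F := F)) := by
  intro M N h
  exact Subtype.ext (Subtype.ext h)

theorem affMat3_det (M : Helper17.affSub F) :
    affMat3 M 0 0 * affMat3 M 1 1 - affMat3 M 0 1 * affMat3 M 1 0 = 1 := by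
  have h := (M : SpecialLinearGroup (Fin 3) F).det_coe
  rw [Matrix.det_fin_three] at h
  have h0 := affMat3_20 M
  have h1 := affMat3_21 M
  have h2 := affMat3_22 M
  unfold affMat3 at *
  rw [h0, h1, h2] at h
  linear_combination h

/-- the linear part `Qd(F) → SL₂(F)` -/
def affPi (F : Type*) [Field F] : Helper17.affSub F →* SpecialLinearGroup (Fin 2) F where
  toFun M := ⟨Helper17.affBlock F M, by
    rw [Matrix.det_fin_two]
    exact affMat3_det M⟩
  map_one' := Subtype.ext (map_one _)
  map_mul' M N := Subtype.ext (map_mul _ M N)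

theorem affPi_apply (M : Helper17.affSub F) (i j : Fin 2) :
    (affPi F M : Matrix (Fin 2) (Fin 2) F) i j = affMat3 M i.castSucc j.castSucc := rfl

/-- the embedding `SL₂(F) → Qd(F)` -/
def affIota (F : Type*) [Field F] : SpecialLinearGroup (Fin 2) F →* Helper17.affSub F where
  toFun N := ⟨⟨!![N.1 0 0, N.1 0 1, 0; N.1 1 0, N.1 1 1, 0; 0, 0, 1], by
    have h := N.det_coe
    rw [Matrix.det_fin_two] at h
    rw [Matrix.det_fin_three]
    simp
    exact h⟩, ⟨rfl, rfl, rfl⟩⟩
  map_one' := by
    apply affMat3_injective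
    ext i j
    fin_cases i <;> fin_cases j <;> simp [affMat3]
  map_mul' M N := by
    apply affMat3_injective
    rw [affMat3_mul]
    ext i j
    fin_cases i <;> fin_cases j <;>
      simp [affMat3, Matrix.mul_apply, Fin.sum_univ_three, Fin.sum_univ_two]

end QdOver

end Cfsg.Agent.Helper14
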