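import Cfsg.Agent.Helper14.QdOver

set_option autoImplicit false
set_option linter.unusedSectionVars false

namespace Cfsg.Agent.Helper14

open Matrix Cfsg

section QdOver2

variable {F : Type*} [Field F]

theorem affPi_affIota (N : SpecialLinearGroup (Fin 2) F) : affPi F (affIota F N) = N := by
  apply Subtype.ext
  ext i j
  rw [affPi_apply]
  fin_cases i <;> fin_cases j <;> rfl

theorem affPi_surjective : Function.Surjective (affPi F) := fun N => ⟨_, affPi_affIota N⟩

theorem affIota_injective : Function.Injective (affIota F) := by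
  intro M N h
  have := congrArg (affPi F) h
  rwa [affPi_affIota, affPi_affIota] at this

theorem mem_ker_affPi_iff (M : Helper17.affSub F) :
    M ∈ (affPi F).ker ↔ affMat3 M 0 0 = 1 ∧ affMat3 M 0 1 = 0 ∧ affMat3 M 1 0 = 0 ∧
      affMat3 M 1 1 = 1 := by
  rw [MonoidHom.mem_ker]
  constructor
  · intro h
    have h' : ∀ i j, (affPi F M : Matrix (Fin 2) (Fin 2) F) i j = (1 : Matrix (Fin 2) (Fin 2) F) i j := by
      intro i j
      rw [h]; rfl
    refine ⟨?_, ?_, ?_, ?_⟩
    · simpa [affPi_apply] using h' 0 0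
    · simpa [affPi_apply] using h' 0 1
    · simpa [affPi_apply] using h' 1 0
    · simpa [affPi_apply] using h' 1 1
  · rintro ⟨h00, h01, h10, h11⟩
    apply Subtype.ext
    ext i j
    rw [affPi_apply]
    fin_cases i <;> fin_cases j <;> simp [h00, h01, h10, h11]

theorem mem_range_affIota_iff (M : Helper17.affSub F) :
    M ∈ (affIota F).range ↔ affMat3 M 0 2 = 0 ∧ affMat3 M 1 2 = 0 := by
  constructor
  · rintro ⟨N, rfl⟩
    exact ⟨rfl, rfl⟩
  · rintro ⟨h02, h12⟩
    refine ⟨affPi F M, ?_⟩
    apply affMat3_injective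
    ext i j
    have h20 := affMat3_20 M
    have h21 := affMat3_21 M
    have h22 := affMat3_22 M
    fin_cases i <;> fin_cases j <;>
      simp [h02, h12, h20, h21, h22] <;> rfl

/-- the translation vector -/
def affVec (M : Helper17.affSub F) : Fin 2 → F := ![affMat3 M 0 2, affMat3 M 1 2]

theorem affVec_mul_of_mem_ker {M N : Helper17.affSub F} (hM : M ∈ (affPi F).ker) :
    affVec (M * N) = affVec M + affVec N := by
  obtain ⟨h00, h01, h10, h11⟩ := (mem_ker_affPi_iff M).1 hM
  have h22 := affMat3_22 N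
  ext i
  fin_cases i <;>
    simp [affVec, affMat3_mul, Matrix.mul_apply, Fin.sum_univ_three, h00, h01, h10, h11, h22,
      add_comm]

theorem eq_of_mem_ker_of_affVec_eq {M N : Helper17.affSub F} (hM : M ∈ (affPi F).ker)
    (hN : N ∈ (affPi F).ker) (h : affVec M = affVec N) : M = N := by
  obtain ⟨h00, h01, h10, h11⟩ := (mem_ker_affPi_iff M).1 hM
  obtain ⟨k00, k01, k10, k11⟩ := (mem_ker_affPi_iff N).1 hN
  have e0 : affMat3 M 0 2 = affMat3 N 0 2 := congrFun h 0
  have e1 : affMat3 M 1 2 = affMat3 N 1 2 := congrFun h 1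
  apply affMat3_injective
  ext i j
  have h20 := affMat3_20 M
  have h21 := affMat3_21 M
  have h22 := affMat3_22 M
  have k20 := affMat3_20 N
  have k21 := affMat3_21 N
  have k22 := affMat3_22 N
  fin_cases i <;> fin_cases j <;> simp [*]

/-- translation by a vector -/
def affTau (v : Fin 2 → F) : Helper17.affSub F :=
  ⟨⟨!![1, 0, v 0; 0, 1, v 1; 0, 0, 1], by rw [Matrix.det_fin_three]; simp⟩, ⟨rfl, rfl, rfl⟩⟩

theorem affTau_mem_ker (v : Fin 2 → F) : affTau v ∈ (affPi F).ker := by
  rw [mem_ker_affPi_iff]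
  exact ⟨rfl, rfl, rfl, rfl⟩

theorem affVec_affTau (v : Fin 2 → F) : affVec (affTau v) = v := by
  ext i
  fin_cases i <;> rfl

/-- the additive identification of the translation group with `F²` -/
noncomputable def affPsi (F : Type*) [Field F] : Additive ↥(affPi F).ker ≃+ (Fin 2 → F) where
  toFun M := affVec (Additive.toMul M).1
  invFun v := Additive.ofMul ⟨affTau v, affTau_mem_ker v⟩
  left_inv M := by
    apply Additive.toMul.injective
    apply Subtype.ext
    exact eq_of_mem_ker_of_affVec_eq (affTau_mem_ker _) (Additive.toMul M).2 (affVec_affTau _)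
  right_inv v := affVec_affTau v
  map_add' M N := affVec_mul_of_mem_ker (Additive.toMul M).2

theorem affPsi_apply (M : ↥(affPi F).ker) : affPsi F (Additive.ofMul M) = affVec M.1 := rfl

end QdOver2

end Cfsg.Agent.Helper14
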