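import Cfsg.Agent.Helper14.QdOver2

set_option autoImplicit false
set_option linter.unusedSectionVars false

namespace Cfsg.Agent.Helper14

open Matrix Cfsg

section QdOver3

variable {F : Type*} [Field F]

theorem isPGroup_ker_affPi {p : ℕ} [Fact p.Prime] [CharP F p] : IsPGroup p ↥(affPi F).ker := by
  intro M
  refine ⟨1, ?_⟩
  rw [pow_one]
  apply Additive.ofMul.injective
  apply (affPsi F).injective
  rw [ofMul_pow, map_nsmul, ofMul_one, map_zero]
  ext i
  rw [Pi.smul_apply, nsmul_eq_mul, CharP.cast_eq_zero F p, zero_mul]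
  rfl

theorem range_affIota_inf_ker : (affIota F).range ⊓ (affPi F).ker = ⊥ := by
  rw [eq_bot_iff]
  rintro M ⟨⟨N, rfl⟩, h2⟩
  have h2 : affIota F N ∈ (affPi F).ker := h2
  rw [MonoidHom.mem_ker, affPi_affIota] at h2
  rw [h2, map_one]
  exact Subgroup.mem_bot.2 rfl

theorem range_affIota_sup_ker : (affIota F).range ⊔ (affPi F).ker = ⊤ := by
  rw [eq_top_iff]
  intro M _
  have h1 : affIota F (affPi F M) ∈ (affIota F).range := ⟨_, rfl⟩
  have h2 : (affIota F (affPi F M))⁻¹ * M ∈ (affPi F).ker := by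
    rw [MonoidHom.mem_ker, map_mul, map_inv, affPi_affIota, inv_mul_cancel]
  have : M = affIota F (affPi F M) * ((affIota F (affPi F M))⁻¹ * M) := by group
  rw [this]
  exact Subgroup.mul_mem_sup h1 h2

/-- conjugation formula -/
theorem affVec_conj {l v w : Helper17.affSub F} (hl : l ∈ (affIota F).range)
    (hv : v ∈ (affPi F).ker) (hw : w ∈ (affPi F).ker) (h : w = l * v * l⁻¹) :
    affVec w = (affPi F l : Matrix (Fin 2) (Fin 2) F).mulVec (affVec v) := by
  have h' : w * l = l * v := by rw [h]; group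
  obtain ⟨l02, l12⟩ := (mem_range_affIota_iff l).1 hl
  obtain ⟨v00, v01, v10, v11⟩ := (mem_ker_affPi_iff v).1 hv
  obtain ⟨w00, w01, w10, w11⟩ := (mem_ker_affPi_iff w).1 hw
  have l22 := affMat3_22 l
  have v22 := affMat3_22 v
  have hm := congrArg affMat3 h'
  rw [affMat3_mul, affMat3_mul] at hm
  have e0 := congrFun (congrFun hm 0) 2
  have e1 := congrFun (congrFun hm 1) 2
  simp only [Matrix.mul_apply, Fin.sum_univ_three, l02, l12, l22, v22, w00, w01, w10, w11,
    mul_zero, add_zero, zero_add, mul_one] at e0 e1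
  ext i
  fin_cases i
  · simp [affVec, Matrix.mulVec, dotProduct, affPi_apply, e0]
  · simp [affVec, Matrix.mulVec, dotProduct, affPi_apply, e1]

variable [Fintype F] {p : ℕ} [Fact p.Prime] [CharP F p]

theorem pCore_affSub_eq_ker : pCore p ↥(Helper17.affSub F) = (affPi F).ker := by
  apply le_antisymm
  · have hn : ((pCore p ↥(Helper17.affSub F)).map (affPi F)).Normal :=
      Subgroup.Normal.map (pCore_normal p) _ affPi_surjective
    have hp : IsPGroup p ↥((pCore p ↥(Helper17.affSub F)).map (affPi F)) :=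
      (pCore_isPGroup p).map _
    have hbot := normal_pSubgroup_sl2_eq_bot (p := p) _ hp
    intro M hM
    rw [MonoidHom.mem_ker]
    have : affPi F M ∈ (pCore p ↥(Helper17.affSub F)).map (affPi F) :=
      Subgroup.mem_map_of_mem _ hM
    rw [hbot] at this
    exact this
  · exact le_pCore p (MonoidHom.normal_ker _) isPGroup_ker_affPi

end QdOver3

end Cfsg.Agent.Helper14
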