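import Mathlib
import Cfsg.Agent.Helper14.NatStd6
import Cfsg.Agent.Helper25.SL2RankOne

set_option autoImplicit false
set_option linter.unusedSectionVars false

namespace Cfsg.Agent.Helper14

open Matrix Cfsg

section QdSyl1

variable {F : Type*} [Field F]

/-- the Borel subgroup of `SL₂(F)` -/
def sl2Borel (F : Type*) [Field F] : Subgroup (SpecialLinearGroup (Fin 2) F) where
  carrier := {x | x.1 1 0 = 0}
  one_mem' := by simp
  mul_mem' := by
    intro x y hx hy
    have hx' : x.1 1 0 = 0 := hx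
    have hy' : y.1 1 0 = 0 := hy
    show (x.1 * y.1) 1 0 = 0
    rw [Matrix.mul_apply, Fin.sum_univ_two, hx', hy']
    ring
  inv_mem' := by
    intro x hx
    have hx' : x.1 1 0 = 0 := hx
    show (x⁻¹).1 1 0 = 0
    rw [sl2_inv_10, hx', neg_zero]

theorem mem_sl2Borel (x : SpecialLinearGroup (Fin 2) F) : x ∈ sl2Borel F ↔ x.1 1 0 = 0 := Iff.rfl

theorem sl2Stab_le_sl2Borel : sl2Stab F ≤ sl2Borel F := by
  intro x hx
  exact ((sl2_stab_iff x).1 ((mem_sl2Stab x).1 hx)).2

/-- the Borel subgroup is maximal -/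
theorem sl2Borel_maximal (H : Subgroup (SpecialLinearGroup (Fin 2) F)) (hB : sl2Borel F ≤ H)
    (h : SpecialLinearGroup (Fin 2) F) (hh : h ∈ H) (hc : h.1 1 0 ≠ 0) : H = ⊤ := by
  set c := h.1 1 0 with hcdef
  set a := h.1 0 0 with hadef
  set b := sl2U (-a / c) with hb
  have hbH : b ∈ H := hB ((sl2Stab_le_sl2Borel) ((mem_sl2Stab b).2 (sl2U_stab _)))
  set y := b * h with hy
  have hyH : y ∈ H := H.mul_mem hbH hh
  have hye : y • (vE0 : Fin 2 → F) = ![0, c] := by
    rw [hy, mul_smul]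
    have h1 : h • (vE0 : Fin 2 → F) = ![a, c] := by
      ext i
      rw [sl2_smul_apply]
      fin_cases i <;> simp [vE0, hadef, hcdef]
    rw [h1, sl2_stab_smul (sl2U_stab _), sl2U_01]
    ext i
    fin_cases i
    · simp
      field_simp
      ring
    · simp
  rw [eq_top_iff, ← Helper25.sl2_generation]
  apply sup_le
  · intro g hg
    obtain ⟨g01, g00, g11⟩ := Helper25.mem_lowerUnipotentSL2.1 hg
    have hfix : g • (![0, c] : Fin 2 → F) = ![0, c] := by
      ext i
      rw [sl2_smul_apply]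
      have g01' : g.1 0 1 = 0 := g01
      have g11' : g.1 1 1 = 1 := g11
      fin_cases i <;> simp [g01', g11']
    have hz : (y⁻¹ * g * y) • (vE0 : Fin 2 → F) = vE0 := by
      rw [mul_smul, mul_smul, hye, hfix, ← hye, inv_smul_smul]
    have hzH : y⁻¹ * g * y ∈ H := hB (sl2Stab_le_sl2Borel ((mem_sl2Stab _).2 hz))
    have : g = y * (y⁻¹ * g * y) * y⁻¹ := by group
    rw [this]
    exact H.mul_mem (H.mul_mem hyH hzH) (H.inv_mem hyH)
  · intro g hg
    obtain ⟨g10, _, _⟩ := Helper25.mem_upperUnipotentSL2.1 hg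
    exact hB g10

end QdSyl1

end Cfsg.Agent.Helper14
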