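import Cfsg.Agent.Helper14.QdSyl1
import Cfsg.Agent.Helper14.QdOver4

set_option autoImplicit false
set_option linter.unusedSectionVars false

namespace Cfsg.Agent.Helper14

open Matrix Cfsg

section QdSyl2

variable {F : Type*} [Field F]

/-- the standard Sylow subgroup of `Qd(F)` -/
def qdS0 (F : Type*) [Field F] : Subgroup (Helper17.affSub F) := (sl2Stab F).comap (affPi F)

/-- the standard parabolic subgroup of `Qd(F)` -/
def qdP0 (F : Type*) [Field F] : Subgroup (Helper17.affSub F) := (sl2Borel F).comap (affPi F)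

theorem mem_qdS0 (M : Helper17.affSub F) :
    M ∈ qdS0 F ↔ affPi F M • (vE0 : Fin 2 → F) = vE0 := by
  rw [qdS0, Subgroup.mem_comap, mem_sl2Stab]

theorem mem_qdP0 (M : Helper17.affSub F) : M ∈ qdP0 F ↔ (affPi F M).1 1 0 = 0 := Iff.rfl

theorem ker_le_qdS0 : (affPi F).ker ≤ qdS0 F := by
  intro M hM
  rw [mem_qdS0, MonoidHom.mem_ker.1 hM, one_smul]

theorem qdS0_le_qdP0 : qdS0 F ≤ qdP0 F := Subgroup.comap_mono sl2Stab_le_sl2Borel

theorem qdP0_le_normalizer : qdP0 F ≤ Subgroup.normalizer ((qdS0 F : Subgroup _) : Set _) := by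
  intro M hM
  have hM' : (affPi F M).1 1 0 = 0 := hM
  have hMinv : (affPi F M⁻¹).1 1 0 = 0 := by rw [map_inv, sl2_inv_10, hM', neg_zero]
  rw [Subgroup.mem_normalizer_iff]
  intro N
  constructor
  · intro hN
    rw [mem_qdS0, map_mul, map_mul, map_inv]
    exact sl2_upper_conj_stab hM' ((mem_qdS0 N).1 hN)
  · intro hN
    have h1 := sl2_upper_conj_stab hMinv ((mem_qdS0 _).1 hN)
    rw [mem_qdS0]
    have e : (affPi F) M⁻¹ * (affPi F) (M * N * M⁻¹) * ((affPi F) M⁻¹)⁻¹ = affPi F N := by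
      rw [← map_inv, ← map_mul, ← map_mul]
      congr 1
      group
    rw [e] at h1
    exact h1

theorem normalizer_qdS0 : Subgroup.normalizer ((qdS0 F : Subgroup _) : Set _) = qdP0 F := by
  apply le_antisymm _ qdP0_le_normalizer
  intro M hM
  rw [mem_qdP0]
  -- conjugate the transvection `sl2U 1` by `M⁻¹`
  have hu : affIota F (sl2U 1) ∈ qdS0 F := by
    rw [mem_qdS0, affPi_affIota]; exact sl2U_stab 1
  have hMinv : M⁻¹ ∈ Subgroup.normalizer ((qdS0 F : Subgroup _) : Set _) := Subgroup.inv_mem _ hM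
  have h1 := (Subgroup.mem_normalizer_iff.1 hMinv (affIota F (sl2U 1))).1 hu
  rw [inv_inv, mem_qdS0, map_mul, map_mul, map_inv, affPi_affIota, mul_smul, mul_smul,
    inv_smul_eq_iff] at h1
  -- so `sl2U 1` fixes `π(M) e₀`
  set w := affPi F M • (vE0 : Fin 2 → F) with hw
  have h2 : sl2U (1 : F) • w = w := h1
  rw [sl2_stab_smul (sl2U_stab 1), sl2U_01] at h2
  have h3 := congrFun h2 0
  simp at h3
  rw [hw, sl2_smul_apply] at h3
  simpa [vE0] using h3

/-- the Weyl element -/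
def sl2W (F : Type*) [Field F] : SpecialLinearGroup (Fin 2) F :=
  ⟨!![0, -1; 1, 0], by rw [Matrix.det_fin_two_of]; ring⟩

theorem qdP0_ne_top : qdP0 F ≠ ⊤ := by
  intro h
  have : affIota F (sl2W F) ∈ qdP0 F := by rw [h]; trivial
  rw [mem_qdP0, affPi_affIota] at this
  have : (1 : F) = 0 := this
  exact one_ne_zero this

/-- maximality of the parabolic -/
theorem qdP0_maximal (H : Subgroup (Helper17.affSub F)) (hle : qdP0 F ≤ H) (hne : H ≠ qdP0 F) :
    H = ⊤ := by
  obtain ⟨h, hh, hhP⟩ : ∃ h ∈ H, h ∉ qdP0 F := by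
    by_contra hcon
    push Not at hcon
    exact hne (le_antisymm hcon hle)
  have hmap : H.map (affPi F) = ⊤ := by
    apply sl2Borel_maximal (H.map (affPi F)) _ (affPi F h) (Subgroup.mem_map_of_mem _ hh) hhP
    intro x hx
    refine ⟨affIota F x, hle ?_, affPi_affIota x⟩
    rw [mem_qdP0, affPi_affIota]
    exact hx
  rw [eq_top_iff]
  intro M _
  have : affPi F M ∈ H.map (affPi F) := by rw [hmap]; trivial
  obtain ⟨h', hh', he⟩ := this
  have hk : h'⁻¹ * M ∈ (affPi F).ker := by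
    rw [MonoidHom.mem_ker, map_mul, map_inv, he, inv_mul_cancel]
  have : M = h' * (h'⁻¹ * M) := by group
  rw [this]
  exact H.mul_mem hh' (hle (qdS0_le_qdP0 (ker_le_qdS0 hk)))

end QdSyl2

end Cfsg.Agent.Helper14
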