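import Cfsg.Agent.Helper14.QdSyl2

set_option autoImplicit false
set_option linter.unusedSectionVars false

namespace Cfsg.Agent.Helper14

open Matrix Cfsg

section QdSyl3

variable {F : Type*} [Field F] [Fintype F] {p : ℕ} [Fact p.Prime] [CharP F p]

theorem isPGroup_qdS0 : IsPGroup p ↥(qdS0 F) :=
  IsPGroup.comap_of_ker_isPGroup (isPGroup_sl2Stab (p := p)) (affPi F) (isPGroup_ker_affPi (p := p))

/-- every `p`-subgroup is conjugate into the standard Sylow subgroup -/
theorem exists_map_cj_le_qdS0 (P : Subgroup (Helper17.affSub F)) (hP : IsPGroup p ↥P) :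
    ∃ g : Helper17.affSub F, P.map (cj g) ≤ qdS0 F := by
  obtain ⟨e, he0, hfix⟩ := exists_fixed_vector (p := p) (P.map (affPi F)) (hP.map _)
  obtain ⟨x, hx⟩ := exists_sl2_smul_e0 e he0
  have hx' : x • (vE0 : Fin 2 → F) = e := hx
  refine ⟨(affIota F x)⁻¹, ?_⟩
  rintro _ ⟨M, hM, rfl⟩
  rw [cj_apply, inv_inv, mem_qdS0, map_mul, map_mul, map_inv, affPi_affIota, mul_smul,
    mul_smul, hx', hfix _ (Subgroup.mem_map_of_mem _ hM), ← hx', inv_smul_smul]

theorem sylow_eq_map_cj_qdS0 (S : Sylow p (Helper17.affSub F)) :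
    ∃ g : Helper17.affSub F, (S : Subgroup (Helper17.affSub F)) = (qdS0 F).map (cj g) := by
  obtain ⟨g, hg⟩ := exists_map_cj_le_qdS0 (p := p) (S : Subgroup (Helper17.affSub F)) S.isPGroup'
  refine ⟨g⁻¹, ?_⟩
  have hle : (S : Subgroup (Helper17.affSub F)) ≤ (qdS0 F).map (cj g⁻¹) := by
    rw [← map_cj_le_iff]
    exact hg
  have hp : IsPGroup p ↥((qdS0 F).map (cj g⁻¹)) := (isPGroup_qdS0 (p := p)).map _
  exact (S.is_maximal' hp hle).symm

/-- a nontrivial normal `p`-subgroup of `Qd(F)` is the translation group -/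
theorem normal_pSubgroup_eq_ker (N : Subgroup (Helper17.affSub F)) [N.Normal]
    (hN : IsPGroup p ↥N) (hne : N ≠ ⊥) : N = (affPi F).ker := by
  have hle : N ≤ (affPi F).ker := by
    rw [← pCore_affSub_eq_ker (p := p)]
    exact le_pCore p inferInstance hN
  apply le_antisymm hle
  obtain ⟨⟨t, ht⟩, ht1⟩ := (Subgroup.ne_bot_iff_exists_ne_one).1 hne
  have ht1' : t ≠ 1 := fun h => ht1 (Subtype.ext h)
  have htk := hle ht
  have hv : affVec t ≠ 0 := by
    intro h0
    apply ht1'
    apply eq_of_mem_ker_of_affVec_eq htk (Subgroup.one_mem _)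
    rw [h0]
    ext i
    fin_cases i <;> simp [affVec, affMat3_one]
  intro s hs
  by_cases hs0 : affVec s = 0
  · have : s = 1 := by
      apply eq_of_mem_ker_of_affVec_eq hs (Subgroup.one_mem _)
      rw [hs0]
      ext i
      fin_cases i <;> simp [affVec, affMat3_one]
    rw [this]; exact N.one_mem
  · obtain ⟨x, hx⟩ := sl2_transitive (affVec t) (affVec s) hv hs0
    have hconj : affIota F x * t * (affIota F x)⁻¹ ∈ N :=
      (inferInstance : N.Normal).conj_mem t ht _
    have hck : affIota F x * t * (affIota F x)⁻¹ ∈ (affPi F).ker := hle hconj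
    have h1 := affVec_conj (l := affIota F x) ⟨x, rfl⟩ htk hck rfl
    rw [affPi_affIota] at h1
    have : s = affIota F x * t * (affIota F x)⁻¹ := by
      apply eq_of_mem_ker_of_affVec_eq hs hck
      rw [h1, ← hx]
      rfl
    rw [this]; exact hconj

end QdSyl3

end Cfsg.Agent.Helper14
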