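import Cfsg.Agent.Helper14.QdTwo

set_option autoImplicit false

namespace Cfsg.Agent.Helper14

open Matrix

def affPt2Equiv : AffPt2 ≃ Fin 4 where
  toFun v := ⟨(v.1 0).val + 2 * (v.1 1).val, by
    have h0 := ZMod.val_lt (v.1 0)
    have h1 := ZMod.val_lt (v.1 1)
    omega⟩
  invFun i := ⟨![((i.val % 2 : ℕ) : ZMod 2), ((i.val / 2 : ℕ) : ZMod 2), 1], rfl⟩
  left_inv := by decide
  right_inv := by decide

/-- the permutation representation of `Qd(2)` on the four affine points. -/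
noncomputable def affPt2Hom : Helper17.affSub (ZMod 2) →* Equiv.Perm (Fin 4) :=
  (affPt2Equiv.permCongrHom.toMonoidHom).comp (MulAction.toPermHom (Helper17.affSub (ZMod 2)) AffPt2)

theorem affPt2Hom_apply (M : Helper17.affSub (ZMod 2)) (i : Fin 4) :
    affPt2Hom M i = affPt2Equiv (M • affPt2Equiv.symm i) := rfl

theorem affPt2Hom_injective : Function.Injective affPt2Hom := by
  rw [injective_iff_map_eq_one]
  intro M hM
  have key : ∀ v : AffPt2, (M.1 : Matrix (Fin 3) (Fin 3) (ZMod 2)) *ᵥ v.1 = v.1 := by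
    intro v
    have h := congrArg (fun σ => σ (affPt2Equiv v)) hM
    simp only [affPt2Hom_apply, Equiv.symm_apply_apply, Equiv.Perm.coe_one, id_eq,
      EmbeddingLike.apply_eq_iff_eq] at h
    rw [← affPt2_smul_val, h]
  have hmem := M.2
  rw [Helper17.mem_affSub] at hmem
  obtain ⟨h20, h21, h22⟩ := hmem
  have k0 := key ⟨![0, 0, 1], rfl⟩
  have k1 := key ⟨![1, 0, 1], rfl⟩
  have k2 := key ⟨![0, 1, 1], rfl⟩
  have e0 := fun i => congrFun k0 i
  have e1 := fun i => congrFun k1 i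
  have e2 := fun i => congrFun k2 i
  simp only [Matrix.mulVec, dotProduct, Fin.sum_univ_three] at e0 e1 e2
  have a0 := e0 0; have a1 := e0 1
  have b0 := e1 0; have b1 := e1 1
  have c0 := e2 0; have c1 := e2 1
  simp at a0 a1 b0 b1 c0 c1
  rw [a0, add_zero] at b0 c0
  rw [a1, add_zero] at b1 c1
  apply Subtype.ext
  apply Subtype.ext
  ext i j
  fin_cases i <;> fin_cases j <;> simp [*]


def qd2Gen0 : Helper17.affSub (ZMod 2) :=
  ⟨⟨!![1, 1, 1; 0, 1, 0; 0, 0, 1], by simp [Matrix.det_fin_three]⟩, ⟨rfl, rfl, rfl⟩⟩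

def qd2Gen1 : Helper17.affSub (ZMod 2) :=
  ⟨⟨!![0, 1, 0; 1, 0, 0; 0, 0, 1], by simp [Matrix.det_fin_three]⟩, ⟨rfl, rfl, rfl⟩⟩

def qd2Gen2 : Helper17.affSub (ZMod 2) :=
  ⟨⟨!![1, 1, 0; 0, 1, 0; 0, 0, 1], by simp [Matrix.det_fin_three]⟩, ⟨rfl, rfl, rfl⟩⟩

theorem affPt2Hom_gen0 : affPt2Hom qd2Gen0 = Equiv.swap 0 1 := by
  ext i
  rw [affPt2Hom_apply]
  fin_cases i <;> decide


theorem affPt2Hom_gen1 : affPt2Hom qd2Gen1 = Equiv.swap 1 2 := by
  ext i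
  rw [affPt2Hom_apply]
  fin_cases i <;> decide

theorem affPt2Hom_gen2 : affPt2Hom qd2Gen2 = Equiv.swap 2 3 := by
  ext i
  rw [affPt2Hom_apply]
  fin_cases i <;> decide

theorem affPt2Hom_surjective : Function.Surjective affPt2Hom := by
  rw [← MonoidHom.mrange_eq_top]
  apply top_unique
  rw [← Equiv.Perm.mclosure_swap_castSucc_succ 3, Submonoid.closure_le]
  rintro _ ⟨i, rfl⟩
  fin_cases i
  · exact ⟨qd2Gen0, affPt2Hom_gen0⟩
  · exact ⟨qd2Gen1, affPt2Hom_gen1⟩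
  · exact ⟨qd2Gen2, affPt2Hom_gen2⟩

/-- `Qd(2) ≅ S₄`. -/
theorem qd_two_mulEquiv : Nonempty (↥(Cfsg.qd 2) ≃* Equiv.Perm (Fin 4)) := by
  rw [qd_eq_affSub 2]
  exact ⟨MulEquiv.ofBijective affPt2Hom ⟨affPt2Hom_injective, affPt2Hom_surjective⟩⟩

end Cfsg.Agent.Helper14
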