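import Cfsg.Agent.Helper14.WcFactor
import Cfsg.Agent.Helper14.Large3
import Cfsg.Agent.Helper14.PReduced3

set_option autoImplicit false
set_option linter.unusedSectionVars false

namespace Cfsg.Agent.Helper14

open Cfsg
open scoped commutatorElement Pointwise

section

variable {H : Type*} [Group H]

/-- commutators of joins modulo a subgroup normalized by all four subgroups -/
theorem commutator_sup_sup_le (M A₁ A₂ B₁ B₂ : Subgroup H)
    (hA₁ : A₁ ≤ Subgroup.normalizer (M : Set H)) (hA₂ : A₂ ≤ Subgroup.normalizer (M : Set H))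
    (hB₁ : B₁ ≤ Subgroup.normalizer (M : Set H)) (hB₂ : B₂ ≤ Subgroup.normalizer (M : Set H))
    (h11 : ⁅A₁, B₁⁆ ≤ M) (h12 : ⁅A₁, B₂⁆ ≤ M) (h21 : ⁅A₂, B₁⁆ ≤ M) (h22 : ⁅A₂, B₂⁆ ≤ M) :
    ⁅A₁ ⊔ A₂, B₁ ⊔ B₂⁆ ≤ M := by
  have key : ∀ X Y₁ Y₂ : Subgroup H, Y₁ ≤ Subgroup.normalizer (M : Set H) →
      Y₂ ≤ Subgroup.normalizer (M : Set H) → ⁅X, Y₁⁆ ≤ M → ⁅X, Y₂⁆ ≤ M → ⁅X, Y₁ ⊔ Y₂⁆ ≤ M := by
    intro X Y₁ Y₂ hY₁ hY₂ h1 h2
    have h3 : Y₁ ⊔ Y₂ ≤ commCent X M := sup_le (le_commCent hY₁ h1) (le_commCent hY₂ h2)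
    rw [Subgroup.commutator_le]
    intro x hx y hy
    exact (mem_commCent.1 (h3 hy)).2 x hx
  have h1 : ⁅A₁, B₁ ⊔ B₂⁆ ≤ M := key A₁ B₁ B₂ hB₁ hB₂ h11 h12
  have h2 : ⁅A₂, B₁ ⊔ B₂⁆ ≤ M := key A₂ B₁ B₂ hB₁ hB₂ h21 h22
  rw [Subgroup.commutator_comm] at h1 h2 ⊢
  exact key (B₁ ⊔ B₂) A₁ A₂ hA₁ hA₂ h1 h2

/-- Dedekind's modular law, in the form needed here -/
theorem le_sup_inf_of_le_sup {A B K : Subgroup H} (hAK : A ≤ K)
    (hBA : B ≤ Subgroup.normalizer (A : Set H)) (hK : K ≤ A ⊔ B) : K ≤ A ⊔ (K ⊓ B) := by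
  intro k hk
  have hk' : k ∈ ((A ⊔ B : Subgroup H) : Set H) := hK hk
  rw [Subgroup.coe_mul_of_right_le_normalizer_left A B hBA] at hk'
  obtain ⟨a, ha, b, hb, rfl⟩ := hk'
  have hbK : b ∈ K := by
    have : b = a⁻¹ * (a * b) := by group
    rw [this]
    exact K.mul_mem (K.inv_mem (hAK ha)) hk
  exact Subgroup.mul_mem _ (Subgroup.mem_sup_left ha) (Subgroup.mem_sup_right ⟨hbK, hb⟩)

theorem le_sup_inf_of_le_sup' {A B K : Subgroup H} (hAK : A ≤ K)
    (hAB : A ≤ Subgroup.normalizer (B : Set H)) (hK : K ≤ A ⊔ B) : K ≤ A ⊔ (K ⊓ B) := by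
  intro k hk
  have hk' : k ∈ ((A ⊔ B : Subgroup H) : Set H) := hK hk
  rw [Subgroup.coe_mul_of_left_le_normalizer_right A B hAB] at hk'
  obtain ⟨a, ha, b, hb, rfl⟩ := hk'
  have hbK : b ∈ K := by
    have : b = a⁻¹ * (a * b) := by group
    rw [this]
    exact K.mul_mem (K.inv_mem (hAK ha)) hk
  exact Subgroup.mul_mem _ (Subgroup.mem_sup_left ha) (Subgroup.mem_sup_right ⟨hbK, hb⟩)

theorem map_cj_commCent (N B : Subgroup H) (g : H) :
    (commCent N B).map (cj g) = commCent (N.map (cj g)) (B.map (cj g)) := by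
  ext x
  rw [mem_map_cj, mem_commCent, mem_commCent]
  constructor
  · rintro ⟨h1, h2⟩
    refine ⟨?_, ?_⟩
    · rw [← map_cj_normalizer, mem_map_cj]; exact h1
    · rintro _ ⟨n, hn, rfl⟩
      rw [mem_map_cj]
      have := h2 n hn
      have e : g⁻¹ * ⁅cj g n, x⁆ * g = ⁅n, g⁻¹ * x * g⁆ := by
        rw [cj_apply, commutatorElement_def, commutatorElement_def]; group
      rw [e]; exact this
  · rintro ⟨h1, h2⟩
    refine ⟨?_, ?_⟩
    · rw [← map_cj_normalizer, mem_map_cj] at h1; exact h1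
    · intro n hn
      have := h2 (cj g n) ⟨n, hn, rfl⟩
      rw [mem_map_cj] at this
      have e : g⁻¹ * ⁅cj g n, x⁆ * g = ⁅n, g⁻¹ * x * g⁆ := by
        rw [cj_apply, commutatorElement_def, commutatorElement_def]; group
      rw [e] at this; exact this

theorem le_normalizer_commCent {N B K : Subgroup H} (hN : K ≤ Subgroup.normalizer (N : Set H))
    (hB : K ≤ Subgroup.normalizer (B : Set H)) :
    K ≤ Subgroup.normalizer ((commCent N B : Subgroup H) : Set H) := by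
  intro g hg
  rw [mem_normalizer_iff_map_cj, map_cj_commCent, mem_normalizer_iff_map_cj.1 (hN hg),
    mem_normalizer_iff_map_cj.1 (hB hg)]

end

section

variable {H : Type*} [Group H] [Finite H] {p : ℕ} [Fact p.Prime]

/-- the setup of S2860, with the quasisimplicity hypotheses expressed inside the ambient group -/
structure QsSetup (p : ℕ) (Q U E : Subgroup H) : Prop where
  hQp : IsPGroup p ↥Q
  hQ1 : Q ≠ ⊥
  hQ : IsLarge Q
  hUp : IsPGroup p ↥U
  hU1 : U ≠ ⊥
  hQE : Q ≤ E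
  hEU : E ≤ Subgroup.normalizer (U : Set H)
  hQn : ¬ E ≤ Subgroup.normalizer (Q : Set H)
  hqs : ∀ N : Subgroup H, E ⊓ Subgroup.centralizer (U : Set H) ≤ N →
    N ≤ (pResidual p ↥E).map E.subtype ⊔ (E ⊓ Subgroup.centralizer (U : Set H)) →
    (pResidual p ↥E).map E.subtype ⊔ (E ⊓ Subgroup.centralizer (U : Set H)) ≤
      Subgroup.normalizer (N : Set H) →
    (pResidual p ↥E).map E.subtype ⊔ (E ⊓ Subgroup.centralizer (U : Set H)) ≤ N ∨
    ⁅N, (pResidual p ↥E).map E.subtype ⊔ (E ⊓ Subgroup.centralizer (U : Set H))⁆ ≤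
      E ⊓ Subgroup.centralizer (U : Set H)
  hperf : (pResidual p ↥E).map E.subtype ⊔ (E ⊓ Subgroup.centralizer (U : Set H)) ≤
    ⁅(pResidual p ↥E).map E.subtype ⊔ (E ⊓ Subgroup.centralizer (U : Set H)),
      (pResidual p ↥E).map E.subtype ⊔ (E ⊓ Subgroup.centralizer (U : Set H))⁆ ⊔
      (E ⊓ Subgroup.centralizer (U : Set H))
  hred : ∀ P : Subgroup H, P ≤ E → IsPGroup p ↥P →
    E ≤ Subgroup.normalizer ((P ⊔ (E ⊓ Subgroup.centralizer (U : Set H)) : Subgroup H) : Set H) →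
    P ≤ E ⊓ Subgroup.centralizer (U : Set H)

/-- basic facts in the setup -/
theorem QsSetup.basic {Q U E : Subgroup H} (h : QsSetup p Q U E) (C O W K : Subgroup H)
    (hC : C = E ⊓ Subgroup.centralizer (U : Set H))
    (hO : O = (pResidual p ↥E).map E.subtype)
    (hW : W = weakClosure Q E) (hK : K = (pResidual p ↥W).map W.subtype) :
    IsWeaklyClosedSubgroup p Q ∧ C ≤ E ∧ E ≤ Subgroup.normalizer (C : Set H) ∧
    C ≤ Subgroup.normalizer (Q : Set H) ∧ O ≤ E ∧ E ≤ Subgroup.normalizer (O : Set H) ∧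
    K ≤ O ∧ ¬ K ≤ C ∧
    (∀ D : Subgroup H, (∀ b ∈ K, Nat.Coprime (orderOf b) p → b ∈ D) → K ≤ D) ∧
    (∀ b ∈ E, Nat.Coprime (orderOf b) p → b ∈ O) := by
  have hwc : IsWeaklyClosedSubgroup p Q := isWeaklyClosedSubgroup_of_isLarge h.hQp h.hQ1 h.hQ
  have hCE : C ≤ E := by rw [hC]; exact inf_le_left
  have hEC : E ≤ Subgroup.normalizer (C : Set H) := by
    rw [hC]
    exact le_normalizer_inf Subgroup.le_normalizer
      (h.hEU.trans (normalizer_le_normalizer_centralizer' U))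
  have hCQ : C ≤ Subgroup.normalizer (Q : Set H) := by
    rw [hC]
    exact inf_le_right.trans
      (large_centralizer_le_normalizer h.hQp h.hQ h.hUp h.hU1 (h.hQE.trans h.hEU))
  have hOE : O ≤ E := by rw [hO]; exact pResidualOf_le E
  have hEO : E ≤ Subgroup.normalizer (O : Set H) := by rw [hO]; exact le_normalizer_pResidualOf E
  obtain ⟨hQW, hWE, hEW, hEK, hKW, hconj, hWKQ, hKQ⟩ :=
    wcs_closure_structure h.hQp hwc h.hQE W K hW hK
  have hKO : K ≤ O := by rw [hK, hO]; exact pResidualOf_mono hWE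
  have hKC : ¬ K ≤ C := by
    intro hle
    have h1 : ⁅K, Q⁆ ≤ Q := commutator_le_right_of_le_normalizer (hle.trans hCQ)
    have h2 : K ≤ Q := by rw [← hKQ]; exact h1
    have h3 : W = Q := by rw [hWKQ]; exact sup_eq_right.2 h2
    apply h.hQn
    rw [← h3]; exact hEW
  have hKcl : K = Subgroup.closure {b : H | b ∈ W ∧ Nat.Coprime (orderOf b) p} := by
    rw [hK, pResidualOf_eq_closure]
  have hgen : ∀ D : Subgroup H, (∀ b ∈ K, Nat.Coprime (orderOf b) p → b ∈ D) → K ≤ D := by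
    intro D hD
    refine le_trans (le_of_eq hKcl) ?_
    rw [Subgroup.closure_le]
    rintro b ⟨hb, hcop⟩
    refine hD b ?_ hcop
    rw [hKcl]
    exact Subgroup.subset_closure ⟨hb, hcop⟩
  have hOgen : ∀ b ∈ E, Nat.Coprime (orderOf b) p → b ∈ O := by
    intro b hb hcop
    rw [hO, pResidualOf_eq_closure]
    exact Subgroup.subset_closure ⟨hb, hcop⟩
  exact ⟨hwc, hCE, hEC, hCQ, hOE, hEO, hKO, hKC, hgen, hOgen⟩

/-- Step B: `O^p(E) C = K C` -/
theorem QsSetup.sup_eq {Q U E : Subgroup H} (h : QsSetup p Q U E) (C O W K : Subgroup H)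
    (hC : C = E ⊓ Subgroup.centralizer (U : Set H))
    (hO : O = (pResidual p ↥E).map E.subtype)
    (hW : W = weakClosure Q E) (hK : K = (pResidual p ↥W).map W.subtype) :
    O ⊔ C = K ⊔ C := by
  obtain ⟨hwc, hCE, hEC, hCQ, hOE, hEO, hKO, hKC, hgen, hOgen⟩ := h.basic C O W K hC hO hW hK
  obtain ⟨hQW, hWE, hEW, hEK, hKW, hconj, hWKQ, hKQ⟩ :=
    wcs_closure_structure h.hQp hwc h.hQE W K hW hK
  have hqs := h.hqs
  have hperf := h.hperf
  rw [← hC, ← hO] at hqs hperf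
  have hOCE : O ⊔ C ≤ E := sup_le hOE hCE
  have hEOC : E ≤ Subgroup.normalizer ((O ⊔ C : Subgroup H) : Set H) := le_normalizer_sup hEO hEC
  apply le_antisymm _ (sup_le (hKO.trans le_sup_left) le_sup_right)
  have hQN : Q ≤ Subgroup.normalizer ((K ⊔ C : Subgroup H) : Set H) :=
    h.hQE.trans (le_normalizer_sup hEK hEC)
  rcases hqs (K ⊔ C) le_sup_right (sup_le (hKO.trans le_sup_left) le_sup_right)
    (hOCE.trans (le_normalizer_sup hEK hEC)) with h1 | h1
  · exact h1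
  -- second case: K C / C is central in O C / C
  have hN₂E : E ≤ Subgroup.normalizer (((O ⊔ C) ⊓ (W ⊔ C) : Subgroup H) : Set H) :=
    le_normalizer_inf hEOC (le_normalizer_sup hEW hEC)
  rcases hqs ((O ⊔ C) ⊓ (W ⊔ C)) (le_inf le_sup_right le_sup_right) inf_le_left
    (hOCE.trans hN₂E) with h2 | h2
  · -- O C ≤ W C = (K C) Q
    have h3 : O ⊔ C ≤ (K ⊔ C) ⊔ Q := by
      refine (h2.trans inf_le_right).trans ?_
      rw [hWKQ]
      exact sup_le (sup_le (le_sup_left.trans le_sup_left) le_sup_right)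
        (le_sup_right.trans le_sup_left)
    have h4 : O ≤ K ⊔ C := by
      rw [hO, pResidualOf_eq_closure, Subgroup.closure_le]
      rintro b ⟨hb, hcop⟩
      exact mem_of_coprime_of_mem_sup' (K ⊔ C) Q hQN h.hQp
        (h3 (Subgroup.mem_sup_left (hOgen b hb hcop))) hcop
    exact sup_le h4 le_sup_right
  · exfalso
    apply hKC
    -- [O C, Q] ≤ N₂
    have h3 : ⁅O ⊔ C, Q⁆ ≤ (O ⊔ C) ⊓ (W ⊔ C) := by
      refine le_inf (commutator_le_left_of_le_normalizer (h.hQE.trans hEOC)) ?_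
      refine le_trans ?_ (le_sup_left : W ≤ W ⊔ C)
      exact (Subgroup.commutator_mono hOCE hQW).trans (commutator_le_right_of_le_normalizer hEW)
    have h4 : ⁅⁅O ⊔ C, Q⁆, O ⊔ C⁆ ≤ C := (Subgroup.commutator_mono h3 le_rfl).trans h2
    have hOCn : O ⊔ C ≤ Subgroup.normalizer (C : Set H) := hOCE.trans hEC
    have hQn : Q ≤ Subgroup.normalizer (C : Set H) := h.hQE.trans hEC
    have h5 : ⁅⁅O ⊔ C, O ⊔ C⁆, Q⁆ ≤ C := by
      apply three_subgroups_rel C (O ⊔ C) (O ⊔ C) Q hOCn hOCn hQn h4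
      rw [Subgroup.commutator_comm Q (O ⊔ C)]
      exact h4
    have h6 : ⁅O ⊔ C, O ⊔ C⁆ ≤ commCent Q C := by
      apply le_commCent
      · exact (commutator_le_left_of_le_normalizer Subgroup.le_normalizer).trans hOCn
      · rw [Subgroup.commutator_comm]; exact h5
    have h7 : C ≤ commCent Q C :=
      le_commCent Subgroup.le_normalizer (commutator_le_right_of_le_normalizer hQn)
    have h8 : K ≤ commCent Q C :=
      ((hKO.trans le_sup_left).trans hperf).trans (sup_le h6 h7)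
    have h9 : ⁅K, Q⁆ ≤ C := by
      rw [Subgroup.commutator_comm, Subgroup.commutator_le]
      intro q hq k hk
      exact (mem_commCent.1 (h8 hk)).2 q hq
    rw [← hKQ]
    exact h9

/-- Steps C and D: `K` is perfect, `K = O^p(K)`, and `D = C_K(U)` is central modulo `O_p(K)` -/
theorem QsSetup.perfect {Q U E : Subgroup H} (h : QsSetup p Q U E) (C O W K D : Subgroup H)
    (hC : C = E ⊓ Subgroup.centralizer (U : Set H))
    (hO : O = (pResidual p ↥E).map E.subtype)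
    (hW : W = weakClosure Q E) (hK : K = (pResidual p ↥W).map W.subtype)
    (hD : D = K ⊓ Subgroup.centralizer (U : Set H)) :
    ⁅D, W⁆ ≤ pCoreOf p D ∧ E ≤ Subgroup.normalizer (D : Set H) ∧ ⁅K, K⁆ = K ∧
    (pResidual p ↥K).map K.subtype = K ∧ pCoreOf p K ≤ Subgroup.centralizer (U : Set H) ∧
    pCoreOf p D ≤ pCoreOf p K := by
  obtain ⟨hwc, hCE, hEC, hCQ, hOE, hEO, hKO, hKC, hgen, hOgen⟩ := h.basic C O W K hC hO hW hK
  obtain ⟨hQW, hWE, hEW, hEK, hKW, hconj, hWKQ, hKQ⟩ :=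
    wcs_closure_structure h.hQp hwc h.hQE W K hW hK
  have hsup := h.sup_eq C O W K hC hO hW hK
  have hperf := h.hperf
  rw [← hC, ← hO] at hperf
  have hKE : K ≤ E := hKW.trans hWE
  have hDK : D ≤ K := by rw [hD]; exact inf_le_left
  have hDC : D ≤ C := by
    rw [hD, hC]; exact le_inf (inf_le_left.trans hKE) inf_le_right
  have hDeq : D = K ⊓ C := by
    rw [hD, hC]
    apply le_antisymm
    · exact le_inf inf_le_left (le_inf (inf_le_left.trans hKE) inf_le_right)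
    · exact le_inf inf_le_left (inf_le_right.trans inf_le_right)
  have hED : E ≤ Subgroup.normalizer (D : Set H) := by
    rw [hDeq]; exact le_normalizer_inf hEK hEC
  set PD := pCoreOf p D with hPD
  have hPDD : PD ≤ D := pCoreOf_le p D
  have hPDp : IsPGroup p ↥PD := pCoreOf_isPGroup p D
  have hEPD : E ≤ Subgroup.normalizer (PD : Set H) := hED.trans (le_normalizer_pCoreOf' D)
  have hDQ : D ≤ Subgroup.normalizer (Q : Set H) := hDC.trans hCQ
  -- Step C
  have hW1 : W = ⨆ k : ↥E, Q.map (cj (k : H)) := by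
    rw [hW]; exact weakClosure_eq_iSup_conj h.hQp hwc h.hQE
  have hWcc : W ≤ commCent D PD := by
    rw [hW1]
    apply iSup_le
    intro e
    have hQeE : Q.map (cj (e : H)) ≤ E := by
      have := Subgroup.map_mono (f := cj (e : H)) h.hQE
      rwa [map_cj_eq_self_of_mem e.2] at this
    apply le_commCent (hQeE.trans hEPD)
    have hDQe : D ≤ Subgroup.normalizer ((Q.map (cj (e : H)) : Subgroup H) : Set H) := by
      have := Subgroup.map_mono (f := cj (e : H)) hDQ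
      rw [mem_normalizer_iff_map_cj.1 (hED e.2), map_cj_normalizer] at this
      exact this
    have h2 : ⁅D, Q.map (cj (e : H))⁆ ≤ D ⊓ Q.map (cj (e : H)) :=
      le_inf (commutator_le_left_of_le_normalizer (hQeE.trans hED))
        (commutator_le_right_of_le_normalizer hDQe)
    refine h2.trans ?_
    apply le_pCoreOf p inf_le_left
    · exact le_normalizer_inf Subgroup.le_normalizer hDQe
    · exact (h.hQp.map (cj (e : H))).to_le inf_le_right
  have hDW : ⁅D, W⁆ ≤ PD := by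
    rw [Subgroup.commutator_le]
    intro d hd w hw
    exact (mem_commCent.1 (hWcc hw)).2 d hd
  have hDK' : ⁅D, K⁆ ≤ PD := (Subgroup.commutator_mono le_rfl hKW).trans hDW
  have hDQ' : ⁅D, Q⁆ ≤ PD := (Subgroup.commutator_mono le_rfl hQW).trans hDW
  -- Step D
  have hEK' : E ≤ Subgroup.normalizer ((⁅K, K⁆ : Subgroup H) : Set H) :=
    le_normalizer_commutator hEK hEK
  have hK'K : ⁅K, K⁆ ≤ K := commutator_le_left_of_le_normalizer Subgroup.le_normalizer
  have h1 : K ≤ ⁅K, K⁆ ⊔ C := by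
    have hM : ∀ X : Subgroup H, X ≤ E →
        X ≤ Subgroup.normalizer ((⁅K, K⁆ ⊔ C : Subgroup H) : Set H) :=
      fun X hX => hX.trans (le_normalizer_sup hEK' hEC)
    have h2 : ⁅K ⊔ C, K ⊔ C⁆ ≤ ⁅K, K⁆ ⊔ C := by
      apply commutator_sup_sup_le _ K C K C (hM K hKE) (hM C hCE) (hM K hKE) (hM C hCE)
        le_sup_left
      · exact (commutator_le_right_of_le_normalizer (hKE.trans hEC)).trans le_sup_right
      · exact (commutator_le_left_of_le_normalizer (hKE.trans hEC)).trans le_sup_right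
      · exact (commutator_le_left_of_le_normalizer Subgroup.le_normalizer).trans le_sup_right
    calc K ≤ K ⊔ C := le_sup_left
      _ = O ⊔ C := hsup.symm
      _ ≤ ⁅O ⊔ C, O ⊔ C⁆ ⊔ C := hperf
      _ = ⁅K ⊔ C, K ⊔ C⁆ ⊔ C := by rw [hsup]
      _ ≤ ⁅K, K⁆ ⊔ C := sup_le h2 le_sup_right
  have h2 : K ≤ ⁅K, K⁆ ⊔ D := by
    rw [hDeq]
    exact le_sup_inf_of_le_sup hK'K (hCE.trans hEK') h1
  have h3 : K ≤ ⁅K, K⁆ ⊔ PD := by
    have hM : ∀ X : Subgroup H, X ≤ E →
        X ≤ Subgroup.normalizer ((⁅K, K⁆ ⊔ PD : Subgroup H) : Set H) :=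
      fun X hX => hX.trans (le_normalizer_sup hEK' hEPD)
    have h4 : ⁅⁅K, K⁆ ⊔ D, Q ⊔ Q⁆ ≤ ⁅K, K⁆ ⊔ PD := by
      apply commutator_sup_sup_le _ ⁅K, K⁆ D Q Q (hM _ (hK'K.trans hKE))
        (hM D (hDK.trans hKE)) (hM Q h.hQE) (hM Q h.hQE)
      · exact (commutator_le_left_of_le_normalizer (h.hQE.trans hEK')).trans le_sup_left
      · exact (commutator_le_left_of_le_normalizer (h.hQE.trans hEK')).trans le_sup_left
      · exact hDQ'.trans le_sup_right
      · exact hDQ'.trans le_sup_right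
    rw [sup_idem] at h4
    calc K = ⁅K, Q⁆ := hKQ.symm
      _ ≤ ⁅⁅K, K⁆ ⊔ D, Q⁆ := Subgroup.commutator_mono h2 le_rfl
      _ ≤ ⁅K, K⁆ ⊔ PD := h4
  have hperfK : ⁅K, K⁆ = K := by
    apply le_antisymm hK'K
    apply hgen
    intro b hb hcop
    exact mem_of_coprime_of_mem_sup' _ PD ((hPDD.trans (hDK.trans hKE)).trans hEK') hPDp
      (h3 hb) hcop
  have hres : (pResidual p ↥K).map K.subtype = K := by
    apply le_antisymm (pResidualOf_le K)
    apply hgen
    intro b hb hcop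
    rw [pResidualOf_eq_closure]
    exact Subgroup.subset_closure ⟨hb, hcop⟩
  have hcoreC : pCoreOf p K ≤ C := by
    have hred := h.hred
    rw [← hC] at hred
    apply hred (pCoreOf p K) ((pCoreOf_le p K).trans hKE) (pCoreOf_isPGroup p K)
    exact le_normalizer_sup (hEK.trans (le_normalizer_pCoreOf' K)) hEC
  refine ⟨hDW, hED, hperfK, hres, hcoreC.trans (hC ▸ inf_le_right), ?_⟩
  exact le_pCoreOf p (hPDD.trans hDK) (hKE.trans hEPD) hPDp

/-- (6): `K = [K, Y]` for every `p`-subgroup `Y` of `E` not centralizing `U` -/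
theorem QsSetup.commutator_eq {Q U E : Subgroup H} (h : QsSetup p Q U E) (C O W K : Subgroup H)
    (hC : C = E ⊓ Subgroup.centralizer (U : Set H))
    (hO : O = (pResidual p ↥E).map E.subtype)
    (hW : W = weakClosure Q E) (hK : K = (pResidual p ↥W).map W.subtype)
    (Y : Subgroup H) (hYE : Y ≤ E) (hYp : IsPGroup p ↥Y)
    (hYU : ¬ Y ≤ Subgroup.centralizer (U : Set H)) : ⁅K, Y⁆ = K := by
  obtain ⟨hwc, hCE, hEC, hCQ, hOE, hEO, hKO, hKC, hgen, hOgen⟩ := h.basic C O W K hC hO hW hK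
  obtain ⟨hQW, hWE, hEW, hEK, hKW, hconj, hWKQ, hKQ⟩ :=
    wcs_closure_structure h.hQp hwc h.hQE W K hW hK
  have hsup := h.sup_eq C O W K hC hO hW hK
  obtain ⟨hDW, hED, hperfK, hresK, hcoreU, hPDK⟩ :=
    h.perfect C O W K (K ⊓ Subgroup.centralizer (U : Set H)) hC hO hW hK rfl
  have hqs := h.hqs
  have hred := h.hred
  rw [← hC, ← hO] at hqs
  rw [← hC] at hred
  have hKE : K ≤ E := hKW.trans hWE
  set D := K ⊓ Subgroup.centralizer (U : Set H) with hD
  have hDK : D ≤ K := inf_le_left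
  have hDeq : D = K ⊓ C := by
    rw [hD, hC]
    apply le_antisymm
    · exact le_inf inf_le_left (le_inf (inf_le_left.trans hKE) inf_le_right)
    · exact le_inf inf_le_left (inf_le_right.trans inf_le_right)
  set PD := pCoreOf p D with hPD
  have hPDD : PD ≤ D := pCoreOf_le p D
  have hPDp : IsPGroup p ↥PD := pCoreOf_isPGroup p D
  have hEPD : E ≤ Subgroup.normalizer (PD : Set H) := hED.trans (le_normalizer_pCoreOf' D)
  have hDK' : ⁅D, K⁆ ≤ PD := (Subgroup.commutator_mono le_rfl hKW).trans hDW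
  have hYK : Y ≤ Subgroup.normalizer (K : Set H) := hYE.trans hEK
  have hNYK : ⁅K, Y⁆ ≤ K := commutator_le_left_of_le_normalizer hYK
  have hKNY : K ≤ Subgroup.normalizer ((⁅K, Y⁆ : Subgroup H) : Set H) :=
    le_normalizer_commutator_left K Y
  apply le_antisymm hNYK
  have hOCE : O ⊔ C ≤ E := sup_le hOE hCE
  have hnorm : O ⊔ C ≤ Subgroup.normalizer ((⁅K, Y⁆ ⊔ C : Subgroup H) : Set H) := by
    rw [hsup]
    apply sup_le
    · exact le_normalizer_sup hKNY (hKE.trans hEC)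
    · exact le_sup_right.trans Subgroup.le_normalizer
  rcases hqs (⁅K, Y⁆ ⊔ C) le_sup_right
    (sup_le ((hNYK.trans hKO).trans le_sup_left) le_sup_right) hnorm with h1 | h1
  · -- K ≤ [K,Y] C
    have h2 : K ≤ ⁅K, Y⁆ ⊔ D := by
      rw [hDeq]
      apply le_sup_inf_of_le_sup' hNYK ((hNYK.trans hKE).trans hEC)
      exact (le_sup_left.trans (le_of_eq hsup.symm)).trans h1
    have hM : K ≤ Subgroup.normalizer ((⁅K, Y⁆ ⊔ PD : Subgroup H) : Set H) :=
      le_normalizer_sup hKNY (hKE.trans hEPD)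
    have h3 : ⁅⁅K, Y⁆ ⊔ D, K ⊔ K⁆ ≤ ⁅K, Y⁆ ⊔ PD := by
      apply commutator_sup_sup_le _ ⁅K, Y⁆ D K K (hNYK.trans hM) (hDK.trans hM) hM hM
      · exact (commutator_le_left_of_le_normalizer hKNY).trans le_sup_left
      · exact (commutator_le_left_of_le_normalizer hKNY).trans le_sup_left
      · exact hDK'.trans le_sup_right
      · exact hDK'.trans le_sup_right
    rw [sup_idem] at h3
    have h4 : K ≤ ⁅K, Y⁆ ⊔ PD :=
      calc K = ⁅K, K⁆ := hperfK.symm
        _ ≤ ⁅⁅K, Y⁆ ⊔ D, K⁆ := Subgroup.commutator_mono h2 le_rfl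
        _ ≤ ⁅K, Y⁆ ⊔ PD := h3
    apply hgen
    intro b hb hcop
    exact mem_of_coprime_of_mem_sup' _ PD ((hPDD.trans hDK).trans hKNY) hPDp (h4 hb) hcop
  · exfalso
    apply hYU
    have hKn : K ≤ Subgroup.normalizer (C : Set H) := hKE.trans hEC
    have hYn : Y ≤ Subgroup.normalizer (C : Set H) := hYE.trans hEC
    have ha : ⁅⁅K, Y⁆, K⁆ ≤ C :=
      (Subgroup.commutator_mono le_sup_left (hKO.trans le_sup_left)).trans h1
    have hb : ⁅⁅K, K⁆, Y⁆ ≤ C := by
      apply three_subgroups_rel C K K Y hKn hKn hYn ha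
      rw [Subgroup.commutator_comm Y K]
      exact ha
    rw [hperfK] at hb
    have hc : ⁅O ⊔ C, Y⁆ ≤ C := by
      rw [hsup]
      have := commutator_sup_sup_le C K C Y Y hKn Subgroup.le_normalizer hYn hYn hb hb
        (commutator_le_left_of_le_normalizer hYn) (commutator_le_left_of_le_normalizer hYn)
      rwa [sup_idem] at this
    have hEOC : E ≤ Subgroup.normalizer ((O ⊔ C : Subgroup H) : Set H) :=
      le_normalizer_sup hEO hEC
    set X := E ⊓ commCent (O ⊔ C) C with hX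
    have hYX : Y ≤ X := le_inf hYE (le_commCent hYn hc)
    have hCX : C ≤ X := le_inf hCE (le_commCent Subgroup.le_normalizer
      (commutator_le_right_of_le_normalizer (hOCE.trans hEC)))
    have hEX : E ≤ Subgroup.normalizer (X : Set H) :=
      le_normalizer_inf Subgroup.le_normalizer (le_normalizer_commCent hEOC hEC)
    obtain ⟨P, hP, hYP⟩ := exists_isSylowIn_ge hYX hYp
    have hresX : (pResidual p ↥X).map X.subtype ≤ O ⊔ C := by
      rw [pResidualOf_eq_closure, Subgroup.closure_le]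
      rintro b ⟨hb, hcop⟩
      exact Subgroup.mem_sup_left (hOgen b (inf_le_left (a := E) hb) hcop)
    have hPC : E ≤ Subgroup.normalizer ((P ⊔ C : Subgroup H) : Set H) := by
      apply le_normalizer_of_map_cj_le
      intro e he
      rw [Subgroup.map_sup, mem_normalizer_iff_map_cj.1 (hEC he)]
      apply sup_le _ le_sup_right
      have hP' : IsSylowIn p (P.map (cj e)) X := by
        have := hP.map_cj e
        rwa [mem_normalizer_iff_map_cj.1 (hEX he)] at this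
      obtain ⟨x, hx, hPx⟩ := hP.exists_conj hP'
      obtain ⟨r, hr, t, ht, hxrt⟩ := exists_mul_of_pResidualOf_sylow hP hx
      rw [hPx, hxrt, ← map_cj_mul, map_cj_eq_self_of_mem ht]
      rintro _ ⟨t', ht', rfl⟩
      have e1 : cj r t' = ⁅r, t'⁆ * t' := by rw [cj_apply, commutatorElement_def]; group
      rw [e1]
      have ht'X : t' ∈ X := hP.1 ht'
      have hcomm : ⁅r, t'⁆ ∈ C := (mem_commCent.1 (inf_le_right (a := E) ht'X)).2 r (hresX hr)
      exact Subgroup.mul_mem _ (Subgroup.mem_sup_right hcomm) (Subgroup.mem_sup_left ht')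
    have hPle : P ≤ C := hred P (hP.1.trans inf_le_left) hP.2.1 hPC
    exact (hYP.trans hPle).trans (hC ▸ inf_le_right)

/-- Grün-type step: elements of `K` central modulo `C_K(U)` are central modulo `O_p(K)` -/
theorem QsSetup.grun {Q U E : Subgroup H} (h : QsSetup p Q U E) (W K : Subgroup H)
    (hW : W = weakClosure Q E) (hK : K = (pResidual p ↥W).map W.subtype)
    (y : H) (hy : y ∈ K) (hyc : ∀ k ∈ K, ⁅y, k⁆ ∈ Subgroup.centralizer (U : Set H)) :
    ∀ k ∈ K, ⁅y, k⁆ ∈ pCoreOf p K := by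
  obtain ⟨hDW, hED, hperfK, hresK, hcoreU, hPDK⟩ :=
    h.perfect _ _ W K (K ⊓ Subgroup.centralizer (U : Set H)) rfl rfl hW hK rfl
  obtain ⟨hwc, hCE, hEC, hCQ, hOE, hEO, hKO, hKC, hgen, hOgen⟩ :=
    h.basic _ _ W K rfl rfl hW hK
  obtain ⟨hQW, hWE, hEW, hEK, hKW, hconj, hWKQ, hKQ⟩ :=
    wcs_closure_structure h.hQp hwc h.hQE W K hW hK
  set D := K ⊓ Subgroup.centralizer (U : Set H) with hD
  set PK := pCoreOf p K with hPK
  have hKE : K ≤ E := hKW.trans hWE
  have hKD : K ≤ Subgroup.normalizer (D : Set H) := hKE.trans hED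
  have hKPK : K ≤ Subgroup.normalizer (PK : Set H) := le_normalizer_pCoreOf p K
  have hDK' : ⁅D, K⁆ ≤ PK := ((Subgroup.commutator_mono le_rfl hKW).trans hDW).trans hPDK
  set Z₂ := K ⊓ commCent K D with hZ₂
  have hyZ : y ∈ Z₂ := by
    refine ⟨hy, hKD hy, fun k hk => ?_⟩
    have h1 : ⁅y, k⁆ ∈ D := ⟨by
      have := hKPK hy
      rw [commutatorElement_def]
      have h2 : k * y⁻¹ * k⁻¹ ∈ K := K.mul_mem (K.mul_mem hk (K.inv_mem hy)) (K.inv_mem hk)
      have : y * k * y⁻¹ * k⁻¹ = y * (k * y⁻¹ * k⁻¹) := by group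
      rw [this]
      exact K.mul_mem hy h2, hyc k hk⟩
    have e : ⁅k, y⁆ = (⁅y, k⁆)⁻¹ := by
      rw [commutatorElement_def, commutatorElement_def]; group
    rw [e]
    exact D.inv_mem h1
  have hKZ : ⁅K, Z₂⁆ ≤ D := by
    rw [Subgroup.commutator_le]
    intro k hk z hz
    exact (mem_commCent.1 hz.2).2 k hk
  have hZn : Z₂ ≤ Subgroup.normalizer (PK : Set H) := inf_le_left.trans hKPK
  have h1 : ⁅⁅K, Z₂⁆, K⁆ ≤ PK := (Subgroup.commutator_mono hKZ le_rfl).trans hDK'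
  have h2 : ⁅⁅K, K⁆, Z₂⁆ ≤ PK := by
    apply three_subgroups_rel PK K K Z₂ hKPK hKPK hZn h1
    rw [Subgroup.commutator_comm Z₂ K]
    exact h1
  rw [hperfK] at h2
  intro k hk
  have h3 : ⁅k, y⁆ ∈ PK := h2 (Subgroup.commutator_mem_commutator hk hyZ)
  have e : ⁅y, k⁆ = (⁅k, y⁆)⁻¹ := by
    rw [commutatorElement_def, commutatorElement_def]; group
  rw [e]
  exact PK.inv_mem h3

end

end Cfsg.Agent.Helper14
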