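import Cfsg.Agent.Helper14.QsClosure
import Cfsg.Agent.Helper7.Quasisimple

set_option autoImplicit false
set_option linter.unusedSectionVars false

namespace Cfsg.Agent.Helper14

open Cfsg
open scoped commutatorElement Pointwise

section

variable {G : Type*} [Group G] [Finite G] {p : ℕ} [Fact p.Prime]

/-- membership in a join of subgroups of a subgroup, computed in the ambient group -/
theorem mem_sup_subgroupOf_iff {E : Subgroup G} (A B : Subgroup ↥E) (y : ↥E) :
    y ∈ A ⊔ B ↔ (y : G) ∈ A.map E.subtype ⊔ B.map E.subtype := by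
  rw [← Subgroup.map_sup]
  constructor
  · intro h; exact ⟨y, h, rfl⟩
  · rintro ⟨z, hz, hzy⟩
    have : z = y := Subtype.ext hzy
    rwa [this] at hz

/-- the hypotheses of S2860 give the setup `QsSetup` -/
theorem qsSetup_of_hyps (Q : Subgroup G) (hQp : IsPGroup p ↥Q) (hQ1 : Q ≠ ⊥) (hQ : IsLarge Q)
    (U : Subgroup G) (hU : IsElementaryAbelian p U) (hU1 : U ≠ ⊥) (E : Subgroup G) (hQE : Q ≤ E)
    (hEU : E ≤ Subgroup.normalizer ((U : Subgroup G) : Set G))
    (hQn : ¬ E ≤ Subgroup.normalizer ((Q : Subgroup G) : Set G))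
    [hn : ((Subgroup.centralizer ((U : Subgroup G) : Set G)).subgroupOf E).Normal]
    (hred : pCore p (↥E ⧸ (Subgroup.centralizer ((U : Subgroup G) : Set G)).subgroupOf E) = ⊥)
    (hqs : IsQuasisimple ↥(((pResidual p ↥E) ⊔
      (Subgroup.centralizer ((U : Subgroup G) : Set G)).subgroupOf E).map
      (QuotientGroup.mk' ((Subgroup.centralizer ((U : Subgroup G) : Set G)).subgroupOf E)))) :
    QsSetup p Q U E := by
  set CE := (Subgroup.centralizer ((U : Subgroup G) : Set G)).subgroupOf E with hCE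
  set π := QuotientGroup.mk' CE with hπ
  set OCE := pResidual p ↥E ⊔ CE with hOCE
  set Kb := OCE.map π with hKb
  set C := E ⊓ Subgroup.centralizer (U : Set G) with hC
  set O := (pResidual p ↥E).map E.subtype with hO
  have hCEmap : CE.map E.subtype = C := by
    rw [hCE, Subgroup.subgroupOf_map_subtype, inf_comm]
  have hmemOCE : ∀ y : ↥E, y ∈ OCE ↔ (y : G) ∈ O ⊔ C := by
    intro y
    rw [hOCE, mem_sup_subgroupOf_iff, hCEmap]
  have hker : ∀ y : ↥E, π y = 1 ↔ (y : G) ∈ Subgroup.centralizer (U : Set G) := by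
    intro y
    rw [hπ, QuotientGroup.mk'_apply, QuotientGroup.eq_one_iff, hCE, Subgroup.mem_subgroupOf]
  have hEC : E ≤ Subgroup.normalizer (C : Set G) :=
    le_normalizer_inf Subgroup.le_normalizer (hEU.trans (normalizer_le_normalizer_centralizer' U))
  refine ⟨hQp, hQ1, hQ, isPGroup_of_isElementaryAbelian hU, hU1, hQE, hEU, hQn, ?_, ?_, ?_⟩
  · -- quasisimple dichotomy
    intro N hCN hNOC hnorm
    have hNE : N ≤ E := hNOC.trans (sup_le (pResidualOf_le E) inf_le_left)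
    set NE := N.subgroupOf E with hNEdef
    set Nb := NE.map π with hNb
    have hNbKb : Nb ≤ Kb := by
      apply Subgroup.map_mono
      intro y hy
      rw [hmemOCE]
      exact hNOC (Subgroup.mem_subgroupOf.1 hy)
    have hnormal : (Nb.subgroupOf Kb).Normal := by
      constructor
      rintro ⟨n, hnK⟩ hn ⟨g, hg⟩
      rw [Subgroup.mem_subgroupOf] at hn ⊢
      obtain ⟨y, hy, rfl⟩ := hn
      obtain ⟨x, hx, rfl⟩ := hg
      show π x * π y * (π x)⁻¹ ∈ Nb
      rw [← map_inv, ← map_mul, ← map_mul]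
      refine ⟨x * y * x⁻¹, ?_, rfl⟩
      show x * y * x⁻¹ ∈ N.subgroupOf E
      rw [Subgroup.mem_subgroupOf]
      have hxn := hnorm ((hmemOCE x).1 hx)
      have hy' : y ∈ N.subgroupOf E := hy
      exact ((Subgroup.mem_normalizer_iff.1 hxn) _).1 (Subgroup.mem_subgroupOf.1 hy')
    rcases Helper7.IsQuasisimple.normal_eq_top_or_le_center hqs (Nb.subgroupOf Kb) with h1 | h1
    · left
      have hKN : Kb ≤ Nb := by
        intro k hk
        have : (⟨k, hk⟩ : ↥Kb) ∈ Nb.subgroupOf Kb := by rw [h1]; trivial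
        exact Subgroup.mem_subgroupOf.1 this
      intro x hx
      have hxE : x ∈ E := sup_le (pResidualOf_le E) inf_le_left hx
      have h2 : π ⟨x, hxE⟩ ∈ Nb := hKN ⟨⟨x, hxE⟩, (hmemOCE _).2 hx, rfl⟩
      obtain ⟨y, hy, hyx⟩ := h2
      have h3 : π (y⁻¹ * ⟨x, hxE⟩) = 1 := by rw [map_mul, map_inv, hyx, inv_mul_cancel]
      rw [hker] at h3
      have h4 : (y : G)⁻¹ * x ∈ C := ⟨E.mul_mem (E.inv_mem y.2) hxE, h3⟩
      have : x = (y : G) * ((y : G)⁻¹ * x) := by group
      rw [this]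
      exact N.mul_mem (Subgroup.mem_subgroupOf.1 hy) (hCN h4)
    · right
      rw [Subgroup.commutator_le]
      intro n hn x hx
      have hnE : n ∈ E := hNE hn
      have hxE : x ∈ E := sup_le (pResidualOf_le E) inf_le_left hx
      have hnb : π ⟨n, hnE⟩ ∈ Nb := ⟨⟨n, hnE⟩, Subgroup.mem_subgroupOf.2 hn, rfl⟩
      have hxb : π ⟨x, hxE⟩ ∈ Kb := ⟨⟨x, hxE⟩, (hmemOCE _).2 hx, rfl⟩
      have hcen : (⟨π ⟨n, hnE⟩, hNbKb hnb⟩ : ↥Kb) ∈ Subgroup.center ↥Kb :=
        h1 (Subgroup.mem_subgroupOf.2 hnb)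
      rw [Subgroup.mem_center_iff] at hcen
      have h2 := congrArg Subtype.val (hcen ⟨π ⟨x, hxE⟩, hxb⟩)
      have h3 : π ⟨x, hxE⟩ * π ⟨n, hnE⟩ = π ⟨n, hnE⟩ * π ⟨x, hxE⟩ := h2
      have h4 : π (⁅(⟨n, hnE⟩ : ↥E), ⟨x, hxE⟩⁆) = 1 := by
        rw [commutatorElement_def, map_mul, map_mul, map_mul, map_inv, map_inv, ← h3]
        group
      rw [hker] at h4
      exact ⟨E.mul_mem (E.mul_mem (E.mul_mem hnE hxE) (E.inv_mem hnE)) (E.inv_mem hxE), h4⟩
  · -- perfect
    have hperf : Group.IsPerfect ↥Kb := hqs.1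
    rw [Subgroup.isPerfect_iff] at hperf
    have h1 : Kb = (⁅OCE, OCE⁆).map π := by
      rw [Subgroup.map_commutator]; exact hperf.symm
    have h2 : (⁅OCE, OCE⁆).map E.subtype = ⁅O ⊔ C, O ⊔ C⁆ := by
      rw [Subgroup.map_commutator, hOCE, Subgroup.map_sup, hCEmap]
    intro x hx
    have hxE : x ∈ E := sup_le (pResidualOf_le E) inf_le_left hx
    have h3 : π ⟨x, hxE⟩ ∈ Kb := ⟨⟨x, hxE⟩, (hmemOCE _).2 hx, rfl⟩
    rw [h1] at h3
    obtain ⟨z, hz, hzx⟩ := h3
    have h4 : π (z⁻¹ * ⟨x, hxE⟩) = 1 := by rw [map_mul, map_inv, hzx, inv_mul_cancel]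
    rw [hker] at h4
    have h5 : (z : G)⁻¹ * x ∈ C := ⟨E.mul_mem (E.inv_mem z.2) hxE, h4⟩
    have : x = (z : G) * ((z : G)⁻¹ * x) := by group
    rw [this]
    refine Subgroup.mul_mem _ (Subgroup.mem_sup_left ?_) (Subgroup.mem_sup_right h5)
    rw [← h2]
    exact ⟨z, hz, rfl⟩
  · -- reduced
    intro P hPE hPp hnorm
    set Pb := (P.subgroupOf E).map π with hPb
    have hPbp : IsPGroup p ↥Pb := (hPp.comap_subtype (K := E)).map π
    have hPbn : Pb.Normal := by
      constructor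
      rintro _ ⟨y, hy, rfl⟩ g
      obtain ⟨g, rfl⟩ := QuotientGroup.mk'_surjective CE g
      rw [← map_inv, ← map_mul, ← map_mul]
      have h1 : ((g * y * g⁻¹ : ↥E) : G) ∈ ((P ⊔ C : Subgroup G) : Set G) := by
        have := ((Subgroup.mem_normalizer_iff.1 (hnorm g.2)) (y : G)).1
          (Subgroup.mem_sup_left (Subgroup.mem_subgroupOf.1 hy))
        exact this
      rw [Subgroup.coe_mul_of_left_le_normalizer_right P C (hPE.trans hEC)] at h1
      obtain ⟨a, ha, c, hc, hac⟩ := h1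
      have haE : a ∈ E := hPE ha
      have hcE : c ∈ E := hc.1
      have e1 : g * y * g⁻¹ = ⟨a, haE⟩ * ⟨c, hcE⟩ := Subtype.ext hac.symm
      have e2 : π ⟨c, hcE⟩ = 1 := (hker _).2 hc.2
      rw [e1, map_mul, e2, mul_one]
      exact ⟨⟨a, haE⟩, Subgroup.mem_subgroupOf.2 ha, rfl⟩
    have h2 : Pb ≤ pCore p (↥E ⧸ CE) := le_pCore p hPbn hPbp
    rw [hred] at h2
    intro x hx
    refine ⟨hPE hx, ?_⟩
    have h3 : π ⟨x, hPE hx⟩ ∈ Pb := ⟨⟨x, hPE hx⟩, Subgroup.mem_subgroupOf.2 hx, rfl⟩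
    have h4 := h2 h3
    rw [Subgroup.mem_bot, hker] at h4
    exact h4

/-- the quotient of a quasisimple group by its centre is not commutative -/
theorem not_isMulCommutative_quotient_center {X : Type*} [Group X] (h : IsQuasisimple X) :
    ¬ IsMulCommutative (X ⧸ Subgroup.center X) := by
  intro hc
  have hp : Group.IsPerfect X := h.1
  have : Subsingleton (X ⧸ Subgroup.center X) := Group.IsPerfect.subsingleton_of_isMulCommutative
  exact not_nontrivial _ h.2.toNontrivial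

/-- parts (4) and (5) of S2860 -/
theorem qs_quotients (Q : Subgroup G) (hQp : IsPGroup p ↥Q) (hQ1 : Q ≠ ⊥) (hQ : IsLarge Q)
    (U : Subgroup G) (hU : IsElementaryAbelian p U) (hU1 : U ≠ ⊥) (E : Subgroup G) (hQE : Q ≤ E)
    (hEU : E ≤ Subgroup.normalizer ((U : Subgroup G) : Set G))
    (hQn : ¬ E ≤ Subgroup.normalizer ((Q : Subgroup G) : Set G))
    [hn : ((Subgroup.centralizer ((U : Subgroup G) : Set G)).subgroupOf E).Normal]
    (hred : pCore p (↥E ⧸ (Subgroup.centralizer ((U : Subgroup G) : Set G)).subgroupOf E) = ⊥)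
    (hqs : IsQuasisimple ↥(((pResidual p ↥E) ⊔
      (Subgroup.centralizer ((U : Subgroup G) : Set G)).subgroupOf E).map
      (QuotientGroup.mk' ((Subgroup.centralizer ((U : Subgroup G) : Set G)).subgroupOf E))))
    (K : Subgroup G)
    (hK : K = (pResidual p ↥(weakClosure Q E)).map (weakClosure Q E).subtype)
    [hn2 : ((Subgroup.centralizer ((U : Subgroup G) : Set G)).subgroupOf K).Normal] :
    IsQuasisimple (↥K ⧸ (Subgroup.centralizer ((U : Subgroup G) : Set G)).subgroupOf K) ∧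
    IsQuasisimple (↥K ⧸ pCore p ↥K) := by
  have hS : QsSetup p Q U E := qsSetup_of_hyps Q hQp hQ1 hQ U hU hU1 E hQE hEU hQn hred hqs
  set CE := (Subgroup.centralizer ((U : Subgroup G) : Set G)).subgroupOf E with hCE
  set π := QuotientGroup.mk' CE with hπ
  set OCE := pResidual p ↥E ⊔ CE with hOCE
  set Kb := OCE.map π with hKb
  set C := E ⊓ Subgroup.centralizer (U : Set G) with hC
  set O := (pResidual p ↥E).map E.subtype with hO
  set W := weakClosure Q E with hW
  have hCEmap : CE.map E.subtype = C := by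
    rw [hCE, Subgroup.subgroupOf_map_subtype, inf_comm]
  have hmemOCE : ∀ y : ↥E, y ∈ OCE ↔ (y : G) ∈ O ⊔ C := by
    intro y
    rw [hOCE, mem_sup_subgroupOf_iff, hCEmap]
  have hker : ∀ y : ↥E, π y = 1 ↔ (y : G) ∈ Subgroup.centralizer (U : Set G) := by
    intro y
    rw [hπ, QuotientGroup.mk'_apply, QuotientGroup.eq_one_iff, hCE, Subgroup.mem_subgroupOf]
  obtain ⟨hwc, hCE', hEC, hCQ, hOE, hEO, hKO, hKC, hgen, hOgen⟩ := hS.basic C O W K rfl rfl rfl hK
  obtain ⟨hQW, hWE, hEW, hEK, hKW, hconj, hWKQ, hKQ⟩ :=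
    wcs_closure_structure hQp hwc hQE W K rfl hK
  have hsup := hS.sup_eq C O W K rfl rfl rfl hK
  obtain ⟨hDW, hED, hperfK, hresK, hcoreU, hPDK⟩ :=
    hS.perfect C O W K (K ⊓ Subgroup.centralizer (U : Set G)) rfl rfl rfl hK rfl
  have hKE : K ≤ E := hKW.trans hWE
  have hφmem : ∀ k : ↥K, (π.comp (Subgroup.inclusion hKE)) k ∈ Kb := by
    intro k
    refine ⟨Subgroup.inclusion hKE k, ?_, rfl⟩
    exact (hmemOCE _).2 (Subgroup.mem_sup_left (hKO k.2))
  set φ : ↥K →* ↥Kb := (π.comp (Subgroup.inclusion hKE)).codRestrict Kb hφmem with hφ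
  have hφval : ∀ k : ↥K, ((φ k : ↥Kb) : ↥E ⧸ CE) = π (Subgroup.inclusion hKE k) := fun k => rfl
  have hφone : ∀ k : ↥K, φ k = 1 ↔ (k : G) ∈ Subgroup.centralizer (U : Set G) := by
    intro k
    have h0 : π (Subgroup.inclusion hKE k) = 1 ↔ (k : G) ∈ Subgroup.centralizer (U : Set G) :=
      hker (Subgroup.inclusion hKE k)
    rw [← h0]
    constructor
    · intro h; rw [← hφval, h]; rfl
    · intro h; apply Subtype.ext; rw [hφval, h]; rfl
  have hφsurj : Function.Surjective φ := by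
    rintro ⟨_, ⟨x, hx, rfl⟩⟩
    have hx' : (x : G) ∈ ((K ⊔ C : Subgroup G) : Set G) := by
      rw [← hsup]; exact (hmemOCE x).1 hx
    rw [Subgroup.coe_mul_of_left_le_normalizer_right K C (hKE.trans hEC)] at hx'
    obtain ⟨k, hk, c, hc, hkc⟩ := hx'
    refine ⟨⟨k, hk⟩, ?_⟩
    apply Subtype.ext
    rw [hφval]
    have e1 : x = Subgroup.inclusion hKE ⟨k, hk⟩ * ⟨c, hc.1⟩ := Subtype.ext hkc.symm
    have e2 : π ⟨c, hc.1⟩ = 1 := (hker _).2 hc.2
    have e3 : π x = π (Subgroup.inclusion hKE ⟨k, hk⟩) := by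
      rw [e1, map_mul, e2, mul_one]
    exact e3.symm
  have hφker : (Subgroup.centralizer ((U : Subgroup G) : Set G)).subgroupOf K = φ.ker := by
    ext k
    rw [MonoidHom.mem_ker, hφone, Subgroup.mem_subgroupOf]
  constructor
  · have e₁ : ↥K ⧸ φ.ker ≃* ↥Kb := QuotientGroup.quotientKerEquivOfSurjective φ hφsurj
    have e₂ : ↥K ⧸ (Subgroup.centralizer ((U : Subgroup G) : Set G)).subgroupOf K ≃* ↥K ⧸ φ.ker :=
      QuotientGroup.quotientMulEquivOfEq hφker
    exact Helper7.isQuasisimple_of_mulEquiv (e₂.trans e₁).symm hqs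
  · have hsimple : IsSimpleGroup (↥Kb ⧸ Subgroup.center ↥Kb) := hqs.2
    have hna := not_isMulCommutative_quotient_center hqs
    set f₀ : ↥K →* ↥Kb ⧸ Subgroup.center ↥Kb :=
      (QuotientGroup.mk' (Subgroup.center ↥Kb)).comp φ with hf₀
    have hcore_mem : ∀ x : ↥K, x ∈ pCore p ↥K ↔ (x : G) ∈ pCoreOf p K := by
      intro x
      unfold pCoreOf
      constructor
      · intro h; exact ⟨x, h, rfl⟩
      · rintro ⟨z, hz, hzx⟩
        have : z = x := Subtype.ext hzx
        rwa [this] at hz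
    have hle : pCore p ↥K ≤ f₀.ker := by
      intro x hx
      rw [MonoidHom.mem_ker, hf₀, MonoidHom.comp_apply]
      have : φ x = 1 := (hφone x).2 (hcoreU ((hcore_mem x).1 hx))
      rw [this, map_one]
    set f : ↥K ⧸ pCore p ↥K →* ↥Kb ⧸ Subgroup.center ↥Kb :=
      QuotientGroup.lift (pCore p ↥K) f₀ hle with hf
    have hfsurj : Function.Surjective f := by
      intro s
      obtain ⟨y, rfl⟩ := QuotientGroup.mk'_surjective _ s
      obtain ⟨k, rfl⟩ := hφsurj y
      exact ⟨QuotientGroup.mk' _ k, rfl⟩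
    have hperf : Group.IsPerfect ↥K := (Subgroup.isPerfect_iff).2 hperfK
    have hfker : f.ker ≤ Subgroup.center (↥K ⧸ pCore p ↥K) := by
      intro q hq
      obtain ⟨y, rfl⟩ := QuotientGroup.mk'_surjective _ q
      rw [MonoidHom.mem_ker] at hq
      have h1 : f₀ y = 1 := hq
      have h2 : φ y ∈ Subgroup.center ↥Kb := by
        rw [hf₀, MonoidHom.comp_apply, QuotientGroup.mk'_apply, QuotientGroup.eq_one_iff] at h1
        exact h1
      rw [Subgroup.mem_center_iff] at h2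
      have h3 : ∀ k : ↥K, ⁅(y : G), (k : G)⁆ ∈ Subgroup.centralizer (U : Set G) := by
        intro k
        have h4 : φ ⁅y, k⁆ = 1 := by
          rw [commutatorElement_def, map_mul, map_mul, map_mul, map_inv, map_inv, ← h2 (φ k)]
          group
        exact (hφone _).1 h4
      have h5 := hS.grun W K rfl hK (y : G) y.2 (fun k hk => h3 ⟨k, hk⟩)
      rw [Subgroup.mem_center_iff]
      intro g
      obtain ⟨k, rfl⟩ := QuotientGroup.mk'_surjective _ g
      rw [← map_mul, ← map_mul, QuotientGroup.mk'_apply, QuotientGroup.mk'_apply, QuotientGroup.eq]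
      have h6 : ⁅y, k⁆ ∈ pCore p ↥K := (hcore_mem _).2 (h5 k k.2)
      have e : (k * y)⁻¹ * (y * k) = (k * y)⁻¹ * ⁅y, k⁆ * (k * y)⁻¹⁻¹ := by
        rw [commutatorElement_def]; group
      rw [e]
      exact (pCore_normal (G := ↥K) p).conj_mem _ h6 _
    exact Helper7.isQuasisimple_of_surjective hna f hfsurj hfker inferInstance

end

end Cfsg.Agent.Helper14
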