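import Mathlib
import Cfsg.Prelude.Def_Sporadic
import Cfsg.Prelude.Def_SporadicB

set_option autoImplicit false

/-! # S0473 piece CARD (helper14): the size of a conjugacy class is the index of the centralizer -/

namespace Cfsg.Agent.Helper17.Fi24He

/-- PIECE CARD: the size of a conjugacy class is the index of the centralizer. -/
theorem card_conjugatesOf_eq_index {J : Type*} [Group J] [Finite J] (g : J) :
    Nat.card (conjugatesOf g) = (Subgroup.centralizer ({g} : Set J)).index := by
  have h1 : conjugatesOf g = MulAction.orbit (ConjAct J) g := by
    ext h
    rw [ConjAct.mem_orbit_conjAct, isConj_comm]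
    rfl
  rw [h1, Nat.card_coe_set_eq, ← MulAction.index_stabilizer]
  exact congrArg Subgroup.index (ConjAct.stabilizer_eq_centralizer g)

end Cfsg.Agent.Helper17.Fi24He
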