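import Mathlib
import Cfsg.Prelude.Def_Sporadic
import Cfsg.Prelude.Def_SporadicB

set_option autoImplicit false

/-! # S0473 piece CONJA (helper14): transport of centralizers along conjugation -/

namespace Cfsg.Agent.Helper17.Fi24He

/-- the centralizer of `c l c⁻¹` is the image of the centralizer of `l` under conjugation by `c` -/
theorem conja_centralizer_conj {J : Type*} [Group J] (c l : J) :
    Subgroup.centralizer ({c * l * c⁻¹} : Set J) =
      (Subgroup.centralizer ({l} : Set J)).map (MulAut.conj c).toMonoidHom := by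
  ext x
  rw [Subgroup.mem_centralizer_singleton_iff, Subgroup.mem_map]
  constructor
  · intro hx
    refine ⟨c⁻¹ * x * c, ?_, ?_⟩
    · rw [Subgroup.mem_centralizer_singleton_iff]
      have h1 : c⁻¹ * (x * (c * l * c⁻¹)) * c = c⁻¹ * (c * l * c⁻¹ * x) * c := by rw [hx]
      calc c⁻¹ * x * c * l = c⁻¹ * (x * (c * l * c⁻¹)) * c := by group
        _ = c⁻¹ * (c * l * c⁻¹ * x) * c := h1
        _ = l * (c⁻¹ * x * c) := by group
    · show c * (c⁻¹ * x * c) * c⁻¹ = x
      group
  · rintro ⟨y, hy, rfl⟩
    rw [Subgroup.mem_centralizer_singleton_iff] at hy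
    show c * y * c⁻¹ * (c * l * c⁻¹) = c * l * c⁻¹ * (c * y * c⁻¹)
    calc c * y * c⁻¹ * (c * l * c⁻¹) = c * (y * l) * c⁻¹ := by group
      _ = c * (l * y) * c⁻¹ := by rw [hy]
      _ = c * l * c⁻¹ * (c * y * c⁻¹) := by group

/-- PIECE CONJ (1): centralizers of conjugate elements have the same order. -/
theorem card_centralizer_of_mem_conjugatesOf {J : Type*} [Group J] {l d : J}
    (hd : d ∈ conjugatesOf l) :
    Nat.card (Subgroup.centralizer ({d} : Set J)) = Nat.card (Subgroup.centralizer ({l} : Set J)) := by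
  obtain ⟨c, rfl⟩ := isConj_iff.mp (show IsConj l d from hd)
  rw [conja_centralizer_conj]
  exact Subgroup.card_map_of_injective (MulAut.conj c).injective

/-- PIECE CONJ (2): a simple subgroup of order `n` of `C(l)` gives one of `C(d)` for every conjugate
`d` of `l`. -/
theorem exists_simple_sub_of_mem_conjugatesOf {J : Type*} [Group J] {l d : J} (n : ℕ)
    (hd : d ∈ conjugatesOf l)
    (h : ∃ K : Subgroup J, K ≤ Subgroup.centralizer ({l} : Set J) ∧ IsSimpleGroup K ∧ Nat.card K = n) :
    ∃ K : Subgroup J, K ≤ Subgroup.centralizer ({d} : Set J) ∧ IsSimpleGroup K ∧ Nat.card K = n := by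
  obtain ⟨c, rfl⟩ := isConj_iff.mp (show IsConj l d from hd)
  obtain ⟨K, hK, hs, hn⟩ := h
  refine ⟨K.map (MulAut.conj c).toMonoidHom, ?_, ?_, ?_⟩
  · rw [conja_centralizer_conj]
    exact Subgroup.map_mono hK
  · exact (K.equivMapOfInjective (MulAut.conj c).toMonoidHom (MulAut.conj c).injective).symm.isSimpleGroup
  · rw [← hn]
    exact Subgroup.card_map_of_injective (MulAut.conj c).injective

end Cfsg.Agent.Helper17.Fi24He
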