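import Mathlib
import Cfsg.Prelude.Def_Sporadic
import Cfsg.Prelude.Def_SporadicB

set_option autoImplicit false

/-! # S0473 piece CONJB (helper14): transport of simplicity and order -/

namespace Cfsg.Agent.Helper17.Fi24He

/-- PIECE CONJ (3): simplicity and order pass to `Subgroup.subgroupOf` for `K ≤ H`, and along the
range of an injective homomorphism. -/
theorem simple_card_subgroupOf {J : Type*} [Group J] {K H : Subgroup J} (hKH : K ≤ H) (n : ℕ)
    (hs : IsSimpleGroup K) (hc : Nat.card K = n) :
    IsSimpleGroup (K.subgroupOf H) ∧ Nat.card (K.subgroupOf H) = n := by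
  have := hs
  refine ⟨(Subgroup.subgroupOfEquivOfLe hKH).isSimpleGroup, ?_⟩
  rw [← hc]
  exact Nat.card_congr (Subgroup.subgroupOfEquivOfLe hKH).toEquiv

theorem simple_card_range {A J : Type*} [Group A] [Group J] (f : A →* J) (hf : Function.Injective f)
    (n : ℕ) (hs : IsSimpleGroup A) (hc : Nat.card A = n) :
    IsSimpleGroup f.range ∧ Nat.card f.range = n := by
  have := hs
  refine ⟨(MonoidHom.ofInjective hf).symm.isSimpleGroup, ?_⟩
  rw [← hc]
  exact Nat.card_congr (MonoidHom.ofInjective hf).symm.toEquiv

/-- PIECE CONJ (4): a homomorphism from a simple group which is nontrivial at one element is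
injective, and the range of a homomorphism from a perfect group lies in the commutator subgroup. -/
theorem injective_of_simple {A J : Type*} [Group A] [Group J] [IsSimpleGroup A] (f : A →* J) (x : A)
    (hx : f x ≠ 1) : Function.Injective f := by
  rw [← MonoidHom.ker_eq_bot_iff]
  rcases (MonoidHom.normal_ker f).eq_bot_or_eq_top with h | h
  · exact h
  · exfalso
    apply hx
    have : x ∈ f.ker := by rw [h]; exact Subgroup.mem_top x
    exact MonoidHom.mem_ker.mp this

theorem range_le_commutator_of_simple {A J : Type*} [Group A] [Group J] [IsSimpleGroup A]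
    (hA : ¬ ∀ a b : A, a * b = b * a) (f : A →* J) : f.range ≤ commutator J := by
  have htop : commutator A = ⊤ := by
    rcases (inferInstance : (commutator A).Normal).eq_bot_or_eq_top with h | h
    · exfalso
      apply hA
      intro a b
      have hmem : a * b * a⁻¹ * b⁻¹ ∈ commutator A := by
        rw [commutator_def]
        exact Subgroup.commutator_mem_commutator (Subgroup.mem_top a) (Subgroup.mem_top b)
      rw [h, Subgroup.mem_bot] at hmem
      calc a * b = a * b * a⁻¹ * b⁻¹ * (b * a) := by group
        _ = b * a := by rw [hmem, one_mul]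
    · exact h
  rw [MonoidHom.range_eq_map, ← htop, commutator_def, Subgroup.map_commutator, commutator_def]
  exact Subgroup.commutator_mono le_top le_top

end Cfsg.Agent.Helper17.Fi24He
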