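import Mathlib
import Cfsg.Prelude.Def_Sporadic
import Cfsg.Prelude.Def_SporadicB

set_option autoImplicit false

/-! # S0473 piece TT3 (helper14): the class of `l` is a set of 3-transpositions -/

namespace Cfsg.Agent.Helper17.Fi24He

/-- PIECE TT3: the class of `l` is a set of 3-transpositions, from a decomposition of the group into
three double cosets of `H = C(l)`. -/
theorem three_transposition_of_cover {J : Type*} [Group J] (H : Subgroup J) (l k a u : J)
    (hl : l * l = 1) (hk : k * k = 1)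
    (hH : Subgroup.centralizer ({l} : Set J) = H)
    (cover : ∀ g : J, g ∈ H ∨ (∃ h ∈ H, ∃ h' ∈ H, g = h * k * h') ∨
      (∃ h ∈ H, ∃ h' ∈ H, g = h * u * h'))
    (hlk : (l * k) ^ 3 = 1) (hu : u * l * u⁻¹ = a) (hla : (l * a) ^ 2 = 1) :
    ∀ d ∈ conjugatesOf l, ∀ e ∈ conjugatesOf l, (d * e) ^ 2 = 1 ∨ (d * e) ^ 3 = 1 := by
  intro d hd e he
  obtain ⟨x, rfl⟩ := isConj_iff.mp (show IsConj l d from hd)
  obtain ⟨y, rfl⟩ := isConj_iff.mp (show IsConj l e from he)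
  have hmem : ∀ h, h ∈ H ↔ h * l = l * h := by
    intro h
    rw [← hH, Subgroup.mem_centralizer_singleton_iff]
  have hkinv : k⁻¹ = k := inv_eq_of_mul_eq_one_left hk
  rcases cover (x⁻¹ * y) with hg | ⟨h, hh, h', hh', hg⟩ | ⟨h, hh, h', hh', hg⟩
  · left
    rw [hmem] at hg
    have h1 : x * l * x⁻¹ * (y * l * y⁻¹) = 1 := by
      calc x * l * x⁻¹ * (y * l * y⁻¹) = x * l * ((x⁻¹ * y) * l) * y⁻¹ := by group
        _ = x * l * (l * (x⁻¹ * y)) * y⁻¹ := by rw [hg]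
        _ = x * (l * l) * x⁻¹ * y * y⁻¹ := by group
        _ = 1 := by rw [hl]; group
    rw [h1, one_pow]
  · right
    have hy : y = x * (h * k * h') := by rw [← hg]; group
    rw [hmem] at hh hh'
    have h1 : x * l * x⁻¹ * (y * l * y⁻¹) = (x * h) * (l * k) ^ 2 * (x * h)⁻¹ := by
      rw [hy]
      calc x * l * x⁻¹ * (x * (h * k * h') * l * (x * (h * k * h'))⁻¹)
          = x * l * h * k * (h' * l) * h'⁻¹ * k⁻¹ * h⁻¹ * x⁻¹ := by group
        _ = x * l * h * k * (l * h') * h'⁻¹ * k⁻¹ * h⁻¹ * x⁻¹ := by rw [hh']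
        _ = x * (l * h) * k * l * k⁻¹ * h⁻¹ * x⁻¹ := by group
        _ = x * (h * l) * k * l * k * h⁻¹ * x⁻¹ := by rw [← hh, hkinv]
        _ = (x * h) * (l * k) ^ 2 * (x * h)⁻¹ := by rw [pow_two]; group
    rw [h1, conj_pow, ← pow_mul, mul_comm 2 3, pow_mul, hlk, one_pow, mul_one, mul_inv_cancel]
  · left
    have hy : y = x * (h * u * h') := by rw [← hg]; group
    rw [hmem] at hh hh'
    have h1 : x * l * x⁻¹ * (y * l * y⁻¹) = (x * h) * (l * a) * (x * h)⁻¹ := by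
      rw [hy]
      calc x * l * x⁻¹ * (x * (h * u * h') * l * (x * (h * u * h'))⁻¹)
          = x * l * h * u * (h' * l) * h'⁻¹ * u⁻¹ * h⁻¹ * x⁻¹ := by group
        _ = x * l * h * u * (l * h') * h'⁻¹ * u⁻¹ * h⁻¹ * x⁻¹ := by rw [hh']
        _ = x * (l * h) * (u * l * u⁻¹) * h⁻¹ * x⁻¹ := by group
        _ = x * (h * l) * a * h⁻¹ * x⁻¹ := by rw [← hh, hu]
        _ = (x * h) * (l * a) * (x * h)⁻¹ := by group
    rw [h1, conj_pow, hla, mul_one, mul_inv_cancel]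

end Cfsg.Agent.Helper17.Fi24He
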