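import Cfsg.Agent.Helper27.S0745Defs
import Cfsg.Agent.S0744

/-! # S0745 board (helper27): row FIXTRIV (helper14) -/

set_option autoImplicit false

namespace Cfsg.Agent.S0745P

open Equiv

variable {α : Type*} [Fintype α] [DecidableEq α]

/-- pointwise stabilisers of sets in one `G`-orbit have the same order -/
theorem fix_triv_aux_card (G : Subgroup (Perm α)) (s s' : Finset α) (g : Perm α) (hg : g ∈ G)
    (hgs : ∀ x, g x ∈ s' ↔ x ∈ s) :
    Nat.card (fixingSubgroup G (s : Set α)) = Nat.card (fixingSubgroup G (s' : Set α)) := by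
  refine Nat.card_congr ((MulAut.conj (⟨g, hg⟩ : ↥G)).toEquiv.subtypeEquiv ?_)
  intro a
  show a ∈ fixingSubgroup G (s : Set α) ↔ (⟨g, hg⟩ : ↥G) * a * (⟨g, hg⟩ : ↥G)⁻¹ ∈ fixingSubgroup G (s' : Set α)
  rw [mem_fixingSubgroup_iff, mem_fixingSubgroup_iff]
  constructor
  · intro ha y' hy'
    have hy : g⁻¹ y' ∈ s := by
      rw [← hgs]; simpa using hy'
    have h1 := ha _ hy
    show g ((a : Perm α) (g⁻¹ y')) = y'
    have h1' : (a : Perm α) (g⁻¹ y') = g⁻¹ y' := h1
    rw [h1']; simp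
  · intro ha y hy
    have hy' : g y ∈ s' := (hgs y).2 hy
    have h1 := ha _ hy'
    have h1' : g ((a : Perm α) (g⁻¹ (g y))) = g y := h1
    rw [show g⁻¹ (g y) = y from by simp] at h1'
    exact g.injective h1'

/-- FIXTRIV (uses S0744) -/
theorem fix_triv (G : Subgroup (Perm α)) (t : ℕ) (htn : t + 2 ≤ Fintype.card α)
    (hnt : ¬ MulAction.IsMultiplyPretransitive G α (t + 1))
    (h1 : ∀ s s' : Finset α, s.card = t + 1 → s'.card = t + 1 → ∃ g ∈ G, ∀ x, g x ∈ s' ↔ x ∈ s)
    (h2 : ∀ s s' : Finset α, s.card = t + 2 → s'.card = t + 2 → ∃ g ∈ G, ∀ x, g x ∈ s' ↔ x ∈ s) :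
    ∀ g ∈ G, ∀ s : Finset α, s.card = t + 1 → (∀ x ∈ s, g x = x) → g = 1 := by
  obtain ⟨s₁, -, hs₁⟩ := Finset.exists_subset_card_eq (s := (Finset.univ : Finset α)) (n := t + 1)
    (by rw [Finset.card_univ]; omega)
  obtain ⟨s₂, -, hs₂⟩ := Finset.exists_subset_card_eq (s := (Finset.univ : Finset α)) (n := t + 2)
    (by rw [Finset.card_univ]; omega)
  have hl : ∀ s : Finset α, s.card = t + 1 →
      Nat.card (fixingSubgroup G (s : Set α)) = Nat.card (fixingSubgroup G (s₁ : Set α)) := by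
    intro s hs
    obtain ⟨g, hg, hgs⟩ := h1 s s₁ hs hs₁
    exact fix_triv_aux_card G s s₁ g hg hgs
  have hm : ∀ s : Finset α, s.card = t + 2 →
      Nat.card (fixingSubgroup G (s : Set α)) = Nat.card (fixingSubgroup G (s₂ : Set α)) := by
    intro s hs
    obtain ⟨g, hg, hgs⟩ := h2 s s₂ hs hs₂
    exact fix_triv_aux_card G s s₂ g hg hgs
  have hl1 : Nat.card (fixingSubgroup G (s₁ : Set α)) = 1 := by
    by_contra hne
    have hpos : 0 < Nat.card (fixingSubgroup G (s₁ : Set α)) := Nat.card_pos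
    have hlt : 1 < Nat.card (fixingSubgroup G (s₁ : Set α)) := by omega
    apply hnt
    have := Cfsg.Agent.S0744.result G (k := t + 2) (by omega) htn _ _ hlt
      (fun s hs => hl s (by rw [hs]; omega)) (fun s hs => hm s hs)
    simpa using this
  intro g hg s hs hgs
  have hcard : Nat.card (fixingSubgroup G (s : Set α)) = 1 := by rw [hl s hs, hl1]
  have hsub : Subsingleton ↥(fixingSubgroup G (s : Set α)) := (Nat.card_eq_one_iff_unique.1 hcard).1
  have hmem : (⟨g, hg⟩ : ↥G) ∈ fixingSubgroup G (s : Set α) := by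
    rw [mem_fixingSubgroup_iff]
    intro y hy
    exact hgs y hy
  have := Subsingleton.elim (⟨⟨g, hg⟩, hmem⟩ : ↥(fixingSubgroup G (s : Set α))) 1
  have h3 := congrArg (fun z : ↥(fixingSubgroup G (s : Set α)) => ((z : ↥G) : Perm α)) this
  simpa using h3

end Cfsg.Agent.S0745P
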