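import Cfsg.Agent.Helper14.S0745L0PAIR

/-! # S0745 board (helper27): rows FULL and L0 (helper14), cores with CARDL as a hypothesis -/

set_option autoImplicit false

namespace Cfsg.Agent.S0745P

open Equiv

variable {α : Type*} [Fintype α] [DecidableEq α]

/-- core of FULL: `hL` = CARDL -/
theorem not_all_swaps_aux_core {G : Subgroup (Perm α)} {t r : ℕ} (hr : 2 ≤ r) (Δ : Finset α)
    (hΔ : Δ.card = t + 1) (hL : Nat.card (SS G Δ) * r = (t + 1).factorial)
    (hsw : ∀ a ∈ Δ, ∀ b ∈ Δ, a ≠ b →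
      ∃ g ∈ G, g a = b ∧ g b = a ∧ ∀ x ∈ Δ, x ≠ a → x ≠ b → g x = x) : False := by
  -- the restriction map is onto
  have hsurj : Function.Surjective (resHom G Δ) := by
    rw [← MonoidHom.range_eq_top, eq_top_iff, ← Equiv.Perm.closure_isSwap, Subgroup.closure_le]
    rintro σ ⟨⟨a, ha⟩, ⟨b, hb⟩, hab, rfl⟩
    have hab' : a ≠ b := fun h => hab (Subtype.ext h)
    obtain ⟨g, hg, hga, hgb, hgx⟩ := hsw a ha b hb hab'
    have hgΔ : ∀ x ∈ Δ, g x ∈ Δ := by
      intro x hx
      by_cases hxa : x = a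
      · rw [hxa, hga]; exact hb
      · by_cases hxb : x = b
        · rw [hxb, hgb]; exact ha
        · rw [hgx x hx hxa hxb]; exact hx
    refine ⟨⟨g, mem_SS_of_maps hg hgΔ⟩, ?_⟩
    ext ⟨x, hx⟩
    rw [resHom_apply]
    show g x = ((Equiv.swap (⟨a, ha⟩ : {x // x ∈ Δ}) ⟨b, hb⟩) ⟨x, hx⟩ : α)
    by_cases hxa : x = a
    · subst hxa
      rw [Equiv.swap_apply_left, hga]
    · by_cases hxb : x = b
      · subst hxb
        rw [Equiv.swap_apply_right, hgb]
      · rw [Equiv.swap_apply_of_ne_of_ne (fun h => hxa (congrArg Subtype.val h))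
          (fun h => hxb (congrArg Subtype.val h)), hgx x hx hxa hxb]
  have hfin : Finite ↥(SS G Δ) := inferInstance
  have h1 : Nat.card (Perm {x // x ∈ Δ}) ≤ Nat.card ↥(SS G Δ) := Nat.card_le_card_of_surjective _ hsurj
  have h2 : Nat.card (Perm {x // x ∈ Δ}) = (t + 1).factorial := by
    rw [Nat.card_eq_fintype_card, Fintype.card_perm, Fintype.card_coe, hΔ]
  have h3 : 0 < (t + 1).factorial := Nat.factorial_pos _
  rw [h2] at h1
  have h4 : Nat.card ↥(SS G Δ) * 2 ≤ Nat.card ↥(SS G Δ) * r := Nat.mul_le_mul_left _ hr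
  omega

/-- core of L0 (`odd_c`): `hL` = CARDL for one `(t+1)`-set -/
theorem odd_c_aux_core {G : Subgroup (Perm α)} {t c r : ℕ} (h : Hyp G t c r)
    (hL : ∀ Δ : Finset α, Δ.card = t + 1 → Nat.card (SS G Δ) * r = (t + 1).factorial) : Odd c := by
  by_contra hcon
  rw [Nat.not_odd_iff_even] at hcon
  have hn : t + 1 ≤ Fintype.card α := by
    have := h.deg; have := h.two_le
    have hc : 0 < c := by
      obtain ⟨Γ, -, hΓ⟩ := Finset.exists_subset_card_eq (s := (Finset.univ : Finset α)) (n := t)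
        (by rw [Finset.card_univ, h.deg]; omega)
      rw [← h.cardH Γ hΓ]; exact Nat.card_pos
    nlinarith
  obtain ⟨Δ, -, hΔ⟩ := Finset.exists_subset_card_eq (s := (Finset.univ : Finset α)) (n := t + 1)
    (by rw [Finset.card_univ]; exact hn)
  refine not_all_swaps_aux_core h.two_le Δ hΔ (hL Δ hΔ) ?_
  intro a ha b hb hab
  have hF : ((Δ.erase a).erase b).card = t - 1 := by
    rw [Finset.card_erase_of_mem (Finset.mem_erase.2 ⟨hab.symm, hb⟩), Finset.card_erase_of_mem ha, hΔ]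
    omega
  obtain ⟨g, hg, hgF, hga, hgb⟩ := swap_of_even h hcon ((Δ.erase a).erase b) hF a b
    (by simp) (by simp) hab
  refine ⟨g, hg, hga, hgb, ?_⟩
  intro x hx hxa hxb
  exact hgF x (Finset.mem_erase.2 ⟨hxb, Finset.mem_erase.2 ⟨hxa, hx⟩⟩)

end Cfsg.Agent.S0745P
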