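import Cfsg.Agent.Helper14.S0745FULL
import Cfsg.Agent.Helper3.S0745CARDL

/-! # Board `s0745pieces`: rows FULL and L0 (helper14), official wrappers around the cores in
`Helper14.S0745FULL`. -/

set_option autoImplicit false

namespace Cfsg.Agent.S0745P

open Equiv

variable {α : Type*} [Fintype α] [DecidableEq α]

/-- FULL -/
theorem not_all_swaps {G : Subgroup (Perm α)} {t c r : ℕ} (h : Hyp G t c r) (Δ : Finset α)
    (hΔ : Δ.card = t + 1)
    (hsw : ∀ a ∈ Δ, ∀ b ∈ Δ, a ≠ b →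
      ∃ g ∈ G, g a = b ∧ g b = a ∧ ∀ x ∈ Δ, x ≠ a → x ≠ b → g x = x) : False :=
  not_all_swaps_aux_core h.two_le Δ hΔ (card_L h Δ hΔ) hsw

/-- L0 -/
theorem odd_c {G : Subgroup (Perm α)} {t c r : ℕ} (h : Hyp G t c r) : Odd c :=
  odd_c_aux_core h (fun Δ hΔ => card_L h Δ hΔ)

end Cfsg.Agent.S0745P
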