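import Cfsg.Agent.Helper27.S0745Defs

/-! # S0745 board (helper27): rows NFIXLE, I1, LIFT, NFIXSWAP (helper14) -/

set_option autoImplicit false

namespace Cfsg.Agent.S0745P

open Equiv

variable {α : Type*} [Fintype α] [DecidableEq α]

/-- NFIXLE -/
theorem nfix_le {G : Subgroup (Perm α)} {t c r : ℕ} (h : Hyp G t c r) {g : Perm α} (hg : g ∈ G)
    (hg1 : g ≠ 1) : nfix g ≤ t := by
  by_contra hcon
  push Not at hcon
  unfold nfix at hcon
  obtain ⟨s, hs, hsc⟩ := Finset.exists_subset_card_eq (s := Finset.univ.filter fun x => g x = x) (n := t + 1) hcon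
  apply hg1
  refine h.semireg g hg s hsc ?_
  intro x hx
  exact (Finset.mem_filter.1 (hs hx)).2

theorem inv_nfix_aux_nfix_eq (u : Perm α) : nfix u = (u.support)ᶜ.card := by
  unfold nfix
  congr 1
  ext x
  simp [Perm.mem_support]

theorem inv_nfix_aux_parity {u : Perm α} (hu2 : u ^ 2 = 1) : nfix u % 2 = Fintype.card α % 2 := by
  have : Fact (Nat.Prime 2) := ⟨Nat.prime_two⟩
  have h1 : u ^ 2 ^ 1 = 1 := by simpa using hu2
  have := Equiv.Perm.card_compl_support_modEq (p := 2) (n := 1) h1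
  rw [inv_nfix_aux_nfix_eq]
  exact this

/-- I1 -/
theorem inv_nfix {G : Subgroup (Perm α)} {t c r : ℕ} (h : Hyp G t c r) (hc : Odd c) {u : Perm α}
    (hu : u ∈ G) (hu2 : u ^ 2 = 1) (hu1 : u ≠ 1) :
    nfix u + 1 ≤ t ∧ nfix u % 2 = Fintype.card α % 2 := by
  refine ⟨?_, inv_nfix_aux_parity hu2⟩
  have hle := nfix_le h hu hu1
  by_contra hcon
  have heq : nfix u = t := by omega
  -- `u` lies in the pointwise stabiliser of its fixed-point set, of odd order `c`
  set Γ : Finset α := Finset.univ.filter fun x => u x = x with hΓ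
  have hΓc : Γ.card = t := heq
  have huΓ : u ∈ PS G Γ := ⟨hu, fun x hx => (Finset.mem_filter.1 hx).2⟩
  have hcard := h.cardH Γ hΓc
  have hord : orderOf u = 2 := orderOf_eq_prime hu2 hu1
  have hdvd : orderOf (⟨u, huΓ⟩ : ↥(PS G Γ)) ∣ Nat.card ↥(PS G Γ) := orderOf_dvd_natCard _
  rw [Subgroup.orderOf_mk, hord, hcard] at hdvd
  obtain ⟨k, rfl⟩ := hc
  omega

/-- an element of `G` inducing the transposition `(a b)` on `Γ` -/
theorem exists_lift_aux_swap {G : Subgroup (Perm α)} {t c r : ℕ} (h : Hyp G t c r)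
    (Γ : Finset α) (hΓ : Γ.card = t) (a b : α) :
    ∃ g ∈ G, ∀ x ∈ Γ, g x = Equiv.swap a b x := by
  let e : Fin t ≃ {x // x ∈ Γ} := (Γ.equivFinOfCardEq hΓ).symm
  let x : Fin t ↪ α := e.toEmbedding.trans (Function.Embedding.subtype _)
  let y : Fin t ↪ α := x.trans (Equiv.swap a b).toEmbedding
  obtain ⟨g, hg, hgx⟩ := h.trans x y
  refine ⟨g, hg, ?_⟩
  intro z hz
  have : z = x (e.symm ⟨z, hz⟩) := by simp [x]
  rw [this, hgx]
  rfl

/-- LIFT -/
theorem exists_lift {G : Subgroup (Perm α)} {t c r : ℕ} (h : Hyp G t c r) (hc : Odd c)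
    (Γ : Finset α) (hΓ : Γ.card = t) (a b : α) (ha : a ∈ Γ) (hb : b ∈ Γ) (hab : a ≠ b) :
    (swapLifts G Γ a b).Nonempty := by
  obtain ⟨g, hg, hgΓ⟩ := exists_lift_aux_swap h Γ hΓ a b
  have hga : g a = b := by rw [hgΓ a ha, Equiv.swap_apply_left]
  have hgb : g b = a := by rw [hgΓ b hb, Equiv.swap_apply_right]
  have hgx : ∀ x ∈ Γ, x ≠ a → x ≠ b → g x = x := fun x hx hxa hxb => by
    rw [hgΓ x hx, Equiv.swap_apply_of_ne_of_ne hxa hxb]
  -- `g ^ 2` fixes `Γ` pointwise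
  have hg2 : g ^ 2 ∈ PS G Γ := by
    refine ⟨G.pow_mem hg 2, fun x hx => ?_⟩
    rw [pow_two, Perm.mul_apply]
    by_cases hxa : x = a
    · rw [hxa, hga, hgb]
    · by_cases hxb : x = b
      · rw [hxb, hgb, hga]
      · rw [hgx x hx hxa hxb, hgx x hx hxa hxb]
  obtain ⟨k, hk⟩ := hc
  have hcard := h.cardH Γ hΓ
  have hpow : (g ^ 2) ^ c = 1 := by
    have h1 : (⟨g ^ 2, hg2⟩ : ↥(PS G Γ)) ^ Nat.card ↥(PS G Γ) = 1 := pow_card_eq_one'
    rw [hcard] at h1
    have := congrArg Subtype.val h1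
    simpa using this
  -- `(g ^ 2) ^ k` fixes `Γ` pointwise
  have hgk : (g ^ 2) ^ k ∈ PS G Γ := (PS G Γ).pow_mem hg2 k
  refine ⟨g ^ c, ?_⟩
  rw [mem_swapLifts]
  have hgc : g ^ c = (g ^ 2) ^ k * g := by
    rw [hk, pow_succ, pow_mul]
  refine ⟨G.pow_mem hg c, ?_, ?_, ?_, ?_⟩
  · rw [← pow_mul, mul_comm, pow_mul]; exact hpow
  · rw [hgc, Perm.mul_apply, hga]; exact hgk.2 b hb
  · rw [hgc, Perm.mul_apply, hgb]; exact hgk.2 a ha
  · intro x hx hxa hxb
    rw [hgc, Perm.mul_apply, hgx x hx hxa hxb]; exact hgk.2 x hx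

/-- NFIXSWAP -/
theorem nfix_swapLift {G : Subgroup (Perm α)} {t c r : ℕ} (h : Hyp G t c r) (hc : Odd c)
    (Γ : Finset α) (hΓ : Γ.card = t) (a b : α) (ha : a ∈ Γ) (hb : b ∈ Γ) (hab : a ≠ b)
    {u : Perm α} (hu : u ∈ swapLifts G Γ a b) : nfix u = t - 2 + r % 2 := by
  rw [mem_swapLifts] at hu
  obtain ⟨huG, hu2, hua, hub, hux⟩ := hu
  have hu1 : u ≠ 1 := by
    intro h1
    rw [h1] at hua
    exact hab hua
  obtain ⟨hle, hpar⟩ := inv_nfix h hc huG hu2 hu1
  -- at least `t - 2` fixed points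
  have hge : t - 2 ≤ nfix u := by
    have hsub : (Γ.erase a).erase b ⊆ Finset.univ.filter fun x => u x = x := by
      intro x hx
      rw [Finset.mem_erase, Finset.mem_erase] at hx
      exact Finset.mem_filter.2 ⟨Finset.mem_univ _, hux x hx.2.2 hx.2.1 hx.1⟩
    have hcard : ((Γ.erase a).erase b).card = t - 2 := by
      rw [Finset.card_erase_of_mem (Finset.mem_erase.2 ⟨hab.symm, hb⟩), Finset.card_erase_of_mem ha, hΓ]
      omega
    have := Finset.card_le_card hsub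
    rw [hcard] at this
    exact this
  have ht2 : 2 ≤ t := by
    have : ({a, b} : Finset α).card ≤ Γ.card := Finset.card_le_card (by
      intro x hx
      rw [Finset.mem_insert, Finset.mem_singleton] at hx
      rcases hx with rfl | rfl
      · exact ha
      · exact hb)
    rw [Finset.card_pair hab, hΓ] at this
    exact this
  have hdeg := h.deg
  rw [hdeg] at hpar
  obtain ⟨k, hk⟩ := hc
  have hrc : (r * c + t) % 2 = (r + t) % 2 := by
    rw [hk]
    have : r * (2 * k + 1) + t = 2 * (r * k) + (r + t) := by ring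
    rw [this, Nat.mul_add_mod]
  rw [hrc] at hpar
  omega

end Cfsg.Agent.S0745P
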