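import Cfsg.Agent.Helper14.S0745INV

/-! # S0745 board (helper27): row L0PAIR (helper14): if `c` is even, every pair of points outside a `(t-1)`-set `F`
is swapped by an involution of `G` fixing `F` pointwise (dihedral argument) -/

set_option autoImplicit false

namespace Cfsg.Agent.S0745P

open Equiv

variable {α : Type*} [Fintype α] [DecidableEq α]

/-- the involution fixing exactly `F ∪ {z}` -/
theorem swap_of_even_aux_inv {G : Subgroup (Perm α)} {t c r : ℕ} (h : Hyp G t c r) (hc : Even c)
    (F : Finset α) (hF : F.card = t - 1) (z : α) (hz : z ∉ F) :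
    ∃ v ∈ PS G F, v * v = 1 ∧ v ≠ 1 ∧ v z = z ∧ ∀ y, v y = y → y ∈ F ∨ y = z := by
  have ht := h.t_pos
  have hΓ : (insert z F).card = t := by rw [Finset.card_insert_of_notMem hz, hF]; omega
  have hcard := h.cardH _ hΓ
  have h2 : 2 ∣ Nat.card ↥(PS G (insert z F)) := by rw [hcard]; exact even_iff_two_dvd.1 hc
  have : Fact (Nat.Prime 2) := ⟨Nat.prime_two⟩
  obtain ⟨x, hx⟩ := exists_prime_orderOf_dvd_card' 2 h2
  have hx2 : x ^ 2 = 1 := by rw [← hx]; exact pow_orderOf_eq_one x
  have hx1 : x ≠ 1 := by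
    intro h1; rw [h1, orderOf_one] at hx; omega
  have hv2 : (x : Perm α) ^ 2 = 1 := by
    have := congrArg Subtype.val hx2
    simpa using this
  have hv1 : (x : Perm α) ≠ 1 := fun h1 => hx1 (Subtype.ext h1)
  have hvG : (x : Perm α) ∈ G := x.2.1
  have hvfix : ∀ y ∈ insert z F, (x : Perm α) y = y := x.2.2
  refine ⟨x, ⟨hvG, fun y hy => hvfix y (Finset.mem_insert_of_mem hy)⟩, by rw [← pow_two]; exact hv2, hv1,
    hvfix z (Finset.mem_insert_self z F), ?_⟩
  intro y hy
  have hle := nfix_le h hvG hv1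
  have hsub : insert z F ⊆ Finset.univ.filter fun y => (x : Perm α) y = y := by
    intro y hy
    exact Finset.mem_filter.2 ⟨Finset.mem_univ _, hvfix y hy⟩
  have heq := Finset.eq_of_subset_of_card_le hsub (by rw [hΓ]; exact hle)
  have : y ∈ insert z F := by
    rw [heq]; exact Finset.mem_filter.2 ⟨Finset.mem_univ _, hy⟩
  rw [Finset.mem_insert] at this
  rcases this with h1 | h1
  · exact Or.inr h1
  · exact Or.inl h1

omit [Fintype α] [DecidableEq α] in
/-- an element of `PS G F` maps points outside `F` to points outside `F` -/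
theorem swap_of_even_aux_image {G : Subgroup (Perm α)} {F : Finset α} {y : Perm α} (hy : y ∈ PS G F) {p : α}
    (hp : p ∉ F) : y p ∉ F := by
  intro hyp
  have h1 : y (y p) = y p := hy.2 _ hyp
  have h2 : y p = p := y.injective h1
  rw [h2] at hyp
  exact hp hyp

/-- L0PAIR -/
theorem swap_of_even {G : Subgroup (Perm α)} {t c r : ℕ} (h : Hyp G t c r) (hc : Even c)
    (F : Finset α) (hF : F.card = t - 1) (p q : α) (hp : p ∉ F) (hq : q ∉ F) (hpq : p ≠ q) :
    ∃ g ∈ G, (∀ x ∈ F, g x = x) ∧ g p = q ∧ g q = p := by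
  obtain ⟨v, hvF, hvv, hv1, hvp, hvfix⟩ := swap_of_even_aux_inv h hc F hF p hp
  obtain ⟨w, hwF, hww, hw1, hwq, hwfix⟩ := swap_of_even_aux_inv h hc F hF q hq
  have hvinv : v⁻¹ = v := inv_eq_of_mul_eq_one_right hvv
  have hwinv : w⁻¹ = w := inv_eq_of_mul_eq_one_right hww
  have hvd0 : v * (v * w) * v⁻¹ = (v * w)⁻¹ := by
    rw [mul_inv_rev, hvinv, hwinv, ← mul_assoc, hvv, one_mul]
  have hwd0 : w * (v * w) * w⁻¹ = (v * w)⁻¹ := by
    rw [mul_inv_rev, hvinv, hwinv, mul_assoc, mul_assoc, hww, mul_one]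
  obtain ⟨d, hd⟩ : ∃ d : Perm α, d = v * w := ⟨_, rfl⟩
  rw [← hd] at hvd0 hwd0
  have hdF : d ∈ PS G F := by rw [hd]; exact (PS G F).mul_mem hvF hwF
  have hdinv : d⁻¹ = w * v := by rw [hd, mul_inv_rev, hvinv, hwinv]
  have hvdj : ∀ j : ℕ, v * d ^ j * v⁻¹ = (d ^ j)⁻¹ := fun j => by rw [← conj_pow, hvd0, inv_pow]
  have hwdj : ∀ j : ℕ, w * d ^ j * w⁻¹ = (d ^ j)⁻¹ := fun j => by rw [← conj_pow, hwd0, inv_pow]
  have hpos : 0 < orderOf d := orderOf_pos d
  rcases Nat.even_or_odd' (orderOf d) with ⟨j, hj | hj⟩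
  · -- even order: the central involution fixes `p`, `q` and `F`
    exfalso
    have hj1 : 1 ≤ j := by omega
    obtain ⟨z', hz'⟩ : ∃ z' : Perm α, z' = d ^ j := ⟨_, rfl⟩
    have hz2 : z' * z' = 1 := by rw [hz', ← pow_add, ← two_mul, ← hj]; exact pow_orderOf_eq_one d
    have hz1 : z' ≠ 1 := by rw [hz']; exact pow_ne_one_of_lt_orderOf (by omega) (by omega)
    have hzinv : z'⁻¹ = z' := inv_eq_of_mul_eq_one_right hz2
    have hzF : z' ∈ PS G F := by rw [hz']; exact (PS G F).pow_mem hdF j
    have hvz : v * z' = z' * v := by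
      have := hvdj j
      rw [← hz', hzinv] at this
      exact mul_inv_eq_iff_eq_mul.1 this
    have hwz : w * z' = z' * w := by
      have := hwdj j
      rw [← hz', hzinv] at this
      exact mul_inv_eq_iff_eq_mul.1 this
    have hzp : z' p = p := by
      have h1 : v (z' p) = z' p := by
        have := congrArg (fun f : Perm α => f p) hvz
        simp only [Perm.mul_apply] at this
        rw [this, hvp]
      rcases hvfix _ h1 with h2 | h2
      · exact absurd h2 (swap_of_even_aux_image hzF hp)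
      · exact h2
    have hzq : z' q = q := by
      have h1 : w (z' q) = z' q := by
        have := congrArg (fun f : Perm α => f q) hwz
        simp only [Perm.mul_apply] at this
        rw [this, hwq]
      rcases hwfix _ h1 with h2 | h2
      · exact absurd h2 (swap_of_even_aux_image hzF hq)
      · exact h2
    apply hz1
    refine h.semireg z' hzF.1 (insert p (insert q F)) ?_ ?_
    · rw [Finset.card_insert_of_notMem, Finset.card_insert_of_notMem hq, hF]
      · have := h.t_pos; omega
      · rw [Finset.mem_insert]; push Not; exact ⟨hpq, hp⟩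
    · intro x hx
      rw [Finset.mem_insert, Finset.mem_insert] at hx
      rcases hx with rfl | rfl | hx
      · exact hzp
      · exact hzq
      · exact hzF.2 x hx
  · -- odd order: the reflection `d ^ j * v` swaps `p` and `q`
    obtain ⟨y, hy⟩ : ∃ y : Perm α, y = d ^ j * v := ⟨_, rfl⟩
    have hyF : y ∈ PS G F := by rw [hy]; exact (PS G F).mul_mem ((PS G F).pow_mem hdF j) hvF
    have hvdj' : v * d ^ j = (d ^ j)⁻¹ * v := mul_inv_eq_iff_eq_mul.1 (hvdj j)
    have hy2 : y * y = 1 := by
      rw [hy]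
      calc d ^ j * v * (d ^ j * v) = d ^ j * (v * d ^ j) * v := by simp only [mul_assoc]
        _ = d ^ j * ((d ^ j)⁻¹ * v) * v := by rw [hvdj']
        _ = 1 := by rw [mul_inv_cancel_left, hvv]
    have hyinv : y⁻¹ = y := inv_eq_of_mul_eq_one_right hy2
    have hdd : d ^ j * d ^ j = d⁻¹ := by
      have h1 : d ^ (2 * j + 1) = 1 := by rw [← hj]; exact pow_orderOf_eq_one d
      rw [← pow_add, ← two_mul]
      rw [pow_succ] at h1
      exact eq_inv_of_mul_eq_one_left h1
    have hyv : y * v * y⁻¹ = w := by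
      rw [hyinv, hy]
      calc d ^ j * v * v * (d ^ j * v) = d ^ j * (v * v) * (d ^ j * v) := by simp only [mul_assoc]
        _ = (d ^ j * d ^ j) * v := by rw [hvv, mul_one, mul_assoc]
        _ = w := by rw [hdd, hdinv, mul_assoc, hvv, mul_one]
    have hwyp : w (y p) = y p := by
      rw [← hyv]
      simp only [Perm.mul_apply]
      rw [show y⁻¹ (y p) = p from by simp, hvp]
    have hyp : y p = q := by
      rcases hwfix _ hwyp with h2 | h2
      · exact absurd h2 (swap_of_even_aux_image hyF hp)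
      · exact h2
    refine ⟨y, hyF.1, hyF.2, hyp, ?_⟩
    rw [← hyp]
    have := congrArg (fun f : Perm α => f p) hy2
    simpa only [Perm.mul_apply, Perm.one_apply] using this

end Cfsg.Agent.S0745P
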