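import Mathlib
import Cfsg.Agent.Helper16.S64Defs

/-! # S1237: shared definitions of the board `s1237pieces`
(blueprint: `departures/helper14_S1237_blueprint.md`). -/

set_option autoImplicit false

namespace Cfsg.Agent.S1237P

/-- the powers of `φ` are transitive on the involutions (verbatim the hypothesis of S1237) -/
def Trans {T : Type*} [Group T] (φ : MulAut T) : Prop :=
  ∀ s t : T, orderOf s = 2 → orderOf t = 2 → ∃ k : ℕ, (φ ^ k) s = t

/-- `V = {x | x² = 1}` is a central subgroup of order four. -/
structure Inv3 {T : Type*} [Group T] (V : Subgroup T) : Prop where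
  mem : ∀ x : T, x ∈ V ↔ x * x = 1
  central : V ≤ Subgroup.center T
  card : Nat.card V = 4

/-- restriction of an automorphism of a finite group to an invariant subgroup -/
noncomputable def restr {T : Type*} [Group T] [Finite T] (ρ : MulAut T) (H : Subgroup T)
    (hH : ∀ h ∈ H, ρ h ∈ H) : MulAut ↥H :=
  MulEquiv.ofBijective
    ({ toFun := fun h => ⟨ρ (h : T), hH h h.2⟩
       map_one' := Subtype.ext (map_one ρ)
       map_mul' := fun a b => Subtype.ext (map_mul ρ (a : T) (b : T)) } : ↥H →* ↥H)
    (Finite.injective_iff_bijective.mp (fun a b hab => by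
      have h1 : ρ (a : T) = ρ (b : T) := congrArg Subtype.val hab
      exact Subtype.ext (ρ.injective h1)))

theorem restr_coe {T : Type*} [Group T] [Finite T] (ρ : MulAut T) (H : Subgroup T)
    (hH : ∀ h ∈ H, ρ h ∈ H) (h : ↥H) : ((restr ρ H hH h : ↥H) : T) = ρ (h : T) := rfl

theorem restr_pow_coe {T : Type*} [Group T] [Finite T] (ρ : MulAut T) (H : Subgroup T)
    (hH : ∀ h ∈ H, ρ h ∈ H) (k : ℕ) (h : ↥H) :
    (((restr ρ H hH ^ k) h : ↥H) : T) = (ρ ^ k) (h : T) := by
  induction k generalizing h with
  | zero => simp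
  | succ n ih =>
    rw [pow_succ, pow_succ, MulAut.mul_apply, MulAut.mul_apply, ih, restr_coe]

end Cfsg.Agent.S1237P
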