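import Mathlib
import Cfsg.Agent.Helper26.S1237Defs

/-! # S1237 board (driver helper26), piece IDX64 -/

set_option autoImplicit false

namespace Cfsg.Agent.S1237P

/-- In a cyclic group of order `3 ^ a` every non-trivial power of the generator `ψ` has
`ψ ^ 3 ^ (a - 1)` among its powers. -/
theorem IDX64_aux_pow {G : Type*} [Group G] (ψ : G) (a : ℕ) (ha : 1 ≤ a)
    (hψ : orderOf ψ = 3 ^ a) (j : ℕ) (hj : ψ ^ j ≠ 1) :
    ∃ i : ℕ, (ψ ^ j) ^ i = ψ ^ 3 ^ (a - 1) := by
  have hj0 : j ≠ 0 := by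
    rintro rfl
    exact hj (pow_zero ψ)
  obtain ⟨e, m, hm, hjm⟩ := Nat.exists_eq_pow_mul_and_not_dvd hj0 3 (by norm_num)
  have hea : e < a := by
    by_contra hcon
    have hle : a ≤ e := not_lt.mp hcon
    apply hj
    rw [← orderOf_dvd_iff_pow_eq_one, hψ, hjm]
    exact Dvd.dvd.mul_right (pow_dvd_pow 3 hle) m
  have h3a : ψ ^ 3 ^ a = 1 := by rw [← hψ]; exact pow_orderOf_eq_one ψ
  obtain ⟨c, q, hcq⟩ : ∃ c q : ℕ, m * c = 1 + 3 * q := by
    have h12 : m % 3 = 1 ∨ m % 3 = 2 := by omega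
    rcases h12 with h | h
    · exact ⟨1, m / 3, by omega⟩
    · exact ⟨2, (2 * m - 1) / 3, by omega⟩
  refine ⟨3 ^ (a - 1 - e) * c, ?_⟩
  rw [← pow_mul]
  have hexp : j * (3 ^ (a - 1 - e) * c) = 3 ^ (a - 1) + 3 ^ a * (q) := by
    have h1 : 3 ^ e * 3 ^ (a - 1 - e) = 3 ^ (a - 1) := by
      rw [← pow_add]; congr 1; omega
    have h2 : 3 ^ a = 3 ^ (a - 1) * 3 := by
      rw [← pow_succ]; congr 1; omega
    calc j * (3 ^ (a - 1 - e) * c) = (3 ^ e * 3 ^ (a - 1 - e)) * (m * c) := by rw [hjm]; ring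
      _ = 3 ^ (a - 1) * (1 + 3 * q) := by rw [h1, hcq]
      _ = 3 ^ (a - 1) + 3 ^ a * q := by rw [h2]; ring
  rw [hexp, pow_add, pow_mul, h3a, one_pow, mul_one]

/-- A permutation `g` with `orderOf g = p ^ a` such that no non-trivial power of `g` has a fixed point:
`p ^ a` divides the number of points. -/
theorem IDX64_aux_free {X : Type*} [Finite X] (g : Equiv.Perm X) (n : ℕ) (hg : orderOf g = n)
    (hfree : ∀ j : ℕ, ∀ x : X, (g ^ j) x = x → g ^ j = 1) : n ∣ Nat.card X := by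
  have hstab : ∀ b : X, MulAction.stabilizer (Subgroup.zpowers g) b = ⊥ := by
    intro b
    rw [Subgroup.eq_bot_iff_forall]
    rintro ⟨k, hk⟩ hkb
    have hkb' : k b = b := by
      have := MulAction.mem_stabilizer_iff.mp hkb
      exact this
    have hfin : IsOfFinOrder g := isOfFinOrder_of_finite g
    obtain ⟨j, rfl⟩ := (mem_powers_iff_mem_zpowers.mpr hk)
    have h1 := hfree j b hkb'
    exact Subtype.ext h1
  have e := MulAction.selfEquivOrbitsQuotientProd hstab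
  have hc := Nat.card_congr e
  rw [Nat.card_prod, Nat.card_zpowers, hg] at hc
  exact ⟨_, hc.trans (mul_comm _ _)⟩

/-- IDX64: `⟨ψ⟩` (of order `3 ^ a`, `a ≥ 2`) acts freely on the elements of `M` moved by
`τ = ψ ^ 3 ^ (a - 1)`; if `τ` fixes `P ≤ M` pointwise and moves some element of `M`: `|M : P| ≥ 64`. -/
theorem IDX64 {T : Type*} [Group T] [Finite T] (hT : IsPGroup 2 T) (ψ : MulAut T) (a : ℕ)
    (ha : 2 ≤ a) (hψ : orderOf ψ = 3 ^ a) (M P : Subgroup T) (hPM : P ≤ M)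
    (hMψ : ∀ x ∈ M, ψ x ∈ M) (hP : ∀ p ∈ P, (ψ ^ 3 ^ (a - 1)) p = p)
    (hmove : ∃ x ∈ M, (ψ ^ 3 ^ (a - 1)) x ≠ x) : 64 ≤ P.relIndex M := by
  classical
  obtain ⟨τ, hτ⟩ : ∃ τ : MulAut T, τ = ψ ^ 3 ^ (a - 1) := ⟨_, rfl⟩
  rw [← hτ] at hP hmove
  have hcomm : ∀ x : T, ψ (τ x) = τ (ψ x) := by
    intro x
    have h1 : ψ * τ = τ * ψ := by rw [hτ, ← pow_succ', ← pow_succ]
    have := congrArg (fun f : MulAut T => f x) h1
    simpa [MulAut.mul_apply] using this
  -- the fixed subgroup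
  let Fx : Subgroup T :=
    { carrier := {x | τ x = x}
      mul_mem' := by
        intro x y hx hy
        show τ (x * y) = x * y
        rw [map_mul, hx, hy]
      one_mem' := map_one τ
      inv_mem' := by
        intro x hx
        show τ x⁻¹ = x⁻¹
        rw [map_inv, hx] }
  have hFx : ∀ x : T, x ∈ Fx ↔ τ x = x := fun x => Iff.rfl
  obtain ⟨C, hCdef⟩ : ∃ C : Subgroup T, C = M ⊓ Fx := ⟨_, rfl⟩
  have hCM : C ≤ M := hCdef ▸ inf_le_left
  have hPC : P ≤ C := by
    rw [hCdef]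
    exact le_inf hPM (fun p hp => (hFx p).mpr (hP p hp))
  -- the moved points
  let Xs : Set T := {x | x ∈ M ∧ τ x ≠ x}
  have hXs : ∀ x : T, x ∈ Xs ↔ x ∈ M ∧ τ x ≠ x := fun x => Iff.rfl
  have hXne : Xs.Nonempty := by
    obtain ⟨x, hx, hx'⟩ := hmove
    exact ⟨x, hx, hx'⟩
  -- the induced permutation
  let f : ↥Xs → ↥Xs := fun x => ⟨ψ x.1, hMψ _ x.2.1, fun h => x.2.2 (by
    have h2 : ψ (τ x.1) = ψ x.1 := by rw [hcomm]; exact h
    exact ψ.injective h2)⟩
  have hfinj : Function.Injective f := by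
    intro x y hxy
    have h1 : ψ x.1 = ψ y.1 := congrArg Subtype.val hxy
    exact Subtype.ext (ψ.injective h1)
  let g : Equiv.Perm ↥Xs := Equiv.ofBijective f (Finite.injective_iff_bijective.mp hfinj)
  have hg_coe : ∀ (n : ℕ) (x : ↥Xs), ((g ^ n) x : T) = (ψ ^ n) x.1 := by
    intro n
    induction n with
    | zero => intro x; simp
    | succ n ih =>
      intro x
      rw [pow_succ', pow_succ', Equiv.Perm.mul_apply, MulAut.mul_apply]
      show ψ ((g ^ n) x : T) = _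
      rw [ih]
  have hg_pow : ∀ n : ℕ, g ^ n = 1 ↔ ∀ x : ↥Xs, (ψ ^ n) x.1 = x.1 := by
    intro n
    constructor
    · intro h x
      rw [← hg_coe, h]; rfl
    · intro h
      ext x
      rw [hg_coe, h]; rfl
  have h3a : ψ ^ 3 ^ a = 1 := by rw [← hψ]; exact pow_orderOf_eq_one ψ
  have hg3a : g ^ 3 ^ a = 1 := by
    rw [hg_pow]
    intro x
    rw [h3a]; rfl
  have hgτ : g ^ 3 ^ (a - 1) ≠ 1 := by
    intro h
    obtain ⟨x, hx⟩ := hXne
    have := (hg_pow _).mp h ⟨x, hx⟩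
    rw [← hτ] at this
    exact hx.2 this
  have hgord : orderOf g = 3 ^ a := by
    have h3 : Fact (Nat.Prime 3) := ⟨by norm_num⟩
    have ha1 : a = (a - 1) + 1 := by omega
    rw [ha1]
    apply orderOf_eq_prime_pow
    · exact hgτ
    · rw [← ha1]; exact hg3a
  have hfree : ∀ j : ℕ, ∀ x : ↥Xs, (g ^ j) x = x → g ^ j = 1 := by
    intro j x hx
    by_contra hne
    obtain ⟨i, hi⟩ := IDX64_aux_pow g a (by omega) hgord j hne
    have h1 : (g ^ 3 ^ (a - 1)) x = x := by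
      rw [← hi]
      have : ∀ i : ℕ, ((g ^ j) ^ i) x = x := by
        intro i
        induction i with
        | zero => simp
        | succ i ih => rw [pow_succ, Equiv.Perm.mul_apply, hx, ih]
      exact this i
    have h2 := congrArg Subtype.val h1
    rw [hg_coe, ← hτ] at h2
    exact x.2.2 h2
  have h9 : 3 ^ a ∣ Nat.card ↥Xs := IDX64_aux_free g (3 ^ a) hgord hfree
  have h9' : 9 ∣ Nat.card ↥Xs := by
    refine Dvd.dvd.trans ?_ h9
    have : (9 : ℕ) = 3 ^ 2 := by norm_num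
    rw [this]
    exact pow_dvd_pow 3 ha
  -- cardinalities
  have hunion : (M : Set T) = (C : Set T) ∪ Xs := by
    ext x
    simp only [Set.mem_union, SetLike.mem_coe]
    rw [hCdef, Subgroup.mem_inf, hFx, hXs]
    constructor
    · intro hx
      by_cases h : τ x = x
      · exact Or.inl ⟨hx, h⟩
      · exact Or.inr ⟨hx, h⟩
    · rintro (h | h)
      · exact h.1
      · exact h.1
  have hdisj : Disjoint (C : Set T) Xs := by
    rw [Set.disjoint_left]
    intro x hxC hxX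
    rw [SetLike.mem_coe, hCdef, Subgroup.mem_inf, hFx] at hxC
    exact hxX.2 hxC.2
  have hcard : Nat.card ↥M = Nat.card ↥C + Nat.card ↥Xs := by
    have h1 : Nat.card ↥M = (M : Set T).ncard := Nat.card_coe_set_eq (M : Set T)
    have h2 : Nat.card ↥C = (C : Set T).ncard := Nat.card_coe_set_eq (C : Set T)
    have h3 : Nat.card ↥Xs = Xs.ncard := Nat.card_coe_set_eq Xs
    rw [h1, h2, h3, hunion]
    exact Set.ncard_union_eq hdisj (Set.toFinite _) (Set.toFinite _)
  have hXpos : 0 < Nat.card ↥Xs := by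
    have : Nonempty ↥Xs := hXne.to_subtype
    exact Nat.card_pos
  obtain ⟨k, hk⟩ := IsPGroup.iff_card.mp (hT.to_subgroup M)
  obtain ⟨j, hj⟩ := IsPGroup.iff_card.mp (hT.to_subgroup C)
  have hrel : Nat.card ↥C * C.relIndex M = Nat.card ↥M := by
    have := Subgroup.relIndex_mul_relIndex (⊥ : Subgroup T) C M bot_le hCM
    rwa [Subgroup.relIndex_bot_left, Subgroup.relIndex_bot_left] at this
  have hrel2 := Subgroup.relIndex_mul_relIndex P C M hPC hCM
  have hPCpos : 0 < P.relIndex C := by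
    have hle : P.relIndex C ∣ Nat.card ↥C := Subgroup.relIndex_dvd_card P C
    have hCpos : 0 < Nat.card ↥C := Nat.card_pos
    exact Nat.pos_of_dvd_of_pos hle hCpos
  obtain ⟨n, hn⟩ := h9'
  have hjk : j < k := by
    have : 2 ^ j < 2 ^ k := by rw [← hj, ← hk]; omega
    exact (Nat.pow_lt_pow_iff_right (by norm_num)).mp this
  obtain ⟨d, hd⟩ : ∃ d, k = j + d := ⟨k - j, by omega⟩
  have hdpos : 0 < d := by omega
  have hCr : C.relIndex M = 2 ^ d := by
    rw [hk, hj, hd, pow_add] at hrel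
    exact Nat.eq_of_mul_eq_mul_left (by positivity) hrel
  have hd6 : 6 ≤ d := by
    by_contra hlt
    have hd5 : d ≤ 5 := by omega
    have hdvd : 9 ∣ 2 ^ j * (2 ^ d - 1) := by
      refine ⟨n, ?_⟩
      have h1 : 2 ^ j * 2 ^ d = 2 ^ j + 9 * n := by
        rw [← pow_add, ← hd, ← hk, hcard, hj, hn]
      have h2 : 1 ≤ 2 ^ d := Nat.one_le_two_pow
      rw [Nat.mul_sub, mul_one, h1]
      omega
    have hcop : Nat.Coprime 9 (2 ^ j) := by
      apply Nat.Coprime.pow_right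
      norm_num
    have h9d : 9 ∣ 2 ^ d - 1 := hcop.dvd_of_dvd_mul_left hdvd
    interval_cases d <;> omega
  have h64 : 64 ≤ C.relIndex M := by
    rw [hCr]
    calc 64 = 2 ^ 6 := by norm_num
      _ ≤ 2 ^ d := Nat.pow_le_pow_right (by norm_num) hd6
  calc 64 ≤ C.relIndex M := h64
    _ = 1 * C.relIndex M := (one_mul _).symm
    _ ≤ P.relIndex C * C.relIndex M := Nat.mul_le_mul_right _ hPCpos
    _ = P.relIndex M := hrel2

end Cfsg.Agent.S1237P
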