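import Cfsg.Agent.Helper22.S1589Basic
import Cfsg.Agent.Helper17.M23Idx.Final

/-! S1589 piece SYLQ: a subgroup of `M24` of order divisible by `2 ^ 10` contains the pointwise
stabiliser of some octad. -/

set_option autoImplicit false
set_option linter.all false

namespace Cfsg.Agent.S1589P

open Cfsg Cfsg.Agent.Helper27 Cfsg.Agent.Helper17.M23Idx
open scoped Pointwise

variable {K : Subgroup (Equiv.Perm GolayPt)}

/-- SYLQ -/
theorem exists_fixG_octad_le (hM : K ≤ M24) (h2 : 1024 ∣ Nat.card K) : ∃ o ∈ octads, fixG o ≤ K := by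
  haveI : Fact (Nat.Prime 2) := ⟨Nat.prime_two⟩
  obtain ⟨o₁, ho₁, -⟩ := exists_octad_mem (pt 0)
  -- the index of `K` in `M24` is odd
  have hcardH : Nat.card (K.subgroupOf M24) = Nat.card K :=
    Nat.card_congr (Subgroup.subgroupOfEquivOfLe hM).toEquiv
  have hidx : ¬ 2 ∣ (K.subgroupOf M24).index := by
    have h1 := Subgroup.card_mul_index (K.subgroupOf M24)
    rw [hcardH, card_M24] at h1
    obtain ⟨m, hm⟩ := h2
    intro h
    obtain ⟨j, hj⟩ := h
    rw [hm, hj] at h1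
    have : 2048 ∣ 244823040 := ⟨m * j, by rw [← h1]; ring⟩
    norm_num at this
  -- `fixG o₁` is a `2`-group
  have hle₁ : fixG o₁ ≤ M24 := fun h hh => ((mem_fixG o₁ h).mp hh).1
  have hQ : IsPGroup 2 ((fixG o₁).subgroupOf M24) := by
    apply IsPGroup.of_card (n := 4)
    rw [Nat.card_congr (Subgroup.subgroupOfEquivOfLe hle₁).toEquiv, card_fixG_octad ho₁]
    norm_num
  obtain ⟨g, hg⟩ := exists_conj_mem 2 (K.subgroupOf M24) ((fixG o₁).subgroupOf M24) hQ hidx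
  have hginv : ((g⁻¹ : ↥M24) : Equiv.Perm GolayPt) ∈ M24 := (g⁻¹).2
  refine ⟨((g⁻¹ : ↥M24) : Equiv.Perm GolayPt) • o₁, smul_octad_mem hginv ho₁, ?_⟩
  intro h hh
  rw [mem_fixG_smul hginv] at hh
  -- `q = g h g⁻¹ ∈ fixG o₁`
  have hq : (((g⁻¹ : ↥M24) : Equiv.Perm GolayPt))⁻¹ * h * ((g⁻¹ : ↥M24) : Equiv.Perm GolayPt) ∈ M24 :=
    hle₁ hh
  have h3 := hg ⟨_, hq⟩ (by rw [Subgroup.mem_subgroupOf]; exact hh)
  rw [Subgroup.mem_subgroupOf] at h3
  have h4 : ((g⁻¹ * (⟨_, hq⟩ : ↥M24) * g : ↥M24) : Equiv.Perm GolayPt) = h := by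
    simp only [Subgroup.coe_mul, Subgroup.coe_inv]
    group
  rw [h4] at h3
  exact h3

end Cfsg.Agent.S1589P
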