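import Mathlib
import Cfsg.Agent.Helper14.S2482TYPESR

/-!
# S2482 (class number of `Sp_{2n}(q)`), chapter (U4) TYPES, piece SRPAR

A self-reciprocal monic polynomial in which `X - 1` and `X + 1` have even multiplicity has constant
term `1` and even degree (characteristic not two).
-/

set_option autoImplicit false
set_option linter.unusedVariables false

namespace Cfsg.Agent.S2482P

open Polynomial Cfsg.Agent.S2481P

namespace SRPAR

variable {F : Type*} [Field F]

theorem reverse_X_sub_C (ε : F) : (X - C ε).reverse = 1 - C ε * X := by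
  rw [sub_eq_add_neg, ← C_neg, reverse_add_C, natDegree_X, pow_one]
  have : (X : F[X]).reverse = 1 := by
    have := reverse_X_mul (1 : F[X])
    rw [mul_one] at this
    rw [this, ← C_1, reverse_C]
  rw [this, C_neg]
  ring

/-- `X - ε` is self-reciprocal for `ε = ±1` -/
theorem tilde0_X_sub_C {ε : F} (hε : ε * ε = 1) : tilde0 (X - C ε) = X - C ε := by
  have hε0 : ε ≠ 0 := by
    rintro rfl
    simp at hε
  have hinv : ε⁻¹ = ε := by
    field_simp
    rw [← hε]; ring
  rw [TILDE0.tilde0_eq, reverse_X_sub_C]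
  have hc : (X - C ε).coeff 0 = -ε := by simp
  rw [hc, inv_neg, hinv, mul_sub, mul_one, ← mul_assoc, ← C_mul, neg_mul, hε, C_neg, C_neg, C_1]
  ring

theorem coeff_zero_X_sub_C_pow (ε : F) (a : ℕ) : ((X - C ε) ^ a).coeff 0 = (-ε) ^ a := by
  rw [coeff_zero_eq_eval_zero, eval_pow, eval_sub, eval_X, eval_C, zero_sub]

theorem tilde0_pow {f : F[X]} (hf : f.coeff 0 ≠ 0) (h : tilde0 f = f) (a : ℕ) :
    tilde0 (f ^ a) = f ^ a := by
  induction a with
  | zero => rw [pow_zero]; exact tilde_one _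
  | succ a ih =>
    have h1 : (f ^ a).coeff 0 ≠ 0 := by
      rw [coeff_zero_eq_eval_zero, eval_pow, ← coeff_zero_eq_eval_zero]
      exact pow_ne_zero _ hf
    rw [pow_succ]
    show tilde (RingHom.id F) (f ^ a * f) = f ^ a * f
    rw [tilde_mul _ h1 hf]
    show tilde0 (f ^ a) * tilde0 f = _
    rw [ih, h]

theorem eval_reverse_mul_pow {ε : F} (hε : ε * ε = 1) (h : F[X]) :
    eval ε h.reverse * ε ^ h.natDegree = eval ε h := by
  letI : Invertible ε := ⟨ε, hε, hε⟩
  have := eval₂_reverse_mul_pow (RingHom.id F) ε h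
  rw [eval₂_id, eval₂_id] at this
  exact this

/-- the core: no roots `±1` -/
theorem core (h2 : (2 : F) ≠ 0) {h : F[X]} (hm : h.Monic) (h0 : h.coeff 0 ≠ 0)
    (hsr : tilde0 h = h) (h1 : eval 1 h ≠ 0) (hm1 : eval (-1) h ≠ 0) :
    h.coeff 0 = 1 ∧ Even h.natDegree := by
  rw [TILDE0.tilde0_eq] at hsr
  -- evaluate at 1
  have e1 : eval 1 h.reverse = eval 1 h := by
    have := eval_reverse_mul_pow (ε := (1 : F)) (by norm_num) h
    rw [one_pow, mul_one] at this
    exact this
  have hc1 : h.coeff 0 = 1 := by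
    have := congrArg (eval 1) hsr
    rw [eval_mul, eval_C, e1] at this
    have h3 : (h.coeff 0)⁻¹ = 1 := by
      have h4 : ((h.coeff 0)⁻¹ - 1) * eval 1 h = 0 := by
        rw [sub_mul, this, one_mul, sub_self]
      rcases mul_eq_zero.1 h4 with h5 | h5
      · exact sub_eq_zero.1 h5
      · exact absurd h5 h1
    rw [← inv_inv (h.coeff 0), h3, inv_one]
  refine ⟨hc1, ?_⟩
  rw [hc1, inv_one, C_1, one_mul] at hsr
  have e2 : eval (-1) h.reverse * (-1) ^ h.natDegree = eval (-1) h :=
    eval_reverse_mul_pow (ε := (-1 : F)) (by norm_num) h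
  rw [hsr] at e2
  have h5 : ((-1 : F)) ^ h.natDegree = 1 := by
    have h6 : eval (-1) h * ((-1) ^ h.natDegree - 1) = 0 := by
      rw [mul_sub, e2, mul_one, sub_self]
    rcases mul_eq_zero.1 h6 with h7 | h7
    · exact absurd h7 hm1
    · exact sub_eq_zero.1 h7
  by_contra hodd
  rw [Nat.not_even_iff_odd] at hodd
  rw [hodd.neg_one_pow] at h5
  apply h2
  have : (2 : F) = 1 - (-1) := by norm_num
  rw [this, h5, sub_self]

end SRPAR

open SRPAR in
/-- piece SRPAR -/
theorem SRPAR.main {F : Type*} [Field F] (h2 : (2 : F) ≠ 0) {h : F[X]} (hm : h.Monic)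
    (h0 : h.coeff 0 ≠ 0) (hsr : tilde0 h = h) (he1 : Even (rootMultiplicity 1 h))
    (he2 : Even (rootMultiplicity (-1) h)) : h.coeff 0 = 1 ∧ Even h.natDegree := by
  have hne : (1 : F) ≠ -1 := by
    intro h3
    apply h2
    have : (2 : F) = 1 - (-1) := by norm_num
    rw [this, ← h3, sub_self]
  have hh0 : h ≠ 0 := hm.ne_zero
  obtain ⟨k, hk, hkd⟩ := exists_eq_pow_rootMultiplicity_mul_and_not_dvd h hh0 1
  have hk0 : k ≠ 0 := by
    rintro rfl
    rw [mul_zero] at hk
    exact hh0 hk
  obtain ⟨l, hl, hld⟩ := exists_eq_pow_rootMultiplicity_mul_and_not_dvd k hk0 (-1)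
  have hl0 : l ≠ 0 := by
    rintro rfl
    rw [mul_zero] at hl
    exact hk0 hl
  set a := rootMultiplicity 1 h with ha
  set b := rootMultiplicity (-1) k with hb
  -- the multiplicity of `-1` in `h` is that in `k`
  have hbb : rootMultiplicity (-1) h = b := by
    have hne' : (X - C (1 : F)) ^ a * k ≠ 0 := by rw [← hk]; exact hh0
    rw [hk, rootMultiplicity_mul hne']
    have : rootMultiplicity (-1) ((X - C (1 : F)) ^ a) = 0 := by
      rw [rootMultiplicity_eq_zero]
      intro hr
      have := hr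
      rw [IsRoot.def, eval_pow, eval_sub, eval_X, eval_C] at this
      rcases Nat.eq_zero_or_pos a with ha0 | hapos
      · rw [ha0, pow_zero] at this
        exact one_ne_zero this
      · have h4 := (pow_eq_zero_iff (Nat.pos_iff_ne_zero.mp hapos)).mp this
        exact hne (sub_eq_zero.1 h4).symm
    rw [this, zero_add]
  rw [hbb] at he2
  -- `l` has no roots `±1`
  have hl1 : eval 1 l ≠ 0 := by
    intro h3
    apply hkd
    have h4 : (X - C (1 : F)) ∣ l := dvd_iff_isRoot.mpr h3
    rw [hl]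
    exact Dvd.dvd.mul_left h4 _
  have hlm1 : eval (-1) l ≠ 0 := by
    intro h3
    exact hld (dvd_iff_isRoot.mpr h3)
  -- monic, constant terms
  have hXa : ((X - C (1 : F)) ^ a).Monic := (monic_X_sub_C 1).pow a
  have hXb : ((X - C (-1 : F)) ^ b).Monic := (monic_X_sub_C (-1)).pow b
  have hkm : k.Monic := by
    rw [hk] at hm
    exact hXa.of_mul_monic_left hm
  have hlm : l.Monic := by
    rw [hl] at hkm
    exact hXb.of_mul_monic_left hkm
  have hca : ((X - C (1 : F)) ^ a).coeff 0 = 1 := by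
    rw [coeff_zero_X_sub_C_pow, he1.neg_one_pow]
  have hcb : ((X - C (-1 : F)) ^ b).coeff 0 = 1 := by
    rw [coeff_zero_X_sub_C_pow, neg_neg, one_pow]
  have hk0' : k.coeff 0 = h.coeff 0 := by
    have := congrArg (fun f : F[X] => f.coeff 0) hk
    simp only [mul_coeff_zero] at this
    rw [hca, one_mul] at this
    exact this.symm
  have hl0' : l.coeff 0 = k.coeff 0 := by
    have := congrArg (fun f : F[X] => f.coeff 0) hl
    simp only [mul_coeff_zero] at this
    rw [hcb, one_mul] at this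
    exact this.symm
  have hkc : k.coeff 0 ≠ 0 := by rw [hk0']; exact h0
  have hlc : l.coeff 0 ≠ 0 := by rw [hl0']; exact hkc
  -- self-reciprocity descends
  have hXa_sr : tilde0 ((X - C (1 : F)) ^ a) = (X - C (1 : F)) ^ a :=
    tilde0_pow (by simp) (tilde0_X_sub_C (by norm_num)) a
  have hXb_sr : tilde0 ((X - C (-1 : F)) ^ b) = (X - C (-1 : F)) ^ b :=
    tilde0_pow (by simp) (tilde0_X_sub_C (by norm_num)) b
  have hk_sr : tilde0 k = k := tilde_of_mul_eq (RingHom.id F) h0 hk hsr hXa_sr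
  have hl_sr : tilde0 l = l := tilde_of_mul_eq (RingHom.id F) hkc hl hk_sr hXb_sr
  obtain ⟨hc, hd⟩ := core h2 hlm hlc hl_sr hl1 hlm1
  refine ⟨by rw [← hk0', ← hl0', hc], ?_⟩
  have hdeg : h.natDegree = a + (b + l.natDegree) := by
    rw [hk, hXa.natDegree_mul hkm, hl, hXb.natDegree_mul hlm, natDegree_pow, natDegree_pow,
      natDegree_X_sub_C, natDegree_X_sub_C, mul_one, mul_one]
  rw [hdeg]
  exact he1.add (he2.add hd)

end Cfsg.Agent.S2482P
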