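import Mathlib
import Cfsg.Agent.Helper17.S2482GDefs
import Cfsg.Agent.Helper14.S2482SRPAR

/-!
# S2482 chapter (G), piece PARITYPOLY

A self-reciprocal monic polynomial with even multiplicities at `±1` has constant term `1` and even
degree.  Corollary of `SRPAR.main` (the constant term of a self-reciprocal monic polynomial is
nonzero).
-/

set_option autoImplicit false

namespace Cfsg.Agent.S2482P

open Polynomial Cfsg.Agent.S2478P Cfsg.Agent.S2481P

universe u

variable {F : Type u} [Field F]

namespace PARITYPOLY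

theorem coeff_zero_ne_zero (f : F[X]) (hf : f.Monic) (hsd : tilde0 f = f) : f.coeff 0 ≠ 0 := by
  intro h0
  rw [TILDE0.tilde0_eq, h0, inv_zero, C_0, zero_mul] at hsd
  exact hf.ne_zero hsd.symm

theorem coeff_zero_and_even (h2 : (2 : F) ≠ 0) (f : F[X]) (hf : f.Monic) (hsd : tilde0 f = f)
    (h1 : Even (f.rootMultiplicity 1)) (hm1 : Even (f.rootMultiplicity (-1))) :
    f.coeff 0 = 1 ∧ Even f.natDegree :=
  SRPAR.main h2 hf (coeff_zero_ne_zero f hf hsd) hsd h1 hm1

end PARITYPOLY

end Cfsg.Agent.S2482P
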