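import Mathlib
import Cfsg.Agent.Helper17.S2482GDefs
import Cfsg.Agent.Helper14.S2482TYPESR

/-!
# S2482 chapter (G), piece SDSP: the type of a symplectic matrix is self-reciprocal

Corollary of `TYPESR.tilde0_of_isometry` (Gram matrix `J`, reindexed by `Fin (n + n)`).
-/

set_option autoImplicit false

namespace Cfsg.Agent.S2482P

open Polynomial Cfsg.Agent.S2478P Cfsg.Agent.S2481P Matrix

universe u

variable {F : Type u} [Field F]

namespace SDSP

/-- the reindexed Gram matrix -/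
def Jf (n : ℕ) (F : Type u) [Field F] : Matrix (Fin (n + n)) (Fin (n + n)) F :=
  Matrix.reindex finSumFinEquiv finSumFinEquiv (Matrix.J (Fin n) F)

theorem neg_Jf_mul_Jf (n : ℕ) : -Jf n F * Jf n F = 1 := by
  unfold Jf
  rw [Matrix.neg_mul, Matrix.reindex_apply, Matrix.submatrix_mul_equiv, Matrix.J_squared]
  have : ((-1 : Matrix (Fin n ⊕ Fin n) (Fin n ⊕ Fin n) F)).submatrix finSumFinEquiv.symm
      finSumFinEquiv.symm = -(1 : Matrix (Fin n ⊕ Fin n) (Fin n ⊕ Fin n) F).submatrix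
        finSumFinEquiv.symm finSumFinEquiv.symm := rfl
  rw [this, neg_neg, Matrix.submatrix_one_equiv]

theorem toFin_isometry {n : ℕ} (g : Matrix.symplecticGroup (Fin n) F) :
    (toFin g)ᵀ * Jf n F * toFin g = Jf n F := by
  have h1 : (g : Matrix (Fin n ⊕ Fin n) (Fin n ⊕ Fin n) F)ᵀ * Matrix.J (Fin n) F *
      (g : Matrix (Fin n ⊕ Fin n) (Fin n ⊕ Fin n) F) = Matrix.J (Fin n) F := by
    exact SymplecticGroup.mem_iff'.mp g.2
  unfold toFin Jf
  rw [Matrix.reindex_apply, Matrix.reindex_apply, Matrix.transpose_submatrix,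
    Matrix.submatrix_mul_equiv, Matrix.submatrix_mul_equiv, h1]

theorem tilde0_of_symplectic {n : ℕ} (g : Matrix.symplecticGroup (Fin n) F) {t : ℕ → F[X]}
    (ht : HasType (toFin g) t) (m : ℕ) : tilde0 (t m) = t m :=
  TYPESR.tilde0_of_isometry (neg_Jf_mul_Jf n) (toFin_isometry g) ht m

end SDSP

end Cfsg.Agent.S2482P
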