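import Mathlib
import Cfsg.Agent.Helper14.S2481.Defs
import Cfsg.Agent.Helper18.S2481KDCOUNT
import Cfsg.Agent.Helper16.S2481KDSUM

/-!
# S2482 (class number of `Sp_{2n}(q)`), chapter (U4) TYPES, piece TYPEMULT

The multiplicity of `X - ε` in the `s`-th entry of the type of `g` is the number of Jordan blocks of
size `s` of `g` for the eigenvalue `ε`, which is read off the kernel dimensions of `(g - ε)^k`:
`2 * kd s = kd (s - 1) + kd (s + 1) + mult`.
-/

set_option autoImplicit false
set_option linter.unusedVariables false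

namespace Cfsg.Agent.S2482P

open Polynomial DirectSum Matrix Cfsg.Agent.S2478P Cfsg.Agent.S2479P Cfsg.Agent.S2481P

universe u

namespace TYPEMULT

variable {F : Type u} [Field F]

/-- pure combinatorics: the number of `i` with `P i` and `e i = s` from the min-sums -/
theorem two_minsum {ι : Type*} [Fintype ι] (e : ι → ℕ) (P : ι → Prop) [DecidablePred P]
    (s : ℕ) (hs : 1 ≤ s) :
    2 * ∑ i with P i, min (e i) s =
      ∑ i with P i, min (e i) (s - 1) + ∑ i with P i, min (e i) (s + 1) +
        (Finset.univ.filter (fun i => P i ∧ e i = s)).card := by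
  obtain ⟨s', rfl⟩ : ∃ s', s = s' + 1 := ⟨s - 1, by omega⟩
  have h1 := KDCOUNT.step e P s'
  have h2 := KDCOUNT.step e P (s' + 1)
  have h3 := KDCOUNT.split e P (s' + 1)
  rw [Nat.add_sub_cancel]
  omega

open Classical in
/-- the root multiplicity of a monic irreducible polynomial -/
theorem rootMultiplicity_irreducible {p : F[X]} (hm : p.Monic) (hi : Irreducible p) (ε : F) :
    rootMultiplicity ε p = if p = X - C ε then 1 else 0 := by
  split_ifs with h
  · rw [h]
    exact rootMultiplicity_X_sub_C_self
  · rw [rootMultiplicity_eq_zero]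
    intro hroot
    have hdvd : (X - C ε) ∣ p := dvd_iff_isRoot.mpr hroot
    have hass : Associated (X - C ε) p :=
      Irreducible.associated_of_dvd (irreducible_X_sub_C ε) hi hdvd
    exact h (eq_of_monic_of_associated (monic_X_sub_C ε) hm hass).symm

open Classical in
/-- the root multiplicity of a product of monic irreducible polynomials -/
theorem rootMultiplicity_prod {ι : Type*} (S : Finset ι) (p : ι → F[X])
    (hp : ∀ i ∈ S, (p i).Monic ∧ Irreducible (p i)) (ε : F) :
    rootMultiplicity ε (∏ i ∈ S, p i) = (S.filter (fun i => p i = X - C ε)).card := by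
  induction S using Finset.induction_on with
  | empty =>
    rw [Finset.prod_empty, Finset.filter_empty, Finset.card_empty]
    exact rootMultiplicity_eq_zero (by simp)
  | insert a S ha ih =>
    have h1 := hp a (Finset.mem_insert_self a S)
    have h2 := ih (fun i hi => hp i (Finset.mem_insert_of_mem hi))
    have hne : p a * ∏ i ∈ S, p i ≠ 0 := by
      apply mul_ne_zero h1.1.ne_zero
      exact (monic_prod_of_monic S p
        (fun i hi => (hp i (Finset.mem_insert_of_mem hi)).1)).ne_zero
    rw [Finset.prod_insert ha, rootMultiplicity_mul hne, h2,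
      rootMultiplicity_irreducible h1.1 h1.2, Finset.filter_insert]
    split_ifs with h
    · rw [Finset.card_insert_of_notMem (fun hh => ha (Finset.mem_filter.mp hh).1)]
      omega
    · omega

end TYPEMULT

open TYPEMULT in
open Classical in
/-- piece TYPEMULT (a): the kernel dimensions of `(g - ε)^k` and the blocks of size `s` -/
theorem TYPEMULT.two_kd {F : Type u} [Field F] {N : ℕ} (g : Matrix (Fin N) (Fin N) F)
    {ι : Type u} [Fintype ι] (p : ι → F[X]) (e : ι → ℕ)
    (hp : ∀ i, (p i).Monic ∧ Irreducible (p i))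
    (Φ : Nonempty (Module.AEval' (Matrix.toLin' g) ≃ₗ[F[X]]
      ⨁ i, F[X] ⧸ Submodule.span F[X] {p i ^ e i}))
    (ε : F) (s : ℕ) (hs : 1 ≤ s) :
    2 * kd g (X - C ε) s = kd g (X - C ε) (s - 1) + kd g (X - C ε) (s + 1) +
      (Finset.univ.filter (fun i => p i = X - C ε ∧ e i = s)).card := by
  have hk : ∀ k, kd g (X - C ε) k = ∑ i with p i = X - C ε, min (e i) k := by
    intro k
    rw [kd_eq_sum g p e hp Φ (monic_X_sub_C ε) (irreducible_X_sub_C ε) k, natDegree_X_sub_C,
      Finset.sum_filter]
    apply Finset.sum_congr rfl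
    intro i _
    rw [one_mul]
  rw [hk, hk, hk]
  exact two_minsum e (fun i => p i = X - C ε) s hs

open TYPEMULT in
/-- piece TYPEMULT (b): in terms of the type -/
theorem TYPEMULT.two_kd_type {F : Type u} [Field F] {N : ℕ} {g : Matrix (Fin N) (Fin N) F}
    {t : ℕ → F[X]} (ht : HasType g t) (ε : F) (s : ℕ) (hs : 1 ≤ s) :
    2 * kd g (X - C ε) s = kd g (X - C ε) (s - 1) + kd g (X - C ε) (s + 1) +
      rootMultiplicity ε (t s) := by
  classical
  obtain ⟨ι, hι, p, e, hpe, hsum, Φ, rfl⟩ := ht
  have h1 := TYPEMULT.two_kd g p e (fun i => ⟨(hpe i).1, (hpe i).2.1⟩) Φ ε s hs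
  have h2 : rootMultiplicity ε (∏ i with e i = s, p i) =
      (Finset.univ.filter (fun i => p i = X - C ε ∧ e i = s)).card := by
    rw [rootMultiplicity_prod _ p (fun i _ => ⟨(hpe i).1, (hpe i).2.1⟩) ε, Finset.filter_filter]
    congr 1
    apply Finset.filter_congr
    intro i _
    exact and_comm
  show 2 * kd g (X - C ε) s = kd g (X - C ε) (s - 1) + kd g (X - C ε) (s + 1) +
      rootMultiplicity ε (∏ i with e i = s, p i)
  rw [h2]
  convert h1 using 3

end Cfsg.Agent.S2482P
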