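import Mathlib
import Cfsg.Agent.Helper14.S2482TYPESR
import Cfsg.Agent.Helper14.S2482TYPEMULT
import Cfsg.Agent.Helper14.S2482SRPAR
import Cfsg.Agent.Helper15.S2478HPROP

/-!
# S2482 (class number of `Sp_{2n}(q)`), chapter (U4) TYPES, piece TSPMEM

The type of an isometry `g` of a nondegenerate bilinear form on a space of dimension `2n` is an
admissible symplectic type tuple (`TSp F (2n) n`), as soon as the Jordan blocks of odd size for the
eigenvalues `±1` come in even numbers (which chapter U3 proves for alternating forms).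
-/

set_option autoImplicit false
set_option linter.unusedVariables false

namespace Cfsg.Agent.S2482P

open Polynomial DirectSum Matrix Cfsg.Agent.S2478P Cfsg.Agent.S2479P Cfsg.Agent.S2481P

universe u

/-- a type of a matrix of size `N` lies in `T F N N` -/
theorem TSPMEM.mem_T {F : Type u} [Field F] {N : ℕ} {g : Matrix (Fin N) (Fin N) F}
    {t : ℕ → F[X]} (ht : HasType g t) : t ∈ T F N N := by
  obtain ⟨ι, hι, p, e, hpe, hsum, Φ, rfl⟩ := ht
  exact prod_mem_T p e N hpe hsum

/-- piece TSPMEM -/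
theorem TSPMEM.mem_TSp {F : Type u} [Field F] (h2 : (2 : F) ≠ 0) {n : ℕ}
    {J Ji g : Matrix (Fin (2 * n)) (Fin (2 * n)) F} (h : Ji * J = 1) (hg : gᵀ * J * g = J)
    {t : ℕ → F[X]} (ht : HasType g t)
    (hpar : ∀ s, Odd s → Even (rootMultiplicity 1 (t s)) ∧ Even (rootMultiplicity (-1) (t s))) :
    t ∈ TSp F (2 * n) n := by
  have hT := TSPMEM.mem_T ht
  refine ⟨hT, fun m => TYPESR.tilde0_of_isometry h hg ht m, fun m hm => ?_⟩
  obtain ⟨h1, h3⟩ := hpar m hm
  exact SRPAR.main h2 (hT.1 m).1 (hT.1 m).2 (TYPESR.tilde0_of_isometry h hg ht m) h1 h3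

end Cfsg.Agent.S2482P
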