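import Mathlib
import Cfsg.Agent.Helper5.S2536DefsA

set_option autoImplicit false

/-! S2536 stage 2, piece SEVENA: a primitive group of degree `7` with a Jordan set of size `4`
has order divisible by `3` (it is `2`-transitive, Jordan). -/

namespace Cfsg.Agent.S2536P

open Equiv Nat

universe u v

namespace SEVENA

/-- a `k`-transitive group has order divisible by `n! / (n - k)!` -/
theorem index_mul_factorial {G : Type*} [Group G] {α : Type*} [MulAction G α] [Finite α] {k : ℕ}
    (Hk : MulAction.IsMultiplyPretransitive G α k) (hk : k ≤ Nat.card α) :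
    ∃ d : ℕ, d ∣ Nat.card G ∧ d * (Nat.card α - k).factorial = (Nat.card α).factorial := by
  classical
  have : Fintype α := Fintype.ofFinite α
  obtain ⟨t, -, ht⟩ := Finset.exists_subset_card_eq (s := (Finset.univ : Finset α)) (n := k)
    (by rw [Finset.card_univ, ← Nat.card_eq_fintype_card]; exact hk)
  have hs : (t : Set α).ncard = k := by rw [Set.ncard_coe_finset, ht]
  exact ⟨(fixingSubgroup G (t : Set α)).index, Subgroup.index_dvd_card _,
    Hk.index_of_fixingSubgroup_mul hs⟩

/-- the Jordan condition says that the fixing subgroup of the complement is transitive -/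
theorem isPretransitive_of_jordan {α : Type u} {M : Subgroup (Perm α)} (Γ : Set α)
    (hJ : ∀ x ∈ Γ, ∀ y ∈ Γ, ∃ g ∈ M, (∀ z ∉ Γ, g z = z) ∧ g x = y) :
    MulAction.IsPretransitive (fixingSubgroup M Γᶜ) (SubMulAction.ofFixingSubgroup M Γᶜ) := by
  refine ⟨fun x y => ?_⟩
  have hx : (x : α) ∈ Γ := by
    have := x.2
    rw [SubMulAction.mem_ofFixingSubgroup_iff] at this
    simpa using this
  have hy : (y : α) ∈ Γ := by
    have := y.2
    rw [SubMulAction.mem_ofFixingSubgroup_iff] at this
    simpa using this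
  obtain ⟨g, hgM, hfix, hgx⟩ := hJ x hx y hy
  refine ⟨⟨⟨g, hgM⟩, ?_⟩, ?_⟩
  · rw [mem_fixingSubgroup_iff]
    intro z hz
    exact hfix z hz
  · apply Subtype.ext
    exact hgx

end SEVENA

/-- SEVENA (Mathlib `MulAction.IsPreprimitive.is_two_pretransitive`: `M` is 2-transitive, so `42 ∣ |M|`) -/
theorem dvd_card_of_jordan_four_seven {α : Type u} [Fintype α] [DecidableEq α]
    {M : Subgroup (Perm α)}
    (hprim : MulAction.IsPreprimitive M α) (h7 : Fintype.card α = 7) (Γ : Set α) (hΓ : Γ.ncard = 4)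
    (hJ : ∀ x ∈ Γ, ∀ y ∈ Γ, ∃ g ∈ M, (∀ z ∉ Γ, g z = z) ∧ g x = y) : 3 ∣ Nat.card M := by
  have hcard : Nat.card α = 7 := by rw [Nat.card_eq_fintype_card, h7]
  have hc : (Γᶜ : Set α).ncard = 2 + 1 := by
    rw [Set.ncard_compl, hΓ, hcard]
  have h2 : MulAction.IsMultiplyPretransitive M α 2 :=
    hprim.is_two_pretransitive hc (by rw [hcard]; norm_num) (SEVENA.isPretransitive_of_jordan Γ hJ)
  obtain ⟨d, hd, hmul⟩ := SEVENA.index_mul_factorial h2 (by rw [hcard]; norm_num)
  rw [hcard] at hmul
  have hd42 : d = 42 := by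
    have : d * 120 = 5040 := by simpa [Nat.factorial] using hmul
    omega
  rw [hd42] at hd
  exact dvd_trans (by norm_num) hd

end Cfsg.Agent.S2536P
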