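import Mathlib
import Cfsg.Agent.Helper5.S2536DefsA
import Cfsg.Agent.Helper14.S2536SEVENA
import Cfsg.Agent.S3707

set_option autoImplicit false

/-! S2536 stage 2, piece EIGHTA: a primitive group of degree `8` with a Jordan set of size `4`
has order divisible by `3` (it is `3`-transitive by S3707). -/

namespace Cfsg.Agent.S2536P

open Equiv Nat

universe u v

/-- EIGHTA (`Cfsg.Agent.S3707.result`) -/
theorem dvd_card_of_jordan_four_eight {α : Type u} [Fintype α] [DecidableEq α]
    {M : Subgroup (Perm α)}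
    (hprim : MulAction.IsPreprimitive M α) (h8 : Fintype.card α = 8) (Γ : Set α) (hΓ : Γ.ncard = 4)
    (hJ : ∀ x ∈ Γ, ∀ y ∈ Γ, ∃ g ∈ M, (∀ z ∉ Γ, g z = z) ∧ g x = y) : 3 ∣ Nat.card M := by
  have hcard : Nat.card α = 8 := by rw [Nat.card_eq_fintype_card, h8]
  have h3 : MulAction.IsMultiplyPretransitive M α 3 := by
    apply Cfsg.Agent.S3707.result hprim Γ (by rw [hΓ]; norm_num) (by rw [hΓ, hcard])
    intro x hx y hy
    obtain ⟨g, hgM, hfix, hgx⟩ := hJ x hx y hy
    exact ⟨⟨g, hgM⟩, hfix, hgx⟩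
  obtain ⟨d, hd, hmul⟩ := SEVENA.index_mul_factorial h3 (by rw [hcard]; norm_num)
  rw [hcard] at hmul
  have hd336 : d = 336 := by
    have : d * 120 = 40320 := by simpa [Nat.factorial] using hmul
    omega
  rw [hd336] at hd
  exact dvd_trans (by norm_num) hd

end Cfsg.Agent.S2536P
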