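import Mathlib
import Cfsg.Agent.Helper5.S2536DefsA

set_option autoImplicit false

/-! S2536 stage 2, piece EXTFIX: a Hall subgroup of the alternating group fixing a point extends,
by induction, to a subgroup of twice its order. -/

namespace Cfsg.Agent.S2536P

open Equiv Nat

universe u v

section Alt

variable {α : Type u} [Fintype α] [DecidableEq α]

namespace EXTFIX

theorem card_ne (x₀ : α) : Fintype.card {x // x ≠ x₀} = Fintype.card α - 1 := by
  rw [Fintype.card_subtype_compl (fun x => x = x₀)]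
  simp

/-- an element fixing `x₀` comes from a permutation of the complement -/
theorem exists_ofSubtype (x₀ : α) (g : Perm α) (hg : g x₀ = x₀) :
    ∃ σ : Perm {x // x ≠ x₀}, Perm.ofSubtype σ = g := by
  have h1 : ∀ x, g x ≠ x₀ ↔ x ≠ x₀ := by
    intro x
    constructor
    · intro h hx
      exact h (by rw [hx, hg])
    · intro h hx
      apply h
      apply g.injective
      rw [hx, hg]
  refine ⟨g.subtypePerm h1, Perm.ofSubtype_subtypePerm h1 ?_⟩
  intro x hx hx0
  apply hx
  rw [hx0, hg]

end EXTFIX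

/-- EXTFIX -/
theorem ext_fix {π : Set ℕ} (h2 : 2 ∈ π) {M : Subgroup (Perm α)} (hM : AHall π M) (x₀ : α)
    (hfix : ∀ g ∈ M, g x₀ = x₀) (h3 : 3 ≤ Fintype.card α)
    (ih : ∀ M' : Subgroup (Perm {x // x ≠ x₀}), AHall π M' →
      ∃ M₀' : Subgroup (Perm {x // x ≠ x₀}), M' ≤ M₀' ∧ Nat.card M₀' = 2 * Nat.card M') :
    ∃ M₀ : Subgroup (Perm α), M ≤ M₀ ∧ Nat.card M₀ = 2 * Nat.card M := by
  obtain ⟨emb, hemb⟩ : ∃ emb : Perm {x // x ≠ x₀} →* Perm α, emb = Perm.ofSubtype := ⟨_, rfl⟩
  have hinj : Function.Injective emb := by rw [hemb]; exact Perm.ofSubtype_injective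
  have hrange : M ≤ emb.range := by
    intro g hg
    obtain ⟨σ, hσ⟩ := EXTFIX.exists_ofSubtype x₀ g (hfix g hg)
    exact ⟨σ, by rw [hemb]; exact hσ⟩
  have hmap : (M.comap emb).map emb = M := Subgroup.map_comap_eq_self hrange
  have hcardM' : Nat.card (M.comap emb) = Nat.card M := by
    rw [← Subgroup.card_map_of_injective hinj, hmap]
  -- `M'` is a Hall subgroup of the alternating group of the complement
  have hM' : AHall π (M.comap emb) := by
    have hle : M.comap emb ≤ alternatingGroup {x // x ≠ x₀} := by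
      intro σ hσ
      have h1 : emb σ ∈ alternatingGroup α := hM.1 hσ
      rw [Perm.mem_alternatingGroup] at h1 ⊢
      rw [hemb, Perm.sign_ofSubtype] at h1
      exact h1
    refine ⟨hle, by rw [hcardM']; exact hM.2.1, ?_⟩
    obtain ⟨-, -, i, hi, hiπ⟩ := hM
    obtain ⟨i', hi'⟩ := Subgroup.card_dvd_of_le hle
    refine ⟨i', hi', ?_⟩
    have hβ : Fintype.card {x // x ≠ x₀} = Fintype.card α - 1 := EXTFIX.card_ne x₀
    have e1 := two_mul_card_alt (α := α) (by omega)
    have e2 := two_mul_card_alt (α := {x // x ≠ x₀}) (by rw [hβ]; omega)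
    rw [hβ] at e2
    have e3 : (Fintype.card α)! = Fintype.card α * (Fintype.card α - 1)! := by
      obtain ⟨k, hk⟩ : ∃ k, Fintype.card α = k + 1 := ⟨Fintype.card α - 1, by omega⟩
      rw [hk, Nat.factorial_succ, Nat.add_sub_cancel]
    -- `|Alt α| = n * |Alt β|`
    have e4 : Nat.card (alternatingGroup α) =
        Fintype.card α * Nat.card (alternatingGroup {x // x ≠ x₀}) := by
      have : 2 * Nat.card (alternatingGroup α) =
          2 * (Fintype.card α * Nat.card (alternatingGroup {x // x ≠ x₀})) := by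
        rw [e1, e3, ← e2]; ring
      omega
    rw [hi, hi', hcardM'] at e4
    have hpos : 0 < Nat.card M := Nat.card_pos
    have e5 : i = Fintype.card α * i' := by
      have : Nat.card M * i = Nat.card M * (Fintype.card α * i') := by rw [e4]; ring
      exact Nat.eq_of_mul_eq_mul_left hpos this
    exact piPrime_of_dvd hiπ ⟨Fintype.card α, by rw [e5]; ring⟩
  obtain ⟨M₀', hle', hcard'⟩ := ih (M.comap emb) hM'
  refine ⟨M₀'.map emb, ?_, ?_⟩
  · rw [← hmap]
    exact Subgroup.map_mono hle'
  · rw [Subgroup.card_map_of_injective hinj, hcard', hcardM']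

end Alt

end Cfsg.Agent.S2536P
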