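import Mathlib
import Cfsg.Prelude.Def_Solvable
import Cfsg.Agent.Lead.S2553Defs
import Cfsg.Agent.Lead.S2553IDX

set_option autoImplicit false

/-! # S2553 piece A7REC (helper14): a subgroup of order 2520 of `A₈` is isomorphic to `A₇`
(action on the 8 cosets) -/

namespace Cfsg.Agent.S2553P

namespace A7REC

open Equiv.Perm

/-- a subgroup of index `8` of a simple group of order `20160` is isomorphic to `A₇` -/
theorem core {G : Type*} [Group G] [Finite G] [IsSimpleGroup G] (hG : Nat.card G = 20160)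
    (U' : Subgroup G) (hU : Nat.card ↥U' = 2520) :
    Nonempty (↥U' ≃* ↥(alternatingGroup (Fin 7))) := by
  classical
  let _ : Fintype (G ⧸ U') := Fintype.ofFinite _
  have hΩ : Fintype.card (G ⧸ U') = 8 := by
    have h := Subgroup.index_mul_card U'
    rw [hU, hG] at h
    have h8 : U'.index = 8 := by omega
    rw [← Nat.card_eq_fintype_card]
    exact h8
  obtain ⟨ω₀, hω₀⟩ : ∃ ω₀ : G ⧸ U', ω₀ = ((1 : G) : G ⧸ U') := ⟨_, rfl⟩
  obtain ⟨φ, hφ⟩ : ∃ φ : G →* Equiv.Perm (G ⧸ U'), φ = MulAction.toPermHom G (G ⧸ U') :=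
    ⟨_, rfl⟩
  have hφapp : ∀ (g : G) (x : G ⧸ U'), φ g x = g • x := by
    intro g x
    rw [hφ]
    rfl
  have hstab : ∀ g : G, g ∈ U' ↔ φ g ω₀ = ω₀ := by
    intro g
    rw [hφapp, hω₀, ← MulAction.mem_stabilizer_iff]
    exact (SetLike.ext_iff.mp (MulAction.stabilizer_quotient U') g).symm
  -- `φ` is injective
  have hker : φ.ker = ⊥ := by
    rcases (MonoidHom.normal_ker φ).eq_bot_or_eq_top with h | h
    · exact h
    · exfalso
      have hall : ∀ g : G, g ∈ U' := by
        intro g
        rw [hstab]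
        have hg : g ∈ φ.ker := by rw [h]; exact Subgroup.mem_top g
        rw [MonoidHom.mem_ker] at hg
        rw [hg]
        rfl
      have htop : U' = ⊤ := eq_top_iff.mpr (fun g _ => hall g)
      rw [htop, Subgroup.card_top, hG] at hU
      omega
  -- the image consists of even permutations
  have hsign : ∀ g : G, sign (φ g) = 1 := by
    obtain ⟨s, hs⟩ : ∃ s : G →* ℤˣ, s = sign.comp φ := ⟨_, rfl⟩
    rcases (MonoidHom.normal_ker s).eq_bot_or_eq_top with h | h
    · exfalso
      have hinj : Function.Injective s := (MonoidHom.ker_eq_bot_iff s).mp h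
      have hle := Nat.card_le_card_of_injective s hinj
      rw [hG, Nat.card_eq_fintype_card, Fintype.card_units_int] at hle
      omega
    · intro g
      have hg : g ∈ s.ker := by rw [h]; exact Subgroup.mem_top g
      rw [MonoidHom.mem_ker, hs] at hg
      exact hg
  -- the restriction of `U'` to the complement of the fixed point
  have hfix : ∀ h : ↥U', φ h ω₀ = ω₀ := fun h => (hstab h).mp h.2
  have hp : ∀ (h : ↥U') (x : G ⧸ U'), (φ h x ≠ ω₀) ↔ (x ≠ ω₀) := by
    intro h x
    rw [not_iff_not]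
    constructor
    · intro hx
      apply (φ h).injective
      rw [hx, hfix]
    · intro hx
      rw [hx, hfix]
  let ρ : ↥U' →* Equiv.Perm {x : G ⧸ U' // x ≠ ω₀} :=
    { toFun := fun h => (φ h).subtypePerm (hp h)
      map_one' := by
        apply Equiv.ext
        intro x
        apply Subtype.ext
        show φ ((1 : ↥U') : G) x = x
        rw [Subgroup.coe_one, map_one]
        rfl
      map_mul' := fun a b => by
        apply Equiv.ext
        intro x
        apply Subtype.ext
        show φ ((a * b : ↥U') : G) x = φ a (φ b x)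
        rw [Subgroup.coe_mul, map_mul, Equiv.Perm.mul_apply] }
  have hρapp : ∀ (h : ↥U') (x : {x : G ⧸ U' // x ≠ ω₀}), ((ρ h x : {x : G ⧸ U' // x ≠ ω₀}) : G ⧸ U') =
      φ h x := fun h x => rfl
  have hρsign : ∀ h : ↥U', sign (ρ h) = 1 := by
    intro h
    show sign ((φ h).subtypePerm (hp h)) = 1
    exact (sign_subtypePerm (φ (h : G)) (p := fun x => x ≠ ω₀) (hp h)
      (fun x hx hx0 => hx (by rw [hx0]; exact hfix h))).trans (hsign h)
  have hρinj : Function.Injective ρ := by
    rw [← MonoidHom.ker_eq_bot_iff, eq_bot_iff]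
    intro h hh
    rw [MonoidHom.mem_ker] at hh
    have h1 : φ (h : G) = 1 := by
      ext x
      by_cases hx : x = ω₀
      · rw [hx, hfix]
        rfl
      · have := hρapp h ⟨x, hx⟩
        rw [hh] at this
        exact this.symm
    have h2 : (h : G) ∈ φ.ker := MonoidHom.mem_ker.mpr h1
    rw [hker, Subgroup.mem_bot] at h2
    rw [Subgroup.mem_bot]
    exact Subtype.ext h2
  -- cardinalities
  have h7 : Fintype.card {x : G ⧸ U' // x ≠ ω₀} = 7 := by
    rw [Fintype.card_subtype_compl, Fintype.card_subtype_eq, hΩ]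
  have : Nontrivial {x : G ⧸ U' // x ≠ ω₀} := by
    rw [← Fintype.one_lt_card_iff_nontrivial, h7]
    norm_num
  have hcardAlt : Nat.card ↥(alternatingGroup {x : G ⧸ U' // x ≠ ω₀}) = 2520 := by
    rw [nat_card_alternatingGroup, Nat.card_eq_fintype_card, h7]
    decide
  let ρ' : ↥U' →* ↥(alternatingGroup {x : G ⧸ U' // x ≠ ω₀}) :=
    ρ.codRestrict _ (fun h => mem_alternatingGroup.mpr (hρsign h))
  have hρ'inj : Function.Injective ρ' := by
    intro a b hab
    apply hρinj
    exact congrArg Subtype.val hab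
  have hbij : Function.Bijective ρ' :=
    (Nat.bijective_iff_injective_and_card ρ').mpr ⟨hρ'inj, by rw [hU, hcardAlt]⟩
  exact ⟨(MulEquiv.ofBijective ρ' hbij).trans
    (Equiv.altCongrHom (Fintype.equivFinOfCardEq h7))⟩

end A7REC

/-- A7REC: a subgroup of order 2520 of `A₈` is isomorphic to `A₇` -/
theorem iso_A7_of_card (U : Subgroup Γ8) (hUA : U ≤ A8) (hcard : Nat.card ↥U = 2520) :
    Nonempty (↥U ≃* ↥(alternatingGroup (Fin 7))) := by
  have hs : IsSimpleGroup ↥A8 := IDX.A8_simple
  have e : ↥(U.subgroupOf A8) ≃* ↥U := Subgroup.subgroupOfEquivOfLe hUA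
  have hU' : Nat.card ↥(U.subgroupOf A8) = 2520 := by
    rw [Nat.card_congr e.toEquiv, hcard]
  obtain ⟨f⟩ := A7REC.core card_A8 (U.subgroupOf A8) hU'
  exact ⟨e.symm.trans f⟩

end Cfsg.Agent.S2553P
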