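import Mathlib
import Cfsg.Prelude.Def_Solvable
import Cfsg.Agent.Lead.S2553Defs
import Cfsg.Agent.Helper4.CharSimple

set_option autoImplicit false

/-! # S2553 piece MINNORMAL (helper14): a minimal normal subgroup inside a nontrivial normal subgroup
is a direct power of a non-abelian simple group (when there are no normal `p`-subgroups) -/

namespace Cfsg.Agent.S2553P

open scoped IsMulCommutative in
/-- MINNORMAL: inside a nontrivial normal subgroup `C` there is a minimal normal subgroup `M` of the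
whole group, a direct power of a non-abelian simple group `T` -/
theorem exists_simple_in_normal {X : Type} [Group X] [Finite X]
    (hp : ∀ (p : ℕ) [Fact p.Prime] (N : Subgroup X), N.Normal → IsPGroup p ↥N → N = ⊥)
    (C : Subgroup X) (hC : C.Normal) (hne : C ≠ ⊥) :
    ∃ (M T : Subgroup X) (m : ℕ), M.Normal ∧ M ≤ C ∧ T ≤ M ∧ IsSimpleGroup ↥T ∧
      ¬ IsMulCommutative ↥T ∧ Nat.card ↥M = Nat.card ↥T ^ (m + 1) := by
  classical
  -- a minimal normal subgroup inside `C`
  let 𝒩 : Set (Subgroup X) := {M | M.Normal ∧ M ≠ ⊥ ∧ M ≤ C}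
  have h𝒩 : 𝒩.Nonempty := ⟨C, hC, hne, le_rfl⟩
  obtain ⟨M, ⟨hMn, hMne, hMC⟩, hMmin⟩ := wellFounded_lt.has_min 𝒩 h𝒩
  have hmin : ∀ K : Subgroup X, K.Normal → K ≤ M → K = ⊥ ∨ K = M := by
    intro K hK hle
    by_contra hcon
    push Not at hcon
    exact hMmin K ⟨hK, hcon.1, hle.trans hMC⟩ (lt_of_le_of_ne hle hcon.2)
  have : M.Normal := hMn
  have : Nontrivial ↥M := (Subgroup.nontrivial_iff_ne_bot M).mpr hMne
  -- no proper nontrivial subgroup of `M` is invariant under conjugation by `X`
  have hchar : ∀ M' : Subgroup ↥M, M'.Normal →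
      (∀ a : X, M'.map (MulAut.conjNormal (H := M) a).toMonoidHom ≤ M') → M' = ⊥ ∨ M' = ⊤ := by
    intro M' _ hinv
    have hKn : (M'.map M.subtype).Normal := by
      constructor
      intro n hn x
      obtain ⟨m', hm', rfl⟩ := hn
      refine ⟨MulAut.conjNormal (H := M) x m', hinv x ⟨m', hm', rfl⟩, ?_⟩
      rw [Subgroup.coe_subtype, MulAut.conjNormal_apply]
    rcases hmin (M'.map M.subtype) hKn (Subgroup.map_subtype_le M') with h | h
    · left
      rw [eq_bot_iff]
      intro m' hm'
      have h1 : (M.subtype m') ∈ M'.map M.subtype := ⟨m', hm', rfl⟩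
      rw [h, Subgroup.mem_bot] at h1
      rw [Subgroup.mem_bot]
      exact Subtype.ext h1
    · right
      rw [eq_top_iff]
      intro m' _
      have h1 : (m' : X) ∈ M'.map M.subtype := by rw [h]; exact m'.2
      obtain ⟨m'', hm'', h2⟩ := h1
      have : m'' = m' := Subtype.ext h2
      rw [← this]
      exact hm''
  obtain ⟨T0, m, hT0s, ⟨e⟩⟩ := Cfsg.Agent.Helper4.charSimple_iso_pi
    (MulAut.conjNormal (G := X) (H := M)) hchar
  have hinj : Function.Injective M.subtype := Subgroup.subtype_injective M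
  let eT : ↥T0 ≃* ↥(T0.map M.subtype) := T0.equivMapOfInjective M.subtype hinj
  have hTs : IsSimpleGroup ↥(T0.map M.subtype) := eT.symm.isSimpleGroup
  have hcardT : Nat.card ↥(T0.map M.subtype) = Nat.card ↥T0 := (Nat.card_congr eT.toEquiv).symm
  have hcardM : Nat.card ↥M = Nat.card ↥T0 ^ (m + 1) := by
    rw [Nat.card_congr e.toEquiv, Nat.card_fun, Nat.card_eq_fintype_card (α := Fin (m + 1)),
      Fintype.card_fin]
  refine ⟨M, T0.map M.subtype, m, hMn, hMC, Subgroup.map_subtype_le T0, hTs, ?_, ?_⟩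
  · intro hcomm
    have hprime : (Nat.card ↥(T0.map M.subtype)).Prime := IsSimpleGroup.prime_card
    rw [hcardT] at hprime
    have : Fact (Nat.card ↥T0).Prime := ⟨hprime⟩
    have hpg : IsPGroup (Nat.card ↥T0) ↥M := IsPGroup.of_card hcardM
    exact hMne (hp (Nat.card ↥T0) M hMn hpg)
  · rw [hcardT]
    exact hcardM

end Cfsg.Agent.S2553P
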