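import Mathlib
import Cfsg.Prelude.Def_ClassicalGeometry
import Cfsg.Agent.Helper17.S2558GDefs
import Cfsg.Agent.Helper14.S2558OFITSUB
import Cfsg.Agent.Helper25.S2558OFITPACK

/-! # S2482 chapter (G), piece FIT2: splitting off the generalized `c`-eigenspace, `c = ±1`. -/

set_option autoImplicit false

namespace Cfsg.Agent.S2558P

open Polynomial Cfsg.Agent.Helper2.SympInvol Cfsg.Agent.S2676P
  Cfsg.Agent.S2478P Cfsg.Agent.S2481P Cfsg.Agent.S2482P

universe u

variable {F : Type u} [Field F]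

namespace OFIT2

/-- transport of `(g - c)^k` along an equivariant embedding -/
theorem coe_pow_apply {V₁ V : Type*} [AddCommGroup V₁] [Module F V₁] [AddCommGroup V] [Module F V]
    (W : Submodule F V) (g₁ : Module.End F V₁) (g : Module.End F V) (i : V₁ ≃ₗ[F] W)
    (hi : ∀ v, ((i (g₁ v) : W) : V) = g (i v)) (c : F) (k : ℕ) (v : V₁) :
    ((i (((g₁ - algebraMap F (Module.End F V₁) c) ^ k) v) : W) : V) =
      ((g - algebraMap F (Module.End F V) c) ^ k) (i v) := by
  induction k generalizing v with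
  | zero => simp
  | succ k ih =>
    rw [pow_succ, Module.End.mul_apply, ih, pow_succ, Module.End.mul_apply]
    congr 1
    rw [LinearMap.sub_apply, LinearMap.sub_apply, Module.algebraMap_end_apply,
      Module.algebraMap_end_apply, map_sub, map_smul, Submodule.coe_sub, Submodule.coe_smul, hi]

theorem exists_split (S : SpSpace F) (hS : S.IsOrth) (c : F) (hc : c * c = 1) :
    ∃ S₁ S₂ : SpSpace F, S₁.IsOrth ∧ S₂.IsOrth ∧ S.IsSum S₁ S₂ ∧
      IsNilpotent (S₁.g - algebraMap F (Module.End F S₁.V) c) ∧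
      IsUnit (S₂.g - algebraMap F (Module.End F S₂.V) c) := by
  obtain ⟨W, U, hWU, hO, hgW, hgU, ⟨N, hN⟩, -, hinj⟩ := OFITSUB.fitting S hS c hc
  obtain ⟨S₁, S₂, hS₁, hS₂, hsum, ⟨i₁, hi₁⟩, ⟨i₂, hi₂⟩⟩ :=
    OFITPACK.exists_sum S hS W U hWU hO hgW hgU
  refine ⟨S₁, S₂, hS₁, hS₂, hsum, ⟨N, ?_⟩, ?_⟩
  · apply LinearMap.ext
    intro v
    have h1 := coe_pow_apply W S₁.g S.g i₁ hi₁ c N v
    rw [hN _ (i₁ v).2] at h1
    have h2 : i₁ (((S₁.g - algebraMap F (Module.End F S₁.V) c) ^ N) v) = 0 := Subtype.ext h1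
    rw [LinearMap.zero_apply]
    exact i₁.injective (by rw [h2, map_zero])
  · rw [LinearMap.isUnit_iff_ker_eq_bot, LinearMap.ker_eq_bot']
    intro x hx
    have h1 := coe_pow_apply U S₂.g S.g i₂ hi₂ c 1 x
    rw [pow_one, pow_one, hx, map_zero, Submodule.coe_zero] at h1
    have h2 : ((i₂ x : U) : S.V) = 0 := hinj _ (i₂ x).2 h1.symm
    have h3 : i₂ x = 0 := Subtype.ext h2
    exact i₂.injective (by rw [h3, map_zero])

end OFIT2

end Cfsg.Agent.S2558P
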