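import Mathlib
import Cfsg.Prelude.Def_Classical
import Cfsg.Agent.Helper17.S2558GDefs
import Cfsg.Agent.Helper22.S2482GLLIN
import Cfsg.Agent.Helper16.S2481KDSUM

/-! # S2558 chapter (G), piece OGLLIN: matrices of the same type are linearly equivariantly isomorphic;
every invertible matrix has a type (twin of Helper22.S2482GLLIN, for an arbitrary index type `ι ≃ Fin N`).
A matrix that has a type is invertible (`isUnit_det_of_hasType`). -/

set_option autoImplicit false

namespace Cfsg.Agent.S2558P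

open Polynomial DirectSum Cfsg.Agent.Helper2.SympInvol Cfsg.Agent.S2676P Cfsg.Agent.S2478P
  Cfsg.Agent.S2481P Cfsg.Agent.S2482P

universe u

variable {F : Type u} [Field F]

namespace OGLLIN

/-- a matrix that has a type (no elementary divisor is a power of `X`) is invertible -/
theorem isUnit_det_of_hasType {N : ℕ} {A : Matrix (Fin N) (Fin N) F} {t : ℕ → F[X]}
    (h : HasType A t) : IsUnit A.det := by
  classical
  obtain ⟨ι, fι, p, e, hp, -, Φ, -⟩ := h
  have h1 := kd_eq_sum A p e (fun i => ⟨(hp i).1, (hp i).2.1⟩) Φ monic_X irreducible_X 1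
  have h2 : (∑ i, if p i = X then (X : F[X]).natDegree * min (e i) 1 else 0) = 0 := by
    apply Finset.sum_eq_zero
    intro i _
    rw [if_neg (hp i).2.2.1]
  rw [h2] at h1
  unfold kd at h1
  rw [pow_one, aeval_X] at h1
  have h3 : LinearMap.ker (Matrix.toLin' A) = ⊥ := Submodule.finrank_eq_zero.mp h1
  have h4 : Function.Injective (Matrix.toLin' A) := LinearMap.ker_eq_bot.mp h3
  have h5 : Function.Injective A.mulVec := by
    intro v w hvw
    apply h4
    rw [Matrix.toLin'_apply, Matrix.toLin'_apply]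
    exact hvw
  exact (Matrix.isUnit_iff_isUnit_det A).1 (Matrix.mulVec_injective_iff_isUnit.1 h5)

theorem det_toFinO {ι : Type} [Fintype ι] [DecidableEq ι] {N : ℕ} (e : ι ≃ Fin N)
    (M : Matrix ι ι F) : (toFinO e M).det = M.det := by
  unfold toFinO
  exact Matrix.det_reindex_self e M

theorem linIso_of_hasType {ι : Type} [Fintype ι] [DecidableEq ι] {N : ℕ}
    (B : LinearMap.BilinForm F (ι → F)) (e : ι ≃ Fin N) (M M' : Matrix ι ι F) (t : ℕ → F[X])
    (h : HasType (toFinO e M) t) (h' : HasType (toFinO e M') t) : (ofO B M).LinIso (ofO B M') := by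
  classical
  have hu := isUnit_det_of_hasType h
  have hu' := isUnit_det_of_hasType h'
  let G : Matrix.GeneralLinearGroup (Fin N) F :=
    Matrix.GeneralLinearGroup.mkOfDetNeZero (toFinO e M) hu.ne_zero
  let G' : Matrix.GeneralLinearGroup (Fin N) F :=
    Matrix.GeneralLinearGroup.mkOfDetNeZero (toFinO e M') hu'.ne_zero
  have hG : ((G : Matrix.GeneralLinearGroup (Fin N) F) : Matrix (Fin N) (Fin N) F) = toFinO e M := rfl
  have hG' : ((G' : Matrix.GeneralLinearGroup (Fin N) F) : Matrix (Fin N) (Fin N) F) = toFinO e M' :=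
    rfl
  obtain ⟨κ, fκ, p, ee, hp, -, Φ, hpt⟩ := h
  obtain ⟨κ', fκ', p', ee', hp', -, Φ', hpt'⟩ := h'
  have hcnt := cnt_eq_of_prod_eq p ee p' ee' (fun i => ⟨(hp i).1, (hp i).2.1⟩)
    (fun i => ⟨(hp' i).1, (hp' i).2.1⟩) (fun m => by
      have h1 := congrFun hpt m
      have h2 := congrFun hpt' m
      exact h1.trans h2.symm)
  have hc := isConj_of_decomp N G G' p ee p' ee' Φ Φ' hcnt
  rw [isConj_iff] at hc
  obtain ⟨c, hc⟩ := hc
  have hc1 : (c : Matrix (Fin N) (Fin N) F) * toFinO e M =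
      toFinO e M' * (c : Matrix (Fin N) (Fin N) F) := by
    have h1 : c * G = G' * c := by rw [← hc]; group
    have h2 := congrArg (fun z : Matrix.GeneralLinearGroup (Fin N) F =>
      (z : Matrix (Fin N) (Fin N) F)) h1
    simpa [hG, hG'] using h2
  have hci1 : (c : Matrix (Fin N) (Fin N) F) *
      ((c⁻¹ : Matrix.GeneralLinearGroup (Fin N) F) : Matrix (Fin N) (Fin N) F) = 1 := by
    rw [← Units.val_mul, mul_inv_cancel, Units.val_one]
  have hci2 : ((c⁻¹ : Matrix.GeneralLinearGroup (Fin N) F) : Matrix (Fin N) (Fin N) F) *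
      (c : Matrix (Fin N) (Fin N) F) = 1 := by
    rw [← Units.val_mul, inv_mul_cancel, Units.val_one]
  -- transport to `ι`
  set C : Matrix ι ι F := (c : Matrix (Fin N) (Fin N) F).submatrix e e with hC
  set Ci : Matrix ι ι F :=
    ((c⁻¹ : Matrix.GeneralLinearGroup (Fin N) F) : Matrix (Fin N) (Fin N) F).submatrix e e with hCi
  have hsub : ∀ A : Matrix ι ι F, (Matrix.reindex e e A).submatrix e e = A := by
    intro A
    ext i j
    simp [Matrix.reindex_apply, Matrix.submatrix_apply]
  have hCg : C * M = M' * C := by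
    have h1 := congrArg (fun A : Matrix (Fin N) (Fin N) F => A.submatrix e e) hc1
    rw [← Matrix.submatrix_mul_equiv _ _ _ e, ← Matrix.submatrix_mul_equiv _ _ _ e] at h1
    unfold toFinO at h1
    rw [hsub, hsub] at h1
    exact h1
  have hCCi : C * Ci = 1 := by
    rw [hC, hCi, Matrix.submatrix_mul_equiv, hci1, Matrix.submatrix_one_equiv]
  have hCiC : Ci * C = 1 := by
    rw [hC, hCi, Matrix.submatrix_mul_equiv, hci2, Matrix.submatrix_one_equiv]
  let x : (ι → F) ≃ₗ[F] (ι → F) :=
    LinearEquiv.ofLinearMap (Matrix.toLin' C) (Matrix.toLin' Ci)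
      (by rw [← Matrix.toLin'_mul, hCCi, Matrix.toLin'_one])
      (by rw [← Matrix.toLin'_mul, hCiC, Matrix.toLin'_one])
  refine ⟨x, fun (v : ι → F) => ?_⟩
  show Matrix.toLin' C (Matrix.toLin' M v) = Matrix.toLin' M' (Matrix.toLin' C v)
  rw [← Matrix.toLin'_mul_apply, hCg, Matrix.toLin'_mul_apply]

/-- every invertible matrix has a type, which lies in `T F N N` -/
theorem exists_hasType {ι : Type} [Fintype ι] [DecidableEq ι] {N : ℕ} (e : ι ≃ Fin N)
    (M : Matrix ι ι F) (hM : IsUnit M.det) :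
    ∃ t : ℕ → F[X], HasType (toFinO e M) t ∧ t ∈ T F N N := by
  classical
  have hu : IsUnit (toFinO e M).det := by rw [det_toFinO]; exact hM
  let G : Matrix.GeneralLinearGroup (Fin N) F :=
    Matrix.GeneralLinearGroup.mkOfDetNeZero (toFinO e M) hu.ne_zero
  obtain ⟨κ, fκ, p, ee, hp, hsum, Φ⟩ := GLLIN.exists_decomp' N G
  exact ⟨fun m : ℕ => ∏ i with ee i = m, p i, ⟨κ, fκ, p, ee, hp, hsum, Φ, rfl⟩,
    prod_mem_T p ee N hp hsum⟩

end OGLLIN

end Cfsg.Agent.S2558P
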