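import Mathlib
import Cfsg.Prelude.Def_Classical
import Cfsg.Agent.Helper17.S2558GDefs
import Cfsg.Agent.Helper3.S2482SPOFSP

/-! # S2558 chapter (G), pieces OOFO and OCONJ: the space of an orthogonal matrix, its kernel dimensions,
and conjugacy from an equivariant isometry (twins of Helper3.S2482SPOFSP / S2482SPCONJ) -/

set_option autoImplicit false

namespace Cfsg.Agent.S2558P

open Polynomial Cfsg.Agent.Helper2.SympInvol Cfsg.Agent.S2676P Cfsg.Agent.S2478P Cfsg.Agent.S2481P
  Cfsg.Agent.S2482P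

universe u

variable {F : Type u} [Field F]

namespace OOFO

/-- a matrix preserves `Q` iff it preserves the polar form `B` (characteristic not two) -/
theorem preserves_iff {ι : Type} [Fintype ι] [DecidableEq ι] (h2 : (2 : F) ≠ 0) {Q : (ι → F) → F}
    {B : LinearMap.BilinForm F (ι → F)} (hQB : IsPolar Q B) (M : Matrix ι ι F) :
    (∀ u : ι → F, Q (M.mulVec u) = Q u) ↔
      ∀ u v : ι → F, B (Matrix.toLin' M u) (Matrix.toLin' M v) = B u v := by
  constructor
  · intro h u v
    have hq : ∀ w : ι → F, B (Matrix.toLin' M w) (Matrix.toLin' M w) = B w w := by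
      intro w
      rw [← hQB.eq, ← hQB.eq, Matrix.toLin'_apply, h]
    have h1 := hq (u + v)
    simp only [map_add, LinearMap.add_apply] at h1
    rw [hq u, hq v, hQB.symm (Matrix.toLin' M v) (Matrix.toLin' M u), hQB.symm v u] at h1
    have h3 : (2 : F) * B (Matrix.toLin' M u) (Matrix.toLin' M v) = 2 * B u v := by
      linear_combination h1
    exact mul_left_cancel₀ h2 h3
  · intro h u
    rw [hQB.eq, hQB.eq, ← Matrix.toLin'_apply, h]

theorem mem_isometryGroup {ι : Type} [Fintype ι] [DecidableEq ι] {Q : (ι → F) → F}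
    (g : Matrix.GeneralLinearGroup ι F) :
    g ∈ Cfsg.isometryGroup F Q ↔ ∀ u : ι → F, Q ((g : Matrix ι ι F).mulVec u) = Q u := by
  constructor
  · intro h u
    exact h u u
  · intro h u _
    exact h u

theorem isOrth_ofO {ι : Type} [Fintype ι] [DecidableEq ι] (h2 : (2 : F) ≠ 0) (Q : (ι → F) → F)
    (B : LinearMap.BilinForm F (ι → F)) (hQB : IsPolar Q B) (g : Cfsg.isometryGroup F Q) :
    (ofO B ((g : Matrix.GeneralLinearGroup ι F) : Matrix ι ι F)).IsOrth where
  symm := hQB.symm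
  nondeg := hQB.nondeg
  isom := (preserves_iff h2 hQB _).1 ((mem_isometryGroup _).1 g.2)

/-- kernel dimensions of the reindexed matrix -/
theorem kd_toFinO {ι : Type} [Fintype ι] [DecidableEq ι] {N : ℕ} (B : LinearMap.BilinForm F (ι → F))
    (e : ι ≃ Fin N) (M : Matrix ι ι F) (c : F) (k : ℕ) :
    kd (toFinO e M) (X - C c) k = (ofO B M).kdim c k := by
  unfold kd SpSpace.kdim
  rw [SPOFSP.aeval_pow]
  let L : (Fin N → F) ≃ₗ[F] (ι → F) := LinearEquiv.funCongrLeft F F e
  refine SPOFSP.finrank_ker_pow_eq L (Matrix.toLin' (toFinO e M)) (ofO B M).g ?_ c k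
  intro v
  show L (Matrix.toLin' (toFinO e M) v) = Matrix.toLin' M (L v)
  funext i
  rw [Matrix.toLin'_apply, Matrix.toLin'_apply]
  show (toFinO e M).mulVec v (e i) = _
  unfold toFinO
  rw [Matrix.mulVec, Matrix.mulVec]
  unfold dotProduct
  rw [← Equiv.sum_comp e]
  refine Finset.sum_congr rfl (fun j _ => ?_)
  show (Matrix.reindex e e M) (e i) (e j) * v (e j) = M i j * L v j
  rw [Matrix.reindex_apply, Matrix.submatrix_apply, Equiv.symm_apply_apply, Equiv.symm_apply_apply]
  rfl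

end OOFO

namespace OCONJ

theorem isConj_of_iso {ι : Type} [Fintype ι] [DecidableEq ι] (h2 : (2 : F) ≠ 0) (Q : (ι → F) → F)
    (B : LinearMap.BilinForm F (ι → F)) (hQB : IsPolar Q B) (g g' : Cfsg.isometryGroup F Q)
    (h : (ofO B ((g : Matrix.GeneralLinearGroup ι F) : Matrix ι ι F)).Iso
      (ofO B ((g' : Matrix.GeneralLinearGroup ι F) : Matrix ι ι F))) : IsConj g g' := by
  obtain ⟨φ, hB, hφ⟩ := h
  change (ι → F) ≃ₗ[F] (ι → F) at φ
  have hB' : ∀ u v : ι → F, B (φ u) (φ v) = B u v := hB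
  have hφ' : ∀ v : ι → F,
      φ (Matrix.toLin' ((g : Matrix.GeneralLinearGroup ι F) : Matrix ι ι F) v) =
        Matrix.toLin' ((g' : Matrix.GeneralLinearGroup ι F) : Matrix ι ι F) (φ v) := hφ
  let A : Matrix ι ι F := LinearMap.toMatrix' (φ : (ι → F) →ₗ[F] (ι → F))
  let A' : Matrix ι ι F := LinearMap.toMatrix' (φ.symm : (ι → F) →ₗ[F] (ι → F))
  have hAA' : A * A' = 1 := by
    show LinearMap.toMatrix' (φ : (ι → F) →ₗ[F] (ι → F)) *
      LinearMap.toMatrix' (φ.symm : (ι → F) →ₗ[F] (ι → F)) = 1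
    rw [← LinearMap.toMatrix'_comp, LinearEquiv.comp_coe, LinearEquiv.symm_trans_self,
      LinearEquiv.refl_toLinearMap, LinearMap.toMatrix'_id]
  have hA'A : A' * A = 1 := by
    show LinearMap.toMatrix' (φ.symm : (ι → F) →ₗ[F] (ι → F)) *
      LinearMap.toMatrix' (φ : (ι → F) →ₗ[F] (ι → F)) = 1
    rw [← LinearMap.toMatrix'_comp, LinearEquiv.comp_coe, LinearEquiv.self_trans_symm,
      LinearEquiv.refl_toLinearMap, LinearMap.toMatrix'_id]
  let U : Matrix.GeneralLinearGroup ι F := ⟨A, A', hAA', hA'A⟩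
  have hAlin : Matrix.toLin' A = (φ : (ι → F) →ₗ[F] (ι → F)) := Matrix.toLin'_toMatrix' _
  have hUmem : U ∈ Cfsg.isometryGroup F Q := by
    rw [OOFO.mem_isometryGroup]
    refine (OOFO.preserves_iff h2 hQB A).2 ?_
    intro u v
    rw [hAlin]
    exact hB' u v
  have hcomm : A * ((g : Matrix.GeneralLinearGroup ι F) : Matrix ι ι F) =
      ((g' : Matrix.GeneralLinearGroup ι F) : Matrix ι ι F) * A := by
    apply Matrix.toLin'.injective
    rw [Matrix.toLin'_mul, Matrix.toLin'_mul, hAlin]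
    refine LinearMap.ext (fun v => ?_)
    rw [LinearMap.comp_apply, LinearMap.comp_apply]
    exact hφ' v
  rw [isConj_iff]
  refine ⟨⟨U, hUmem⟩, ?_⟩
  have hc : (⟨U, hUmem⟩ : Cfsg.isometryGroup F Q) * g = g' * ⟨U, hUmem⟩ := by
    apply Subtype.ext
    apply Units.ext
    exact hcomm
  rw [hc, mul_assoc, mul_inv_cancel, mul_one]

end OCONJ

end Cfsg.Agent.S2558P
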