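import Cfsg.Agent.S2855P.Defs

set_option autoImplicit false
set_option linter.unusedSectionVars false

namespace Cfsg.Agent.S2855P

open Cfsg
open scoped commutatorElement

section General

variable {G : Type*} [Group G] [Finite G] {p : ℕ} [Fact p.Prime]

/-- piece CENT1: `p`-elements of `E` centralize `Y` when `[E, Y]` lies in a subgroup `A` centralized
by `E` and without elements of order `p`. -/
theorem pElement_comm (E A Y : Subgroup G) (hcomm : ∀ e ∈ E, ∀ y ∈ Y, ⁅e, y⁆ ∈ A)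
    (hAE : ∀ a ∈ A, ∀ e ∈ E, a * e = e * a) (hA : ∀ a ∈ A, a ^ p = 1 → a = 1) :
    ∀ t ∈ E, (∃ k : ℕ, t ^ (p ^ k) = 1) → ∀ y ∈ Y, t * y = y * t := by
  intro t ht ⟨k, hk⟩ y hy
  -- `[t^n, y] = [t, y]^n`
  have hpow : ∀ n : ℕ, ⁅t ^ n, y⁆ = ⁅t, y⁆ ^ n := by
    intro n
    induction n with
    | zero => simp [commutatorElement_def]
    | succ n ih =>
      have hmem : ⁅t ^ n, y⁆ ∈ A := hcomm _ (E.pow_mem ht n) y hy
      have hc : ⁅t ^ n, y⁆ * t = t * ⁅t ^ n, y⁆ := hAE _ hmem t ht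
      have h1 : ⁅t ^ (n + 1), y⁆ = t * ⁅t ^ n, y⁆ * t⁻¹ * ⁅t, y⁆ := by
        rw [pow_succ', commutatorElement_def, commutatorElement_def, commutatorElement_def]
        group
      rw [h1, ← hc, mul_assoc (⁅t ^ n, y⁆), mul_inv_cancel, mul_one, ih, pow_succ]
  -- no nontrivial `p`-power torsion in `A`
  have hAk : ∀ k : ℕ, ∀ a ∈ A, a ^ (p ^ k) = 1 → a = 1 := by
    intro k
    induction k with
    | zero => intro a _ h; simpa using h
    | succ k ih =>
      intro a ha h
      apply ih a ha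
      apply hA _ (A.pow_mem ha _)
      rw [← pow_mul, ← pow_succ]
      exact h
  have h2 : ⁅t, y⁆ = 1 := by
    apply hAk k _ (hcomm t ht y hy)
    rw [← hpow, hk]
    simp [commutatorElement_def]
  exact commutatorElement_eq_one_iff_mul_comm.1 h2

end General

end Cfsg.Agent.S2855P
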