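import Cfsg.Prelude.Def_LocalStructure
import Cfsg.Agent.Helper14.Amalgam6
import Cfsg.Agent.Helper14.Irreducible2
import Cfsg.Agent.Helper20.S2856VSMUL
import Cfsg.Agent.Helper20.S2856ZLE

/-!
S2856 piece VGEN: `V_λ^{(k+1)}` lies in every `G_λ`-invariant subgroup containing `V_μ^{(k)}` for one
neighbour `μ` of `λ`.
-/

set_option autoImplicit false
set_option linter.unusedSectionVars false

namespace Cfsg.Agent.S2856P

open Cfsg Cfsg.Agent.Helper14

variable {X : Type*} [Group X] {p : ℕ} [Fact p.Prime] (M₁ M₂ : Subgroup X)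

/-- piece VGEN: `V_λ^{(k+1)}` lies in every `G_λ`-invariant subgroup containing `V_μ^{(k)}` for one
neighbour `μ` of `λ`. -/
theorem vertexVIter_succ_le (h : IsCharPAmalgamPair p M₁ M₂) (k : ℕ) (lam μ : CosetVertex M₁ M₂)
    (hadj : (cosetGraph M₁ M₂).Adj lam μ) (N : Subgroup X)
    (hN : MulAction.stabilizer X lam ≤ Subgroup.normalizer (N : Set X))
    (hle : vertexVIter p M₁ M₂ k μ ≤ N) : vertexVIter p M₁ M₂ (k + 1) lam ≤ N := by
  have hgen := h.1.1
  have hconn := cosetGraph_connected M₁ M₂ hgen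
  have hZV : ∀ (j : ℕ) (ν ν' : CosetVertex M₁ M₂), (cosetGraph M₁ M₂).dist ν ν' ≤ j →
      vertexZ p ν' ≤ vertexVIter p M₁ M₂ j ν := by
    intro j ν ν' hd
    unfold vertexVIter
    exact le_iSup (fun μ : {μ : CosetVertex M₁ M₂ // (cosetGraph M₁ M₂).dist ν μ ≤ j} =>
      vertexZ p (μ : CosetVertex M₁ M₂)) ⟨ν', hd⟩
  have hnb : ∀ μ' : CosetVertex M₁ M₂, (cosetGraph M₁ M₂).Adj lam μ' →
      vertexVIter p M₁ M₂ k μ' ≤ N := by
    intro μ' hadj'
    obtain ⟨g, hg, rfl⟩ := neighbours_transitive M₁ M₂ lam μ μ' hadj hadj'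
    rw [vertexVIter_smul]
    have := mem_normalizer_iff_map_cj.1 (hN hg)
    rw [← this]
    exact Subgroup.map_mono hle
  have key : ∀ ν : CosetVertex M₁ M₂, (cosetGraph M₁ M₂).dist lam ν ≤ k + 1 →
      vertexZ p ν ≤ N := by
    intro ν hν
    by_cases hνl : lam = ν
    · subst hνl
      refine (vertexZ_le_iSup_adj M₁ M₂ h lam).trans (iSup_le ?_)
      rintro ⟨μ', hadj'⟩
      exact (hZV k μ' μ' (by simp)).trans (hnb μ' hadj')
    · obtain ⟨μ', hadj', hlt⟩ := exists_adj_dist_lt _ hconn hνl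
      exact (hZV k μ' ν (by omega)).trans (hnb μ' hadj')
  unfold vertexVIter
  apply iSup_le
  rintro ⟨ν, hν⟩
  exact key ν hν

end Cfsg.Agent.S2856P
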