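import Cfsg.Agent.Helper14.Asym11
import Cfsg.Agent.Helper14.S2862L
import Cfsg.Agent.Helper7.S2862Defs

/-! S2862: the hypotheses `KHyp` of the abstract KEY theorem (board `s2862pieces`) hold in the situation of the asymmetric
L-Lemma (`Y = Y_M`, `D = O_p(M)`, `H ∈ ℌ_G(D)`, `L` minimal), together with `H = ⟨Y^h, D⟩ = ⟨L, D⟩`. -/

set_option autoImplicit false
set_option linter.unusedSectionVars false

namespace Cfsg.Agent.Helper14

open Cfsg
open scoped commutatorElement

section S2862Inst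

variable {G : Type*} [Group G] [Finite G] {p : ℕ} [Fact p.Prime]

/-- `O_p(P) ∩ L ≤ O_p(L)` for `L ≤ P` -/
theorem pCoreOf_inf_le {L P : Subgroup G} (hLP : L ≤ P) : pCoreOf p P ⊓ L ≤ pCoreOf p L := by
  apply le_pCoreOf p inf_le_right _ ((pCoreOf_isPGroup p P).to_le inf_le_left)
  intro l hl
  rw [mem_normalizer_iff_map_cj, map_cj_inf]
  have h1 : (pCoreOf p P).map (cj l) = pCoreOf p P :=
    mem_normalizer_iff_map_cj.1 (le_normalizer_pCoreOf p P (hLP hl))
  rw [h1, map_cj_eq_self_of_mem hl]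

namespace FrakMSetup

variable {S : Sylow p G} {Q M : Subgroup G} (h : FrakMSetup p S Q M)

include h

/-- the data of the asymmetric L-Lemma give the hypotheses of the abstract KEY theorem -/
theorem exists_KHyp (hasym : ¬ IsSymmetricIn (largestPReducedOf p M)) {H : Subgroup G} (hH : IsInFrakH p M H)
    {L : Subgroup G} (hLH : L ≤ H) (hYL : largestPReducedOf p M ≤ L)
    (hYO : ¬ largestPReducedOf p M ≤ pCoreOf p L)
    (hmin : ∀ L' : Subgroup G, L' ≤ L → largestPReducedOf p M ≤ L' →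
      ¬ largestPReducedOf p M ≤ pCoreOf p L' → L' = L) :
    ∃ L0 : Subgroup G, Zip.LData p L (largestPReducedOf p M) L0 ∧
      Cfsg.Agent.S2862P.KHyp p H (largestPReducedOf p M) (pCoreOf p M) L L0 ∧
      L ⊔ pCoreOf p M = H := by
  set Y := largestPReducedOf p M with hY
  set D := pCoreOf p M with hD
  have hYD : Y ≤ D := largestPReducedOf_le_pCoreOf (p := p) M
  have hDp : IsPGroup p ↥D := pCoreOf_isPGroup p M
  have hYp : IsPGroup p ↥Y := hDp.to_le hYD
  have hDH : D ≤ H := hH.2.1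
  have hDY : D ≤ Subgroup.centralizer (Y : Set G) := pCoreOf_le_centralizer_largestPReducedOf (p := p) M
  have hzip : Zip.ZipHyp p L Y := by
    refine ⟨hYL, fun X hXL hXne hYX => ?_, hYO⟩
    by_contra hcon
    exact hXne (hmin X hXL hYX hcon)
  obtain ⟨L0, hL⟩ := Zip.exists_LData hzip hYp
  have hV := h.frakH_pCoreOf_le hasym hDH
  have hND : Subgroup.normalizer (D : Set G) ≤ Subgroup.normalizer (Y : Set G) :=
    h.normalizer_QM_le.trans h.le_normalizer_Y
  have hpnD : ∀ T : Subgroup G, IsPGroup p ↥T → D ≤ T → T ≤ Subgroup.normalizer (D : Set G) :=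
    fun T hT hDT => wc_le_normalizer (wcs_of_le_pGroup (h.wcs_QM hasym) hT hDT)
  -- `H = ⟨Y^g, D⟩` for `g ∈ L ∖ L0`
  have hgenH : ∀ g ∈ L, g ∉ L0 → Y.map (cj g) ⊔ D = H := by
    intro g hg hg0
    have hLP : L ≤ Y.map (cj g) ⊔ D := by
      rw [← hL.gen g hg hg0]
      exact sup_le (hYD.trans le_sup_right) le_sup_left
    have hPH : Y.map (cj g) ⊔ D ≤ H := sup_le ((Zip.map_cj_le_of_mem hg hYL).trans hLH) hDH
    by_contra hne
    have h1 : Y ≤ pCoreOf p (Y.map (cj g) ⊔ D) :=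
      hH.2.2.2 _ le_sup_right (lt_of_le_of_ne hPH hne)
    exact hYO ((le_inf h1 hYL).trans (pCoreOf_inf_le hLP))
  obtain ⟨g₀, hg₀, hg₀0⟩ := hL.far
  have hLD : L ⊔ D = H := by
    apply le_antisymm (sup_le hLH hDH)
    rw [← hgenH g₀ hg₀ hg₀0]
    exact sup_le_sup_right (Zip.map_cj_le_of_mem hg₀ hYL) D
  refine ⟨L0, hL, ?_, hLD⟩
  refine
    { hYD := hYD
      hDH := hDH
      hDp := hDp
      hDY := hDY
      hLH := hLH
      hYL0 := hL.hYL0
      hL0L := hL.max.1.le
      hchar := charP_ambient p hH.1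
      hVD := hV.trans inf_le_left
      hVY := hV.trans inf_le_right
      hmin := fun P hDP hPH hPne => hH.2.2.2 P hDP (lt_of_le_of_ne hPH hPne)
      hpn := fun T hT hDT => le_inf (hpnD T hT hDT) ((hpnD T hT hDT).trans hND)
      hwc := fun g T hT hDT hgT => (wcs_of_le_pGroup (h.wcs_QM hasym) hT hDT).2 g hgT
      hND := hND
      hsyl := fun T hT hDT => h.pGroup_inf_C_le T hT (h.pGroup_le_dagger hasym T hT hDT) hDT
      hasym := fun g h1 h2 => asym_commute hasym (Y.map (cj g)) Y ⟨g, rfl⟩ ⟨1, (map_cj_one Y).symm⟩ h2 h1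
      hU0 := hL.hU0
      hfar := hL.far
      hgenL := hL.gen
      hgenH := hgenH
      hOpL := hL.hOp
      hYV := hH.2.2.1 }

end FrakMSetup

end S2862Inst

end Cfsg.Agent.Helper14
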