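import Mathlib
import Cfsg.Agent.Helper7.S2862Defs
import Cfsg.Agent.Helper19.S2862CP3
import Cfsg.Agent.Helper22.S2862CP4
import Cfsg.Agent.Helper22.S2862CP7
import Cfsg.Agent.Helper10.ThreeSub

/-! Board `s2862pieces`, row S3b (core): `F_n = F` for `n ∈ L0`, with the rows S3a, B5, B8 (for `l = 1`) as hypotheses. -/

set_option autoImplicit false
set_option linter.unusedVariables false

namespace Cfsg.Agent.S2862P

open Cfsg
open Cfsg.Agent.Helper14 (cj)
open Subgroup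
open scoped commutatorElement

variable {G : Type*} [Group G] [Finite G] {p : ℕ} [Fact p.Prime]
variable {H Y D L L0 Vt Vb : Subgroup G}

theorem S3b_aux_core (K : KHyp p H Y D L L0) (C : ChiefPair p H Vt Vb) {n : G} (hn : n ∈ L0)
    (h3a : cjs n Y ≤ centralizer (Y : Set G) ∧ cjs n Y ≤ D)
    (h5 : fixP Vt Vb D = commP Vt Vb Y)
    (h8 : commP Vt Vb L ⊓ fixP Vt Vb Y = commP Vt Vb Y) :
    commP Vt Vb (cjs n Y) = commP Vt Vb Y := by
  have hL0H : L0 ≤ H := K.hL0L.trans K.hLH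
  have hYH : Y ≤ H := K.hYD.trans K.hDH
  have hYL : Y ≤ L := K.hYL0.trans K.hL0L
  have hnH : n ∈ H := hL0H hn
  have hnL : n ∈ L := K.hL0L hn
  have hYnL : cjs n Y ≤ L := by
    rintro _ ⟨y, hy, rfl⟩
    exact L.mul_mem (L.mul_mem hnL (hYL hy)) (L.inv_mem hnL)
  have hYnH : cjs n Y ≤ H := hYnL.trans K.hLH
  have hVtH : Vt ≤ H := C.le.trans (Cfsg.Agent.Helper14.pCoreOf_le p H)
  -- `⁅⁅Vt, Y^n⁆, Y⁆ ≤ Vb` by the three subgroups lemma
  have hthree : ⁅⁅Vt, cjs n Y⁆, Y⁆ ≤ Vb := by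
    apply Cfsg.Agent.Helper10.three_subgroups_le (hVtH.trans C.nb) (hYnH.trans C.nb) (hYH.trans C.nb)
    · have h0 : ⁅cjs n Y, Y⁆ = ⊥ := Subgroup.commutator_eq_bot_iff_le_centralizer.2 h3a.1
      rw [h0, Subgroup.commutator_bot_left]
      exact bot_le
    · rw [Subgroup.commutator_comm Y Vt, Subgroup.commutator_le]
      intro w hw y' hy'
      have hw' : w ∈ fixP Vt Vb D := by
        rw [h5]
        exact (le_sup_left : ⁅Vt, Y⁆ ≤ commP Vt Vb Y) hw
      exact ((mem_fixP C K.hDH).1 hw').2 y' (h3a.2 hy')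
  -- hence `F_n ≤ C`
  have hFnC : commP Vt Vb (cjs n Y) ≤ fixP Vt Vb Y := by
    apply sup_le _ (le_fixP C hYH)
    intro w hw
    rw [mem_fixP C hYH]
    refine ⟨commP_le C hYnH ((le_sup_left : ⁅Vt, cjs n Y⁆ ≤ commP Vt Vb (cjs n Y)) hw), fun y hy => ?_⟩
    exact hthree (Subgroup.commutator_mem_commutator hw hy)
  have hle : commP Vt Vb (cjs n Y) ≤ commP Vt Vb Y := by
    rw [← h8]
    exact le_inf (commP_mono hYnL) hFnC
  have hcard : Nat.card ↥(commP Vt Vb Y) ≤ Nat.card ↥(commP Vt Vb (cjs n Y)) := by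
    rw [commP_cjs C hYH hnH, card_cjs]
  exact Subgroup.eq_of_le_of_card_ge hle hcard

end Cfsg.Agent.S2862P
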