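import Cfsg.Agent.Helper14.S2862Inst

/-! S2862: top-level translations: `L = O^p(L) Y`, `IsMinimalOver (Y.subgroupOf L)`, and the normal closure in (d). -/

set_option autoImplicit false
set_option linter.unusedSectionVars false

namespace Cfsg.Agent.Helper14.Zip

open Cfsg Cfsg.Agent.Helper14

variable {G : Type*} [Group G] [Finite G] {p : ℕ} [Fact p.Prime]

/-- `L = O^p(L) Y` -/
theorem pResidual_sup_eq {L Y : Subgroup G} (h : ZipHyp p L Y) :
    (pResidual p ↥L).map L.subtype ⊔ Y = L := by
  obtain ⟨hYL, hY1, hY2⟩ := h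
  have hRL : (pResidual p ↥L).map L.subtype ≤ L := by
    rintro _ ⟨x, _, rfl⟩
    exact x.2
  have hNL : (pResidual p ↥L).map L.subtype ⊔ Y ≤ L := sup_le hRL hYL
  by_contra hne
  have hsn : (((pResidual p ↥L).map L.subtype ⊔ Y).subgroupOf L).IsSubnormal := by
    apply isSubnormal_of_pResidual_le (p := p)
    intro x hx
    rw [Subgroup.mem_subgroupOf]
    exact Subgroup.mem_sup_left ⟨x, hx, rfl⟩
  exact hY2 ((hY1 _ hNL hne le_sup_right).trans (pCoreOf_le_pCoreOf_of_isSubnormal hNL hsn))

/-- `L` is `Y`-minimal -/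
theorem isMinimalOver_of_LData {L Y L0 : Subgroup G} (hYL : Y ≤ L) (hL : LData p L Y L0) :
    IsMinimalOver (Y.subgroupOf L) := by
  have hL0L : L0 ≤ L := hL.max.1.le
  have hinj : Function.Injective (Subgroup.map L.subtype) := Subgroup.map_injective L.subtype_injective
  have htop : (⊤ : Subgroup ↥L).map L.subtype = L := by
    rw [← MonoidHom.range_eq_map, Subgroup.range_subtype]
  have hmapL0 : (L0.subgroupOf L).map L.subtype = L0 := Subgroup.map_subgroupOf_eq_of_le hL0L
  have hmapY : (Y.subgroupOf L).map L.subtype = Y := Subgroup.map_subgroupOf_eq_of_le hYL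
  have hmaple : ∀ b : Subgroup ↥L, b.map L.subtype ≤ L := by
    rintro b _ ⟨x, _, rfl⟩
    exact x.2
  have hL0top : L0.subgroupOf L ≠ ⊤ := by
    intro h1
    apply hL.max.1.ne
    apply le_antisymm hL0L
    rw [← hmapL0, h1, htop]
  constructor
  · apply hinj
    rw [map_normalClosure_subgroupOf hYL, hL.closure, htop]
  · refine ⟨L0.subgroupOf L, ⟨⟨hL0top, ?_⟩, Subgroup.comap_mono hL.hYL0⟩, ?_⟩
    · intro b hb
      by_contra hbt
      have h1 : b.map L.subtype < L := by
        refine lt_of_le_of_ne (hmaple b) fun h2 => hbt ?_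
        apply hinj
        rw [h2, htop]
      have h3 : L0 ≤ b.map L.subtype := by
        rw [← hmapL0]
        exact Subgroup.map_mono hb.le
      have h4 := hL.max.2 _ h3 h1
      have h5 : b = L0.subgroupOf L := by
        apply hinj
        rw [h4, hmapL0]
      exact hb.ne h5.symm
    · rintro M' ⟨hM', hYM'⟩
      have h1 : M'.map L.subtype < L := by
        refine lt_of_le_of_ne (hmaple M') fun h2 => hM'.1 ?_
        apply hinj
        rw [h2, htop]
      have h2 : Y ≤ M'.map L.subtype := by
        rw [← hmapY]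
        exact Subgroup.map_mono hYM'
      have h3 : M'.map L.subtype ≤ L0 := hL.uniq _ h2 h1
      have h4 : M' ≤ L0.subgroupOf L := by
        intro x hx
        rw [Subgroup.mem_subgroupOf]
        exact h3 ⟨x, hx, rfl⟩
      rcases hM'.le_iff.1 h4 with h5 | h5
      · exact absurd h5 hL0top
      · exact h5.symm

/-- the normal closure in `L` of a subgroup of `L ∩ V`, `V` normalised by `L`, lies in `V` -/
theorem map_normalClosure_le {A L V : Subgroup G} (hAL : A ≤ L) (hAV : A ≤ V)
    (hLV : L ≤ Subgroup.normalizer (V : Set G)) :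
    (Subgroup.normalClosure ((A.subgroupOf L : Subgroup ↥L) : Set ↥L)).map L.subtype ≤ V := by
  rw [map_normalClosure_subgroupOf hAL]
  refine iSup_le fun x => ?_
  have h1 : V.map (cj (x : G)) = V := mem_normalizer_iff_map_cj.1 (hLV x.2)
  rw [← h1]
  exact Subgroup.map_mono hAV

end Cfsg.Agent.Helper14.Zip
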