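import Cfsg.Agent.Helper7.S2862Defs
import Cfsg.Agent.Helper14.S2862Top

/-! S2862, board `s2862top`: rows T5a, T6a, T6b, T6, T7, T8 in the board's form. -/

set_option autoImplicit false
set_option linter.unusedVariables false
set_option linter.unusedSectionVars false

namespace Cfsg.Agent.S2862P

open Cfsg
open Cfsg.Agent.Helper14 (cj)
open Cfsg.Agent.Helper14.Zip (LData)
open Subgroup
open scoped commutatorElement

variable {G : Type*} [Group G] [Finite G] {p : ℕ} [Fact p.Prime]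
variable {H Y D L L0 Vt Vb : Subgroup G}

theorem T5a_aux_le (LD : LData p L Y L0) : Y ≤ L := LD.hYL0.trans LD.max.1.le

/-- T5a : `L = O^p(L) Y`. -/
theorem T5a (LD : LData p L Y L0) : (Cfsg.pResidual p ↥L).map L.subtype ⊔ Y = L := by
  have hYL : Y ≤ L := T5a_aux_le LD
  have hL0L : L0 ≤ L := LD.max.1.le
  have hRL : (pResidual p ↥L).map L.subtype ≤ L := by
    rintro _ ⟨x, _, rfl⟩
    exact x.2
  have hNL : (pResidual p ↥L).map L.subtype ⊔ Y ≤ L := sup_le hRL hYL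
  by_contra hne
  have hNL0 : (pResidual p ↥L).map L.subtype ⊔ Y ≤ L0 := LD.uniq _ le_sup_right (lt_of_le_of_ne hNL hne)
  have hsn : (L0.subgroupOf L).IsSubnormal := by
    apply Cfsg.Agent.Helper14.isSubnormal_of_pResidual_le (p := p)
    intro x hx
    rw [Subgroup.mem_subgroupOf]
    exact hNL0 (Subgroup.mem_sup_left ⟨x, hx, rfl⟩)
  have h1 : pCoreOf p L0 ≤ pCoreOf p L := Cfsg.Agent.Helper14.pCoreOf_le_pCoreOf_of_isSubnormal hL0L hsn
  have h2 : Y ≤ pCoreOf p L := by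
    have h3 := LD.hU0 1 L0.one_mem
    rw [Cfsg.Agent.Helper14.map_cj_one] at h3
    exact h3.trans h1
  have h4 : (⨆ x : ↥L, Y.map (cj (x : G))) ≤ L0 := by
    refine iSup_le fun x => ?_
    have h5 : (pCoreOf p L).map (cj (x : G)) = pCoreOf p L :=
      Cfsg.Agent.Helper14.mem_normalizer_iff_map_cj.1 (Cfsg.Agent.Helper14.le_normalizer_pCoreOf p L x.2)
    exact ((Subgroup.map_mono h2).trans h5.le).trans LD.hOp
  rw [LD.closure] at h4
  exact LD.max.1.not_ge h4

/-- T6 -/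
theorem T6 (LD : LData p L Y L0) : Cfsg.IsMinimalOver (Y.subgroupOf L) :=
  Cfsg.Agent.Helper14.Zip.isMinimalOver_of_LData (T5a_aux_le LD) LD

/-- T6a -/
theorem T6a (LD : LData p L Y L0) :
    Subgroup.normalClosure ((Y.subgroupOf L : Subgroup ↥L) : Set ↥L) = ⊤ := (T6 LD).1

/-- T6b -/
theorem T6b (LD : LData p L Y L0) :
    ∃! M : Subgroup ↥L, IsCoatom M ∧ Y.subgroupOf L ≤ M := (T6 LD).2

/-- T7 : the normal closure of `O_p(L) ∩ Y` in `L` lies in `O_p(H)`. -/
theorem T7 (hLH : L ≤ H) (hd : Y ⊓ pCoreOf p L ≤ pCoreOf p H) :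
    (Subgroup.normalClosure ((((pCoreOf p L) ⊓ Y).subgroupOf L : Subgroup ↥L) : Set ↥L)).map L.subtype ≤
      pCoreOf p H :=
  Cfsg.Agent.Helper14.Zip.map_normalClosure_le (inf_le_left.trans (Cfsg.Agent.Helper14.pCoreOf_le p L))
    (by rw [inf_comm]; exact hd) (hLH.trans (Cfsg.Agent.Helper14.le_normalizer_pCoreOf p H))

/-- T8 -/
theorem T8 (LD : LData p L Y L0) (hb2 : L0 ≤ normalizer (Y : Set G)) :
    L ⊓ normalizer (Y : Set G) < L ∧
      ∀ X : Subgroup G, Y ≤ X → X < L → X ≤ L ⊓ normalizer (Y : Set G) := by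
  refine ⟨lt_of_le_of_ne inf_le_left fun e => ?_, fun X hYX hXL => le_inf hXL.le ((LD.uniq X hYX hXL).trans hb2)⟩
  -- if `L ≤ N(Y)` then every conjugate of `Y` under `L` is `Y`, so `L = Y ≤ L0 < L`
  have hLN : L ≤ normalizer (Y : Set G) := e ▸ inf_le_right
  have h4 : (⨆ x : ↥L, Y.map (cj (x : G))) ≤ L0 := by
    refine iSup_le fun x => ?_
    have h5 : Y.map (cj (x : G)) = Y := Cfsg.Agent.Helper14.mem_normalizer_iff_map_cj.1 (hLN x.2)
    exact h5.le.trans LD.hYL0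
  rw [LD.closure] at h4
  exact LD.max.1.not_ge h4

end Cfsg.Agent.S2862P
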