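import Mathlib
import Cfsg.Agent.Helper2.SzQ

/-! S2863, board `s2863pieces`: the definition `IsZ` used by the Suzuki rows. -/

set_option autoImplicit false

namespace Cfsg.Agent.S2863P

open Cfsg.Agent.Helper2.SzO

variable {F : Type*} [Field F] [Fintype F] {m : ℕ}

/-- `Zb` is the centre `{T(0,c)}` of the Sylow `2`-subgroup `Q` of `Sz(q)`. -/
def IsZ (hF : Fintype.card F = 2 ^ (2 * m + 1)) (Zb : Subgroup (Cfsg.Sz F m)) : Prop :=
  ∀ x : Cfsg.Sz F m, x ∈ Zb ↔ ∃ c : F, x = Tz hF 0 c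

end Cfsg.Agent.S2863P
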