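import Mathlib
import Cfsg.Agent.Helper14.S2863Defs
import Cfsg.Agent.Helper7.S2863GEN
import Cfsg.Agent.Helper7.S2863PAIRC

/-! S2863, board `s2863pieces` (route B), row PAIR: core (PAIRMAX and PAIRSR as hypotheses). -/

set_option autoImplicit false
set_option linter.unusedSectionVars false

namespace Cfsg.Agent.S2863P

open Cfsg Subgroup
open Cfsg.Agent.Helper14 (cj)

variable {G : Type*} [Group G] [Finite G] {p : ℕ} [Fact p.Prime] {Y L : Subgroup G}

/-- PAIR with the rows PAIRMAX (for `x = g`) and PAIRSR as hypotheses -/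
theorem PAIR_aux_core (H : LHyp p Y L) {g : G} (hg : g ∈ L) (hgN : g ∉ normalizer (Y : Set G))
    (hmax2 : ∀ R : Subgroup G, Y.map (cj g) ≤ R → R ≤ L → R ≠ L →
      R ≤ normalizer ((Y.map (cj g) : Subgroup G) : Set G))
    (hsr : (∀ t ∈ Y, t ∉ pCoreOf p L → t ∉ normalizer ((Y.map (cj g) : Subgroup G) : Set G)) ∧
      (∀ s ∈ Y.map (cj g), s ∉ pCoreOf p L → s ∉ normalizer (Y : Set G))) :
    Pair L (pCoreOf p L) (Y ⊓ centralizer (L : Set G)) Y (Y.map (cj g)) := by
  have hLA : L ≤ normalizer ((pCoreOf p L : Subgroup G) : Set G) :=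
    Cfsg.Agent.Helper14.le_normalizer_pCoreOf p L
  have hAg : (pCoreOf p L).map (cj g) = pCoreOf p L :=
    Cfsg.Agent.Helper14.mem_normalizer_iff_map_cj.1 (hLA hg)
  refine
    { h1L := H.hYL
      h2L := ?_
      comm1 := H.comm
      comm2 := ?_
      hAL := Cfsg.Agent.Helper14.pCoreOf_le p L
      hLA := hLA
      hA1 := H.hA
      hA2 := ?_
      gen := H.gen hg hgN
      prod := H.prod hg hgN
      hC := H.inf_eq hg hgN
      swap := ⟨g, hg, rfl⟩
      max1 := ?_
      max2 := hmax2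
      sr1 := hsr.1
      sr2 := hsr.2 }
  · rintro _ ⟨y, hy, rfl⟩
    exact L.mul_mem (L.mul_mem hg (H.hYL hy)) (L.inv_mem hg)
  · rintro _ ⟨a, ha, rfl⟩ _ ⟨b, hb, rfl⟩
    rw [← map_mul, ← map_mul, H.comm a ha b hb]
  · rw [← hAg, ← Cfsg.Agent.Helper14.map_cj_normalizer]
    exact Subgroup.map_mono H.hA
  · intro R hYR hRL hne
    exact (H.hmax R hYR (lt_of_le_of_ne hRL hne)).trans inf_le_right

end Cfsg.Agent.S2863P
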