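import Mathlib
import Cfsg.Agent.Helper14.S2863Defs
import Cfsg.Agent.Helper14.S2863PAIRcore

/-! S2863, board `s2863pieces` (route B), row PAIR (with own copies of the small rows PAIRMAX, PAIRSR as `PAIR_aux_*`). -/

set_option autoImplicit false
set_option linter.unusedSectionVars false

namespace Cfsg.Agent.S2863P

open Cfsg Subgroup
open Cfsg.Agent.Helper14 (cj)

variable {G : Type*} [Group G] [Finite G] {p : ℕ} [Fact p.Prime] {Y L : Subgroup G}

/-- the conjugates of `hmax` -/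
theorem PAIR_aux_max_conj (H : LHyp p Y L) {x : G} (hx : x ∈ L) (R : Subgroup G)
    (hYR : Y.map (cj x) ≤ R) (hRL : R ≤ L) (hne : R ≠ L) :
    R ≤ normalizer ((Y.map (cj x) : Subgroup G) : Set G) := by
  have hLx : L.map (cj x) = L := Cfsg.Agent.Helper14.map_cj_eq_self_of_mem hx
  have hLx' : L.map (cj x⁻¹) = L := Cfsg.Agent.Helper14.map_cj_eq_self_of_mem (L.inv_mem hx)
  have h1 : Y ≤ R.map (cj x⁻¹) := (Cfsg.Agent.Helper14.map_cj_le_iff Y R x).1 hYR
  have h2 : R.map (cj x⁻¹) ≤ L := by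
    rw [← hLx']
    exact Subgroup.map_mono hRL
  have h3 : R.map (cj x⁻¹) ≠ L := by
    intro h0
    apply hne
    have := congrArg (Subgroup.map (cj x)) h0
    rwa [Cfsg.Agent.Helper14.map_cj_inv_map_cj, hLx] at this
  have h4 : R.map (cj x⁻¹) ≤ normalizer (Y : Set G) :=
    (H.hmax _ h1 (lt_of_le_of_ne h2 h3)).trans inf_le_right
  have h5 := Subgroup.map_mono (f := cj x) h4
  rwa [Cfsg.Agent.Helper14.map_cj_inv_map_cj, Cfsg.Agent.Helper14.map_cj_normalizer] at h5

/-- the two semiregularity statements -/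
theorem PAIR_aux_sr_pair (H : LHyp p Y L) {g : G} (hg : g ∈ L) (hgN : g ∉ normalizer (Y : Set G)) :
    (∀ t ∈ Y, t ∉ pCoreOf p L → t ∉ normalizer ((Y.map (cj g) : Subgroup G) : Set G)) ∧
      (∀ s ∈ Y.map (cj g), s ∉ pCoreOf p L → s ∉ normalizer (Y : Set G)) := by
  have hLA : L ≤ normalizer ((pCoreOf p L : Subgroup G) : Set G) :=
    Cfsg.Agent.Helper14.le_normalizer_pCoreOf p L
  constructor
  · intro t ht htA hn
    exact hgN (H.sr t ht htA g hg hn)
  · intro s hs hsA hn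
    have ht : g⁻¹ * s * g ∈ Y := (Cfsg.Agent.Helper14.mem_map_cj g s).1 hs
    have htA : g⁻¹ * s * g ∉ pCoreOf p L := by
      intro h0
      apply hsA
      have h1 := (Subgroup.mem_normalizer_iff.1 (hLA hg) _).1 h0
      have e : g * (g⁻¹ * s * g) * g⁻¹ = s := by group
      rwa [e] at h1
    have hn' : g⁻¹ * s * g ∈ normalizer ((Y.map (cj g⁻¹) : Subgroup G) : Set G) := by
      rw [← Cfsg.Agent.Helper14.map_cj_normalizer, Cfsg.Agent.Helper14.mem_map_cj]
      have e : g⁻¹⁻¹ * (g⁻¹ * s * g) * g⁻¹ = s := by group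
      rwa [e]
    have h2 := H.sr _ ht htA g⁻¹ (L.inv_mem hg) hn'
    apply hgN
    have := (normalizer (Y : Set G)).inv_mem h2
    rwa [inv_inv] at this

/-- PAIR -/
theorem LHyp.pair (H : LHyp p Y L) {g : G} (hg : g ∈ L) (hgN : g ∉ normalizer (Y : Set G)) :
    Pair L (pCoreOf p L) (Y ⊓ centralizer (L : Set G)) Y (Y.map (cj g)) :=
  PAIR_aux_core H hg hgN (PAIR_aux_max_conj H hg) (PAIR_aux_sr_pair H hg hgN)

end Cfsg.Agent.S2863P
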