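import Mathlib
import Cfsg.Agent.Helper14.S2863Defs
import Cfsg.Agent.Helper14.S2863PAIRcore
import Cfsg.Agent.Helper14.S2863PAIR
import Cfsg.Agent.Helper13.S2863FPFCONJ
import Cfsg.Agent.Helper22.S2863PBASIC
import Cfsg.Agent.Helper4.S2863PFIX
import Cfsg.Agent.Helper22.S2863PPROD
import Cfsg.Agent.Helper4.S2863PSQcore

/-! S2863, board `s2863pieces` (route B), row MAINL: the main theorem in `G`. -/

set_option autoImplicit false
set_option linter.unusedSectionVars false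

namespace Cfsg.Agent.S2863P

open Cfsg Subgroup
open Cfsg.Agent.Helper14 (cj)

variable {G : Type*} [Group G] [Finite G] {p : ℕ} [Fact p.Prime] {Y L : Subgroup G}

/-- "central modulo `A`" is invariant under conjugation in `L` -/
theorem MAINL_aux_cen {A L : Subgroup G} (hLA : L ≤ normalizer (A : Set G)) {h k : G} (hk : k ∈ L)
    (hc : ∀ l ∈ L, h * l * h⁻¹ * l⁻¹ ∈ A) :
    ∀ l ∈ L, (k⁻¹ * h * k) * l * (k⁻¹ * h * k)⁻¹ * l⁻¹ ∈ A := by
  intro l hl
  have h1 : k * l * k⁻¹ ∈ L := L.mul_mem (L.mul_mem hk hl) (L.inv_mem hk)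
  have h2 := hc _ h1
  have h3 : k⁻¹ ∈ normalizer (A : Set G) := hLA (L.inv_mem hk)
  have h4 := (Subgroup.mem_normalizer_iff.1 h3 _).1 h2
  have e : k⁻¹ * (h * (k * l * k⁻¹) * h⁻¹ * (k * l * k⁻¹)⁻¹) * k⁻¹⁻¹ =
      (k⁻¹ * h * k) * l * (k⁻¹ * h * k)⁻¹ * l⁻¹ := by group
  rwa [e] at h4

/-- an element of `L` that is central modulo `A` normalises `Y` -/
theorem MAINL_aux_norm (H : LHyp p Y L) {h : G} (hh : h ∈ L)
    (hc : ∀ l ∈ L, h * l * h⁻¹ * l⁻¹ ∈ pCoreOf p L) : h ∈ normalizer (Y : Set G) := by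
  apply H.mem_normalizer_of_conj hh
  intro y hy
  have h1 := hc y (H.hYL hy)
  have e : h * y * h⁻¹ = (h * y * h⁻¹ * y⁻¹) * y := by group
  rw [e]
  exact Subgroup.mul_mem _ (Subgroup.mem_sup_right h1) (Subgroup.mem_sup_left hy)

/-- MAINL -/
theorem LHyp.main (H : LHyp p Y L) {h : G} (hh : h ∈ L) (hf : LFac p Y L h) :
    FPF (pCoreOf p L) (Y ⊓ centralizer (L : Set G)) h := by
  obtain ⟨x1, x2, t, s, a0, hx1, hx2, ht, hs, htA, hsA, hne, ha0, hcase⟩ := hf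
  have hLA : L ≤ normalizer ((pCoreOf p L : Subgroup G) : Set G) :=
    Cfsg.Agent.Helper14.le_normalizer_pCoreOf p L
  have hAL : pCoreOf p L ≤ L := Cfsg.Agent.Helper14.pCoreOf_le p L
  have hLC : L ≤ normalizer ((Y ⊓ centralizer (L : Set G) : Subgroup G) : Set G) := by
    intro l hl
    rw [Subgroup.mem_normalizer_iff]
    intro c
    have key : ∀ c : G, c ∈ Y ⊓ centralizer (L : Set G) → ∀ k ∈ L, k * c * k⁻¹ = c := by
      intro c hc k hk
      have := (Subgroup.mem_centralizer_iff.1 hc.2) k hk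
      rw [this]
      group
    constructor
    · intro hc
      rw [key c hc l hl]
      exact hc
    · intro hc
      have h1 := key _ hc l⁻¹ (L.inv_mem hl)
      have e : l⁻¹ * (l * c * l⁻¹) * l⁻¹⁻¹ = c := by group
      rw [e] at h1
      rw [h1]
      exact hc
  -- conjugation by `x1`
  have conjA : ∀ z : G, x1⁻¹ * z * x1 ∈ pCoreOf p L ↔ z ∈ pCoreOf p L := by
    intro z
    have h1 : x1⁻¹ ∈ normalizer ((pCoreOf p L : Subgroup G) : Set G) := hLA (L.inv_mem hx1)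
    have := (Subgroup.mem_normalizer_iff.1 h1 z)
    rw [inv_inv] at this
    exact this.symm
  apply FPF.conj (hLA hx1) (hLC hx1)
  set g := x1⁻¹ * x2 with hgdef
  have hg : g ∈ L := L.mul_mem (L.inv_mem hx1) hx2
  have hgN : g ∉ normalizer (Y : Set G) := by
    intro hgn
    apply hne
    have h1 : Y.map (cj g) = Y := Cfsg.Agent.Helper14.mem_normalizer_iff_map_cj.1 hgn
    have h2 := Cfsg.Agent.Helper14.map_cj_mul Y x1 g
    rw [h1, hgdef, mul_inv_cancel_left] at h2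
    exact h2
  have ht' : x1⁻¹ * t * x1 ∈ Y := (Cfsg.Agent.Helper14.mem_map_cj x1 t).1 ht
  have hs' : x1⁻¹ * s * x1 ∈ Y.map (cj g) := by
    rw [Cfsg.Agent.Helper14.mem_map_cj]
    have h1 := (Cfsg.Agent.Helper14.mem_map_cj x2 s).1 hs
    have e : g⁻¹ * (x1⁻¹ * s * x1) * g = x2⁻¹ * s * x2 := by
      rw [hgdef]; group
    rwa [e]
  have htA' : x1⁻¹ * t * x1 ∉ pCoreOf p L := fun h0 => htA ((conjA t).1 h0)
  have hsA' : x1⁻¹ * s * x1 ∉ pCoreOf p L := fun h0 => hsA ((conjA s).1 h0)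
  have ha0' : x1⁻¹ * a0 * x1 ∈ pCoreOf p L := (conjA a0).2 ha0
  have P : Pair L (pCoreOf p L) (Y ⊓ centralizer (L : Set G)) Y (Y.map (cj g)) :=
    H.pair hg hgN
  rcases hcase with hc | ⟨hp2, hcen, hc⟩
  · have e : x1⁻¹ * h * x1 = (x1⁻¹ * t * x1) * (x1⁻¹ * s * x1) * (x1⁻¹ * a0 * x1) := by
      rw [hc]; group
    rw [e]
    exact P.fpf_prod ht' htA' hs' hsA' ha0'
  · have e : x1⁻¹ * h * x1 = ((x1⁻¹ * t * x1) * (x1⁻¹ * s * x1)) ^ 2 * (x1⁻¹ * a0 * x1) := by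
      rw [hc, pow_two, pow_two]; group
    have hh' : x1⁻¹ * h * x1 ∈ L := L.mul_mem (L.mul_mem (L.inv_mem hx1) hh) hx1
    have hcen' := MAINL_aux_cen hLA hx1 hcen
    have hn1 : x1⁻¹ * h * x1 ∈ normalizer (Y : Set G) := MAINL_aux_norm H hh' hcen'
    have hn2 : x1⁻¹ * h * x1 ∈ normalizer ((Y.map (cj g) : Subgroup G) : Set G) := by
      rw [← Cfsg.Agent.Helper14.map_cj_normalizer, Cfsg.Agent.Helper14.mem_map_cj]
      have hcen'' := MAINL_aux_cen hLA hg hcen'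
      exact MAINL_aux_norm H (L.mul_mem (L.mul_mem (L.inv_mem hg) hh') hg) hcen''
    have hprod : FPF (pCoreOf p L) (Y ⊓ centralizer (L : Set G)) ((x1⁻¹ * t * x1) * (x1⁻¹ * s * x1)) := by
      have h0 := P.fpf_prod ht' htA' hs' hsA' (Subgroup.one_mem _)
      rwa [mul_one] at h0
    exact PSQ_aux_core P P.C_le (fun a ha b hb => P.abel ha hb) (fun a ha => P.decomp ha)
      (fun y hy a ha => P.comm_mem hy ha) (fun y hy a ha => P.symm.comm_mem hy ha)
      (fun t ht htA a ha h => P.fix1 ht htA ha h) (fun s hs hsA a ha h => P.symm.fix1 hs hsA ha h)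
      ht' htA' hs' hsA' ha0' hprod e hn1 hn2

end Cfsg.Agent.S2863P
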