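import Mathlib
import Cfsg.Agent.Helper7.S2863Defs2
import Cfsg.Agent.Helper6.S2861Defs
import Cfsg.Agent.Helper11.SzPartB
import Cfsg.Agent.Helper11.SzSolH
import Cfsg.Agent.Helper11.SzTI
import Cfsg.Agent.Helper11.SzCNA
import Cfsg.Agent.Helper2.SzSylow2

/-! S2863, board `s2863pieces`, row SZINV: `InvHyp` for the Suzuki groups `Sz(q)`, `q ≥ 8`. -/

set_option autoImplicit false
set_option linter.unusedVariables false
set_option linter.unusedSectionVars false

namespace Cfsg.Agent.S2863P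

open Cfsg Subgroup
open Cfsg.Agent.Helper2.SzO Cfsg.Agent.Helper11
open Cfsg.Agent.S2861P (Hyp)

variable {F : Type*} [Field F] [Fintype F] {m : ℕ}

/-- a translation of order at most two is central -/
theorem SZINV_aux_sq (hF : Fintype.card F = 2 ^ (2 * m + 1)) {a b : F}
    (h : Tz (m := m) hF a b * Tz hF a b = 1) : a = 0 := by
  have h2 := two_eq_zero hF
  rw [Tz_mul, ← Tz_one hF] at h
  have h3 := (Tz_injective hF h).2
  have h4 : a ^ sg m * a = 0 := by linear_combination h3 - b * h2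
  rcases mul_eq_zero.1 h4 with h5 | h5
  · exact pow_eq_zero_iff (sg_ne_zero) |>.1 h5
  · exact h5

/-- the only fixed point of a nontrivial central translation is `∞` -/
theorem SZINV_aux_fix (hF : Fintype.card F = 2 ^ (2 * m + 1)) {c : F} (hc : c ≠ 0)
    {ω : Cfsg.suzukiOvoid F m} (h : Tz hF 0 c • ω = ω) : ω = infO := by
  rcases ovoid_cases ω with h1 | ⟨u, v, h1⟩
  · exact h1
  · exfalso
    rw [h1] at h
    exact hc (SzMax.Tz_fix_affine hF h).2

/-- the stabiliser of `∞` normalises `Z(Q)` -/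
theorem SZINV_aux_stab_le (hF : Fintype.card F = 2 ^ (2 * m + 1)) (hm : 1 ≤ m) {x : Cfsg.Sz F m}
    (hx : x • (infO : Cfsg.suzukiOvoid F m) = infO) :
    (SzTI.EA hF ⊤).map (MulAut.conj x).toMonoidHom ≤ SzTI.EA hF ⊤ := by
  obtain ⟨a, b, k, rfl⟩ := SzCN.fix_inf_decomp hF hm x hx
  rintro _ ⟨_, ⟨c, -, rfl⟩, rfl⟩
  simp only [MulEquiv.coe_toMonoidHom, MulAut.conj_apply]
  rw [SzTI.conj_central]
  exact ⟨_, trivial, rfl⟩

theorem SZINV_aux_stab (hF : Fintype.card F = 2 ^ (2 * m + 1)) (hm : 1 ≤ m) {x : Cfsg.Sz F m}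
    (hx : x • (infO : Cfsg.suzukiOvoid F m) = infO) :
    (SzTI.EA hF ⊤).map (MulAut.conj x).toMonoidHom = SzTI.EA hF ⊤ := by
  apply le_antisymm (SZINV_aux_stab_le hF hm hx)
  have hx' : x⁻¹ • (infO : Cfsg.suzukiOvoid F m) = infO := by
    rw [inv_smul_eq_iff, hx]
  have h1 := SZINV_aux_stab_le hF hm hx'
  intro z hz
  refine ⟨x⁻¹ * z * x, ?_, ?_⟩
  · apply h1
    refine ⟨z, hz, ?_⟩
    simp
  · simp only [MulEquiv.coe_toMonoidHom, MulAut.conj_apply]
    group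

/-- every involution is conjugate to a central translation -/
theorem SZINV_aux_invol (hF : Fintype.card F = 2 ^ (2 * m + 1)) (hm : 1 ≤ m) (n : Cfsg.Sz F m)
    (hn : orderOf n = 2) : ∃ (k : Cfsg.Sz F m) (c : F), c ≠ 0 ∧ n = k * Tz hF 0 c * k⁻¹ := by
  have : Fact (Nat.Prime 2) := ⟨Nat.prime_two⟩
  have hnn : n * n = 1 := by rw [← pow_two, ← hn, pow_orderOf_eq_one]
  have hn1 : n ≠ 1 := by
    intro h1
    rw [h1, orderOf_one] at hn
    exact absurd hn (by norm_num)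
  have hp : IsPGroup 2 ↥(zpowers n) := by
    apply IsPGroup.of_card (n := 1)
    rw [Nat.card_zpowers, hn, pow_one]
  obtain ⟨P, hP⟩ := hp.exists_le_sylow
  obtain ⟨k, hk⟩ := MulAction.exists_smul_eq (Cfsg.Sz F m) (QSylow hF hm) P
  have hnP : n ∈ (P : Subgroup (Cfsg.Sz F m)) := hP (mem_zpowers n)
  rw [← hk, Sylow.coe_subgroup_smul, QSylow_coe, Subgroup.mem_pointwise_smul_iff_inv_smul_mem] at hnP
  obtain ⟨a, b, hab⟩ := hnP
  have hab' : k⁻¹ * n * k = Tz hF a b := by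
    rw [← hab]
    simp [MulAut.smul_def]
  have hsq : Tz (m := m) hF a b * Tz hF a b = 1 := by
    rw [← hab']
    calc k⁻¹ * n * k * (k⁻¹ * n * k) = k⁻¹ * (n * n) * k := by group
      _ = 1 := by rw [hnn]; group
  have ha : a = 0 := SZINV_aux_sq hF hsq
  subst ha
  refine ⟨k, b, ?_, ?_⟩
  · rintro rfl
    rw [Tz_one] at hab'
    apply hn1
    have : n = k * (k⁻¹ * n * k) * k⁻¹ := by group
    rw [this, hab']
    group
  · rw [← hab']
    group

/-- the structure of `Yb` -/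
theorem SZINV_aux_Yb (hm : 1 ≤ m) (hF : Fintype.card F = 2 ^ (2 * m + 1))
    (Yb : Subgroup ↥(Cfsg.Sz F m)) (hY : Cfsg.IsElementaryAbelian 2 Yb)
    (hcard : Nat.card ↥Yb = Fintype.card F) :
    ∃ g : Cfsg.Sz F m, Yb = (SzTI.EA hF ⊤).map (MulAut.conj g).toMonoidHom := by
  have : Fact (Nat.Prime 2) := ⟨Nat.prime_two⟩
  have hp : IsPGroup 2 ↥Yb := by
    intro y
    refine ⟨1, ?_⟩
    rw [pow_one]
    exact Subtype.ext (hY.2 y.1 y.2)
  obtain ⟨P, hP⟩ := hp.exists_le_sylow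
  obtain ⟨g, hg⟩ := MulAction.exists_smul_eq (Cfsg.Sz F m) (QSylow hF hm) P
  refine ⟨g, ?_⟩
  have hle : Yb ≤ (SzTI.EA hF ⊤).map (MulAut.conj g).toMonoidHom := by
    intro y hy
    have hyP : y ∈ (P : Subgroup (Cfsg.Sz F m)) := hP hy
    rw [← hg, Sylow.coe_subgroup_smul, QSylow_coe, Subgroup.mem_pointwise_smul_iff_inv_smul_mem] at hyP
    obtain ⟨a, b, hab⟩ := hyP
    have hab' : g⁻¹ * y * g = Tz hF a b := by
      rw [← hab]
      simp [MulAut.smul_def]
    have hyy : y * y = 1 := by rw [← pow_two]; exact hY.2 y hy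
    have hsq : Tz (m := m) hF a b * Tz hF a b = 1 := by
      rw [← hab']
      calc g⁻¹ * y * g * (g⁻¹ * y * g) = g⁻¹ * (y * y) * g := by group
        _ = 1 := by rw [hyy]; group
    have ha : a = 0 := SZINV_aux_sq hF hsq
    subst ha
    refine ⟨Tz hF 0 b, ⟨b, trivial, rfl⟩, ?_⟩
    simp only [MulEquiv.coe_toMonoidHom, MulAut.conj_apply]
    rw [← hab']
    group
  apply Subgroup.eq_of_le_of_card_ge hle
  rw [hcard]
  have h1 : Nat.card ↥((SzTI.EA (m := m) hF ⊤).map (MulAut.conj g).toMonoidHom) =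
      Nat.card ↥(SzTI.EA (m := m) hF ⊤) :=
    (Nat.card_congr (Subgroup.equivMapOfInjective _ _ (MulAut.conj g).injective).toEquiv).symm
  rw [h1, SzTI.card_EA]
  rw [Nat.card_congr (AddSubgroup.topEquiv (G := F)).toEquiv, Nat.card_eq_fintype_card]

/-- the involutions of `Z(Q)^g` fix exactly `g • ∞` -/
theorem SZINV_aux_fix_conj (hF : Fintype.card F = 2 ^ (2 * m + 1)) {g t : Cfsg.Sz F m}
    (ht : t ∈ (SzTI.EA hF ⊤).map (MulAut.conj g).toMonoidHom) (ht1 : t ≠ 1) :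
    t • (g • (infO : Cfsg.suzukiOvoid F m)) = g • infO ∧
      ∀ ω : Cfsg.suzukiOvoid F m, t • ω = ω → ω = g • infO := by
  obtain ⟨_, ⟨c, -, rfl⟩, rfl⟩ := ht
  simp only [MulEquiv.coe_toMonoidHom, MulAut.conj_apply] at ht1 ⊢
  have hc : c ≠ 0 := by
    rintro rfl
    apply ht1
    rw [Tz_one]
    group
  constructor
  · rw [mul_smul, mul_smul, inv_smul_smul, Tz_smul_infO]
  · intro ω hω
    have h1 : Tz hF 0 c • (g⁻¹ • ω) = g⁻¹ • ω := by
      have h0 : g⁻¹ • ((g * Tz hF 0 c * g⁻¹) • ω) = g⁻¹ • ω := by rw [hω]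
      rw [mul_smul, mul_smul, inv_smul_smul] at h0
      exact h0
    have h2 := SZINV_aux_fix hF hc h1
    rw [inv_smul_eq_iff] at h2
    exact h2

/-- TI: conjugates of `Z(Q)` sharing a nontrivial element are equal -/
theorem SZINV_aux_ti (hF : Fintype.card F = 2 ^ (2 * m + 1)) (hm : 1 ≤ m) {u v t : Cfsg.Sz F m}
    (htu : t ∈ (SzTI.EA hF ⊤).map (MulAut.conj u).toMonoidHom)
    (htv : t ∈ (SzTI.EA hF ⊤).map (MulAut.conj v).toMonoidHom) (ht1 : t ≠ 1) :
    (SzTI.EA hF ⊤).map (MulAut.conj u).toMonoidHom = (SzTI.EA hF ⊤).map (MulAut.conj v).toMonoidHom := by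
  have h1 := (SZINV_aux_fix_conj hF htu ht1).1
  have h2 := (SZINV_aux_fix_conj hF htv ht1).2 _ h1
  have h3 : (v⁻¹ * u) • (infO : Cfsg.suzukiOvoid F m) = infO := by
    rw [mul_smul, h2, inv_smul_smul]
  have h4 := SZINV_aux_stab hF hm h3
  have h5 := Cfsg.Agent.Helper14.map_cj_mul (SzTI.EA (m := m) hF ⊤) v (v⁻¹ * u)
  rw [mul_inv_cancel_left] at h5
  rw [← h5]
  congr 1

/-- `Z(Q)` is not trivial -/
theorem SZINV_aux_exists (hF : Fintype.card F = 2 ^ (2 * m + 1)) (g : Cfsg.Sz F m) :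
    ∃ s ∈ (SzTI.EA hF ⊤).map (MulAut.conj g).toMonoidHom, s ≠ 1 := by
  refine ⟨g * Tz hF 0 1 * g⁻¹, ⟨Tz hF 0 1, ⟨1, trivial, rfl⟩, rfl⟩, ?_⟩
  intro h1
  have h2 : Tz (m := m) hF 0 1 = 1 := by
    have : Tz (m := m) hF 0 1 = g⁻¹ * (g * Tz hF 0 1 * g⁻¹) * g := by group
    rw [this, h1]
    group
  rw [← Tz_one hF] at h2
  exact one_ne_zero (Tz_injective hF h2).2

/-- the elements of odd order are real -/
theorem SZINV_aux_real (hF : Fintype.card F = 2 ^ (2 * m + 1)) (hm : 1 ≤ m) (h : Cfsg.Sz F m)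
    (h1 : h ≠ 1) (hodd : Odd (orderOf h)) :
    ∃ n : Cfsg.Sz F m, orderOf n = 2 ∧ n * h * n⁻¹ ∈ Subgroup.zpowers h := by
  have : Fact (Nat.Prime 2) := ⟨Nat.prime_two⟩
  rcases SzPart.classify hF hm h h1 with hnf | ⟨k, a, b, hab, e⟩ | ⟨k, κ, hκ, e⟩
  · -- fixed-point-free
    have hT := SzTor.isTor_centralizer hF hm hnf
    have hCT := SzSg.isCT_of_isTor hF hm hT
    have hcard : 2 ∣ Nat.card ↥(Subgroup.normalizer
        ((Subgroup.centralizer ({h} : Set (Cfsg.Sz F m)) : Subgroup (Cfsg.Sz F m)) : Set (Cfsg.Sz F m))) := by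
      obtain ⟨T₁, T₂, -, -, -, -, e1, e2, hall⟩ := SzTor.main hF hm
      rcases hall _ hT with ⟨x, hx⟩ | ⟨x, hx⟩
      · rw [hx]
        have h3 : Nat.card ↥(Subgroup.normalizer ((SCTI.cj x T₁ : Subgroup (Cfsg.Sz F m)) : Set (Cfsg.Sz F m))) =
            Nat.card ↥(Subgroup.normalizer ((T₁ : Subgroup (Cfsg.Sz F m)) : Set (Cfsg.Sz F m))) := by
          rw [← Subgroup.map_equiv_normalizer_eq T₁ (MulAut.conj x)]
          exact (Nat.card_congr (Subgroup.equivMapOfInjective _ _ (MulAut.conj x).injective).toEquiv).symm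
        rw [h3, e1]
        exact Dvd.intro (2 * Nat.card ↥T₁) (by ring)
      · rw [hx]
        have h3 : Nat.card ↥(Subgroup.normalizer ((SCTI.cj x T₂ : Subgroup (Cfsg.Sz F m)) : Set (Cfsg.Sz F m))) =
            Nat.card ↥(Subgroup.normalizer ((T₂ : Subgroup (Cfsg.Sz F m)) : Set (Cfsg.Sz F m))) := by
          rw [← Subgroup.map_equiv_normalizer_eq T₂ (MulAut.conj x)]
          exact (Nat.card_congr (Subgroup.equivMapOfInjective _ _ (MulAut.conj x).injective).toEquiv).symm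
        rw [h3, e2]
        exact Dvd.intro (2 * Nat.card ↥T₂) (by ring)
    obtain ⟨a, ha⟩ := exists_prime_orderOf_dvd_card' 2 hcard
    refine ⟨(a : Cfsg.Sz F m), ?_, ?_⟩
    · rw [Subgroup.orderOf_coe]; exact ha
    · have hh : h ∈ Subgroup.centralizer ({h} : Set (Cfsg.Sz F m)) := by
        rw [Subgroup.mem_centralizer_iff]
        intro y hy
        rw [Set.mem_singleton_iff] at hy
        rw [hy]
      have := hCT.inverts a.2 (by rw [Subgroup.orderOf_coe]; exact ha) hh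
      rw [this]
      exact Subgroup.inv_mem _ (Subgroup.mem_zpowers h)
  · -- a `2`-element
    exfalso
    have h4 : (Tz (m := m) hF a b) ^ 4 = 1 := by
      have h5 := Monoid.pow_exponent_eq_one (⟨Tz hF a b, Tz_mem_Qz hF a b⟩ : ↥(Qz (m := m) hF))
      rw [exponent_Qz] at h5
      exact congrArg Subtype.val h5
    have h6 : h ^ 4 = 1 := by
      have h5 : h = k⁻¹ * (k * h * k⁻¹) * k⁻¹⁻¹ := by group
      rw [h5, e, conj_pow, h4]
      group
    have h7 : orderOf h ∣ 4 := orderOf_dvd_of_pow_eq_one h6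
    have h8 : orderOf h = 1 := by
      have h9 : (orderOf h).Coprime 4 := by
        have : (orderOf h).Coprime 2 := Nat.Coprime.symm (Nat.coprime_two_left.2 hodd)
        exact Nat.Coprime.pow_right 2 this
      exact Nat.Coprime.eq_one_of_dvd h9 h7
    exact h1 (orderOf_eq_one_iff.1 h8)
  · -- the split torus
    have hW : Wz (m := m) hF * Dz hF κ * (Wz hF)⁻¹ = Dz hF κ⁻¹ := by
      rw [Wz_inv]
      apply Subtype.ext
      exact W_mul_D_mul_W κ
    refine ⟨k⁻¹ * Wz hF * k, ?_, ?_⟩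
    · have h2 : (k⁻¹ * Wz hF * k) ^ 2 = 1 := by
        rw [pow_two]
        calc k⁻¹ * Wz hF * k * (k⁻¹ * Wz hF * k) = k⁻¹ * (Wz hF * Wz hF) * k := by group
          _ = 1 := by rw [Wz_mul_Wz]; group
      have h3 : k⁻¹ * Wz hF * k ≠ 1 := by
        intro h4
        apply Wz_ne_one (m := m) hF
        have : Wz (m := m) hF = k * (k⁻¹ * Wz hF * k) * k⁻¹ := by group
        rw [this, h4]
        group
      exact orderOf_eq_prime h2 h3
    · have h2 : k⁻¹ * Wz hF * k * h * (k⁻¹ * Wz hF * k)⁻¹ = h⁻¹ := by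
        have e1 : k⁻¹ * Wz hF * k * h * (k⁻¹ * Wz hF * k)⁻¹ =
            k⁻¹ * (Wz hF * (k * h * k⁻¹) * (Wz hF)⁻¹) * k := by group
        rw [e1, e, hW, ← Dz_inv, ← e]
        group
      rw [h2]
      exact Subgroup.inv_mem _ (Subgroup.mem_zpowers h)

/-- SZ : `InvHyp` for the Suzuki groups `Sz(q)`, `q ≥ 8`. -/
theorem SZINV {F : Type*} [Field F] [Fintype F] {m : ℕ} (hm : 1 ≤ m) (hF : Fintype.card F = 2 ^ (2 * m + 1))
    (Yb Nb : Subgroup ↥(Cfsg.Sz F m)) (hH : Hyp Yb Nb) (hY : Cfsg.IsElementaryAbelian 2 Yb)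
    (hcard : Nat.card ↥Yb = Fintype.card F) : InvHyp Yb := by
  have : Fact (Nat.Prime 2) := ⟨Nat.prime_two⟩
  obtain ⟨g, rfl⟩ := SZINV_aux_Yb hm hF Yb hY hcard
  refine ⟨?_, ?_, SZINV_aux_real hF hm, ?_⟩
  · -- conjInv
    intro n hn
    obtain ⟨k, c, hc, rfl⟩ := SZINV_aux_invol hF hm n hn
    refine ⟨k * g⁻¹, Tz hF 0 c, ⟨c, trivial, rfl⟩, ?_⟩
    simp only [MulEquiv.coe_toMonoidHom, MulAut.conj_apply]
    group
  · -- cent
    intro n hn hn1
    obtain ⟨_, ⟨c, -, rfl⟩, rfl⟩ := hn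
    simp only [MulEquiv.coe_toMonoidHom, MulAut.conj_apply] at hn1 ⊢
    have hc : ¬ ((0 : F) = 0 ∧ c = 0) := by
      rintro ⟨-, rfl⟩
      apply hn1
      rw [Tz_one]
      group
    have hQ : IsPGroup 2 ↥((Qz (m := m) hF).map (MulAut.conj g).toMonoidHom) := by
      apply IsPGroup.map
      rw [← QSylow_coe hF hm]
      exact (QSylow hF hm).isPGroup'
    apply hQ.to_le
    intro z hz
    refine ⟨g⁻¹ * z * g, ?_, ?_⟩
    · apply SzCN.centralizer_Tz_le hF hm hc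
      rw [Subgroup.mem_centralizer_iff] at hz ⊢
      intro y hy
      rw [Set.mem_singleton_iff] at hy
      subst hy
      have h1 := hz (g * Tz hF 0 c * g⁻¹) rfl
      calc Tz hF 0 c * (g⁻¹ * z * g) = g⁻¹ * (g * Tz hF 0 c * g⁻¹ * z) * g := by group
        _ = g⁻¹ * (z * (g * Tz hF 0 c * g⁻¹)) * g := by rw [h1]
        _ = g⁻¹ * z * g * Tz hF 0 c := by group
    · simp only [MulEquiv.coe_toMonoidHom, MulAut.conj_apply]
      group
  · -- tr
    intro t ht ht1 x hx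
    set Z := SzTI.EA (m := m) hF ⊤ with hZ
    have hYx : (Z.map (MulAut.conj g).toMonoidHom).map (MulAut.conj x).toMonoidHom =
        Z.map (MulAut.conj (x * g)).toMonoidHom := Cfsg.Agent.Helper14.map_cj_mul Z x g
    obtain ⟨s, hs, hs1⟩ := SZINV_aux_exists hF (x * g)
    have htt : t * t = 1 := by
      obtain ⟨_, ⟨c, -, rfl⟩, rfl⟩ := ht
      simp only [MulEquiv.coe_toMonoidHom, MulAut.conj_apply]
      calc g * Tz hF 0 c * g⁻¹ * (g * Tz hF 0 c * g⁻¹) = g * (Tz hF 0 c * Tz hF 0 c) * g⁻¹ := by group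
        _ = 1 := by rw [Tz_zero_mul_self]; group
    have hss : s * s = 1 := by
      obtain ⟨_, ⟨c, -, rfl⟩, rfl⟩ := hs
      simp only [MulEquiv.coe_toMonoidHom, MulAut.conj_apply]
      calc x * g * Tz hF 0 c * (x * g)⁻¹ * (x * g * Tz hF 0 c * (x * g)⁻¹) =
          x * g * (Tz hF 0 c * Tz hF 0 c) * (x * g)⁻¹ := by group
        _ = 1 := by rw [Tz_zero_mul_self]; group
    have hft := SZINV_aux_fix_conj hF ht ht1
    have hfs := SZINV_aux_fix_conj hF hs hs1
    have hne : g • (infO : Cfsg.suzukiOvoid F m) ≠ (x * g) • infO := by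
      intro heq
      apply hx
      rw [hYx]
      have h3 : (g⁻¹ * (x * g)) • (infO : Cfsg.suzukiOvoid F m) = infO := by
        rw [mul_smul, ← heq, inv_smul_smul]
      have h4 := SZINV_aux_stab hF hm h3
      have h5 := Cfsg.Agent.Helper14.map_cj_mul Z g (g⁻¹ * (x * g))
      rw [mul_inv_cancel_left] at h5
      rw [← h5]
      congr 1
    obtain ⟨k, hk⟩ := SzSg.odd_order_mul_invol hF hm t s ht1 htt hs1 hss _ _ hft.1 hfs.1 hne
    obtain ⟨n, hn, hnn, hnts⟩ := SzSg.exists_invol_conj t s htt hss k hk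
    have hninv : n⁻¹ = n := inv_eq_of_mul_eq_one_left hnn
    refine ⟨n, ?_, ?_⟩
    · refine Subgroup.closure_mono ?_ hn
      intro y hy
      rcases hy with rfl | hy
      · exact Or.inl rfl
      · rw [Set.mem_singleton_iff] at hy
        subst hy
        right
        rw [hYx]
        exact hs
    · rw [hYx, Cfsg.Agent.Helper14.map_cj_mul]
      apply SZINV_aux_ti hF hm (t := t) ?_ ht ht1
      have h6 : t = n * s * n⁻¹ := by
        rw [hninv, ← hnts]
        calc t = (n * n) * t * (n * n) := by rw [hnn]; group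
          _ = n * (n * t * n) * n := by group
      rw [h6]
      obtain ⟨z, hz, rfl⟩ := hs
      refine ⟨z, hz, ?_⟩
      simp only [MulEquiv.coe_toMonoidHom, MulAut.conj_apply]
      group

end Cfsg.Agent.S2863P
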