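import Mathlib
import Cfsg.Agent.Helper14.S2863Defs

/-! S2863, board `s2863pieces`, row XFTR: `XFacts` is transported along isomorphisms. -/

set_option autoImplicit false

namespace Cfsg.Agent.S2863P

open Cfsg Subgroup
open Cfsg.Agent.Helper14 (cj)

theorem XFTR_aux_map {X X' : Type*} [Group X] [Group X'] (e : X ≃* X') (K : Subgroup X) (x : X) :
    (K.map (cj x)).map e.toMonoidHom = (K.map e.toMonoidHom).map (cj (e x)) := by
  rw [Subgroup.map_map, Subgroup.map_map]
  congr 1
  ext y
  simp [MulAut.conj_apply]

/-- XFTR -/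
theorem XFacts.of_equiv {X X' : Type*} [Group X] [Group X'] (e : X ≃* X') (p : ℕ) (Yb Nb : Subgroup X)
    (h : XFacts p (Yb.map e.toMonoidHom) (Nb.map e.toMonoidHom)) : XFacts p Yb Nb := by
  have hinj : Function.Injective e.toMonoidHom := e.injective
  refine ⟨?_, ?_⟩
  · intro t ht ht1 x hx
    have h1 : e t ∈ Yb.map e.toMonoidHom := ⟨t, ht, rfl⟩
    have h2 : e t ≠ 1 := fun h0 => ht1 (by simpa using h0)
    have h3 : e t ∈ normalizer (((Yb.map e.toMonoidHom).map (cj (e x)) : Subgroup X') : Set X') := by
      rw [← XFTR_aux_map]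
      exact Subgroup.le_normalizer_map e.toMonoidHom ⟨t, hx, rfl⟩
    obtain ⟨y, hy, hyx⟩ := h.semireg (e t) h1 h2 (e x) h3
    have : y = x := hinj hyx
    rwa [this] at hy
  · intro g hg
    have h1 : ¬ ∃ k : ℕ, orderOf (e g) = p ^ k := by
      rw [MulEquiv.orderOf_eq]
      exact hg
    obtain ⟨x1, x2, t, s, ht, hs, ht1, hs1, hne, hcase⟩ := h.factor (e g) h1
    refine ⟨e.symm x1, e.symm x2, e.symm t, e.symm s, ?_, ?_, ?_, ?_, ?_, ?_⟩
    · have h2 := XFTR_aux_map e Yb (e.symm x1)
      rw [MulEquiv.apply_symm_apply] at h2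
      rw [← h2] at ht
      obtain ⟨y, hy, hyt⟩ := ht
      have : e.symm t = y := by
        rw [← hyt]
        simp
      rwa [this]
    · have h2 := XFTR_aux_map e Yb (e.symm x2)
      rw [MulEquiv.apply_symm_apply] at h2
      rw [← h2] at hs
      obtain ⟨y, hy, hys⟩ := hs
      have : e.symm s = y := by
        rw [← hys]
        simp
      rwa [this]
    · intro h0
      apply ht1
      have := congrArg e h0
      simpa using this
    · intro h0
      apply hs1
      have := congrArg e h0
      simpa using this
    · intro h0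
      apply hne
      have h2 := XFTR_aux_map e Yb (e.symm x1)
      have h3 := XFTR_aux_map e Yb (e.symm x2)
      rw [MulEquiv.apply_symm_apply] at h2 h3
      rw [← h2, ← h3, h0]
    · rcases hcase with hc | ⟨hp2, hcen, hc⟩
      · left
        apply e.injective
        rw [hc]
        simp
      · right
        refine ⟨hp2, ?_, ?_⟩
        · rw [Subgroup.mem_center_iff] at hcen ⊢
          intro y
          apply e.injective
          rw [map_mul, map_mul]
          exact hcen (e y)
        · apply e.injective
          rw [hc]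
          simp

end Cfsg.Agent.S2863P
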