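import Mathlib
import Cfsg.Agent.Helper14.S2863Defs
import Cfsg.Agent.Helper14.S2863DefsSz
import Cfsg.Agent.Helper14.S2863SZINV
import Cfsg.Agent.Helper14.S2863XFTR
import Cfsg.Agent.Helper11.SzMax
import Cfsg.Agent.Helper20.S2861TRANSPORT
import Cfsg.Agent.Helper7.S2861SZ

/-! S2863, board `s2863pieces` (route B), the Suzuki rows SZSR, SZINV (`SZ_inv`), SZREALT, SZREALD, SZREAL, SZCORE, SZ. -/

set_option autoImplicit false
set_option linter.unusedVariables false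
set_option linter.unusedSectionVars false

namespace Cfsg.Agent.S2863P

open Cfsg Subgroup
open Cfsg.Agent.Helper14 (cj)
open Cfsg.Agent.S2861P (Hyp)
open Cfsg.Agent.Helper2.SzO Cfsg.Agent.Helper11

variable {F : Type*} [Field F] [Fintype F] {m : ℕ}

/-- `IsZ` means `Zb = SzTI.EA hF ⊤`. -/
theorem SZ_aux_isZ_eq (hF : Fintype.card F = 2 ^ (2 * m + 1)) {Zb : Subgroup (Cfsg.Sz F m)} (hZ : IsZ hF Zb) :
    Zb = SzTI.EA hF ⊤ := by
  ext x
  rw [hZ x, SzTI.mem_EA]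
  constructor
  · rintro ⟨c, rfl⟩
    exact ⟨c, trivial, rfl⟩
  · rintro ⟨c, -, rfl⟩
    exact ⟨c, rfl⟩

theorem SZ_aux_isZ (hF : Fintype.card F = 2 ^ (2 * m + 1)) : IsZ hF (SzTI.EA (m := m) hF ⊤) := by
  intro x
  rw [SzTI.mem_EA]
  constructor
  · rintro ⟨c, -, rfl⟩
    exact ⟨c, rfl⟩
  · rintro ⟨c, rfl⟩
    exact ⟨c, trivial, rfl⟩

/-- the normaliser of a conjugate of `Z(Q)` fixes the corresponding point -/
theorem SZ_aux_norm_fix (hF : Fintype.card F = 2 ^ (2 * m + 1)) {g n : Cfsg.Sz F m}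
    (hn : n ∈ normalizer (((SzTI.EA hF ⊤).map (MulAut.conj g).toMonoidHom : Subgroup (Cfsg.Sz F m)) :
      Set (Cfsg.Sz F m))) :
    n • (g • (infO : Cfsg.suzukiOvoid F m)) = g • infO := by
  obtain ⟨s, hs, hs1⟩ := SZINV_aux_exists hF g
  have h1 : n * s * n⁻¹ ∈ (SzTI.EA hF ⊤).map (MulAut.conj g).toMonoidHom :=
    (Subgroup.mem_normalizer_iff.1 hn s).1 hs
  have h2 : n * s * n⁻¹ ≠ 1 := by
    intro h0
    apply hs1
    have : s = n⁻¹ * (n * s * n⁻¹) * n := by group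
    rw [this, h0]
    group
  have h3 := (SZINV_aux_fix_conj hF hs hs1).1
  have h4 : (n * s * n⁻¹) • (n • (g • (infO : Cfsg.suzukiOvoid F m))) = n • (g • infO) := by
    rw [mul_smul, mul_smul, inv_smul_smul, h3]
  exact (SZINV_aux_fix_conj hF h1 h2).2 _ h4

/-- SZSR -/
theorem SZ_sr (hm : 1 ≤ m) (hF : Fintype.card F = 2 ^ (2 * m + 1)) (Zb : Subgroup (Cfsg.Sz F m))
    (hZ : IsZ hF Zb) {t : Cfsg.Sz F m} (ht : t ∈ Zb) (ht1 : t ≠ 1) (x : Cfsg.Sz F m)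
    (h : t ∈ normalizer ((Zb.map (cj x) : Subgroup (Cfsg.Sz F m)) : Set (Cfsg.Sz F m))) :
    x ∈ normalizer ((Qz hF : Subgroup (Cfsg.Sz F m)) : Set (Cfsg.Sz F m)) := by
  rw [SZ_aux_isZ_eq hF hZ] at ht h
  have h1 : t • (x • (infO : Cfsg.suzukiOvoid F m)) = x • infO := SZ_aux_norm_fix hF h
  have ht' : t ∈ (SzTI.EA hF ⊤).map (MulAut.conj (1 : Cfsg.Sz F m)).toMonoidHom := by
    refine ⟨t, ht, ?_⟩
    simp
  have h2 := (SZINV_aux_fix_conj hF ht' ht1).2 _ h1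
  rw [one_smul] at h2
  rw [SzMax.normalizer_Qz hF hm, MulAction.mem_stabilizer_iff]
  exact h2

/-- SZINV (route B) -/
theorem SZ_inv (hm : 1 ≤ m) (hF : Fintype.card F = 2 ^ (2 * m + 1)) (Zb : Subgroup (Cfsg.Sz F m))
    (hZ : IsZ hF Zb) (a : Cfsg.Sz F m) (ha : orderOf a = 2) : ∃ x : Cfsg.Sz F m, a ∈ Zb.map (cj x) := by
  obtain ⟨k, c, hc, rfl⟩ := SZINV_aux_invol hF hm a ha
  exact ⟨k, Tz hF 0 c, (hZ _).2 ⟨c, rfl⟩, rfl⟩

/-- SZREALT -/
theorem SZ_real_nofix (hm : 1 ≤ m) (hF : Fintype.card F = 2 ^ (2 * m + 1)) (g : Cfsg.Sz F m)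
    (hg : SzTor.NoFix g) : ∃ a : Cfsg.Sz F m, orderOf a = 2 ∧ a * g * a⁻¹ = g⁻¹ := by
  have : Fact (Nat.Prime 2) := ⟨Nat.prime_two⟩
  have hT := SzTor.isTor_centralizer hF hm hg
  have hCT := SzSg.isCT_of_isTor hF hm hT
  have hcard : 2 ∣ Nat.card ↥(Subgroup.normalizer
      ((Subgroup.centralizer ({g} : Set (Cfsg.Sz F m)) : Subgroup (Cfsg.Sz F m)) : Set (Cfsg.Sz F m))) := by
    obtain ⟨T₁, T₂, -, -, -, -, e1, e2, hall⟩ := SzTor.main hF hm
    rcases hall _ hT with ⟨x, hx⟩ | ⟨x, hx⟩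
    · rw [hx]
      have h3 : Nat.card ↥(Subgroup.normalizer ((SCTI.cj x T₁ : Subgroup (Cfsg.Sz F m)) : Set (Cfsg.Sz F m))) =
          Nat.card ↥(Subgroup.normalizer ((T₁ : Subgroup (Cfsg.Sz F m)) : Set (Cfsg.Sz F m))) := by
        rw [← Subgroup.map_equiv_normalizer_eq T₁ (MulAut.conj x)]
        exact (Nat.card_congr (Subgroup.equivMapOfInjective _ _ (MulAut.conj x).injective).toEquiv).symm
      rw [h3, e1]
      exact Dvd.intro (2 * Nat.card ↥T₁) (by ring)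
    · rw [hx]
      have h3 : Nat.card ↥(Subgroup.normalizer ((SCTI.cj x T₂ : Subgroup (Cfsg.Sz F m)) : Set (Cfsg.Sz F m))) =
          Nat.card ↥(Subgroup.normalizer ((T₂ : Subgroup (Cfsg.Sz F m)) : Set (Cfsg.Sz F m))) := by
        rw [← Subgroup.map_equiv_normalizer_eq T₂ (MulAut.conj x)]
        exact (Nat.card_congr (Subgroup.equivMapOfInjective _ _ (MulAut.conj x).injective).toEquiv).symm
      rw [h3, e2]
      exact Dvd.intro (2 * Nat.card ↥T₂) (by ring)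
  obtain ⟨a, ha⟩ := exists_prime_orderOf_dvd_card' 2 hcard
  refine ⟨(a : Cfsg.Sz F m), ?_, ?_⟩
  · rw [Subgroup.orderOf_coe]; exact ha
  · have hh : g ∈ Subgroup.centralizer ({g} : Set (Cfsg.Sz F m)) := by
      rw [Subgroup.mem_centralizer_iff]
      intro y hy
      rw [Set.mem_singleton_iff] at hy
      rw [hy]
    exact hCT.inverts a.2 (by rw [Subgroup.orderOf_coe]; exact ha) hh

/-- SZREALD -/
theorem SZ_real_split (hF : Fintype.card F = 2 ^ (2 * m + 1)) (k : Fˣ) :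
    Wz (m := m) hF * Dz hF k * (Wz hF)⁻¹ = Dz hF k⁻¹ := by
  rw [Wz_inv]
  apply Subtype.ext
  exact W_mul_D_mul_W k

/-- SZREAL -/
theorem SZ_real (hm : 1 ≤ m) (hF : Fintype.card F = 2 ^ (2 * m + 1)) (g : Cfsg.Sz F m)
    (hg : ¬ ∃ k : ℕ, orderOf g = 2 ^ k) :
    ∃ a b : Cfsg.Sz F m, orderOf a = 2 ∧ orderOf b = 2 ∧ g = a * b := by
  have : Fact (Nat.Prime 2) := ⟨Nat.prime_two⟩
  have hg1 : g ≠ 1 := by
    rintro rfl
    exact hg ⟨0, by simp⟩
  -- it suffices to find an involution inverting `g`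
  have key : ∀ a : Cfsg.Sz F m, orderOf a = 2 → a * g * a⁻¹ = g⁻¹ →
      ∃ a b : Cfsg.Sz F m, orderOf a = 2 ∧ orderOf b = 2 ∧ g = a * b := by
    intro a ha hinv
    have haa : a * a = 1 := by rw [← pow_two, ← ha, pow_orderOf_eq_one]
    have hainv : a⁻¹ = a := inv_eq_of_mul_eq_one_left haa
    refine ⟨a, a * g, ha, ?_, ?_⟩
    · have h2 : (a * g) ^ 2 = 1 := by
        rw [pow_two]
        calc a * g * (a * g) = (a * g * a⁻¹) * g := by rw [hainv]; group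
          _ = 1 := by rw [hinv]; group
      have h3 : a * g ≠ 1 := by
        intro h0
        apply hg
        have : g = a := by
          have := eq_inv_of_mul_eq_one_right h0
          rw [this, hainv]
        exact ⟨1, by rw [this, ha, pow_one]⟩
      exact orderOf_eq_prime h2 h3
    · calc g = (a * a) * g := by rw [haa, one_mul]
        _ = a * (a * g) := by group
  rcases SzPart.classify hF hm g hg1 with hnf | ⟨k, a, b, hab, e⟩ | ⟨k, κ, hκ, e⟩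
  · obtain ⟨a, ha, hinv⟩ := SZ_real_nofix hm hF g hnf
    exact key a ha hinv
  · exfalso
    have h4 : (Tz (m := m) hF a b) ^ 4 = 1 := by
      have h5 := Monoid.pow_exponent_eq_one (⟨Tz hF a b, Tz_mem_Qz hF a b⟩ : ↥(Qz (m := m) hF))
      rw [exponent_Qz] at h5
      exact congrArg Subtype.val h5
    have h6 : g ^ (2 ^ 2) = 1 := by
      have h5 : g = k⁻¹ * (k * g * k⁻¹) * k⁻¹⁻¹ := by group
      rw [h5, e, conj_pow]
      have : (2 : ℕ) ^ 2 = 4 := by norm_num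
      rw [this, h4]
      group
    obtain ⟨j, -, hj⟩ := (Nat.dvd_prime_pow Nat.prime_two).1 (orderOf_dvd_of_pow_eq_one h6)
    exact hg ⟨j, hj⟩
  · have hW := SZ_real_split (m := m) hF κ
    have h2 : (k⁻¹ * Wz hF * k) ^ 2 = 1 := by
      rw [pow_two]
      calc k⁻¹ * Wz hF * k * (k⁻¹ * Wz hF * k) = k⁻¹ * (Wz hF * Wz hF) * k := by group
        _ = 1 := by rw [Wz_mul_Wz]; group
    have h3 : k⁻¹ * Wz hF * k ≠ 1 := by
      intro h4
      apply Wz_ne_one (m := m) hF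
      have : Wz (m := m) hF = k * (k⁻¹ * Wz hF * k) * k⁻¹ := by group
      rw [this, h4]
      group
    apply key (k⁻¹ * Wz hF * k) (orderOf_eq_prime h2 h3)
    have e1 : k⁻¹ * Wz hF * k * g * (k⁻¹ * Wz hF * k)⁻¹ =
        k⁻¹ * (Wz hF * (k * g * k⁻¹) * (Wz hF)⁻¹) * k := by group
    rw [e1, e, hW, ← Dz_inv, ← e]
    group

/-- SZCORE -/
theorem XF_SZ_core (hm : 1 ≤ m) (hF : Fintype.card F = 2 ^ (2 * m + 1)) (Zb Nb : Subgroup (Cfsg.Sz F m))
    (hZ : IsZ hF Zb) (h : Hyp Zb Nb) : XFacts 2 Zb Nb := by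
  have hZe := SZ_aux_isZ_eq hF hZ
  -- `Nb = N(Q)`
  have hQtop : normalizer ((Qz hF : Subgroup (Cfsg.Sz F m)) : Set (Cfsg.Sz F m)) ≠ ⊤ := by
    have := (SzMax.normalizer_sylow_maximal hF hm (QSylow hF hm)).1.1
    rwa [QSylow_coe] at this
  have hZQ : Zb ≤ normalizer ((Qz hF : Subgroup (Cfsg.Sz F m)) : Set (Cfsg.Sz F m)) := by
    intro z hz
    obtain ⟨c, rfl⟩ := (hZ z).1 hz
    exact le_normalizer (Tz_mem_Qz hF 0 c)
  have hNQ : normalizer ((Qz hF : Subgroup (Cfsg.Sz F m)) : Set (Cfsg.Sz F m)) ≤ Nb := h.max _ hZQ hQtop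
  refine ⟨?_, ?_⟩
  · intro t ht ht1 x hx
    exact hNQ (SZ_sr hm hF Zb hZ ht ht1 x hx)
  · intro g hg
    obtain ⟨a, b, ha, hb, rfl⟩ := SZ_real hm hF g hg
    obtain ⟨x1, hx1⟩ := SZ_inv hm hF Zb hZ a ha
    obtain ⟨x2, hx2⟩ := SZ_inv hm hF Zb hZ b hb
    have ha1 : a ≠ 1 := by
      rintro rfl
      rw [orderOf_one] at ha
      exact absurd ha (by norm_num)
    have hb1 : b ≠ 1 := by
      rintro rfl
      rw [orderOf_one] at hb
      exact absurd hb (by norm_num)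
    refine ⟨x1, x2, a, b, hx1, hx2, ha1, hb1, ?_, Or.inl rfl⟩
    intro heq
    apply hg
    rw [← heq] at hx2
    have hab : a * b ∈ Zb.map (cj x1) := Subgroup.mul_mem _ hx1 hx2
    obtain ⟨z, hz, hzab⟩ := hab
    obtain ⟨c, rfl⟩ := (hZ z).1 hz
    have h2 : (a * b) ^ 2 = 1 := by
      rw [← hzab, ← map_pow, pow_two, Tz_zero_mul_self, map_one]
    have h2' : (a * b) ^ 2 ^ 1 = 1 := by rw [pow_one]; exact h2
    obtain ⟨j, -, hj⟩ := (Nat.dvd_prime_pow Nat.prime_two).1 (orderOf_dvd_of_pow_eq_one h2')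
    exact ⟨j, hj⟩

/-- SZ -/
theorem XF_SZ (hm : 1 ≤ m) (hF : Fintype.card F = 2 ^ (2 * m + 1)) (Yb Nb : Subgroup (Cfsg.Sz F m))
    (h : Hyp Yb Nb) (hY : Cfsg.IsElementaryAbelian 2 Yb) : XFacts 2 Yb Nb := by
  have hfact : Fact (Nat.Prime 2) := ⟨Nat.prime_two⟩
  have hY2 : IsPGroup 2 ↥Yb := Cfsg.Agent.S2861P.SZ.aux_isPGroup hY
  obtain ⟨P, hYP⟩ := hY2.exists_le_sylow
  obtain ⟨hco, huniq⟩ := SzMax.normalizer_sylow_maximal hF hm P
  have hPtop : (P : Subgroup (Cfsg.Sz F m)) ≠ ⊤ := by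
    intro htop
    apply hco.1
    rw [eq_top_iff, ← htop]
    exact le_normalizer
  have hPN : (P : Subgroup (Cfsg.Sz F m)) ≤ Nb := h.max _ hYP hPtop
  obtain ⟨M, hM, hNM⟩ := (eq_top_or_exists_le_coatom Nb).resolve_left h.ne_top
  have hMN : M = normalizer ((P : Subgroup (Cfsg.Sz F m)) : Set (Cfsg.Sz F m)) :=
    huniq M hM (hPN.trans hNM)
  have hNPle : normalizer ((P : Subgroup (Cfsg.Sz F m)) : Set (Cfsg.Sz F m)) ≤ Nb :=
    h.max _ (hYP.trans le_normalizer) hco.1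
  have hNb : Nb = normalizer ((P : Subgroup (Cfsg.Sz F m)) : Set (Cfsg.Sz F m)) :=
    le_antisymm (hMN ▸ hNM) hNPle
  have hYne : Yb ≠ ⊥ := by
    intro h0
    have hgen := h.gen
    rw [h0, normalClosure_eq_self] at hgen
    apply h.ne_top
    rw [eq_top_iff, ← hgen]
    exact bot_le
  obtain ⟨g, hg⟩ := MulAction.exists_smul_eq (Cfsg.Sz F m) (QSylow hF hm) P
  have hP : (P : Subgroup (Cfsg.Sz F m)) = (Qz hF).map (MulAut.conj g).toMonoidHom := by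
    rw [← hg, Sylow.coe_subgroup_smul, QSylow_coe, Subgroup.pointwise_smul_def]
    rfl
  -- transport by conjugation with `g⁻¹`
  set e : Cfsg.Sz F m ≃* Cfsg.Sz F m := MulAut.conj g⁻¹ with he
  obtain ⟨t1, -, -, t4⟩ := Cfsg.Agent.S2861P.TRANSPORT e 2 Yb Nb
  have hH' := t1 h
  have hY' := t4 hY
  have hPe : (P : Subgroup (Cfsg.Sz F m)).map e.toMonoidHom = Qz hF := by
    rw [hP, he]
    have := Cfsg.Agent.Helper14.map_cj_map_cj_inv (Qz (m := m) hF) g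
    exact this
  have hNe : Nb.map e.toMonoidHom = normalizer ((Qz hF : Subgroup (Cfsg.Sz F m)) : Set (Cfsg.Sz F m)) := by
    rw [hNb, Subgroup.map_equiv_normalizer_eq, hPe]
  have hne' : Yb.map e.toMonoidHom ≠ ⊥ := by
    intro h0
    exact hYne ((Subgroup.map_eq_bot_iff_of_injective Yb e.injective).1 h0)
  have hN' : normalizer ((Qz hF : Subgroup (Cfsg.Sz F m)) : Set (Cfsg.Sz F m)) ≤
      normalizer ((Yb.map e.toMonoidHom : Subgroup (Cfsg.Sz F m)) : Set (Cfsg.Sz F m)) := by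
    rw [← hNe]
    exact hH'.norm
  have hZ : IsZ hF (Yb.map e.toMonoidHom) :=
    fun x => Cfsg.Agent.S2861P.SZ.aux_claimQ hm hF _ hY' hne' hN' x
  exact XFacts.of_equiv e 2 Yb Nb (XF_SZ_core hm hF _ _ hZ hH')

end Cfsg.Agent.S2863P
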