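import Mathlib
import Cfsg.Agent.Helper5.S2932Defs

/-! # Board `s2932pieces`: row BASIC_tt (helper14): the root group -/

set_option autoImplicit false
set_option linter.unusedSectionVars false

namespace Cfsg.Agent.S2932P

open Matrix

namespace Dat

variable {F : Type} [Field F] [Fintype F] {Γ : Type*} [Group Γ] [Finite Γ] (D : Dat F Γ)
  {p : ℕ} [Fact p.Prime] [CharP F p]

/-- `tt a` is the chosen preimage of `uM a`. `Classical.choose_spec`. -/
theorem tt_spec (a : F) : ∃ l : ↥D.Λ, (l : Γ) = D.tt a ∧ D.ρ l = uM a :=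
  ⟨Classical.choose (D.ρ_surj (uM a)), rfl, Classical.choose_spec (D.ρ_surj (uM a))⟩

/-- `ρ l = 1` gives `A l = id` (hA, one_mulVec), so `l = 1` by `A_inj`. -/
theorem rho_inj : Function.Injective D.ρ := by
  rw [injective_iff_map_eq_one]
  intro l hl
  have h1 : D.A (l : Γ) = D.A 1 := by
    ext v : 1
    rw [D.hA l v, hl, D.A_one]
    simp
  have h2 : (l : Γ) = 1 := D.A_inj h1
  exact Subtype.ext h2

/-- `hA` + `tt_spec` + `uM_coe`, `mulVec` on `Fin 2`. -/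
theorem A_tt (a : F) (v : Fin 2 → F) : D.A (D.tt a) v = ![v 0 + a * v 1, v 1] := by
  obtain ⟨l, hl, hρ⟩ := D.tt_spec a
  rw [← hl, D.hA l v, hρ, uM_coe]
  ext i
  fin_cases i <;> simp [Matrix.mulVec, dotProduct, Fin.sum_univ_two]

/-- `mem_T`, `tt_spec`, `rho_inj`. -/
theorem mem_T_iff (g : Γ) : g ∈ D.T ↔ ∃ a : F, g = D.tt a := by
  rw [D.mem_T]
  constructor
  · rintro ⟨l, rfl, a, ha⟩
    obtain ⟨m, hm, hρ⟩ := D.tt_spec a
    refine ⟨a, ?_⟩
    rw [← hm]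
    have : l = m := D.rho_inj (ha.trans hρ.symm)
    rw [this]
  · rintro ⟨a, rfl⟩
    obtain ⟨m, hm, hρ⟩ := D.tt_spec a
    exact ⟨m, hm, a, hρ⟩

/-- Both sides are in `Λ` with the same `ρ` (`uM_mul`), `rho_inj`. -/
theorem tt_add (a b : F) : D.tt (a + b) = D.tt a * D.tt b := by
  obtain ⟨l, hl, hρl⟩ := D.tt_spec a
  obtain ⟨m, hm, hρm⟩ := D.tt_spec b
  obtain ⟨k, hk, hρk⟩ := D.tt_spec (a + b)
  have : k = l * m := D.rho_inj (by rw [map_mul, hρl, hρm, hρk, uM_mul])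
  rw [← hk, ← hl, ← hm, this]
  rfl

theorem tt_zero : D.tt 0 = 1 := by
  have h := D.tt_add 0 0
  rw [add_zero] at h
  exact (left_eq_mul.1 h)

/-- `A_tt` at `v = ![0,1]`. -/
theorem tt_inj : Function.Injective D.tt := by
  intro a b h
  have h1 := D.A_tt a ![0, 1]
  have h2 := D.A_tt b ![0, 1]
  rw [h] at h1
  have h3 := congrFun (h1.symm.trans h2) 0
  simpa using h3

/-- `a ↦ tt a` is a bijection `F → T`. -/
theorem card_T : Nat.card ↥D.T = Fintype.card F := by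
  rw [← Nat.card_eq_fintype_card]
  symm
  apply Nat.card_congr
  refine Equiv.ofBijective (fun a => ⟨D.tt a, (D.mem_T_iff _).2 ⟨a, rfl⟩⟩) ⟨?_, ?_⟩
  · intro a b h
    exact D.tt_inj (Subtype.mk.inj h)
  · rintro ⟨g, hg⟩
    obtain ⟨a, rfl⟩ := (D.mem_T_iff g).1 hg
    exact ⟨a, rfl⟩

theorem T_le : D.T ≤ D.Λ := by
  rintro g ⟨l, rfl, -⟩
  exact l.2

theorem BASIC_tt_aux_nsmul (a : F) (n : ℕ) : D.tt a ^ n = D.tt (n • a) := by
  induction n with
  | zero => rw [pow_zero, zero_smul, D.tt_zero]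
  | succ n ih => rw [pow_succ, ih, succ_nsmul, D.tt_add]

/-- `tt a ^ p = tt (p • a) = tt 0`. -/
theorem T_pow (t : Γ) (ht : t ∈ D.T) : t ^ p = 1 := by
  obtain ⟨a, rfl⟩ := (D.mem_T_iff t).1 ht
  rw [D.BASIC_tt_aux_nsmul, nsmul_eq_mul, CharP.cast_eq_zero F p, zero_mul, D.tt_zero]

theorem T_pgroup : IsPGroup p ↥D.T := by
  intro t
  refine ⟨1, ?_⟩
  rw [pow_one]
  apply Subtype.ext
  rw [Subgroup.coe_pow]
  exact D.T_pow (t : Γ) t.2

end Dat

end Cfsg.Agent.S2932P
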