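import Mathlib
import Cfsg.Agent.Helper15.S2933Defs

set_option autoImplicit false

/-! Piece NAB of the board `s2933pieces` (blueprint L5). -/

namespace Cfsg.Agent.S2933P

open scoped commutatorElement
open Cfsg.Agent.Helper16.S64

universe u

/-- NAB (blueprint L5): if all squares lie in `V` and `|T| = 64` then `T` is not abelian. -/
theorem NAB {T : Type u} [Group T] [Finite T] {τ ρ : MulAut T} {V : Subgroup T}
    (h : PData τ ρ V) (hq : ∀ x : T, x * x ∈ V) (hc : Nat.card T = 64) :
    ¬ IsMulCommutative T := by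
  intro hcomm
  have hmc : ∀ a b : T, a * b = b * a := fun a b => hcomm.is_comm.comm a b
  -- the homomorphism `x ↦ x⁻¹ τ x`
  let f : T →* T := MonoidHom.mk' (fun x => x⁻¹ * τ x) (by
    intro a b
    simp only [map_mul, mul_inv_rev]
    rw [hmc b⁻¹ a⁻¹, mul_assoc, mul_assoc, ← mul_assoc b⁻¹ (τ a) (τ b), hmc b⁻¹ (τ a), mul_assoc])
  have hf : ∀ x, f x = x⁻¹ * τ x := fun x => rfl
  -- kernel is `V`
  have hker : f.ker = V := by
    ext x
    rw [MonoidHom.mem_ker, hf, ← h.tau_fix x]
    constructor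
    · intro hx
      have : τ x = x * (x⁻¹ * τ x) := by group
      rw [this, hx, mul_one]
    · intro hx
      rw [hx, inv_mul_cancel]
  -- the image lies in `V`
  have hsq : ∀ x, f x * f x = 1 := by
    intro x
    rw [hf]
    have h1 : τ (x * x) = x * x := (h.tau_fix _).mpr (hq x)
    rw [map_mul] at h1
    calc x⁻¹ * τ x * (x⁻¹ * τ x) = x⁻¹ * x⁻¹ * (τ x * τ x) := by
          rw [mul_assoc, mul_assoc, ← mul_assoc (τ x) x⁻¹ (τ x), hmc (τ x) x⁻¹, mul_assoc]
      _ = 1 := by rw [h1]; group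
  have hrange : f.range ≤ V := by
    rintro y ⟨x, rfl⟩
    rw [← h.tau_fix]
    have h2 : f x = (f x)⁻¹ := eq_inv_of_mul_eq_one_left (hsq x)
    change τ (x⁻¹ * τ x) = f x
    rw [map_mul, map_inv, h.tau_sq, hmc, h2, hf, mul_inv_rev, inv_inv]
    exact hmc _ _
  have hcard1 : Nat.card f.ker * f.ker.index = Nat.card T := Subgroup.card_mul_index _
  rw [Subgroup.index_ker, hker, h.card, hc] at hcard1
  have hle : Nat.card f.range ≤ Nat.card V := Subgroup.card_le_of_le hrange
  rw [h.card] at hle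
  omega

end Cfsg.Agent.S2933P
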