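import Mathlib
import Cfsg.Prelude.Def_JComponents
import Cfsg.Prelude.Def_Involutions
import Cfsg.Agent.Helper5.S2951Defs
import Cfsg.Agent.Helper23.S2951SYLGE
import Cfsg.Agent.S2947

/-! # S2951 board, piece XT (blueprint §8 (X2)) -/

set_option autoImplicit false

universe u

namespace Cfsg.Agent.S2951P

open Cfsg Subgroup Cfsg.Agent.Helper15.JComp

variable {G : Type u} [Group G] [Finite G]

/-- a nonempty family of straddling subgroups has a lexicographically maximal member -/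
theorem XT_aux_exists_max {M : Subgroup G} (hne : (straddlingTwoSubgroups M).Nonempty) :
    ∃ T₀ : Subgroup G, T₀ ∈ maxStraddlingTwoSubgroups M := by
  classical
  have hfin : (straddlingTwoSubgroups M).Finite := Set.toFinite _
  let f : Subgroup G → ℕ ×ₗ (ℕ ×ₗ ℕ) := fun T =>
    toLex (maxElemAbelianOrder T, toLex (Nat.card ↥(thompsonSubgroupOf 2 T), Nat.card ↥T))
  obtain ⟨T₀, hT₀, hmax⟩ := Set.exists_max_image (straddlingTwoSubgroups M) f hfin hne
  refine ⟨T₀, hT₀, fun T hT => ?_⟩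
  have h := hmax T hT
  rw [Prod.Lex.le_iff] at h
  rcases h with h | ⟨h1, h2⟩
  · have h' : maxElemAbelianOrder T < maxElemAbelianOrder T₀ := h
    exact ⟨h'.le, fun he => absurd he h'.ne⟩
  · have h1' : maxElemAbelianOrder T = maxElemAbelianOrder T₀ := h1
    refine ⟨h1'.le, fun _ => ?_⟩
    rw [Prod.Lex.le_iff] at h2
    rcases h2 with h2 | ⟨h3, h4⟩
    · have h2' : Nat.card ↥(thompsonSubgroupOf 2 T) < Nat.card ↥(thompsonSubgroupOf 2 T₀) := h2
      exact ⟨h2'.le, fun he => absurd he h2'.ne⟩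
    · have h3' : Nat.card ↥(thompsonSubgroupOf 2 T) = Nat.card ↥(thompsonSubgroupOf 2 T₀) := h3
      have h4' : Nat.card ↥T ≤ Nat.card ↥T₀ := h4
      exact ⟨h3'.le, fun _ => h4'⟩

/-- XT (M) = (X2): a member of `𝒯*(L)` properly inside a Sylow 2-subgroup `S' ≤ L` with `N_G(J(S')) ≤ L`. -/
theorem XT (g : Glob G) {L : Subgroup G} (hL2 : IsTwoLocal L) (S : Sylow 2 G)
    (hSL : (S : Subgroup G) ≤ L)
    (hJL : normalizer ((thompsonSubgroupOf 2 (S : Subgroup G) : Subgroup G) : Set G) ≤ L)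
    (hnse : ¬ IsStronglyEmbedded L)
    (hall : ∀ H : Subgroup G, IsTwoLocal H → ∀ S' : Sylow 2 G, (S' : Subgroup G) ≤ L →
      (S' : Subgroup G) ≤ H → H ≤ L) :
    ∃ (S' : Sylow 2 G) (T' : Subgroup G), (S' : Subgroup G) ≤ L ∧
      normalizer ((thompsonSubgroupOf 2 (S' : Subgroup G) : Subgroup G) : Set G) ≤ L ∧
      T' ∈ maxStraddlingTwoSubgroups L ∧ T' ≤ (S' : Subgroup G) ∧ T' ≠ (S' : Subgroup G) := by
  have hiff := Cfsg.Agent.S2947.result g.hL g.hN g.hZ g.hO S L hL2 hJL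
  have hne : (straddlingTwoSubgroups L).Nonempty := by
    rw [Set.nonempty_iff_ne_empty]
    exact fun h => hnse (hiff.2 h)
  obtain ⟨T', hT'⟩ := XT_aux_exists_max hne
  obtain ⟨S', hTS', hS'L, hJ'⟩ := SYLGE S hJL hT'.1.1 hT'.1.2.2.1
  refine ⟨S', T', hS'L, hJ', hT', hTS', fun heq => ?_⟩
  obtain ⟨H, hH, hTH, hHL⟩ := hT'.1.2.2.2
  exact hHL (hall H hH S' hS'L (heq ▸ hTH))

end Cfsg.Agent.S2951P
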