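import Mathlib
import Cfsg.Agent.Helper29.TV2Q2Defs
import Cfsg.Agent.Helper24.TV2_DE

/-! Board `s2981pieces`, row Q2_CTE: `C_T(E) = 1` (a normal 2-subgroup of `P`, `O_2(P) = 1`). -/

set_option autoImplicit false

namespace Cfsg.Agent.TV2

variable {P : Type*} [Group P] [Finite P] {W : Type*} [AddCommGroup W] [Module (ZMod 2) W] [Finite W] [DistribMulAction P W]

theorem CTE (C : Ctx P W) {t : P} (ht : t ∈ (C.T : Subgroup P)) (hc : ∀ e ∈ C.E, t * e = e * t) : t = 1 := by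
  have hEn : C.E.Normal := DE_normal C
  -- the normal 2-subgroup `T ∩ C(E)`
  have hNn : ((C.T : Subgroup P) ⊓ Subgroup.centralizer (C.E : Set P)).Normal := by
    refine ⟨fun n hn g => ?_⟩
    obtain ⟨hnT, hnC⟩ := Subgroup.mem_inf.1 hn
    rw [Subgroup.mem_centralizer_iff] at hnC
    obtain ⟨e, he, t', ht', rfl⟩ := DE_exists_mul C g
    -- `m = t' n t'⁻¹`
    have hmT : t' * n * t'⁻¹ ∈ (C.T : Subgroup P) :=
      Subgroup.mul_mem _ (Subgroup.mul_mem _ ht' hnT) (Subgroup.inv_mem _ ht')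
    have hmC : ∀ x ∈ C.E, x * (t' * n * t'⁻¹) = (t' * n * t'⁻¹) * x := by
      intro x hx
      have hx' : t'⁻¹ * x * t'⁻¹⁻¹ ∈ C.E := hEn.conj_mem x hx t'⁻¹
      have h1 := hnC _ hx'
      have e1 : x * (t' * n * t'⁻¹) = t' * ((t'⁻¹ * x * t'⁻¹⁻¹) * n) * t'⁻¹ := by group
      have e2 : (t' * n * t'⁻¹) * x = t' * (n * (t'⁻¹ * x * t'⁻¹⁻¹)) * t'⁻¹ := by group
      rw [e1, e2, h1]
    have e3 : e * t' * n * (e * t')⁻¹ = t' * n * t'⁻¹ := by
      have h2 := hmC e he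
      have e4 : e * t' * n * (e * t')⁻¹ = (e * (t' * n * t'⁻¹)) * e⁻¹ := by group
      rw [e4, h2]
      group
    rw [e3]
    refine Subgroup.mem_inf.2 ⟨hmT, ?_⟩
    rw [Subgroup.mem_centralizer_iff]
    exact hmC
  have hNp : IsPGroup 2 ↥((C.T : Subgroup P) ⊓ Subgroup.centralizer (C.E : Set P)) :=
    C.T.isPGroup'.to_le inf_le_left
  have hle : (C.T : Subgroup P) ⊓ Subgroup.centralizer (C.E : Set P) ≤ Cfsg.pCore 2 P :=
    le_sSup ⟨hNn, hNp⟩
  have htN : t ∈ (C.T : Subgroup P) ⊓ Subgroup.centralizer (C.E : Set P) := by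
    refine Subgroup.mem_inf.2 ⟨ht, ?_⟩
    rw [Subgroup.mem_centralizer_iff]
    intro e he
    exact (hc e he).symm
  have h3 := hle htN
  rw [C.hOp, Subgroup.mem_bot] at h3
  exact h3

end Cfsg.Agent.TV2
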