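import Mathlib
import Cfsg.Agent.Helper27.S3001TOP
import Cfsg.Agent.Helper19.S3000COPR

/-! S3001 board `s3001pieces`, row COPRK: a normal Sylow `p`-subgroup `Q` of `B` acting trivially on the abelian `p`-group `X`
(normalised by `B`): `[X,B] ∩ C_X(B) = 1` (Schur–Zassenhaus complement + COPR). -/

set_option autoImplicit false

namespace Cfsg.Agent.S3001P

open Cfsg.Agent.S2789P Cfsg.Agent.S2999P Cfsg.Agent.S3000P
open scoped commutatorElement

universe u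

variable {G : Type u} [Group G] [Finite G] {p : ℕ} [Fact p.Prime] {V P : Subgroup G}

/-- a `p`-subgroup of maximal order of `B` which is normalised by `B` has a complement of order prime to `p` -/
theorem COPRK_aux_compl {B Q : Subgroup G} (hQB : Q ≤ B) (hQn : ∀ b ∈ B, cjs b Q = Q) (hQp : IsPGroup p ↥Q)
    (hmax : ∀ S : Subgroup G, S ≤ B → IsPGroup p ↥S → Nat.card ↥S ≤ Nat.card ↥Q) :
    ∃ K : Subgroup G, K ≤ B ∧ (Nat.card ↥K).Coprime p ∧ ∀ b ∈ B, ∃ q ∈ Q, ∃ k ∈ K, b = q * k := by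
  have hQ'p : IsPGroup p ↥(Q.subgroupOf B) := hQp.comap_subtype
  obtain ⟨T₂, hT₂⟩ := hQ'p.exists_le_sylow
  have hcQ : Nat.card ↥(Q.subgroupOf B) = Nat.card ↥Q := Nat.card_congr (Subgroup.subgroupOfEquivOfLe hQB).toEquiv
  have h1 : Nat.card ↥(T₂ : Subgroup ↥B) ≤ Nat.card ↥(Q.subgroupOf B) := by
    rw [hcQ]
    have h2 := hmax ((T₂ : Subgroup ↥B).map B.subtype) (Subgroup.map_subtype_le _) (T₂.isPGroup'.map B.subtype)
    rwa [Subgroup.card_map_of_injective B.subtype_injective] at h2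
  have hQT : Q.subgroupOf B = (T₂ : Subgroup ↥B) := Subgroup.eq_of_le_of_card_ge hT₂ h1
  have hidx : ¬ p ∣ (Q.subgroupOf B).index := by
    rw [hQT]
    exact T₂.not_dvd_index
  have : (Q.subgroupOf B).Normal := by
    refine ⟨fun n hn g => ?_⟩
    rw [Subgroup.mem_subgroupOf] at hn ⊢
    have h3 : cjs (g : G) Q = Q := hQn _ g.2
    rw [← h3]
    exact ⟨(n : G), hn, by simp⟩
  have hcop : Nat.Coprime (Nat.card ↥(Q.subgroupOf B)) (Q.subgroupOf B).index := by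
    obtain ⟨k, hk⟩ := hQ'p.exists_card_eq
    rw [hk]
    exact Nat.Coprime.pow_left k ((Nat.Prime.coprime_iff_not_dvd Fact.out).2 hidx)
  obtain ⟨K', hK'⟩ := Subgroup.exists_right_complement'_of_coprime hcop
  refine ⟨K'.map B.subtype, Subgroup.map_subtype_le _, ?_, ?_⟩
  · rw [Subgroup.card_map_of_injective B.subtype_injective, ← hK'.symm.index_eq_card]
    exact Nat.Coprime.symm ((Nat.Prime.coprime_iff_not_dvd Fact.out).2 hidx)
  · intro b hb
    obtain ⟨⟨q, k⟩, hqk⟩ := hK'.surjective ⟨b, hb⟩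
    refine ⟨(q : ↥B), q.2, ((k : ↥B) : G), ⟨(k : ↥B), k.2, rfl⟩, ?_⟩
    have := congrArg (fun z : ↥B => (z : G)) hqk
    simpa using this.symm

theorem COPRK {X B Q : Subgroup G} (hX : ∀ x ∈ X, ∀ y ∈ X, x * y = y * x) (hXp : IsPGroup p ↥X)
    (hn : ∀ b ∈ B, cjs b X = X) (hQB : Q ≤ B) (hQn : ∀ b ∈ B, cjs b Q = Q) (hQp : IsPGroup p ↥Q)
    (hQX : ∀ a ∈ Q, ∀ x ∈ X, a * x = x * a)
    (hmax : ∀ S : Subgroup G, S ≤ B → IsPGroup p ↥S → Nat.card ↥S ≤ Nat.card ↥Q) :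
    ∀ u ∈ ⁅X, B⁆, (∀ b ∈ B, b * u = u * b) → u = 1 := by
  obtain ⟨K, hKB, hKp, hdec⟩ := COPRK_aux_compl hQB hQn hQp hmax
  have hconj : ∀ b ∈ B, ∀ x ∈ X, b * x * b⁻¹ ∈ X := by
    intro b hb x hx
    have h1 : cjs b X = X := hn b hb
    rw [← h1]
    exact ⟨x, hx, rfl⟩
  have hcopKX : (Nat.card ↥K).Coprime (Nat.card ↥X) := by
    obtain ⟨k, hk⟩ := hXp.exists_card_eq
    rw [hk]
    exact Nat.Coprime.pow_right k hKp
  obtain ⟨_, hcap⟩ := COPR hX (fun h hh => hn h (hKB hh)) hcopKX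
  have hXB : ⁅X, B⁆ ≤ ⁅X, K⁆ := by
    rw [Subgroup.commutator_le]
    intro x hx b hb
    obtain ⟨q, hq, k, hk, rfl⟩ := hdec b hb
    have hy : k * x⁻¹ * k⁻¹ ∈ X := hconj k (hKB hk) _ (X.inv_mem hx)
    have hqy := hQX q hq _ hy
    have e : ⁅x, q * k⁆ = ⁅x, k⁆ := by
      rw [commutatorElement_def, commutatorElement_def]
      have e1 : x * (q * k) * x⁻¹ * (q * k)⁻¹ = x * (q * (k * x⁻¹ * k⁻¹)) * q⁻¹ := by group
      rw [e1, hqy]
      group
    rw [e]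
    exact Subgroup.commutator_mem_commutator hx hk
  have hXBX : ⁅X, B⁆ ≤ X := by
    rw [Subgroup.commutator_le]
    intro x hx b hb
    rw [commutatorElement_def]
    have h1 : x * b * x⁻¹ * b⁻¹ = x * (b * x⁻¹ * b⁻¹) := by group
    rw [h1]
    exact X.mul_mem hx (hconj b hb _ (X.inv_mem hx))
  intro u hu hub
  have h1 : u ∈ ⁅X, K⁆ ⊓ fixV X K := by
    refine Subgroup.mem_inf.2 ⟨hXB hu, Subgroup.mem_inf.2 ⟨hXBX hu, ?_⟩⟩
    rw [Subgroup.mem_centralizer_iff]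
    intro k hk
    exact hub k (hKB hk)
  rw [hcap, Subgroup.mem_bot] at h1
  exact h1

end Cfsg.Agent.S3001P
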