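import Mathlib
import Cfsg.Agent.Helper27.S3001TOP

/-! S3001 board `s3001pieces`, row NORMN0: `N₀ = ⨆ E i` is normalised by `P`; each `E i` is normalised by `N₀`; a `T`-conjugate
of `E i` equals `E i` or commutes with it. -/

set_option autoImplicit false

namespace Cfsg.Agent.S3001P

open Cfsg.Agent.S2789P Cfsg.Agent.S2999P Cfsg.Agent.S3000P

universe u

variable {G : Type u} [Group G] [Finite G] {p : ℕ} [Fact p.Prime] {V P : Subgroup G}

section STRUCT
variable {r : ℕ} {E : Fin r → Subgroup G}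

theorem NORMN0 (H : Hyp1 p V P) (T : Sylow p ↥P) (hC : ConclPBB p (V0 p V P) V P (TT T) r E) (hT : ∀ i, ∀ t ∈ TT T, ∃ j, cjs t (E i) = E j) :
    (∀ g ∈ P, cjs g (⨆ i, E i) = ⨆ i, E i) ∧ (∀ i, ∀ g ∈ ⨆ j, E j, cjs g (E i) = E i) ∧
      ∀ i, ∀ t ∈ TT T, cjs t (E i) = E i ∨ ∀ x ∈ E i, ∀ y ∈ cjs t (E i), x * y = y * x := by
  obtain ⟨_, _, hcomm, _, hgen, _, _⟩ := hC
  have hN : ∀ i, (⨆ j, E j) ≤ Subgroup.normalizer (E i : Set G) := by
    intro i
    apply iSup_le
    intro j
    by_cases hij : j = i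
    · subst hij
      exact Subgroup.le_normalizer
    · have h1 : ⁅E j, E i⁆ = ⊥ := hcomm j i hij
      have h2 : E j ≤ Subgroup.centralizer (E i : Set G) := Subgroup.commutator_eq_bot_iff_le_centralizer.1 h1
      exact h2.trans (Subgroup.centralizer_le_normalizer _)
  have hTN : ∀ t ∈ TT T, cjs t (⨆ i, E i) ≤ ⨆ i, E i := by
    intro t ht
    unfold cjs
    rw [Subgroup.map_iSup]
    apply iSup_le
    intro i
    obtain ⟨j, hj⟩ := hT i t ht
    have h3 : (E i).map (MulAut.conj t).toMonoidHom = E j := hj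
    rw [h3]
    exact le_iSup E j
  refine ⟨?_, ?_, ?_⟩
  · have hPN : P ≤ Subgroup.normalizer ((⨆ i, E i : Subgroup G) : Set G) := by
      rw [← hgen]
      apply sup_le Subgroup.le_normalizer
      intro t ht
      rw [Subgroup.mem_normalizer_iff]
      intro x
      constructor
      · intro hx
        exact hTN t ht ⟨x, hx, rfl⟩
      · intro hx
        have h4 := hTN t⁻¹ ((TT T).inv_mem ht) ⟨_, hx, rfl⟩
        simpa [mul_assoc] using h4
    intro g hg
    exact cj_norm (hPN hg)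
  · intro i g hg
    exact cj_norm (hN i hg)
  · intro i t ht
    obtain ⟨j, hj⟩ := hT i t ht
    by_cases hji : j = i
    · left
      rw [hj, hji]
    · right
      intro x hx y hy
      rw [hj] at hy
      have h1 : ⁅E i, E j⁆ = ⊥ := hcomm i j (Ne.symm hji)
      have h2 := Subgroup.commutator_eq_bot_iff_le_centralizer.1 h1 hx
      exact ((Subgroup.mem_centralizer_iff.1 h2) y hy).symm

end STRUCT

end Cfsg.Agent.S3001P
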