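import Mathlib
import Cfsg.Agent.Helper27.S3001TOP
import Cfsg.Agent.Helper14.S3001NORMN0

/-! S3001 board `s3001pieces`, row SYLE: `T ∩ E i` is a Sylow `p`-subgroup of `E i`. -/

set_option autoImplicit false

namespace Cfsg.Agent.S3001P

open Cfsg.Agent.S2789P Cfsg.Agent.S2999P Cfsg.Agent.S3000P

universe u

variable {G : Type u} [Group G] [Finite G] {p : ℕ} [Fact p.Prime] {V P : Subgroup G}

section STRUCT
variable {r : ℕ} {E : Fin r → Subgroup G}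

/-- the elements of `G` which, together with their inverses, permute the family `E` by conjugation -/
def SYLE_aux_stab (E : Fin r → Subgroup G) : Subgroup G where
  carrier := {g | (∀ i, ∃ j, cjs g (E i) = E j) ∧ (∀ i, ∃ j, cjs g⁻¹ (E i) = E j)}
  one_mem' := by
    refine ⟨fun i => ⟨i, cj_one _⟩, fun i => ⟨i, ?_⟩⟩
    rw [inv_one]
    exact cj_one _
  mul_mem' := by
    rintro a b ⟨ha1, ha2⟩ ⟨hb1, hb2⟩
    refine ⟨fun i => ?_, fun i => ?_⟩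
    · obtain ⟨j, hj⟩ := hb1 i
      obtain ⟨k, hk⟩ := ha1 j
      exact ⟨k, by rw [← cj_mul, hj, hk]⟩
    · obtain ⟨j, hj⟩ := ha2 i
      obtain ⟨k, hk⟩ := hb2 j
      exact ⟨k, by rw [mul_inv_rev, ← cj_mul, hj, hk]⟩
  inv_mem' := by
    rintro a ⟨ha1, ha2⟩
    refine ⟨ha2, fun i => ?_⟩
    rw [inv_inv]
    exact ha1 i

theorem SYLE (H : Hyp1 p V P) (T : Sylow p ↥P) (hC : ConclPBB p (V0 p V P) V P (TT T) r E) (hT : ∀ i, ∀ t ∈ TT T, ∃ j, cjs t (E i) = E j) (i : Fin r) :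
    IsPGroup p ↥(TT T ⊓ E i) ∧
      ∀ S : Subgroup G, S ≤ E i → IsPGroup p ↥S → Nat.card ↥S ≤ Nat.card ↥(TT T ⊓ E i) := by
  obtain ⟨_, hN0E, _⟩ := NORMN0 H T hC hT
  obtain ⟨_, hEP, _, _, hgen, hconj, _⟩ := hC
  have hTp : IsPGroup p ↥(TT T) := T.isPGroup'.map P.subtype
  refine ⟨hTp.to_le inf_le_left, ?_⟩
  intro S hSE hSp
  -- `P` permutes the family
  have hPstab : P ≤ SYLE_aux_stab E := by
    rw [← hgen]
    apply sup_le
    · intro g hg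
      refine ⟨fun k => ⟨k, hN0E k g hg⟩, fun k => ⟨k, hN0E k g⁻¹ (Subgroup.inv_mem _ hg)⟩⟩
    · intro t ht
      exact ⟨fun k => hT k t ht, fun k => hT k t⁻¹ ((TT T).inv_mem ht)⟩
  obtain ⟨h, hhP, hh⟩ := F2_aux_conj_into P T (hSE.trans (hEP i)) hSp
  obtain ⟨j, hj⟩ := (hPstab hhP).1 i
  have h1 : cjs h S ≤ TT T ⊓ E j := le_inf hh (hj ▸ cj_mono hSE)
  obtain ⟨t, ht, htE⟩ := hconj i j
  have htE' : cjs t (E i) = E j := htE
  have h2 : cjs t (TT T ⊓ E i) = TT T ⊓ E j := by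
    rw [cj_inf, cj_self ht, htE']
  calc Nat.card ↥S = Nat.card ↥(cjs h S) := (cj_card h S).symm
    _ ≤ Nat.card ↥(TT T ⊓ E j) := Subgroup.card_le_of_le h1
    _ = Nat.card ↥(cjs t (TT T ⊓ E i)) := by rw [h2]
    _ = Nat.card ↥(TT T ⊓ E i) := cj_card t _

end STRUCT

end Cfsg.Agent.S3001P
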