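import Mathlib
import Cfsg.Agent.Helper16.S3174Defs
import Cfsg.Agent.Helper21.S3174AVOID
import Cfsg.Agent.Helper23.S3174NORMK

set_option autoImplicit false
set_option linter.unusedSectionVars false
set_option linter.style.haveILetI false

namespace Cfsg.Agent.S3174P

open scoped commutatorElement

variable {T : Type*} [Group T] [Finite T]

/-- `|K| = |H| · |K : H|` for `H ≤ K`. -/
theorem DERIVED_aux_card {G : Type*} [Group G] {H K : Subgroup G} (h : H ≤ K) :
    Nat.card ↥H * H.relIndex K = Nat.card ↥K := by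
  have := Subgroup.relIndex_mul_relIndex (⊥ : Subgroup G) H K bot_le h
  rwa [Subgroup.relIndex_bot_left, Subgroup.relIndex_bot_left] at this

/-- relative version of `Subgroup.mul_mem_iff_of_index_two` -/
theorem DERIVED_aux_mul_mem {G : Type*} [Group G] {H K : Subgroup G} (h2 : H.relIndex K = 2)
    {a b : G} (ha : a ∈ K) (hb : b ∈ K) : a * b ∈ H ↔ (a ∈ H ↔ b ∈ H) := by
  have h := Subgroup.mul_mem_iff_of_index_two (H := H.subgroupOf K) h2
    (a := ⟨a, ha⟩) (b := ⟨b, hb⟩)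
  simpa [Subgroup.mem_subgroupOf] using h

/-- `(xy)² = x² ⁅x⁻¹, y⁆ y²` -/
theorem DERIVED_aux_sq (x y : T) : (x * y) ^ 2 = x ^ 2 * ⁅x⁻¹, y⁆ * y ^ 2 := by
  simp only [commutatorElement_def, pow_two]; group

/-- `Ω = {x ∈ W | x² ∈ N}` is a subgroup when `⁅W, W⁆ ≤ N`. -/
def DERIVED_aux_Om (W N : Subgroup T) (h : ∀ x ∈ W, ∀ y ∈ W, ⁅x, y⁆ ∈ N) : Subgroup T where
  carrier := {x | x ∈ W ∧ x ^ 2 ∈ N}
  one_mem' := ⟨W.one_mem, by simp⟩
  mul_mem' := by
    rintro a b ⟨ha, ha'⟩ ⟨hb, hb'⟩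
    refine ⟨W.mul_mem ha hb, ?_⟩
    rw [DERIVED_aux_sq]
    exact N.mul_mem (N.mul_mem ha' (h _ (W.inv_mem ha) _ hb)) hb'
  inv_mem' := by
    rintro a ⟨ha, ha'⟩
    refine ⟨W.inv_mem ha, ?_⟩
    rw [inv_pow]
    exact N.inv_mem ha'

/-- DERIVED -/
theorem derived {W : Subgroup T} (c : Cfg0 T W) : (commutator ↥W).map W.subtype = Zi T 3 := by
  have hle : (commutator ↥W).map W.subtype ≤ Zi T 3 := by
    rw [Subgroup.map_subtype_commutator, Subgroup.commutator_le]
    intro x hx y hy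
    exact c.cm x hx y hy
  by_contra hne
  have h23 : Zi T 2 ≤ Zi T 3 := Subgroup.upperCentralSeries_mono T (by norm_num)
  -- `W'` has order at most 4
  have hcard : Nat.card ↥((commutator ↥W).map W.subtype) ≤ 2 ^ 2 := by
    have hdvd : Nat.card ↥((commutator ↥W).map W.subtype) ∣ 8 := by
      rw [← c.c3]; exact Subgroup.card_dvd_of_le hle
    have hlt : Nat.card ↥((commutator ↥W).map W.subtype) < 8 := by
      by_contra hge
      push Not at hge
      exact hne (Subgroup.eq_of_le_of_card_ge hle (by rw [c.c3]; exact hge))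
    have key : ∀ d : ℕ, d < 8 → d ∣ 8 → d ≤ 2 ^ 2 := by decide
    exact key _ hlt hdvd
  haveI : W.Normal := c.nW
  haveI : ((commutator ↥W).map W.subtype).Normal := by
    rw [Subgroup.map_subtype_commutator]; infer_instance
  haveI : Fact (Nat.Prime 2) := ⟨Nat.prime_two⟩
  have hW'2 : (commutator ↥W).map W.subtype ≤ Zi T 2 :=
    normal_le_ucs c.hT _ 2 hcard
  have hcm2 : ∀ x ∈ W, ∀ y ∈ W, ⁅x, y⁆ ∈ Zi T 2 := by
    intro x hx y hy
    apply hW'2
    rw [Subgroup.map_subtype_commutator]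
    exact Subgroup.commutator_mem_commutator hx hy
  -- `|Z_3 : Z_2| = 2`
  have hrel : (Zi T 2).relIndex (Zi T 3) = 2 := by
    have := DERIVED_aux_card h23
    rw [c.c2, c.c3] at this
    omega
  set Om := DERIVED_aux_Om W (Zi T 2) hcm2 with hOm
  have hOmW : Om ≤ W := fun x hx => hx.1
  have hZ2Om : Zi T 2 ≤ Om := by
    intro z hz
    exact ⟨c.ZW (h23 hz), (Zi T 2).pow_mem hz 2⟩
  have hZ3Om : Zi T 3 ≤ Om := by
    intro z hz
    refine ⟨c.ZW hz, ?_⟩
    rw [pow_two, DERIVED_aux_mul_mem hrel hz hz]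
  -- `Ω` has index at most 2 in `W`
  have hidx : Om.relIndex W ∣ 2 := by
    rw [Subgroup.relIndex_dvd_two_iff]
    by_cases hall : W ≤ Om
    · exact ⟨1, W.one_mem, fun b hb => Or.inr (hall hb)⟩
    · obtain ⟨a, haW, haOm⟩ := SetLike.not_le_iff_exists.1 hall
      refine ⟨a, haW, fun b hb => ?_⟩
      by_cases hbOm : b ∈ Om
      · exact Or.inr hbOm
      · left
        refine ⟨W.mul_mem hb haW, ?_⟩
        have ha2 : a ^ 2 ∉ Zi T 2 := fun h => haOm ⟨haW, h⟩
        have hb2 : b ^ 2 ∉ Zi T 2 := fun h => hbOm ⟨hb, h⟩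
        rw [DERIVED_aux_sq, mul_assoc,
          DERIVED_aux_mul_mem hrel (c.sq b hb)
            ((Zi T 3).mul_mem (h23 (hcm2 _ (W.inv_mem hb) _ haW)) (c.sq a haW))]
        constructor
        · intro h; exact absurd h hb2
        · intro h
          exfalso
          exact ha2 ((Subgroup.mul_mem_cancel_left _ (hcm2 _ (W.inv_mem hb) _ haW)).1 h)
  have hidx2 : Om.relIndex W ≤ 2 := Nat.le_of_dvd (by norm_num) hidx
  -- an element of `Z_3 \ Z_2`
  obtain ⟨z, hz3, hz2⟩ : ∃ z ∈ Zi T 3, z ∉ Zi T 2 := by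
    by_contra hcon
    push Not at hcon
    have h32 : Zi T 3 ≤ Zi T 2 := fun z hz => hcon z hz
    have := Subgroup.card_le_of_le h32
    rw [c.c2, c.c3] at this
    omega
  obtain ⟨U, hUOm, hUrel, hzU⟩ :=
    exists_index_two_avoiding c.hT Om (Zi T 2) hZ2Om (fun y hy => hy.2) z (hZ3Om hz3) hz2
  have hUW : U.relIndex W ≤ 16 := by
    rw [← Subgroup.relIndex_mul_relIndex U Om W hUOm hOmW, hUrel]
    omega
  exact hzU (c.hd U (hUOm.trans hOmW) hUW hz3)

/-- EXPO -/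
theorem expo {W : Subgroup T} (c : Cfg0 T W) (dr : (commutator ↥W).map W.subtype = Zi T 3) :
    ∀ z ∈ Zi T 3, z ^ 2 = 1 := by
  -- elements of `W` commute with elements of `Z_3`
  have hcomm : ∀ x ∈ W, ∀ z ∈ Zi T 3, z * x = x * z := by
    intro x hx z hz
    have hx' := hx
    rw [c.hW, Subgroup.mem_centralizer_iff] at hx'
    exact hx' z hz
  have key : ∀ w ∈ commutator ↥W, ((w : ↥W) : T) ∈ Zi T 3 ∧ ((w : ↥W) : T) ^ 2 = 1 := by
    intro w hw
    rw [commutator_eq_closure] at hw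
    induction hw using Subgroup.closure_induction with
    | mem w hw =>
      obtain ⟨x, y, rfl⟩ := hw
      have hxy : ⁅(x : T), (y : T)⁆ ∈ Zi T 3 := c.cm _ x.2 _ y.2
      have hco : ((⁅x, y⁆ : ↥W) : T) = ⁅(x : T), (y : T)⁆ := by
        simp [commutatorElement_def]
      refine ⟨by rw [hco]; exact hxy, ?_⟩
      have hx2 : (x : T) ^ 2 ∈ Zi T 3 := c.sq _ x.2
      have h1 : ⁅(x : T) ^ 2, (y : T)⁆ = 1 := by
        rw [commutatorElement_eq_one_iff_mul_comm]
        exact hcomm _ y.2 _ hx2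
      have h2 : ⁅(x : T) ^ 2, (y : T)⁆ = ⁅(x : T), (y : T)⁆ ^ 2 := by
        have h3 : ⁅(x : T) ^ 2, (y : T)⁆ = (x : T) * ⁅(x : T), (y : T)⁆ * (x : T)⁻¹ * ⁅(x : T), (y : T)⁆ := by
          simp only [commutatorElement_def, pow_two]; group
        rw [h3, ← hcomm _ x.2 _ hxy, mul_inv_cancel_right, pow_two]
      rw [hco, ← h2, h1]
    | one => exact ⟨by simp, by simp⟩
    | mul a b _ _ iha ihb =>
      refine ⟨by simpa using (Zi T 3).mul_mem iha.1 ihb.1, ?_⟩
      have hab : ((a : ↥W) : T) * ((b : ↥W) : T) = ((b : ↥W) : T) * ((a : ↥W) : T) :=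
        (hcomm _ b.2 _ iha.1)
      have : (((a * b : ↥W)) : T) = (a : T) * (b : T) := by simp
      rw [this, (show Commute ((a : ↥W) : T) ((b : ↥W) : T) from hab).mul_pow, iha.2, ihb.2, one_mul]
    | inv a _ iha =>
      refine ⟨by simpa using (Zi T 3).inv_mem iha.1, ?_⟩
      have : (((a⁻¹ : ↥W)) : T) = ((a : ↥W) : T)⁻¹ := by simp
      rw [this, inv_pow, iha.2, inv_one]
  intro z hz
  rw [← dr] at hz
  obtain ⟨w, hw, rfl⟩ := hz
  exact (key w hw).2

end Cfsg.Agent.S3174P
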