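import Mathlib

/-!
# S3385 (Sims: suborbit of length 3) from S3685 (Wong): auxiliary lemmas

`S3385_aux_card`: a group isomorphic to one of `Z₃, S₃, D₁₂, S₄, S₄ × Z₂` has order `2^k * 3` with `k ≤ 4`.
`S3385_aux_finite`: a pretransitive action of a finite group lives on a finite set.
-/

set_option autoImplicit false

namespace Cfsg.Agent.Helper14

theorem S3385_aux_card {H : Type*} [Group H]
    (h : Nonempty (H ≃* Multiplicative (ZMod 3)) ∨ Nonempty (H ≃* Equiv.Perm (Fin 3)) ∨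
      Nonempty (H ≃* DihedralGroup 6) ∨ Nonempty (H ≃* Equiv.Perm (Fin 4)) ∨
      Nonempty (H ≃* Equiv.Perm (Fin 4) × Multiplicative (ZMod 2))) :
    ∃ k : ℕ, k ≤ 4 ∧ Nat.card H = 2 ^ k * 3 := by
  rcases h with ⟨⟨e⟩⟩ | ⟨⟨e⟩⟩ | ⟨⟨e⟩⟩ | ⟨⟨e⟩⟩ | ⟨⟨e⟩⟩
  · refine ⟨0, by norm_num, ?_⟩
    rw [Nat.card_congr e.toEquiv]
    simp [Nat.card_eq_fintype_card]
  · refine ⟨1, by norm_num, ?_⟩
    rw [Nat.card_congr e.toEquiv, Nat.card_eq_fintype_card, Fintype.card_perm]
    simp [Nat.factorial]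
  · refine ⟨2, by norm_num, ?_⟩
    rw [Nat.card_congr e.toEquiv, DihedralGroup.nat_card]
    norm_num
  · refine ⟨3, by norm_num, ?_⟩
    rw [Nat.card_congr e.toEquiv, Nat.card_eq_fintype_card, Fintype.card_perm]
    simp [Nat.factorial]
  · refine ⟨4, by norm_num, ?_⟩
    rw [Nat.card_congr e.toEquiv, Nat.card_prod, Nat.card_eq_fintype_card, Fintype.card_perm]
    simp [Nat.factorial, Nat.card_eq_fintype_card]

theorem S3385_aux_finite {G : Type*} [Group G] [Finite G] {Ω : Type*} [MulAction G Ω]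
    [MulAction.IsPretransitive G Ω] (a : Ω) : Finite Ω := by
  have hsurj : Function.Surjective (fun g : G => g • a) := MulAction.surjective_smul G a
  exact Finite.of_surjective _ hsurj

end Cfsg.Agent.Helper14
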