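import Mathlib
import Cfsg.Agent.Helper15.S3412.Defs2
import Cfsg.Agent.Helper7.AutPSL5

/-! S3412 piece GAMMA1 (helper14): the 26 subgroups `sub0 x` of `SL₃(3)` are pairwise distinct. -/

set_option autoImplicit false

namespace Cfsg.Agent.S3412P

open Matrix Cfsg.Agent.Helper2.RootSLn Cfsg.Agent.Helper7.AutPSL

namespace GAMMA1

set_option maxRecDepth 100000 in
theorem pt_ne_zero : ∀ i : Fin 13, pt i ≠ 0 := by decide

set_option maxRecDepth 100000 in
theorem pt_not_prop : ∀ i i' : Fin 13, i ≠ i' → ∀ a : ZMod 3, pt i ≠ a • pt i' := by decide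

set_option maxRecDepth 100000 in
/-- for a point `pt i` and a form `pt j` there is a form `ψ` vanishing at `pt i`, not proportional to `pt j` -/
theorem exists_form : ∀ i j : Fin 13, ∃ ψ : Fin 3 → ZMod 3, ψ ⬝ᵥ pt i = 0 ∧ ∀ c : ZMod 3, ψ ≠ c • pt j := by
  decide

set_option maxRecDepth 100000 in
/-- for a form `pt j` and a point `pt i` there is a vector `w` killed by `pt j`, not proportional to `pt i` -/
theorem exists_vec : ∀ i j : Fin 13, ∃ w : Fin 3 → ZMod 3, pt j ⬝ᵥ w = 0 ∧ ∀ c : ZMod 3, w ≠ c • pt i := by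
  decide

theorem TP_ne_bot (i : Fin 13) : (TP (pt i) : Subgroup L33) ≠ ⊥ := by
  intro h
  obtain ⟨ψ, hψ, hc⟩ := exists_form i i
  have hψ0 : ψ ≠ 0 := by
    intro h0
    exact hc 0 (by rw [h0, zero_smul])
  have hm : ts (pt i) ψ hψ 1 ∈ (TP (pt i) : Subgroup L33) := ts_mem_TP hψ 1
  rw [h, Subgroup.mem_bot, ts_eq_one_iff (pt_ne_zero i) hψ0 hψ] at hm
  exact one_ne_zero hm

theorem TH_ne_bot (j : Fin 13) : (TH (pt j) : Subgroup L33) ≠ ⊥ := by
  intro h
  obtain ⟨w, hw, hc⟩ := exists_vec j j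
  have hw0 : w ≠ 0 := by
    intro h0
    exact hc 0 (by rw [h0, zero_smul])
  have hm : ts w (pt j) hw 1 ∈ (TH (pt j) : Subgroup L33) := ts_mem_TH hw 1
  rw [h, Subgroup.mem_bot, ts_eq_one_iff hw0 (pt_ne_zero j) hw] at hm
  exact one_ne_zero hm

theorem TP_inj {i i' : Fin 13} (h : (TP (pt i) : Subgroup L33) = TP (pt i')) : i = i' := by
  by_contra hne
  have h1 : (TP (pt i) : Subgroup L33) ⊓ TP (pt i') = ⊥ := TP_inf_TP_eq_bot (pt_not_prop i i' hne)
  rw [← h, inf_idem] at h1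
  exact TP_ne_bot i h1

theorem TH_inj {j j' : Fin 13} (h : (TH (pt j) : Subgroup L33) = TH (pt j')) : j = j' := by
  by_contra hne
  have h1 : (TH (pt j) : Subgroup L33) ⊓ TH (pt j') = ⊥ := TH_inf_TH_eq_bot (pt_not_prop j j' hne)
  rw [← h, inf_idem] at h1
  exact TH_ne_bot j h1

theorem TP_ne_TH (i j : Fin 13) : (TP (pt i) : Subgroup L33) ≠ TH (pt j) := by
  intro h
  by_cases hd : pt j ⬝ᵥ pt i = 0
  · have h1 : (TP (pt i) : Subgroup L33) ⊓ TH (pt j) = X (pt i) (pt j) := TP_inf_TH (pt_ne_zero i) hd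
    rw [← h, inf_idem] at h1
    obtain ⟨ψ, hψ, hc⟩ := exists_form i j
    have hm : ts (pt i) ψ hψ 1 ∈ (TP (pt i) : Subgroup L33) := ts_mem_TP hψ 1
    rw [h1, mem_X hd] at hm
    obtain ⟨c, hc'⟩ := hm
    have h2 : tm (pt i) ψ 1 = tm (pt i) (c • pt j) 1 := by
      have := congrArg Subtype.val hc'
      rw [coe_ts, coe_ts, tm_smul_eq (pt i) (pt j) c] at this
      exact this
    obtain ⟨a, ha⟩ := smul_of_vecMulVec_eq_left (vecMulVec_eq_of_tm_eq h2) (pt_ne_zero i)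
    apply hc (a * c)
    rw [ha, smul_smul]
  · have h1 : (TP (pt i) : Subgroup L33) ⊓ TH (pt j) = ⊥ := TP_inf_TH_eq_bot (pt_ne_zero i) hd
    rw [← h, inf_idem] at h1
    exact TP_ne_bot i h1

theorem sub0_injective : Function.Injective sub0 := by
  intro x y h
  rcases x with i | j <;> rcases y with i' | j'
  · rw [sub0_inl, sub0_inl] at h
    rw [TP_inj h]
  · rw [sub0_inl, sub0_inr] at h
    exact absurd h (TP_ne_TH i j')
  · rw [sub0_inr, sub0_inl] at h
    exact absurd h.symm (TP_ne_TH i' j)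
  · rw [sub0_inr, sub0_inr] at h
    rw [TH_inj h]

end GAMMA1

end Cfsg.Agent.S3412P
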