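import Mathlib
import Cfsg.Agent.Helper15.S3412.Defs2
import Cfsg.Agent.Helper13.SL33Spec

/-! S3412 piece S13 (helper14): an element of order 13 of `SL₃(3)` has centralizer of order prime to 27
(otherwise an element of order 39 would exist). -/

set_option autoImplicit false

namespace Cfsg.Agent.S3412P

open Matrix

namespace S13

theorem not_dvd_of_thirteen {a : L33} (h : orderOf a = 13) :
    ¬ 27 ∣ Nat.card (Subgroup.centralizer ({a} : Set L33)) := by
  intro hd
  have h3 : 3 ∣ Nat.card (Subgroup.centralizer ({a} : Set L33)) := dvd_trans (by norm_num) hd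
  haveI : Fact (Nat.Prime 3) := ⟨by norm_num⟩
  obtain ⟨y, hy⟩ := exists_prime_orderOf_dvd_card' (G := Subgroup.centralizer ({a} : Set L33)) 3 h3
  have hy' : orderOf (y : L33) = 3 := by
    rw [Subgroup.orderOf_coe]
    exact hy
  have hcomm : Commute a (y : L33) := by
    have := y.2
    rw [Subgroup.mem_centralizer_iff] at this
    exact (this a (Set.mem_singleton a))
  have hco : Nat.Coprime (orderOf a) (orderOf (y : L33)) := by
    rw [h, hy']
    norm_num
  have hord : orderOf (a * (y : L33)) = 39 := by
    rw [hcomm.orderOf_mul_eq_mul_orderOf_of_coprime hco, h, hy']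
  have hmem := Cfsg.Agent.Helper13.SL33Spec.orderOf_mem (a * (y : L33))
  rw [hord] at hmem
  simp at hmem

end S13

end Cfsg.Agent.S3412P
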