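import Mathlib

set_option autoImplicit false

/-! S3501 / S3556 piece PRODDER (stub: `departures/helper4_s3501_stubs.lean.txt`):
product-type point stabiliser: an element of `N` whose `i`-th coordinate has no conjugate in `K i`
is a derangement. Mathlib only. -/

namespace Cfsg.Agent.S3501P

open MulAction

section
variable {G : Type*} [Group G] [Finite G] {Ω : Type*} [Fintype Ω] [MulAction G Ω] [FaithfulSMul G Ω]

/-- PRODDER: product-type point stabiliser: an element of `N` whose `i`-th coordinate has no conjugate in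
`K i` is a derangement. -/
theorem PRODDER (N : Subgroup G) [IsPretransitive N Ω] (a : Ω) {T : Type} [Group T] {m : ℕ}
    (e : N ≃* (Fin m → T)) (K : Fin m → Subgroup T)
    (hstab : ∀ n : N, (n : G) ∈ stabilizer G a ↔ ∀ i, e n i ∈ K i)
    (f : Fin m → T) (i : Fin m) (hf : ∀ g : T, g⁻¹ * f i * g ∉ K i) :
    ∀ ω : Ω, ((e.symm f : N) : G) • ω ≠ ω := by
  intro ω hω
  obtain ⟨n, hn⟩ := MulAction.exists_smul_eq N a ω
  -- `n • a = ω` with `n : N`
  have hn' : (n : G) • a = ω := hn
  set x : N := e.symm f with hx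
  have hfix : ((n⁻¹ * x * n : N) : G) ∈ stabilizer G a := by
    rw [MulAction.mem_stabilizer_iff]
    have : ((n⁻¹ * x * n : N) : G) = (n : G)⁻¹ * (x : G) * (n : G) := by
      simp
    rw [this, mul_smul, mul_smul, hn', hω, ← hn', inv_smul_smul]
  have h := (hstab (n⁻¹ * x * n)).1 hfix i
  apply hf (e n i)
  have : e (n⁻¹ * x * n) i = (e n i)⁻¹ * f i * e n i := by
    rw [map_mul, map_mul, map_inv, hx, MulEquiv.apply_symm_apply]
    rfl
  rw [this] at h
  exact h

end

end Cfsg.Agent.S3501P
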