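import Cfsg.Agent.Helper11.S3753Defs

set_option autoImplicit false

namespace Cfsg.Agent.S3753P

open Cfsg
open scoped commutatorElement

variable {G : Type*} [Group G]

/-- `O_p(M) = 1` and `C_M(O_p(M)) ≤ O_p(M)` force `M = 1`. -/
theorem QNE_aux_bot {p : ℕ} (M : Subgroup G)
    (hc : Subgroup.centralizer (pCore p ↥M : Set ↥M) ≤ pCore p ↥M)
    (hQ : pCoreOf p M = ⊥) : M = ⊥ := by
  have h1 : pCore p ↥M = ⊥ := by
    unfold pCoreOf at hQ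
    exact (Subgroup.map_eq_bot_iff_of_injective _ M.subtype_injective).1 hQ
  rw [h1] at hc
  have h2 : (⊤ : Subgroup ↥M) ≤ ⊥ := by
    intro x _
    apply hc
    rw [Subgroup.mem_centralizer_iff]
    intro y hy
    have hy1 : y = 1 := by simpa using hy
    rw [hy1]; simp
  rw [Subgroup.eq_bot_iff_forall]
  intro x hx
  have h3 : (⟨x, hx⟩ : ↥M) ∈ (⊥ : Subgroup ↥M) := h2 (Subgroup.mem_top _)
  rw [Subgroup.mem_bot] at h3
  exact congrArg Subtype.val h3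

/-- piece QNE -/
theorem QNE {p : ℕ} [Fact p.Prime] (M₁ M₂ : Subgroup G) (hne : M₁ ≠ M₂)
    (hc₁ : Subgroup.centralizer (pCore p ↥M₁ : Set ↥M₁) ≤ pCore p ↥M₁)
    (hc₂ : Subgroup.centralizer (pCore p ↥M₂ : Set ↥M₂) ≤ pCore p ↥M₂)
    (hO : pCoreOf p M₁ ⊔ pCoreOf p M₂ ≤ M₁ ⊓ M₂) : pCoreOf p M₁ ≠ ⊥ ∧ pCoreOf p M₂ ≠ ⊥ := by
  constructor
  · intro h
    have hM₁ : M₁ = ⊥ := QNE_aux_bot M₁ hc₁ h
    have h2 : pCoreOf p M₂ ≤ ⊥ := by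
      have := (le_sup_right.trans hO).trans (inf_le_left : M₁ ⊓ M₂ ≤ M₁)
      rwa [hM₁] at this
    have hM₂ : M₂ = ⊥ := QNE_aux_bot M₂ hc₂ (le_bot_iff.1 h2)
    exact hne (hM₁.trans hM₂.symm)
  · intro h
    have hM₂ : M₂ = ⊥ := QNE_aux_bot M₂ hc₂ h
    have h2 : pCoreOf p M₁ ≤ ⊥ := by
      have := (le_sup_left.trans hO).trans (inf_le_right : M₁ ⊓ M₂ ≤ M₂)
      rwa [hM₂] at this
    have hM₁ : M₁ = ⊥ := QNE_aux_bot M₁ hc₁ (le_bot_iff.1 h2)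
    exact hne (hM₁.trans hM₂.symm)

end Cfsg.Agent.S3753P
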