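import Mathlib
import Cfsg.Agent.Helper10.S3805Defs
import Cfsg.Prelude.Def_Transfer
import Cfsg.Agent.Helper6.S3805TI
import Cfsg.Agent.Helper6.S3805INJ
import Cfsg.Agent.Helper6.S3805HOM
import Cfsg.Agent.Helper8.S3805ACTION
import Cfsg.Agent.Helper19.S3805SYL2

/-!
# S3805 piece MKCFG (helper14): the configuration from the hypotheses of S3805
(assembly of SYL2, ACTION, HOM, INJ, TI).
-/

set_option autoImplicit false

namespace Cfsg.Agent.S3805P

open Cfsg

theorem MKCFG_card_Q : Nat.card Q = 36 := by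
  rw [Nat.card_eq_fintype_card, Fintype.card_prod, DihedralGroup.card]

theorem MKCFG_card_T0 : Nat.card T0 = 9 := by
  rw [T0, Nat.card_congr (Subgroup.prodEquiv _ _).toEquiv, Nat.card_prod, Nat.card_zpowers,
    DihedralGroup.orderOf_r_one]

/-- **MKCFG.** The configuration from the hypotheses of S3805. -/
theorem exists_cfg {G : Type*} [Group G] [Finite G]
    (T : Sylow 3 G) (hT : Cfsg.IsElementaryAbelian 3 (T : Subgroup G)) (hcard : Nat.card T = 9)
    (hC : Subgroup.centralizer ((T : Subgroup G) : Set G) = T)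
    [hn : ((T : Subgroup G).subgroupOf (Subgroup.normalizer ((T : Subgroup G) : Set G))).Normal]
    (hK : IsKleinFour (↥(Subgroup.normalizer ((T : Subgroup G) : Set G)) ⧸
      (T : Subgroup G).subgroupOf (Subgroup.normalizer ((T : Subgroup G) : Set G))))
    (hloc : ∀ t ∈ (T : Subgroup G), t ≠ 1 →
      Subgroup.centralizer ({t} : Set G) ≤ Subgroup.normalizer ((T : Subgroup G) : Set G)) :
    ∃ c : Cfg G, c.ι.range = Subgroup.normalizer ((T : Subgroup G) : Set G) := by
  obtain ⟨hcomm, hT3⟩ := hT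
  have hTc : ∀ t₁ ∈ (T : Subgroup G), ∀ t₂ ∈ (T : Subgroup G), t₁ * t₂ = t₂ * t₁ := by
    intro t₁ h₁ t₂ h₂
    have := mul_comm' (⟨t₁, h₁⟩ : (T : Subgroup G)) ⟨t₂, h₂⟩
    exact congrArg Subtype.val this
  obtain ⟨hN36, x, y, hxN, hyN, hx2, hy2, hxy, hxycomm⟩ := exists_klein_complement T hcard hK
  -- involutions are not in `T = C(T)`
  have hnotT : ∀ z : G, orderOf z = 2 → z ∉ Subgroup.centralizer ((T : Subgroup G) : Set G) := by
    intro z hz hzT
    rw [hC] at hzT
    have h1 : orderOf z ∣ Nat.card (T : Subgroup G) := Subgroup.orderOf_dvd_natCard _ hzT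
    rw [hz] at h1
    have h9 : Nat.card (T : Subgroup G) = 9 := hcard
    rw [h9] at h1
    omega
  have hx1 : x ^ 2 = 1 := by rw [← hx2]; exact pow_orderOf_eq_one x
  have hy1 : y ^ 2 = 1 := by rw [← hy2]; exact pow_orderOf_eq_one y
  have hxy2 : orderOf (x * y) = 2 := by
    apply orderOf_eq_prime
    · rw [pow_two]
      calc x * y * (x * y) = x * (y * x) * y := by group
        _ = x * (x * y) * y := by rw [hxycomm]
        _ = x ^ 2 * y ^ 2 := by rw [pow_two, pow_two]; simp only [mul_assoc]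
        _ = 1 := by rw [hx1, hy1, one_mul]
    · intro h1
      apply hxy
      have hxinv : x⁻¹ = x := by
        rw [inv_eq_iff_mul_eq_one, ← pow_two, hx1]
      have : y = x⁻¹ := by
        rw [eq_inv_iff_mul_eq_one, ← hxycomm, h1]
      rw [this, hxinv]
  obtain ⟨a, b, s, r, haT, hbT, hsN, hrN, ha3, hb3, hs2, hr2, hab, hsr, hsa, hsb, hra, hrb⟩ :=
    exists_gens_of_klein (T : Subgroup G) hTc hT3 hcard x y hxN hyN hx2 hy2 hxy hxycomm
      (hnotT x hx2) (hnotT y hy2) (hnotT _ hxy2)
  obtain ⟨ι, hιa, hιb, hιs, hιr, hιrange, hιT0⟩ := exists_hom a b s r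
    (by rw [← ha3]; exact pow_orderOf_eq_one a) (by rw [← hb3]; exact pow_orderOf_eq_one b)
    (by rw [← hs2]; exact pow_orderOf_eq_one s) (by rw [← hr2]; exact pow_orderOf_eq_one r)
    hab hsr hsa hsb hra hrb
  have ha1 : a ≠ 1 := by
    intro h
    rw [h, orderOf_one] at ha3
    omega
  have hb1 : b ≠ 1 := by
    intro h
    rw [h, orderOf_one] at hb3
    omega
  have hinj : Function.Injective ι :=
    injective_of_ne_one ι (by rw [hιa]; exact ha1) (by rw [hιb]; exact hb1)
  have hTN : (T : Subgroup G) ≤ Subgroup.normalizer ((T : Subgroup G) : Set G) :=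
    Subgroup.le_normalizer
  have hrange : ι.range = Subgroup.normalizer ((T : Subgroup G) : Set G) := by
    apply Subgroup.eq_of_le_of_card_ge
    · refine hιrange.trans ((Subgroup.closure_le _).mpr ?_)
      rintro z (rfl | rfl | rfl | rfl)
      · exact hTN haT
      · exact hTN hbT
      · exact hsN
      · exact hrN
    · rw [hN36, Nat.card_congr (MonoidHom.ofInjective hinj).toEquiv.symm, MKCFG_card_Q]
  have hT0 : T0.map ι = (T : Subgroup G) := by
    apply Subgroup.eq_of_le_of_card_ge
    · refine hιT0.trans ((Subgroup.closure_le _).mpr ?_)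
      rintro z (rfl | rfl)
      · exact haT
      · exact hbT
    · rw [Subgroup.card_map_of_injective hinj, MKCFG_card_T0]
      exact hcard.le
  exact ⟨{ ι := ι, inj := hinj, P := T, hP := hT0.symm,
           ti := ti_of_hyps T hTc hloc ι hinj hrange hT0 }, hrange⟩

end Cfsg.Agent.S3805P
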