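import Mathlib
import Cfsg.Agent.Helper10.S3805Defs

/-!
# S3805 piece NOFUSE (helper14)

`u = ι (sr 0, 1)` and `v = ι (1, sr 0)` are not conjugate in `G`: `⟨b⟩` is a Sylow `3`-subgroup of
`C_G(u)`, so a conjugate `g⁻¹ a g ∈ C_G(u)` would be `C_G(u)`-conjugate into `⟨b⟩`, and the TI
property moves the conjugation into `Q`.
-/

set_option autoImplicit false

namespace Cfsg.Agent.S3805P

open Cfsg

theorem NOFUSE_mem_smul {G : Type*} [Group G] (P : Sylow 3 G) (k x : G) :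
    x ∈ (k • P : Sylow 3 G) ↔ k⁻¹ * x * k ∈ (P : Subgroup G) := by
  show x ∈ ((k • P : Sylow 3 G) : Subgroup G) ↔ _
  rw [Sylow.coe_subgroup_smul, Subgroup.mem_pointwise_smul_iff_inv_smul_mem]
  simp [MulAut.smul_def]

theorem NOFUSE_mem_cent {G : Type*} [Group G] (u g : G) :
    g ∈ Subgroup.centralizer ({u} : Set G) ↔ u * g = g * u := by
  simp [Subgroup.mem_centralizer_iff]

theorem NOFUSE_T0_comm : ∀ q₁ ∈ T0, ∀ q₂ ∈ T0, q₁ * q₂ = q₂ * q₁ := by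
  intro q₁ h₁ q₂ h₂
  simp only [T0, Subgroup.mem_prod] at h₁ h₂
  obtain ⟨n₁, hn₁⟩ := Subgroup.mem_zpowers_iff.mp h₁.1
  obtain ⟨m₁, hm₁⟩ := Subgroup.mem_zpowers_iff.mp h₁.2
  obtain ⟨n₂, hn₂⟩ := Subgroup.mem_zpowers_iff.mp h₂.1
  obtain ⟨m₂, hm₂⟩ := Subgroup.mem_zpowers_iff.mp h₂.2
  ext1
  · simp only [Prod.fst_mul]
    rw [← hn₁, ← hn₂, ← zpow_add, ← zpow_add, add_comm]
  · simp only [Prod.snd_mul]
    rw [← hm₁, ← hm₂, ← zpow_add, ← zpow_add, add_comm]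

/-- the finite check in `Q` -/
theorem NOFUSE_Q_check : ∀ q : Q, q * (DihedralGroup.sr 0, 1) = (DihedralGroup.sr 0, 1) * q →
    q * (1, DihedralGroup.r 1) = (1, DihedralGroup.r 1) * q → q ^ 3 = 1 →
    q = 1 ∨ q = (1, DihedralGroup.r 1) ∨ q = (1, DihedralGroup.r 1) ^ 2 := by
  decide

theorem NOFUSE_Q_exp : ∀ q : Q, q ^ 6 = 1 := by decide

/-- a `3`-element of `Q` has cube one -/
theorem NOFUSE_cube (q : Q) (k : ℕ) (h : q ^ 3 ^ k = 1) : q ^ 3 = 1 := by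
  have hdvd : orderOf q ∣ 3 ^ k := orderOf_dvd_of_pow_eq_one h
  have h2 : Nat.Coprime (orderOf q) 2 :=
    Nat.Coprime.coprime_dvd_left hdvd (Nat.Coprime.pow_left k (by norm_num))
  have h6 : orderOf q ∣ 2 * 3 := orderOf_dvd_of_pow_eq_one (NOFUSE_Q_exp q)
  exact orderOf_dvd_iff_pow_eq_one.mp (h2.dvd_of_dvd_mul_left h6)

/-- every `3`-subgroup of `C_G(u)` containing `b` is inside `⟨b⟩` -/
theorem NOFUSE_claim {G : Type*} [Group G] [Finite G] (c : Cfg G) (R : Subgroup G)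
    (hR : IsPGroup 3 R) (hbR : c.b ∈ R) (hRC : R ≤ Subgroup.centralizer ({c.u} : Set G)) :
    R ≤ Subgroup.zpowers c.b := by
  obtain ⟨P₁, hP₁⟩ := hR.exists_le_sylow
  obtain ⟨k, hk⟩ := MulAction.exists_smul_eq G c.P P₁
  intro x hx
  -- `x` commutes with `b`
  have hxb : x * c.b = c.b * x := by
    have h1 : x ∈ (k • c.P : Sylow 3 G) := by rw [hk]; exact hP₁ hx
    have h2 : c.b ∈ (k • c.P : Sylow 3 G) := by rw [hk]; exact hP₁ hbR
    rw [NOFUSE_mem_smul, c.hP] at h1 h2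
    obtain ⟨t₁, ht₁, e₁⟩ := h1
    obtain ⟨t₂, ht₂, e₂⟩ := h2
    have h3 : (k⁻¹ * x * k) * (k⁻¹ * c.b * k) = (k⁻¹ * c.b * k) * (k⁻¹ * x * k) := by
      rw [← e₁, ← e₂, ← map_mul, ← map_mul, NOFUSE_T0_comm t₁ ht₁ t₂ ht₂]
    have h4 : k⁻¹ * (x * c.b) * k = k⁻¹ * (c.b * x) * k := by
      have e3 : (k⁻¹ * x * k) * (k⁻¹ * c.b * k) = k⁻¹ * (x * c.b) * k := by group
      have e4 : (k⁻¹ * c.b * k) * (k⁻¹ * x * k) = k⁻¹ * (c.b * x) * k := by group
      rw [← e3, ← e4, h3]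
    exact mul_left_cancel (mul_right_cancel h4)
  -- hence `x ∈ ι(Q)`
  have hxr : x ∈ c.ι.range := by
    apply c.ti x (1, DihedralGroup.r 1) (1, DihedralGroup.r 1) (by decide)
    show x * c.b * x⁻¹ = c.b
    rw [hxb, mul_inv_cancel_right]
  obtain ⟨q, rfl⟩ := hxr
  have hxu : c.u * c.ι q = c.ι q * c.u := (NOFUSE_mem_cent _ _).mp (hRC hx)
  have hq1 : q * (DihedralGroup.sr 0, 1) = (DihedralGroup.sr 0, 1) * q := by
    apply c.inj
    rw [map_mul, map_mul]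
    exact hxu.symm
  have hq2 : q * (1, DihedralGroup.r 1) = (1, DihedralGroup.r 1) * q := by
    apply c.inj
    rw [map_mul, map_mul]
    exact hxb
  have hq3 : q ^ 3 = 1 := by
    obtain ⟨j, hj⟩ := hR ⟨c.ι q, hx⟩
    have hj' : c.ι q ^ 3 ^ j = 1 := by
      have := congrArg Subtype.val hj
      simpa using this
    apply NOFUSE_cube q j
    apply c.inj
    rw [map_pow, hj', map_one]
  rcases NOFUSE_Q_check q hq1 hq2 hq3 with rfl | rfl | rfl
  · rw [map_one]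
    exact Subgroup.one_mem _
  · exact Subgroup.mem_zpowers _
  · rw [map_pow]
    exact Subgroup.pow_mem _ (Subgroup.mem_zpowers _) 2

/-- **NOFUSE.** (`s ≁ r`) -/
theorem not_isConj_u_v {G : Type*} [Group G] [Finite G] (c : Cfg G) : ¬ IsConj c.u c.v := by
  intro hconj
  obtain ⟨g, hg⟩ := isConj_iff.mp hconj
  -- `hg : g * u * g⁻¹ = v`
  have hva : c.v * c.a = c.a * c.v := by
    simp only [Cfg.v, Cfg.a, ← map_mul]
    congr 1
  have hub : c.u * c.b = c.b * c.u := by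
    simp only [Cfg.u, Cfg.b, ← map_mul]
    congr 1
  set C : Subgroup G := Subgroup.centralizer ({c.u} : Set G) with hC
  have hbC : c.b ∈ C := (NOFUSE_mem_cent _ _).mpr hub
  have hc0C : g⁻¹ * c.a * g ∈ C := by
    rw [hC, NOFUSE_mem_cent]
    have hu : c.u = g⁻¹ * c.v * g := by rw [← hg]; group
    rw [hu]
    have e1 : g⁻¹ * c.v * g * (g⁻¹ * c.a * g) = g⁻¹ * (c.v * c.a) * g := by group
    have e2 : g⁻¹ * c.a * g * (g⁻¹ * c.v * g) = g⁻¹ * (c.a * c.v) * g := by group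
    rw [e1, e2, hva]
  -- `⟨b⟩` is a Sylow `3`-subgroup of `C`
  let b' : C := ⟨c.b, hbC⟩
  have hb3 : c.b ^ 3 = 1 := by
    rw [Cfg.b, ← map_pow]
    have : (((1 : D3), (DihedralGroup.r 1 : D3)) : Q) ^ 3 = 1 := by decide
    rw [this, map_one]
  have ha3 : c.a ^ 3 = 1 := by
    rw [Cfg.a, ← map_pow]
    have : (((DihedralGroup.r 1 : D3), (1 : D3)) : Q) ^ 3 = 1 := by decide
    rw [this, map_one]
  have hpz : ∀ (y : C), y ^ 3 = 1 → IsPGroup 3 (Subgroup.zpowers y) := by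
    intro y hy
    rintro ⟨x, hx⟩
    obtain ⟨n, rfl⟩ := Subgroup.mem_zpowers_iff.mp hx
    refine ⟨1, ?_⟩
    apply Subtype.ext
    show (y ^ n) ^ 3 ^ 1 = 1
    rw [pow_one, ← zpow_natCast, ← zpow_mul, mul_comm, zpow_mul, zpow_natCast, hy, one_zpow]
  let S : Sylow 3 C :=
    { toSubgroup := Subgroup.zpowers b'
      isPGroup' := hpz b' (Subtype.ext hb3)
      is_maximal' := by
        intro R hR hle
        apply le_antisymm _ hle
        have h1 : R.map C.subtype ≤ Subgroup.zpowers c.b := by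
          apply NOFUSE_claim c _ (hR.map C.subtype)
          · exact ⟨b', hle (Subgroup.mem_zpowers b'), rfl⟩
          · rintro _ ⟨y, -, rfl⟩
            exact y.2
        intro x hx
        have h2 : (x : G) ∈ Subgroup.zpowers c.b := h1 ⟨x, hx, rfl⟩
        obtain ⟨n, hn⟩ := Subgroup.mem_zpowers_iff.mp h2
        rw [Subgroup.mem_zpowers_iff]
        refine ⟨n, Subtype.ext ?_⟩
        rw [← hn]
        simp [b'] }
  -- the conjugate of `a`
  let c0 : C := ⟨g⁻¹ * c.a * g, hc0C⟩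
  have hc03 : c0 ^ 3 = 1 := by
    apply Subtype.ext
    show (g⁻¹ * c.a * g) ^ 3 = 1
    have : g⁻¹ * c.a * g = g⁻¹ * c.a * g⁻¹⁻¹ := by rw [inv_inv]
    rw [this, conj_pow, ha3]
    group
  obtain ⟨S', hS'⟩ := (hpz c0 hc03).exists_le_sylow
  obtain ⟨k, hk⟩ := MulAction.exists_smul_eq C S S'
  have h1 : c0 ∈ (k • S : Sylow 3 C) := by
    rw [hk]
    exact hS' (Subgroup.mem_zpowers c0)
  rw [NOFUSE_mem_smul] at h1
  have h2 : k⁻¹ * c0 * k ∈ Subgroup.zpowers b' := h1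
  obtain ⟨n, hn⟩ := Subgroup.mem_zpowers_iff.mp h2
  have h3 : ((k : G))⁻¹ * (g⁻¹ * c.a * g) * (k : G) = c.b ^ n := by
    have := congrArg Subtype.val hn
    rw [Subgroup.coe_zpow, Subgroup.coe_mul, Subgroup.coe_mul, Subgroup.coe_inv] at this
    exact this.symm
  -- move into `Q`
  have h4 : ((k : G)⁻¹ * g⁻¹) * c.ι (DihedralGroup.r 1, 1) * ((k : G)⁻¹ * g⁻¹)⁻¹ =
      c.ι ((1, DihedralGroup.r 1) ^ n) := by
    rw [map_zpow]
    show _ = c.b ^ n
    rw [← h3]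
    show (k : G)⁻¹ * g⁻¹ * c.a * ((k : G)⁻¹ * g⁻¹)⁻¹ = _
    group
  obtain ⟨q0, hq0⟩ := c.ti _ _ _ (by decide) h4
  rw [← hq0, ← map_inv, ← map_mul, ← map_mul] at h4
  have h5 := c.inj h4
  have h6 := congrArg Prod.fst h5
  simp only [Prod.fst_mul, Prod.fst_inv, Prod.pow_fst, one_zpow] at h6
  have h7 : (DihedralGroup.r 1 : D3) = 1 := by
    have : (DihedralGroup.r 1 : D3) = q0.1⁻¹ * (q0.1 * DihedralGroup.r 1 * q0.1⁻¹) * q0.1 := by
      group
    rw [this, h6]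
    group
  exact absurd h7 (by decide)

end Cfsg.Agent.S3805P
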