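import Mathlib
import Cfsg.Agent.Helper10.S3805Defs

/-!
# S3805 piece TRANSFER (helper14)

If `K ⊴ G` meets `ι(Q)` in `ι(D3 × C3)`, then the subgroup of `K` generated by its `3'`-elements
is normal in `G` and meets `ι(Q)` in `ι(D3 × 1)` (transfer into the abelian Sylow `3`-subgroup).
-/

set_option autoImplicit false

namespace Cfsg.Agent.S3805P

open Cfsg

/-- elements of `F1T` -/
theorem TRANSFER_mem_F1T (q : Q) : q ∈ F1T ↔ q.2 ∈ Subgroup.zpowers (DihedralGroup.r 1 : D3) := by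
  simp [F1T, Subgroup.mem_prod]

theorem TRANSFER_mem_F1 (q : Q) : q ∈ F1 ↔ q.2 = 1 := by
  simp [F1, Subgroup.mem_prod]

theorem TRANSFER_mem_T0 (q : Q) : q ∈ T0 ↔ q.1 ∈ Subgroup.zpowers (DihedralGroup.r 1 : D3) ∧
    q.2 ∈ Subgroup.zpowers (DihedralGroup.r 1 : D3) := by
  simp [T0, Subgroup.mem_prod]

theorem TRANSFER_T0_le_F1T : T0 ≤ F1T := by
  intro q hq
  rw [TRANSFER_mem_T0] at hq
  rw [TRANSFER_mem_F1T]
  exact hq.2

theorem TRANSFER_F1_le_F1T : F1 ≤ F1T := by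
  intro q hq
  rw [TRANSFER_mem_F1] at hq
  rw [TRANSFER_mem_F1T, hq]
  exact Subgroup.one_mem _

/-- the key fusion statement for the transfer -/
theorem TRANSFER_key {G : Type*} [Group G] (c : Cfg G) (K : Subgroup G)
    (hKN : K ⊓ c.ι.range = F1T.map c.ι) (k : ℕ) (g : G) (hgK : g ∈ K)
    (hmem : g⁻¹ * c.b ^ k * g ∈ T0.map c.ι) : g⁻¹ * c.b ^ k * g = c.b ^ k := by
  have hbk : c.b ^ k = c.ι ((1 : D3), (DihedralGroup.r 1 : D3) ^ k) := by
    rw [Cfg.b, ← map_pow, Prod.pow_mk, one_pow]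
  by_cases hq : ((1 : D3), (DihedralGroup.r 1 : D3) ^ k) * ((1 : D3), (DihedralGroup.r 1 : D3) ^ k)
      = 1
  · have h3 : ((DihedralGroup.r 1 : D3) ^ k) ^ 3 = 1 := by
      rw [← pow_mul, mul_comm, pow_mul]
      have : (DihedralGroup.r 1 : D3) ^ 3 = 1 := by decide
      rw [this, one_pow]
    have h2 : (DihedralGroup.r 1 : D3) ^ k * (DihedralGroup.r 1 : D3) ^ k = 1 := by
      have := congrArg Prod.snd hq
      simpa using this
    have h1 : (DihedralGroup.r 1 : D3) ^ k = 1 := by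
      have : ((DihedralGroup.r 1 : D3) ^ k) ^ 3 =
          (DihedralGroup.r 1 : D3) ^ k * (DihedralGroup.r 1 : D3) ^ k *
            (DihedralGroup.r 1 : D3) ^ k := by
        rw [pow_succ, pow_two]
      rw [this, h2, one_mul] at h3
      exact h3
    rw [hbk, h1]
    have : (((1 : D3), (1 : D3)) : Q) = 1 := rfl
    rw [this, map_one, mul_one, inv_mul_cancel]
  · obtain ⟨q', -, hq'⟩ := hmem
    have hti := c.ti g⁻¹ _ q' hq (by rw [inv_inv, ← hbk, hq'])
    have hg : g ∈ c.ι.range := by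
      have := c.ι.range.inv_mem hti
      rwa [inv_inv] at this
    have hg' : g ∈ F1T.map c.ι := by
      rw [← hKN]
      exact ⟨hgK, hg⟩
    obtain ⟨⟨d, y⟩, hdy, rfl⟩ := hg'
    rw [SetLike.mem_coe, TRANSFER_mem_F1T] at hdy
    obtain ⟨n, hn⟩ := Subgroup.mem_zpowers_iff.mp hdy
    have hn' : y = (DihedralGroup.r 1 : D3) ^ n := hn.symm
    subst hn'
    rw [hbk, ← map_inv, ← map_mul, ← map_mul]
    congr 1
    have hcomm : Commute ((DihedralGroup.r 1 : D3) ^ n) ((DihedralGroup.r 1 : D3) ^ k) :=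
      ((Commute.refl (DihedralGroup.r 1 : D3)).zpow_left n).pow_right k
    ext1
    · simp
    · simp only [Prod.snd_mul, Prod.snd_inv]
      exact hcomm.inv_mul_cancel

open scoped IsMulCommutative in
/-- **TRANSFER.** If `K ⊴ G` meets `ι(Q)` in `ι(D3 × C3)`, then `O^3(K) ⊴ G` meets `ι(Q)` in
`ι(D3 × 1)`. -/
theorem exists_normal_of_F1T {G : Type*} [Group G] [Finite G] (c : Cfg G) (K : Subgroup G)
    [K.Normal] (hKN : K ⊓ c.ι.range = F1T.map c.ι) :
    ∃ K1 : Subgroup G, K1.Normal ∧ K1 ⊓ c.ι.range = F1.map c.ι := by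
  classical
  have hF1TK : ∀ q : Q, q ∈ F1T → c.ι q ∈ K := by
    intro q hq
    have : c.ι q ∈ K ⊓ c.ι.range := by
      rw [hKN]
      exact ⟨q, hq, rfl⟩
    exact this.1
  have hPK : (c.P : Subgroup G) ≤ K := by
    rw [c.hP]
    rintro _ ⟨q, hq, rfl⟩
    exact hF1TK q (TRANSFER_T0_le_F1T hq)
  -- the Sylow subgroup of `K`
  let P' : Sylow 3 K := c.P.subtype hPK
  have hP'mem : ∀ x : K, x ∈ (P' : Subgroup K) ↔ (x : G) ∈ T0.map c.ι := by
    intro x
    rw [← c.hP]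
    exact Subgroup.mem_subgroupOf
  -- `T` is abelian
  have hT0comm : ∀ q₁ ∈ T0, ∀ q₂ ∈ T0, q₁ * q₂ = q₂ * q₁ := by
    intro q₁ h₁ q₂ h₂
    rw [TRANSFER_mem_T0] at h₁ h₂
    obtain ⟨n₁, hn₁⟩ := Subgroup.mem_zpowers_iff.mp h₁.1
    obtain ⟨m₁, hm₁⟩ := Subgroup.mem_zpowers_iff.mp h₁.2
    obtain ⟨n₂, hn₂⟩ := Subgroup.mem_zpowers_iff.mp h₂.1
    obtain ⟨m₂, hm₂⟩ := Subgroup.mem_zpowers_iff.mp h₂.2
    ext1
    · simp only [Prod.fst_mul]
      rw [← hn₁, ← hn₂, ← zpow_add, ← zpow_add, add_comm]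
    · simp only [Prod.snd_mul]
      rw [← hm₁, ← hm₂, ← zpow_add, ← zpow_add, add_comm]
  have : IsMulCommutative (P' : Subgroup K) := by
    refine ⟨⟨fun x y => ?_⟩⟩
    obtain ⟨q₁, h₁, e₁⟩ := (hP'mem x.1).mp x.2
    obtain ⟨q₂, h₂, e₂⟩ := (hP'mem y.1).mp y.2
    apply Subtype.ext
    apply Subtype.ext
    show ((x : K) : G) * ((y : K) : G) = ((y : K) : G) * ((x : K) : G)
    rw [← e₁, ← e₂, ← map_mul, ← map_mul, hT0comm q₁ h₁ q₂ h₂]
  let φ : K →* (P' : Subgroup K) := MonoidHom.transfer (MonoidHom.id (P' : Subgroup K))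
  -- `b`
  have hbK : c.b ∈ K := hF1TK _ (by rw [TRANSFER_mem_F1T]; exact Subgroup.mem_zpowers _)
  let b' : K := ⟨c.b, hbK⟩
  have hkey : ∀ (k : ℕ) (g₀ : K), g₀⁻¹ * b' ^ k * g₀ ∈ (P' : Subgroup K) →
      g₀⁻¹ * b' ^ k * g₀ = b' ^ k := by
    intro k g₀ hmem
    rw [hP'mem] at hmem
    apply Subtype.ext
    exact TRANSFER_key c K hKN k g₀.1 g₀.2 hmem
  have hφb : ((φ b' : (P' : Subgroup K)) : K) = b' ^ (P' : Subgroup K).index := by
    have := MonoidHom.transfer_eq_pow (MonoidHom.id (P' : Subgroup K)) b' hkey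
    show ((MonoidHom.transfer (MonoidHom.id (P' : Subgroup K)) b' : (P' : Subgroup K)) : K) = _
    rw [this]
    rfl
  have hb3 : orderOf c.b = 3 := by
    have h1 : orderOf c.b = orderOf ((1 : D3), (DihedralGroup.r 1 : D3)) :=
      orderOf_injective c.ι c.inj _
    rw [h1]
    have h2 : (((1 : D3), (DihedralGroup.r 1 : D3)) : Q) ^ 3 = 1 := by decide
    have h3 : (((1 : D3), (DihedralGroup.r 1 : D3)) : Q) ≠ 1 := by decide
    exact orderOf_eq_prime h2 h3
  have hφb1 : φ b' ≠ 1 := by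
    intro h1
    have h2 : b' ^ (P' : Subgroup K).index = 1 := by
      rw [← hφb, h1]
      rfl
    have h3 : c.b ^ (P' : Subgroup K).index = 1 := by
      have := congrArg (Subtype.val) h2
      simpa [b'] using this
    have h4 := orderOf_dvd_of_pow_eq_one h3
    rw [hb3] at h4
    exact P'.not_dvd_index h4
  -- the subgroup generated by the `3'`-elements of `K`
  let S : Set G := {x | x ∈ K ∧ ¬ 3 ∣ orderOf x}
  have hSconj : ∀ g : G, ∀ x ∈ S, g * x * g⁻¹ ∈ S := by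
    rintro g x ⟨hxK, hx3⟩
    refine ⟨Subgroup.Normal.conj_mem inferInstance x hxK g, ?_⟩
    have : orderOf (g * x * g⁻¹) = orderOf x := by
      have := orderOf_injective (MulAut.conj g).toMonoidHom (MulAut.conj g).injective x
      simpa using this
    rwa [this]
  have hK1K : Subgroup.closure S ≤ K := (Subgroup.closure_le K).mpr fun x hx => hx.1
  have hK1ker : Subgroup.closure S ≤ φ.ker.map K.subtype := by
    rw [Subgroup.closure_le]
    rintro x ⟨hxK, hx3⟩
    refine ⟨⟨x, hxK⟩, ?_, rfl⟩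
    rw [SetLike.mem_coe, MonoidHom.mem_ker]
    obtain ⟨j, hj⟩ := (IsPGroup.iff_orderOf.mp P'.2) (φ ⟨x, hxK⟩)
    have h1 : orderOf (φ ⟨x, hxK⟩) ∣ orderOf (⟨x, hxK⟩ : K) := orderOf_map_dvd φ _
    have h2 : orderOf (⟨x, hxK⟩ : K) = orderOf x := by
      rw [← Subgroup.orderOf_coe]
    rw [h2, hj] at h1
    rcases Nat.eq_zero_or_pos j with rfl | hjpos
    · rw [pow_zero] at hj
      exact orderOf_eq_one_iff.mp hj
    · exact absurd ((dvd_pow_self 3 hjpos.ne').trans h1) hx3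
  have hbK1 : c.b ∉ Subgroup.closure S := by
    intro hb
    obtain ⟨y, hy, hyb⟩ := hK1ker hb
    have : y = b' := Subtype.ext hyb
    rw [this, SetLike.mem_coe, MonoidHom.mem_ker] at hy
    exact hφb1 hy
  have hnormal : (Subgroup.closure S).Normal := by
    constructor
    intro n hn g
    have h1 : (Subgroup.closure S).map (MulAut.conj g).toMonoidHom ≤ Subgroup.closure S := by
      rw [MonoidHom.map_closure, Subgroup.closure_le]
      rintro _ ⟨x, hx, rfl⟩
      apply Subgroup.subset_closure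
      have := hSconj g x hx
      simpa using this
    have h2 : (MulAut.conj g).toMonoidHom n ∈ (Subgroup.closure S).map (MulAut.conj g).toMonoidHom :=
      Subgroup.mem_map_of_mem _ hn
    have := h1 h2
    simpa using this
  -- `ι(F1) ≤ K1`
  have hinv : ∀ i : ZMod 3, c.ι (DihedralGroup.sr i, 1) ∈ Subgroup.closure S := by
    intro i
    apply Subgroup.subset_closure
    refine ⟨hF1TK _ (by rw [TRANSFER_mem_F1T]; exact Subgroup.one_mem _), ?_⟩
    have h2 : c.ι (DihedralGroup.sr i, 1) ^ 2 = 1 := by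
      rw [← map_pow]
      have : (((DihedralGroup.sr i : D3), (1 : D3)) : Q) ^ 2 = 1 := by
        rw [pow_two]
        ext1
        · simp
        · simp
      rw [this, map_one]
    intro h3
    have := h3.trans (orderOf_dvd_of_pow_eq_one h2)
    omega
  have hF1K1 : ∀ q : Q, q.2 = 1 → c.ι q ∈ Subgroup.closure S := by
    rintro ⟨d, y⟩ hy
    simp only at hy
    subst hy
    cases d with
    | r i =>
      have : ((DihedralGroup.r i : D3), (1 : D3)) =
          ((DihedralGroup.sr 0 : D3), (1 : D3)) * ((DihedralGroup.sr i : D3), (1 : D3)) := by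
        ext1
        · simp
        · simp
      rw [this, map_mul]
      exact Subgroup.mul_mem _ (hinv 0) (hinv i)
    | sr i => exact hinv i
  refine ⟨Subgroup.closure S, hnormal, ?_⟩
  apply le_antisymm
  · rintro x ⟨hxK1, ⟨q, rfl⟩⟩
    have hxK : c.ι q ∈ K := hK1K hxK1
    have hq : c.ι q ∈ F1T.map c.ι := by
      rw [← hKN]
      exact ⟨hxK, ⟨q, rfl⟩⟩
    obtain ⟨q₁, hq₁, e₁⟩ := hq
    have := c.inj e₁
    subst this
    rw [SetLike.mem_coe, TRANSFER_mem_F1T] at hq₁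
    refine ⟨q₁, ?_, rfl⟩
    rw [SetLike.mem_coe, TRANSFER_mem_F1]
    by_contra hne
    -- `ι (1, q.2) ∈ K1`
    have h1 : c.ι (q₁.1, 1) ∈ Subgroup.closure S := hF1K1 _ rfl
    have h2 : c.ι (1, q₁.2) ∈ Subgroup.closure S := by
      have : ((1 : D3), q₁.2) = (q₁.1, (1 : D3))⁻¹ * q₁ := by
        ext1
        · simp
        · simp
      rw [this, map_mul, map_inv]
      exact Subgroup.mul_mem _ (Subgroup.inv_mem _ h1) hxK1
    obtain ⟨n, hn⟩ := Subgroup.mem_zpowers_iff.mp hq₁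
    rw [DihedralGroup.r_one_zpow] at hn
    obtain ⟨j, hj⟩ : ∃ j : ZMod 3, q₁.2 = DihedralGroup.r j := ⟨_, hn.symm⟩
    apply hbK1
    have hcases : ∀ j : ZMod 3, j = 0 ∨ j = 1 ∨ j = 2 := by decide
    rcases hcases j with rfl | rfl | rfl
    · exact absurd hj hne
    · rw [hj] at h2
      exact h2
    · rw [hj] at h2
      have : c.b = c.ι (1, DihedralGroup.r 2) ^ 2 := by
        rw [Cfg.b, ← map_pow]
        congr 1
      rw [this]
      exact Subgroup.pow_mem _ h2 2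
  · rintro _ ⟨q, hq, rfl⟩
    rw [SetLike.mem_coe, TRANSFER_mem_F1] at hq
    exact ⟨hF1K1 q hq, ⟨q, rfl⟩⟩

end Cfsg.Agent.S3805P
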