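import Mathlib
import Cfsg.Prelude

/-!
# S3875, piece REDM (generic form): a minimal group with non-normal Sylow `p`-subgroups

A group whose Sylow `p`-subgroups are not normal, while those of its proper subgroups and of its proper
quotients are, is simple, or it has a normal abelian `q`-subgroup `Z` of order `≡ 1 (mod p)` with
`p * |Z| ≤ |H|`.
-/

set_option autoImplicit false
set_option linter.style.haveILetI false

namespace Cfsg.Agent.S3875P

namespace REDM

/-- an element commuting with all the elements of a subgroup normalises it -/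
theorem mem_normalizer_of_commute {H : Type*} [Group H] (C : Subgroup H) (g : H)
    (h : ∀ m ∈ C, g * m = m * g) : g ∈ Subgroup.normalizer (C : Set H) := by
  rw [Subgroup.mem_normalizer_iff]
  intro n
  constructor
  · intro hn
    have e : g * n * g⁻¹ = n := by rw [h n hn, mul_inv_cancel_right]
    rw [e]
    exact hn
  · intro hn
    have e := h _ hn
    have e2 : n = g * n * g⁻¹ := by
      calc n = g⁻¹ * (g * n * g⁻¹ * g) := by group
        _ = g⁻¹ * (g * (g * n * g⁻¹)) := by rw [e]
        _ = g * n * g⁻¹ := by group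
    rw [e2]
    exact hn

/-- a Sylow subgroup of a group whose order is prime to `p` is trivial -/
theorem sylow_eq_bot {H : Type*} [Group H] [Finite H] {p : ℕ} [Fact p.Prime] (P : Sylow p H)
    (h : ¬ p ∣ Nat.card H) : (P : Subgroup H) = ⊥ := by
  apply Subgroup.eq_bot_of_card_eq
  rw [P.card_eq_multiplicity, Nat.factorization_eq_zero_of_not_dvd h, pow_zero]

/-- REDM with the three facts REDA, REDB, REDC as hypotheses. -/
theorem simple_or_primePow_of {H : Type*} [Group H] [Finite H] {p : ℕ} [Fact p.Prime]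
    (hA : ∀ P : Sylow p H, ¬ (P : Subgroup H).Normal → ∀ (N : Subgroup H) [N.Normal], N ≠ ⊥ → N ≠ ⊤ →
      (P : Subgroup H) ⊔ N = ⊤ ∧ ¬ p ∣ Nat.card N)
    (hB : ∀ P : Sylow p H, ¬ (P : Subgroup H).Normal → ∀ (N : Subgroup H) [N.Normal],
      (P : Subgroup H) ⊔ N = ⊤ → ¬ p ∣ Nat.card N → ∃ q : ℕ, q.Prime ∧ IsPGroup q N)
    (hC' : ∀ (P : Sylow p H) (Z : Subgroup H) [Z.Normal],
      Z ⊓ Subgroup.centralizer ((P : Subgroup H) : Set H) = ⊥ → Nat.card Z % p = 1)
    (hnc : ¬ Cfsg.IsPClosed p H) :
    (IsSimpleGroup H ∧ ¬ IsCyclic H ∧ p ∣ Nat.card H) ∨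
      ∃ n : ℕ, IsPrimePow n ∧ n % p = 1 ∧ p * n ≤ Nat.card H := by
  have hp : p.Prime := Fact.out
  unfold Cfsg.IsPClosed at hnc
  push Not at hnc
  obtain ⟨P, hP⟩ := hnc
  -- `p` divides the order
  have hdvd : p ∣ Nat.card H := by
    by_contra hnd
    apply hP
    rw [sylow_eq_bot P hnd]
    infer_instance
  -- the group is not cyclic
  have hncyc : ¬ IsCyclic H := by
    intro hc
    have hcomm : ∀ a b : H, a * b = b * a := by
      letI := IsCyclic.commGroup (α := H)
      exact fun a b => mul_comm a b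
    apply hP
    refine ⟨fun n hn g => ?_⟩
    have e : g * n * g⁻¹ = n := by rw [hcomm g n, mul_inv_cancel_right]
    rw [e]
    exact hn
  by_cases hs : IsSimpleGroup H
  · exact Or.inl ⟨hs, hncyc, hdvd⟩
  right
  have hnt : Nontrivial H := by
    rw [← Finite.one_lt_card_iff_nontrivial]
    have := Nat.le_of_dvd Nat.card_pos hdvd
    have := hp.two_le
    omega
  -- a proper nontrivial normal subgroup
  obtain ⟨N, hNn, hN1, hN2⟩ : ∃ N : Subgroup H, N.Normal ∧ N ≠ ⊥ ∧ N ≠ ⊤ := by
    by_contra hno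
    push Not at hno
    apply hs
    refine ⟨fun N hN => ?_⟩
    by_cases h1 : N = ⊥
    · exact Or.inl h1
    · exact Or.inr (hno N hN h1)
  haveI := hNn
  obtain ⟨hsupN, hcopN⟩ := hA P hP N hN1 hN2
  obtain ⟨q, hq, hNq⟩ := hB P hP N hsupN hcopN
  haveI : Fact q.Prime := ⟨hq⟩
  -- the centre of `N`
  let Z : Subgroup H := (Subgroup.center N).map N.subtype
  haveI hZn : Z.Normal := ConjAct.normal_of_characteristic_of_normal
  have hZN : Z ≤ N := Subgroup.map_subtype_le _
  have hZ1 : Z ≠ ⊥ := by
    haveI : Nontrivial N := by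
      rw [Subgroup.nontrivial_iff_ne_bot]
      exact hN1
    have hc : Nontrivial (Subgroup.center N) := hNq.center_nontrivial
    rw [Subgroup.nontrivial_iff_ne_bot] at hc
    intro hb
    apply hc
    exact (Subgroup.map_eq_bot_iff_of_injective _ N.subtype_injective).mp hb
  have hZ2 : Z ≠ ⊤ := by
    intro ht
    apply hN2
    rw [eq_top_iff, ← ht]
    exact hZN
  have hZq : IsPGroup q Z := hNq.to_le hZN
  have hZcomm : ∀ a ∈ Z, ∀ b ∈ Z, a * b = b * a := by
    rintro a ⟨a', ha', rfl⟩ b ⟨b', hb', rfl⟩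
    have e := (Subgroup.mem_center_iff.mp ha' b').symm
    have e2 := congrArg N.subtype e
    rw [map_mul, map_mul] at e2
    exact e2
  obtain ⟨hsupZ, hcopZ⟩ := hA P hP Z hZ1 hZ2
  -- the centraliser of `P` in `Z` is trivial
  have hC : Z ⊓ Subgroup.centralizer ((P : Subgroup H) : Set H) = ⊥ := by
    by_contra hC1
    set C : Subgroup H := Z ⊓ Subgroup.centralizer ((P : Subgroup H) : Set H) with hCdef
    have hCZ : C ≤ Z := inf_le_left
    have hCc : C ≤ Subgroup.centralizer ((P : Subgroup H) : Set H) := inf_le_right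
    have hCn : C.Normal := by
      rw [← Subgroup.normalizer_eq_top_iff, eq_top_iff, ← hsupZ, sup_le_iff]
      constructor
      · intro g hg
        apply mem_normalizer_of_commute
        intro m hm
        exact Subgroup.mem_centralizer_iff.mp (hCc hm) g hg
      · intro g hg
        apply mem_normalizer_of_commute
        intro m hm
        exact hZcomm g hg m (hCZ hm)
    haveI := hCn
    have hC2 : C ≠ ⊤ := by
      intro ht
      apply hZ2
      rw [eq_top_iff, ← ht]
      exact hCZ
    obtain ⟨hsupC, _⟩ := hA P hP C hC1 hC2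
    apply hP
    rw [← Subgroup.normalizer_eq_top_iff, eq_top_iff, ← hsupC, sup_le_iff]
    exact ⟨Subgroup.le_normalizer, le_trans hCc (Subgroup.centralizer_le_normalizer _)⟩
  have hmod := hC' P Z hC
  obtain ⟨k, hk⟩ := hZq.exists_card_eq
  have hk0 : k ≠ 0 := by
    rintro rfl
    rw [pow_zero] at hk
    exact hZ1 (Subgroup.eq_bot_of_card_eq Z hk)
  refine ⟨Nat.card Z, ?_, hmod, ?_⟩
  · rw [hk]
    exact hq.isPrimePow.pow hk0
  · have hcard := Subgroup.card_eq_card_quotient_mul_card_subgroup Z
    have h1 : p ∣ Nat.card (H ⧸ Z) := by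
      rw [hcard] at hdvd
      rcases (Nat.Prime.dvd_mul hp).mp hdvd with h | h
      · exact h
      · exact absurd h hcopZ
    have h2 : p ≤ Nat.card (H ⧸ Z) := Nat.le_of_dvd Nat.card_pos h1
    rw [hcard]
    exact Nat.mul_le_mul_right _ h2

end REDM

end Cfsg.Agent.S3875P
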