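import Mathlib
import Cfsg.Agent.Helper21.S4079BIN

/-! Board `s4079pieces`, piece P3 (hedge by helper14): core lemma, with TRV part 1 (`a` fixes `e⁻¹ a(e)` for `e ∈ E`) as an
explicit hypothesis; uses the real BIN. -/

set_option autoImplicit false

namespace Cfsg.Agent.S4079P

variable {L : Type*} [Group L] [Finite L] {p : ℕ} [Fact p.Prime]

theorem P3_h14_core (hp : p ≠ 2) (E M : Subgroup L) (hE : ∀ x, x ∈ E ↔ x ^ p = 1)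
    (hEcomm : ∀ x ∈ E, ∀ y ∈ E, x * y = y * x)
    (hM : ∀ g, g ∈ M ↔ g ^ (p ^ 2) = 1)
    (hpow : ∀ g ∈ M, ∀ h ∈ M, (g * h) ^ p = g ^ p * h ^ p) (hcen : ∀ g ∈ M, ∀ e ∈ E, g * e = e * g)
    (hsurj : ∀ e ∈ E, ∃ g ∈ M, g ^ p = e)
    (a : MulAut L) (ha : orderOf a = p)
    (hTRV : ∀ e ∈ E, a (e⁻¹ * a e) = e⁻¹ * a e)
    (x : L) (hx : x ^ p = 1) (hax : a x ≠ x) :
    p = 3 ∧ ∃ u₁ u₂ : L, u₁ ∈ M ∧ u₁ ^ p ≠ 1 ∧ a (u₁ ^ p) = u₁ ^ p ∧ u₂ ∈ E ∧ a u₁ = u₁ * u₂ ∧ a u₂ ≠ u₂ := by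
  have hpp := (Fact.out : p.Prime)
  have hxE : x ∈ E := (hE x).mpr hx
  -- `a` preserves `E` and `M`
  have haE : ∀ e ∈ E, a e ∈ E := by
    intro e he
    rw [hE] at he ⊢
    rw [← map_pow, he, map_one]
  have haM : ∀ g ∈ M, a g ∈ M := by
    intro g hg
    rw [hM] at hg ⊢
    rw [← map_pow, hg, map_one]
  obtain ⟨u, huM, hup⟩ := hsurj x hxE
  -- u₁
  have hu1M : u⁻¹ * a u ∈ M := M.mul_mem (M.inv_mem huM) (haM u huM)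
  have hu1p : (u⁻¹ * a u) ^ p = x⁻¹ * a x := by
    rw [hpow _ (M.inv_mem huM) _ (haM u huM), inv_pow, hup, ← map_pow, hup]
  have hu1ne : (u⁻¹ * a u) ^ p ≠ 1 := by
    rw [hu1p]
    intro h
    apply hax
    have := congrArg (fun z => x * z) h
    simpa using this
  have hau1p : a ((u⁻¹ * a u) ^ p) = (u⁻¹ * a u) ^ p := by
    rw [hu1p]; exact hTRV x hxE
  -- u₂
  have hu2p : ((u⁻¹ * a u)⁻¹ * a (u⁻¹ * a u)) ^ p = 1 := by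
    rw [hpow _ (M.inv_mem hu1M) _ (haM _ hu1M), inv_pow, ← map_pow, hau1p, inv_mul_cancel]
  have hu2E : (u⁻¹ * a u)⁻¹ * a (u⁻¹ * a u) ∈ E := (hE _).mpr hu2p
  -- u₃
  have hu3E : ((u⁻¹ * a u)⁻¹ * a (u⁻¹ * a u))⁻¹ * a ((u⁻¹ * a u)⁻¹ * a (u⁻¹ * a u)) ∈ E :=
    E.mul_mem (E.inv_mem hu2E) (haE _ hu2E)
  have hu3fix := hTRV _ hu2E
  have hu3p := (hE _).mp hu3E
  -- the chain
  have h0 : a u = u * (u⁻¹ * a u) := by group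
  have h1 : a (u⁻¹ * a u) = (u⁻¹ * a u) * ((u⁻¹ * a u)⁻¹ * a (u⁻¹ * a u)) := by group
  have h2 : a ((u⁻¹ * a u)⁻¹ * a (u⁻¹ * a u)) = ((u⁻¹ * a u)⁻¹ * a (u⁻¹ * a u)) *
      (((u⁻¹ * a u)⁻¹ * a (u⁻¹ * a u))⁻¹ * a ((u⁻¹ * a u)⁻¹ * a (u⁻¹ * a u))) := by group
  have c12 := hcen _ hu1M _ hu2E
  have c13 := hcen _ hu1M _ hu3E
  have c23 := hEcomm _ hu2E _ hu3E
  have hbin := BIN a u _ _ _ h0 h1 h2 hu3fix c12 c13 c23 p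
  have hap : a ^ p = 1 := by rw [← ha]; exact pow_orderOf_eq_one a
  rw [hap, MulAut.one_apply] at hbin
  -- kill u₂
  have hp2 : 2 < p := lt_of_le_of_ne hpp.two_le (Ne.symm hp)
  have hd2 : p ∣ p.choose 2 := hpp.dvd_choose_self (by norm_num) hp2
  have hk2 : ((u⁻¹ * a u)⁻¹ * a (u⁻¹ * a u)) ^ (p.choose 2) = 1 := by
    obtain ⟨c, hc⟩ := hd2
    rw [hc, pow_mul, hu2p, one_pow]
  rw [hk2, mul_one] at hbin
  have hrel : (u⁻¹ * a u) ^ p *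
      (((u⁻¹ * a u)⁻¹ * a (u⁻¹ * a u))⁻¹ * a ((u⁻¹ * a u)⁻¹ * a (u⁻¹ * a u))) ^ (p.choose 3) = 1 := by
    have := congrArg (fun z => u⁻¹ * z) hbin
    simp only [inv_mul_cancel] at this
    rw [mul_assoc, inv_mul_cancel_left] at this
    exact this.symm
  have hp3 : p = 3 := by
    by_contra hne
    have h3 : 3 < p := by
      have : 3 ≤ p := hp2
      exact lt_of_le_of_ne this (Ne.symm hne)
    have hd3 : p ∣ p.choose 3 := hpp.dvd_choose_self (by norm_num) h3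
    obtain ⟨c, hc⟩ := hd3
    rw [hc, pow_mul, hu3p, one_pow, mul_one] at hrel
    exact hu1ne hrel
  refine ⟨hp3, u⁻¹ * a u, (u⁻¹ * a u)⁻¹ * a (u⁻¹ * a u), hu1M, hu1ne, hau1p, hu2E, h1, ?_⟩
  intro hfix
  -- then u₃ = 1, so u₁^p = 1
  have hu3one : ((u⁻¹ * a u)⁻¹ * a (u⁻¹ * a u))⁻¹ * a ((u⁻¹ * a u)⁻¹ * a (u⁻¹ * a u)) = 1 := by
    rw [hfix, inv_mul_cancel]
  rw [hu3one, one_pow, mul_one] at hrel
  exact hu1ne hrel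

end Cfsg.Agent.S4079P
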