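import Mathlib

/-! Board `s4079pieces`, piece SC: if `C_L(a) = ⟨d⟩` has order `p` then `G = L ⋊ ⟨a⟩` has a self-centralizing subgroup of
order `p²` (namely `⟨d⟩ × ⟨a⟩`). Mathlib only. -/

set_option autoImplicit false

namespace Cfsg.Agent.S4079P

variable {L : Type*} [Group L] [Finite L] {p : ℕ} [Fact p.Prime]

omit [Finite L] in
/-- powers of `a` fix the powers of a fixed point `d` -/
theorem SC_aux_fix (a : MulAut L) (d : L) (had : a d = d) (g : ↥(Subgroup.zpowers a)) (n : L)
    (hn : n ∈ Subgroup.zpowers d) : (g : MulAut L) n = n := by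
  obtain ⟨k, hk⟩ := Subgroup.mem_zpowers_iff.mp g.2
  obtain ⟨j, rfl⟩ := Subgroup.mem_zpowers_iff.mp hn
  have h1 : ∀ b : MulAut L, b d = d → b⁻¹ d = d := by
    intro b hb
    have : b⁻¹ (b d) = d := by simp
    rw [hb] at this
    exact this
  have h2 : ∀ i : ℕ, (a ^ i) d = d := by
    intro i
    induction i with
    | zero => simp
    | succ i ih => rw [pow_succ, MulAut.mul_apply, had, ih]
  have h3 : (a ^ k) d = d := by
    obtain ⟨i, rfl | rfl⟩ := Int.eq_nat_or_neg k
    · rw [zpow_natCast]; exact h2 i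
    · rw [zpow_neg, zpow_natCast]; exact h1 _ (h2 i)
  rw [← hk, map_zpow, h3]

/-- the subgroup `⟨d⟩ × ⟨a⟩` of `L ⋊ ⟨a⟩` -/
def SC_aux_A (a : MulAut L) (d : L) (had : a d = d) :
    Subgroup (L ⋊[(Subgroup.zpowers a).subtype] ↥(Subgroup.zpowers a)) where
  carrier := {x | x.left ∈ Subgroup.zpowers d}
  one_mem' := by
    show (1 : L ⋊[(Subgroup.zpowers a).subtype] ↥(Subgroup.zpowers a)).left ∈ Subgroup.zpowers d
    rw [SemidirectProduct.one_left]; exact Subgroup.one_mem _
  mul_mem' := by
    intro x y hx hy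
    show (x * y).left ∈ Subgroup.zpowers d
    rw [SemidirectProduct.mul_left]
    have : ((Subgroup.zpowers a).subtype x.right) y.left = y.left := SC_aux_fix a d had x.right y.left hy
    rw [this]
    exact Subgroup.mul_mem _ hx hy
  inv_mem' := by
    intro x hx
    show (x⁻¹).left ∈ Subgroup.zpowers d
    rw [SemidirectProduct.inv_left]
    have h1 : x.left⁻¹ ∈ Subgroup.zpowers d := Subgroup.inv_mem _ hx
    have : ((Subgroup.zpowers a).subtype x.right⁻¹) x.left⁻¹ = x.left⁻¹ := SC_aux_fix a d had x.right⁻¹ _ h1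
    rw [this]
    exact h1

theorem SC_aux_mem (a : MulAut L) (d : L) (had : a d = d)
    (x : L ⋊[(Subgroup.zpowers a).subtype] ↥(Subgroup.zpowers a)) :
    x ∈ SC_aux_A a d had ↔ x.left ∈ Subgroup.zpowers d := Iff.rfl

/-- SC: if `C_L(a) = ⟨d⟩` has order `p` then `G = L ⋊ ⟨a⟩` has a self-centralizing subgroup of order `p²`. -/
theorem SC (a : MulAut L) (ha : orderOf a = p) (d : L) (hd : d ≠ 1) (hdp : d ^ p = 1) (had : a d = d)
    (hcen : ∀ c : L, a c = c → c ∈ Subgroup.zpowers d) :
    ∃ A : Subgroup (L ⋊[(Subgroup.zpowers a).subtype] ↥(Subgroup.zpowers a)),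
      Nat.card A = p ^ 2 ∧ Subgroup.centralizer (A : Set _) = A := by
  refine ⟨SC_aux_A a d had, ?_, ?_⟩
  · -- cardinality
    have hod : orderOf d = p := orderOf_eq_prime hdp hd
    let e : ↥(SC_aux_A a d had) ≃ ↥(Subgroup.zpowers d) × ↥(Subgroup.zpowers a) :=
      { toFun := fun x => (⟨x.1.left, x.2⟩, x.1.right)
        invFun := fun y => ⟨⟨y.1.1, y.2⟩, y.1.2⟩
        left_inv := fun x => by
          apply Subtype.ext
          apply SemidirectProduct.ext <;> rfl
        right_inv := fun y => by
          rfl }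
    rw [Nat.card_congr e, Nat.card_prod, Nat.card_zpowers, Nat.card_zpowers, hod, ha, sq]
  · apply le_antisymm
    · intro x hx
      rw [Subgroup.mem_centralizer_iff] at hx
      have hamem : a ∈ Subgroup.zpowers a := Subgroup.mem_zpowers a
      let y : L ⋊[(Subgroup.zpowers a).subtype] ↥(Subgroup.zpowers a) := ⟨1, ⟨a, hamem⟩⟩
      have hy : y ∈ SC_aux_A a d had := by
        rw [SC_aux_mem]; exact Subgroup.one_mem _
      have h1 := hx y hy
      have h2 := congrArg SemidirectProduct.left h1
      rw [SemidirectProduct.mul_left, SemidirectProduct.mul_left] at h2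
      have h3 : a x.left = x.left := by
        simpa [y] using h2
      rw [SC_aux_mem]
      exact hcen _ h3
    · intro x hx
      rw [Subgroup.mem_centralizer_iff]
      intro y hy
      rw [SetLike.mem_coe, SC_aux_mem] at hy
      rw [SC_aux_mem] at hx
      apply SemidirectProduct.ext
      · rw [SemidirectProduct.mul_left, SemidirectProduct.mul_left]
        have e1 : ((Subgroup.zpowers a).subtype y.right) x.left = x.left := SC_aux_fix a d had y.right _ hx
        have e2 : ((Subgroup.zpowers a).subtype x.right) y.left = y.left := SC_aux_fix a d had x.right _ hy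
        rw [e1, e2]
        obtain ⟨i, hi⟩ := Subgroup.mem_zpowers_iff.mp hx
        obtain ⟨j, hj⟩ := Subgroup.mem_zpowers_iff.mp hy
        rw [← hi, ← hj, ← zpow_add, ← zpow_add, add_comm]
      · rw [SemidirectProduct.mul_right, SemidirectProduct.mul_right]
        apply Subtype.ext
        obtain ⟨i, hi⟩ := Subgroup.mem_zpowers_iff.mp x.right.2
        obtain ⟨j, hj⟩ := Subgroup.mem_zpowers_iff.mp y.right.2
        show (y.right : MulAut L) * (x.right : MulAut L) = (x.right : MulAut L) * (y.right : MulAut L)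
        rw [← hi, ← hj, ← zpow_add, ← zpow_add, add_comm]

end Cfsg.Agent.S4079P
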