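import Mathlib
import Cfsg.Agent.Helper1.MaxClass
import Cfsg.Agent.Helper14.S4079SC

/-! Board `s4079pieces`, piece ZG: if the subgroup `E` of order `p²` is centralized by `L` and by `a` then the class of
`G = L ⋊ ⟨a⟩` is not `m` (`|L| = p^m`, `m ≥ 4`): `inl(E)` is a central subgroup of index `p^(m-1)`; in a group of maximal
class it would be `γ_{m-1}`, and then `γ_m = 1`. -/

set_option autoImplicit false

namespace Cfsg.Agent.S4079P

variable {L : Type*} [Group L] [Finite L] {p : ℕ} [Fact p.Prime]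

/-- ZG: if the subgroup `E` of order `p²` is centralized by `L` and by `a` then the class of `G` is `< m`. -/
theorem ZG (hL : IsPGroup p L) (E : Subgroup L) (hEc : Nat.card E = p ^ 2)
    (hEL : ∀ e ∈ E, ∀ g : L, g * e = e * g)
    (a : MulAut L) (ha : orderOf a = p) (haE : ∀ e ∈ E, a e = e) (m : ℕ) (hm : Nat.card L = p ^ m) (hm4 : 4 ≤ m) :
    Group.nilpotencyClass (L ⋊[(Subgroup.zpowers a).subtype] ↥(Subgroup.zpowers a)) ≠ m := by
  intro hcl
  have hp := (Fact.out : p.Prime)
  have hcard : Nat.card (L ⋊[(Subgroup.zpowers a).subtype] ↥(Subgroup.zpowers a)) = p ^ (m + 1) := by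
    rw [SemidirectProduct.card, hm, Nat.card_zpowers, ha, pow_succ]
  have hPG : IsPGroup p (L ⋊[(Subgroup.zpowers a).subtype] ↥(Subgroup.zpowers a)) := IsPGroup.of_card hcard
  haveI : Finite (L ⋊[(Subgroup.zpowers a).subtype] ↥(Subgroup.zpowers a)) :=
    Nat.finite_of_card_ne_zero (by rw [hcard]; exact pow_ne_zero _ hp.ne_zero)
  haveI : Group.IsNilpotent (L ⋊[(Subgroup.zpowers a).subtype] ↥(Subgroup.zpowers a)) := hPG.isNilpotent
  have hne : Subgroup.lowerCentralSeries
      (⊤ : Subgroup (L ⋊[(Subgroup.zpowers a).subtype] ↥(Subgroup.zpowers a))) (m + 1 - 2) ≠ ⊥ := by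
    intro h
    rw [Subgroup.lowerCentralSeries_eq_bot_iff_nilpotencyClass_le, hcl] at h
    omega
  -- the central subgroup `inl(E)`
  have hcen : ∀ n ∈ E.map (SemidirectProduct.inl :
        L →* L ⋊[(Subgroup.zpowers a).subtype] ↥(Subgroup.zpowers a)),
      ∀ x : L ⋊[(Subgroup.zpowers a).subtype] ↥(Subgroup.zpowers a), x * n = n * x := by
    rintro n ⟨e, he, rfl⟩ x
    apply SemidirectProduct.ext
    · rw [SemidirectProduct.mul_left, SemidirectProduct.mul_left, SemidirectProduct.left_inl,
        SemidirectProduct.right_inl, map_one, MulAut.one_apply]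
      have h1 : ((Subgroup.zpowers a).subtype x.right) e = e :=
        SC_aux_fix a e (haE e he) x.right e (Subgroup.mem_zpowers e)
      rw [h1]
      exact hEL e he x.left
    · rw [SemidirectProduct.mul_right, SemidirectProduct.mul_right, SemidirectProduct.right_inl, mul_one, one_mul]
  haveI hNn : (E.map (SemidirectProduct.inl :
        L →* L ⋊[(Subgroup.zpowers a).subtype] ↥(Subgroup.zpowers a))).Normal := by
    refine ⟨fun n hn g => ?_⟩
    have : g * n * g⁻¹ = n := by rw [hcen n hn g, mul_assoc, mul_inv_cancel, mul_one]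
    rw [this]; exact hn
  have hNcard : Nat.card ↥(E.map (SemidirectProduct.inl :
        L →* L ⋊[(Subgroup.zpowers a).subtype] ↥(Subgroup.zpowers a))) = p ^ 2 := by
    rw [Subgroup.card_map_of_injective SemidirectProduct.inl_injective, hEc]
  have hNidx : (E.map (SemidirectProduct.inl :
        L →* L ⋊[(Subgroup.zpowers a).subtype] ↥(Subgroup.zpowers a))).index = p ^ (m - 1) := by
    have h1 := (E.map (SemidirectProduct.inl :
        L →* L ⋊[(Subgroup.zpowers a).subtype] ↥(Subgroup.zpowers a))).card_mul_index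
    rw [hNcard, hcard] at h1
    have h2 : p ^ (m + 1) = p ^ 2 * p ^ (m - 1) := by rw [← pow_add]; congr 1; omega
    rw [h2] at h1
    exact Nat.eq_of_mul_eq_mul_left (pow_pos hp.pos 2) h1
  have h1 := Cfsg.Agent.Helper1.LCS.eq_lcs_of_maxClass hcard hne (by omega)
    (E.map (SemidirectProduct.inl : L →* L ⋊[(Subgroup.zpowers a).subtype] ↥(Subgroup.zpowers a)))
    (r := m - 1) (by omega) hNidx
  apply hne
  have e : m + 1 - 2 = (m - 1 - 1) + 1 := by omega
  rw [e, Subgroup.lowerCentralSeries_succ, ← h1, Subgroup.commutator_eq_bot_iff_le_centralizer]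
  intro n hn
  rw [Subgroup.mem_centralizer_iff]
  intro x _
  exact hcen n hn x

end Cfsg.Agent.S4079P
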