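import Mathlib

/-!
# S4130, row PDICH of the board `s4130pieces` (helper14)

The dichotomy: two automorphisms `α, β` of a finite abelian group `V` whose fixed-point subgroups have
prime index `r` and whose product has a fixed-point subgroup of index `1` or `r` have the same fixed
points or the same commutator set. Statement verbatim from `departures/helper7_S4130_post_stubs.lean.txt`.
-/

set_option autoImplicit false
set_option linter.style.haveILetI false

namespace Cfsg.Agent.S4130P

open Subgroup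

/-- two different subgroups of the same prime order meet trivially -/
theorem PDICH_aux_inf_bot {V : Type*} [Group V] [Finite V] (L M : Subgroup V) (r : ℕ) (hr : r.Prime)
    (hL : Nat.card L = r) (hM : Nat.card M = r) (hne : L ≠ M) : L ⊓ M = ⊥ := by
  have h1 : Nat.card ↥(L ⊓ M) ∣ r := hL ▸ Subgroup.card_dvd_of_le inf_le_left
  rcases (Nat.dvd_prime hr).mp h1 with h | h
  · exact Subgroup.card_eq_one.mp h
  · exfalso
    have h2 : L ⊓ M = L := Subgroup.eq_of_le_of_card_ge inf_le_left (by rw [h, hL])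
    have h3 : L ⊓ M = M := Subgroup.eq_of_le_of_card_ge inf_le_right (by rw [h, hM])
    exact hne (h2.symm.trans h3)

/-- a subgroup of index `1` or `r` contained in a subgroup of prime index `r` is equal to it -/
theorem PDICH_aux_eq {V : Type*} [Group V] [Finite V] (r : ℕ) (hr : r.Prime) (C D : Subgroup V)
    (hCD : C ≤ D) (iD : D.index = r) (iC : C.index = 1 ∨ C.index = r) : C = D := by
  have hdvd : D.index ∣ C.index := Subgroup.index_dvd_of_le hCD
  have hC : C.index = r := by
    rcases iC with h | h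
    · exfalso
      rw [h, iD] at hdvd
      exact hr.one_lt.ne' (Nat.dvd_one.mp hdvd)
    · exact h
  have h1 : C.relIndex D * D.index = C.index := Subgroup.relIndex_mul_index hCD
  rw [hC, iD] at h1
  have h2 : C.relIndex D = 1 := by
    have hr0 : 0 < r := hr.pos
    exact Nat.eq_of_mul_eq_mul_right hr0 (by rw [h1, one_mul])
  exact le_antisymm hCD (Subgroup.relIndex_eq_one.mp h2)

/-- (PDICH) the dichotomy. `α β` automorphisms of the finite abelian group `V` whose fixed-point
subgroups have index `r`, the fixed-point subgroup of `α ∘ β` has index `1` or `r`: then `α, β` have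
the same fixed points or the same commutator set `{α v * v⁻¹}`. -/
theorem PDICH {V : Type*} [Group V] [Finite V] (hV : ∀ a b : V, a * b = b * a) (α β : MulAut V)
    (r : ℕ) (hr : r.Prime) (Cα Cβ Cαβ : Subgroup V)
    (hα : ∀ v : V, v ∈ Cα ↔ α v = v) (hβ : ∀ v : V, v ∈ Cβ ↔ β v = v)
    (hαβ : ∀ v : V, v ∈ Cαβ ↔ α (β v) = v)
    (iα : Cα.index = r) (iβ : Cβ.index = r) (iαβ : Cαβ.index = 1 ∨ Cαβ.index = r) :
    Cα = Cβ ∨ ∀ w : V, (∃ v : V, w = α v * v⁻¹) ↔ (∃ v : V, w = β v * v⁻¹) := by
  classical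
  by_contra hcon
  rw [not_or] at hcon
  obtain ⟨hC, hL⟩ := hcon
  -- the commutator homomorphisms
  have hmul : ∀ (γ : MulAut V) (x y : V), γ (x * y) * (x * y)⁻¹ = γ x * x⁻¹ * (γ y * y⁻¹) := by
    intro γ x y
    rw [map_mul, mul_inv_rev, mul_assoc, ← mul_assoc (γ y), hV (γ y * y⁻¹) x⁻¹, ← mul_assoc, ← mul_assoc]
  let c : MulAut V → (V →* V) := fun γ =>
    { toFun := fun v => γ v * v⁻¹
      map_one' := by simp
      map_mul' := hmul γ }
  have hc : ∀ γ v, c γ v = γ v * v⁻¹ := fun _ _ => rfl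
  have hker : ∀ (γ : MulAut V) (C : Subgroup V), (∀ v : V, v ∈ C ↔ γ v = v) → (c γ).ker = C := by
    intro γ C hC
    ext v
    rw [MonoidHom.mem_ker, hc, mul_inv_eq_one, hC]
  have hcard : ∀ (γ : MulAut V) (C : Subgroup V), (∀ v : V, v ∈ C ↔ γ v = v) → C.index = r →
      Nat.card (c γ).range = r := by
    intro γ C hC hi
    rw [← Subgroup.index_ker, hker γ C hC, hi]
  have hne : (c α).range ≠ (c β).range := by
    intro he
    apply hL
    intro w
    have h1 : w ∈ (c α).range ↔ w ∈ (c β).range := by rw [he]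
    rw [MonoidHom.mem_range, MonoidHom.mem_range] at h1
    constructor
    · rintro ⟨v, hv⟩
      obtain ⟨v', hv'⟩ := h1.mp ⟨v, hv.symm⟩
      exact ⟨v', hv'.symm⟩
    · rintro ⟨v, hv⟩
      obtain ⟨v', hv'⟩ := h1.mpr ⟨v, hv.symm⟩
      exact ⟨v', hv'.symm⟩
  have hbot := PDICH_aux_inf_bot (c α).range (c β).range r hr (hcard α Cα hα iα) (hcard β Cβ hβ iβ) hne
  -- the fixed points of `α β` are fixed by `β` and by `α`
  have hfix : ∀ v ∈ Cαβ, β v = v ∧ α v = v := by
    intro v hv
    have h1 : α (β v) = v := (hαβ v).mp hv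
    set w := β v * v⁻¹ with hw
    have hβv : β v = w * v := by rw [hw, inv_mul_cancel_right]
    have h2 : w * (c α w * c α v) = 1 := by
      have h3 : α (w * v) * (w * v)⁻¹ = c α w * c α v := hmul α w v
      rw [← h3, ← hβv, h1, hw]
      group
    have hwα : w ∈ (c α).range := by
      have : w = (c α w * c α v)⁻¹ := eq_inv_of_mul_eq_one_left h2
      rw [this]
      exact inv_mem (mul_mem ⟨w, rfl⟩ ⟨v, rfl⟩)
    have hwβ : w ∈ (c β).range := ⟨v, rfl⟩
    have hw1 : w = 1 := by
      have : w ∈ (c α).range ⊓ (c β).range := ⟨hwα, hwβ⟩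
      rw [hbot] at this
      exact Subgroup.mem_bot.mp this
    have hb : β v = v := by rw [hβv, hw1, one_mul]
    exact ⟨hb, by rw [hb] at h1; exact h1⟩
  have h1 : Cαβ = Cα := PDICH_aux_eq r hr Cαβ Cα (fun v hv => (hα v).mpr (hfix v hv).2) iα iαβ
  have h2 : Cαβ = Cβ := PDICH_aux_eq r hr Cαβ Cβ (fun v hv => (hβ v).mpr (hfix v hv).1) iβ iαβ
  exact hC (h1.symm.trans h2)

end Cfsg.Agent.S4130P
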