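import Mathlib
import Cfsg.Agent.Helper27.S4150Defs
import Cfsg.Agent.Helper11.PermSylow

/-! S4150 piece SYLN (driver helper27): `q ∣ |N_G(⟨y⟩)| ∣ q(q-1)` in prime degree `q`. -/

set_option autoImplicit false

namespace Cfsg.Agent.S4150P

open Equiv Equiv.Perm MulAction

section
variable {α : Type*} [Fintype α] [DecidableEq α]

/-- SYLN [M]: `q ∣ |N_G(⟨y⟩)| ∣ q(q-1)` (`Cfsg.Agent.S0989.result`: the normaliser of a Sylow
`q`-subgroup of `Perm α`, `|α| = q`, has order `q(q-1)`; `zpowers y` is such a Sylow). -/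
theorem SYLN.main {q : ℕ} (hq : q.Prime) (hα : Fintype.card α = q) (G : Subgroup (Perm α))
    {y : Perm α} (hyG : y ∈ G) (hyo : orderOf y = q) :
    q ∣ Nat.card (normIn G y) ∧ Nat.card (normIn G y) ∣ q * (q - 1) := by
  have : Fact q.Prime := ⟨hq⟩
  have hcz : Nat.card (Subgroup.zpowers y) = q := by rw [Nat.card_zpowers, hyo]
  have hzle : Subgroup.zpowers y ≤ normIn G y := by
    unfold normIn
    exact le_inf ((Subgroup.zpowers_le).2 hyG) Subgroup.le_normalizer
  refine ⟨?_, ?_⟩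
  · rw [← hcz]
    exact Subgroup.card_dvd_of_le hzle
  · -- `zpowers y` is a Sylow `q`-subgroup of `Perm α`
    have hpg : IsPGroup q (Subgroup.zpowers y) := IsPGroup.of_card (n := 1) (by rw [hcz, pow_one])
    obtain ⟨P, hP⟩ := hpg.exists_le_sylow
    obtain ⟨hPc, hNc⟩ := Cfsg.Agent.Helper11.card_normalizer_sylow_perm q (Or.inl hα) P
    have heq : Subgroup.zpowers y = (P : Subgroup (Perm α)) :=
      Subgroup.eq_of_le_of_card_ge hP (by rw [hPc, hcz])
    rw [← hNc, ← heq]
    apply Subgroup.card_dvd_of_le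
    unfold normIn
    exact inf_le_right

end

end Cfsg.Agent.S4150P
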