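import Mathlib
import Cfsg.Agent.Helper5.S4330Defs
import Cfsg.Agent.Helper6.S4330PROJ
import Cfsg.Agent.Helper6.S4330P4
import Cfsg.Agent.Helper19.S4330MAXFIX

set_option autoImplicit false
set_option linter.unusedSectionVars false
set_option linter.unusedVariables false
open Pointwise
open scoped commutatorElement

namespace Cfsg.Agent.Helper5.S4330

universe u

section module
variable {V : Type*} [CommGroup V] [Finite V]

/-- Board `s4330pieces`, piece L2: `N_𝓛(K)` is irreducible on `Fix K` (apply `proj K` to the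
`𝓛`-translates of an invariant subgroup of `Fix K`). -/
theorem irr_resFix {𝓛 E : Subgroup (MulAut V)} (hirr : Irr 𝓛) (hN : NormBy 𝓛 E) (hE : Comm E)
    (hcop : (Nat.card E).Coprime (Nat.card V)) {K : Subgroup (MulAut V)} (hK : K ∈ MaxFix E) :
    Irr (resFix 𝓛 K).range := by
  classical
  have hKE : K ≤ E := hK.1
  have hcopK : (Nat.card K).Coprime (Nat.card V) :=
    Nat.Coprime.coprime_dvd_left (Subgroup.card_dvd_of_le hKE) hcop
  refine ⟨?_, ?_⟩
  · -- Fix K is nontrivial
    have hne : Fix (K : Set (MulAut V)) ≠ ⊥ := hK.2.1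
    exact (Subgroup.nontrivial_iff_ne_bot _).mpr hne
  · intro U hU
    by_cases hUbot : U = ⊥
    · exact Or.inl hUbot
    right
    -- the image of U in V
    set U' : Subgroup V := U.map (Fix (K : Set (MulAut V))).subtype with hU'
    have hU'le : U' ≤ Fix (K : Set (MulAut V)) := Subgroup.map_subtype_le U
    have hU'ne : U' ≠ ⊥ := by
      intro h
      apply hUbot
      rw [hU'] at h
      exact (Subgroup.map_eq_bot_iff_of_injective U (Subgroup.subtype_injective _)).mp h
    -- invariance of U' under NL
    have hU'inv : ∀ l ∈ NL 𝓛 K, ∀ u ∈ U', l u ∈ U' := by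
      intro l hl u hu
      obtain ⟨w, hw, rfl⟩ := hu
      have h1 := hU (resFix 𝓛 K ⟨l, hl⟩) ⟨⟨l, hl⟩, rfl⟩ w hw
      exact ⟨_, h1, rfl⟩
    -- the subgroup generated by the translates
    set T : Subgroup V := Subgroup.closure {v | ∃ l ∈ 𝓛, ∃ u ∈ U', v = l u} with hT
    have hTinv : Inv 𝓛 T := by
      intro l hl w hw
      induction hw using Subgroup.closure_induction with
      | mem x hx =>
        obtain ⟨l', hl', u, hu, rfl⟩ := hx
        apply Subgroup.subset_closure
        exact ⟨l * l', 𝓛.mul_mem hl hl', u, hu, rfl⟩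
      | one => rw [map_one]; exact T.one_mem
      | mul x y _ _ hx hy => rw [map_mul]; exact T.mul_mem hx hy
      | inv x _ hx => rw [map_inv]; exact T.inv_mem hx
    have hU'T : U' ≤ T := by
      intro u hu
      apply Subgroup.subset_closure
      exact ⟨1, 𝓛.one_mem, u, hu, rfl⟩
    have hTtop : T = ⊤ := by
      rcases hirr.2 T hTinv with h | h
      · exfalso
        apply hU'ne
        rw [eq_bot_iff, ← h]; exact hU'T
      · exact h
    -- proj K maps T into U'
    have hproj : T ≤ U'.comap (proj K) := by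
      rw [hT, Subgroup.closure_le]
      rintro v ⟨l, hl, u, hu, rfl⟩
      show proj K (l u) ∈ U'
      have huK : u ∈ Fix (K : Set (MulAut V)) := hU'le hu
      have hlinv : l⁻¹ ∈ 𝓛 := 𝓛.inv_mem hl
      have hK'' : cj l⁻¹ K ∈ MaxFix E := cj_mem_MaxFix hN hlinv hK
      have e1 : proj K (l u) = l (proj (cj l⁻¹ K) u) := by
        rw [proj_cj, cj_cj_inv]
      by_cases hKK : cj l⁻¹ K = K
      · have hlNL : l ∈ NL 𝓛 K := by
          refine ⟨hl, ?_⟩
          have := cj_cj_inv l K
          rw [hKK] at this; exact this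
        rw [e1, hKK, proj_of_mem_Fix hcopK huK]
        exact hU'inv l hlNL u hu
      · rw [e1, proj_eq_one hE hK'' hK hKK huK, map_one]
        exact U'.one_mem
    rw [eq_top_iff]
    intro w _
    have hwT : (w : V) ∈ T := by rw [hTtop]; trivial
    have h1 : proj K (w : V) ∈ U' := hproj hwT
    rw [proj_of_mem_Fix hcopK w.2] at h1
    obtain ⟨w', hw', hww⟩ := h1
    have : w' = w := Subtype.ext hww
    rw [← this]; exact hw'

end module

end Cfsg.Agent.Helper5.S4330
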