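import Mathlib
import Cfsg.Agent.Helper26.S4395Defs
import Cfsg.Agent.Helper20.S4394GSb
import Cfsg.Agent.Helper10.S4395M1abs

set_option autoImplicit false
set_option linter.unusedSectionVars false
set_option linter.unusedVariables false
set_option linter.style.haveILetI false

namespace Cfsg.Agent.S4395P

open Cfsg Cfsg.Agent.S4394P

/-- Board `s4395pieces`, piece M1 (bridge): apply `M1abs` to `P / C_P(y)` with the automorphism
induced by conjugation by `y`; produces `lam` and the exponent `j`. -/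
theorem M1 (p q : ℕ) [Fact p.Prime] [Fact q.Prime] (hpq : p ≠ q)
    {F : Type*} [Field F] [Finite F] [CharP F p] (hF : Nat.card F = p ^ orderOf (p : ZMod q))
    (ζ : F) (hζ : orderOf ζ = q)
    {X : Type*} [Group X] [Finite X] (P : Subgroup X) (y : X) (hPn : P.Normal)
    (hs : SchData p P y) (hyq : ∀ u ∈ P, y ^ q * u = u * y ^ q) :
    ∃ (j : ℕ) (lam : X → F), ¬ q ∣ j ∧ (∀ u ∈ P, ∀ v ∈ P, lam (u * v) = lam u + lam v) ∧
      (∀ f : F, ∃ u ∈ P, lam u = f) ∧ (∀ u ∈ P, lam u = 0 ↔ u ∈ Subgroup.centralizer {y}) ∧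
      (∀ u ∈ P, lam (y * u * y⁻¹) = ζ ^ j * lam u) := by
  classical
  obtain ⟨hb1, hb2, hb3, hb4⟩ := GSb hs
  haveI := hPn
  set C : Subgroup X := P ⊓ Subgroup.centralizer {y} with hC
  set N : Subgroup ↥P := C.subgroupOf P with hN
  have hmemN : ∀ u : ↥P, u ∈ N ↔ (u : X) ∈ C := fun u => Subgroup.mem_subgroupOf
  -- N is normal in P
  haveI hNn : N.Normal := by
    constructor
    intro n hn g
    have hnC : (n : X) ∈ C := (hmemN n).mp hn
    have hcomm : (n : X) * (g : X) = (g : X) * (n : X) := hb3 n hnC g g.2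
    have : g * n * g⁻¹ = n := by
      apply Subtype.ext
      simp only [Subgroup.coe_mul, Subgroup.coe_inv]
      rw [← hcomm]; group
    rw [this]; exact hn
  -- commutative group structure on the quotient
  letI instCG : CommGroup (↥P ⧸ N) :=
    { (inferInstance : Group (↥P ⧸ N)) with
      mul_comm := by
        intro a b
        induction a using QuotientGroup.induction_on with | _ a => ?_
        induction b using QuotientGroup.induction_on with | _ b => ?_
        rw [← QuotientGroup.mk_mul, ← QuotientGroup.mk_mul, QuotientGroup.eq]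
        rw [hmemN]
        have h1 := hb1 ((b⁻¹ : ↥P) : X) (b⁻¹ : ↥P).2 ((a⁻¹ : ↥P) : X) (a⁻¹ : ↥P).2
        have e : (((a * b)⁻¹ * (b * a) : ↥P) : X)
            = ((b⁻¹ : ↥P) : X) * ((a⁻¹ : ↥P) : X) * ((b⁻¹ : ↥P) : X)⁻¹ * ((a⁻¹ : ↥P) : X)⁻¹ := by
          simp only [Subgroup.coe_mul, Subgroup.coe_inv]
          group
        rw [e]; exact h1 }
  -- the additive group V and the quotient map φ
  let V := Additive (↥P ⧸ N)
  let φ : ↥P → V := fun u => Additive.ofMul (QuotientGroup.mk u : ↥P ⧸ N)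
  have hφmul : ∀ u v : ↥P, φ (u * v) = φ u + φ v := by
    intro u v
    show Additive.ofMul (QuotientGroup.mk (u * v) : ↥P ⧸ N) = _
    rw [QuotientGroup.mk_mul, ofMul_mul]
  have hφone : φ 1 = 0 := by
    show Additive.ofMul (QuotientGroup.mk (1 : ↥P) : ↥P ⧸ N) = _
    rw [QuotientGroup.mk_one, ofMul_one]
  have hφinv : ∀ u : ↥P, φ u⁻¹ = - φ u := by
    intro u
    show Additive.ofMul (QuotientGroup.mk (u⁻¹) : ↥P ⧸ N) = _
    rw [QuotientGroup.mk_inv, ofMul_inv]
  have hφsurj : Function.Surjective φ := by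
    intro v
    obtain ⟨u, hu⟩ := QuotientGroup.mk_surjective (s := N) (Additive.toMul v)
    exact ⟨u, by show Additive.ofMul (QuotientGroup.mk u : ↥P ⧸ N) = v; rw [hu]; rfl⟩
  have hφzero : ∀ u : ↥P, φ u = 0 ↔ (u : X) ∈ C := by
    intro u
    rw [← hmemN]
    show Additive.ofMul (QuotientGroup.mk u : ↥P ⧸ N) = 0 ↔ _
    rw [← ofMul_one, Additive.ofMul.injective.eq_iff, QuotientGroup.eq_one_iff]
  -- conjugation by y on P
  let e : ↥P ≃* ↥P := MulAut.conjNormal y
  have hecoe : ∀ u : ↥P, ((e u : ↥P) : X) = y * (u : X) * y⁻¹ := fun u => MulAut.conjNormal_apply y u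
  have hefix : ∀ n : ↥P, n ∈ N → e n = n := by
    intro n hn
    apply Subtype.ext
    rw [hecoe]
    have hnC : (n : X) ∈ C := (hmemN n).mp hn
    have h2 : y * (n : X) = (n : X) * y :=
      (GSb_aux_mem_cent y (n : X)).mp (Subgroup.mem_inf.mp hnC).2
    rw [h2]; group
  have hemap : N.map (e : ↥P →* ↥P) = N := by
    ext x
    constructor
    · rintro ⟨n, hn, rfl⟩
      have : (e : ↥P →* ↥P) n = n := hefix n hn
      rw [this]; exact hn
    · intro hx
      exact ⟨x, hx, hefix x hx⟩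
  let E : (↥P ⧸ N) ≃* (↥P ⧸ N) := QuotientGroup.congr N N e hemap
  have hEmk : ∀ u : ↥P, E (QuotientGroup.mk u) = QuotientGroup.mk (e u) := by
    intro u
    exact QuotientGroup.congr_mk N N e hemap u
  let α : V ≃+ V := MulEquiv.toAdditive E
  have hαφ : ∀ u : ↥P, α (φ u) = φ (e u) := by
    intro u
    show Additive.ofMul (E (QuotientGroup.mk u)) = Additive.ofMul (QuotientGroup.mk (e u) : ↥P ⧸ N)
    rw [hEmk]
  -- exponent p
  have hVp : ∀ v : V, p • v = 0 := by
    intro v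
    obtain ⟨u, rfl⟩ := hφsurj v
    have h1 : p • φ u = φ (u ^ p) := by
      show p • Additive.ofMul (QuotientGroup.mk u : ↥P ⧸ N) = Additive.ofMul (QuotientGroup.mk (u ^ p) : ↥P ⧸ N)
      rw [QuotientGroup.mk_pow, ofMul_pow]
    rw [h1, hφzero]
    have := hb2 (u : X) u.2
    simpa using this
  -- iterates of α
  have hiter : ∀ (k : ℕ) (u : ↥P), (⇑α)^[k] (φ u) = φ ((e ^ k) u) := by
    intro k
    induction k with
    | zero => intro u; simp
    | succ k ih =>
      intro u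
      rw [Function.iterate_succ_apply', ih, hαφ, pow_succ']
      rfl
  have hepow : ∀ (k : ℕ) (u : ↥P), (((e ^ k) u : ↥P) : X) = y ^ k * (u : X) * (y ^ k)⁻¹ := by
    intro k u
    have : e ^ k = MulAut.conjNormal (y ^ k) := by
      show (MulAut.conjNormal y) ^ k = _
      rw [map_pow]
    rw [this]
    exact MulAut.conjNormal_apply (y ^ k) u
  have hαq : ∀ v : V, (⇑α)^[q] v = v := by
    intro v
    obtain ⟨u, rfl⟩ := hφsurj v
    rw [hiter]
    congr 1
    apply Subtype.ext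
    rw [hepow, hyq (u : X) u.2]
    group
  -- α is not the identity
  have hα1 : ∃ v : V, α v ≠ v := by
    by_contra hcon
    push Not at hcon
    have hgen : ∀ w ∈ P, y * w * y⁻¹ * w⁻¹ ∈ C := by
      intro w hw
      have h1 : φ (e ⟨w, hw⟩ * (⟨w, hw⟩ : ↥P)⁻¹) = 0 := by
        rw [hφmul, hφinv, ← hαφ, hcon]
        exact add_neg_cancel _
      have h2 := (hφzero _).mp h1
      simpa [hecoe] using h2
    have hle : Subgroup.closure {g : X | ∃ w ∈ P, y * w * y⁻¹ * w⁻¹ = g} ≤ C := by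
      rw [Subgroup.closure_le]
      rintro _ ⟨w, hw, rfl⟩
      exact hgen w hw
    rw [GSb_aux_closure hs] at hle
    exact GSb_aux_C_ne hs (le_antisymm inf_le_left hle)
  -- irreducibility
  have hirr : ∀ W : AddSubgroup V, (∀ w ∈ W, α w ∈ W) → W = ⊥ ∨ W = ⊤ := by
    intro W hW
    let M : Subgroup X :=
      { carrier := {x | ∃ h : x ∈ P, φ ⟨x, h⟩ ∈ W}
        mul_mem' := by
          rintro a b ⟨ha, haW⟩ ⟨hb, hbW⟩
          refine ⟨P.mul_mem ha hb, ?_⟩
          have : (⟨a * b, P.mul_mem ha hb⟩ : ↥P) = ⟨a, ha⟩ * ⟨b, hb⟩ := rfl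
          rw [this, hφmul]
          exact W.add_mem haW hbW
        one_mem' := by
          refine ⟨P.one_mem, ?_⟩
          have : (⟨1, P.one_mem⟩ : ↥P) = 1 := rfl
          rw [this, hφone]
          exact W.zero_mem
        inv_mem' := by
          rintro a ⟨ha, haW⟩
          refine ⟨P.inv_mem ha, ?_⟩
          have : (⟨a⁻¹, P.inv_mem ha⟩ : ↥P) = (⟨a, ha⟩ : ↥P)⁻¹ := rfl
          rw [this, hφinv]
          exact W.neg_mem haW }
    have hMP : M ≤ P := fun x hx => hx.1
    have hMy : ∀ m ∈ M, y * m * y⁻¹ ∈ M := by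
      rintro m ⟨hm, hmW⟩
      refine ⟨hs.nrm m hm, ?_⟩
      have : (⟨y * m * y⁻¹, hs.nrm m hm⟩ : ↥P) = e ⟨m, hm⟩ := by
        apply Subtype.ext
        rw [hecoe]
      rw [this, ← hαφ]
      exact hW _ hmW
    rcases GSb_aux_irr hs M hMP hMy with hM | hM
    · right
      rw [eq_top_iff]
      intro v _
      obtain ⟨u, rfl⟩ := hφsurj v
      have : (u : X) ∈ M := by rw [hM]; exact u.2
      obtain ⟨h, hW'⟩ := this
      exact hW'
    · left
      rw [eq_bot_iff]
      intro v hv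
      obtain ⟨u, rfl⟩ := hφsurj v
      have : (u : X) ∈ M := ⟨u.2, hv⟩
      rw [AddSubgroup.mem_bot, hφzero]
      exact hM this
  obtain ⟨j, ι, hj, hι⟩ := M1abs p q hpq hF ζ hζ hVp α hαq hα1 hirr
  refine ⟨j, fun x => if h : x ∈ P then ι (φ ⟨x, h⟩) else 0, hj, ?_, ?_, ?_, ?_⟩
  · intro u hu v hv
    simp only [dif_pos hu, dif_pos hv, dif_pos (P.mul_mem hu hv)]
    have : (⟨u * v, P.mul_mem hu hv⟩ : ↥P) = ⟨u, hu⟩ * ⟨v, hv⟩ := rfl
    rw [this, hφmul, map_add]
  · intro f
    obtain ⟨u, hu⟩ := hφsurj (ι.symm f)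
    refine ⟨(u : X), u.2, ?_⟩
    simp only [dif_pos u.2]
    rw [hu, AddEquiv.apply_symm_apply]
  · intro u hu
    simp only [dif_pos hu]
    rw [EmbeddingLike.map_eq_zero_iff, hφzero]
    show u ∈ C ↔ _
    rw [hC, Subgroup.mem_inf]
    exact ⟨fun h => h.2, fun h => ⟨hu, h⟩⟩
  · intro u hu
    simp only [dif_pos hu, dif_pos (hs.nrm u hu)]
    have : (⟨y * u * y⁻¹, hs.nrm u hu⟩ : ↥P) = e ⟨u, hu⟩ := by
      apply Subtype.ext
      rw [hecoe]
    rw [this, ← hαφ, hι]

end Cfsg.Agent.S4395P
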