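import Mathlib
import Cfsg.Agent.Helper5.S4607Defs

set_option autoImplicit false

/-! S4607 piece CORNER (helper14): the relative version of RT for a central idempotent `ε` of a
symmetric algebra: apply RT to the quotient algebra `B ⧸ {a | ε a = 0}`. -/

namespace Cfsg.Agent.S4607P

open Cfsg

section Ring

universe u v

variable {k : Type u} {B : Type v} [Field k] [Ring B] [Algebra k B]

namespace CORNER

/-- the two-sided ideal `{a | ε a = 0}` of a central `ε` -/
def annIdeal (ε : B) (hεc : ∀ b : B, b * ε = ε * b) : Ideal B where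
  carrier := {a | ε * a = 0}
  add_mem' := by
    intro a b ha hb
    show ε * (a + b) = 0
    rw [mul_add, show ε * a = 0 from ha, show ε * b = 0 from hb, add_zero]
  zero_mem' := mul_zero ε
  smul_mem' := by
    intro c a ha
    show ε * (c * a) = 0
    rw [← mul_assoc, ← hεc, mul_assoc, show ε * a = 0 from ha, mul_zero]

lemma mem_annIdeal {ε : B} {hεc : ∀ b : B, b * ε = ε * b} {a : B} :
    a ∈ annIdeal ε hεc ↔ ε * a = 0 := Iff.rfl

instance annIdeal_twoSided (ε : B) (hεc : ∀ b : B, b * ε = ε * b) :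
    (annIdeal ε hεc).IsTwoSided where
  mul_mem_of_left := by
    intro a b ha
    show ε * (a * b) = 0
    rw [← mul_assoc, show ε * a = 0 from ha, zero_mul]

end CORNER

open CORNER in
/-- CORNER: the relative version for a central idempotent `ε` of a symmetric algebra `Λ`
(apply `RT` to the algebra `Λ ⧸ (1 - ε)`) -/
theorem finrank_range_eq_two_mul_sq_of
    (RT : ∀ (B' : Type v) [Ring B'] [Algebra k B'] [FiniteDimensional k B'] (lam' : B' →ₗ[k] k),
      IsSymForm lam' → Module.finrank k (Subalgebra.center k B') = 2 →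
      ∀ z' : B', z' ∈ Subalgebra.center k B' → z' ≠ 0 → IsNilpotent z' →
      ∃ n : ℕ, Module.finrank k B' = 2 * n ^ 2)
    [FiniteDimensional k B] (lam : B →ₗ[k] k) (h : IsSymForm lam)
    (ε : B) (hε : ε * ε = ε) (hεc : ε ∈ Subalgebra.center k B)
    (hZ : Module.finrank k
      ((Subalgebra.toSubmodule (Subalgebra.center k B)).map (LinearMap.mulLeft k ε)) = 2)
    (z : B) (hz : z ∈ Subalgebra.center k B) (hz0 : ε * z ≠ 0) (hznil : IsNilpotent (ε * z)) :
    ∃ n : ℕ, Module.finrank k (LinearMap.range (LinearMap.mulLeft k ε)) = 2 * n ^ 2 := by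
  have hcomm : ∀ b : B, b * ε = ε * b := fun b => (Subalgebra.mem_center_iff.mp hεc b)
  have hzcomm : ∀ b : B, b * z = z * b := fun b => (Subalgebra.mem_center_iff.mp hz b)
  let I : Ideal B := annIdeal ε hcomm
  let π : B →ₐ[k] B ⧸ I := Ideal.Quotient.mkₐ k I
  have hπ : Function.Surjective π := Ideal.Quotient.mkₐ_surjective k I
  have hπ0 : ∀ a : B, π a = 0 ↔ ε * a = 0 := by
    intro a
    show Ideal.Quotient.mk I a = 0 ↔ _
    rw [Ideal.Quotient.eq_zero_iff_mem]
    exact Iff.rfl
  have hπeq : ∀ a b : B, π a = π b ↔ ε * a = ε * b := by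
    intro a b
    rw [← sub_eq_zero, ← map_sub, hπ0, mul_sub, sub_eq_zero]
  have : FiniteDimensional k (B ⧸ I) := Module.Finite.of_surjective π.toLinearMap hπ
  -- the section `π a ↦ ε a`
  let sec : B ⧸ I → B := fun x => ε * Function.surjInv hπ x
  have hsec : ∀ a : B, sec (π a) = ε * a := by
    intro a
    show ε * Function.surjInv hπ (π a) = ε * a
    exact (hπeq _ _).mp (Function.surjInv_eq hπ (π a))
  let ψ : (B ⧸ I) →ₗ[k] B :=
    { toFun := sec
      map_add' := by
        intro x y
        obtain ⟨a, rfl⟩ := hπ x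
        obtain ⟨b, rfl⟩ := hπ y
        rw [← map_add, hsec, hsec, hsec, mul_add]
      map_smul' := by
        intro c x
        obtain ⟨a, rfl⟩ := hπ x
        rw [← map_smul, hsec, hsec, RingHom.id_apply, mul_smul_comm] }
  have hψ : ∀ a : B, ψ (π a) = ε * a := hsec
  have hψinj : Function.Injective ψ := by
    intro x y hxy
    obtain ⟨a, rfl⟩ := hπ x
    obtain ⟨b, rfl⟩ := hπ y
    rw [hψ, hψ] at hxy
    exact (hπeq a b).mpr hxy
  -- the symmetrizing form
  let lam' : (B ⧸ I) →ₗ[k] k := lam ∘ₗ ψ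
  have hlam' : ∀ a : B, lam' (π a) = lam (ε * a) := by
    intro a
    show lam (ψ (π a)) = _
    rw [hψ]
  have hsym : IsSymForm lam' := by
    constructor
    · intro x y
      obtain ⟨a, rfl⟩ := hπ x
      obtain ⟨b, rfl⟩ := hπ y
      rw [← map_mul, ← map_mul, hlam', hlam', ← mul_assoc, h.comm, ← mul_assoc, hcomm, mul_assoc]
    · intro x hx
      obtain ⟨a, rfl⟩ := hπ x
      rw [hπ0]
      apply h.nondeg
      intro b
      have := hx (π b)
      rwa [← map_mul, hlam', ← mul_assoc] at this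
  -- the centre
  have hcen_of : ∀ c : B, c ∈ Subalgebra.center k B → π c ∈ Subalgebra.center k (B ⧸ I) := by
    intro c hc
    rw [Subalgebra.mem_center_iff]
    intro y
    obtain ⟨b, rfl⟩ := hπ y
    rw [← map_mul, ← map_mul, Subalgebra.mem_center_iff.mp hc b]
  have hcenmap : (Subalgebra.toSubmodule (Subalgebra.center k (B ⧸ I))).map ψ =
      (Subalgebra.toSubmodule (Subalgebra.center k B)).map (LinearMap.mulLeft k ε) := by
    apply le_antisymm
    · rintro _ ⟨x, hx, rfl⟩
      obtain ⟨a, rfl⟩ := hπ x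
      have hx' : π a ∈ Subalgebra.center k (B ⧸ I) := hx
      rw [hψ]
      refine ⟨ε * a, ?_, ?_⟩
      · show ε * a ∈ Subalgebra.center k B
        rw [Subalgebra.mem_center_iff]
        intro b
        have h1 : π (b * a) = π (a * b) := by
          rw [map_mul, map_mul]
          exact Subalgebra.mem_center_iff.mp hx' (π b)
        have h2 := (hπeq _ _).mp h1
        rw [← mul_assoc, hcomm, mul_assoc, h2, mul_assoc]
      · show ε * (ε * a) = ε * a
        rw [← mul_assoc, hε]
    · rintro _ ⟨c, hc, rfl⟩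
      exact ⟨π c, hcen_of c hc, hψ c⟩
  have hZ' : Module.finrank k (Subalgebra.center k (B ⧸ I)) = 2 := by
    have e := Submodule.equivMapOfInjective ψ hψinj
      (Subalgebra.toSubmodule (Subalgebra.center k (B ⧸ I)))
    have h1 := e.finrank_eq
    rw [hcenmap, hZ] at h1
    exact h1
  -- the nilpotent element
  have hz' : π z ∈ Subalgebra.center k (B ⧸ I) := hcen_of z hz
  have hz0' : π z ≠ 0 := by
    rw [Ne, hπ0]
    exact hz0
  have hznil' : IsNilpotent (π z) := by
    obtain ⟨N, hN⟩ := hznil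
    refine ⟨N + 1, ?_⟩
    rw [← map_pow, hπ0]
    have hc : Commute ε z := hzcomm ε
    have h1 : (ε * z) ^ (N + 1) = ε * z ^ (N + 1) := by
      rw [hc.mul_pow, (show IsIdempotentElem ε from hε).pow_succ_eq]
    rw [← h1, pow_succ, hN, zero_mul]
  obtain ⟨n, hn⟩ := RT (B ⧸ I) lam' hsym hZ' (π z) hz' hz0' hznil'
  refine ⟨n, ?_⟩
  have hrange : LinearMap.range (LinearMap.mulLeft k ε) = LinearMap.range ψ := by
    ext b
    constructor
    · rintro ⟨a, rfl⟩
      exact ⟨π a, hψ a⟩
    · rintro ⟨x, rfl⟩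
      obtain ⟨a, rfl⟩ := hπ x
      exact ⟨a, (hψ a).symm⟩
  rw [← hn, hrange, LinearMap.finrank_range_of_inj hψinj]

end Ring

end Cfsg.Agent.S4607P
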