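import Mathlib
import Cfsg.Agent.Helper5.S4607Defs

set_option autoImplicit false

/-! S4607 piece TRACE (helper14): `B / [B,B] ≅ A / [A,A]` for the corner `A = e 0 B e 0` of a unit
system (dimension form). -/

namespace Cfsg.Agent.S4607P

open Cfsg

section Ring

universe u v

variable {k : Type u} {B : Type v} [Field k] [Ring B] [Algebra k B]

namespace TRACE

variable {n : ℕ} {e u v : Fin (n + 1) → B}

lemma idem (h : IsUnitSystem e u v) (i : Fin (n + 1)) : e i * e i = e i := by
  have := h.orth i i
  rwa [if_pos rfl] at this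

lemma e_mul_u (h : IsUnitSystem e u v) (i : Fin (n + 1)) : e i * u i = u i := by
  calc e i * u i = e i * (e i * u i * e 0) := by rw [h.u_mem]
    _ = e i * e i * u i * e 0 := by simp only [mul_assoc]
    _ = u i := by rw [idem h, h.u_mem]

lemma u_mul_e (h : IsUnitSystem e u v) (i : Fin (n + 1)) : u i * e 0 = u i := by
  calc u i * e 0 = e i * u i * e 0 * e 0 := by rw [h.u_mem]
    _ = e i * u i * (e 0 * e 0) := by simp only [mul_assoc]
    _ = u i := by rw [idem h, h.u_mem]

lemma e_mul_v (h : IsUnitSystem e u v) (i : Fin (n + 1)) : e 0 * v i = v i := by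
  calc e 0 * v i = e 0 * (e 0 * v i * e i) := by rw [h.v_mem]
    _ = e 0 * e 0 * v i * e i := by simp only [mul_assoc]
    _ = v i := by rw [idem h, h.v_mem]

lemma v_mul_e (h : IsUnitSystem e u v) (i : Fin (n + 1)) : v i * e i = v i := by
  calc v i * e i = e 0 * v i * e i * e i := by rw [h.v_mem]
    _ = e 0 * v i * (e i * e i) := by simp only [mul_assoc]
    _ = v i := by rw [idem h, h.v_mem]

lemma sum_uv (h : IsUnitSystem e u v) : ∑ j, u j * v j = 1 := by
  rw [← h.complete]
  exact Finset.sum_congr rfl fun j _ => h.uv j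

/-- `v i b u j` lies in the corner -/
lemma corner_vbu (h : IsUnitSystem e u v) (i j : Fin (n + 1)) (b : B) :
    e 0 * (v i * b * u j) * e 0 = v i * b * u j := by
  calc e 0 * (v i * b * u j) * e 0 = (e 0 * v i) * b * (u j * e 0) := by simp only [mul_assoc]
    _ = v i * b * u j := by rw [e_mul_v h, u_mul_e h]

variable (k) in
/-- the "trace" `b ↦ ∑ i, v i b u i` -/
def tr (u v : Fin (n + 1) → B) : B →ₗ[k] B :=
  ∑ i, (LinearMap.mulLeft k (v i)) ∘ₗ (LinearMap.mulRight k (u i))

lemma tr_apply (b : B) : tr k u v b = ∑ i, v i * b * u i := by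
  simp only [tr, LinearMap.sum_apply, LinearMap.comp_apply, LinearMap.mulLeft_apply,
    LinearMap.mulRight_apply, mul_assoc]

lemma tr_mem_corner (h : IsUnitSystem e u v) (b : B) : tr k u v b ∈ corner k (e 0) := by
  rw [tr_apply]
  refine Submodule.sum_mem _ fun i _ => ?_
  exact corner_vbu h i i b

lemma expand (h : IsUnitSystem e u v) (b c : B) (i : Fin (n + 1)) :
    v i * (b * c) * u i = ∑ j, (v i * b * u j) * (v j * c * u i) := by
  calc v i * (b * c) * u i = v i * b * (∑ j, u j * v j) * (c * u i) := by
        rw [sum_uv h, mul_one]; simp only [mul_assoc]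
    _ = ∑ j, (v i * b * u j) * (v j * c * u i) := by
        rw [Finset.mul_sum, Finset.sum_mul]
        refine Finset.sum_congr rfl fun j _ => ?_
        simp only [mul_assoc]

/-- the trace maps commutators into the commutator space of the corner -/
lemma tr_comm_mem (h : IsUnitSystem e u v) (b c : B) :
    tr k u v (b * c - c * b) ∈ cornerComm k (e 0) := by
  rw [map_sub, tr_apply, tr_apply]
  have h1 : ∑ i, v i * (b * c) * u i = ∑ i, ∑ j, (v i * b * u j) * (v j * c * u i) :=
    Finset.sum_congr rfl fun i _ => expand h b c i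
  have h2 : ∑ i, v i * (c * b) * u i = ∑ i, ∑ j, (v j * c * u i) * (v i * b * u j) := by
    rw [Finset.sum_comm]
    exact Finset.sum_congr rfl fun i _ => expand h c b i
  rw [h1, h2, ← Finset.sum_sub_distrib]
  refine Submodule.sum_mem _ fun i _ => ?_
  rw [← Finset.sum_sub_distrib]
  refine Submodule.sum_mem _ fun j _ => ?_
  exact Submodule.subset_span ⟨_, _, corner_vbu h i j b, corner_vbu h j i c, rfl⟩

lemma tr_commSpace_le (h : IsUnitSystem e u v) :
    commSpace k B ≤ (cornerComm k (e 0)).comap (tr k u v) := by
  apply Submodule.span_le.mpr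
  rintro x ⟨a, b, rfl⟩
  exact tr_comm_mem h a b

/-- on the corner the trace is the identity modulo commutators of the corner -/
lemma tr_sub_self_mem (h : IsUnitSystem e u v) (a : B) (ha : e 0 * a * e 0 = a) :
    tr k u v a - a ∈ cornerComm k (e 0) := by
  have hterm : ∀ i : Fin (n + 1), i ≠ 0 → v i * a * u i = 0 := by
    intro i hi
    have : v i * a = 0 := by
      calc v i * a = (v i * e i) * (e 0 * a * e 0) := by rw [v_mul_e h, ha]
        _ = v i * (e i * e 0) * a * e 0 := by simp only [mul_assoc]
        _ = 0 := by rw [h.orth, if_neg hi]; simp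
    rw [this, zero_mul]
  have htr : tr k u v a = v 0 * a * u 0 := by
    rw [tr_apply]
    exact Finset.sum_eq_single 0 (fun i _ hi => hterm i hi) (fun h0 => absurd (Finset.mem_univ _) h0)
  have hae : a * e 0 = a := by
    calc a * e 0 = e 0 * a * e 0 * e 0 := by rw [ha]
      _ = e 0 * a * (e 0 * e 0) := by simp only [mul_assoc]
      _ = a := by rw [idem h, ha]
  have hea : e 0 * a = a := by
    calc e 0 * a = e 0 * (e 0 * a * e 0) := by rw [ha]
      _ = e 0 * e 0 * a * e 0 := by simp only [mul_assoc]
      _ = a := by rw [idem h, ha]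
  have hv0 : e 0 * v 0 * e 0 = v 0 := h.v_mem 0
  have hau : e 0 * (a * u 0) * e 0 = a * u 0 := by
    calc e 0 * (a * u 0) * e 0 = (e 0 * a) * (u 0 * e 0) := by simp only [mul_assoc]
      _ = a * u 0 := by rw [hea, u_mul_e h]
  have heq : tr k u v a - a = v 0 * (a * u 0) - (a * u 0) * v 0 := by
    rw [htr]
    have : a * u 0 * v 0 = a := by rw [mul_assoc, h.uv, hae]
    rw [this, mul_assoc]
  rw [heq]
  exact Submodule.subset_span ⟨_, _, hv0, hau, rfl⟩

/-- every element is its trace modulo commutators -/
lemma sub_tr_mem (h : IsUnitSystem e u v) (b : B) : b - tr k u v b ∈ commSpace k B := by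
  classical
  have hb : b = ∑ i, ∑ j, e i * b * e j := by
    calc b = (∑ i, e i) * b * (∑ j, e j) := by rw [h.complete, one_mul, mul_one]
      _ = ∑ i, ∑ j, e i * b * e j := by
        rw [Finset.sum_mul, Finset.sum_mul]
        refine Finset.sum_congr rfl fun i _ => ?_
        rw [Finset.mul_sum]
  have htr : tr k u v b = ∑ i, ∑ j, (if i = j then v i * b * u i else 0) := by
    rw [tr_apply]
    refine Finset.sum_congr rfl fun i _ => ?_
    rw [Finset.sum_ite_eq]
    simp
  have key : ∀ i j, e i * b * e j - (if i = j then v i * b * u i else 0) ∈ commSpace k B := by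
    intro i j
    by_cases hij : i = j
    · subst hij
      rw [if_pos rfl]
      have h1 : u i * (v i * b * u i * v i) = e i * b * e i := by
        calc u i * (v i * b * u i * v i) = (u i * v i) * b * (u i * v i) := by
              simp only [mul_assoc]
          _ = e i * b * e i := by rw [h.uv]
      have h2 : (v i * b * u i * v i) * u i = v i * b * u i := by
        calc (v i * b * u i * v i) * u i = v i * b * (u i * (v i * u i)) := by
              simp only [mul_assoc]
          _ = v i * b * u i := by rw [h.vu, u_mul_e h]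
      have h3 : e i * b * e i - v i * b * u i =
          u i * (v i * b * u i * v i) - (v i * b * u i * v i) * u i := by rw [h1, h2]
      rw [h3]
      exact Submodule.subset_span ⟨_, _, rfl⟩
    · rw [if_neg hij, sub_zero]
      have h1 : e i * (e i * b * e j) = e i * b * e j := by
        calc e i * (e i * b * e j) = (e i * e i) * b * e j := by simp only [mul_assoc]
          _ = e i * b * e j := by rw [idem h]
      have h2 : (e i * b * e j) * e i = 0 := by
        calc (e i * b * e j) * e i = e i * b * (e j * e i) := by simp only [mul_assoc]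
          _ = 0 := by rw [h.orth, if_neg (Ne.symm hij), mul_zero]
      have : e i * b * e j = e i * (e i * b * e j) - (e i * b * e j) * e i := by
        rw [h1, h2, sub_zero]
      rw [this]
      exact Submodule.subset_span ⟨_, _, rfl⟩
  have : b - tr k u v b = (∑ i, ∑ j, e i * b * e j) -
      ∑ i, ∑ j, (if i = j then v i * b * u i else 0) := by
    rw [htr, ← hb]
  rw [this, ← Finset.sum_sub_distrib]
  refine Submodule.sum_mem _ fun i _ => ?_
  rw [← Finset.sum_sub_distrib]
  exact Submodule.sum_mem _ fun j _ => key i j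

lemma cornerComm_le_corner (e₀ : B) (he : e₀ * e₀ = e₀) : cornerComm k e₀ ≤ corner k e₀ := by
  apply Submodule.span_le.mpr
  rintro x ⟨a, b, ha, hb, rfl⟩
  show e₀ * (a * b - b * a) * e₀ = a * b - b * a
  have hea : e₀ * a = a := by
    calc e₀ * a = e₀ * (e₀ * a * e₀) := by rw [ha]
      _ = e₀ * e₀ * a * e₀ := by simp only [mul_assoc]
      _ = a := by rw [he, ha]
  have hae : a * e₀ = a := by
    calc a * e₀ = e₀ * a * e₀ * e₀ := by rw [ha]
      _ = e₀ * a * (e₀ * e₀) := by simp only [mul_assoc]
      _ = a := by rw [he, ha]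
  have heb : e₀ * b = b := by
    calc e₀ * b = e₀ * (e₀ * b * e₀) := by rw [hb]
      _ = e₀ * e₀ * b * e₀ := by simp only [mul_assoc]
      _ = b := by rw [he, hb]
  have hbe : b * e₀ = b := by
    calc b * e₀ = e₀ * b * e₀ * e₀ := by rw [hb]
      _ = e₀ * b * (e₀ * e₀) := by simp only [mul_assoc]
      _ = b := by rw [he, hb]
  rw [mul_sub, sub_mul]
  congr 1
  · calc e₀ * (a * b) * e₀ = (e₀ * a) * (b * e₀) := by simp only [mul_assoc]
      _ = a * b := by rw [hea, hbe]
  · calc e₀ * (b * a) * e₀ = (e₀ * b) * (a * e₀) := by simp only [mul_assoc]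
      _ = b * a := by rw [heb, hae]

lemma cornerComm_le_commSpace (e₀ : B) : cornerComm k e₀ ≤ commSpace k B := by
  apply Submodule.span_le.mpr
  rintro x ⟨a, b, -, -, rfl⟩
  exact Submodule.subset_span ⟨a, b, rfl⟩

end TRACE

open TRACE in
variable (k) in
/-- TRACE: `B / [B,B] ≅ A / [A,A]` for the corner `A = e 0 B e 0` (dimension form) -/
theorem finrank_corner_add_commSpace [FiniteDimensional k B] {n : ℕ} (e u v : Fin (n + 1) → B)
    (h : IsUnitSystem e u v) :
    Module.finrank k (corner k (e 0)) + Module.finrank k (commSpace k B) =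
      Module.finrank k B + Module.finrank k (cornerComm k (e 0)) := by
  have hsup : corner k (e 0) ⊔ commSpace k B = ⊤ := by
    rw [eq_top_iff]
    intro b _
    have : b = tr k u v b + (b - tr k u v b) := by abel
    rw [this]
    exact Submodule.add_mem_sup (tr_mem_corner h b) (sub_tr_mem h b)
  have hinf : corner k (e 0) ⊓ commSpace k B = cornerComm k (e 0) := by
    apply le_antisymm
    · rintro a ⟨haA, haC⟩
      have h1 : tr k u v a ∈ cornerComm k (e 0) := tr_commSpace_le h haC
      have h2 : tr k u v a - a ∈ cornerComm k (e 0) := tr_sub_self_mem h a haA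
      have : a = tr k u v a - (tr k u v a - a) := by abel
      rw [this]
      exact Submodule.sub_mem _ h1 h2
    · exact le_inf (cornerComm_le_corner (e 0) (idem h 0)) (cornerComm_le_commSpace (e 0))
  have := Submodule.finrank_sup_add_finrank_inf_eq (corner k (e 0)) (commSpace k B)
  rw [hsup, hinf, finrank_top] at this
  exact this.symm

end Ring

end Cfsg.Agent.S4607P
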