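import Mathlib

set_option autoImplicit false
set_option linter.unusedVariables false

/-!
# S4707 piece SIM: a primitive group of degree `2p` with a self-centralizing Sylow `p`-subgroup of
order `p` whose normalizer has order `2p` is simple.
-/

namespace Cfsg.Agent.Helper14.S4707

open MulAction

universe u v

/-- A nontrivial normal subgroup of a faithful primitive group is transitive. -/
theorem isPretransitive_of_normal_ne_bot' {G : Type u} [Group G] {Ω : Type v}
    [MulAction G Ω] [FaithfulSMul G Ω] (hprim : IsPreprimitive G Ω) (N : Subgroup G) [N.Normal]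
    (hN : N ≠ ⊥) : IsPretransitive N Ω := by
  have := hprim
  apply IsQuasiPreprimitive.isPretransitive_of_normal (G := G) (X := Ω)
  intro hfix
  apply hN
  rw [Subgroup.eq_bot_iff_forall]
  intro n hn
  apply FaithfulSMul.eq_of_smul_eq_smul (α := Ω)
  intro x
  have hx : x ∈ fixedPoints N Ω := by rw [hfix]; trivial
  rw [one_smul]
  exact hx ⟨n, hn⟩

/-- The order of a transitive subgroup is divisible by the degree. -/
theorem card_dvd_of_isPretransitive' {G : Type u} [Group G] {Ω : Type v} [MulAction G Ω]
    (N : Subgroup G) [Nonempty Ω] (hN : IsPretransitive N Ω) : Nat.card Ω ∣ Nat.card N := by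
  obtain ⟨x⟩ := ‹Nonempty Ω›
  rw [← index_stabilizer_of_transitive N x]
  exact Subgroup.index_dvd_card _

/-- A Sylow subgroup of prime order lies in every normal subgroup of order divisible by `p`. -/
theorem sylow_le_of_normal_of_dvd {G : Type u} [Group G] [Finite G] (p : ℕ) [Fact p.Prime]
    (P : Sylow p G) (hP : Nat.card P = p) (K : Subgroup G) [hKnormal : K.Normal]
    (hKdvd : p ∣ Nat.card K) : (P : Subgroup G) ≤ K := by
  have hp : p.Prime := Fact.out
  obtain ⟨k, hk⟩ := exists_prime_orderOf_dvd_card' (G := K) p hKdvd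
  have hk' : orderOf (k : G) = p := by rw [Subgroup.orderOf_coe]; exact hk
  have hpg : IsPGroup p (Subgroup.zpowers (k : G)) := by
    apply IsPGroup.of_card (n := 1)
    rw [Nat.card_zpowers, hk', pow_one]
  obtain ⟨Q, hQ⟩ := hpg.exists_le_sylow
  obtain ⟨g, hg⟩ := MulAction.exists_smul_eq G Q P
  have hkQ : (k : G) ∈ (Q : Subgroup G) := hQ (Subgroup.mem_zpowers _)
  have hkP : g * (k : G) * g⁻¹ ∈ (P : Subgroup G) := by
    rw [← hg, Sylow.smul_def, Sylow.pointwise_smul_def]
    have := Subgroup.smul_mem_pointwise_smul (k : G) (MulAut.conj g) (Q : Subgroup G) hkQ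
    simpa [MulAut.smul_def] using this
  have hkK : g * (k : G) * g⁻¹ ∈ K := hKnormal.conj_mem _ k.2 g
  have hkne : g * (k : G) * g⁻¹ ≠ 1 := by
    intro h
    have h1 : (k : G) = 1 := by
      have := congrArg (fun z => g⁻¹ * z * g) h
      simpa [mul_assoc] using this
    rw [h1, orderOf_one] at hk'
    exact hp.one_lt.ne hk'
  intro x hx
  have hmem : (⟨x, hx⟩ : (P : Subgroup G)) ∈ Subgroup.zpowers
      (⟨g * (k : G) * g⁻¹, hkP⟩ : (P : Subgroup G)) :=
    mem_zpowers_of_prime_card (p := p) hP (fun h => hkne (congrArg Subtype.val h))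
  obtain ⟨n, hn⟩ := Subgroup.mem_zpowers_iff.mp hmem
  have hn' : (g * (k : G) * g⁻¹) ^ n = x := by
    have := congrArg Subtype.val hn
    simpa using this
  rw [← hn']
  exact K.zpow_mem hkK n

/-- Burnside: if a Sylow `p`-subgroup `P` of order `p` of a normal subgroup `M` of `G` is
self-normalizing in `M`, then `M` has a normal `p`-complement which is normal in `G`. -/
theorem exists_normal_complement {G : Type u} [Group G] [Finite G] (p : ℕ) [Fact p.Prime]
    (M : Subgroup G) [hM : M.Normal] (P : Sylow p M) (hP : Nat.card P = p)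
    (hNP : Subgroup.normalizer ((P : Subgroup M) : Set M) ≤ (P : Subgroup M)) :
    ∃ L : Subgroup G, L.Normal ∧ L ≤ M ∧ ¬ p ∣ Nat.card L ∧ Nat.card L * p = Nat.card M := by
  have hp : p.Prime := Fact.out
  have hcomm : (P : Subgroup M) ≤ Subgroup.centralizer ((P : Subgroup M) : Set M) := by
    have : Fact (Nat.card (P : Subgroup M)).Prime := ⟨by rw [hP]; exact hp⟩
    have : IsCyclic (P : Subgroup M) := isCyclic_of_prime_card (p := p) hP
    intro x hx
    rw [Subgroup.mem_centralizer_iff]
    intro y hy
    have := IsCyclic.commGroup.mul_comm (⟨y, hy⟩ : (P : Subgroup M)) ⟨x, hx⟩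
    exact congrArg Subtype.val this
  have hNC : Subgroup.normalizer ((P : Subgroup M) : Set M) ≤
      Subgroup.centralizer ((P : Subgroup M) : Set M) := hNP.trans hcomm
  set φ := MonoidHom.transferSylow P hNC with hφ
  have hcompl := MonoidHom.ker_transferSylow_isComplement' P hNC
  have hnd := MonoidHom.not_dvd_card_ker_transferSylow P hNC
  have hcard : Nat.card φ.ker * p = Nat.card M := by
    have := hcompl.card_mul_card
    rw [hP] at this
    exact this
  -- membership in the kernel: `p ∤ orderOf`
  have hmem : ∀ y : M, y ∈ φ.ker ↔ ¬ p ∣ orderOf y := by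
    intro y
    constructor
    · intro hy hdvd
      apply hnd
      have h1 : orderOf (⟨y, hy⟩ : φ.ker) = orderOf y := Subgroup.orderOf_mk y hy
      rw [← h1] at hdvd
      exact hdvd.trans (orderOf_dvd_natCard _)
    · intro hy
      rw [MonoidHom.mem_ker]
      have h1 : orderOf (φ y) ∣ orderOf y := orderOf_map_dvd φ y
      have h2 : orderOf (φ y) ∣ p := by
        have := orderOf_dvd_natCard (φ y)
        rwa [hP] at this
      rcases (Nat.dvd_prime hp).mp h2 with h3 | h3
      · exact orderOf_eq_one_iff.mp h3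
      · exact absurd (h3 ▸ h1) hy
  refine ⟨φ.ker.map M.subtype, ?_, ?_, ?_, ?_⟩
  · constructor
    intro x hx g
    obtain ⟨y, hy, rfl⟩ := Subgroup.mem_map.mp hx
    have hyM : g * (y : G) * g⁻¹ ∈ M := hM.conj_mem _ y.2 g
    refine Subgroup.mem_map.mpr ⟨⟨g * (y : G) * g⁻¹, hyM⟩, ?_, rfl⟩
    rw [hmem] at hy ⊢
    have h1 : orderOf (⟨g * (y : G) * g⁻¹, hyM⟩ : M) = orderOf y := by
      rw [← Subgroup.orderOf_coe, ← Subgroup.orderOf_coe y]
      show orderOf (g * (y : G) * g⁻¹) = _
      exact MulEquiv.orderOf_eq (MulAut.conj g) (y : G)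
    rw [h1]
    exact hy
  · exact Subgroup.map_subtype_le _
  · rw [Subgroup.card_map_of_injective M.subtype_injective]
    exact hnd
  · rw [Subgroup.card_map_of_injective M.subtype_injective]
    exact hcard

/-- **S4707 piece SIM**. -/
theorem isSimpleGroup_of_normalizer {G : Type u} [Group G] [Finite G] {Ω : Type v} [Finite Ω]
    [MulAction G Ω] [FaithfulSMul G Ω] (hprim : IsPreprimitive G Ω) (p : ℕ) [Fact p.Prime]
    (hp2 : p ≠ 2) (hΩ : Nat.card Ω = 2 * p) (P : Sylow p G) (hP : Nat.card P = p)
    (hC : Subgroup.centralizer ((P : Subgroup G) : Set G) = (P : Subgroup G))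
    (hN : Nat.card (Subgroup.normalizer ((P : Subgroup G) : Set G)) = 2 * p) :
    IsSimpleGroup G := by
  classical
  have hp : p.Prime := Fact.out
  have hppos : 0 < p := hp.pos
  have hΩne : Nonempty Ω := by
    apply (Nat.card_pos_iff.mp _).1
    rw [hΩ]; omega
  have hPne : (P : Subgroup G) ≠ ⊥ := by
    intro h
    have h1 : Nat.card (P : Subgroup G) = 1 := by rw [h]; exact Subgroup.card_bot
    have h2 : Nat.card (P : Subgroup G) = p := hP
    rw [h2] at h1
    exact hp.one_lt.ne' h1
  have hnt : Nontrivial G := by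
    by_contra h
    rw [not_nontrivial_iff_subsingleton] at h
    exact hPne (Subsingleton.elim _ _)
  refine ⟨fun M hM => ?_⟩
  by_cases hMbot : M = ⊥
  · exact Or.inl hMbot
  right
  by_contra hMtop
  have hMtrans : IsPretransitive M Ω := isPretransitive_of_normal_ne_bot' hprim M hMbot
  have hMdvd2 : 2 * p ∣ Nat.card M := by
    have := card_dvd_of_isPretransitive' M hMtrans
    rwa [hΩ] at this
  have hMdvd : p ∣ Nat.card M := (Dvd.intro_left 2 rfl).trans hMdvd2
  have hPM : (P : Subgroup G) ≤ M := sylow_le_of_normal_of_dvd p P hP M hMdvd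
  -- Frattini
  have hfrat : Subgroup.normalizer ((P : Subgroup G) : Set G) ⊔ M = ⊤ :=
    Sylow.normalizer_sup_eq_top' P hPM
  set NP := Subgroup.normalizer ((P : Subgroup G) : Set G) with hNPdef
  have hPNP : (P : Subgroup G) ≤ NP := Subgroup.le_normalizer
  -- `A = N_G(P) ⊓ M = P`
  have hA : NP ⊓ M = (P : Subgroup G) := by
    have hPA : (P : Subgroup G) ≤ NP ⊓ M := le_inf hPNP hPM
    have hAne : NP ⊓ M ≠ NP := by
      intro h
      have h1 : NP ≤ M := by rw [← h]; exact inf_le_right
      apply hMtop
      rw [← hfrat]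
      exact (sup_eq_right.mpr h1).symm
    have hAdvd : Nat.card (NP ⊓ M : Subgroup G) ∣ 2 * p := by
      rw [← hN]
      exact Subgroup.card_dvd_of_le inf_le_left
    have hpA : p ∣ Nat.card (NP ⊓ M : Subgroup G) := by
      have := Subgroup.card_dvd_of_le hPA
      have h2 : Nat.card (P : Subgroup G) = p := hP
      rwa [h2] at this
    have hAcard : Nat.card (NP ⊓ M : Subgroup G) = p := by
      obtain ⟨k, hk⟩ := hpA
      rw [hk] at hAdvd
      have hk2 : k ∣ 2 := by
        rw [mul_comm 2 p] at hAdvd
        exact Nat.dvd_of_mul_dvd_mul_left hppos hAdvd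
      have hk12 : k = 1 ∨ k = 2 := by
        have := Nat.le_of_dvd (by norm_num) hk2
        interval_cases k
        · simp at hk2
        · left; rfl
        · right; rfl
      rcases hk12 with rfl | rfl
      · rw [hk, mul_one]
      · exfalso
        apply hAne
        apply Subgroup.eq_of_le_of_card_ge inf_le_left
        rw [hN, hk, mul_comm]
    symm
    apply Subgroup.eq_of_le_of_card_ge hPA
    rw [hAcard]
    exact hP.ge
  -- Burnside in `M`
  set P' : Sylow p M := P.subtype hPM with hP'
  have hP'coe : (P' : Subgroup M) = (P : Subgroup G).subgroupOf M := Sylow.coe_subtype P hPM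
  have hP'card : Nat.card P' = p := by
    have : Nat.card (P' : Subgroup M) = p := by
      rw [hP'coe, Nat.card_congr (Subgroup.subgroupOfEquivOfLe hPM).toEquiv]
      exact hP
    exact this
  have hNP' : Subgroup.normalizer ((P' : Subgroup M) : Set M) ≤ (P' : Subgroup M) := by
    rw [hP'coe, ← Subgroup.subgroupOf_normalizer_eq hPM]
    intro x hx
    rw [Subgroup.mem_subgroupOf] at hx ⊢
    rw [← hA]
    exact ⟨hx, x.2⟩
  obtain ⟨L, hLnormal, hLM, hLnd, hLcard⟩ := exists_normal_complement p M P' hP'card hNP'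
  have hLbot : L = ⊥ := by
    by_contra hLne
    have hLtrans : IsPretransitive L Ω := isPretransitive_of_normal_ne_bot' hprim L hLne
    have := card_dvd_of_isPretransitive' L hLtrans
    rw [hΩ] at this
    exact hLnd ((Dvd.intro_left 2 rfl).trans this)
  rw [hLbot, Subgroup.card_bot, one_mul] at hLcard
  rw [← hLcard] at hMdvd2
  have := Nat.le_of_dvd hppos hMdvd2
  omega

end Cfsg.Agent.Helper14.S4707
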