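import Mathlib
import Cfsg.Prelude.Def_Characters

/-!
# S4751, piece CENTc (generic form): the centraliser of `P` is `P × Z(G)`
-/

set_option autoImplicit false

namespace Cfsg.Agent.S4751P

open scoped ComplexConjugate

universe u

variable {G : Type u} [Group G] [Finite G]

namespace CENTc

/-- no central element has order divisible by `p` -/
theorem not_dvd_orderOf_of_mem_center (p : ℕ) (χ : G → ℂ)
    (hZCH : ∀ g : G, g ∈ Subgroup.center G ↔ χ g * conj (χ g) = χ 1 * χ 1) (hnl : χ 1 ≠ 1) (P : Subgroup G)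
    (habs : ∀ g : G, p ∣ orderOf g → χ g * conj (χ g) = 1)
    (h1 : χ 1 = (Nat.card P : ℂ) - 1) (z : G) (hz : z ∈ Subgroup.center G) : ¬ p ∣ orderOf z := by
  intro hd
  have e1 := habs z hd
  have e2 := (hZCH z).mp hz
  rw [e1] at e2
  -- `(q - 1) ^ 2 = 1`
  have hq : ((Nat.card P : ℂ) - 2) * (Nat.card P : ℂ) = 0 := by
    rw [h1] at e2
    linear_combination -e2
  rcases mul_eq_zero.mp hq with h | h
  · apply hnl
    rw [h1]
    linear_combination h
  · have h0 : Nat.card P = 0 := by exact_mod_cast h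
    have := Nat.card_pos (α := P)
    omega

/-- CENTc, with the facts ZCH, CENTa, CENTb as hypotheses -/
theorem centralizer_structure_of (p : ℕ) [Fact p.Prime] (χ : G → ℂ) (hnl : χ 1 ≠ 1)
    (P : Subgroup G) (hPp : IsPGroup p P)
    (habs : ∀ g : G, p ∣ orderOf g → χ g * conj (χ g) = 1)
    (hab : ∀ a ∈ P, ∀ b ∈ P, a * b = b * a) (h1 : χ 1 = (Nat.card P : ℂ) - 1)
    (hZCH : ∀ g : G, g ∈ Subgroup.center G ↔ χ g * conj (χ g) = χ 1 * χ 1)
    (hCa : ∀ c : G, (∀ y ∈ P, c * y = y * c) → ∀ k : ℕ, c ^ (p ^ k) = 1 → c ∈ P)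
    (hCb : ∀ c : G, (∀ y ∈ P, c * y = y * c) → ¬ p ∣ orderOf c → c ∈ Subgroup.center G) :
    Subgroup.centralizer (P : Set G) = P ⊔ Subgroup.center G ∧ P ⊓ Subgroup.center G = ⊥ ∧
      ¬ p ∣ Nat.card (Subgroup.center G) := by
  have hp : p.Prime := Fact.out
  have hA := not_dvd_orderOf_of_mem_center p χ hZCH hnl P habs h1
  refine ⟨?_, ?_, ?_⟩
  · apply le_antisymm
    · intro c hcm
      have hc : ∀ y ∈ P, c * y = y * c := by
        intro y hy
        exact ((Subgroup.mem_centralizer_iff.mp hcm) y hy).symm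
      have hn0 : orderOf c ≠ 0 := (orderOf_pos c).ne'
      obtain ⟨a, m, hpm, hn⟩ := Nat.exists_eq_pow_mul_and_not_dvd hn0 p hp.ne_one
      have hcop : Nat.Coprime (p ^ a) m := (Nat.Prime.coprime_iff_not_dvd hp).mpr hpm |>.pow_left a
      have hco : IsCoprime ((p ^ a : ℕ) : ℤ) (m : ℤ) := Nat.isCoprime_iff_coprime.mpr hcop
      obtain ⟨u, v, huv⟩ := hco
      -- the two parts of `c`
      have hcz : ∀ (t : ℤ) (y : G), y ∈ P → c ^ t * y = y * c ^ t := by
        intro t y hy
        have : Commute c y := hc y hy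
        exact (this.zpow_left t).eq
      have hc1 : c ^ (v * (m : ℤ)) ∈ P := by
        apply hCa _ (hcz _) a
        rw [← zpow_natCast, ← zpow_mul]
        have e : v * (m : ℤ) * ((p ^ a : ℕ) : ℤ) = ((orderOf c : ℕ) : ℤ) * v := by
          rw [hn]
          push_cast
          ring
        rw [e, zpow_mul, zpow_natCast, pow_orderOf_eq_one, one_zpow]
      have hc2 : c ^ (u * ((p ^ a : ℕ) : ℤ)) ∈ Subgroup.center G := by
        apply hCb _ (hcz _)
        intro hd
        apply hpm
        apply dvd_trans hd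
        apply orderOf_dvd_of_pow_eq_one
        rw [← zpow_natCast, ← zpow_mul]
        have e : u * ((p ^ a : ℕ) : ℤ) * (m : ℤ) = ((orderOf c : ℕ) : ℤ) * u := by
          rw [hn]
          push_cast
          ring
        rw [e, zpow_mul, zpow_natCast, pow_orderOf_eq_one, one_zpow]
      have hsplit : c = c ^ (v * (m : ℤ)) * c ^ (u * ((p ^ a : ℕ) : ℤ)) := by
        rw [← zpow_add]
        have e : v * (m : ℤ) + u * ((p ^ a : ℕ) : ℤ) = 1 := by
          rw [← huv]
          ring
        rw [e, zpow_one]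
      rw [hsplit]
      exact Subgroup.mul_mem_sup hc1 hc2
    · rw [sup_le_iff]
      constructor
      · intro a ha
        rw [Subgroup.mem_centralizer_iff]
        intro b hb
        exact hab b hb a ha
      · exact Subgroup.center_le_centralizer _
  · rw [eq_bot_iff]
    intro y hy
    rw [Subgroup.mem_bot]
    by_contra hy1
    obtain ⟨hyP, hyZ⟩ := hy
    apply hA y hyZ
    obtain ⟨k, hk⟩ := (IsPGroup.iff_orderOf.mp hPp) ⟨y, hyP⟩
    rw [Subgroup.orderOf_mk] at hk
    rw [hk]
    apply dvd_pow_self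
    rintro rfl
    rw [pow_zero, orderOf_eq_one_iff] at hk
    exact hy1 hk
  · intro hd
    obtain ⟨z, hz⟩ := exists_prime_orderOf_dvd_card' p hd
    apply hA (z : G) z.2
    rw [Subgroup.orderOf_coe, hz]

end CENTc

end Cfsg.Agent.S4751P
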