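import Mathlib
import Cfsg.Prelude.Def_Characters
import Cfsg.Agent.Helper8.DualGroup

/-!
# S4751, piece ELAB: a normal abelian `p`-subgroup whose nontrivial linear characters are conjugate is elementary
-/

set_option autoImplicit false
set_option linter.style.haveILetI false

namespace Cfsg.Agent.S4751P

open scoped ComplexConjugate

universe u

variable {G : Type u} [Group G] [Finite G]

/-- ELAB -/
theorem pow_eq_one_of_transitive (p : ℕ) [Fact p.Prime] (P : Subgroup G) [hN : P.Normal]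
    (hPp : IsPGroup p P) (hab : ∀ a ∈ P, ∀ b ∈ P, a * b = b * a)
    (htr : ∀ lam mu : P →* ℂˣ, lam ≠ 1 → mu ≠ 1 → ∃ g : G, ∀ x : P,
      ((mu x : ℂˣ) : ℂ) = ((lam ⟨g * x * g⁻¹, hN.conj_mem x x.2 g⟩ : ℂˣ) : ℂ)) :
    ∀ a ∈ P, a ^ p = 1 := by
  have hp : p.Prime := Fact.out
  have hc : ∀ a b : P, a * b = b * a := by
    intro a b
    exact Subtype.ext (hab a a.2 b b.2)
  by_contra hcon
  push Not at hcon
  obtain ⟨a, ha, hap⟩ := hcon
  have hap' : (⟨a, ha⟩ : P) ^ p ≠ 1 := by
    intro h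
    apply hap
    have := congrArg Subtype.val h
    simpa using this
  -- the dual group has as many elements as `P`
  haveI hfin : Finite (P →* ℂˣ) := Cfsg.Agent.Helper8.finite_hom_units hc
  have hcard : Nat.card (P →* ℂˣ) = Nat.card P := by
    let _ : CommGroup P := { (inferInstance : Group P) with mul_comm := hc }
    have := Cfsg.Agent.Helper8.hasEnoughRootsOfUnity_exponent P
    exact CommGroup.card_monoidHom_of_hasEnoughRootsOfUnity P ℂ
  -- `p` divides the order of `P`
  have hdvd : p ∣ Nat.card P := by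
    obtain ⟨n, hn⟩ := hPp.exists_card_eq
    rcases Nat.eq_zero_or_pos n with h0 | h0
    · exfalso
      rw [h0, pow_zero] at hn
      have hsub : Subsingleton P := (Nat.card_eq_one_iff_unique.mp hn).1
      exact hap' (Subsingleton.elim _ _)
    · rw [hn]
      exact dvd_pow_self p h0.ne'
  rw [← hcard] at hdvd
  obtain ⟨lam, hlam⟩ := exists_prime_orderOf_dvd_card' p hdvd
  have hlam1 : lam ≠ 1 := by
    intro h
    rw [h, orderOf_one] at hlam
    exact hp.one_lt.ne hlam
  have hlamp : lam ^ p = 1 := by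
    rw [← hlam]
    exact pow_orderOf_eq_one lam
  obtain ⟨mu, _, hmu⟩ := Cfsg.Agent.Helper8.exists_hom_units_of_not_mem hc ⊥
    (x := (⟨a, ha⟩ : P) ^ p) (by rw [Subgroup.mem_bot]; exact hap')
  have hmu1 : mu ≠ 1 := by
    intro h
    apply hmu
    rw [h]
    rfl
  obtain ⟨g, hg⟩ := htr lam mu hlam1 hmu1
  apply hmu
  apply Units.ext
  rw [hg]
  have e : (⟨g * ((⟨a, ha⟩ : P) ^ p : P) * g⁻¹, hN.conj_mem _ ((⟨a, ha⟩ : P) ^ p : P).2 g⟩ : P) =
      (⟨g * a * g⁻¹, hN.conj_mem a ha g⟩ : P) ^ p := by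
    apply Subtype.ext
    simp [conj_pow]
  rw [e, map_pow, ← MonoidHom.pow_apply, hlamp]
  rfl

end Cfsg.Agent.S4751P
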