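import Mathlib
import Cfsg.Prelude.Def_FusionSystem
import Cfsg.Agent.S5092

set_option autoImplicit false

/-! Piece MAXSUB of S5113 (board `s5113pieces`, driver helper18): a proper subgroup `T ≥ hyp(F)` of the
finite `p`-group `S` lies in a maximal subgroup `T₁` of `S`; `T₁` is normal of index `p`, so it contains
`[S,S]` and all `p`-th powers, hence `foc(F) = hyp(F) [S,S]` (S5092). -/

namespace Cfsg.Agent.S5113P

open Cfsg Cfsg.FusionSystem
open scoped commutatorElement

universe u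

/-- In a finite `p`-group a proper subgroup lies in a proper subgroup containing the commutator
subgroup and all `p`-th powers (a maximal subgroup). -/
theorem MAXSUB.aux_group {G : Type*} [Group G] [Finite G] (p : ℕ) [Fact p.Prime]
    (hG : IsPGroup p G) (H : Subgroup G) (hH : H ≠ ⊤) :
    ∃ K : Subgroup G, H ≤ K ∧ K ≠ ⊤ ∧ _root_.commutator G ≤ K ∧ ∀ g : G, g ^ p ∈ K := by
  have hp : p.Prime := Fact.out
  obtain ⟨m, hm⟩ := IsPGroup.iff_card.mp hG
  obtain ⟨n, hn⟩ := IsPGroup.iff_card.mp (hG.to_subgroup H)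
  have hnm : n ≤ m := by
    have h1 : Nat.card H ∣ Nat.card G := Subgroup.card_subgroup_dvd_card H
    rw [hn, hm] at h1
    exact (Nat.pow_dvd_pow_iff_le_right hp.one_lt).mp h1
  have hnm' : n ≠ m := by
    rintro rfl
    exact hH ((Subgroup.card_eq_iff_eq_top H).mp (hn.trans hm.symm))
  have hm1 : 1 ≤ m := by omega
  have hdvd : p ^ (m - 1) ∣ Nat.card G := by
    rw [hm]; exact pow_dvd_pow p (by omega)
  obtain ⟨K, hK, hHK⟩ := Sylow.exists_subgroup_card_pow_prime_le p hdvd H hn (by omega)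
  have hidx : K.index = p := by
    have h1 := Subgroup.card_mul_index K
    rw [hK, hm] at h1
    have h2 : p ^ m = p ^ (m - 1) * p := by
      rw [← pow_succ]; congr 1; omega
    rw [h2] at h1
    exact Nat.eq_of_mul_eq_mul_left (pow_pos hp.pos _) h1
  have hmin : (Nat.card G).minFac = p := by
    rw [hm]; exact hp.pow_minFac (by omega)
  have hKn : K.Normal := Subgroup.normal_of_index_eq_minFac_card (hidx.trans hmin.symm)
  have hcard : Nat.card (G ⧸ K) = p := by
    rw [← Subgroup.index_eq_card]; exact hidx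
  refine ⟨K, hHK, ?_, ?_, ?_⟩
  · intro htop
    rw [htop, Subgroup.index_top] at hidx
    exact hp.one_lt.ne hidx
  · have : IsCyclic (G ⧸ K) := isCyclic_of_prime_card hcard
    exact Subgroup.Normal.quotient_commutative_iff_commutator_le.mp
      ⟨⟨fun a b => IsCyclic.commGroup.mul_comm a b⟩⟩
  · intro g
    rw [← QuotientGroup.eq_one_iff, QuotientGroup.mk_pow]
    have := pow_card_eq_one' (G := G ⧸ K) (x := (g : G ⧸ K))
    rwa [hcard] at this

/-- MAXSUB: a proper subgroup `T ≥ hyp(F)` lies in a proper subgroup `T₁` of `S` containing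
`foc(F)` with `S / T₁` of exponent `p`. -/
theorem MAXSUB {Ω : Type u} [Group Ω] {S : Subgroup Ω} [Finite S] (p : ℕ) [Fact p.Prime]
    (hS : IsPGroup p S) (F : FusionSystem S) (hF : F.IsSaturated p)
    {T : Subgroup Ω} (hTS : T ≤ S) (hne : T ≠ S) (hT : F.hyperfocalSubgroup p ≤ T) :
    ∃ T₁ : Subgroup Ω, T ≤ T₁ ∧ T₁ ≤ S ∧ T₁ ≠ S ∧ F.focalSubgroup ≤ T₁ ∧ ∀ s ∈ S, s ^ p ∈ T₁ := by
  have hH : T.subgroupOf S ≠ ⊤ := by
    intro h
    exact hne (le_antisymm hTS (Subgroup.subgroupOf_eq_top.mp h))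
  obtain ⟨K, hHK, hKtop, hcomm, hpow⟩ := MAXSUB.aux_group p hS (T.subgroupOf S) hH
  have hTK : T ≤ K.map S.subtype := by
    intro t ht
    exact ⟨⟨t, hTS ht⟩, hHK (Subgroup.mem_subgroupOf.mpr ht), rfl⟩
  refine ⟨K.map S.subtype, hTK, Subgroup.map_subtype_le K, ?_, ?_, ?_⟩
  · intro h
    apply hKtop
    rw [eq_top_iff]
    intro s _
    have hs : (s : Ω) ∈ K.map S.subtype := by rw [h]; exact s.2
    obtain ⟨k, hk, hks⟩ := hs
    have : k = s := Subtype.ext hks
    exact this ▸ hk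
  · rw [Cfsg.Agent.S5092.result p hS F hF]
    refine sup_le (hT.trans hTK) ?_
    rw [Subgroup.commutator_le]
    intro g₁ h₁ g₂ h₂
    refine ⟨⁅(⟨g₁, h₁⟩ : S), (⟨g₂, h₂⟩ : S)⁆, hcomm ?_, ?_⟩
    · rw [commutator_def]
      exact Subgroup.commutator_mem_commutator (Subgroup.mem_top _) (Subgroup.mem_top _)
    · rfl
  · intro s hs
    exact ⟨(⟨s, hs⟩ : S) ^ p, hpow _, rfl⟩

end Cfsg.Agent.S5113P
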