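import Mathlib
import Cfsg.Prelude.Def_SporadicB
import Cfsg.Prelude.Def_Solvable
import Cfsg.Prelude.Def_Local
import Cfsg.Prelude.Def_Classical

/-!
# S5559: shared definitions for the piece board

`H` generated by a class `E` of 3-transpositions, `F*(H) = O₂(H)`, `H/O₂(H)` = normal Sylow 3 by a
2-group.  Then `H/O₂(H) ≅ S₃` or `≅ SU₃(2)'` (order 54).

Abstract setting of the core argument: a finite group `G = Q⟨t⟩` (`Q` a normal 3-subgroup of index 2,
`t` an involution outside `Q`, `D` the class of `t`) acting on a finite abelian group `W` without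
3-torsion through `ρ : G →* MulAut W`, such that

* `(M)`: for `a ≠ b` in `D`, every `w` fixed by `a * b` is fixed by `a`;
* the action is faithful on `Q`.
-/

set_option autoImplicit false

namespace Cfsg.Agent.S5559P

/-- Abstract 3-transposition data: `D` consists of elements of square one, is closed under
conjugation, any two members have product of order dividing 2 or 3, `D` generates `G` and is a single
conjugacy class. -/
def IsTT {G : Type*} [Group G] (D : Set G) : Prop :=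
  (∀ d ∈ D, d * d = 1) ∧ (∀ d ∈ D, ∀ g : G, g * d * g⁻¹ ∈ D) ∧
  (∀ d ∈ D, ∀ e ∈ D, (d * e) ^ 2 = 1 ∨ (d * e) ^ 3 = 1) ∧ Subgroup.closure D = ⊤ ∧
  (∀ d ∈ D, ∀ e ∈ D, ∃ g : G, g * d * g⁻¹ = e)

/-- The module hypotheses: `W` has no 3-torsion, property `(M)` holds, and elements of order dividing 3
acting trivially are trivial. -/
def ModOK {G : Type*} [Group G] {W : Type*} [CommGroup W] (D : Set G) (ρ : G →* MulAut W) : Prop :=
  (∀ w : W, w ^ 3 = 1 → w = 1) ∧
  (∀ a ∈ D, ∀ b ∈ D, (a * b) ^ 3 = 1 → a * b ≠ 1 → ∀ w : W, ρ (a * b) w = w → ρ a w = w) ∧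
  (∀ g : G, g ^ 3 = 1 → (∀ w : W, ρ g w = w) → g = 1)

/-- The working context of the core argument. -/
structure Ctx (G : Type*) [Group G] (W : Type*) [CommGroup W] where
  /-- the class of 3-transpositions -/
  D : Set G
  /-- the action on the module -/
  ρ : G →* MulAut W
  /-- the normal Sylow 3-subgroup -/
  Q : Subgroup G
  /-- a fixed 3-transposition -/
  t : G
  hQn : Q.Normal
  hQ3 : IsPGroup 3 Q
  ht2 : t * t = 1
  htQ : t ∉ Q
  hidx : ∀ g : G, g ∈ Q ∨ t * g ∈ Q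
  hD : ∀ d : G, d ∈ D ↔ ∃ q ∈ Q, d = q * t * q⁻¹
  hprodQ : ∀ a ∈ D, ∀ b ∈ D, a * b ∈ Q
  hprod3 : ∀ a ∈ D, ∀ b ∈ D, (a * b) ^ 3 = 1
  hgen : Subgroup.closure D = ⊤
  hcube : ∀ w : W, w ^ 3 = 1 → w = 1
  hM : ∀ a ∈ D, ∀ b ∈ D, a ≠ b → ∀ w : W, ρ (a * b) w = w → ρ a w = w
  hfaith : ∀ g ∈ Q, (∀ w : W, ρ g w = w) → g = 1
  hQne : ∃ q ∈ Q, q ≠ 1

/-- The abstract group of order 54 (`3^{1+2} : 2`, the derived group of `SU₃(2)`): generated by
`y, y', t` with `y³ = y'³ = t² = 1`, `t` inverting `y` and `y'`, and `z = [y', y]` central. -/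
def Is54 (G : Type*) [Group G] : Prop :=
  Nat.card G = 54 ∧ ∃ y y' t : G, y ^ 3 = 1 ∧ y' ^ 3 = 1 ∧ t ^ 2 = 1 ∧ t * y * t = y⁻¹ ∧
    t * y' * t = y'⁻¹ ∧
    (y' * y * y'⁻¹ * y⁻¹) * y = y * (y' * y * y'⁻¹ * y⁻¹) ∧
    (y' * y * y'⁻¹ * y⁻¹) * y' = y' * (y' * y * y'⁻¹ * y⁻¹) ∧
    (y' * y * y'⁻¹ * y⁻¹) * t = t * (y' * y * y'⁻¹ * y⁻¹) ∧
    Subgroup.closure ({y, y', t} : Set G) = ⊤

/-! ## The module for the bridge: `H ⧸ O₂(H)` acting on the abelianization of `O₂(H)` -/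

/-- The functorial map `MulAut V →* MulAut (Abelianization V)`. -/
def abAut (V : Type*) [Group V] : MulAut V →* MulAut (Abelianization V) where
  toFun f := f.abelianizationCongr
  map_one' := by
    apply MulEquiv.toMonoidHom_injective
    apply Abelianization.hom_ext
    rfl
  map_mul' f g := by
    apply MulEquiv.toMonoidHom_injective
    apply Abelianization.hom_ext
    rfl

theorem abAut_of (V : Type*) [Group V] (f : MulAut V) (v : V) :
    abAut V f (Abelianization.of v) = Abelianization.of (f v) := rfl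

/-- `H` acting on the abelianization of `O₂(H)` by conjugation. -/
def rhoH (H : Type*) [Group H] : H →* MulAut (Abelianization ↥(Cfsg.pCore 2 H)) :=
  (abAut ↥(Cfsg.pCore 2 H)).comp (MulAut.conjNormal (H := Cfsg.pCore 2 H))

theorem rhoH_of (H : Type*) [Group H] (h : H) (v : ↥(Cfsg.pCore 2 H)) :
    rhoH H h (Abelianization.of v) =
      Abelianization.of
        (⟨h * v * h⁻¹, (Cfsg.pCore_normal 2 H).conj_mem v v.2 h⟩ : ↥(Cfsg.pCore 2 H)) := by
  rfl

theorem pCore_le_ker_rhoH (H : Type*) [Group H] : Cfsg.pCore 2 H ≤ (rhoH H).ker := by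
  intro u hu
  rw [MonoidHom.mem_ker]
  apply MulEquiv.toMonoidHom_injective
  apply Abelianization.hom_ext
  ext v
  show rhoH H u (Abelianization.of v) = Abelianization.of v
  rw [rhoH_of]
  have : (⟨u * v * u⁻¹, (Cfsg.pCore_normal 2 H).conj_mem v v.2 u⟩ : ↥(Cfsg.pCore 2 H)) =
      (⟨u, hu⟩ : ↥(Cfsg.pCore 2 H)) * v * (⟨u, hu⟩ : ↥(Cfsg.pCore 2 H))⁻¹ := rfl
  rw [this, map_mul, map_mul, map_inv, mul_comm, inv_mul_cancel_left]

/-- The action of `H ⧸ O₂(H)` on the abelianization of `O₂(H)`: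
`rho H (mk h) (of v) = of (h v h⁻¹)`. -/
def rho (H : Type*) [Group H] :
    H ⧸ Cfsg.pCore 2 H →* MulAut (Abelianization ↥(Cfsg.pCore 2 H)) :=
  QuotientGroup.lift (Cfsg.pCore 2 H) (rhoH H) (pCore_le_ker_rhoH H)

theorem rho_mk_of (H : Type*) [Group H] (h : H) (v : ↥(Cfsg.pCore 2 H)) :
    rho H (QuotientGroup.mk' (Cfsg.pCore 2 H) h) (Abelianization.of v) =
      Abelianization.of
        (⟨h * v * h⁻¹, (Cfsg.pCore_normal 2 H).conj_mem v v.2 h⟩ : ↥(Cfsg.pCore 2 H)) := by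
  rfl

end Cfsg.Agent.S5559P
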