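import Mathlib
import Cfsg.Agent.Helper14.S5559Defs
import Cfsg.Agent.Helper17.S5559PHI
import Cfsg.Agent.Helper5.S5559TRIV
import Cfsg.Agent.Helper19.S5559GEN
import Cfsg.Agent.Helper25.S5559INV3

set_option autoImplicit false

namespace Cfsg.Agent.S5559P

/-- fixed points of an automorphism, as a subgroup -/
def CORE3b.aux_fix {W : Type*} [CommGroup W] (f : MulAut W) : Subgroup W where
  carrier := {w | f w = w}
  mul_mem' {a b} ha hb := by
    show f (a * b) = a * b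
    rw [map_mul, ha, hb]
  one_mem' := map_one f
  inv_mem' {a} ha := by
    show f a⁻¹ = a⁻¹
    rw [map_inv, ha]

theorem CORE3b.aux_pow_three {G : Type*} [Group G] (x : G) (h3 : x ^ 3 = 1) (n : ℕ) :
    x ^ n = x ^ (n % 3) := by
  conv_lhs => rw [← Nat.div_add_mod n 3, pow_add, pow_mul, h3, one_pow, one_mul]

/-- if `x ^ 3 = 1`, `x ^ j ∈ K` and `3 ∤ j` then `x ∈ K`. -/
theorem CORE3b.aux_mem_of_pow {G : Type*} [Group G] (K : Subgroup G) (x : G) (h3 : x ^ 3 = 1)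
    (j : ℕ) (hj : ¬ 3 ∣ j) (hx : x ^ j ∈ K) : x ∈ K := by
  rw [CORE3b.aux_pow_three x h3 j] at hx
  have h : j % 3 = 1 ∨ j % 3 = 2 := by omega
  rcases h with h | h
  · rw [h, pow_one] at hx; exact hx
  · rw [h] at hx
    have : x = (x ^ 2) ^ 2 := by
      rw [← pow_mul]
      calc x = x ^ 3 * x := by rw [h3, one_mul]
        _ = x ^ (2 * 2) := by rw [← pow_succ]
    rw [this]
    exact K.pow_mem hx 2

theorem CORE3b {G : Type*} [Group G] [Finite G] {W : Type*} [CommGroup W] [Finite W]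
    (C : Ctx G W)
    (hZt : ∀ g ∈ C.Q, (∀ q ∈ C.Q, g * q = q * g) → C.t * g * C.t = g)
    (y : G) (hy : y ∈ C.Q) (hyt : C.t * y * C.t = y⁻¹) (hync : ∃ q ∈ C.Q, y * q ≠ q * y)
    (hy2 : ∀ q ∈ C.Q, ∀ q' ∈ C.Q, (q * y * q⁻¹ * y⁻¹) * q' = q' * (q * y * q⁻¹ * y⁻¹)) :
    ∃ y' ∈ C.Q, C.t * y' * C.t = y'⁻¹ ∧ y' * y * y'⁻¹ * y⁻¹ ≠ 1 ∧
      ∀ q ∈ C.Q, q * y * q⁻¹ * y⁻¹ ∈ Subgroup.zpowers (y' * y * y'⁻¹ * y⁻¹) := by
  classical
  obtain ⟨hmul, hcen, hcube, hlift⟩ := PHI C hZt y hy hyt hy2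
  have hy3 : y ^ 3 = 1 := INV3 C y hy hyt
  -- notation
  set φ : G → G := fun q => q * y * q⁻¹ * y⁻¹ with hφ
  have hφ1 : φ 1 = 1 := by simp [hφ]
  have hφmul : ∀ q ∈ C.Q, ∀ q' ∈ C.Q, φ (q * q') = φ q * φ q' := hmul
  have hφpow : ∀ q ∈ C.Q, ∀ n : ℕ, φ (q ^ n) = φ q ^ n := by
    intro q hq n
    induction n with
    | zero => simp [hφ1]
    | succ n ih =>
      rw [pow_succ, hφmul _ (C.Q.pow_mem hq n) _ hq, ih, pow_succ]
  have hφcomm : ∀ q ∈ C.Q, φ q = 1 → q * y = y * q := by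
    intro q _ h
    have : q * y * q⁻¹ * y⁻¹ = 1 := h
    have h2 : q * y * q⁻¹ = y := by
      have := mul_inv_eq_one.mp this
      exact this
    calc q * y = q * y * q⁻¹ * q := by group
      _ = y * q := by rw [h2]
  have hφcomm' : ∀ q : G, q * y = y * q → φ q = 1 := by
    intro q h
    show q * y * q⁻¹ * y⁻¹ = 1
    rw [h]; group
  -- the first element
  obtain ⟨q₀, hq₀, hq₀y⟩ := hync
  have hφq₀ : φ q₀ ≠ 1 := fun h => hq₀y (hφcomm q₀ hq₀ h).symm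
  obtain ⟨hy'Q, hy't, hy'φ⟩ := hlift q₀ hq₀
  set y' := q₀⁻¹ * C.t * q₀ * C.t with hy'def
  have hz1 : φ y' ≠ 1 := by
    show y' * y * y'⁻¹ * y⁻¹ ≠ 1
    rw [hy'φ]; exact hφq₀
  refine ⟨y', hy'Q, hy't, hz1, ?_⟩
  by_contra hcon
  push Not at hcon
  obtain ⟨q₁, hq₁, hq₁z⟩ := hcon
  obtain ⟨z, hzdef⟩ : ∃ z, z = φ y' := ⟨_, rfl⟩
  obtain ⟨z₂, hz₂def⟩ : ∃ z₂, z₂ = φ q₁ := ⟨_, rfl⟩
  have hz1 : z ≠ 1 := by rw [hzdef]; exact hz1
  have hq₁z : z₂ ∉ Subgroup.zpowers z := by rw [hzdef, hz₂def]; exact hq₁z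
  have hz3 : z ^ 3 = 1 := by rw [hzdef]; exact hcube y' hy'Q
  have hz₂3 : z₂ ^ 3 = 1 := by rw [hz₂def]; exact hcube q₁ hq₁
  have hzc : ∀ g : G, z * g = g * z := by rw [hzdef]; exact hcen y' hy'Q
  have hz₂c : ∀ g : G, z₂ * g = g * z₂ := by rw [hz₂def]; exact hcen q₁ hq₁
  -- y is not central in Q
  have hyne : ∀ K : Subgroup G, (∀ k ∈ K, ∀ g : G, k * g = g * k) → y ∉ K := by
    intro K hK hyK
    exact hq₀y (hK y hyK q₀)
  -- the main claim for each of the four directions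
  have key : ∀ a b : ℕ, z ^ a * z₂ ^ b ≠ 1 →
      ∀ w : W, C.ρ (z ^ a * z₂ ^ b) w = w → C.ρ y w = w := by
    intro a b hne w hw
    set q := y' ^ a * q₁ ^ b with hqdef
    have hqQ : q ∈ C.Q := C.Q.mul_mem (C.Q.pow_mem hy'Q a) (C.Q.pow_mem hq₁ b)
    have hφq : φ q = z ^ a * z₂ ^ b := by
      rw [hqdef, hφmul _ (C.Q.pow_mem hy'Q a) _ (C.Q.pow_mem hq₁ b), hφpow _ hy'Q, hφpow _ hq₁,
        ← hzdef, ← hz₂def]
    obtain ⟨hy₃Q, hy₃t, hy₃φ⟩ := hlift q hqQ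
    set y₃ := q⁻¹ * C.t * q * C.t with hy₃def
    obtain ⟨z', hz'def⟩ : ∃ z', z' = z ^ a * z₂ ^ b := ⟨_, rfl⟩
    rw [← hz'def] at hne hw hφq
    have hz'φ : φ y₃ = z' := by
      show y₃ * y * y₃⁻¹ * y⁻¹ = z'
      rw [hy₃φ]; exact hφq
    have hz'c : ∀ g : G, z' * g = g * z' := by
      intro g
      have := hcen q hqQ g
      have h2 : q * y * q⁻¹ * y⁻¹ = z' := hφq
      rw [h2] at this; exact this
    have hz'3 : z' ^ 3 = 1 := by
      have := hcube q hqQ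
      have h2 : q * y * q⁻¹ * y⁻¹ = z' := hφq
      rw [h2] at this; exact this
    have hy₃3 : y₃ ^ 3 = 1 := INV3 C y₃ hy₃Q hy₃t
    have hord : orderOf z' = 3 := by
      have hd : orderOf z' ∣ 3 := orderOf_dvd_of_pow_eq_one hz'3
      rcases (Nat.dvd_prime Nat.prime_three).mp hd with h | h
      · exact absurd (orderOf_eq_one_iff.mp h) hne
      · exact h
    -- the relation y * y₃ = z'⁻¹ * (y₃ * y)
    have hc : y * y₃ = z'⁻¹ * (y₃ * y) := by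
      have h1 : y₃ * y * y₃⁻¹ * y⁻¹ = z' := hz'φ
      have h2 : y₃ * y = z' * (y * y₃) := by
        have : y₃ * y = (y₃ * y * y₃⁻¹ * y⁻¹) * (y * y₃) := by group
        rw [this, h1]
      rw [h2, inv_mul_cancel_left]
    have hcz : ∀ g : G, z'⁻¹ * g = g * z'⁻¹ := by
      intro g
      have := hz'c g
      calc z'⁻¹ * g = z'⁻¹ * (g * z') * z'⁻¹ := by group
        _ = z'⁻¹ * (z' * g) * z'⁻¹ := by rw [this]
        _ = g * z'⁻¹ := by group
    have hcenK : ∀ k ∈ Subgroup.zpowers z'⁻¹, ∀ g : G, k * g = g * k := by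
      intro k hk g
      obtain ⟨n, rfl⟩ := Subgroup.mem_zpowers_iff.mp hk
      have : Commute z'⁻¹ g := hcz g
      exact (this.zpow_left n).eq
    have hind : ∀ i j : ℕ, y ^ i * y₃ ^ j ∈ Subgroup.zpowers z'⁻¹ → 3 ∣ i ∧ 3 ∣ j := by
      intro i j hij
      -- y₃ ^ j commutes with y
      have hcomm : y₃ ^ j * y = y * y₃ ^ j := by
        have hk := hcenK _ hij y
        -- (y^i y₃^j) y = y (y^i y₃^j)
        have h1 : y ^ i * (y₃ ^ j * y) = y ^ i * (y * y₃ ^ j) := by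
          calc y ^ i * (y₃ ^ j * y) = y ^ i * y₃ ^ j * y := by rw [mul_assoc]
            _ = y * (y ^ i * y₃ ^ j) := hk
            _ = (y * y ^ i) * y₃ ^ j := by rw [mul_assoc]
            _ = (y ^ i * y) * y₃ ^ j := by rw [← pow_succ, ← pow_succ']
            _ = y ^ i * (y * y₃ ^ j) := by rw [mul_assoc]
        exact mul_left_cancel h1
      have h3j : 3 ∣ j := by
        have h1 : φ (y₃ ^ j) = 1 := hφcomm' _ hcomm
        rw [hφpow _ hy₃Q, hz'φ] at h1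
        rw [← hord]
        exact orderOf_dvd_of_pow_eq_one h1
      refine ⟨?_, h3j⟩
      by_contra h3i
      obtain ⟨k, rfl⟩ := h3j
      rw [pow_mul, hy₃3, one_pow, mul_one] at hij
      exact hyne _ hcenK (CORE3b.aux_mem_of_pow _ y hy3 i h3i hij)
    have hT := TRIV C y y₃ z'⁻¹ hy hy₃Q hyt hy₃t hc hcz hind w
    refine (hT ?_).1
    -- ρ z'⁻¹ w = w
    have : C.ρ z'⁻¹ w = (C.ρ z')⁻¹ w := by rw [map_inv]
    rw [this]
    have h2 : (C.ρ z')⁻¹ (C.ρ z' w) = w := by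
      show (C.ρ z').symm (C.ρ z' w) = w
      exact MulEquiv.symm_apply_apply _ _
    rw [hw] at h2
    exact h2
  -- independence
  have hz₂mem : ∀ b : ℕ, ¬ 3 ∣ b → z₂ ^ b ∉ Subgroup.zpowers z := by
    intro b hb hmem
    exact hq₁z (CORE3b.aux_mem_of_pow _ z₂ hz₂3 b hb hmem)
  have hne10 : z ^ 1 * z₂ ^ 0 ≠ 1 := by
    rw [pow_one, pow_zero, mul_one]; exact hz1
  have hne01 : z ^ 0 * z₂ ^ 1 ≠ 1 := by
    rw [pow_zero, one_mul]
    intro h
    exact hz₂mem 1 (by norm_num) (by rw [h]; exact Subgroup.one_mem _)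
  have hne11 : z ^ 1 * z₂ ^ 1 ≠ 1 := by
    intro h
    apply hz₂mem 1 (by norm_num)
    have : z₂ ^ 1 = (z ^ 1)⁻¹ := eq_inv_of_mul_eq_one_right h
    rw [this]
    exact Subgroup.inv_mem _ (Subgroup.pow_mem _ (Subgroup.mem_zpowers z) 1)
  have hne12 : z ^ 1 * z₂ ^ 2 ≠ 1 := by
    intro h
    apply hz₂mem 2 (by norm_num)
    have : z₂ ^ 2 = (z ^ 1)⁻¹ := eq_inv_of_mul_eq_one_right h
    rw [this]
    exact Subgroup.inv_mem _ (Subgroup.pow_mem _ (Subgroup.mem_zpowers z) 1)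
  -- apply GEN
  have hzz₂ : z * z₂ = z₂ * z := hzc z₂
  have hgen : (⊤ : Subgroup W) ≤ CORE3b.aux_fix (C.ρ y) := by
    apply GEN C.hcube ⊤ (CORE3b.aux_fix (C.ρ y)) (C.ρ z) (C.ρ z₂)
    · intro w _; trivial
    · intro w _; trivial
    · intro w _
      have h1 : C.ρ z (C.ρ z₂ w) = C.ρ (z * z₂) w := by rw [map_mul]; rfl
      have h2 : C.ρ z₂ (C.ρ z w) = C.ρ (z₂ * z) w := by rw [map_mul]; rfl
      rw [h1, h2, hzz₂]
    · intro w _
      have h1 : C.ρ z (C.ρ z (C.ρ z w)) = C.ρ (z ^ 3) w := by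
        rw [pow_succ, pow_two, map_mul, map_mul]; rfl
      rw [h1, hz3, map_one]; rfl
    · intro w _
      have h1 : C.ρ z₂ (C.ρ z₂ (C.ρ z₂ w)) = C.ρ (z₂ ^ 3) w := by
        rw [pow_succ, pow_two, map_mul, map_mul]; rfl
      rw [h1, hz₂3, map_one]; rfl
    · intro w _ hw
      apply key 1 0 hne10 w
      rw [pow_one, pow_zero, mul_one]; exact hw
    · intro w _ hw
      apply key 0 1 hne01 w
      rw [pow_zero, one_mul, pow_one]; exact hw
    · intro w _ hw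
      apply key 1 1 hne11 w
      rw [pow_one, pow_one, map_mul]; exact hw
    · intro w _ hw
      apply key 1 2 hne12 w
      rw [pow_one, pow_two, map_mul, map_mul]; exact hw
  have hytriv : ∀ w : W, C.ρ y w = w := fun w => hgen (Subgroup.mem_top w)
  have hy1 : y = 1 := C.hfaith y hy hytriv
  apply hq₀y
  rw [hy1, one_mul, mul_one]

end Cfsg.Agent.S5559P
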