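import Mathlib
import Cfsg.Agent.Helper14.S5559Defs
import Cfsg.Agent.Helper25.S5559INV3
import Cfsg.Agent.Helper17.S5559PHI
import Cfsg.Agent.Helper19.S5559C54B
import Cfsg.Agent.Helper17.S5559BRIDGEP1
import Cfsg.Agent.Helper21.S5559BRIDGEF
import Cfsg.Agent.Helper9.S5559CYC
import Cfsg.Agent.Helper20.S5559CORE0
import Cfsg.Agent.Helper25.S5559CORE3a
import Cfsg.Agent.Helper14.S5559CORE3b
import Cfsg.Agent.Helper6.S5559P54
import Cfsg.Agent.Helper25.S5559CORE2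
import Cfsg.Agent.Helper3.S5559SU54B
import Cfsg.Agent.Helper28.S5559BRIDGEM
import Cfsg.Agent.Helper3.S5559C54A

set_option autoImplicit false

namespace Cfsg.Agent.S5559P

universe u

theorem CORE3c {G : Type*} [Group G] [Finite G] {W : Type*} [CommGroup W] [Finite W]
    (C : Ctx G W)
    (hZt : ∀ g ∈ C.Q, (∀ q ∈ C.Q, g * q = q * g) → C.t * g * C.t = g)
    (y : G) (hy : y ∈ C.Q) (hyt : C.t * y * C.t = y⁻¹)
    (hy2 : ∀ q ∈ C.Q, ∀ q' ∈ C.Q, (q * y * q⁻¹ * y⁻¹) * q' = q' * (q * y * q⁻¹ * y⁻¹))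
    (y' : G) (hy' : y' ∈ C.Q) (hyt' : C.t * y' * C.t = y'⁻¹) (hz : y' * y * y'⁻¹ * y⁻¹ ≠ 1)
    (hcyc : ∀ q ∈ C.Q, q * y * q⁻¹ * y⁻¹ ∈ Subgroup.zpowers (y' * y * y'⁻¹ * y⁻¹)) :
    Is54 G := by
  have hgen := C54A C hZt y hy hyt hy2 y' hy' hyt' hz hcyc
  have h3 := INV3 C y hy hyt
  have h3' := INV3 C y' hy' hyt'
  obtain ⟨-, hcen, -, -⟩ := PHI C hZt y hy hyt hy2
  have hzc := hcen y' hy'
  have hcard := C54B C y y' hy hy' h3 h3' hyt hyt' hz (hzc y) (hzc y') hgen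
  refine ⟨hcard, y, y', C.t, h3, h3', ?_, hyt, hyt', hzc y, hzc y', hzc C.t, hgen⟩
  rw [pow_two]; exact C.ht2

theorem BRIDGE {H : Type u} [Group H] [Finite H] {E : Set H}
    (hE : Cfsg.IsThreeTranspositionClass E)
    (hF : Cfsg.generalizedFittingSubgroup H = Cfsg.pCore 2 H) :
    ∃ (W : Type u) (_ : CommGroup W) (_ : Finite W) (ρ : H ⧸ Cfsg.pCore 2 H →* MulAut W),
      ModOK ((QuotientGroup.mk' (Cfsg.pCore 2 H)) '' E) ρ :=
  ⟨Abelianization ↥(Cfsg.pCore 2 H), inferInstance, inferInstance, rho H,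
    BRIDGE.P1 H, BRIDGE.M hE, BRIDGE.F hF⟩

theorem ASM {H : Type u} [Group H] [Finite H] {E : Set H} (hE : Cfsg.IsThreeTranspositionClass E)
    (hE2 : ∃ a ∈ E, ∃ b ∈ E, a ≠ b) (hF : Cfsg.generalizedFittingSubgroup H = Cfsg.pCore 2 H)
    (h232 : ∃ P : Sylow 3 (H ⧸ Cfsg.pCore 2 H), (P : Subgroup (H ⧸ Cfsg.pCore 2 H)).Normal ∧
      ∃ k : ℕ, (P : Subgroup (H ⧸ Cfsg.pCore 2 H)).index = 2 ^ k) :
    Nonempty (H ⧸ Cfsg.pCore 2 H ≃* Equiv.Perm (Fin 3)) ∨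
      ∃ (F : Type) (_ : Field F) (_ : Fintype F), Fintype.card F = 4 ∧
        Nonempty (H ⧸ Cfsg.pCore 2 H ≃* ↥(commutator ↥(Cfsg.SU 3 F 2))) := by
  classical
  obtain ⟨hset, ⟨d₀, hd₀, hDeq⟩, hgen⟩ := hE
  have hE' : Cfsg.IsThreeTranspositionClass E := ⟨hset, ⟨d₀, hd₀, hDeq⟩, hgen⟩
  obtain ⟨W, iW, fW, ρ, hρ⟩ := BRIDGE hE' hF
  obtain ⟨P, hPn, hPi⟩ := h232
  have hmemE : ∀ x, x ∈ E ↔ IsConj d₀ x := fun x => by rw [hDeq]; rfl
  have hconjE : ∀ g : H, ∀ x ∈ E, g * x * g⁻¹ ∈ E := by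
    intro g x hx
    rw [hmemE] at hx ⊢
    exact hx.trans (isConj_iff.mpr ⟨g, rfl⟩)
  have hTT : IsTT ((QuotientGroup.mk' (Cfsg.pCore 2 H)) '' E) := by
    refine ⟨?_, ?_, ?_, ?_, ?_⟩
    · rintro _ ⟨d, hd, rfl⟩
      have h2 : orderOf d = 2 := hset.1 d hd
      have : d * d = 1 := by
        have := pow_orderOf_eq_one d
        rw [h2, pow_two] at this
        exact this
      rw [← map_mul, this, map_one]
    · rintro _ ⟨d, hd, rfl⟩ g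
      obtain ⟨g, rfl⟩ := QuotientGroup.mk'_surjective (Cfsg.pCore 2 H) g
      refine ⟨g * d * g⁻¹, hconjE g d hd, ?_⟩
      rw [map_mul, map_mul, map_inv]
    · rintro _ ⟨d, hd, rfl⟩ _ ⟨e, he, rfl⟩
      rcases hset.2 d hd e he with h | h
      · left; rw [← map_mul, ← map_pow, h, map_one]
      · right; rw [← map_mul, ← map_pow, h, map_one]
    · rw [← MonoidHom.map_closure, hgen, ← MonoidHom.range_eq_map, MonoidHom.range_eq_top]
      exact QuotientGroup.mk'_surjective (Cfsg.pCore 2 H)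
    · rintro _ ⟨d, hd, rfl⟩ _ ⟨e, he, rfl⟩
      rw [hmemE] at hd he
      obtain ⟨g, hg⟩ := isConj_iff.mp (hd.symm.trans he)
      exact ⟨QuotientGroup.mk' (Cfsg.pCore 2 H) g, by rw [← map_inv, ← map_mul, ← map_mul, hg]⟩
  have hnt : ¬ IsPGroup 2 (H ⧸ Cfsg.pCore 2 H) := by
    intro h2
    have hVp : IsPGroup 2 (Cfsg.pCore 2 H) :=
      Sylow.sSup_of_normal _ (fun _ h => h.2) (fun _ h => h.1)
    have hH2 : IsPGroup 2 H := by
      obtain ⟨n, hn⟩ := IsPGroup.iff_card.mp hVp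
      obtain ⟨m, hm⟩ := IsPGroup.iff_card.mp h2
      apply IsPGroup.of_card (n := n + m)
      rw [← Subgroup.card_mul_index (Cfsg.pCore 2 H), hn, Subgroup.index_eq_card, hm, pow_add]
    have hcl : Subgroup.closure (conjugatesOf d₀) = ⊤ := by rw [← hDeq]; exact hgen
    have hz := CYC hH2 d₀ hcl
    have hcomm : ∀ x y : H, x * y = y * x := by
      intro x y
      have hx : x ∈ Subgroup.zpowers d₀ := by rw [hz]; trivial
      have hy : y ∈ Subgroup.zpowers d₀ := by rw [hz]; trivial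
      obtain ⟨i, rfl⟩ := Subgroup.mem_zpowers_iff.mp hx
      obtain ⟨j, rfl⟩ := Subgroup.mem_zpowers_iff.mp hy
      exact (Commute.zpow_zpow_self d₀ i j).eq
    obtain ⟨a, ha, b, hb, hab⟩ := hE2
    have hone : ∀ x ∈ E, x = d₀ := by
      intro x hx
      rw [hmemE] at hx
      obtain ⟨g, hg⟩ := isConj_iff.mp hx
      rw [← hg, hcomm g d₀, mul_assoc, mul_inv_cancel, mul_one]
    exact hab ((hone a ha).trans (hone b hb).symm)
  obtain ⟨C⟩ := CORE0 ((QuotientGroup.mk' (Cfsg.pCore 2 H)) '' E) hTT ρ hρ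
    (P : Subgroup (H ⧸ Cfsg.pCore 2 H)) hPn P.isPGroup' hPi hnt
  by_cases hZt : ∀ g ∈ C.Q, (∀ q ∈ C.Q, g * q = q * g) → C.t * g * C.t = g
  · right
    obtain ⟨y, hy, hyt, hync, hy2⟩ := CORE3a C hZt
    obtain ⟨y', hy', hyt', hz, hcyc⟩ := CORE3b C hZt y hy hyt hync hy2
    have h54 := CORE3c C hZt y hy hyt hy2 y' hy' hyt' hz hcyc
    obtain ⟨F, iF, iFt, hF4, hSU⟩ := SU54B
    exact ⟨F, iF, iFt, hF4, P54 h54 hSU⟩
  · left
    push Not at hZt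
    obtain ⟨g, hg, hgz, hgt⟩ := hZt
    exact CORE2 C g hg hgz hgt

end Cfsg.Agent.S5559P
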