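import Mathlib
import Cfsg.Prelude.Def_GeometricClasses
import Cfsg.Agent.Helper19.Mono.Defs
import Cfsg.Agent.Helper2.Transvec

/-! S5634 piece GENSL (driver helper19): a subgroup of `GL` containing the monomial matrices of
determinant one and one elementary transvection contains `SL`. -/

set_option autoImplicit false

namespace Cfsg.Agent.MonoP

open Matrix

variable {ι : Type} [Fintype ι] [DecidableEq ι] {K : Type*} [Field K] [Fintype K]

namespace GENSL

/-- all the transvections `E_{ab}(x)` lie in `M` -/
def AllE (M : Subgroup (GL ι K)) (a b : ι) : Prop :=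
  ∀ x : K, ∃ g ∈ M, (g : Matrix ι ι K) = Matrix.transvection a b x

/-- the basic commutation relation with a matrix having a prescribed column and row -/
theorem conj_aux (G : Matrix ι ι K) (a b a' b' : ι) (α β x y : K)
    (hcol : ∀ i, G i a = if i = a' then α else 0) (hrow : ∀ j, G b' j = if j = b then β else 0)
    (hy : y * β = α * x) :
    Matrix.transvection a' b' y * G = G * Matrix.transvection a b x := by
  unfold Matrix.transvection
  rw [add_mul, mul_add, one_mul, mul_one]
  congr 1
  ext i j
  rw [Matrix.mul_apply, Matrix.mul_apply]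
  have h1 : ∑ k, Matrix.single a' b' y i k * G k j = if i = a' then y * G b' j else 0 := by
    rw [Finset.sum_eq_single b']
    · by_cases hi : i = a'
      · subst hi; simp [Matrix.single_apply]
      · have : ¬ a' = i := fun h => hi h.symm
        simp [Matrix.single_apply, hi, this]
    · intro k _ hk
      have : ¬ b' = k := fun h => hk h.symm
      simp [Matrix.single_apply, this]
    · intro h; exact absurd (Finset.mem_univ _) h
  have h2 : ∑ k, G i k * Matrix.single a b x k j = if j = b then G i a * x else 0 := by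
    rw [Finset.sum_eq_single a]
    · by_cases hj : j = b
      · subst hj; simp [Matrix.single_apply]
      · have : ¬ b = j := fun h => hj h.symm
        simp [Matrix.single_apply, hj, this]
    · intro k _ hk
      have : ¬ a = k := fun h => hk h.symm
      simp [Matrix.single_apply, this]
    · intro h; exact absurd (Finset.mem_univ _) h
  rw [h1, h2, hrow, hcol]
  by_cases hi : i = a' <;> by_cases hj : j = b <;> simp [hi, hj, hy]

/-- transport of one transvection along a matrix of `M` -/
theorem conj_one (M : Subgroup (GL ι K)) (a b a' b' : ι) (G : GL ι K) (hG : G ∈ M)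
    (α β x y : K)
    (hcol : ∀ i, (G : Matrix ι ι K) i a = if i = a' then α else 0)
    (hrow : ∀ j, (G : Matrix ι ι K) b' j = if j = b then β else 0)
    (hy : y * β = α * x) (g : GL ι K) (hg : g ∈ M)
    (hgm : (g : Matrix ι ι K) = Matrix.transvection a b x) :
    ∃ g' ∈ M, (g' : Matrix ι ι K) = Matrix.transvection a' b' y := by
  refine ⟨G * g * G⁻¹, M.mul_mem (M.mul_mem hG hg) (M.inv_mem hG), ?_⟩
  have hc := conj_aux (G : Matrix ι ι K) a b a' b' α β x y hcol hrow hy
  rw [Units.val_mul, Units.val_mul, hgm, ← hc, Matrix.mul_assoc, ← Units.val_mul, mul_inv_cancel,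
    Units.val_one, Matrix.mul_one]

/-- transport of `AllE` along a matrix of `M` -/
theorem allE_of_conj (M : Subgroup (GL ι K)) (a b a' b' : ι) (G : GL ι K) (hG : G ∈ M)
    (α β : K) (hα : α ≠ 0) (hβ : β ≠ 0)
    (hcol : ∀ i, (G : Matrix ι ι K) i a = if i = a' then α else 0)
    (hrow : ∀ j, (G : Matrix ι ι K) b' j = if j = b then β else 0)
    (h : AllE M a b) : AllE M a' b' := by
  intro y
  obtain ⟨g, hg, hgm⟩ := h (α⁻¹ * y * β)
  exact conj_one M a b a' b' G hG α β (α⁻¹ * y * β) y hcol hrow (by field_simp) g hg hgm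

/-- the product of the entries of a doubly updated constant family -/
theorem prod_update2 (a c : ι) (hac : a ≠ c) (ρ σ : K) :
    ∏ i, Function.update (Function.update (fun _ : ι => (1 : K)) a ρ) c σ i = ρ * σ := by
  rw [Finset.prod_update_of_mem (Finset.mem_univ c)]
  have : ∏ x ∈ Finset.univ \ {c}, Function.update (fun _ : ι => (1 : K)) a ρ x = ρ := by
    rw [Finset.prod_update_of_mem (by simp [hac])]
    simp
  rw [this, mul_comm]

/-- the permutation matrix of `σ` as an element of `GL` -/
def pg (σ : Equiv.Perm ι) : GL ι K :=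
  ⟨σ.permMatrix K, σ⁻¹.permMatrix K, by rw [← Matrix.permMatrix_mul]; simp,
    by rw [← Matrix.permMatrix_mul]; simp⟩

theorem mono_apply (σ : Equiv.Perm ι) (d : ι → Kˣ) (i j : ι) :
    ((dg d * pg σ : GL ι K) : Matrix ι ι K) i j = if σ i = j then ((d i : Kˣ) : K) else 0 := by
  rw [Units.val_mul, dg_val]
  show (Matrix.diagonal (fun i => ((d i : Kˣ) : K)) * σ.permMatrix K) i j = _
  rw [Matrix.diagonal_mul]
  simp only [Equiv.Perm.permMatrix, PEquiv.toMatrix_apply, Equiv.toPEquiv_apply, Option.mem_def,
    Option.some.injEq]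
  split_ifs <;> simp

theorem mono_isMono (σ : Equiv.Perm ι) (d : ι → Kˣ) :
    IsMono ((dg d * pg σ : GL ι K) : Matrix ι ι K) := by
  refine ⟨σ⁻¹, fun i j hij => ?_⟩
  rw [mono_apply, if_neg]
  intro h
  apply hij
  rw [← h]
  simp

theorem mono_det (σ : Equiv.Perm ι) (d : ι → Kˣ) :
    ((dg d * pg σ : GL ι K) : Matrix ι ι K).det =
      (∏ i, ((d i : Kˣ) : K)) * ((Equiv.Perm.sign σ : ℤˣ) : ℤ) := by
  rw [Units.val_mul, Matrix.det_mul, dg_val, Matrix.det_diagonal]
  show _ * (σ.permMatrix K).det = _
  rw [Matrix.det_permutation]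

/-- the signed swap: `-1` at `c` times the transposition of `p` and `q` -/
theorem swap_mem (M : Subgroup (GL ι K)) (hmon : MonoSLE M) (p q c : ι) (hpq : p ≠ q) :
    (dg (Function.update (fun _ => (1 : Kˣ)) c (-1)) * pg (Equiv.swap p q) : GL ι K) ∈ M := by
  apply hmon _ (mono_isMono _ _)
  rw [mono_det, Equiv.Perm.sign_swap hpq]
  have : ∏ i, (((Function.update (fun _ => (1 : Kˣ)) c (-1)) i : Kˣ) : K) = -1 := by
    have h1 : ∀ i, (((Function.update (fun _ => (1 : Kˣ)) c (-1)) i : Kˣ) : K) =
        Function.update (fun _ : ι => (1 : K)) c (-1) i := by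
      intro i
      by_cases hi : i = c
      · subst hi; simp
      · simp [Function.update_of_ne hi]
    simp only [h1]
    rw [Finset.prod_update_of_mem (Finset.mem_univ c)]
    simp
  rw [this]
  simp

/-- the entries of the signed swap -/
theorem swap_apply' (p q c i j : ι) :
    ((dg (Function.update (fun _ => (1 : Kˣ)) c (-1)) * pg (Equiv.swap p q) : GL ι K) :
      Matrix ι ι K) i j =
      if Equiv.swap p q i = j then (if i = c then (-1 : K) else 1) else 0 := by
  rw [mono_apply]
  by_cases hi : i = c
  · subst hi; simp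
  · simp [Function.update_of_ne hi, hi]

/-- changing the row index of the transvections -/
theorem stepA (M : Subgroup (GL ι K)) (hmon : MonoSLE M) {a b a' : ι} (h : AllE M a b)
    (hab : a ≠ b) (h1 : a' ≠ a) (h2 : a' ≠ b) : AllE M a' b := by
  refine allE_of_conj M a b a' b _ (swap_mem M hmon a a' b h1.symm) 1 (-1) one_ne_zero
    (neg_ne_zero.2 one_ne_zero) ?_ ?_ h
  · intro i
    rw [swap_apply']
    by_cases hi : i = a'
    · subst hi
      rw [Equiv.swap_apply_right, if_pos rfl, if_neg h2, if_pos rfl]
    · rw [if_neg hi, if_neg]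
      intro h3
      apply hi
      apply (Equiv.swap a a').injective
      rw [h3, Equiv.swap_apply_right]
  · intro j
    rw [swap_apply', Equiv.swap_apply_of_ne_of_ne hab.symm h2.symm, if_pos rfl]
    by_cases hj : j = b
    · subst hj; simp
    · have : ¬ b = j := fun h => hj h.symm
      simp [hj, this]

/-- changing the column index of the transvections -/
theorem stepB (M : Subgroup (GL ι K)) (hmon : MonoSLE M) {a b b' : ι} (h : AllE M a b)
    (hab : a ≠ b) (h1 : b' ≠ a) (h2 : b' ≠ b) : AllE M a b' := by
  refine allE_of_conj M a b a b' _ (swap_mem M hmon b b' a h2.symm) (-1) 1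
    (neg_ne_zero.2 one_ne_zero) one_ne_zero ?_ ?_ h
  · intro i
    rw [swap_apply']
    by_cases hi : i = a
    · subst hi
      rw [Equiv.swap_apply_of_ne_of_ne hab h1.symm, if_pos rfl, if_pos rfl, if_pos rfl]
    · have h4 : ¬ Equiv.swap b b' i = a := by
        intro h3
        apply hi
        apply (Equiv.swap b b').injective
        rw [h3, Equiv.swap_apply_of_ne_of_ne hab h1.symm]
      rw [if_neg h4, if_neg hi]
  · intro j
    rw [swap_apply', Equiv.swap_apply_right, if_neg h1]
    by_cases hj : j = b
    · subst hj; simp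
    · have : ¬ b = j := fun h => hj h.symm
      simp [hj, this]

/-- a third index -/
theorem exists_third (hι : 3 ≤ Fintype.card ι) (a b : ι) : ∃ c : ι, c ≠ a ∧ c ≠ b := by
  by_contra hne
  push Not at hne
  have hsub : (Finset.univ : Finset ι) ⊆ {a, b} := by
    intro x _
    by_cases hx : x = a
    · simp [hx]
    · simp [hne x hx]
  have h1 := Finset.card_le_card hsub
  have h2 : ({a, b} : Finset ι).card ≤ 2 := Finset.card_le_two
  rw [Finset.card_univ] at h1
  omega

/-- all the elementary transvections lie in `M` -/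
theorem allE_all (hι : 3 ≤ Fintype.card ι) (M : Subgroup (GL ι K)) (hmon : MonoSLE M) {a b : ι}
    (hab : a ≠ b) (h : AllE M a b) (i j : ι) (hij : i ≠ j) : AllE M i j := by
  by_cases hib : i = b
  · subst hib
    by_cases hja : j = a
    · subst hja
      obtain ⟨c, hca, hcb⟩ := exists_third hι j i
      have h1 : AllE M c i := stepA M hmon h hab hca hcb
      have h2 : AllE M c j := stepB M hmon h1 hcb hca.symm hab
      exact stepA M hmon h2 hca hcb.symm hab.symm
    · have h1 : AllE M a j := stepB M hmon h hab hja (Ne.symm hij)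
      exact stepA M hmon h1 (Ne.symm hja) hab.symm hij
  · have h1 : AllE M i b := by
      by_cases hia : i = a
      · subst hia; exact h
      · exact stepA M hmon h hab hia hib
    by_cases hjb : j = b
    · subst hjb; exact h1
    · exact stepB M hmon h1 hib (Ne.symm hij) hjb

/-- scaling: one transvection gives the whole root group -/
theorem allE_of_hasE (hι : 3 ≤ Fintype.card ι) (M : Subgroup (GL ι K)) (hmon : MonoSLE M)
    (hE : HasE M) : ∃ a b : ι, a ≠ b ∧ AllE M a b := by
  obtain ⟨a, b, hab, ξ, hξ, g, hg, hgm⟩ := hE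
  refine ⟨a, b, hab, fun x => ?_⟩
  by_cases hx : x = 0
  · refine ⟨1, M.one_mem, ?_⟩
    rw [hx, Matrix.transvection_zero]
    rfl
  · obtain ⟨c, hca, hcb⟩ := exists_third hι a b
    set ρ : Kˣ := Units.mk0 (x * ξ⁻¹) (mul_ne_zero hx (inv_ne_zero hξ)) with hρ
    have hGmem : d2 a c ρ ∈ M := by
      apply hmon
      · refine ⟨1, fun i j hij => ?_⟩
        show ((dg _ : GL ι K) : Matrix ι ι K) i j = 0
        have hij' : i ≠ j := by simpa using hij
        rw [dg_val, Matrix.diagonal_apply_ne _ hij']
      · show ((dg _ : GL ι K) : Matrix ι ι K).det = 1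
        rw [dg_val, Matrix.det_diagonal]
        have h1 : ∀ i, (((Function.update (Function.update (fun _ => (1 : Kˣ)) a ρ) c ρ⁻¹) i : Kˣ) : K)
            = Function.update (Function.update (fun _ : ι => (1 : K)) a (ρ : K)) c ((ρ⁻¹ : Kˣ) : K) i := by
          intro i
          by_cases hi : i = c
          · subst hi; simp
          · by_cases hi' : i = a
            · subst hi'; simp [Function.update_of_ne hi]
            · simp [Function.update_of_ne hi, Function.update_of_ne hi']
        simp only [h1]
        rw [prod_update2 a c hca.symm]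
        simp
    refine conj_one M a b a b (d2 a c ρ) hGmem (ρ : K) 1 ξ x ?_ ?_ ?_ g hg hgm
    · intro i
      show ((dg _ : GL ι K) : Matrix ι ι K) i a = _
      rw [dg_val, Matrix.diagonal_apply]
      by_cases hi : i = a
      · subst hi
        simp [Function.update_of_ne hca.symm]
      · simp [hi]
    · intro j
      show ((dg _ : GL ι K) : Matrix ι ι K) b j = _
      rw [dg_val, Matrix.diagonal_apply]
      by_cases hj : j = b
      · subst hj
        simp [Function.update_of_ne hcb.symm, Function.update_of_ne hab.symm]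
      · have : ¬ b = j := fun h => hj h.symm
        simp [hj, this]
    · rw [hρ, Units.val_mk0, mul_one, mul_assoc, inv_mul_cancel₀ hξ, mul_one]

end GENSL

/-- GENSL (M-L): `M ⊇ N` with one elementary transvection contains `SL`.  From `E_{ab}(ξ) ∈ M`: conjugating by `d2 a c ρ`
(`c ∉ {a,b}`) gives `E_{ab}(ρ ξ)`, so all `E_{ab}(x)`, `x ∈ K` (`x = (x/ξ) ξ`); conjugating by monomial matrices of determinant one
(a permutation matrix with one sign changed if odd) gives all `E_{a'b'}(x)`; conclude with
`Cfsg.Agent.Helper2.SL_transvection_induction` (module `Cfsg.Agent.Helper2.Transvec`) as in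
`Cfsg.Agent.Helper28.SLMax.SL_le_of_transvections`. -/
theorem GENSL.le (hK : 4 ≤ Fintype.card K) (hι : 3 ≤ Fintype.card ι) (M : Subgroup (GL ι K))
    (hmon : MonoSLE M) (hE : HasE M) : Cfsg.Geo.specialLinear ι K ≤ M := by
  obtain ⟨a, b, hab, hall⟩ := GENSL.allE_of_hasE hι M hmon hE
  have hAll := GENSL.allE_all hι M hmon hab hall
  have : Nontrivial ι := by
    rw [← Fintype.one_lt_card_iff_nontrivial]; omega
  intro A hA
  have hdet : (A : Matrix ι ι K).det = 1 := by
    have h1 : Matrix.GeneralLinearGroup.det A = 1 := hA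
    have h2 := congrArg Units.val h1
    simpa using h2
  have key : ∀ B : Matrix.SpecialLinearGroup ι K, Matrix.SpecialLinearGroup.toGL B ∈ M := by
    intro B
    refine Cfsg.Agent.Helper2.SL_transvection_induction
      (fun B => Matrix.SpecialLinearGroup.toGL B ∈ M) ?_ ?_ B
    · intro i j hij c
      obtain ⟨g, hg, hgm⟩ := hAll i j hij c
      convert hg using 1
      apply Units.ext
      rw [hgm]
      show ((Matrix.SpecialLinearGroup.transvection hij c : Matrix.SpecialLinearGroup ι K) :
        Matrix ι ι K) = _
      rw [Matrix.SpecialLinearGroup.transvection_coe]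
      rfl
    · intro A B hA hB
      rw [map_mul]
      exact M.mul_mem hA hB
  have := key ⟨(A : Matrix ι ι K), hdet⟩
  convert this using 1
  apply Units.ext
  rfl

end Cfsg.Agent.MonoP
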