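import Cfsg.Agent.Helper24.S5637.Defs

/-! S5637 piece GENSL (driver helper24): a subgroup of `GL` containing the pure transvections
`EE (u ⊗ w) (μ ⊗ ψ)` with `ψ w = 0` or `μ u = 0` contains `SL`. -/

set_option autoImplicit false
set_option linter.unusedSectionVars false
set_option linter.unusedVariables false

namespace Cfsg.Agent.S5637P

open Matrix Kronecker Cfsg.Agent.Helper28.SLMax Cfsg.Agent.S5634P
open scoped MatrixGroups

variable {F : Type*} [Field F] {n a b : ℕ} (e : Fin n ≃ Fin a × Fin b)

/-- the elementary transvection `E_{ij}(c)` as an `EE` of pure tensors -/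
theorem GENSL.single_eq (i : Fin n) (c : F) :
    (Pi.single i c : Fin n → F) = tn e (Pi.single (e i).1 c) (Pi.single (e i).2 1) := by
  rw [tn_single, mul_one]
  congr 1
  exact (e.symm_apply_apply i).symm

/-- GENSL (S-M). For `p ≠ q`: `EE (Pi.single p c) (Pi.single q 1)` is `EE (tn ..) (tn ..)` by `tn_single`
(`e p = (i, j)`, `e q = (i', j')`, `i ≠ i'` or `j ≠ j'`); then copy the proof of
`Cfsg.Agent.Helper28.SLMax.SL_le_of_transvections` (`Helper2.SL_transvection_induction`). -/
theorem GENSL (hn : 2 ≤ n) (M : Subgroup (GL (Fin n) F))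
    (h1 : ∀ (u μ : Fin a → F) (w ψ : Fin b → F), ψ ⬝ᵥ w = 0 → EE (tn e u w) (tn e μ ψ) ∈ M)
    (h2 : ∀ (u μ : Fin a → F) (w ψ : Fin b → F), μ ⬝ᵥ u = 0 → EE (tn e u w) (tn e μ ψ) ∈ M) :
    Cfsg.Geo.specialLinear (Fin n) F ≤ M := by
  classical
  have : Nontrivial (Fin n) := Fin.nontrivial_iff_two_le.mpr hn
  intro A hA
  rw [mem_SL_iff] at hA
  have key : ∀ B : Matrix.SpecialLinearGroup (Fin n) F, Matrix.SpecialLinearGroup.toGL B ∈ M := by
    intro B
    refine Cfsg.Agent.Helper2.SL_transvection_induction
      (fun B => Matrix.SpecialLinearGroup.toGL B ∈ M) ?_ ?_ B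
    · intro i j hij c
      have h0 : (Pi.single j (1 : F) : Fin n → F) ⬝ᵥ (Pi.single i c : Fin n → F) = 0 := by
        rw [single_dotProduct, Pi.single_apply, if_neg hij.symm, mul_zero]
      have hmem : EE (Pi.single i c : Fin n → F) (Pi.single j (1 : F)) ∈ M := by
        rw [GENSL.single_eq e i c, GENSL.single_eq e j 1]
        by_cases h2' : (e i).2 = (e j).2
        · have h1' : (e i).1 ≠ (e j).1 := by
            intro h1'
            apply hij
            apply e.injective
            exact Prod.ext h1' h2'
          apply h2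
          rw [single_dotProduct, Pi.single_apply, if_neg (Ne.symm h1'), mul_zero]
        · apply h1
          rw [single_dotProduct, Pi.single_apply, if_neg (fun h => h2' h.symm), mul_zero]
      rw [EE_eq_Eg h0] at hmem
      convert hmem using 1
      apply Units.ext
      show ((Matrix.SpecialLinearGroup.transvection hij c : Matrix.SpecialLinearGroup (Fin n) F) :
        Matrix (Fin n) (Fin n) F) = E _ _
      rw [Matrix.SpecialLinearGroup.transvection_coe, E]
      congr 1
      ext k l
      simp only [Matrix.single_apply, Matrix.vecMulVec_apply, Pi.single_apply]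
      by_cases hk : k = i <;> by_cases hl : l = j
      · subst hk; subst hl; simp
      · subst hk
        have : ¬ (j = l) := fun h => hl h.symm
        simp [hl, this]
      · subst hl
        have : ¬ (i = k) := fun h => hk h.symm
        simp [hk, this]
      · have h1 : ¬ (i = k) := fun h => hk h.symm
        simp [hk, h1]
    · intro A B hA hB
      rw [map_mul]
      exact M.mul_mem hA hB
  have := key ⟨(A : Matrix (Fin n) (Fin n) F), hA⟩
  convert this using 1
  apply Units.ext
  rfl

end Cfsg.Agent.S5637P
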