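import Cfsg.Agent.Helper24.S5637.Defs

/-! S5637 piece PROPER (driver helper24): a pure transvection lies in `SL` and is not a Kronecker
product. -/

set_option autoImplicit false
set_option linter.unusedSectionVars false
set_option linter.unusedVariables false

namespace Cfsg.Agent.S5637P

open Matrix Kronecker Cfsg.Agent.Helper28.SLMax Cfsg.Agent.S5634P
open scoped MatrixGroups

variable {F : Type*} [Field F] {n a b : ℕ} (e : Fin n ≃ Fin a × Fin b)

/-- PROPER (S-M). The transvection `T = EE (tn e u w) (tn e μ ψ)` with `u = e₀, μ = e₁, w = ψ = e₀`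
is in `SL` (`EE.mem_SL`, `tn_dot`) and not a Kronecker product: if `T = krg A B`, apply both sides to
`tn e u w'` (all `w'`): `tn u w' = tn (A u) (B w')`, so `B` is scalar; then apply to `tn e u' w'` with
`μ u' = 1`, `w' = e₁` (fixed by `T`) and `w' = e₀` (moved by `T`): contradiction. -/
theorem PROPER (ha : 2 ≤ a) (hb : 2 ≤ b) :
    ∃ g : GL (Fin n) F, g ∈ Cfsg.Geo.specialLinear (Fin n) F ∧ g ∉ Kr e := by
  classical
  set i0 : Fin a := ⟨0, by omega⟩ with hi0
  set i1 : Fin a := ⟨1, by omega⟩ with hi1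
  set j0 : Fin b := ⟨0, by omega⟩ with hj0
  set j1 : Fin b := ⟨1, by omega⟩ with hj1
  have hi : i0 ≠ i1 := by
    intro h
    have := congrArg Fin.val h
    simp [hi0, hi1] at this
  have hj : j0 ≠ j1 := by
    intro h
    have := congrArg Fin.val h
    simp [hj0, hj1] at this
  set u : Fin a → F := Pi.single i0 1 with hu
  set μ : Fin a → F := Pi.single i1 1 with hμ
  set w : Fin b → F := Pi.single j0 1 with hw
  set μ' : Fin b → F := Pi.single j1 1 with hμ'
  have hμu : μ ⬝ᵥ u = 0 := by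
    rw [hμ, hu, single_dotProduct, Pi.single_apply, if_neg hi.symm, mul_zero]
  have h0 : tn e μ w ⬝ᵥ tn e u w = 0 := by rw [tn_dot, hμu, zero_mul]
  refine ⟨EE (tn e u w) (tn e μ w), EE.mem_SL h0, ?_⟩
  rintro ⟨A, B, hAB⟩
  have H : ∀ (u' : Fin a → F) (w' : Fin b → F),
      tn e u' w' + ((μ ⬝ᵥ u') * (w ⬝ᵥ w')) • tn e u w =
        tn e ((A : Matrix (Fin a) (Fin a) F) *ᵥ u') ((B : Matrix (Fin b) (Fin b) F) *ᵥ w') := by
    intro u' w'
    rw [← krg_mulVec_tn, ← hAB, EE_mulVec0 h0, tn_dot]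
  -- evaluate at coordinates
  have ev : ∀ (x : Fin a → F) (y : Fin b → F) (i : Fin a) (j : Fin b),
      tn e x y (e.symm (i, j)) = x i * y j := by
    intro x y i j
    rw [tn_apply, Equiv.apply_symm_apply]
  have hμμ : μ ⬝ᵥ μ = 1 := by
    rw [hμ, single_dotProduct, Pi.single_apply, if_pos rfl, mul_one]
  have hwμ' : w ⬝ᵥ μ' = 0 := by
    rw [hw, hμ', single_dotProduct, Pi.single_apply, if_neg hj, mul_zero]
  have hww : w ⬝ᵥ w = 1 := by
    rw [hw, single_dotProduct, Pi.single_apply, if_pos rfl, mul_one]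
  -- first relation: `T` fixes `e_{i1} ⊗ e_{j1}`
  have R1 := H μ μ'
  rw [hμμ, hwμ', mul_zero, zero_smul, add_zero] at R1
  -- second relation
  have R2 := H μ w
  rw [hμμ, hww, mul_one, one_smul] at R2
  set x := (A : Matrix (Fin a) (Fin a) F) *ᵥ μ with hx
  have c1 := congrFun R1 (e.symm (i0, j1))
  have c2 := congrFun R1 (e.symm (i1, j1))
  have c3 := congrFun R2 (e.symm (i0, j0))
  rw [ev, ev] at c1 c2
  rw [Pi.add_apply, ev, ev, ev] at c3
  have e1 : μ i0 = 0 := by rw [hμ, Pi.single_apply, if_neg hi]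
  have e2 : μ i1 = 1 := by rw [hμ, Pi.single_apply, if_pos rfl]
  have e3 : μ' j1 = 1 := by rw [hμ', Pi.single_apply, if_pos rfl]
  have e4 : u i0 = 1 := by rw [hu, Pi.single_apply, if_pos rfl]
  have e5 : w j0 = 1 := by rw [hw, Pi.single_apply, if_pos rfl]
  rw [e1, e3, zero_mul] at c1
  rw [e2, e3, one_mul] at c2
  rw [e1, e4, e5, zero_mul, zero_add, one_mul] at c3
  -- c1 : 0 = x i0 * (B μ') j1 ; c2 : 1 = x i1 * (B μ') j1 ; c3 : 1 = x i0 * (B w) j0
  have hB : ((B : Matrix (Fin b) (Fin b) F) *ᵥ μ') j1 ≠ 0 := by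
    intro hz
    rw [hz, mul_zero] at c2
    exact one_ne_zero c2
  have hx0 : x i0 = 0 := by
    rcases mul_eq_zero.1 c1.symm with h | h
    · exact h
    · exact absurd h hB
  rw [hx0, zero_mul] at c3
  exact one_ne_zero c3

end Cfsg.Agent.S5637P
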