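import Mathlib
import Cfsg.Prelude.Def_GeometricClasses
import Cfsg.Agent.Helper29.S5655.Defs
import Cfsg.Agent.Helper28.HermFrame

/-! # S5655 (half k ≥ 2) piece FRM (helper14): an orthonormal basis of a nondegenerate subspace. -/

set_option autoImplicit false

namespace Cfsg.Agent.S5655P

open Matrix Module
open Cfsg.Agent.S2644 Cfsg.Agent.Helper2.SUGen Cfsg.Agent.Helper28.SimMax Cfsg.Agent.S5658P

variable {K : Type*} [Field K] {q n t k : ℕ}

local notation "h" => Cfsg.hermForm n K q
local notation "T" => Cfsg.unitaryTransvection n q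

/-- piece FRM: an orthonormal basis of a nondegenerate subspace
(`Cfsg.Agent.Helper28.HermFrame.exists_frame`, `hB_eq_herm`) -/
theorem FRM.exists [Fintype K] (D : Frob K q) (hK : Fintype.card K = q ^ 2)
    {Y : Submodule K (Fin n → K)} (hY : NonDeg q Y) {d : ℕ} (hd : finrank K Y = d) :
    ∃ x : Fin d → (Fin n → K), (∀ j, x j ∈ Y) ∧ (∀ i j, h (x i) (x j) = if i = j then 1 else 0) ∧
      ∀ y ∈ Y, y = ∑ j, h y (x j) • x j := by
  classical
  have hE : ∀ u v : Fin n → K, Cfsg.Agent.Helper28.HermFrame.hB D.σ n u v = h v u :=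
    fun u v => Cfsg.Agent.Helper28.HermFrame.hB_eq_herm D.σ D.pow n u v
  obtain ⟨x, -, hxY, -, hxx, -⟩ := Cfsg.Agent.Helper28.HermFrame.exists_frame D.σ D.ne_id D.invol n d Y hd
    (by
      intro u hu hu0
      apply hY u hu
      intro v hv
      rw [← hE]
      exact hu0 v hv)
  have hon : ∀ i j, h (x i) (x j) = if i = j then 1 else 0 := by
    intro i j
    rw [← hE, hxx j i]
    by_cases hij : i = j
    · rw [if_pos hij, if_pos hij.symm]
    · rw [if_neg hij, if_neg (fun hh => hij hh.symm)]
  -- coefficient extraction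
  have hcoef : ∀ (c : Fin d → K) (i : Fin d), h (∑ j, c j • x j) (x i) = c i := by
    intro c i
    rw [← hE, map_sum]
    rw [Finset.sum_eq_single i]
    · rw [map_smul, hE, hon i i, if_pos rfl, smul_eq_mul, mul_one]
    · intro j _ hji
      rw [map_smul, hE, hon j i, if_neg hji, smul_zero]
    · intro hi
      exact absurd (Finset.mem_univ _) hi
  set x' : Fin d → Y := fun j => ⟨x j, hxY j⟩ with hx'
  have hli : LinearIndependent K x' := by
    rw [Fintype.linearIndependent_iff]
    intro g hg i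
    have h1 : ∑ j, g j • x j = 0 := by
      have := congrArg (Subtype.val) hg
      simpa [hx'] using this
    have h2 := hcoef g i
    rw [h1] at h2
    rw [← h2]
    exact Cfsg.Agent.Helper2.SUGen.h_zero_left _
  have hcard : Fintype.card (Fin d) = finrank K Y := by rw [hd, Fintype.card_fin]
  have hsp : ⊤ ≤ Submodule.span K (Set.range x') :=
    (hli.span_eq_top_of_card_eq_finrank' hcard).ge
  set b := Basis.mk hli hsp with hb
  refine ⟨x, hxY, hon, ?_⟩
  intro y hy
  have h3 : (⟨y, hy⟩ : Y) = ∑ j, b.repr ⟨y, hy⟩ j • b j := (b.sum_repr ⟨y, hy⟩).symm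
  have h4 : y = ∑ j, b.repr ⟨y, hy⟩ j • x j := by
    have := congrArg (Subtype.val) h3
    simpa [hb, hx'] using this
  have h5 : ∀ i, h y (x i) = b.repr ⟨y, hy⟩ i := by
    intro i
    conv_lhs => rw [h4]
    exact hcoef _ i
  conv_lhs => rw [h4]
  apply Finset.sum_congr rfl
  intro j _
  rw [h5]

end Cfsg.Agent.S5655P
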