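import Mathlib
import Cfsg.Agent.Helper7.S5655.Defs
import Cfsg.Agent.Helper7.S5655.MonoLib
import Cfsg.Agent.Helper7.S5655.Defs2
import Cfsg.Agent.Helper5.S5655MU
import Cfsg.Agent.Lead.S5655SUMSET

/-! # S5655 (k = 1) piece TTSOLVE (helper14): the trace trick equation `h (n4 u) u = 0` is solvable. -/

set_option autoImplicit false

namespace Cfsg.Agent.S5655K1

open Matrix
open Cfsg.Agent.S2644 Cfsg.Agent.Helper2.SUGen Cfsg.Agent.Helper28.SimMax Cfsg.Agent.MonoP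

variable {K : Type*} [Field K] {q n : ℕ}

local notation "h" => Cfsg.hermForm n K q
local notation "T" => Cfsg.unitaryTransvection n q


/-- coordinates of `n4 *ᵥ x` outside the eight indices -/
theorem TTSOLVE.n4_other (r r' : Fin 4 → Fin n) (t : Fin 4 → K) (x : Fin n → K) (k : Fin n)
    (hk : ∀ i, k ≠ r i) (hk' : ∀ i, k ≠ r' i) : (n4 r r' t *ᵥ x) k = x k := by
  unfold n4
  rw [← Matrix.mulVec_mulVec, ← Matrix.mulVec_mulVec, ← Matrix.mulVec_mulVec,
    tsw_mulVec_of_ne _ _ (hk 0) (hk' 0), tsw_mulVec_of_ne _ _ (hk 1) (hk' 1),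
    tsw_mulVec_of_ne _ _ (hk 2) (hk' 2), tsw_mulVec_of_ne _ _ (hk 3) (hk' 3)]

/-- coordinates of `n4 *ᵥ x` at `r i` -/
theorem TTSOLVE.n4_r (r r' : Fin 4 → Fin n) (hr : Function.Injective r) (hr' : Function.Injective r')
    (hrr' : ∀ i j, r i ≠ r' j) (t : Fin 4 → K) (x : Fin n → K) (i : Fin 4) :
    (n4 r r' t *ᵥ x) (r i) = (t i)⁻¹ * x (r' i) := by
  have hne : ∀ i j : Fin 4, i ≠ j → r i ≠ r j := fun i j hij => hr.ne hij
  have hne' : ∀ i j : Fin 4, i ≠ j → r' i ≠ r' j := fun i j hij => hr'.ne hij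
  have hrr'2 : ∀ i j, r' i ≠ r j := fun i j => (hrr' j i).symm
  unfold n4
  rw [← Matrix.mulVec_mulVec, ← Matrix.mulVec_mulVec, ← Matrix.mulVec_mulVec]
  fin_cases i
  · simp only [Fin.zero_eta]
    rw [tsw_mulVec_a,
      tsw_mulVec_of_ne _ _ (hrr'2 0 1) (hne' 0 1 (by decide)),
      tsw_mulVec_of_ne _ _ (hrr'2 0 2) (hne' 0 2 (by decide)),
      tsw_mulVec_of_ne _ _ (hrr'2 0 3) (hne' 0 3 (by decide))]
  · simp only [Fin.mk_one]
    rw [tsw_mulVec_of_ne _ _ (hne 1 0 (by decide)) (hrr' 1 0), tsw_mulVec_a,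
      tsw_mulVec_of_ne _ _ (hrr'2 1 2) (hne' 1 2 (by decide)),
      tsw_mulVec_of_ne _ _ (hrr'2 1 3) (hne' 1 3 (by decide))]
  · simp only [Fin.reduceFinMk]
    rw [tsw_mulVec_of_ne _ _ (hne 2 0 (by decide)) (hrr' 2 0),
      tsw_mulVec_of_ne _ _ (hne 2 1 (by decide)) (hrr' 2 1), tsw_mulVec_a,
      tsw_mulVec_of_ne _ _ (hrr'2 2 3) (hne' 2 3 (by decide))]
  · simp only [Fin.reduceFinMk]
    rw [tsw_mulVec_of_ne _ _ (hne 3 0 (by decide)) (hrr' 3 0),
      tsw_mulVec_of_ne _ _ (hne 3 1 (by decide)) (hrr' 3 1),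
      tsw_mulVec_of_ne _ _ (hne 3 2 (by decide)) (hrr' 3 2), tsw_mulVec_a]

/-- coordinates of `n4 *ᵥ x` at `r' i` -/
theorem TTSOLVE.n4_r' (r r' : Fin 4 → Fin n) (hr : Function.Injective r) (hr' : Function.Injective r')
    (hrr' : ∀ i j, r i ≠ r' j) (t : Fin 4 → K) (x : Fin n → K) (i : Fin 4) :
    (n4 r r' t *ᵥ x) (r' i) = t i * x (r i) := by
  have hne : ∀ i j : Fin 4, i ≠ j → r i ≠ r j := fun i j hij => hr.ne hij
  have hne' : ∀ i j : Fin 4, i ≠ j → r' i ≠ r' j := fun i j hij => hr'.ne hij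
  have hrr'2 : ∀ i j, r' i ≠ r j := fun i j => (hrr' j i).symm
  unfold n4
  rw [← Matrix.mulVec_mulVec, ← Matrix.mulVec_mulVec, ← Matrix.mulVec_mulVec]
  fin_cases i
  · simp only [Fin.zero_eta]
    rw [tsw_mulVec_b (hrr' 0 0),
      tsw_mulVec_of_ne _ _ (hne 0 1 (by decide)) (hrr' 0 1),
      tsw_mulVec_of_ne _ _ (hne 0 2 (by decide)) (hrr' 0 2),
      tsw_mulVec_of_ne _ _ (hne 0 3 (by decide)) (hrr' 0 3)]
  · simp only [Fin.mk_one]
    rw [tsw_mulVec_of_ne _ _ (hrr'2 1 0) (hne' 1 0 (by decide)), tsw_mulVec_b (hrr' 1 1),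
      tsw_mulVec_of_ne _ _ (hne 1 2 (by decide)) (hrr' 1 2),
      tsw_mulVec_of_ne _ _ (hne 1 3 (by decide)) (hrr' 1 3)]
  · simp only [Fin.reduceFinMk]
    rw [tsw_mulVec_of_ne _ _ (hrr'2 2 0) (hne' 2 0 (by decide)),
      tsw_mulVec_of_ne _ _ (hrr'2 2 1) (hne' 2 1 (by decide)), tsw_mulVec_b (hrr' 2 2),
      tsw_mulVec_of_ne _ _ (hne 2 3 (by decide)) (hrr' 2 3)]
  · simp only [Fin.reduceFinMk]
    rw [tsw_mulVec_of_ne _ _ (hrr'2 3 0) (hne' 3 0 (by decide)),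
      tsw_mulVec_of_ne _ _ (hrr'2 3 1) (hne' 3 1 (by decide)),
      tsw_mulVec_of_ne _ _ (hrr'2 3 2) (hne' 3 2 (by decide)), tsw_mulVec_b (hrr' 3 3)]

open scoped Classical in
/-- the trace formula for `h (n4 *ᵥ u) u` -/
theorem TTSOLVE.h_n4 (D : Frob K q) (r r' : Fin 4 → Fin n) (hr : Function.Injective r)
    (hr' : Function.Injective r') (hrr' : ∀ i j, r i ≠ r' j) (t : Fin 4 → K) (ht : ∀ i, IsU D (t i))
    (u : Fin n → K) :
    h (n4 r r' t *ᵥ u) u =
      (∑ k ∈ Finset.univ \ (Finset.univ.image r ∪ Finset.univ.image r'), nm D (u k)) +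
      ∑ i, (t i * (u (r i) * D.σ (u (r' i))) + D.σ (t i * (u (r i) * D.σ (u (r' i))))) := by
  rw [h_apply_sigma D]
  rw [← Finset.sum_sdiff (Finset.subset_univ (Finset.univ.image r ∪ Finset.univ.image r'))]
  congr 1
  · apply Finset.sum_congr rfl
    intro k hk
    rw [Finset.mem_sdiff, Finset.mem_union, Finset.mem_image, Finset.mem_image] at hk
    have hk1 : ∀ i, k ≠ r i := by
      intro i hki
      exact hk.2 (Or.inl ⟨i, Finset.mem_univ _, hki.symm⟩)
    have hk2 : ∀ i, k ≠ r' i := by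
      intro i hki
      exact hk.2 (Or.inr ⟨i, Finset.mem_univ _, hki.symm⟩)
    rw [TTSOLVE.n4_other r r' t u k hk1 hk2]
    rfl
  · have hdisj : Disjoint (Finset.univ.image r) (Finset.univ.image r') := by
      rw [Finset.disjoint_left]
      intro k hk hk'
      rw [Finset.mem_image] at hk hk'
      obtain ⟨i, _, rfl⟩ := hk
      obtain ⟨j, _, hj⟩ := hk'
      exact hrr' i j hj.symm
    rw [Finset.sum_union hdisj, Finset.sum_image (fun a _ b _ hab => hr hab),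
      Finset.sum_image (fun a _ b _ hab => hr' hab), ← Finset.sum_add_distrib]
    apply Finset.sum_congr rfl
    intro i _
    rw [TTSOLVE.n4_r r r' hr hr' hrr', TTSOLVE.n4_r' r r' hr hr' hrr', map_mul, map_mul, D.invol,
      IsU.sigma D (ht i)]
    ring

/-- norms are fixed by `σ` -/
theorem TTSOLVE.sigma_nm (D : Frob K q) (x : K) : D.σ (nm D x) = nm D x := by
  unfold nm
  rw [map_mul, D.invol, mul_comm]

/-- traces are fixed by `σ` -/
theorem TTSOLVE.sigma_tr (D : Frob K q) (x : K) : D.σ (x + D.σ x) = x + D.σ x := by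
  rw [map_add, D.invol, add_comm]

/-- TTSOLVE (M): the trace trick. -/
theorem TTSOLVE.exists (D : Frob K q) [Fintype K] (hK : Fintype.card K = q ^ 2)
    (r r' : Fin 4 → Fin n) (hr : Function.Injective r) (hr' : Function.Injective r')
    (hrr' : ∀ i j, r i ≠ r' j) (u : Fin n → K) (hu : ∀ i, u (r i) ≠ 0) (hu' : ∀ i, u (r' i) ≠ 0)
    (t₃ : K) (ht₃ : IsU D t₃) :
    ∃ t : Fin 4 → K, (∀ i, IsU D (t i)) ∧ t 2 = t₃ ∧ h (n4 r r' t *ᵥ u) u = 0 := by
  classical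
  set z : Fin 4 → K := fun i => u (r i) * D.σ (u (r' i)) with hz
  have hz0 : ∀ i, z i ≠ 0 := by
    intro i
    apply mul_ne_zero (hu i)
    intro h0
    apply hu' i
    have := congrArg D.σ h0
    rwa [D.invol, map_zero] at this
  set C : K := ∑ k ∈ Finset.univ \ (Finset.univ.image r ∪ Finset.univ.image r'), nm D (u k) with hC
  have hCs : D.σ C = C := by
    rw [hC, map_sum]
    apply Finset.sum_congr rfl
    intro k _
    exact TTSOLVE.sigma_nm D _
  set c : K := -(C + (t₃ * z 2 + D.σ (t₃ * z 2)) + (1 * z 3 + D.σ (1 * z 3))) with hc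
  have hcs : D.σ c = c := by
    rw [hc, map_neg, map_add, map_add, hCs, TTSOLVE.sigma_tr, TTSOLVE.sigma_tr]
  set μ : Finset K := Finset.univ.filter (fun t : K => IsU D t) with hμ
  have hμc : μ.card = q + 1 := MU.card D hK
  have hμm : ∀ t ∈ μ, IsU D t := by
    intro t htm
    rw [hμ, Finset.mem_filter] at htm
    exact htm.2
  obtain ⟨t₁, ht₁, t₂, ht₂, hsum⟩ := SUMSET.main D hK μ μ hμm hμm (z 0) (z 1) (hz0 0) (hz0 1)
    (by rw [hμc]; omega) c hcs
  refine ⟨![t₁, t₂, t₃, 1], ?_, rfl, ?_⟩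
  · intro i
    fin_cases i
    · exact hμm _ ht₁
    · exact hμm _ ht₂
    · exact ht₃
    · exact IsU.one D
  · rw [TTSOLVE.h_n4 D r r' hr hr' hrr']
    · rw [Fin.sum_univ_four]
      simp only [Matrix.cons_val_zero, Matrix.cons_val_one, Matrix.cons_val_two, Matrix.cons_val_three,
        Matrix.head_cons, Matrix.tail_cons]
      rw [← hC]
      have e0 : u (r 0) * D.σ (u (r' 0)) = z 0 := rfl
      have e1 : u (r 1) * D.σ (u (r' 1)) = z 1 := rfl
      have e2 : u (r 2) * D.σ (u (r' 2)) = z 2 := rfl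
      have e3 : u (r 3) * D.σ (u (r' 3)) = z 3 := rfl
      rw [e0, e1, e2, e3]
      rw [hc] at hsum
      linear_combination hsum
    · intro i
      fin_cases i
      · exact hμm _ ht₁
      · exact hμm _ ht₂
      · exact ht₃
      · exact IsU.one D

end Cfsg.Agent.S5655K1
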