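import Cfsg.Agent.Helper29.S5677.Defs

/-! S5677 piece X5HYP (driver helper29): over the field of order `5` a plane `⟨a, a'⟩` with
`(Q a' / Q a)² = 1` is hyperbolic. -/

set_option autoImplicit false
set_option linter.unusedSectionVars false
set_option linter.unusedVariables false

namespace Cfsg.Agent.S5677P

open Matrix Cfsg.Agent.Helper28.Sg Cfsg.Agent.Helper28.Spin Cfsg.Agent.Helper12.OrthGen
  Cfsg.Agent.S2614 Cfsg.Agent.S5683P Cfsg.Agent.Helper28.NDM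

variable {F : Type*} [Field F] {m t k : ℕ} {D : Fin t → Submodule F (Idx m → F)}
  {M : Subgroup (OG m F)}

namespace X5HYP

theorem five_eq_zero [Fintype F] (hq5 : Fintype.card F = 5) : (5 : F) = 0 := by
  have h := Nat.cast_card_eq_zero F
  rw [hq5] at h
  exact_mod_cast h

theorem comb (a a' : Idx m → F) (x y p q p' q' : F) :
    x • (p • a + q • a') + y • (p' • a + q' • a') =
      (x * p + y * p') • a + (x * q + y * q') • a' := by
  simp only [smul_add, smul_smul, add_smul]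
  abel

/-- the construction, for any `r` with `r ^ 2 = - d` -/
theorem of_root {a a' : Idx m → F} {r : F} (h2 : (2 : F) ≠ 0) (hr0 : r ≠ 0)
    (hQa : QfOdd m F a ≠ 0) (hQa' : QfOdd m F a' ≠ 0) (haa' : B (QfOdd m F) a a' = 0)
    (hr : r ^ 2 * QfOdd m F a = - QfOdd m F a') :
    ∃ (e f : Idx m → F) (p₁ q₁ p₂ q₂ r₁ s₁ r₂ s₂ : F), e = p₁ • a + q₁ • a' ∧
      f = p₂ • a + q₂ • a' ∧ a = r₁ • e + s₁ • f ∧ a' = r₂ • e + s₂ • f ∧
      HypPair (QfOdd m F) e f := by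
  set A := QfOdd m F a with hA
  set A' := QfOdd m F a' with hA'
  obtain ⟨c, hc, hcdef⟩ : ∃ c : F, c ≠ 0 ∧ c = 4 * A' := by
    refine ⟨4 * A', mul_ne_zero ?_ hQa', rfl⟩
    have : (4 : F) = 2 * 2 := by norm_num
    rw [this]
    exact mul_ne_zero h2 h2
  refine ⟨r • a + (1 : F) • a', (-(r * c⁻¹)) • a + c⁻¹ • a',
    r, 1, -(r * c⁻¹), c⁻¹, (2 * r)⁻¹, -((2 * r)⁻¹ * c), 2⁻¹, 2⁻¹ * c,
    rfl, rfl, ?_, ?_, ?_⟩
  · have e1 : (2 * r)⁻¹ * r + -((2 * r)⁻¹ * c) * -(r * c⁻¹) = 1 := by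
      field_simp
      ring
    have e2 : (2 * r)⁻¹ * 1 + -((2 * r)⁻¹ * c) * c⁻¹ = 0 := by
      field_simp
      ring
    rw [comb, e1, e2, one_smul, zero_smul, add_zero]
  · have e1 : (2 : F)⁻¹ * r + 2⁻¹ * c * -(r * c⁻¹) = 0 := by
      field_simp
      ring
    have e2 : (2 : F)⁻¹ * 1 + 2⁻¹ * c * c⁻¹ = 1 := by
      field_simp
      ring
    rw [comb, e1, e2, one_smul, zero_smul, zero_add]
  · refine ⟨?_, ?_, ?_⟩
    · rw [Q_lin2, haa']
      linear_combination hr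
    · rw [Q_lin2, haa']
      have : (-(r * c⁻¹)) * (-(r * c⁻¹)) * A + c⁻¹ * c⁻¹ * A' + -(r * c⁻¹) * c⁻¹ * 0 =
          c⁻¹ * c⁻¹ * (r ^ 2 * A + A') := by ring
      rw [this, hr]
      ring
    · show QuadraticMap.polar ⇑(QfOdd m F) (r • a + (1 : F) • a')
        ((-(r * c⁻¹)) • a + c⁻¹ • a') = 1
      simp only [QuadraticMap.polar_add_left, QuadraticMap.polar_add_right,
        QuadraticMap.polar_smul_left, QuadraticMap.polar_smul_right, smul_eq_mul]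
      have h1 : QuadraticMap.polar ⇑(QfOdd m F) a a' = 0 := haa'
      have h1' : QuadraticMap.polar ⇑(QfOdd m F) a' a = 0 := by
        rw [QuadraticMap.polar_comm]; exact h1
      have h3 : QuadraticMap.polar ⇑(QfOdd m F) a a = 2 * A := B_self (QfOdd m F) a
      have h3' : QuadraticMap.polar ⇑(QfOdd m F) a' a' = 2 * A' := B_self (QfOdd m F) a'
      rw [h1, h1', h3, h3']
      have : -(r * c⁻¹) * (r * (2 * A) + 1 * 0) + c⁻¹ * (r * 0 + 1 * (2 * A')) =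
          c⁻¹ * (2 * A' - 2 * (r ^ 2 * A)) := by ring
      rw [this, hr]
      have : (2 : F) * A' - 2 * -A' = c := by rw [hcdef]; ring
      rw [this, inv_mul_cancel₀ hc]

end X5HYP

/-- `|F| = 5`, `(Q a'/Q a)² = 1`: the plane `⟨a, a'⟩` is hyperbolic (`r² = -d` with `r = 2` or `1`;
`e = a' + r a`, `f = (a' - r a)/(4 d Q a)`) -/
theorem X5HYP.exists [Fintype F] (hq5 : Fintype.card F = 5) {a a' : Idx m → F}
    (hQa : QfOdd m F a ≠ 0) (hQa' : QfOdd m F a' ≠ 0) (haa' : B (QfOdd m F) a a' = 0)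
    (hd : (QfOdd m F a' / QfOdd m F a) ^ 2 = 1) :
    ∃ (e f : Idx m → F) (p₁ q₁ p₂ q₂ r₁ s₁ r₂ s₂ : F), e = p₁ • a + q₁ • a' ∧
      f = p₂ • a + q₂ • a' ∧ a = r₁ • e + s₁ • f ∧ a' = r₂ • e + s₂ • f ∧
      HypPair (QfOdd m F) e f := by
  have h5 : (5 : F) = 0 := X5HYP.five_eq_zero hq5
  have h2 : (2 : F) ≠ 0 := by
    intro h
    have : (5 : F) = 2 * 2 + 1 := by norm_num
    rw [this, h, mul_zero, zero_add] at h5
    exact one_ne_zero h5
  have hd' : QfOdd m F a' / QfOdd m F a = 1 ∨ QfOdd m F a' / QfOdd m F a = -1 :=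
    sq_eq_one_iff.1 hd
  rcases hd' with h1 | h1
  · -- d = 1, r = 2
    rw [div_eq_iff hQa, one_mul] at h1
    refine X5HYP.of_root (r := 2) h2 h2 hQa hQa' haa' ?_
    rw [h1]
    linear_combination QfOdd m F a * h5
  · -- d = -1, r = 1
    rw [div_eq_iff hQa] at h1
    refine X5HYP.of_root (r := 1) h2 one_ne_zero hQa hQa' haa' ?_
    rw [h1]
    ring

end Cfsg.Agent.S5677P
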