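import Mathlib
import Cfsg.Agent.Helper28.Siegel3

/-! # S5704 SPREAD: Siegel calculus (special pairs, symmetry) in helper28's vocabulary (helper14) -/

set_option autoImplicit false
set_option linter.unusedSectionVars false

namespace Cfsg.Agent.S5704P

open Matrix Module Cfsg.Agent.Helper28.Sg
open scoped commutatorElement

variable {F : Type*} [Field F] {ι : Type} [Fintype ι] [DecidableEq ι]
  {Q : QuadraticForm F (ι → F)}

/-- SYM: for a totally singular pair, `siegO u v = siegO v (-u)` -/
theorem SPR.sym {u v : ι → F} (hu : Q u = 0) (hv : Q v = 0) (huv : B Q u v = 0)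
    (hvu : B Q v (-u) = 0) : siegO Q u v hu huv = siegO Q v (-u) hv hvu := by
  apply O_ext
  intro x
  rw [siegO_mulVec, siegO_mulVec, hv]
  have h1 : Q (-u) = 0 := by
    have := Q_smul Q (-1 : F) u
    rw [neg_one_smul] at this
    rw [this, hu, mul_zero]
  rw [h1]
  simp only [B, QuadraticMap.polar_neg_left, zero_mul, zero_smul, sub_zero, smul_neg, neg_smul]
  abel

/-- COMM: the commutator of the Siegel elements of a special pair -/
theorem SPR.comm {p y p' y' : ι → F} (hp : Q p = 0) (hy : Q y = 0) (hp' : Q p' = 0)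
    (hpy : B Q p y = 0) (hp'y' : B Q p' y' = 0) (hpp' : B Q p p' = 0) (hpy' : B Q p y' = 0)
    (hp'y : B Q p' y = 0) (h' : B Q p' (-(B Q y y') • p) = 0) :
    ⁅siegO Q p y hp hpy, siegO Q p' y' hp' hp'y'⁆ = siegO Q p' (-(B Q y y') • p) hp' h' := by
  have hfix : mt Q (siegO Q p y hp hpy) *ᵥ p' = p' := by
    rw [siegO_mulVec, hpp', zero_smul, add_zero, hy, zero_mul, zero_smul, sub_zero]
    have : B Q y p' = 0 := by rw [B_comm]; exact hp'y
    rw [this, zero_smul, sub_zero]
  have hmove : mt Q (siegO Q p y hp hpy) *ᵥ y' - y' = -(B Q y y') • p := by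
    rw [siegO_mulVec, hpy', zero_smul, add_zero, hy, zero_mul, zero_smul, sub_zero]
    rw [neg_smul]
    abel
  have h'' : B Q p' (mt Q (siegO Q p y hp hpy) *ᵥ y' - y') = 0 := by rw [hmove]; exact h'
  rw [comm_siegO (siegO Q p y hp hpy) hp' hp'y' hfix h'']
  exact siegO_congr Q hp' _ hp' _ rfl hmove

end Cfsg.Agent.S5704P
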