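import Mathlib
import Cfsg.Agent.Helper14.S5704SPRCORE

/-! # S5704 SEED: the double commutator of products of Siegel transformations (helper14)

`DC.group`: `⁅a b, c d⁆ = ⁅a, d⁆` if `b` commutes with `c`, `d`, `a` commutes with `c` and `⁅a, d⁆` commutes with `c`.
`DC.commute`: Siegel transformations `ρ(x,y)`, `ρ(p,q)` with `x, y ⊥ p, q` commute.
`DC.main`: `⁅ρ(x₁,y₁) ρ(x₂,y₂), ρ(p₁,q₁) ρ(p₂,q₂)⁆ = ρ(q₂, B(y₁,p₂) • x₁)` when all cross pairings vanish except `B(y₁,p₂)`. -/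

set_option autoImplicit false
set_option linter.unusedSectionVars false

namespace Cfsg.Agent.S5704P

open Matrix Module Cfsg.Agent.Helper28.Sg
open scoped commutatorElement

theorem DC.group {G : Type*} [Group G] {a b c d : G} (hbc : Commute b c) (hbd : Commute b d)
    (hac : Commute a c) (hτ : Commute ⁅a, d⁆ c) : ⁅a * b, c * d⁆ = ⁅a, d⁆ := by
  have hb : Commute b (c * d) := hbc.mul_right hbd
  rw [commutatorElement_def] at hτ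
  rw [commutatorElement_def, commutatorElement_def]
  calc a * b * (c * d) * (a * b)⁻¹ * (c * d)⁻¹
      = a * (b * (c * d)) * (b⁻¹ * a⁻¹) * (d⁻¹ * c⁻¹) := by group
    _ = a * ((c * d) * b) * (b⁻¹ * a⁻¹) * (d⁻¹ * c⁻¹) := by rw [hb.eq]
    _ = (a * c) * d * a⁻¹ * d⁻¹ * c⁻¹ := by group
    _ = (c * a) * d * a⁻¹ * d⁻¹ * c⁻¹ := by rw [hac.eq]
    _ = c * (a * d * a⁻¹ * d⁻¹) * c⁻¹ := by group
    _ = (a * d * a⁻¹ * d⁻¹) * c * c⁻¹ := by rw [hτ.eq]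
    _ = a * d * a⁻¹ * d⁻¹ := by group

variable {F : Type*} [Field F] {ι : Type} [Fintype ι] [DecidableEq ι]
  {Q : QuadraticForm F (ι → F)}

/-- a Siegel transformation `ρ(x,y)` fixes every vector orthogonal to `x` and `y` -/
theorem DC.fix {x y v : ι → F} (hx : Q x = 0) (hxy : B Q x y = 0) (hxv : B Q x v = 0)
    (hyv : B Q y v = 0) : mt Q (siegO Q x y hx hxy) *ᵥ v = v := by
  rw [siegO_mulVec, hxv, hyv, zero_smul, zero_smul, mul_zero, zero_smul, add_zero, sub_zero, sub_zero]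

/-- Siegel transformations with mutually orthogonal data commute -/
theorem DC.commute {x y p q : ι → F} (hx : Q x = 0) (hxy : B Q x y = 0) (hp : Q p = 0)
    (hpq : B Q p q = 0) (hxp : B Q x p = 0) (hxq : B Q x q = 0) (hyp : B Q y p = 0)
    (hyq : B Q y q = 0) : Commute (siegO Q x y hx hxy) (siegO Q p q hp hpq) := by
  have hfp := DC.fix hx hxy hxp hyp
  have hfq := DC.fix hx hxy hxq hyq
  have h' : B Q p (mt Q (siegO Q x y hx hxy) *ᵥ q - q) = 0 := by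
    rw [hfq, sub_self]
    exact QuadraticMap.polar_zero_right _ _
  have h1 := comm_siegO (siegO Q x y hx hxy) hp hpq hfp h'
  have h2 : siegO Q p (mt Q (siegO Q x y hx hxy) *ᵥ q - q) hp h' = 1 := by
    have h0 : B Q p 0 = 0 := QuadraticMap.polar_zero_right _ _
    rw [siegO_congr Q hp h' hp h0 rfl (by rw [hfq, sub_self]), siegO_zero Q p hp h0]
  rw [h2] at h1
  exact commutatorElement_eq_one_iff_commute.mp h1

/-- the double commutator -/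
theorem DC.main {x₁ y₁ x₂ y₂ p₁ q₁ p₂ q₂ : ι → F}
    (hx₁ : Q x₁ = 0) (hy₁ : Q y₁ = 0) (hx₂ : Q x₂ = 0) (hp₁ : Q p₁ = 0) (hp₂ : Q p₂ = 0)
    (hq₂ : Q q₂ = 0)
    (h11 : B Q x₁ y₁ = 0) (h22 : B Q x₂ y₂ = 0) (k11 : B Q p₁ q₁ = 0) (k22 : B Q p₂ q₂ = 0)
    -- `ρ₂` commutes with `σ₁`, `σ₂`
    (a1 : B Q x₂ p₁ = 0) (a2 : B Q x₂ q₁ = 0) (a3 : B Q y₂ p₁ = 0) (a4 : B Q y₂ q₁ = 0)
    (a5 : B Q x₂ p₂ = 0) (a6 : B Q x₂ q₂ = 0) (a7 : B Q y₂ p₂ = 0) (a8 : B Q y₂ q₂ = 0)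
    -- `ρ₁` commutes with `σ₁`
    (b1 : B Q x₁ p₁ = 0) (b2 : B Q x₁ q₁ = 0) (b3 : B Q y₁ p₁ = 0) (b4 : B Q y₁ q₁ = 0)
    -- `ρ₁`, `σ₂`: only `B(y₁, p₂)` may be non-zero
    (c1 : B Q x₁ p₂ = 0) (c2 : B Q x₁ q₂ = 0) (c4 : B Q y₁ q₂ = 0)
    -- the result commutes with `σ₁`
    (d1 : B Q q₂ p₁ = 0) (d2 : B Q q₂ q₁ = 0)
    (hres : B Q q₂ (B Q y₁ p₂ • x₁) = 0) :
    ⁅siegO Q x₁ y₁ hx₁ h11 * siegO Q x₂ y₂ hx₂ h22,
      siegO Q p₁ q₁ hp₁ k11 * siegO Q p₂ q₂ hp₂ k22⁆ =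
      siegO Q q₂ (B Q y₁ p₂ • x₁) hq₂ hres := by
  -- `σ₂ = ρ(q₂, -p₂)`
  have hq₂p₂ : B Q q₂ (-p₂) = 0 := by rw [B_neg_right, B_comm, k22, neg_zero]
  have hsym : siegO Q p₂ q₂ hp₂ k22 = siegO Q q₂ (-p₂) hq₂ hq₂p₂ := SPR.sym hp₂ hq₂ k22 hq₂p₂
  -- the commutator `⁅ρ₁, σ₂⁆`
  have hc : ⁅siegO Q x₁ y₁ hx₁ h11, siegO Q p₂ q₂ hp₂ k22⁆ =
      siegO Q q₂ (B Q y₁ p₂ • x₁) hq₂ hres := by
    rw [hsym]
    have hyy : B Q y₁ (-p₂) = - B Q y₁ p₂ := B_neg_right Q _ _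
    have h' : B Q q₂ (-(B Q y₁ (-p₂)) • x₁) = 0 := by
      rw [hyy, neg_neg]; exact hres
    rw [SPR.comm hx₁ hy₁ hq₂ h11 hq₂p₂ c2 (by rw [B_neg_right, c1, neg_zero])
      (by rw [B_comm]; exact c4) h']
    exact siegO_congr Q hq₂ _ hq₂ _ rfl (by rw [hyy, neg_neg])
  rw [← hc]
  apply DC.group
  · exact DC.commute hx₂ h22 hp₁ k11 a1 a2 a3 a4
  · exact DC.commute hx₂ h22 hp₂ k22 a5 a6 a7 a8
  · exact DC.commute hx₁ h11 hp₁ k11 b1 b2 b3 b4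
  · rw [hc]
    -- `ρ(q₂, κ x₁)` commutes with `σ₁ = ρ(p₁, q₁)`
    have e3 : B Q (B Q y₁ p₂ • x₁) p₁ = 0 := by
      show QuadraticMap.polar ⇑Q (B Q y₁ p₂ • x₁) p₁ = 0
      rw [QuadraticMap.polar_smul_left]
      simp only [B] at b1
      rw [b1, smul_zero]
    have e4 : B Q (B Q y₁ p₂ • x₁) q₁ = 0 := by
      show QuadraticMap.polar ⇑Q (B Q y₁ p₂ • x₁) q₁ = 0
      rw [QuadraticMap.polar_smul_left]
      simp only [B] at b2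
      rw [b2, smul_zero]
    exact DC.commute hq₂ hres hp₁ k11 d1 d2 e3 e4

end Cfsg.Agent.S5704P
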