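import Mathlib
import Cfsg.Agent.Helper28.S5704SDefs
import Cfsg.Agent.Helper18.S5704SEXONE

/-! # S5704, chapter SEED, lemmas FILL-A / FILL-B (helper14): one seed Siegel element `ρ(u₀⊗w₀, u₀⊗w₀')`
(resp. `ρ(u₀⊗w₀, u₀'⊗w₀)`) in `M`, together with the root elements `t⊗1`, `1⊗t` in `M`, gives the whole
family (B) (resp. (A)). -/

set_option autoImplicit false
set_option linter.unusedSectionVars false
set_option linter.unusedVariables false

namespace Cfsg.Agent.S5704S

open Matrix Cfsg.Agent.Helper28.Sg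

variable {F : Type*} [Field F] {n a b m : ℕ}

/-! ## symplectic linear algebra -/

/-- a non-zero vector orthogonal to two given ones (dimension `≥ 3`) -/
theorem FILL.exists_perp2 (G : Matrix (Fin m) (Fin m) F) (hm : 3 ≤ m) (x y : Fin m → F) :
    ∃ z : Fin m → F, z ≠ 0 ∧ bf G x z = 0 ∧ bf G y z = 0 := by
  classical
  let f : (Fin m → F) →ₗ[F] (Fin 2 → F) :=
    LinearMap.pi (fun i : Fin 2 => (Matrix.toBilin' G) (![x, y] i))
  have hlt : Module.finrank F (Fin 2 → F) < Module.finrank F (Fin m → F) := by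
    rw [Module.finrank_fin_fun, Module.finrank_fin_fun]; omega
  have hker := LinearMap.ker_ne_bot_of_finrank_lt (f := f) hlt
  obtain ⟨z, hz, hz0⟩ := (Submodule.ne_bot_iff _).mp hker
  rw [LinearMap.mem_ker] at hz
  refine ⟨z, hz0, ?_, ?_⟩
  · have := congrFun hz 0
    simp only [f, LinearMap.pi_apply, Matrix.cons_val_zero, Pi.zero_apply] at this
    rw [Matrix.toBilin'_apply'] at this
    exact this
  · have := congrFun hz 1
    simp only [f, LinearMap.pi_apply, Matrix.cons_val_one, Pi.zero_apply] at this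
    rw [Matrix.toBilin'_apply'] at this
    exact this

/-- if every vector orthogonal to `w` is orthogonal to `w'`, then `w'` is a multiple of `w` -/
theorem FILL.prop_of_perp {G : Matrix (Fin m) (Fin m) F} (hG : IsSymp G) {w w' : Fin m → F}
    (hw : w ≠ 0) (h : ∀ z, bf G w z = 0 → bf G z w' = 0) : ∃ c : F, w' = c • w := by
  obtain ⟨y, hy⟩ := EX.one hG hw
  refine ⟨- bf G y w', ?_⟩
  have key : ∀ v, bf G (w' - (- bf G y w') • w) v = 0 := by
    intro v
    have h1 : bf G w (v - bf G w v • y) = 0 := by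
      rw [bf_sub_right, bf_smul_right, hy, mul_one, sub_self]
    have h2 := h _ h1
    rw [bf_sub_left, bf_smul_left] at h2
    have e1 : bf G w' v = - bf G v w' := hG.skew w' v
    rw [bf_sub_left, bf_smul_left, e1]
    linear_combination (-1 : F) * h2
  have := hG.nondeg _ key
  exact sub_eq_zero.mp this

/-- in a symplectic space, `w' ∉ F w` (and `w ≠ 0`): some `z ⊥ w` is not orthogonal to `w'` -/
theorem FILL.exists_perp_not {G : Matrix (Fin m) (Fin m) F} (hG : IsSymp G) {w w' : Fin m → F}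
    (hw : w ≠ 0) (hind : ∀ c : F, w' ≠ c • w) : ∃ z, bf G w z = 0 ∧ bf G z w' ≠ 0 := by
  by_contra hcon
  push Not at hcon
  obtain ⟨c, hc⟩ := FILL.prop_of_perp hG hw hcon
  exact hind c hc

/-- two non-zero vectors are joined by a vector pairing non-trivially with both -/
theorem FILL.exists_link {G : Matrix (Fin m) (Fin m) F} (hG : IsSymp G) {x y : Fin m → F}
    (hx : x ≠ 0) (hy : y ≠ 0) : ∃ z, bf G z x ≠ 0 ∧ bf G z y ≠ 0 := by
  obtain ⟨y₁, h1⟩ := EX.one hG hx
  obtain ⟨y₂, h2⟩ := EX.one hG hy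
  have h1' : bf G y₁ x = -1 := by rw [hG.skew, h1]
  have h2' : bf G y₂ y = -1 := by rw [hG.skew, h2]
  by_cases ha : bf G y₁ y = 0
  · by_cases hb : bf G y₂ x = 0
    · refine ⟨y₁ + y₂, ?_, ?_⟩
      · rw [bf_add_left, h1', hb, add_zero]; exact neg_ne_zero.mpr one_ne_zero
      · rw [bf_add_left, ha, h2', zero_add]; exact neg_ne_zero.mpr one_ne_zero
    · exact ⟨y₂, hb, by rw [h2']; exact neg_ne_zero.mpr one_ne_zero⟩
  · exact ⟨y₁, by rw [h1']; exact neg_ne_zero.mpr one_ne_zero, ha⟩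

section fill

variable {Q : QuadraticForm F (Fin n → F)} {M : Subgroup ↥(Cfsg.isometryGroup F ⇑Q)}
  {e : Fin n ≃ Fin a × Fin b} {P : Matrix (Fin n) (Fin n) F}
  {GU : Matrix (Fin a) (Fin a) F} {GW : Matrix (Fin b) (Fin b) F}

/-- conjugation: `g ρ(x, v) g⁻¹ = ρ(g x, g v)` -/
theorem FILL.conj {x v : Fin n → F} (h : InM Q M x v) {g : ↥(Cfsg.isometryGroup F ⇑Q)}
    (hg : g ∈ M) : InM Q M (mt Q g *ᵥ x) (mt Q g *ᵥ v) := by
  obtain ⟨hx, hxv, hm⟩ := h
  have hx' : Q (mt Q g *ᵥ x) = 0 := by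
    rw [Cfsg.Agent.Helper28.Spin.isom_apply Q g x]; exact hx
  have hxv' : B Q (mt Q g *ᵥ x) (mt Q g *ᵥ v) = 0 := by rw [B_isom]; exact hxv
  refine ⟨hx', hxv', ?_⟩
  rw [← siegO_conj Q g hx hxv hx' hxv']
  exact M.mul_mem (M.mul_mem hg hm) (M.inv_mem hg)

/-- `ρ(x, c x) = 1` -/
theorem FILL.self_smul {x : Fin n → F} (hx : Q x = 0) (c : F) : InM Q M x (c • x) := by
  have h0 : InM Q M (c • x) (0 : Fin n → F) := by
    refine InM.zero_right ?_
    rw [QuadraticMap.map_smul, hx, smul_zero]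
  -- ρ(x, c x) acts trivially
  have hB : B Q x (c • x) = 0 := by
    show QuadraticMap.polar ⇑Q x (c • x) = 0
    rw [QuadraticMap.polar_smul_right, show QuadraticMap.polar ⇑Q x x = 0 from
      B_self_of_singular Q hx, smul_zero]
  refine ⟨hx, hB, ?_⟩
  have : siegO Q x (c • x) hx hB = 1 := by
    apply O_ext
    intro y
    rw [siegO_mulVec, mt_one_mulVec, QuadraticMap.map_smul, hx]
    have : B Q (c • x) y = c * B Q x y := by
      show QuadraticMap.polar ⇑Q (c • x) y = _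
      rw [QuadraticMap.polar_smul_left, smul_eq_mul]
    rw [this]
    module
  rw [this]
  exact M.one_mem

/-! ## FILL-B -/

/-- `Full u w`: all `ρ(u⊗w, u⊗w')`, `w' ⊥ w`, are in `M` -/
def FILLB.Full (Q : QuadraticForm F (Fin n → F)) (M : Subgroup ↥(Cfsg.isometryGroup F ⇑Q))
    (e : Fin n ≃ Fin a × Fin b) (P : Matrix (Fin n) (Fin n) F) (GW : Matrix (Fin b) (Fin b) F)
    (u : Fin a → F) (w : Fin b → F) : Prop :=
  ∀ w', bf GW w w' = 0 → InM Q M (pt e P u w) (pt e P u w')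

/-- one `ρ(u⊗w, u⊗w')` with `w' ⊥ w`, `w' ∉ F w` gives all `ρ(u⊗w, u⊗w'')`, `w'' ⊥ w` -/
theorem FILLB.step1 (hT : TData Q e P GU GW)
    (hR : ∀ (z : Fin b → F) (c : F), ∃ g ∈ M, ∀ u w,
      mt Q g *ᵥ pt e P u w = pt e P u (w + (c * bf GW z w) • z))
    {u : Fin a → F} {w w' : Fin b → F} (hw : w ≠ 0) (horth : bf GW w w' = 0)
    (hind : ∀ c : F, w' ≠ c • w) (hseed : InM Q M (pt e P u w) (pt e P u w')) :
    FILLB.Full Q M e P GW u w := by
  -- good directions
  have hgood : ∀ z, bf GW w z = 0 → bf GW z w' ≠ 0 → ∀ d : F,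
      InM Q M (pt e P u w) (pt e P u (d • z)) := by
    intro z hz hzw' d
    obtain ⟨g, hg, hgu⟩ := hR z (d / bf GW z w')
    have h1 := FILL.conj hseed hg
    rw [hgu, hgu, hT.sympW.eq_zero_symm hz, mul_zero, zero_smul, add_zero,
      div_mul_cancel₀ d hzw', pt_add_right] at h1
    have h2 := h1.sub hseed
    rwa [add_sub_cancel_left] at h2
  obtain ⟨z₁, hz₁, hz₁'⟩ := FILL.exists_perp_not hT.sympW hw hind
  intro w'' hw''
  by_cases hc : bf GW w'' w' = 0
  · have h1 := hgood (w'' + z₁) (by rw [bf_add_right, hw'', hz₁, add_zero])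
      (by rw [bf_add_left, hc, zero_add]; exact hz₁') 1
    have h2 := hgood z₁ hz₁ hz₁' 1
    rw [one_smul] at h1 h2
    have h3 := h1.sub h2
    rwa [← pt_sub_right, add_sub_cancel_right] at h3
  · have h1 := hgood w'' hw'' hc 1
    rwa [one_smul] at h1

/-- moving along an edge of the perp-graph -/
theorem FILLB.step2 (hT : TData Q e P GU GW)
    (hR : ∀ (z : Fin b → F) (c : F), ∃ g ∈ M, ∀ u w,
      mt Q g *ᵥ pt e P u w = pt e P u (w + (c * bf GW z w) • z))
    {u : Fin a → F} {w w' : Fin b → F} (hw : w ≠ 0) (hw' : w' ≠ 0) (horth : bf GW w w' = 0)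
    (hind : ∀ c : F, w' ≠ c • w) (hfull : FILLB.Full Q M e P GW u w) :
    FILLB.Full Q M e P GW u w' := by
  have h1 : InM Q M (pt e P u w') (pt e P u w) := by
    have := (InM.sym (hT.sing u w') (hfull w' horth)).neg
    rwa [neg_neg] at this
  refine FILLB.step1 hT hR hw' (hT.sympW.eq_zero_symm horth) ?_ h1
  intro c hc
  by_cases hc0 : c = 0
  · rw [hc0, zero_smul] at hc; exact hw hc
  · apply hind c⁻¹
    rw [hc, smul_smul, inv_mul_cancel₀ hc0, one_smul]

/-- all `w` are full for the seed `u` -/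
theorem FILLB.allw (hT : TData Q e P GU GW) (hb : 4 ≤ b)
    (hR : ∀ (z : Fin b → F) (c : F), ∃ g ∈ M, ∀ u w,
      mt Q g *ᵥ pt e P u w = pt e P u (w + (c * bf GW z w) • z))
    {u : Fin a → F} {w₀ w₀' : Fin b → F} (hw₀ : w₀ ≠ 0) (horth : bf GW w₀ w₀' = 0)
    (hind : ∀ c : F, w₀' ≠ c • w₀) (hseed : InM Q M (pt e P u w₀) (pt e P u w₀')) :
    ∀ w, FILLB.Full Q M e P GW u w := by
  have hw₀' : w₀' ≠ 0 := by
    intro h0
    apply hind 0
    rw [h0, zero_smul]
  have hf0 : FILLB.Full Q M e P GW u w₀ := FILLB.step1 hT hR hw₀ horth hind hseed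
  have hf0' : FILLB.Full Q M e P GW u w₀' := FILLB.step2 hT hR hw₀ hw₀' horth hind hf0
  intro w
  by_cases hw : w = 0
  · intro w' _
    rw [hw, pt_zero_right]
    exact InM.zero_left _
  by_cases hperp : bf GW w₀ w = 0
  · by_cases hprop : ∃ c : F, w = c • w₀
    · -- go through `w₀'`
      obtain ⟨c, hc⟩ := hprop
      have hc0 : c ≠ 0 := by
        intro h0; rw [h0, zero_smul] at hc; exact hw hc
      refine FILLB.step2 hT hR hw₀' hw ?_ ?_ hf0'
      · rw [hc, bf_smul_right, hT.sympW.eq_zero_symm horth, mul_zero]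
      · intro d hd
        apply hind (d⁻¹ * c)
        have hd0 : d ≠ 0 := by
          intro h0; rw [h0, zero_smul] at hd; exact hw hd
        rw [← smul_smul, ← hc, hd, smul_smul, inv_mul_cancel₀ hd0, one_smul]
    · push Not at hprop
      exact FILLB.step2 hT hR hw₀ hw hperp hprop hf0
  · -- `w₀` and `w` are not orthogonal: a common perpendicular is outside both lines
    obtain ⟨z, hz0, hz1, hz2⟩ := FILL.exists_perp2 GW (by omega) w₀ w
    have hzi : ∀ c : F, z ≠ c • w₀ := by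
      intro c hc
      by_cases hc0 : c = 0
      · rw [hc0, zero_smul] at hc; exact hz0 hc
      · apply hperp
        have : bf GW w z = 0 := hz2
        rw [hc, bf_smul_right] at this
        have h3 := (mul_eq_zero.mp this).resolve_left hc0
        exact hT.sympW.eq_zero_symm h3
    have hfz : FILLB.Full Q M e P GW u z := FILLB.step2 hT hR hw₀ hz0 hz1 hzi hf0
    refine FILLB.step2 hT hR hz0 hw (hT.sympW.eq_zero_symm hz2) ?_ hfz
    intro c hc
    by_cases hc0 : c = 0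
    · rw [hc0, zero_smul] at hc; exact hw hc
    · apply hperp
      have : bf GW w₀ z = 0 := hz1
      have hz' : z = c⁻¹ • w := by rw [hc, smul_smul, inv_mul_cancel₀ hc0, one_smul]
      rw [hz', bf_smul_right] at this
      exact (mul_eq_zero.mp this).resolve_left (inv_ne_zero hc0)

/-- FILL-B: one seed `ρ(u₀⊗w₀, u₀⊗w₀')` gives family (B) -/
theorem FILLB.main (hT : TData Q e P GU GW) (hb : 4 ≤ b)
    (hL : ∀ (z : Fin a → F) (c : F), ∃ g ∈ M, ∀ u w,
      mt Q g *ᵥ pt e P u w = pt e P (u + (c * bf GU z u) • z) w)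
    (hR : ∀ (z : Fin b → F) (c : F), ∃ g ∈ M, ∀ u w,
      mt Q g *ᵥ pt e P u w = pt e P u (w + (c * bf GW z w) • z))
    {u₀ : Fin a → F} {w₀ w₀' : Fin b → F} (hu₀ : u₀ ≠ 0) (hw₀ : w₀ ≠ 0)
    (horth : bf GW w₀ w₀' = 0) (hind : ∀ c : F, w₀' ≠ c • w₀)
    (hseed : InM Q M (pt e P u₀ w₀) (pt e P u₀ w₀')) :
    ∀ u w w', bf GW w w' = 0 → InM Q M (pt e P u w) (pt e P u w') := by
  have h0 : ∀ w, FILLB.Full Q M e P GW u₀ w := FILLB.allw hT hb hR hw₀ horth hind hseed
  -- transvections move the good `u`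
  have hmove : ∀ u, (∀ w, FILLB.Full Q M e P GW u w) → ∀ (z : Fin a → F) (c : F),
      ∀ w, FILLB.Full Q M e P GW (u + (c * bf GU z u) • z) w := by
    intro u hu z c w w' hww'
    obtain ⟨g, hg, hgu⟩ := hL z c
    have := FILL.conj (hu w w' hww') hg
    rwa [hgu, hgu] at this
  -- one step: `bf GU u' u ≠ 0`
  have hstep : ∀ u u', (∀ w, FILLB.Full Q M e P GW u w) → bf GU u' u ≠ 0 →
      ∀ w, FILLB.Full Q M e P GW u' w := by
    intro u u' hu hne
    have h1 := hmove u hu (u' - u) (bf GU u' u)⁻¹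
    have h2 : u + ((bf GU u' u)⁻¹ * bf GU (u' - u) u) • (u' - u) = u' := by
      rw [bf_sub_left, hT.sympU.alt, sub_zero, inv_mul_cancel₀ hne, one_smul]
      abel
    rwa [h2] at h1
  intro u w w' hww'
  by_cases hu : u = 0
  · rw [hu, pt_zero_left]
    exact InM.zero_left _
  obtain ⟨z, hz1, hz2⟩ := FILL.exists_link hT.sympU hu₀ hu
  have hfz := hstep u₀ z h0 hz1
  have hfu := hstep z u hfz (by
    rw [hT.sympU.skew]; exact neg_ne_zero.mpr hz2)
  exact hfu w w' hww'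

/-! ## FILL-A -/

/-- `Full u w`: all `ρ(u⊗w, u'⊗w)`, `u' ⊥ u`, are in `M` -/
def FILLA.Full (Q : QuadraticForm F (Fin n → F)) (M : Subgroup ↥(Cfsg.isometryGroup F ⇑Q))
    (e : Fin n ≃ Fin a × Fin b) (P : Matrix (Fin n) (Fin n) F) (GU : Matrix (Fin a) (Fin a) F)
    (u : Fin a → F) (w : Fin b → F) : Prop :=
  ∀ u', bf GU u u' = 0 → InM Q M (pt e P u w) (pt e P u' w)

/-- one `ρ(u⊗w, u'⊗w)` with `u' ⊥ u`, `u' ∉ F u` gives all `ρ(u⊗w, u''⊗w)`, `u'' ⊥ u` -/
theorem FILLA.step1 (hT : TData Q e P GU GW)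
    (hL : ∀ (z : Fin a → F) (c : F), ∃ g ∈ M, ∀ u w,
      mt Q g *ᵥ pt e P u w = pt e P (u + (c * bf GU z u) • z) w)
    {u u' : Fin a → F} {w : Fin b → F} (hu : u ≠ 0) (horth : bf GU u u' = 0)
    (hind : ∀ c : F, u' ≠ c • u) (hseed : InM Q M (pt e P u w) (pt e P u' w)) :
    FILLA.Full Q M e P GU u w := by
  have hgood : ∀ z, bf GU u z = 0 → bf GU z u' ≠ 0 → ∀ d : F,
      InM Q M (pt e P u w) (pt e P (d • z) w) := by
    intro z hz hzu' d
    obtain ⟨g, hg, hgu⟩ := hL z (d / bf GU z u')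
    have h1 := FILL.conj hseed hg
    rw [hgu, hgu, hT.sympU.eq_zero_symm hz, mul_zero, zero_smul, add_zero,
      div_mul_cancel₀ d hzu', pt_add_left] at h1
    have h2 := h1.sub hseed
    rwa [add_sub_cancel_left] at h2
  obtain ⟨z₁, hz₁, hz₁'⟩ := FILL.exists_perp_not hT.sympU hu hind
  intro u'' hu''
  by_cases hc : bf GU u'' u' = 0
  · have h1 := hgood (u'' + z₁) (by rw [bf_add_right, hu'', hz₁, add_zero])
      (by rw [bf_add_left, hc, zero_add]; exact hz₁') 1
    have h2 := hgood z₁ hz₁ hz₁' 1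
    rw [one_smul] at h1 h2
    have h3 := h1.sub h2
    rwa [← pt_sub_left, add_sub_cancel_right] at h3
  · have h1 := hgood u'' hu'' hc 1
    rwa [one_smul] at h1

/-- moving along an edge of the perp-graph -/
theorem FILLA.step2 (hT : TData Q e P GU GW)
    (hL : ∀ (z : Fin a → F) (c : F), ∃ g ∈ M, ∀ u w,
      mt Q g *ᵥ pt e P u w = pt e P (u + (c * bf GU z u) • z) w)
    {u u' : Fin a → F} {w : Fin b → F} (hu : u ≠ 0) (hu' : u' ≠ 0) (horth : bf GU u u' = 0)
    (hind : ∀ c : F, u' ≠ c • u) (hfull : FILLA.Full Q M e P GU u w) :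
    FILLA.Full Q M e P GU u' w := by
  have h1 : InM Q M (pt e P u' w) (pt e P u w) := by
    have := (InM.sym (hT.sing u' w) (hfull u' horth)).neg
    rwa [neg_neg] at this
  refine FILLA.step1 hT hL hu' (hT.sympU.eq_zero_symm horth) ?_ h1
  intro c hc
  by_cases hc0 : c = 0
  · rw [hc0, zero_smul] at hc; exact hu hc
  · apply hind c⁻¹
    rw [hc, smul_smul, inv_mul_cancel₀ hc0, one_smul]

/-- all `u` are full for the seed `w` -/
theorem FILLA.allu (hT : TData Q e P GU GW) (ha : 4 ≤ a)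
    (hL : ∀ (z : Fin a → F) (c : F), ∃ g ∈ M, ∀ u w,
      mt Q g *ᵥ pt e P u w = pt e P (u + (c * bf GU z u) • z) w)
    {u₀ u₀' : Fin a → F} {w : Fin b → F} (hu₀ : u₀ ≠ 0) (horth : bf GU u₀ u₀' = 0)
    (hind : ∀ c : F, u₀' ≠ c • u₀) (hseed : InM Q M (pt e P u₀ w) (pt e P u₀' w)) :
    ∀ u, FILLA.Full Q M e P GU u w := by
  have hu₀' : u₀' ≠ 0 := by
    intro h0
    apply hind 0
    rw [h0, zero_smul]
  have hf0 : FILLA.Full Q M e P GU u₀ w := FILLA.step1 hT hL hu₀ horth hind hseed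
  have hf0' : FILLA.Full Q M e P GU u₀' w := FILLA.step2 hT hL hu₀ hu₀' horth hind hf0
  intro u
  by_cases hu : u = 0
  · intro u' _
    rw [hu, pt_zero_left]
    exact InM.zero_left _
  by_cases hperp : bf GU u₀ u = 0
  · by_cases hprop : ∃ c : F, u = c • u₀
    · obtain ⟨c, hc⟩ := hprop
      have hc0 : c ≠ 0 := by
        intro h0; rw [h0, zero_smul] at hc; exact hu hc
      refine FILLA.step2 hT hL hu₀' hu ?_ ?_ hf0'
      · rw [hc, bf_smul_right, hT.sympU.eq_zero_symm horth, mul_zero]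
      · intro d hd
        apply hind (d⁻¹ * c)
        have hd0 : d ≠ 0 := by
          intro h0; rw [h0, zero_smul] at hd; exact hu hd
        rw [← smul_smul, ← hc, hd, smul_smul, inv_mul_cancel₀ hd0, one_smul]
    · push Not at hprop
      exact FILLA.step2 hT hL hu₀ hu hperp hprop hf0
  · obtain ⟨z, hz0, hz1, hz2⟩ := FILL.exists_perp2 GU (by omega) u₀ u
    have hzi : ∀ c : F, z ≠ c • u₀ := by
      intro c hc
      by_cases hc0 : c = 0
      · rw [hc0, zero_smul] at hc; exact hz0 hc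
      · apply hperp
        have : bf GU u z = 0 := hz2
        rw [hc, bf_smul_right] at this
        have h3 := (mul_eq_zero.mp this).resolve_left hc0
        exact hT.sympU.eq_zero_symm h3
    have hfz : FILLA.Full Q M e P GU z w := FILLA.step2 hT hL hu₀ hz0 hz1 hzi hf0
    refine FILLA.step2 hT hL hz0 hu (hT.sympU.eq_zero_symm hz2) ?_ hfz
    intro c hc
    by_cases hc0 : c = 0
    · rw [hc0, zero_smul] at hc; exact hu hc
    · apply hperp
      have : bf GU u₀ z = 0 := hz1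
      have hz' : z = c⁻¹ • u := by rw [hc, smul_smul, inv_mul_cancel₀ hc0, one_smul]
      rw [hz', bf_smul_right] at this
      exact (mul_eq_zero.mp this).resolve_left (inv_ne_zero hc0)

/-- FILL-A: one seed `ρ(u₀⊗w₀, u₀'⊗w₀)` gives family (A) -/
theorem FILLA.main (hT : TData Q e P GU GW) (ha : 4 ≤ a)
    (hL : ∀ (z : Fin a → F) (c : F), ∃ g ∈ M, ∀ u w,
      mt Q g *ᵥ pt e P u w = pt e P (u + (c * bf GU z u) • z) w)
    (hR : ∀ (z : Fin b → F) (c : F), ∃ g ∈ M, ∀ u w,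
      mt Q g *ᵥ pt e P u w = pt e P u (w + (c * bf GW z w) • z))
    {u₀ u₀' : Fin a → F} {w₀ : Fin b → F} (hu₀ : u₀ ≠ 0) (hw₀ : w₀ ≠ 0)
    (horth : bf GU u₀ u₀' = 0) (hind : ∀ c : F, u₀' ≠ c • u₀)
    (hseed : InM Q M (pt e P u₀ w₀) (pt e P u₀' w₀)) :
    ∀ u u' w, bf GU u u' = 0 → InM Q M (pt e P u w) (pt e P u' w) := by
  have h0 : ∀ u, FILLA.Full Q M e P GU u w₀ := FILLA.allu hT ha hL hu₀ horth hind hseed
  have hmove : ∀ w, (∀ u, FILLA.Full Q M e P GU u w) → ∀ (z : Fin b → F) (c : F),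
      ∀ u, FILLA.Full Q M e P GU u (w + (c * bf GW z w) • z) := by
    intro w hw z c u u' huu'
    obtain ⟨g, hg, hgu⟩ := hR z c
    have := FILL.conj (hw u u' huu') hg
    rwa [hgu, hgu] at this
  have hstep : ∀ w w', (∀ u, FILLA.Full Q M e P GU u w) → bf GW w' w ≠ 0 →
      ∀ u, FILLA.Full Q M e P GU u w' := by
    intro w w' hw hne
    have h1 := hmove w hw (w' - w) (bf GW w' w)⁻¹
    have h2 : w + ((bf GW w' w)⁻¹ * bf GW (w' - w) w) • (w' - w) = w' := by
      rw [bf_sub_left, hT.sympW.alt, sub_zero, inv_mul_cancel₀ hne, one_smul]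
      abel
    rwa [h2] at h1
  intro u u' w huu'
  by_cases hw : w = 0
  · rw [hw, pt_zero_right]
    exact InM.zero_left _
  obtain ⟨z, hz1, hz2⟩ := FILL.exists_link hT.sympW hw₀ hw
  have hfz := hstep w₀ z h0 hz1
  have hfw := hstep z w hfz (by
    rw [hT.sympW.skew]; exact neg_ne_zero.mpr hz2)
  exact hfw u u' huu'

end fill

end Cfsg.Agent.S5704S
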