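import Mathlib
import Cfsg.Agent.Helper15.S5704SEEDDefs
import Cfsg.Agent.Helper14.S5704FILL
import Cfsg.Agent.Helper9.S5704STVOL
import Cfsg.Agent.Helper19.S5704STVOR
import Cfsg.Agent.Helper18.S5704SEXTWO

set_option autoImplicit false
set_option linter.unusedSectionVars false
set_option linter.unusedVariables false

/-! # S5704, chapter SEED: the wrappers `FILL.A`, `FILL.B` (helper14): a seed of type (A) / (B) in `M`
gives the whole family (A) / (B) (in helper15's `Ctx` vocabulary). -/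

namespace Cfsg.Agent.S5704P

open Matrix Cfsg.Agent.S5637P Cfsg.Agent.S5704S Cfsg.Agent.Helper28.Sg

variable {F : Type*} [Field F] {n a b : ℕ} (e : Fin n ≃ Fin a × Fin b)

/-- the root elements `t_{z,c} ⊗ 1` lie in `MO Q M` -/
theorem FILL.rootL [Fintype F] {Q : QuadraticForm F (Fin n → F)} {GU : Matrix (Fin a) (Fin a) F}
    {GW : Matrix (Fin b) (Fin b) F} {M : Subgroup (GL (Fin n) F)} (hC : Ctx e Q GU GW M)
    (z : Fin a → F) (c : F) :
    ∃ g ∈ MO Q M, ∀ u w, mt Q g *ᵥ pt e (1 : Matrix (Fin n) (Fin n) F) u w =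
      pt e (1 : Matrix (Fin n) (Fin n) F) (u + (c * bf GU z u) • z) w := by
  obtain ⟨g, hg, hgu⟩ := TVOL.exists hC.tdata z c
  refine ⟨g, ?_, hgu⟩
  show (g : GL (Fin n) F) ∈ M
  apply hC.hHM
  refine ⟨?_, (GLUE.mem_omegaGL_iff hC.nondeg hC.hn _).mpr ⟨g, hg, rfl⟩⟩
  have : (g : GL (Fin n) F) = XU e GU z (-c) := by
    apply gl_ext_tn e
    intro u w
    have h1 := hgu u w
    rw [pt_one, pt_one] at h1
    rw [XU_mulVec_tn e hC.tdata.sympU, hC.tdata.sympU.skew u z]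
    rw [show (-c * -bf GU z u) = c * bf GU z u by ring]
    exact h1
  rw [this]
  exact XU_mem_Kr e GU z (-c)

/-- the root elements `1 ⊗ t_{z,c}` lie in `MO Q M` -/
theorem FILL.rootR [Fintype F] {Q : QuadraticForm F (Fin n → F)} {GU : Matrix (Fin a) (Fin a) F}
    {GW : Matrix (Fin b) (Fin b) F} {M : Subgroup (GL (Fin n) F)} (hC : Ctx e Q GU GW M)
    (z : Fin b → F) (c : F) :
    ∃ g ∈ MO Q M, ∀ u w, mt Q g *ᵥ pt e (1 : Matrix (Fin n) (Fin n) F) u w =
      pt e (1 : Matrix (Fin n) (Fin n) F) u (w + (c * bf GW z w) • z) := by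
  obtain ⟨g, hg, hgu⟩ := TVOR.exists hC.tdata z c
  refine ⟨g, ?_, hgu⟩
  show (g : GL (Fin n) F) ∈ M
  apply hC.hHM
  refine ⟨?_, (GLUE.mem_omegaGL_iff hC.nondeg hC.hn _).mpr ⟨g, hg, rfl⟩⟩
  have : (g : GL (Fin n) F) = XW e GW z (-c) := by
    apply gl_ext_tn e
    intro u w
    have h1 := hgu u w
    rw [pt_one, pt_one] at h1
    rw [XW_mulVec_tn e hC.tdata.sympW, hC.tdata.sympW.skew w z]
    rw [show (-c * -bf GW z w) = c * bf GW z w by ring]
    exact h1
  rw [this]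
  exact XW_mem_Kr e hC.tdata.sympW z (-c)

/-- FILL-B in `Ctx` form -/
theorem FILL.B [Fintype F] {Q : QuadraticForm F (Fin n → F)} {GU : Matrix (Fin a) (Fin a) F}
    {GW : Matrix (Fin b) (Fin b) F} {M : Subgroup (GL (Fin n) F)} (hC : Ctx e Q GU GW M) :
    SeedB e Q GW M → FamB e Q GW M := by
  rintro ⟨u, z, z₀, hu, hz, horth, hnm, hseed⟩
  rw [← pt_one, ← pt_one] at hseed
  exact FILLB.main hC.tdata hC.hb (FILL.rootL e hC) (FILL.rootR e hC) hu hz horth hnm hseed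

/-- FILL-A in `Ctx` form -/
theorem FILL.A [Fintype F] {Q : QuadraticForm F (Fin n → F)} {GU : Matrix (Fin a) (Fin a) F}
    {GW : Matrix (Fin b) (Fin b) F} {M : Subgroup (GL (Fin n) F)} (hC : Ctx e Q GU GW M) :
    SeedA e Q GU M → 4 ≤ a ∧ FamA e Q GU M := by
  rintro ⟨u, u', z, hu, hz, horth, hnm, hseed⟩
  have ha : 4 ≤ a := by
    rcases hC.ha with h2 | h4
    · exfalso
      subst h2
      obtain ⟨c, hc⟩ := EX.two hC.tdata.sympU hu horth
      exact hnm c hc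
    · exact h4
  refine ⟨ha, ?_⟩
  rw [← pt_one, ← pt_one] at hseed
  exact FILLA.main hC.tdata ha (FILL.rootL e hC) (FILL.rootR e hC) hu hz horth hnm hseed

end Cfsg.Agent.S5704P
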