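import Mathlib
import Cfsg.Agent.Helper26.S5704GENDDefs
import Cfsg.Agent.Helper26.S5704ROOTS

set_option autoImplicit false
set_option linter.unusedSectionVars false
set_option linter.unusedVariables false

/-! # S5704, chapter SEED, sub-chapter GEND, piece GECONJW (helper14). -/

namespace Cfsg.Agent.S5704P

open Matrix Cfsg.Agent.S5637P Cfsg.Agent.S5704S Cfsg.Agent.Helper28.Sg

variable {F : Type*} [Field F] {n a b : ℕ} (e : Fin n ≃ Fin a × Fin b)

/-- the inverse of `XW y c` acts as `t_{y,-c}` -/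
theorem GEND.GECONJW.inv_tn {GW : Matrix (Fin b) (Fin b) F} (hW : IsSymp GW) (y : Fin b → F) (c : F)
    (x : Fin a → F) (w : Fin b → F) :
    (((XW e GW y c)⁻¹ : GL (Fin n) F) : Matrix (Fin n) (Fin n) F) *ᵥ tn e x w =
      tn e x (tv GW y (-c) w) := by
  have h1 : ((XW e GW y c : GL (Fin n) F) : Matrix (Fin n) (Fin n) F) *ᵥ
      tn e x (tv GW y (-c) w) = tn e x w := by
    rw [XW_mulVec_tn_tv e hW, tv_tv_neg hW]
  rw [← h1, Matrix.mulVec_mulVec, ← Units.val_mul, inv_mul_cancel, Units.val_one,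
    Matrix.one_mulVec]

/-- as GECONJU with `XW_mulVec_tn_tv`: `(g k g⁻¹) (x ⊗ w) = g (k (x ⊗ τ⁻¹w))`; `f2 (τ⁻¹ w) p = f2 w (τ p)` (`bf_tv_neg_left`). -/
theorem GEND.GECONJW.conj {GU : Matrix (Fin a) (Fin a) F} {GW : Matrix (Fin b) (Fin b) F}
    (hW : IsSymp GW) {u u' : Fin a → F} {z p : Fin b → F} {α β : F} {k : GL (Fin n) F}
    (h : GE e GU GW u u' z p α β k) (y : Fin b → F) (c : F) :
    GE e GU GW u u' (tv GW y c z) (tv GW y c p) α β (XW e GW y c * k * (XW e GW y c)⁻¹) := by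
  intro x w
  rw [Units.val_mul, Units.val_mul, ← Matrix.mulVec_mulVec, ← Matrix.mulVec_mulVec,
    GEND.GECONJW.inv_tn e hW, h x (tv GW y (-c) w), Matrix.mulVec_sub, Matrix.mulVec_add,
    Matrix.mulVec_smul, Matrix.mulVec_smul, XW_mulVec_tn_tv e hW, XW_mulVec_tn_tv e hW,
    XW_mulVec_tn_tv e hW, tv_tv_neg hW, bf_tv_neg_left hW, bf_tv_neg_left hW]

end Cfsg.Agent.S5704P
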