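import Mathlib
import Cfsg.Agent.Helper26.S5704GENDDefs
import Cfsg.Agent.Helper14.S5704FILL

set_option autoImplicit false
set_option linter.unusedSectionVars false
set_option linter.unusedVariables false

/-! # S5704, chapter SEED, sub-chapter GEND, piece PICKV (helper14). -/

namespace Cfsg.Agent.S5704P

open Matrix Cfsg.Agent.S5637P Cfsg.Agent.S5704S Cfsg.Agent.Helper28.Sg

variable {F : Type*} [Field F] {n a b : ℕ} (e : Fin n ≃ Fin a × Fin b)

theorem GEND.PICKV.exists {m : ℕ} {G : Matrix (Fin m) (Fin m) F} (hG : IsSymp G) {u u' : Fin m → F}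
    (hu : u ≠ 0) (hind : NotMul u u') : ∃ v : Fin m → F, bf G u v = 0 ∧ bf G u' v ≠ 0 := by
  obtain ⟨v, hv1, hv2⟩ := FILL.exists_perp_not hG hu hind
  refine ⟨v, hv1, ?_⟩
  rw [hG.skew]
  exact neg_ne_zero.mpr hv2

end Cfsg.Agent.S5704P
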