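import Mathlib
import Cfsg.Agent.Helper15.S5704SEEDDefs2
import Cfsg.Agent.Helper18.S5704SEXTWO

/-! # S5704, chapter SEED, piece ALT2 (helper14). -/

set_option autoImplicit false
set_option linter.unusedSectionVars false
set_option linter.unusedVariables false

namespace Cfsg.Agent.S5704P

open Matrix Cfsg.Agent.S5637P Cfsg.Agent.S5704S Cfsg.Agent.Helper28.Sg

variable {F : Type*} [Field F] {n a b : ℕ} (e : Fin n ≃ Fin a × Fin b)
variable {Q : QuadraticForm F (Fin n → F)} {GU : Matrix (Fin a) (Fin a) F}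
  {GW : Matrix (Fin b) (Fin b) F} {M : Subgroup (GL (Fin n) F)}

/-- every vector an eigenvector ⟹ scalar -/
theorem ALT2.eig (Θ : Matrix (Fin a) (Fin a) F) (h : ∀ u : Fin a → F, ∃ c : F, Θ *ᵥ u = c • u) :
    IsScal Θ := by
  classical
  choose c hc using fun i : Fin a => h (Pi.single i 1)
  by_cases hne : Nonempty (Fin a)
  · obtain ⟨i₀⟩ := hne
    have hall : ∀ j, c j = c i₀ := by
      intro j
      by_cases hj : j = i₀
      · rw [hj]
      · obtain ⟨d, hd⟩ := h (Pi.single i₀ 1 + Pi.single j 1)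
        rw [Matrix.mulVec_add, hc, hc] at hd
        have h1 := congrFun hd i₀
        have h2 := congrFun hd j
        simp only [Pi.add_apply, Pi.smul_apply, Pi.single_eq_same, smul_eq_mul, mul_one,
          Pi.single_eq_of_ne (Ne.symm hj), Pi.single_eq_of_ne hj, mul_zero, add_zero,
          zero_add] at h1 h2
        rw [h2, ← h1]
    refine ⟨c i₀, ?_⟩
    ext i j
    have h1 := congrFun (hc j) i
    rw [Matrix.mulVec_single_one, Matrix.col_apply, Pi.smul_apply, smul_eq_mul, hall j] at h1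
    rw [h1, Matrix.smul_apply, smul_eq_mul, Matrix.one_apply, Pi.single_apply]
  · refine ⟨0, ?_⟩
    ext i j
    exact absurd ⟨i⟩ hne

/-- ALT2 (S-M): `a = 2`: `(u, Θu) = 0 ∀u` ⟹ scalar. -/
theorem ALT2.main (hU : IsSymp GU) (ha : a = 2) (Θ : Matrix (Fin a) (Fin a) F)
    (h : ∀ u : Fin a → F, bf GU u (Θ *ᵥ u) = 0) : IsScal Θ := by
  subst ha
  apply ALT2.eig
  intro u
  by_cases hu : u = 0
  · refine ⟨0, ?_⟩
    rw [hu, Matrix.mulVec_zero, smul_zero]
  · exact EX.two hU hu (h u)

end Cfsg.Agent.S5704P
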