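import Mathlib
import Cfsg.Agent.Helper15.S5704SEEDDefs2
import Cfsg.Agent.Helper26.S5704ROOTS

/-! # S5704, chapter SEED, piece F2 (helper14): the key commutator formula. -/

set_option autoImplicit false
set_option linter.unusedSectionVars false
set_option linter.unusedVariables false

namespace Cfsg.Agent.S5704P

open Matrix Cfsg.Agent.S5637P Cfsg.Agent.S5704S Cfsg.Agent.Helper28.Sg

variable {F : Type*} [Field F] {n a b : ℕ} (e : Fin n ≃ Fin a × Fin b)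
variable {Q : QuadraticForm F (Fin n → F)} {GU : Matrix (Fin a) (Fin a) F}
  {GW : Matrix (Fin b) (Fin b) F} {M : Subgroup (GL (Fin n) F)}

/-- an isometry preserves the polar form -/
theorem F2.polar_iso {g : GL (Fin n) F}
    (hiso : ∀ x, Q ((g : Matrix (Fin n) (Fin n) F) *ᵥ x) = Q x) (x y : Fin n → F) :
    QuadraticMap.polar ⇑Q ((g : Matrix (Fin n) (Fin n) F) *ᵥ x)
      ((g : Matrix (Fin n) (Fin n) F) *ᵥ y) = QuadraticMap.polar ⇑Q x y := by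
  unfold QuadraticMap.polar
  rw [← Matrix.mulVec_add, hiso, hiso, hiso]

/-- `κ_z (g v) = κ_z v` -/
theorem F2.K1 (hT : TData Q e 1 GU GW) {g : GL (Fin n) F}
    (hiso : ∀ x, Q ((g : Matrix (Fin n) (Fin n) F) *ᵥ x) = Q x) {z : Fin b → F}
    (hfix : FixV e z g) (v : Fin n → F) :
    cps e (psi GW z) ((g : Matrix (Fin n) (Fin n) F) *ᵥ v) = cps e (psi GW z) v := by
  apply sub_eq_zero.mp
  apply hT.sympU.nondeg
  intro u
  rw [bf_sub_left, ← ROOTS.polar_tn e hT, ← ROOTS.polar_tn e hT]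
  have h1 : QuadraticMap.polar ⇑Q ((g : Matrix (Fin n) (Fin n) F) *ᵥ v) (tn e u z) =
      QuadraticMap.polar ⇑Q v (tn e u z) := by
    conv_lhs => rw [← hfix u]
    exact F2.polar_iso hiso v (tn e u z)
  rw [h1, sub_self]

/-- `κ_{z1} (g v) = κ_{z1} v - Θ' κ_z v` -/
theorem F2.K2 (hT : TData Q e 1 GU GW) {g : GL (Fin n) F}
    (hiso : ∀ x, Q ((g : Matrix (Fin n) (Fin n) F) *ᵥ x) = Q x) {z z1 : Fin b → F}
    (hfix : FixV e z g) {Θ Θ' : Matrix (Fin a) (Fin a) F}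
    (hΘ : Slice e z z1 Θ g) (hadj : IsAdj GU Θ Θ') (v : Fin n → F) :
    cps e (psi GW z1) ((g : Matrix (Fin n) (Fin n) F) *ᵥ v) =
      cps e (psi GW z1) v - Θ' *ᵥ cps e (psi GW z) v := by
  apply sub_eq_zero.mp
  apply hT.sympU.nondeg
  intro u
  rw [bf_sub_left, bf_sub_left, hadj, ← ROOTS.polar_tn e hT, ← ROOTS.polar_tn e hT,
    ← ROOTS.polar_tn e hT]
  have h0 : tn e u z1 = (g : Matrix (Fin n) (Fin n) F) *ᵥ tn e u z1 -
      (g : Matrix (Fin n) (Fin n) F) *ᵥ tn e (Θ *ᵥ u) z := by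
    rw [hΘ u, hfix (Θ *ᵥ u), add_sub_cancel_right]
  have h1 : QuadraticMap.polar ⇑Q ((g : Matrix (Fin n) (Fin n) F) *ᵥ v) (tn e u z1) =
      QuadraticMap.polar ⇑Q v (tn e u z1) - QuadraticMap.polar ⇑Q v (tn e (Θ *ᵥ u) z) := by
    conv_lhs => rw [h0]
    rw [QuadraticMap.polar_sub_right, F2.polar_iso hiso, F2.polar_iso hiso]
  rw [h1]
  ring

/-- the key identity `g x y = E (x g y)` -/
theorem F2.key (hT : TData Q e 1 GU GW) {g : GL (Fin n) F}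
    (hiso : ∀ x, Q ((g : Matrix (Fin n) (Fin n) F) *ᵥ x) = Q x) {z z1 : Fin b → F}
    (hzz1 : bf GW z1 z = 0) (hfix : FixV e z g) {Θ Θ' : Matrix (Fin a) (Fin a) F}
    (hΘ : Slice e z z1 Θ g) (hadj : IsAdj GU Θ Θ') (c : F) (y : Fin n → F) :
    (g : Matrix (Fin n) (Fin n) F) *ᵥ
        (((XW e GW z1 c : GL (Fin n) F) : Matrix (Fin n) (Fin n) F) *ᵥ y) =
      ((XW e GW z1 c : GL (Fin n) F) : Matrix (Fin n) (Fin n) F) *ᵥ
          ((g : Matrix (Fin n) (Fin n) F) *ᵥ y) +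
        c • tn e (Θ *ᵥ cps e (psi GW z1) (((XW e GW z1 c : GL (Fin n) F) :
          Matrix (Fin n) (Fin n) F) *ᵥ ((g : Matrix (Fin n) (Fin n) F) *ᵥ y))) z +
        c • tn e (Θ' *ᵥ cps e (psi GW z) (((XW e GW z1 c : GL (Fin n) F) :
          Matrix (Fin n) (Fin n) F) *ᵥ ((g : Matrix (Fin n) (Fin n) F) *ᵥ y))) z1 +
        c • tn e ((Θ * Θ') *ᵥ cps e (psi GW z) (((XW e GW z1 c : GL (Fin n) F) :
          Matrix (Fin n) (Fin n) F) *ᵥ ((g : Matrix (Fin n) (Fin n) F) *ᵥ y))) z := by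
  have hW := hT.sympW
  have hx : ∀ w, ((XW e GW z1 c : GL (Fin n) F) : Matrix (Fin n) (Fin n) F) *ᵥ w =
      w + c • tn e (cps e (psi GW z1) w) z1 := XW_mulVec e hW z1 c
  have hκz : ∀ w, cps e (psi GW z) (((XW e GW z1 c : GL (Fin n) F) :
      Matrix (Fin n) (Fin n) F) *ᵥ w) = cps e (psi GW z) w := by
    intro w
    rw [hx, map_add, map_smul, cps_tn, psi_dot, hzz1, zero_smul, smul_zero, add_zero]
  have hκ1 : ∀ w, cps e (psi GW z1) (((XW e GW z1 c : GL (Fin n) F) :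
      Matrix (Fin n) (Fin n) F) *ᵥ w) = cps e (psi GW z1) w := by
    intro w
    rw [hx, map_add, map_smul, cps_tn, psi_dot, hW.alt, zero_smul, smul_zero, add_zero]
  rw [hκz, hκ1, F2.K1 e hT hiso hfix, F2.K2 e hT hiso hfix hΘ hadj, hx y, hx, Matrix.mulVec_add,
    Matrix.mulVec_smul, hΘ, F2.K2 e hT hiso hfix hΘ hadj, tn_sub_left, Matrix.mulVec_sub,
    tn_sub_left, ← Matrix.mulVec_mulVec]
  module

/-- F2 (M-L): helper24's (S2). -/
theorem F2.main (hT : TData Q e 1 GU GW) {g : GL (Fin n) F}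
    (hiso : ∀ x, Q ((g : Matrix (Fin n) (Fin n) F) *ᵥ x) = Q x) {z z1 : Fin b → F}
    (hzz1 : bf GW z1 z = 0) (hfix : FixV e z g) {Θ Θ' : Matrix (Fin a) (Fin a) F}
    (hΘ : Slice e z z1 Θ g) (hadj : IsAdj GU Θ Θ') (c : F) :
    EGp e GW z z1 (c • Θ) (c • Θ') (c • (Θ * Θ')) (g * XW e GW z1 c * g⁻¹ * (XW e GW z1 c)⁻¹) := by
  intro u w
  obtain ⟨y, hy⟩ : ∃ y : Fin n → F, y = ((g⁻¹ : GL (Fin n) F) : Matrix (Fin n) (Fin n) F) *ᵥ
      ((((XW e GW z1 c)⁻¹ : GL (Fin n) F) : Matrix (Fin n) (Fin n) F) *ᵥ tn e u w) := ⟨_, rfl⟩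
  have hback : ((XW e GW z1 c : GL (Fin n) F) : Matrix (Fin n) (Fin n) F) *ᵥ
      ((g : Matrix (Fin n) (Fin n) F) *ᵥ y) = tn e u w := by
    rw [hy, Matrix.mulVec_mulVec, Matrix.mulVec_mulVec, Matrix.mulVec_mulVec, ← Units.val_mul,
      ← Units.val_mul, ← Units.val_mul]
    have : XW e GW z1 c * (g * g⁻¹) * (XW e GW z1 c)⁻¹ = 1 := by group
    rw [show XW e GW z1 c * g * g⁻¹ * (XW e GW z1 c)⁻¹ =
      XW e GW z1 c * (g * g⁻¹) * (XW e GW z1 c)⁻¹ by group, this, Units.val_one,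
      Matrix.one_mulVec]
  have hk : ((g * XW e GW z1 c * g⁻¹ * (XW e GW z1 c)⁻¹ : GL (Fin n) F) :
      Matrix (Fin n) (Fin n) F) *ᵥ tn e u w = (g : Matrix (Fin n) (Fin n) F) *ᵥ
        (((XW e GW z1 c : GL (Fin n) F) : Matrix (Fin n) (Fin n) F) *ᵥ y) := by
    rw [hy, Units.val_mul, Units.val_mul, Units.val_mul, Matrix.mulVec_mulVec,
      Matrix.mulVec_mulVec, Matrix.mulVec_mulVec]
  rw [hk, F2.key e hT hiso hzz1 hfix hΘ hadj c y, hback, cps_tn, cps_tn, psi_dot, psi_dot,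
    Matrix.mulVec_smul, Matrix.mulVec_smul, Matrix.mulVec_smul, Matrix.smul_mulVec,
    Matrix.smul_mulVec, Matrix.smul_mulVec, tn_smul_left, tn_smul_left, tn_smul_left,
    tn_smul_left, tn_smul_left, tn_smul_left]
  module

end Cfsg.Agent.S5704P
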