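import Mathlib
import Cfsg.Agent.Helper28.S5704SDefs

/-! # S5704, chapter SPREAD, piece EXCROSS (helper14, hedge): `EX.cross`. -/

set_option autoImplicit false
set_option linter.unusedSectionVars false
set_option linter.unusedVariables false

namespace Cfsg.Agent.S5704S

open Matrix Cfsg.Agent.Helper28.Sg

variable {F : Type*} [Field F] {n a b m : ℕ}

/-- for a nondegenerate reflexive form in dimension `≥ 3` and nonzero `x y` there are `s ⊥ y`, `t ⊥ x`
with `B s t ≠ 0` -/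
theorem EXCROSS.perp {K V : Type*} [Field K] [AddCommGroup V] [Module K V] [FiniteDimensional K V]
    (B : LinearMap.BilinForm K V) (hB : B.Nondegenerate) (hr : B.IsRefl)
    (hd : 3 ≤ Module.finrank K V)
    (x y : V) (hx : x ≠ 0) (hy : y ≠ 0) : ∃ s t : V, B s y = 0 ∧ B t x = 0 ∧ B s t ≠ 0 := by
  by_contra hcon
  push Not at hcon
  have hle : B.orthogonal (K ∙ x) ≤ B.orthogonal (B.orthogonal (K ∙ y)) := by
    intro t ht
    rw [LinearMap.BilinForm.mem_orthogonal_iff]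
    intro s hs
    have h1 : B s y = 0 := by
      have := (LinearMap.BilinForm.mem_orthogonal_iff.mp hs) y (Submodule.mem_span_singleton_self y)
      exact hr _ _ this
    have h2 : B t x = 0 := by
      have := (LinearMap.BilinForm.mem_orthogonal_iff.mp ht) x (Submodule.mem_span_singleton_self x)
      exact hr _ _ this
    exact hcon s t h1 h2
  rw [LinearMap.BilinForm.orthogonal_orthogonal hB hr] at hle
  have h1 := Submodule.finrank_mono hle
  rw [LinearMap.BilinForm.finrank_orthogonal hB, finrank_span_singleton hx,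
    finrank_span_singleton hy] at h1
  omega

theorem EXCROSS.bf_eq (G : Matrix (Fin m) (Fin m) F) (x y : Fin m → F) :
    Matrix.toBilin' G x y = bf G x y := by
  rw [Matrix.toBilin'_apply']; rfl

theorem EXCROSS.nz {G : Matrix (Fin m) (Fin m) F} (hG : IsSymp G) (hm : 4 ≤ m)
    (x y : Fin m → F) (hx : x ≠ 0) (hy : y ≠ 0) :
    ∃ s t : Fin m → F, bf G s y = 0 ∧ bf G t x = 0 ∧ bf G s t ≠ 0 := by
  have hr : (Matrix.toBilin' G).IsRefl := by
    intro v w hvw
    rw [EXCROSS.bf_eq] at hvw ⊢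
    exact hG.eq_zero_symm hvw
  have hB : (Matrix.toBilin' G).Nondegenerate := by
    refine (LinearMap.IsRefl.nondegenerate_iff_separatingLeft hr).mpr ?_
    intro v hv
    apply hG.nondeg
    intro y
    rw [← EXCROSS.bf_eq]; exact hv y
  have hd : 3 ≤ Module.finrank F (Fin m → F) := by
    rw [Module.finrank_fin_fun]; omega
  obtain ⟨s, t, h1, h2, h3⟩ := EXCROSS.perp (Matrix.toBilin' G) hB hr hd x y hx hy
  rw [EXCROSS.bf_eq] at h1 h2 h3
  exact ⟨s, t, h1, h2, h3⟩

/-- EXCROSS (M): in dimension `≥ 4`: `w₂ ⊥ w'`, `w₂' ⊥ w`, `bf w₂ w₂' = 1` (any `w, w'`, zero allowed). -/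
theorem EX.cross {G : Matrix (Fin m) (Fin m) F} (hG : IsSymp G) (hm : 4 ≤ m) (w w' : Fin m → F) :
    ∃ w₂ w₂' : Fin m → F, bf G w' w₂ = 0 ∧ bf G w w₂' = 0 ∧ bf G w₂ w₂' = 1 := by
  classical
  have he : (Pi.single (⟨0, by omega⟩ : Fin m) (1 : F) : Fin m → F) ≠ 0 := by
    intro h0
    have := congrFun h0 ⟨0, by omega⟩
    rw [Pi.single_eq_same] at this
    exact one_ne_zero this
  obtain ⟨x, hx, hxw⟩ : ∃ x : Fin m → F, x ≠ 0 ∧ (w ≠ 0 → x = w) := by
    by_cases hw : w = 0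
    · exact ⟨_, he, fun h => absurd hw h⟩
    · exact ⟨w, hw, fun _ => rfl⟩
  obtain ⟨y, hy, hyw⟩ : ∃ y : Fin m → F, y ≠ 0 ∧ (w' ≠ 0 → y = w') := by
    by_cases hw : w' = 0
    · exact ⟨_, he, fun h => absurd hw h⟩
    · exact ⟨w', hw, fun _ => rfl⟩
  obtain ⟨s, t, h1, h2, h3⟩ := EXCROSS.nz hG hm x y hx hy
  refine ⟨s, (bf G s t)⁻¹ • t, ?_, ?_, ?_⟩
  · by_cases hw : w' = 0
    · rw [hw, bf_zero_left]
    · rw [hyw hw] at h1
      exact hG.eq_zero_symm h1
  · rw [bf_smul_right]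
    by_cases hw : w = 0
    · rw [hw, bf_zero_left, mul_zero]
    · rw [hxw hw] at h2
      rw [hG.eq_zero_symm h2, mul_zero]
  · rw [bf_smul_right, inv_mul_cancel₀ h3]

end Cfsg.Agent.S5704S
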