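import Mathlib
import Cfsg.Agent.Helper28.S5704SDefs
import Cfsg.Agent.Helper18.S5704SEXONE
import Cfsg.Agent.Helper14.S5704SEXCROSS
import Cfsg.Agent.Helper9.S5704SCOMM

/-! # S5704, chapter SPREAD, piece STEP1 (helper14, hedge): `STEP1.main`. -/

set_option autoImplicit false
set_option linter.unusedSectionVars false
set_option linter.unusedVariables false

namespace Cfsg.Agent.S5704S

open Matrix Cfsg.Agent.Helper28.Sg

variable {F : Type*} [Field F] {n a b m : ℕ}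

section steps

variable {Q : QuadraticForm F (Fin n → F)} {M : Subgroup ↥(Cfsg.isometryGroup F ⇑Q)}
  {e : Fin n ≃ Fin a × Fin b} {P : Matrix (Fin n) (Fin n) F}
  {GU : Matrix (Fin a) (Fin a) F} {GW : Matrix (Fin b) (Fin b) F}

/-- the case `bf GW w w' ≠ 0` -/
theorem STEP1.nz (hT : TData Q e P GU GW) (ha : 4 ≤ a)
    (hA : ∀ u u' w, bf GU u u' = 0 → InM Q M (pt e P u w) (pt e P u' w))
    (u : Fin a → F) (w w' : Fin b → F) (hne : bf GW w w' ≠ 0) :
    InM Q M (pt e P u w) (pt e P u w') := by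
  obtain ⟨u₂, u₂', h1, h2, h3⟩ := EX.cross hT.sympU ha u u
  have hc1 : bf GU u ((bf GW w w')⁻¹ • u₂) = 0 := by rw [bf_smul_right, h1, mul_zero]
  have hI1 : InM Q M (pt e P u w) (pt e P ((bf GW w w')⁻¹ • u₂) w) := hA u _ w hc1
  have hI2 : InM Q M (pt e P u w') (pt e P u₂' w') := hA u u₂' w' h2
  have hpp' : B Q (pt e P u w) (pt e P u w') = 0 := by
    show QuadraticMap.polar ⇑Q _ _ = 0
    rw [hT.pol, hT.sympU.alt, zero_mul]
  have hpy' : B Q (pt e P u w) (pt e P u₂' w') = 0 := by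
    show QuadraticMap.polar ⇑Q _ _ = 0
    rw [hT.pol, h2, zero_mul]
  have hp'y : B Q (pt e P u w') (pt e P ((bf GW w w')⁻¹ • u₂) w) = 0 := by
    show QuadraticMap.polar ⇑Q _ _ = 0
    rw [hT.pol, hc1, zero_mul]
  have hyy' : B Q (pt e P ((bf GW w w')⁻¹ • u₂) w) (pt e P u₂' w') = 1 := by
    show QuadraticMap.polar ⇑Q _ _ = 1
    rw [hT.pol, bf_smul_left, h3, mul_one, inv_mul_cancel₀ hne]
  have hmain := COMM.main (M := M) (hT.sing _ _) (hT.sing _ _) hpp' hpy' hp'y hI1 hI2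
  rw [hyy', one_smul] at hmain
  exact hmain

/-- STEP1 (M): (A), `a ≥ 4` ⟹ (B+). -/
theorem STEP1.main (hT : TData Q e P GU GW) (ha : 4 ≤ a)
    (hA : ∀ u u' w, bf GU u u' = 0 → InM Q M (pt e P u w) (pt e P u' w)) :
    ∀ u w w', InM Q M (pt e P u w) (pt e P u w') := by
  intro u w w'
  by_cases hw : w = 0
  · rw [hw, pt_zero_right]
    exact InM.zero_left _
  by_cases hne : bf GW w w' = 0
  · obtain ⟨w₃, hw₃⟩ := EX.one hT.sympW hw
    have h1 : InM Q M (pt e P u w) (pt e P u w₃) :=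
      STEP1.nz hT ha hA u w w₃ (by rw [hw₃]; exact one_ne_zero)
    have h2 : InM Q M (pt e P u w) (pt e P u (w' - w₃)) :=
      STEP1.nz hT ha hA u w (w' - w₃) (by
        rw [bf_sub_right, hne, hw₃, zero_sub]; exact neg_ne_zero.mpr one_ne_zero)
    have h3 := h1.add h2
    rw [← pt_add_right] at h3
    have : w₃ + (w' - w₃) = w' := by abel
    rwa [this] at h3
  · exact STEP1.nz hT ha hA u w w' hne

end steps

end Cfsg.Agent.S5704S
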