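import Mathlib
import Cfsg.Prelude.Def_GeometricClasses
import Cfsg.Agent.Helper2.S5886.Defs
import Cfsg.Agent.Helper4.S5886SYLGENA
import Cfsg.Agent.Helper4.S5886SYLGENB
import Cfsg.Agent.Helper8.S5886FIXL
import Cfsg.Agent.Helper21.S5886KTRANS2
import Cfsg.Agent.Helper23.S5886KTVP
import Cfsg.Agent.Helper11.S5886SYLH1

/-! # S5886 piece C4 (helper14): the case `r = p < |F|` -/

set_option autoImplicit false
set_option linter.style.haveILetI false
set_option linter.unusedSectionVars false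
set_option linter.unusedVariables false

namespace Cfsg.Agent.S5886P

variable {F K V : Type*} [Field F] [Field K] [Algebra F K]
  [AddCommGroup V] [Module F V] [Module K V] [IsScalarTower F K V]

namespace C4

/-- the setwise stabiliser of a subspace, in "iff" form -/
def StabL (L : Submodule F V) : Subgroup (V ≃ₗ[F] V) where
  carrier := {g | ∀ x, x ∈ L ↔ g x ∈ L}
  mul_mem' := by
    intro a b ha hb x
    rw [LinearEquiv.mul_apply, ← ha (b x), ← hb x]
  one_mem' := fun x => Iff.rfl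
  inv_mem' := by
    intro a ha x
    have h1 := ha (a⁻¹ x)
    have h2 : a (a⁻¹ x) = x := by
      show (a * a⁻¹) x = x
      rw [mul_inv_cancel]; rfl
    rw [h2] at h1
    exact h1.symm

/-- an automorphism of a finite space mapping `L` into `L` stabilises `L` -/
theorem mem_StabL_of_forall [Finite V] (L : Submodule F V) (g : V ≃ₗ[F] V)
    (hg : ∀ x ∈ L, g x ∈ L) : g ∈ StabL L := by
  intro x
  refine ⟨hg x, fun hx => ?_⟩
  set f : L → L := fun y => ⟨g y, hg y y.2⟩ with hf
  have hinj : Function.Injective f := by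
    intro a b hab
    apply Subtype.ext
    apply g.injective
    exact congrArg Subtype.val hab
  have hsurj : Function.Surjective f := Finite.surjective_of_injective hinj
  obtain ⟨y, hy⟩ := hsurj ⟨g x, hx⟩
  have h1 : g y = g x := congrArg Subtype.val hy
  have h2 : (y : V) = x := g.injective h1
  rw [← h2]
  exact y.2

/-- the pointwise stabiliser is in the setwise stabiliser -/
theorem StabPt_le_StabL (M : Subgroup (V ≃ₗ[F] V)) (L : Submodule F V) : StabPt M L ≤ StabL L := by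
  intro g hg x
  refine ⟨fun hx => by rw [hg.2 x hx]; exact hx, fun hx => ?_⟩
  have h1 : g⁻¹ ∈ StabPt M L := (StabPt M L).inv_mem hg
  have h2 : g⁻¹ (g x) = g x := h1.2 _ hx
  have h3 : g⁻¹ (g x) = x := by
    show (g⁻¹ * g) x = x
    rw [inv_mul_cancel]; rfl
  rw [← h3, h2]
  exact hx

/-- a pigeonhole: a map from `F` to the Galois group is not injective when `[K:F] < |F|` -/
theorem pigeon [Finite F] [Finite K] (hlt : Module.finrank F K < Nat.card F)
    (f : F → (K ≃ₐ[F] K)) : ∃ b b' : F, b ≠ b' ∧ f b = f b' := by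
  classical
  haveI : Fintype F := Fintype.ofFinite F
  haveI : Fintype (K ≃ₐ[F] K) := Fintype.ofFinite _
  haveI : IsGalois F K := inferInstance
  have h1 : Fintype.card (K ≃ₐ[F] K) < Fintype.card F := by
    rw [← Nat.card_eq_fintype_card, ← Nat.card_eq_fintype_card, IsGalois.card_aut_eq_finrank F K]
    exact hlt
  exact Fintype.exists_ne_map_eq_of_card_lt f h1

end C4

/-- C4 : the case `r = p < |F|`. -/
theorem C4 [Finite F] [Finite K] [Finite V] (p : ℕ) [Fact p.Prime] [CharP F p]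
    (hm : 2 ≤ Module.finrank K V) (hrp : Module.finrank F K = p) (hq : p < Nat.card F)
    (M : Subgroup (V ≃ₗ[F] V)) (hKTV : KTV F K V ≤ M) (v : V) (k : K) (h : V ≃ₗ[F] V) (hv : v ≠ 0)
    (hh : h ∈ M) (hhv : h v = v) (hhk : h (k • v) ∉ Kline (F := F) (K := K) v)
    (S1 : ∀ g ∈ M, (∀ x ∈ Kline (F := F) (K := K) v, g x ∈ Kline (F := F) (K := K) v) → g v = v →
      ∃ σ : K ≃ₐ[F] K, ∀ c : K, g (c • v) = σ c • v) : False := by
  classical
  have hp : p.Prime := Fact.out
  have hlt : Module.finrank F K < Nat.card F := by rw [hrp]; exact hq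
  set w := h (k • v) with hw
  set L := Kline (F := F) (K := K) v with hL
  set H0 := StabPt M L with hH0
  set H2 := Stab2c M v (k • v) with hH2
  have hinvv : h⁻¹ v = v := by
    apply h.injective
    rw [hhv]
    show (h * h⁻¹) v = v
    rw [mul_inv_cancel]; rfl
  have hinvw : h⁻¹ w = k • v := by
    rw [hw]
    show (h⁻¹ * h) (k • v) = k • v
    rw [inv_mul_cancel]; rfl
  -- `H0 ≤ H2`
  have hH02 : H0 ≤ H2 := by
    rintro g ⟨hgM, hgL⟩
    refine ⟨hgM, hgL v (SYLH1.self_mem_Kline v), 0, ?_⟩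
    rw [hgL (k • v) (SYLH1.smul_mem_Kline v k), zero_smul, add_zero]
  -- a Sylow subgroup of `H2` containing the transvections with centre `v`
  obtain ⟨P1, hP1, hYP1⟩ := SYLGEN.exists_le p H2 (FIXL.Ygrp M L)
    ((FIXL.Ygrp_le M L).trans hH02) (FIXL.Ygrp_isPGroup p M L)
  -- elements of `P1` moving `k • v` to `k • v + b • v`
  have hgb : ∀ b : F, ∃ g ∈ P1, g (k • v) = k • v + b • v := by
    intro b
    obtain ⟨t, htK, htv, htw⟩ := KTRANS2 (F := F) (K := K) v w hhk b
    have htM : t ∈ M := hKTV (Subgroup.subset_closure htK)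
    have htp : t ^ p = 1 := KTVP p t htK
    set t' := h⁻¹ * t * h with ht'
    have ht'M : t' ∈ M := M.mul_mem (M.mul_mem (M.inv_mem hh) htM) hh
    have ht'v : t' v = v := by
      rw [ht']
      simp only [LinearEquiv.mul_apply]
      rw [hhv, htv, hinvv]
    have ht'k : t' (k • v) = k • v + b • v := by
      rw [ht']
      simp only [LinearEquiv.mul_apply]
      rw [← hw, htw, map_add, map_smul, hinvw, hinvv]
    have ht'H2 : t' ∈ H2 := ⟨ht'M, ht'v, b, ht'k⟩
    have ht'p : t' ^ p = 1 := by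
      have e1 : t' ^ p = h⁻¹ * t ^ p * h := by
        have := conj_pow (a := h⁻¹) (b := t) (i := p)
        rwa [inv_inv] at this
      rw [e1, htp]
      group
    have hzp : IsPGroup p (Subgroup.zpowers t') := by
      rintro ⟨x, hx⟩
      obtain ⟨j, rfl⟩ := Subgroup.mem_zpowers_iff.mp hx
      refine ⟨1, Subtype.ext ?_⟩
      simp only [pow_one, Subgroup.coe_pow, Subgroup.coe_one]
      rw [← zpow_natCast, ← zpow_mul, mul_comm, zpow_mul, zpow_natCast, ht'p, one_zpow]
    obtain ⟨P', hP', hzP'⟩ := SYLGEN.exists_le p H2 (Subgroup.zpowers t')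
      (Subgroup.zpowers_le.mpr ht'H2) hzp
    obtain ⟨c, hcH2, hc⟩ := SYLGEN.conj p H2 P1 P' hP1 hP'
    have h1 : c⁻¹ * t' * c ∈ P1 := (hc t').mp (hzP' (Subgroup.mem_zpowers t'))
    refine ⟨c⁻¹ * t' * c, h1, ?_⟩
    obtain ⟨hcM, hcv, a, hck⟩ := hcH2
    have hcinvv : c⁻¹ v = v := by
      apply c.injective
      rw [hcv]
      show (c * c⁻¹) v = v
      rw [mul_inv_cancel]; rfl
    have hcinvk : c⁻¹ (k • v) = k • v - a • v := by
      apply c.injective
      rw [map_sub, map_smul c a v, hck, hcv]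
      show (c * c⁻¹) (k • v) = _
      rw [mul_inv_cancel]
      simp
    simp only [LinearEquiv.mul_apply]
    rw [hck, map_add, map_smul t' a v, ht'k, ht'v, map_add, map_add, map_smul c⁻¹ a v,
      map_smul c⁻¹ b v, hcinvk, hcinvv]
    abel
  -- some element of `P1` does not stabilise `L`
  have hex : ∃ g₁ ∈ P1, ¬ ∀ x ∈ L, g₁ x ∈ L := by
    by_contra hall
    push Not at hall
    choose gb hgbP hgbk using hgb
    have hσ : ∀ b, ∃ σ : K ≃ₐ[F] K, ∀ c : K, gb b (c • v) = σ c • v := fun b =>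
      S1 (gb b) (hP1.1 (hgbP b)).1 (hall _ (hgbP b)) (hP1.1 (hgbP b)).2.1
    choose σb hσb using hσ
    obtain ⟨b, b', hne, heq⟩ := C4.pigeon hlt σb
    have h1 := hσb b k
    have h2 := hσb b' k
    rw [heq, ← h2, hgbk, hgbk] at h1
    have h3 : (b - b') • v = 0 := by
      rw [sub_smul]
      have := add_left_cancel h1
      rw [this, sub_self]
    rcases smul_eq_zero.mp h3 with h4 | h4
    · exact hne (sub_eq_zero.mp h4)
    · exact hv h4
  -- the stabiliser of `L` in `P1`
  set N := P1 ⊓ C4.StabL L with hN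
  have hNP : N ≤ P1 := inf_le_left
  have hNne : N ≠ P1 := by
    intro heq
    obtain ⟨g₁, hg₁, hg₁L⟩ := hex
    apply hg₁L
    have : g₁ ∈ N := by rw [heq]; exact hg₁
    intro x hx
    exact (this.2 x).mp hx
  obtain ⟨g, hgP1, hgN, hgn⟩ := SYLGEN.norm_grow p P1 N hP1.2.1 hNP hNne
  have hgM : g ∈ M := (hP1.1 hgP1).1
  -- `g` moves a point of `L` out of `L`
  have hx₀ : ∃ x₀ ∈ L, g x₀ ∉ L := by
    by_contra hcon
    push Not at hcon
    exact hgN ⟨hgP1, C4.mem_StabL_of_forall L g hcon⟩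
  obtain ⟨x₀, hx₀L, hgx₀⟩ := hx₀
  set x := g x₀ with hx
  -- a functional vanishing at `v`, not at `x`
  have hx' : x ∉ Submodule.span K {v} := hgx₀
  obtain ⟨f, hf, hf'⟩ := Submodule.exists_dual_map_eq_bot_of_notMem hx' inferInstance
  have hfv : f v = 0 := by
    have : f v ∈ (Submodule.span K {v}).map f :=
      Submodule.mem_map_of_mem (Submodule.mem_span_singleton_self v)
    rw [hf'] at this
    exact (Submodule.mem_bot K).mp this
  -- the transvections `ρ b`
  have hρ : ∀ b : F, ∃ ρ ∈ N, ρ x = x + b • v := by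
    intro b
    set ψ : V →ₗ[K] K := (algebraMap F K b * (f x)⁻¹) • f with hψ
    have hψv : ψ v = 0 := by simp [hψ, hfv]
    have hψx : ψ x = algebraMap F K b := by
      simp only [hψ, LinearMap.smul_apply, smul_eq_mul]
      rw [mul_assoc, inv_mul_cancel₀ hf, mul_one]
    have hmem := FIXL.tv_mem_Ygrp (F := F) M hKTV ψ v hψv
    refine ⟨FIXL.tv (F := F) ψ v hψv, ⟨hYP1 hmem, C4.StabPt_le_StabL M L (FIXL.Ygrp_le M L hmem)⟩, ?_⟩
    rw [FIXL.tv_apply, hψx, algebraMap_smul]
  choose ρ hρN hρx using hρ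
  -- conjugates by `g` stay in `N`
  have hy : ∀ b : F, g⁻¹ * ρ b * g ∈ N := by
    intro b
    rw [hgn (g⁻¹ * ρ b * g)]
    have : g * (g⁻¹ * ρ b * g) * g⁻¹ = ρ b := by group
    rw [this]
    exact hρN b
  have hσ : ∀ b : F, ∃ σ : K ≃ₐ[F] K, ∀ c : K, (g⁻¹ * ρ b * g) (c • v) = σ c • v := fun b =>
    S1 _ (hP1.1 (hy b).1).1 (fun z hz => ((hy b).2 z).mp hz) (hP1.1 (hy b).1).2.1
  choose σb hσb using hσ
  obtain ⟨b, b', hne, heq⟩ := C4.pigeon hlt σb
  obtain ⟨c₀, hc₀⟩ := SYLH1.mem_Kline.mp hx₀L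
  have h1 := hσb b c₀
  have h2 := hσb b' c₀
  rw [heq, ← h2, hc₀] at h1
  simp only [LinearEquiv.mul_apply] at h1
  have h3 : ρ b x = ρ b' x := (g⁻¹).injective h1
  rw [hρx, hρx] at h3
  have h4 : (b - b') • v = 0 := by
    rw [sub_smul]
    have := add_left_cancel h3
    rw [this, sub_self]
  rcases smul_eq_zero.mp h4 with h5 | h5
  · exact hne (sub_eq_zero.mp h5)
  · exact hv h5

end Cfsg.Agent.S5886P
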