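import Mathlib
import Cfsg.Prelude.Def_GeometricClasses
import Cfsg.Agent.Helper2.S5886.Defs

/-! # S5886 piece DETSURJ (helper14): the semilinear group has all determinants. -/

set_option autoImplicit false

namespace Cfsg.Agent.S5886P

variable {F K V : Type*} [Field F] [Field K] [Algebra F K]
  [AddCommGroup V] [Module F V] [Module K V] [IsScalarTower F K V]

/-- a `K`-linear automorphism with prescribed `K`-determinant `a ≠ 0` (when `dim_K V ≥ 1`) -/
theorem DETSURJ.exists_klin [Finite K] [Finite V] (hm : 1 ≤ Module.finrank K V) (a : K) (ha : a ≠ 0) :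
    ∃ f : V ≃ₗ[K] V, LinearMap.det (f : V →ₗ[K] V) = a := by
  classical
  have : Module.Finite K V := Module.Finite.of_finite
  set e := Module.finBasis K V with he
  set i₀ : Fin (Module.finrank K V) := ⟨0, by omega⟩ with hi₀
  set w : Fin (Module.finrank K V) → K := Function.update (fun _ => (1 : K)) i₀ a with hw
  set fK : V →ₗ[K] V := Matrix.toLin e e (Matrix.diagonal w) with hfK
  have hdet : LinearMap.det fK = a := by
    rw [hfK, LinearMap.det_toLin, Matrix.det_diagonal, hw, Finset.prod_update_of_mem (Finset.mem_univ _)]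
    simp
  have hu : IsUnit (LinearMap.det fK) := by
    rw [hdet]
    exact isUnit_iff_ne_zero.mpr ha
  refine ⟨LinearMap.equivOfIsUnitDet hu, ?_⟩
  rw [LinearMap.coe_equivOfIsUnitDet]
  exact hdet

/-- DETSURJ : the semilinear group has all determinants. -/
theorem DETSURJ [Finite F] [Finite K] [Finite V] (hm : 1 ≤ Module.finrank K V) (g : V ≃ₗ[F] V) :
    ∃ n ∈ Nrm F K V, LinearEquiv.det n = LinearEquiv.det g := by
  obtain ⟨a, ha⟩ := FiniteField.unitsMap_norm_surjective F K (LinearEquiv.det g)
  obtain ⟨f, hf⟩ := DETSURJ.exists_klin (V := V) hm (a : K) a.ne_zero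
  refine ⟨f.restrictScalars F, ⟨AlgEquiv.refl, ?_⟩, ?_⟩
  · intro k x
    simp
  · apply Units.ext
    rw [LinearEquiv.coe_det]
    have h1 : ((f.restrictScalars F : V ≃ₗ[F] V) : V →ₗ[F] V) = (f : V →ₗ[K] V).restrictScalars F := rfl
    rw [h1, LinearMap.det_restrictScalars, hf, ← ha]
    rfl

end Cfsg.Agent.S5886P
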