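import Mathlib
import Cfsg.Prelude.Def_GeometricClasses
import Cfsg.Agent.Helper2.S5886.Defs
import Cfsg.Agent.Helper28.SLMax

/-! # S5886 piece TVSL (helper14): the `F`-transvections generate the kernel of the determinant. -/

set_option autoImplicit false

namespace Cfsg.Agent.S5886P

open Matrix

variable {F K V : Type*} [Field F] [Field K] [Algebra F K]
  [AddCommGroup V] [Module F V] [Module K V] [IsScalarTower F K V]

/-- the isomorphism `GL_n(F) ≃* (V ≃ₗ[F] V)` given by a basis -/
noncomputable def TVSL.glEquiv {n : ℕ} (b : Module.Basis (Fin n) F V) :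
    Matrix.GeneralLinearGroup (Fin n) F ≃* (V ≃ₗ[F] V) :=
  (Units.mapEquiv (Matrix.toLinAlgEquiv b).toMulEquiv).trans
    (LinearMap.GeneralLinearGroup.generalLinearEquiv F V)

theorem TVSL.glEquiv_apply {n : ℕ} (b : Module.Basis (Fin n) F V)
    (A : Matrix.GeneralLinearGroup (Fin n) F) (x : V) :
    TVSL.glEquiv b A x = ∑ j, ((A : Matrix (Fin n) (Fin n) F) *ᵥ ⇑(b.repr x)) j • b j := by
  unfold TVSL.glEquiv
  rw [MulEquiv.trans_apply, LinearMap.GeneralLinearGroup.coeFn_generalLinearEquiv,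
    Units.coe_mapEquiv]
  exact Matrix.toLinAlgEquiv_apply b _ x

theorem TVSL.glEquiv_det {n : ℕ} (b : Module.Basis (Fin n) F V)
    (A : Matrix.GeneralLinearGroup (Fin n) F) :
    ((LinearEquiv.det (TVSL.glEquiv b A) : Fˣ) : F) = (A : Matrix (Fin n) (Fin n) F).det := by
  rw [LinearEquiv.coe_det]
  have : ((TVSL.glEquiv b A : V ≃ₗ[F] V) : V →ₗ[F] V) = Matrix.toLin b b (A : Matrix (Fin n) (Fin n) F) := by
    apply LinearMap.ext
    intro x
    rw [LinearEquiv.coe_coe, TVSL.glEquiv_apply, Matrix.toLin_apply]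
  rw [this, LinearMap.det_toLin]

/-- TVSL : the `F`-transvections generate the kernel of the determinant. -/
theorem TVSL [Finite F] [Finite V] (hn : 2 ≤ Module.finrank F V) (M : Subgroup (V ≃ₗ[F] V))
    (hM : ∀ g : V ≃ₗ[F] V, IsFTv g → g ∈ M) :
    DetIn (⊥ : Subgroup Fˣ) ≤ M := by
  classical
  have : Module.Finite F V := Module.Finite.of_finite
  set b := Module.finBasis F V with hb
  set Φ := TVSL.glEquiv b with hΦ
  have hSL : Cfsg.Agent.Helper28.SLMax.SL (Module.finrank F V) F ≤ M.comap Φ.toMonoidHom := by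
    apply Cfsg.Agent.Helper28.SLMax.SL_le_of_transvections hn
    intro v φ hφv
    rw [Subgroup.mem_comap]
    apply hM
    have hf : ∀ x : V, (∑ i, φ i • b.coord i) x = φ ⬝ᵥ ⇑(b.repr x) := by
      intro x
      rw [LinearMap.sum_apply, dotProduct]
      apply Finset.sum_congr rfl
      intro i _
      rw [LinearMap.smul_apply, Module.Basis.coord_apply, smul_eq_mul]
    refine ⟨∑ i, φ i • b.coord i, ∑ j, v j • b j, ?_, ?_⟩
    · rw [hf, Module.Basis.repr_sum_self]
      exact hφv
    · intro x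
      rw [hf]
      show TVSL.glEquiv b _ x = _
      rw [TVSL.glEquiv_apply, Cfsg.Agent.Helper28.SLMax.Eg_val, Cfsg.Agent.Helper28.SLMax.E_mulVec,
        Finset.smul_sum]
      conv_rhs => rw [← b.sum_repr x]
      rw [← Finset.sum_add_distrib]
      apply Finset.sum_congr rfl
      intro j _
      rw [Pi.add_apply, Pi.smul_apply, smul_eq_mul, add_smul, mul_smul, b.sum_repr x]
  intro g hg
  have hdet : LinearEquiv.det g = 1 := by
    have : LinearEquiv.det g ∈ (⊥ : Subgroup Fˣ) := hg
    exact Subgroup.mem_bot.mp this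
  have hA : Φ.symm g ∈ Cfsg.Agent.Helper28.SLMax.SL (Module.finrank F V) F := by
    rw [Cfsg.Agent.Helper28.SLMax.mem_SL_iff, ← TVSL.glEquiv_det b, ← hΦ, MulEquiv.apply_symm_apply, hdet]
    rfl
  have := hSL hA
  rw [Subgroup.mem_comap] at this
  simpa using this

end Cfsg.Agent.S5886P
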