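import Mathlib
import Cfsg.Prelude.Def_ClassicalGeometry
import Cfsg.Agent.Helper16.S5955Defs
import Cfsg.Agent.Helper23.S5961FREEACTSP
import Cfsg.Agent.Helper22.S5955CW

set_option autoImplicit false
open scoped MatrixGroups

/-! S5955 piece R2SUFF (helper14): an element of `Sp_{2d}(q)` (`q` odd) whose square is a scalar
fixes a totally isotropic `m`-space when `m` is even or `q = 1 mod 4`. -/

universe u

namespace Cfsg.Agent.S5955P

open Polynomial Cfsg.Agent.Helper2.SympInvol Cfsg.Agent.Helper2.SympUnits Cfsg.Agent.S5961P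

namespace R2SUFF

variable {F V : Type*} [Field F] [AddCommGroup V] [Module F V]

/-- adjoining a vector orthogonal to a totally isotropic subspace -/
lemma ti_sup_singleton (B : LinearMap.BilinForm F V) (halt : ∀ v, B v v = 0)
    (W : Submodule F V) (hW : Orth B W W) (u : V) (hu : ∀ w ∈ W, B w u = 0) :
    Orth B (W ⊔ Submodule.span F {u}) (W ⊔ Submodule.span F {u}) := by
  intro a ha b hb
  obtain ⟨w, hw, s, hs, rfl⟩ := Submodule.mem_sup.mp ha
  obtain ⟨w', hw', s', hs', rfl⟩ := Submodule.mem_sup.mp hb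
  obtain ⟨c, rfl⟩ := Submodule.mem_span_singleton.mp hs
  obtain ⟨c', rfl⟩ := Submodule.mem_span_singleton.mp hs'
  simp only [map_add, map_smul, LinearMap.add_apply, LinearMap.smul_apply, smul_eq_mul]
  rw [hW w hw w' hw', hu w hw, skew B halt u w', hu w' hw', halt u]
  ring

lemma finrank_sup_singleton [FiniteDimensional F V] (W : Submodule F V) (u : V) (hu : u ∉ W) :
    Module.finrank F ↥(W ⊔ Submodule.span F {u}) = Module.finrank F W + 1 := by
  have hu0 : u ≠ 0 := fun h => hu (h ▸ W.zero_mem)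
  have hdisj : Disjoint W (Submodule.span F {u}) :=
    (Submodule.disjoint_span_singleton' hu0).mpr hu
  have h := Submodule.finrank_sup_add_finrank_inf_eq W (Submodule.span F {u})
  rw [hdisj.eq_bot, finrank_bot, add_zero, finrank_span_singleton hu0] at h
  exact h

lemma map_sup_singleton_le (X : V →ₗ[F] V) (W W' : Submodule F V) (u : V)
    (hW : W.map X ≤ W') (hu : X u ∈ W') : (W ⊔ Submodule.span F {u}).map X ≤ W' := by
  rw [Submodule.map_sup, Submodule.map_span, Set.image_singleton]
  refine sup_le hW ?_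
  rw [Submodule.span_singleton_le_iff_mem]
  exact hu

/-- `Nondeg B ⊤` gives Mathlib's nondegeneracy (alternating forms) -/
lemma nondegenerate_of_nondeg (B : LinearMap.BilinForm F V) (halt : ∀ v, B v v = 0)
    (hnd : Nondeg B ⊤) : B.Nondegenerate := by
  constructor
  · intro x hx
    by_contra hx0
    obtain ⟨v, -, hv⟩ := hnd x trivial hx0
    exact hv (hx v)
  · intro y hy
    by_contra hy0
    obtain ⟨v, -, hv⟩ := hnd y trivial hy0
    apply hv
    rw [skew B halt y v, hy v, neg_zero]

section steps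

variable [FiniteDimensional F V] (B : LinearMap.BilinForm F V) (halt : ∀ v, B v v = 0)
  (hnd : Nondeg B ⊤) (X : V →ₗ[F] V) (hX : ∀ u v, B (X u) (X v) = B u v)

include halt hnd in
/-- a totally isotropic subspace, its orthogonal and the dimension of the latter -/
lemma orth_facts (W : Submodule F V) (hW : Orth B W W) :
    W ≤ B.orthogonal W ∧
      Module.finrank F (B.orthogonal W) = Module.finrank F V - Module.finrank F W :=
  ⟨fun w hw n hn => hW n hn w hw,
    LinearMap.BilinForm.finrank_orthogonal (nondegenerate_of_nondeg B halt hnd) W⟩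

omit [FiniteDimensional F V] in
include hX in
/-- the orthogonal of an invariant subspace is invariant (`X² = z`, `z ≠ 0`) -/
lemma orth_invariant (z : F) (hz : z ≠ 0) (hXX : ∀ v, X (X v) = z • v) (W : Submodule F V)
    (hWinv : W.map X ≤ W) (v : V) (hv : v ∈ B.orthogonal W) : X v ∈ B.orthogonal W := by
  intro w hw
  have hw' : z⁻¹ • X w ∈ W := W.smul_mem _ (hWinv (Submodule.mem_map_of_mem hw))
  have e : X (z⁻¹ • X w) = w := by
    rw [map_smul, hXX, smul_smul, inv_mul_cancel₀ hz, one_smul]
  show B w (X v) = 0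
  rw [← e, hX]
  exact hv _ hw'

include halt hnd hX in
/-- extension by an eigenvector -/
lemma step_eigen (z lam : F) (hlam : lam * lam = z) (h2lam : 2 * lam ≠ 0)
    (hXX : ∀ v, X (X v) = z • v) (W : Submodule F V) (hWinv : W.map X ≤ W)
    (hWti : Orth B W W) (hdim : 2 * Module.finrank F W < Module.finrank F V) :
    ∃ W' : Submodule F V, W'.map X ≤ W' ∧ Orth B W' W' ∧
      Module.finrank F W' = Module.finrank F W + 1 := by
  have hlam0 : lam ≠ 0 := fun h => h2lam (by rw [h, mul_zero])
  have hz : z ≠ 0 := by rw [← hlam]; exact mul_ne_zero hlam0 hlam0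
  obtain ⟨hWP, hPdim⟩ := orth_facts B halt hnd W hWti
  -- a vector of `W^⊥` outside `W`
  obtain ⟨m, hmP, hmW⟩ : ∃ m ∈ B.orthogonal W, m ∉ W := by
    by_contra hcon
    push Not at hcon
    have hle : B.orthogonal W ≤ W := hcon
    have := Submodule.finrank_mono hle
    omega
  have hXm : X m ∈ B.orthogonal W := orth_invariant B X hX z hz hXX W hWinv m hmP
  -- an eigenvector outside `W`
  obtain ⟨u, c, huP, huW, hXu⟩ : ∃ u : V, ∃ c : F, u ∈ B.orthogonal W ∧ u ∉ W ∧ X u = c • u := by
    by_cases h1 : X m + lam • m ∈ W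
    · refine ⟨X m - lam • m, -lam, Submodule.sub_mem _ hXm (Submodule.smul_mem _ _ hmP), ?_, ?_⟩
      · intro h2
        apply hmW
        have h3 : (2 * lam) • m ∈ W := by
          have : (2 * lam) • m = (X m + lam • m) - (X m - lam • m) := by
            rw [mul_smul, two_smul]; abel
          rw [this]
          exact W.sub_mem h1 h2
        have := W.smul_mem (2 * lam)⁻¹ h3
        rwa [smul_smul, inv_mul_cancel₀ h2lam, one_smul] at this
      · rw [map_sub, map_smul, hXX, ← hlam, smul_sub, smul_smul, mul_smul]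
        simp only [neg_smul, neg_mul]
        rw [mul_smul]
        abel
    · refine ⟨X m + lam • m, lam, Submodule.add_mem _ hXm (Submodule.smul_mem _ _ hmP), h1, ?_⟩
      rw [map_add, map_smul, hXX, ← hlam, smul_add, mul_smul]
      abel
  refine ⟨W ⊔ Submodule.span F {u}, ?_, ?_, finrank_sup_singleton W u huW⟩
  · apply map_sup_singleton_le X W _ u (hWinv.trans le_sup_left)
    rw [hXu]
    exact Submodule.smul_mem _ _ (Submodule.mem_sup_right (Submodule.mem_span_singleton_self u))
  · exact ti_sup_singleton B halt W hWti u huP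

include halt hnd hX in
/-- all dimensions up to half, eigenvalue case -/
lemma exists_ti_eigen (z lam : F) (hlam : lam * lam = z) (h2lam : 2 * lam ≠ 0)
    (hXX : ∀ v, X (X v) = z • v) (k : ℕ) (hk : 2 * k ≤ Module.finrank F V) :
    ∃ W : Submodule F V, W.map X ≤ W ∧ Orth B W W ∧ Module.finrank F W = k := by
  induction k with
  | zero =>
    refine ⟨⊥, by simp, ?_, by simp⟩
    intro a ha b _
    rw [Submodule.mem_bot] at ha
    subst ha
    simp
  | succ k ih =>
    obtain ⟨W, hWinv, hWti, hWdim⟩ := ih (by omega)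
    obtain ⟨W', h1, h2, h3⟩ := step_eigen B halt hnd X hX z lam hlam h2lam hXX W hWinv hWti
      (by omega)
    exact ⟨W', h1, h2, by omega⟩

include halt hnd hX in
/-- extension by an invariant totally isotropic plane (`X² = -1`, `-1` a non-square) -/
lemma step_pair [Fintype F] (hXX : ∀ v, X (X v) = -v) (hns : ∀ c : F, c * c ≠ -1)
    (W : Submodule F V) (hWinv : W.map X ≤ W) (hWti : Orth B W W)
    (hdim : 2 * Module.finrank F W + 4 ≤ Module.finrank F V) :
    ∃ W' : Submodule F V, W'.map X ≤ W' ∧ Orth B W' W' ∧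
      Module.finrank F W' = Module.finrank F W + 2 := by
  have hXX' : ∀ v, X (X v) = (-1 : F) • v := fun v => by rw [hXX, neg_one_smul]
  obtain ⟨hWP, hPdim⟩ := orth_facts B halt hnd W hWti
  -- a complement of `W` in `W^⊥`
  obtain ⟨C₀, hC₀⟩ := Submodule.exists_isCompl W
  have hsup : W ⊔ C₀ ⊓ B.orthogonal W = B.orthogonal W := by
    rw [← sup_inf_assoc_of_le C₀ hWP, hC₀.sup_eq_top, top_inf_eq]
  have hinf : W ⊓ (C₀ ⊓ B.orthogonal W) = ⊥ := by
    rw [← inf_assoc, hC₀.inf_eq_bot, bot_inf_eq]
  have hCdim : 4 ≤ Module.finrank F ↥(C₀ ⊓ B.orthogonal W) := by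
    have h := Submodule.finrank_sup_add_finrank_inf_eq W (C₀ ⊓ B.orthogonal W)
    rw [hsup, hinf, finrank_bot, add_zero, hPdim] at h
    omega
  obtain ⟨v, hvC, hv0, hv⟩ := exists_isotropic_cyclic B X (C₀ ⊓ B.orthogonal W) 2 (by norm_num)
    (by omega)
  have hvXv : B v (X v) = 0 := by
    have := hv 1 le_rfl (by norm_num)
    rwa [pow_one] at this
  have hvP : v ∈ B.orthogonal W := hvC.2
  have hvW : v ∉ W := by
    intro h
    apply hv0
    have : v ∈ W ⊓ (C₀ ⊓ B.orthogonal W) := ⟨h, hvC⟩
    rwa [hinf, Submodule.mem_bot] at this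
  have hXvP : X v ∈ B.orthogonal W :=
    orth_invariant B X hX (-1) (by norm_num) hXX' W hWinv v hvP
  -- `X v ∉ W ⊔ span {v}`
  have hXvW : X v ∉ W ⊔ Submodule.span F {v} := by
    intro h
    obtain ⟨w, hw, s, hs, hsum⟩ := Submodule.mem_sup.mp h
    obtain ⟨c, rfl⟩ := Submodule.mem_span_singleton.mp hs
    apply hvW
    have hXw : X w ∈ W := hWinv (Submodule.mem_map_of_mem hw)
    have h1 : (c * c + 1) • v = -(X w + c • w) := by
      have h2 : X (w + c • v) = -v := by rw [hsum, hXX]
      rw [map_add, map_smul, ← hsum, smul_add, smul_smul] at h2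
      rw [add_smul, one_smul]
      have : (c * c) • v = -v - (X w + c • w) := by rw [← h2]; abel
      rw [this]; abel
    have hne : c * c + 1 ≠ 0 := fun h0 => hns c (eq_neg_of_add_eq_zero_left h0)
    have h3 : (c * c + 1) • v ∈ W := by
      rw [h1]
      exact W.neg_mem (W.add_mem hXw (W.smul_mem _ hw))
    have := W.smul_mem (c * c + 1)⁻¹ h3
    rwa [smul_smul, inv_mul_cancel₀ hne, one_smul] at this
  have hti1 : Orth B (W ⊔ Submodule.span F {v}) (W ⊔ Submodule.span F {v}) :=
    ti_sup_singleton B halt W hWti v hvP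
  refine ⟨W ⊔ Submodule.span F {v} ⊔ Submodule.span F {X v}, ?_, ?_, ?_⟩
  · apply map_sup_singleton_le
    · apply map_sup_singleton_le X W _ v
      · exact hWinv.trans (le_sup_left.trans le_sup_left)
      · exact Submodule.mem_sup_right (Submodule.mem_span_singleton_self _)
    · rw [hXX]
      exact Submodule.neg_mem _ (Submodule.mem_sup_left
        (Submodule.mem_sup_right (Submodule.mem_span_singleton_self _)))
  · apply ti_sup_singleton B halt _ hti1
    intro a ha
    obtain ⟨w, hw, s, hs, rfl⟩ := Submodule.mem_sup.mp ha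
    obtain ⟨c, rfl⟩ := Submodule.mem_span_singleton.mp hs
    rw [map_add, map_smul, LinearMap.add_apply, LinearMap.smul_apply, hXvP w hw, hvXv]
    simp
  · rw [finrank_sup_singleton _ _ hXvW, finrank_sup_singleton _ _ hvW]

include halt hnd hX in
/-- all even dimensions up to half (`X² = -1`, `-1` a non-square) -/
lemma exists_ti_pair [Fintype F] (hXX : ∀ v, X (X v) = -v) (hns : ∀ c : F, c * c ≠ -1)
    (k : ℕ) (hk : 4 * k ≤ Module.finrank F V) :
    ∃ W : Submodule F V, W.map X ≤ W ∧ Orth B W W ∧ Module.finrank F W = 2 * k := by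
  induction k with
  | zero =>
    refine ⟨⊥, by simp, ?_, by simp⟩
    intro a ha b _
    rw [Submodule.mem_bot] at ha
    subst ha
    simp
  | succ k ih =>
    obtain ⟨W, hWinv, hWti, hWdim⟩ := ih (by omega)
    obtain ⟨W', h1, h2, h3⟩ := step_pair B halt hnd X hX hXX hns W hWinv hWti (by omega)
    exact ⟨W', h1, h2, by omega⟩

end steps

end R2SUFF

open R2SUFF in
/-- R2SUFF -/
theorem exists_ti_of_sq {F : Type*} [Field F] [Fintype F] {p : ℕ} [Fact p.Prime] [CharP F p]
    (hp2 : p ≠ 2) (d m : ℕ) (hm : 1 ≤ m) (hmd : m ≤ d)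
    (hcond : Even m ∨ Fintype.card F % 4 = 1)
    (x : Matrix.symplecticGroup (Fin d) F) (z : F)
    (hx : (x : Matrix (Fin d ⊕ Fin d) (Fin d ⊕ Fin d) F) ^ 2 = z • 1) :
    ∃ W : Submodule F (Fin d ⊕ Fin d → F), Module.finrank F ↥W = m ∧
      (∀ u ∈ W, ∀ v ∈ W, Cfsg.sympForm d F u v = 0) ∧
      W.map (Matrix.toLin' (x : Matrix (Fin d ⊕ Fin d) (Fin d ⊕ Fin d) F)) ≤ W := by
  have h2 : (2 : F) ≠ 0 := by
    apply Ring.two_ne_zero
    rw [ringChar.eq F p]
    exact hp2
  have hdimV : Module.finrank F (Fin d ⊕ Fin d → F) = 2 * d := by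
    rw [Module.finrank_fintype_fun_eq_card, Fintype.card_sum, Fintype.card_fin]
    ring
  have hzz : z * z = 1 := by
    apply scalar_sq_eq_one d (hm.trans hmd) z
    rw [← hx, pow_two]
    exact (x * x).2
  set X : (Fin d ⊕ Fin d → F) →ₗ[F] (Fin d ⊕ Fin d → F) :=
    Matrix.toLin' (x : Matrix (Fin d ⊕ Fin d) (Fin d ⊕ Fin d) F) with hXdef
  have hX : ∀ u v, sB d F (X u) (X v) = sB d F u v := sB_isometry d F x
  have hXX : ∀ v, X (X v) = z • v := by
    intro v
    rw [hXdef, Matrix.toLin'_apply, Matrix.toLin'_apply, Matrix.mulVec_mulVec, ← pow_two, hx,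
      Matrix.smul_mulVec, Matrix.one_mulVec]
  have key : ∃ W : Submodule F (Fin d ⊕ Fin d → F), W.map X ≤ W ∧ Orth (sB d F) W W ∧
      Module.finrank F W = m := by
    rcases mul_self_eq_one_iff.mp hzz with rfl | rfl
    · exact exists_ti_eigen (sB d F) (sB_alt d F) (sB_nondeg d F) X hX 1 1 (one_mul 1)
        (by rwa [mul_one]) hXX m (by omega)
    · by_cases hι : ∃ ι : F, ι * ι = -1
      · obtain ⟨ι, hι⟩ := hι
        have hι0 : ι ≠ 0 := by
          rintro rfl
          rw [mul_zero] at hι
          exact one_ne_zero (neg_eq_zero.mp hι.symm)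
        exact exists_ti_eigen (sB d F) (sB_alt d F) (sB_nondeg d F) X hX (-1) ι hι
          (mul_ne_zero h2 hι0) hXX m (by omega)
      · push Not at hι
        have hev : Even m := by
          rcases hcond with h | h
          · exact h
          · exfalso
            have hsq : IsSquare (-1 : F) := by
              rw [FiniteField.isSquare_neg_one_iff]
              omega
            obtain ⟨c, hc⟩ := hsq
            exact hι c hc.symm
        obtain ⟨k, rfl⟩ := hev
        obtain ⟨W, h1, h2', h3⟩ := exists_ti_pair (sB d F) (sB_alt d F) (sB_nondeg d F) X hX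
          (fun v => by rw [hXX, neg_one_smul]) hι k (by omega)
        exact ⟨W, h1, h2', by omega⟩
  obtain ⟨W, h1, h2', h3⟩ := key
  exact ⟨W, h3, fun u hu v hv => h2' u hu v hv, h1⟩

end Cfsg.Agent.S5955P
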