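import Mathlib
import Cfsg.Prelude.Def_ClassicalGeometry
import Cfsg.Prelude.Def_GeometricClasses
import Cfsg.Agent.Helper16.S5972Defs
import Cfsg.Agent.Helper12.InvClassA
import Cfsg.Agent.Helper10.S5972PLUSDISC
import Cfsg.Agent.Helper19.S5972R2FRAME

set_option autoImplicit false
open scoped MatrixGroups

/-! # S5972 piece R2SPIN (helper14): the `-1`-eigenspace of an involution of `Ω_{2d+1}(q)` -/

universe u

namespace Cfsg.Agent.S5972P

open Polynomial Cfsg.Agent.Helper2.SympInvol Cfsg.Agent.Helper2.SympUnits Cfsg.Agent.S5961P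
  Cfsg.Agent.S5955P

open Cfsg.Agent.S2614 Cfsg.Agent.Helper21.OC Cfsg.Agent.Helper12.InvClass in
/-- R2SPIN: the `-1`-eigenspace of an involution of `Ω` -/
theorem exists_ts_half_neg {F : Type*} [Field F] [Fintype F] (h2 : (2 : F) ≠ 0) (d : ℕ)
    (x : GL (Unit ⊕ (Fin d ⊕ Fin d)) F) (hx : x ∈ Cfsg.Geo.omegaGL (Cfsg.quadFormOdd d F))
    (hx2 : x * x = 1) :
    Even (Module.finrank F (LinearMap.ker (Matrix.toLin'
      (x : Matrix (Unit ⊕ (Fin d ⊕ Fin d)) (Unit ⊕ (Fin d ⊕ Fin d)) F) + 1))) ∧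
    (Fintype.card F % 4 = 1 → ∃ U : Submodule F (Unit ⊕ (Fin d ⊕ Fin d) → F),
      U ≤ LinearMap.ker (Matrix.toLin'
        (x : Matrix (Unit ⊕ (Fin d ⊕ Fin d)) (Unit ⊕ (Fin d ⊕ Fin d)) F) + 1) ∧
      Orth (oB d F) U U ∧
      2 * Module.finrank F U = Module.finrank F (LinearMap.ker (Matrix.toLin'
        (x : Matrix (Unit ⊕ (Fin d ⊕ Fin d)) (Unit ⊕ (Fin d ⊕ Fin d)) F) + 1))) := by
  classical
  rw [← QfOdd_coe] at hx
  obtain ⟨g, hgΩ, hgx⟩ := Subgroup.mem_map.mp hx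
  have hgx' : (g : GL (Unit ⊕ (Fin d ⊕ Fin d)) F) = x := hgx
  have hgg : g * g = 1 := by
    apply Subtype.ext
    rw [Subgroup.coe_mul, hgx', hx2]
    rfl
  obtain ⟨w, hw, S, horth, hgS, hker⟩ :=
    exists_frame_of_invol h2 (QfOdd d F) (QfOdd_nondeg_of h2 d) g hgg
  rw [hgx'] at hker
  have hΩ : gS (QfOdd d F) w hw S ∈ Cfsg.Omega F ⇑(QfOdd d F) := by
    rw [← hgS]
    exact hgΩ
  obtain ⟨hSeven, hSsq⟩ := (gS_mem_Omega_iff (QfOdd d F) w hw h2 S).mp hΩ
  -- the frame is linearly independent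
  have hli : LinearIndependent F w := by
    have hu := isUnit_colMat (QfOdd d F) h2 w hw horth
    rw [← Matrix.linearIndependent_cols_iff_isUnit, colMat_col] at hu
    exact hu
  have hliS : LinearIndependent F (fun s : ↥S => w s) :=
    hli.comp (Subtype.val : ↥S → _) Subtype.val_injective
  have hrange : Set.range (fun s : ↥S => w s) = w '' (S : Set _) := by
    ext v
    constructor
    · rintro ⟨s, rfl⟩
      exact ⟨s.1, s.2, rfl⟩
    · rintro ⟨s, hs, rfl⟩
      exact ⟨⟨s, hs⟩, rfl⟩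
  have hfin : Module.finrank F (LinearMap.ker (Matrix.toLin'
      (x : Matrix (Unit ⊕ (Fin d ⊕ Fin d)) (Unit ⊕ (Fin d ⊕ Fin d)) F) + 1)) = S.card := by
    rw [hker, ← hrange, finrank_span_eq_card hliS, Fintype.card_coe]
  refine ⟨by rw [hfin]; exact hSeven, ?_⟩
  intro hq
  obtain ⟨k, hk⟩ := hSeven
  have hκ : Fintype.card ↥S = 2 * k := by
    rw [Fintype.card_coe, hk]
    ring
  have hself : ∀ v, oB d F v v = 2 * (QfOdd d F) v := by
    intro v
    rw [oB_self, QfOdd_coe]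
  obtain ⟨U, hU, hUorth, hUfin⟩ := exists_ts_half_of_sq hq (oB d F) (oB_symm d F)
    (fun s : ↥S => w s) k hκ
    (by
      intro i j hij
      rw [oB_apply, ← QfOdd_coe]
      exact horth i.1 j.1 (fun h => hij (Subtype.ext h)))
    (by
      intro i
      rw [hself]
      exact mul_ne_zero h2 (hw i.1))
    (by
      obtain ⟨t, ht⟩ := hSsq
      refine ⟨2 ^ k * t, ?_⟩
      have h1 : ∏ i : ↥S, oB d F (w i) (w i) = 2 ^ (2 * k) * ∏ s ∈ S, (QfOdd d F) (w s) := by
        rw [Finset.prod_congr rfl (fun i _ => hself (w i.1)), Finset.prod_mul_distrib,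
          Finset.prod_const, Finset.card_univ, hκ]
        congr 1
        exact Finset.prod_coe_sort S (fun s => (QfOdd d F) (w s))
      rw [h1, ht]
      ring)
  refine ⟨U, ?_, hUorth, ?_⟩
  · rw [hker, ← hrange]
    exact hU
  · rw [hfin, hUfin, hk]
    ring

end Cfsg.Agent.S5972P
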