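import Mathlib
import Cfsg.Prelude.Def_ClassicalGeometry
import Cfsg.Prelude.Def_GeometricClasses
import Cfsg.Agent.Helper16.S5972Defs
import Cfsg.Agent.Helper12.InvClassA
import Cfsg.Agent.Helper16.S5972R2EIG
import Cfsg.Agent.Helper16.S5972WITT
import Cfsg.Agent.Helper14.S5972R2SPIN

set_option autoImplicit false
open scoped MatrixGroups

/-! # S5972 piece R2SUFF (helper14): an involution of `Ω_{2d+1}(q)` fixes a totally singular
`m`-space (`m < d` or `q ≡ 1 mod 4`) -/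

universe u

namespace Cfsg.Agent.S5972P

open Polynomial Cfsg.Agent.Helper2.SympInvol Cfsg.Agent.Helper2.SympUnits Cfsg.Agent.S5961P
  Cfsg.Agent.S5955P

namespace R2SUFF

variable {F V : Type*} [Field F] [AddCommGroup V] [Module F V]

/-- the sum of two totally isotropic subspaces which are orthogonal to each other -/
theorem orth_sup (B : LinearMap.BilinForm F V) (hsymm : ∀ u v, B u v = B v u)
    (A₁ A₂ : Submodule F V) (h1 : Orth B A₁ A₁) (h2 : Orth B A₂ A₂) (h12 : Orth B A₁ A₂) :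
    Orth B (A₁ ⊔ A₂) (A₁ ⊔ A₂) := by
  intro a ha b hb
  obtain ⟨a1, ha1, a2, ha2, rfl⟩ := Submodule.mem_sup.mp ha
  obtain ⟨b1, hb1, b2, hb2, rfl⟩ := Submodule.mem_sup.mp hb
  rw [map_add, map_add, LinearMap.add_apply, LinearMap.add_apply, h1 a1 ha1 b1 hb1,
    h12 a1 ha1 b2 hb2, hsymm a2 b1, h12 b1 hb1 a2 ha2, h2 a2 ha2 b2 hb2]
  simp

/-- the sum of a subspace of the `1`-eigenspace and one of the `-1`-eigenspace is invariant -/
theorem map_sup_le (y : Module.End F V) (A₁ A₂ : Submodule F V)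
    (h1 : A₁ ≤ LinearMap.ker (y - 1)) (h2 : A₂ ≤ LinearMap.ker (y + 1)) :
    (A₁ ⊔ A₂).map y ≤ A₁ ⊔ A₂ := by
  rintro _ ⟨a, ha, rfl⟩
  obtain ⟨a1, ha1, a2, ha2, rfl⟩ := Submodule.mem_sup.mp ha
  have e1 : y a1 = a1 := by
    have := h1 ha1
    rw [LinearMap.mem_ker, LinearMap.sub_apply, Module.End.one_apply, sub_eq_zero] at this
    exact this
  have e2 : y a2 = -a2 := by
    have := h2 ha2
    rw [LinearMap.mem_ker, LinearMap.add_apply, Module.End.one_apply] at this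
    exact eq_neg_of_add_eq_zero_left this
  rw [map_add, e1, e2]
  exact Submodule.add_mem _ (Submodule.mem_sup_left ha1)
    (Submodule.mem_sup_right (A₂.neg_mem ha2))

theorem orth_bot (B : LinearMap.BilinForm F V) : Orth B (⊥ : Submodule F V) ⊥ := by
  intro a ha b _
  rw [(Submodule.mem_bot F).mp ha, map_zero, LinearMap.zero_apply]

end R2SUFF

open R2SUFF in
/-- R2SUFF -/
theorem exists_ts_of_invol {F : Type*} [Field F] [Fintype F] (h2 : (2 : F) ≠ 0) (d m : ℕ)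
    (hd : 1 ≤ d) (hm : 1 ≤ m) (hmd : m ≤ d) (hcond : m < d ∨ Fintype.card F % 4 = 1)
    (x : GL (Unit ⊕ (Fin d ⊕ Fin d)) F) (hx : x ∈ Cfsg.Geo.omegaGL (Cfsg.quadFormOdd d F))
    (hx2 : orderOf x = 2) :
    ∃ W : Submodule F (Unit ⊕ (Fin d ⊕ Fin d) → F), Module.finrank F ↥W = m ∧
      (∀ w ∈ W, Cfsg.quadFormOdd d F w = 0) ∧
      W.map (Matrix.toLin'
        (x : Matrix (Unit ⊕ (Fin d ⊕ Fin d)) (Unit ⊕ (Fin d ⊕ Fin d)) F)) ≤ W := by
  classical
  have hxx : x * x = 1 := by rw [← pow_two, ← hx2, pow_orderOf_eq_one]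
  obtain ⟨y, hy⟩ : ∃ y : Module.End F (Unit ⊕ (Fin d ⊕ Fin d) → F), y = Matrix.toLin'
      (x : Matrix (Unit ⊕ (Fin d ⊕ Fin d)) (Unit ⊕ (Fin d ⊕ Fin d)) F) := ⟨_, rfl⟩
  have hyy : y * y = 1 := by
    rw [hy, Module.End.mul_eq_comp, ← Matrix.toLin'_mul, ← Units.val_mul, hxx, Units.val_one,
      Matrix.toLin'_one]
    rfl
  have hisom : ∀ v, Cfsg.quadFormOdd d F (y v) = Cfsg.quadFormOdd d F v := by
    obtain ⟨g, -, hgx⟩ := Subgroup.mem_map.mp hx
    have hgx' : (g : GL (Unit ⊕ (Fin d ⊕ Fin d)) F) = x := hgx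
    have hg := g.2
    rw [Cfsg.Agent.Helper28.IsoTransport.mem_isometryGroup_iff, hgx'] at hg
    intro v
    rw [hy, Matrix.toLin'_apply]
    exact hg v
  have hyB : ∀ u v, oB d F (y u) (y v) = oB d F u v := oB_isometry d F y hisom
  obtain ⟨hcompl, horth, hndp, hndm⟩ :=
    invol_split h2 (oB d F) (oB_symm d F) (oB_nondeg d F h2) y hyB hyy
  obtain ⟨heven, hspin⟩ := exists_ts_half_neg h2 d x hx hxx
  rw [← hy] at heven hspin ⊢
  have hdim : Module.finrank F (LinearMap.ker (y - 1)) + Module.finrank F (LinearMap.ker (y + 1)) =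
      2 * d + 1 := by
    rw [Submodule.finrank_add_eq_of_isCompl hcompl, Module.finrank_fintype_fun_eq_card]
    simp only [Fintype.card_sum, Fintype.card_unique, Fintype.card_fin]
    ring
  obtain ⟨k, hk⟩ := heven
  have hEp : Module.finrank F (LinearMap.ker (y - 1)) = 2 * (d - k) + 1 := by omega
  have hkd : k ≤ d := by omega
  -- the two summands
  have key : ∃ A₁ A₂ : Submodule F (Unit ⊕ (Fin d ⊕ Fin d) → F),
      A₁ ≤ LinearMap.ker (y - 1) ∧ A₂ ≤ LinearMap.ker (y + 1) ∧ Orth (oB d F) A₁ A₁ ∧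
      Orth (oB d F) A₂ A₂ ∧ Module.finrank F A₁ + Module.finrank F A₂ = m := by
    by_cases hmk : m ≤ d - k
    · obtain ⟨A₁, hA₁, hA₁o, hA₁f⟩ := exists_ts_sub h2 (oB d F) (oB_symm d F)
        (LinearMap.ker (y - 1)) hndp m (by omega)
      exact ⟨A₁, ⊥, hA₁, bot_le, hA₁o, orth_bot _, by rw [hA₁f, finrank_bot, add_zero]⟩
    · push Not at hmk
      obtain ⟨A₁, hA₁, hA₁o, hA₁f⟩ := exists_ts_sub h2 (oB d F) (oB_symm d F)
        (LinearMap.ker (y - 1)) hndp (d - k) (by omega)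
      rcases Nat.lt_or_ge m d with hlt | hge
      · obtain ⟨A₂, hA₂, hA₂o, hA₂f⟩ := exists_ts_sub h2 (oB d F) (oB_symm d F)
          (LinearMap.ker (y + 1)) hndm (m - (d - k)) (by omega)
        exact ⟨A₁, A₂, hA₁, hA₂, hA₁o, hA₂o, by rw [hA₁f, hA₂f]; omega⟩
      · have hq : Fintype.card F % 4 = 1 := by
          rcases hcond with h | h
          · omega
          · exact h
        obtain ⟨U, hU, hUo, hUf⟩ := hspin hq
        exact ⟨A₁, U, hA₁, hU, hA₁o, hUo, by rw [hA₁f]; omega⟩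
  obtain ⟨A₁, A₂, hA₁, hA₂, hA₁o, hA₂o, hsum⟩ := key
  refine ⟨A₁ ⊔ A₂, ?_, ?_, ?_⟩
  · have hinf : A₁ ⊓ A₂ = ⊥ := by
      rw [eq_bot_iff]
      calc A₁ ⊓ A₂ ≤ LinearMap.ker (y - 1) ⊓ LinearMap.ker (y + 1) := inf_le_inf hA₁ hA₂
        _ = ⊥ := hcompl.inf_eq_bot
    have h := Submodule.finrank_sup_add_finrank_inf_eq A₁ A₂
    rw [hinf, finrank_bot, add_zero] at h
    rw [h, hsum]
  · rw [ts_iff_orth d F h2]
    apply orth_sup (oB d F) (oB_symm d F) A₁ A₂ hA₁o hA₂o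
    intro a ha b hb
    exact horth a (hA₁ ha) b (hA₂ hb)
  · exact map_sup_le y A₁ A₂ hA₁ hA₂

end Cfsg.Agent.S5972P
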