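import Mathlib
import Cfsg.Prelude.Def_GeometricClasses
import Cfsg.Prelude.Def_ClassicalGeometry
import Cfsg.Agent.Helper29.S5977Defs
import Cfsg.Agent.Helper28.Spin6
import Cfsg.Agent.Helper28.OrthSum
import Cfsg.Agent.Helper7.OrthUni3
import Cfsg.Agent.Helper4.S5981STDEVEN
import Cfsg.Agent.Helper21.S5981STDODD
import Cfsg.Agent.Helper21.S5981TRANSPORT
import Cfsg.Agent.Helper2.QuadPlus
import Cfsg.Agent.Helper2.QuadMinus
import Cfsg.Agent.Helper2.QuadOdd
import Cfsg.Agent.Helper13.Discr

set_option autoImplicit false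
open scoped MatrixGroups

/-! # S5977 / S5978 piece CARDDIAG (helper14): the order of the isometry group of a diagonal form -/

namespace Cfsg.Agent.S5977P

open Polynomial
open Cfsg.Agent.Helper7.OrthUni (gram qf)
open Cfsg.Agent.Helper28.OrthSum (Qs)
open Cfsg.Agent.Helper28.Spin (QfPlus)

namespace CARDDIAG

open Cfsg.Agent.Helper7.OrthUni Cfsg.Agent.Helper2.Quad

/-- the square class of a product of two nonzero elements of a finite field -/
theorem isSquare_mul_iff {L : Type*} [Field L] [Fintype L] {x y : L} (hx : x ≠ 0) (hy : y ≠ 0) :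
    IsSquare (x * y) ↔ (IsSquare x ↔ IsSquare y) := by
  classical
  have hxy : x * y ≠ 0 := mul_ne_zero hx hy
  rw [← quadraticChar_one_iff_isSquare hxy, ← quadraticChar_one_iff_isSquare hx,
    ← quadraticChar_one_iff_isSquare hy, map_mul]
  rcases quadraticChar_dichotomy hx with h1 | h1 <;> rcases quadraticChar_dichotomy hy with h2 | h2
    <;> rw [h1, h2] <;> norm_num

/-- a field where `2 ≠ 0` has odd order -/
theorem odd_card {L : Type*} [Field L] [Fintype L] (h2 : (2 : L) ≠ 0) : Odd (Fintype.card L) := by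
  rcases Nat.even_or_odd (Fintype.card L) with he | ho
  · exfalso
    have hchar : ringChar L = 2 := FiniteField.even_card_iff_char_two.mpr (Nat.even_iff.mp he)
    apply h2
    have : ((2 : ℕ) : L) = 0 := by
      rw [← hchar]
      exact ringChar.Nat.cast_ringChar
    simpa using this
  · exact ho

/-- the diagonal form as a `QuadraticForm` -/
noncomputable def dq {L : Type*} [Field L] (d : ℕ) (c : Fin d → L) : QuadraticForm L (Fin d → L) :=
  qf (Matrix.diagonal fun a => 2 * c a)

theorem dq_apply {L : Type*} [Field L] (h2 : (2 : L) ≠ 0) (d : ℕ) (c : Fin d → L)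
    (v : Fin d → L) : dq d c v = ∑ a, c a * v a ^ 2 := by
  rw [dq, qf_apply, dotProduct, Finset.mul_sum]
  apply Finset.sum_congr rfl
  intro a _
  rw [Matrix.mulVec_diagonal]
  field_simp

theorem gram_dq {L : Type*} [Field L] (h2 : (2 : L) ≠ 0) (d : ℕ) (c : Fin d → L) :
    gram (dq d c) = Matrix.diagonal fun a => 2 * c a :=
  gram_qf h2 (Matrix.diagonal_transpose _)

theorem det_gram_dq {L : Type*} [Field L] (h2 : (2 : L) ≠ 0) (d : ℕ) (c : Fin d → L) :
    (gram (dq d c)).det = 2 ^ d * ∏ a, c a := by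
  rw [gram_dq h2, Matrix.det_diagonal, Finset.prod_mul_distrib, Finset.prod_const,
    Finset.card_univ, Fintype.card_fin]

end CARDDIAG

open CARDDIAG Cfsg.Agent.Helper7.OrthUni Cfsg.Agent.Helper2.Quad Cfsg.Agent.S5981P in
/-- CARDDIAG -/
theorem card_isometry_weighted {L : Type*} [Field L] [Fintype L] (h2 : (2 : L) ≠ 0)
    (d : ℕ) (hd : 1 ≤ d) (c : Fin d → L) (hc : ∀ a, c a ≠ 0) (plus : Bool)
    (hplus : IsSquare ((-1 : L) ^ (d / 2) * ∏ a, c a) ↔ plus = true) :
    Nat.card ↥(Cfsg.isometryGroup L (fun v : Fin d → L => ∑ a, c a * v a ^ 2)) =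
      if Even d then cardO (Fintype.card L) (d / 2) plus else cardOodd (Fintype.card L) (d / 2) := by
  classical
  have hodd : Odd (Fintype.card L) := odd_card h2
  have hP : ∏ a, c a ≠ 0 := Finset.prod_ne_zero_iff.mpr (fun a _ => hc a)
  have hD : (gram (dq d c)).det ≠ 0 := by
    rw [det_gram_dq h2]
    exact mul_ne_zero (pow_ne_zero _ h2) hP
  have hQ₁nd : (QuadraticMap.polarBilin (dq d c)).Nondegenerate := (nondeg_iff_det _).2 hD
  split_ifs with hev
  · -- even dimension
    obtain ⟨m, hm⟩ := hev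
    have hm1 : 1 ≤ m := by omega
    have hd2 : d / 2 = m := by omega
    rw [hd2] at hplus ⊢
    obtain ⟨a, b, hab⟩ := STDEVEN.exists_aniso (F := L) h2
    have hp_nd : (QuadraticMap.polarBilin (plusModel L m).Q).Nondegenerate :=
      QFOF.nondeg_of_nonSing h2 _ (plusModel L m).nonSing
    have hm_nd : (QuadraticMap.polarBilin (minusModel (m - 1) a b hab).Q).Nondegenerate :=
      QFOF.nondeg_of_nonSing h2 _ (minusModel (m - 1) a b hab).nonSing
    have hpf : ∀ v, (plusModel L m).Q v = Cfsg.quadFormPlus m L v := by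
      intro v; rw [quadFormPlus_eq]
    have hmf : ∀ v, (minusModel (m - 1) a b hab).Q v = Cfsg.quadFormMinus (m - 1) L a b v := by
      intro v; rw [quadFormMinus_eq (m - 1) a b hab]
    have hdp := STDEVEN.gram_det_ne_zero _ hp_nd
    have hdm := STDEVEN.gram_det_ne_zero _ hm_nd
    have hsp : IsSquare (gram (plusModel L m).Q).det ↔ Even (m * (Fintype.card L - 1) / 2) := by
      rw [STDEVEN.gram_det_eq _ _ hpf]
      exact Cfsg.Agent.S2620.result rfl hodd hm1 (Pi.basisFun L (Fin m ⊕ Fin m))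
    have hsm : IsSquare (gram (minusModel (m - 1) a b hab).Q).det ↔
        ¬ Even (m * (Fintype.card L - 1) / 2) := by
      rw [STDEVEN.gram_det_eq _ _ hmf]
      exact Cfsg.Agent.S2621.result rfl hodd hm1 a b hab (Pi.basisFun L _)
    have hE : IsSquare ((-1 : L) ^ m) ↔ Even (m * (Fintype.card L - 1) / 2) :=
      Cfsg.Agent.Helper13.isSquare_neg_one_pow_iff rfl hodd m
    have hN : ((-1 : L) ^ m) ≠ 0 := pow_ne_zero _ (neg_ne_zero.mpr one_ne_zero)
    have hDsq : IsSquare (gram (dq d c)).det ↔ IsSquare (∏ a, c a) := by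
      have h2d : (2 : L) ^ d = 2 ^ m * 2 ^ m := by rw [hm, pow_add]
      rw [det_gram_dq h2, h2d]
      exact Cfsg.Agent.Helper13.isSquare_mul_self_mul_iff (pow_ne_zero _ h2)
    have hplus' : (IsSquare ((-1 : L) ^ m) ↔ IsSquare (∏ a, c a)) ↔ plus = true := by
      rw [← isSquare_mul_iff hN hP]
      exact hplus
    have hcardp : Fintype.card (Fin d) = Fintype.card (Fin m ⊕ Fin m) := by
      simp only [Fintype.card_fin, Fintype.card_sum]; omega
    have hcardm : Fintype.card (Fin d) = Fintype.card ((Fin (m - 1) ⊕ Fin (m - 1)) ⊕ Fin 2) := by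
      simp only [Fintype.card_fin, Fintype.card_sum]; omega
    cases plus
    · -- minus type
      have hne : ¬ (IsSquare ((-1 : L) ^ m) ↔ IsSquare (∏ a, c a)) := by
        intro h
        exact Bool.false_ne_true (hplus'.mp h)
      have hsq : IsSquare ((gram (dq d c)).det * (gram (minusModel (m - 1) a b hab).Q).det) := by
        rw [isSquare_mul_iff hD hdm]
        exact hDsq.trans ((not_iff.mp hne).symm.trans ((not_congr hE).trans hsm.symm))
      obtain ⟨g, hg⟩ := exists_isometry_of_disc h2 (dq d c) (minusModel (m - 1) a b hab).Q hQ₁nd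
        hm_nd hcardm hsq
      have hcard := (card_eq_of_equiv (fun v : Fin d → L => ∑ a, c a * v a ^ 2)
        (Cfsg.quadFormMinus (m - 1) L a b) 1 one_ne_zero g
        (fun v => by rw [← hmf, hg, dq_apply h2, one_mul])).1
      rw [← hcard, card_GO_minus rfl m hm1 a b hab, cardO]
      simp
    · -- plus type
      have hiff : IsSquare ((-1 : L) ^ m) ↔ IsSquare (∏ a, c a) := hplus'.mpr rfl
      have hsq : IsSquare ((gram (dq d c)).det * (gram (plusModel L m).Q).det) := by
        rw [isSquare_mul_iff hD hdp]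
        exact hDsq.trans (hiff.symm.trans (hE.trans hsp.symm))
      obtain ⟨g, hg⟩ := exists_isometry_of_disc h2 (dq d c) (plusModel L m).Q hQ₁nd hp_nd hcardp hsq
      have hcard := (card_eq_of_equiv (fun v : Fin d → L => ∑ a, c a * v a ^ 2)
        (Cfsg.quadFormPlus m L) 1 one_ne_zero g
        (fun v => by rw [← hpf, hg, dq_apply h2, one_mul])).1
      rw [← hcard, card_GO_plus rfl m hm1, cardO]
      simp
  · -- odd dimension
    rw [Nat.not_even_iff_odd] at hev
    obtain ⟨m, hm⟩ := hev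
    have hd2 : d / 2 = m := by omega
    rw [hd2]
    have h₀ : (QuadraticMap.polarBilin (oddModel L m).Q).Nondegenerate :=
      STDODD.nondeg_of_nonSing h2 _ (oddModel L m).nonSing
    have hδ₀ : (gram (oddModel L m).Q).det ≠ 0 := (nondeg_iff_det _).1 h₀
    obtain ⟨c₀, hc₀⟩ : ∃ c₀ : L, c₀ = (gram (dq d c)).det * (gram (oddModel L m).Q).det := ⟨_, rfl⟩
    have hc0 : c₀ ≠ 0 := by
      rw [hc₀]
      exact mul_ne_zero hD hδ₀
    have h₁ := QF.smul_nondeg hc0 _ hQ₁nd
    have hcard : Fintype.card (Fin d) = Fintype.card (Unit ⊕ (Fin m ⊕ Fin m)) := by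
      simp; omega
    have hsq : IsSquare ((gram (c₀ • dq d c)).det * (gram (oddModel L m).Q).det) := by
      rw [QF.gram_smul, Matrix.det_smul, Fintype.card_fin]
      refine ⟨c₀ ^ (m + 1), ?_⟩
      calc c₀ ^ d * (gram (dq d c)).det * (gram (oddModel L m).Q).det
          = c₀ ^ d * c₀ := by rw [hc₀]; ring
        _ = c₀ ^ (m + 1) * c₀ ^ (m + 1) := by rw [hm]; ring
    obtain ⟨φ, hφ⟩ := exists_isometry_of_disc h2 (c₀ • dq d c) (oddModel L m).Q h₁ h₀ hcard hsq
    have hcard' := (card_eq_of_equiv (fun v : Fin d → L => ∑ a, c a * v a ^ 2)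
      (Cfsg.quadFormOdd m L) c₀ hc0 φ
      (fun v => by
        rw [quadFormOdd_eq]
        show (oddModel L m).Q (φ v) = _
        rw [hφ]
        show c₀ * dq d c v = _
        rw [dq_apply h2])).1
    rw [← hcard', card_GO_odd rfl hodd m, cardOodd]

end Cfsg.Agent.S5977P
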