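import Mathlib
import Cfsg.Prelude.Def_GeometricClasses
import Cfsg.Prelude.Def_ClassicalGeometry
import Cfsg.Agent.Helper29.S5977Defs
import Cfsg.Agent.Helper28.Spin6
import Cfsg.Agent.Helper28.OrthSum
import Cfsg.Agent.Helper7.OrthUni3

set_option autoImplicit false
open scoped MatrixGroups

/-! # S5977 / S5978 piece DISCS (helper14): the discriminant from a `K`-orthogonal frame -/

namespace Cfsg.Agent.S5977P

open Polynomial Matrix
open Cfsg.Agent.Helper7.OrthUni (gram qf)
open Cfsg.Agent.Helper28.OrthSum (Qs)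
open Cfsg.Agent.Helper28.Spin (QfPlus)

namespace DISCS

variable {F : Type*} [Field F] {ι : Type} [Fintype ι] [DecidableEq ι]

/-- the family `e a`, `J e a` -/
def fam (J : Matrix ι ι F) {d : ℕ} (e : Fin d → (ι → F)) : Fin d ⊕ Fin d → (ι → F) :=
  Sum.elim e (fun a => J.mulVec (e a))

omit [DecidableEq ι] in
theorem fam_inl (J : Matrix ι ι F) {d : ℕ} (e : Fin d → (ι → F)) (a : Fin d) :
    fam J e (Sum.inl a) = e a := rfl

omit [DecidableEq ι] in
theorem fam_inr (J : Matrix ι ι F) {d : ℕ} (e : Fin d → (ι → F)) (a : Fin d) :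
    fam J e (Sum.inr a) = J.mulVec (e a) := rfl

theorem mulVec_mulVec_J {ν : F} {J : Matrix ι ι F} (hsq : J * J = ν • (1 : Matrix ι ι F))
    (u : ι → F) : J.mulVec (J.mulVec u) = ν • u := by
  rw [Matrix.mulVec_mulVec, hsq, Matrix.smul_mulVec, Matrix.one_mulVec]

/-- the Gram matrix of the family `e a`, `J e a` is `Gstd` -/
theorem polar_fam (Q : QuadraticForm F (ι → F)) (ν : F)
    (J : Matrix ι ι F) (hsq : J * J = ν • (1 : Matrix ι ι F))
    (hadj : ∀ u v : ι → F, QuadraticMap.polar ⇑Q (J.mulVec u) v =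
      QuadraticMap.polar ⇑Q u (J.mulVec v))
    (d : ℕ) (e : Fin d → (ι → F)) (c0 c1 : Fin d → F) (he : IsFrameS ⇑Q ν J d e c0 c1)
    (s t : Fin d ⊕ Fin d) :
    QuadraticMap.polar ⇑Q (fam J e s) (fam J e t) = Gstd ν d c0 c1 s t := by
  have hself : ∀ a, QuadraticMap.polar ⇑Q (e a) (e a) = 4 * c0 a := by
    intro a
    rw [QuadraticMap.polar_self, he.val0, two_nsmul]
    ring
  rcases s with a | a <;> rcases t with b | b
  · rw [fam_inl, fam_inl, Gstd, Matrix.fromBlocks_apply₁₁, Matrix.diagonal_apply]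
    split_ifs with hab
    · subst hab
      exact hself a
    · exact (he.orth a b hab).1
  · rw [fam_inl, fam_inr, Gstd, Matrix.fromBlocks_apply₁₂, Matrix.diagonal_apply]
    split_ifs with hab
    · subst hab
      exact he.val1 a
    · exact (he.orth a b hab).2
  · rw [fam_inr, fam_inl, Gstd, Matrix.fromBlocks_apply₂₁, Matrix.diagonal_apply, hadj]
    split_ifs with hab
    · subst hab
      exact he.val1 a
    · exact (he.orth a b hab).2
  · rw [fam_inr, fam_inr, Gstd, Matrix.fromBlocks_apply₂₂, Matrix.diagonal_apply, hadj,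
      mulVec_mulVec_J hsq, QuadraticMap.polar_smul_right, smul_eq_mul]
    split_ifs with hab
    · subst hab
      rw [hself a]
      ring
    · rw [(he.orth a b hab).1, mul_zero]

omit [DecidableEq ι] in
theorem card_sum_eq {d : ℕ} (hcard : Fintype.card ι = 2 * d) :
    Fintype.card (Fin d ⊕ Fin d) = Module.finrank F (ι → F) := by
  rw [Module.finrank_fintype_fun_eq_card, hcard, Fintype.card_sum, Fintype.card_fin]
  ring

/-- the basis `e a`, `J e a` -/
noncomputable def bas (Q : (ι → F) → F) (ν : F) (J : Matrix ι ι F) (d : ℕ)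
    (e : Fin d → (ι → F)) (c0 c1 : Fin d → F) (he : IsFrameS Q ν J d e c0 c1) :
    Module.Basis (Fin d ⊕ Fin d) F (ι → F) :=
  basisOfLinearIndependentOfCardEqFinrank' (fam J e) he.indep (card_sum_eq he.card)

omit [DecidableEq ι] in
theorem bas_apply (Q : (ι → F) → F) (ν : F) (J : Matrix ι ι F) (d : ℕ)
    (e : Fin d → (ι → F)) (c0 c1 : Fin d → F) (he : IsFrameS Q ν J d e c0 c1)
    (s : Fin d ⊕ Fin d) : bas Q ν J d e c0 c1 he s = fam J e s := by
  unfold bas
  exact congrFun (coe_basisOfLinearIndependentOfCardEqFinrank' (fam J e) he.indep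
    (card_sum_eq he.card)) s

/-- the pairing of the two copies of `Fin d` -/
def pairEquiv (d : ℕ) : Fin d ⊕ Fin d ≃ Fin 2 × Fin d where
  toFun := Sum.elim (fun a => (0, a)) (fun a => (1, a))
  invFun p := if p.1 = 0 then Sum.inl p.2 else Sum.inr p.2
  left_inv s := by
    rcases s with a | a
    · simp
    · simp
  right_inv p := by
    obtain ⟨i, a⟩ := p
    fin_cases i
    · simp
    · simp

/-- the `2 × 2` blocks of `Gstd` -/
def blockM (ν : F) {d : ℕ} (c0 c1 : Fin d → F) (a : Fin d) : Matrix (Fin 2) (Fin 2) F :=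
  !![4 * c0 a, 4 * ν * c1 a; 4 * ν * c1 a, 4 * ν * c0 a]

theorem Gstd_eq_blockDiagonal (ν : F) (d : ℕ) (c0 c1 : Fin d → F) :
    Gstd ν d c0 c1 =
      (Matrix.blockDiagonal (blockM ν c0 c1)).submatrix (pairEquiv d) (pairEquiv d) := by
  ext s t
  rw [Matrix.submatrix_apply, Matrix.blockDiagonal_apply]
  rcases s with a | a <;> rcases t with b | b
  · simp [Gstd, pairEquiv, blockM, Matrix.diagonal_apply]
  · simp [Gstd, pairEquiv, blockM, Matrix.diagonal_apply]
  · simp [Gstd, pairEquiv, blockM, Matrix.diagonal_apply]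
  · simp [Gstd, pairEquiv, blockM, Matrix.diagonal_apply]

theorem det_Gstd (ν : F) (d : ℕ) (c0 c1 : Fin d → F) :
    (Gstd ν d c0 c1).det = ∏ a, (16 * ν * (c0 a ^ 2 - ν * c1 a ^ 2)) := by
  rw [Gstd_eq_blockDiagonal, Matrix.det_submatrix_equiv_self, Matrix.det_blockDiagonal]
  apply Finset.prod_congr rfl
  intro a _
  rw [blockM, Matrix.det_fin_two_of]
  ring

end DISCS

open DISCS in
/-- DISCS -/
theorem disc_of_frame {F : Type*} [Field F] {ι : Type} [Fintype ι] [DecidableEq ι]
    (h2 : (2 : F) ≠ 0) (Q : QuadraticForm F (ι → F)) (ν : F)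
    (J : Matrix ι ι F) (hsq : J * J = ν • (1 : Matrix ι ι F))
    (hadj : ∀ u v : ι → F, QuadraticMap.polar ⇑Q (J.mulVec u) v =
      QuadraticMap.polar ⇑Q u (J.mulVec v))
    (d : ℕ) (e : Fin d → (ι → F)) (c0 c1 : Fin d → F) (he : IsFrameS ⇑Q ν J d e c0 c1) :
    ∃ t : F, t ≠ 0 ∧ (gram Q).det * t ^ 2 = ∏ a, (16 * ν * (c0 a ^ 2 - ν * c1 a ^ 2)) := by
  classical
  have hc : Fintype.card ι = Fintype.card (Fin d ⊕ Fin d) := by
    rw [he.card, Fintype.card_sum, Fintype.card_fin]
    ring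
  obtain ⟨σ⟩ : Nonempty (ι ≃ Fin d ⊕ Fin d) := Fintype.card_eq.mp hc
  -- the basis `e a`, `J e a`, indexed by `ι`
  let b' : Module.Basis ι F (ι → F) := (bas (⇑Q) ν J d e c0 c1 he).reindex σ.symm
  let P : Matrix ι ι F := (Pi.basisFun F ι).toMatrix b'
  have hP : Pᵀ * gram Q * P = (Gstd ν d c0 c1).submatrix σ σ := by
    have h1 := LinearMap.BilinForm.toMatrix_mul_basis_toMatrix (b := Pi.basisFun F ι) b'
      (QuadraticMap.polarBilin Q)
    rw [LinearMap.BilinForm.toMatrix_basisFun] at h1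
    show Pᵀ * LinearMap.BilinForm.toMatrix' (QuadraticMap.polarBilin Q) * P = _
    rw [h1]
    ext i j
    rw [LinearMap.BilinForm.toMatrix_apply, Matrix.submatrix_apply,
      QuadraticMap.polarBilin_apply_apply]
    show QuadraticMap.polar ⇑Q ((bas (⇑Q) ν J d e c0 c1 he).reindex σ.symm i)
      ((bas (⇑Q) ν J d e c0 c1 he).reindex σ.symm j) = _
    rw [Module.Basis.reindex_apply, Module.Basis.reindex_apply, Equiv.symm_symm, bas_apply,
      bas_apply]
    exact polar_fam Q ν J hsq hadj d e c0 c1 he (σ i) (σ j)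
  have hdet : P.det ≠ 0 := by
    have h1 : P * b'.toMatrix (Pi.basisFun F ι) = 1 := Module.Basis.toMatrix_mul_toMatrix_flip _ _
    have h2' := congrArg Matrix.det h1
    rw [Matrix.det_mul, Matrix.det_one] at h2'
    intro h0
    rw [h0, zero_mul] at h2'
    exact zero_ne_one h2'
  refine ⟨P.det, hdet, ?_⟩
  have h3 := congrArg Matrix.det hP
  rw [Matrix.det_mul, Matrix.det_mul, Matrix.det_transpose, Matrix.det_submatrix_equiv_self,
    det_Gstd] at h3
  rw [← h3]
  ring

end Cfsg.Agent.S5977P
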