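import Mathlib
import Cfsg.Prelude.Def_GeometricClasses
import Cfsg.Prelude.Def_ClassicalGeometry
import Cfsg.Agent.Helper29.S5977Defs
import Cfsg.Agent.Helper28.Spin6
import Cfsg.Agent.Helper28.OrthSum
import Cfsg.Agent.Helper7.OrthUni3
import Cfsg.Agent.Helper28.S5976ELTODD
import Cfsg.Agent.Helper28.IsoTransport

set_option autoImplicit false
open scoped MatrixGroups

/-! # S5977 / S5978 piece ELTODDCORE (helper14): an element of odd prime order `r` of `O⁺_{2i}(q)`,
`i = ord_r(q)` odd, with an `i`-dimensional primary component (orthogonal twin of S5976 ELTODD) -/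

namespace Cfsg.Agent.S5977P

open Polynomial
open Cfsg.Agent.Helper7.OrthUni (gram qf)
open Cfsg.Agent.Helper28.OrthSum (Qs)
open Cfsg.Agent.Helper28.Spin (QfPlus)

namespace ELTODDCORE

open Matrix Cfsg.Agent.S5976P.ELTODD

variable {F : Type*} [Field F]

/-- the Levi element `diag(A, B^T)`, `A B = 1`, of `O⁺_{2i}` -/
theorem exists_levi (i : ℕ) (A B : Matrix (Fin i) (Fin i) F) (hAB : A * B = 1) :
    ∃ x : GL (Fin i ⊕ Fin i) F, x ∈ Cfsg.isometryGroup F ⇑(QfPlus i F) ∧
      (x : Matrix (Fin i ⊕ Fin i) (Fin i ⊕ Fin i) F) = Matrix.fromBlocks A 0 0 Bᵀ := by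
  have hBA : B * A = 1 := (Matrix.mul_eq_one_comm_of_card_eq (Fin i) (Fin i) F rfl).mp hAB
  have h1 : Matrix.fromBlocks A 0 0 Bᵀ * Matrix.fromBlocks B 0 0 Aᵀ =
      (1 : Matrix (Fin i ⊕ Fin i) (Fin i ⊕ Fin i) F) := by
    rw [Matrix.fromBlocks_multiply, ← Matrix.transpose_mul, hAB, Matrix.transpose_one]
    simp only [mul_zero, zero_mul, add_zero, zero_add]
    exact Matrix.fromBlocks_one
  have h2 : Matrix.fromBlocks B 0 0 Aᵀ * Matrix.fromBlocks A 0 0 Bᵀ =
      (1 : Matrix (Fin i ⊕ Fin i) (Fin i ⊕ Fin i) F) := by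
    rw [Matrix.fromBlocks_multiply, ← Matrix.transpose_mul, hBA, Matrix.transpose_one]
    simp only [mul_zero, zero_mul, add_zero, zero_add]
    exact Matrix.fromBlocks_one
  refine ⟨⟨Matrix.fromBlocks A 0 0 Bᵀ, Matrix.fromBlocks B 0 0 Aᵀ, h1, h2⟩, ?_, rfl⟩
  rw [Cfsg.Agent.Helper28.IsoTransport.mem_isometryGroup_iff]
  intro u
  show Cfsg.quadFormPlus i F (Matrix.fromBlocks A 0 0 Bᵀ *ᵥ u) = Cfsg.quadFormPlus i F u
  have hq : ∀ w : Fin i ⊕ Fin i → F,
      Cfsg.quadFormPlus i F w = (w ∘ Sum.inl) ⬝ᵥ (w ∘ Sum.inr) := fun w => rfl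
  rw [hq, hq, Matrix.fromBlocks_mulVec]
  have e1 : (Sum.elim (A *ᵥ (u ∘ Sum.inl) + (0 : Matrix (Fin i) (Fin i) F) *ᵥ (u ∘ Sum.inr))
      ((0 : Matrix (Fin i) (Fin i) F) *ᵥ (u ∘ Sum.inl) + Bᵀ *ᵥ (u ∘ Sum.inr))) ∘ Sum.inl =
      A *ᵥ (u ∘ Sum.inl) := by
    funext a
    simp
  have e2 : (Sum.elim (A *ᵥ (u ∘ Sum.inl) + (0 : Matrix (Fin i) (Fin i) F) *ᵥ (u ∘ Sum.inr))
      ((0 : Matrix (Fin i) (Fin i) F) *ᵥ (u ∘ Sum.inl) + Bᵀ *ᵥ (u ∘ Sum.inr))) ∘ Sum.inr =
      Bᵀ *ᵥ (u ∘ Sum.inr) := by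
    funext a
    simp
  rw [e1, e2, Matrix.mulVec_transpose, dotProduct_comm, ← Matrix.dotProduct_mulVec,
    Matrix.mulVec_mulVec, hBA, Matrix.one_mulVec, dotProduct_comm]

/-- lemma L: the Levi element `diag(A, A^{-T})` -/
theorem levi_elt_O (i : ℕ) (r : ℕ) (hr : Odd r) (hr0 : (r : F) ≠ 0) (g : F[X]) (hg : Irreducible g)
    (hgd : g ∣ X ^ r - 1) (hg1 : g.eval 1 ≠ 0) (hodd : Odd g.natDegree)
    (Am : Matrix (Fin i) (Fin i) F) (hA : aeval Am (g * (X - 1)) = 0) (k : ℕ)
    (hker : Module.finrank F (LinearMap.ker (Matrix.toLin' (aeval Am g))) = k) :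
    ∃ x : GL (Fin i ⊕ Fin i) F, x ∈ Cfsg.isometryGroup F ⇑(QfPlus i F) ∧ x ^ r = 1 ∧
      Module.finrank F (LinearMap.ker (aeval (Matrix.toLin'
        (x : Matrix (Fin i ⊕ Fin i) (Fin i ⊕ Fin i) F)) g)) = k := by
  have hr1 : 1 ≤ r := hr.pos
  -- `Am ^ r = 1`
  have hAr : Am ^ r = 1 := by
    have hdvd : g * (X - 1) ∣ X ^ r - 1 := by
      apply IsCoprime.mul_dvd _ hgd
      · rw [← C_1, dvd_iff_isRoot, IsRoot.def, eval_sub, eval_pow, eval_X, eval_C, one_pow,
          sub_self]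
      · have hirr : Irreducible (X - C (1 : F)) := irreducible_X_sub_C 1
        rw [C_1] at hirr
        refine ((hirr.coprime_iff_not_dvd).2 ?_).symm
        rw [← C_1, dvd_iff_isRoot, IsRoot.def]
        exact hg1
    obtain ⟨t, ht⟩ := hdvd
    have h := congrArg (aeval Am) ht
    rw [map_mul, hA, zero_mul, map_sub, map_pow, aeval_X, map_one, sub_eq_zero] at h
    exact h
  have hab : Am * Am ^ (r - 1) = 1 := by
    rw [← pow_succ', Nat.sub_add_cancel hr1, hAr]
  have hBr : ((Am ^ (r - 1))ᵀ) ^ r = 1 := by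
    rw [← Matrix.transpose_pow, ← pow_mul, mul_comm, pow_mul, hAr, one_pow, Matrix.transpose_one]
  obtain ⟨x, hx, hxval⟩ := exists_levi i Am (Am ^ (r - 1)) hab
  refine ⟨x, hx, ?_, ?_⟩
  · apply Units.ext
    rw [Units.val_pow_eq_pow_val, hxval, fromBlocks_pow', hAr, hBr, Matrix.fromBlocks_one]
    rfl
  · rw [hxval, aeval_toLin'', aeval_fromBlocks, finrank_ker_fromBlocks]
    · exact hker
    · -- invertibility of `g ((Am^(r-1))ᵀ)`
      obtain ⟨a, b, hab'⟩ := coprime_comp r hr hr0 g hg hgd hg1 hodd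
      have h := congrArg (aeval Am) hab'
      rw [map_add, map_mul, map_mul, hA, mul_zero, add_zero, map_one, aeval_comp, map_pow,
        aeval_X] at h
      have h' : aeval (Am ^ (r - 1)) g * aeval Am a = 1 := by
        exact (Matrix.mul_eq_one_comm_of_card_eq (Fin i) (Fin i) F rfl).mp h
      refine ⟨(aeval Am a)ᵀ, ?_⟩
      rw [aeval_transpose', ← Matrix.transpose_mul, h', Matrix.transpose_one]

end ELTODDCORE

open ELTODDCORE Cfsg.Agent.S5976P.ELTODD in
/-- ELTODDCORE -/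
theorem exists_elt_odd_core {F : Type*} [Field F] [Fintype F] {p : ℕ} [Fact p.Prime] [CharP F p]
    (r : ℕ) [Fact r.Prime] (hr2 : r ≠ 2) (hrp : r ≠ p) (i : ℕ)
    (hi : orderOf ((Fintype.card F : ℕ) : ZMod r) = i) (hodd : Odd i) :
    ∃ (x₁ : GL (Fin i ⊕ Fin i) F) (g₁ : F[X]),
      x₁ ∈ Cfsg.isometryGroup F ⇑(QfPlus i F) ∧ x₁ ^ r = 1 ∧ g₁.eval 1 ≠ 0 ∧
      Module.finrank F (LinearMap.ker (aeval (Matrix.toLin'
        (x₁ : Matrix (Fin i ⊕ Fin i) (Fin i ⊕ Fin i) F)) g₁)) = i := by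
  classical
  have hr : r.Prime := Fact.out
  have hrodd : Odd r := hr.eq_two_or_odd'.resolve_left hr2
  have hr0 : (r : F) ≠ 0 := by
    intro h0
    have hdvd : p ∣ r := (CharP.cast_eq_zero_iff F p r).1 h0
    exact hrp ((Nat.prime_dvd_prime_iff_eq (Fact.out : p.Prime) hr).1 hdvd).symm
  have hi' : i = orderOf ((Fintype.card F : ℕ) : ZMod r) := hi.symm
  have hipos : 0 < i := hodd.pos
  suffices h : ∃ (g : F[X]) (Am : Matrix (Fin i) (Fin i) F), Irreducible g ∧ g ∣ X ^ r - 1 ∧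
      g.eval 1 ≠ 0 ∧ Odd g.natDegree ∧ aeval Am (g * (X - 1)) = 0 ∧
      Module.finrank F (LinearMap.ker (Matrix.toLin' (aeval Am g))) = i by
    obtain ⟨g, Am, hg, hgd, hg1, hgodd, hA, hker⟩ := h
    obtain ⟨x, hx, hxr, hxo⟩ := levi_elt_O i r hrodd hr0 g hg hgd hg1 hgodd Am hA i hker
    exact ⟨x, g, hx, hxr, hg1, hxo⟩
  by_cases hi1 : i = 1
  · -- `r ∣ q - 1`: a diagonal element
    have hd : 0 < i := hipos
    have hq1 : ((Fintype.card F : ℕ) : ZMod r) = 1 := by
      rw [← orderOf_eq_one_iff, ← hi', hi1]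
    have hdvd : r ∣ Fintype.card F - 1 := by
      have h1 : 1 ≤ Fintype.card F := Fintype.card_pos
      rw [← ZMod.natCast_eq_zero_iff, Nat.cast_sub h1, hq1, Nat.cast_one, sub_self]
    have hcardu : Fintype.card Fˣ = Fintype.card F - 1 := Fintype.card_units F
    obtain ⟨αu, hαu⟩ := exists_prime_orderOf_dvd_card r (by rw [hcardu]; exact hdvd)
    set α : F := (αu : F) with hα
    have hαr : α ^ r = 1 := by
      rw [hα, ← Units.val_pow_eq_pow_val, ← hαu, pow_orderOf_eq_one, Units.val_one]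
    have hα1 : α ≠ 1 := by
      intro h1
      have : αu = 1 := Units.ext h1
      rw [this, orderOf_one] at hαu
      exact hr.one_lt.ne hαu
    set j0 : Fin i := ⟨0, hd⟩ with hj0
    set dd : Fin i → F := Function.update (fun _ => (1 : F)) j0 α with hdd
    refine ⟨X - C α, Matrix.diagonal dd, irreducible_X_sub_C α, ?_, ?_, ?_, ?_, ?_⟩
    · rw [dvd_iff_isRoot, IsRoot.def, eval_sub, eval_pow, eval_X, eval_one, hαr, sub_self]
    · rw [eval_sub, eval_X, eval_C]
      exact sub_ne_zero.2 (Ne.symm hα1)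
    · rw [natDegree_X_sub_C]; exact odd_one
    · rw [map_mul, map_sub, map_sub, aeval_X, aeval_C, map_one, Algebra.algebraMap_eq_smul_one,
        Matrix.smul_one_eq_diagonal, ← Matrix.diagonal_one, Matrix.diagonal_sub,
        Matrix.diagonal_sub, Matrix.diagonal_mul_diagonal]
      ext a b
      rw [Matrix.diagonal_apply, Matrix.zero_apply]
      split_ifs with hab
      · by_cases ha : a = j0
        · subst ha
          simp [hdd]
        · simp [hdd, Function.update_of_ne ha]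
      · rfl
    · have h1 : Matrix.toLin' (aeval (Matrix.diagonal dd) (X - C α)) =
          Matrix.toLin' (Matrix.diagonal dd) - α • (1 : Module.End F (Fin i → F)) := by
        rw [map_sub, aeval_X, aeval_C, Algebra.algebraMap_eq_smul_one, map_sub, map_smul,
          Matrix.toLin'_one]
        rfl
      rw [h1, Cfsg.Agent.S5965P.DIAGDER.finrank_ker_diag]
      have h2 : Nat.card {j // dd j = α} = 1 := by
        rw [Nat.card_eq_one_iff_unique]
        constructor
        · constructor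
          rintro ⟨a, ha⟩ ⟨b, hb⟩
          apply Subtype.ext
          show a = b
          have ha' : a = j0 := by
            by_contra hne
            rw [hdd, Function.update_of_ne hne] at ha
            exact hα1 ha.symm
          have hb' : b = j0 := by
            by_contra hne
            rw [hdd, Function.update_of_ne hne] at hb
            exact hα1 hb.symm
          rw [ha', hb']
        · exact ⟨⟨j0, by rw [hdd, Function.update_self]⟩⟩
      rw [h2, hi1]
  · -- `i ≥ 3`: the single block model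
    have hi2 : 2 ≤ orderOf ((Fintype.card F : ℕ) : ZMod r) := by
      rw [← hi']; omega
    obtain ⟨x, g, hgi, hgm, hgΦ, hxr, _, hfix, hann⟩ :=
      Cfsg.Agent.S5958P.model_single (F := F) r hrp i 1 hi2 le_rfl (by rw [← hi', mul_one])
    rw [← hi', mul_one] at hfix
    have hgX : g ∣ X ^ r - 1 := by
      rw [← cyclotomic_prime_mul_X_sub_one F r]
      exact Dvd.dvd.mul_right hgΦ _
    have hg1 : g.eval 1 ≠ 0 := by
      intro h0
      obtain ⟨t, ht⟩ := hgΦ
      have h3 : (cyclotomic r F).eval 1 = 0 := by rw [ht, eval_mul, h0, zero_mul]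
      rw [eval_one_cyclotomic_prime] at h3
      exact hr0 h3
    have hgdeg : g.natDegree = i := by
      rw [hi']; exact Cfsg.Agent.S5949P.natDegree_of_dvd_cyclotomic r hrp g hgi hgΦ
    have hA : aeval (x : Matrix (Fin i) (Fin i) F) (g * (X - 1)) = 0 := by
      rw [aeval_toLin''] at hann
      exact (LinearEquiv.map_eq_zero_iff _).1 hann
    refine ⟨g, (x : Matrix (Fin i) (Fin i) F), hgi, hgX, hg1, by rw [hgdeg]; exact hodd, hA, ?_⟩
    rw [← aeval_toLin'']
    set f : Module.End F (Fin i → F) := Matrix.toLin' (x : Matrix (Fin i) (Fin i) F) with hf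
    have hcop : IsCoprime g (X - C (1 : F)) := by
      have hirr : Irreducible (X - C (1 : F)) := irreducible_X_sub_C 1
      refine ((hirr.coprime_iff_not_dvd).2 ?_).symm
      rw [dvd_iff_isRoot, IsRoot.def]
      exact hg1
    have hdisj := disjoint_ker_aeval_of_isCoprime f hcop
    have hsup := sup_ker_aeval_eq_ker_aeval_mul_of_coprime f hcop
    rw [C_1, hann, LinearMap.ker_zero] at hsup
    have hcompl : IsCompl (LinearMap.ker (aeval f g)) (LinearMap.ker (aeval f (X - C (1 : F)))) :=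
      ⟨hdisj, codisjoint_iff.2 hsup⟩
    have hadd := Submodule.finrank_add_eq_of_isCompl hcompl
    have hX1 : aeval f (X - C (1 : F)) = f - 1 := by
      rw [map_sub, aeval_X, aeval_C, map_one]
    rw [hX1, hfix, Module.finrank_fintype_fun_eq_card, Fintype.card_fin] at hadd
    omega

end Cfsg.Agent.S5977P
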