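import Mathlib
import Cfsg.Prelude.Def_GeometricClasses
import Cfsg.Prelude.Def_ClassicalGeometry
import Cfsg.Agent.Helper29.S5977Defs
import Cfsg.Agent.Helper28.Spin6
import Cfsg.Agent.Helper28.OrthSum
import Cfsg.Agent.Helper7.OrthUni3
import Cfsg.Agent.Helper14.S5977DISCS

set_option autoImplicit false
open scoped MatrixGroups

/-! # S5977 / S5978 piece FRAMESCALE (helper14): rescaling the vectors of a `K`-orthogonal frame by
invertible elements `x + y J` of `K`.

NOTE: the stub had no hypothesis `2 ≠ 0`; the statement is false in characteristic `2`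
(`Q (J e) = ν Q e` needs `2` invertible), so `h2` was added (agreed with the driver). -/

namespace Cfsg.Agent.S5977P

open Polynomial Matrix
open Cfsg.Agent.Helper7.OrthUni (gram qf)
open Cfsg.Agent.Helper28.OrthSum (Qs)
open Cfsg.Agent.Helper28.Spin (QfPlus)

namespace FRAMESCALE

open DISCS

variable {F : Type*} [Field F] {ι : Type} [Fintype ι] [DecidableEq ι]

/-- rescaling every frame vector `e a` by `xs a + ys a J` -/
theorem frame_scale_gen (h2 : (2 : F) ≠ 0) (Q : QuadraticForm F (ι → F)) (ν : F)
    (J : Matrix ι ι F) (hsq : J * J = ν • (1 : Matrix ι ι F))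
    (hadj : ∀ u v : ι → F, QuadraticMap.polar ⇑Q (J.mulVec u) v =
      QuadraticMap.polar ⇑Q u (J.mulVec v))
    (d : ℕ) (e : Fin d → (ι → F)) (c0 c1 : Fin d → F) (he : IsFrameS ⇑Q ν J d e c0 c1)
    (xs ys : Fin d → F) (hxy : ∀ a, xs a ^ 2 - ν * ys a ^ 2 ≠ 0) :
    IsFrameS ⇑Q ν J d (fun a => xs a • e a + ys a • J.mulVec (e a))
      (fun a => c0 a * (xs a ^ 2 + ν * ys a ^ 2) + 2 * ν * c1 a * xs a * ys a)
      (fun a => c1 a * (xs a ^ 2 + ν * ys a ^ 2) + 2 * c0 a * xs a * ys a) := by
  classical
  have hJJ := mulVec_mulVec_J hsq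
  -- the Gram values of the old frame
  have g11 : ∀ a b, QuadraticMap.polar ⇑Q (e a) (e b) = if a = b then 4 * c0 a else 0 := by
    intro a b
    have := polar_fam Q ν J hsq hadj d e c0 c1 he (Sum.inl a) (Sum.inl b)
    rw [fam_inl, fam_inl, Gstd, Matrix.fromBlocks_apply₁₁, Matrix.diagonal_apply] at this
    exact this
  have g12 : ∀ a b, QuadraticMap.polar ⇑Q (e a) (J.mulVec (e b)) =
      if a = b then 4 * ν * c1 a else 0 := by
    intro a b
    have := polar_fam Q ν J hsq hadj d e c0 c1 he (Sum.inl a) (Sum.inr b)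
    rw [fam_inl, fam_inr, Gstd, Matrix.fromBlocks_apply₁₂, Matrix.diagonal_apply] at this
    exact this
  have g21 : ∀ a b, QuadraticMap.polar ⇑Q (J.mulVec (e a)) (e b) =
      if a = b then 4 * ν * c1 a else 0 := by
    intro a b
    rw [hadj]
    exact g12 a b
  have g22 : ∀ a b, QuadraticMap.polar ⇑Q (J.mulVec (e a)) (J.mulVec (e b)) =
      if a = b then 4 * ν * c0 a else 0 := by
    intro a b
    have := polar_fam Q ν J hsq hadj d e c0 c1 he (Sum.inr a) (Sum.inr b)
    rw [fam_inr, fam_inr, Gstd, Matrix.fromBlocks_apply₂₂, Matrix.diagonal_apply] at this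
    exact this
  have hJe : ∀ a, J.mulVec (xs a • e a + ys a • J.mulVec (e a)) =
      xs a • J.mulVec (e a) + (ys a * ν) • e a := by
    intro a
    rw [Matrix.mulVec_add, Matrix.mulVec_smul, Matrix.mulVec_smul, hJJ, smul_smul]
  have hQ : ∀ w : ι → F, Q w = (2 : F)⁻¹ * QuadraticMap.polar ⇑Q w w := by
    intro w
    rw [QuadraticMap.polar_self, two_nsmul]
    field_simp
    ring
  refine ⟨?_, ?_, ?_, ?_, he.card⟩
  · intro a b hab
    have hba : ¬ b = a := fun h => hab h.symm
    constructor
    · simp only [QuadraticMap.polar_add_left, QuadraticMap.polar_add_right,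
        QuadraticMap.polar_smul_left, QuadraticMap.polar_smul_right, g11, g12, g21, g22,
        if_neg hab, smul_eq_mul, mul_zero, add_zero]
    · show QuadraticMap.polar ⇑Q (xs a • e a + ys a • J.mulVec (e a))
        (J.mulVec (xs b • e b + ys b • J.mulVec (e b))) = 0
      rw [hJe]
      simp only [QuadraticMap.polar_add_left, QuadraticMap.polar_add_right,
        QuadraticMap.polar_smul_left, QuadraticMap.polar_smul_right, g11, g12, g21, g22,
        if_neg hab, smul_eq_mul, mul_zero, add_zero]
  · intro a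
    show Q (xs a • e a + ys a • J.mulVec (e a)) = _
    rw [hQ]
    simp only [QuadraticMap.polar_add_left, QuadraticMap.polar_add_right,
      QuadraticMap.polar_smul_left, QuadraticMap.polar_smul_right, g11, g12, g21, g22,
      if_true, smul_eq_mul]
    field_simp
    ring
  · intro a
    show QuadraticMap.polar ⇑Q (xs a • e a + ys a • J.mulVec (e a))
      (J.mulVec (xs a • e a + ys a • J.mulVec (e a))) = _
    rw [hJe]
    simp only [QuadraticMap.polar_add_left, QuadraticMap.polar_add_right,
      QuadraticMap.polar_smul_left, QuadraticMap.polar_smul_right, g11, g12, g21, g22,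
      if_true, smul_eq_mul]
    ring
  · rw [Fintype.linearIndependent_iff]
    intro g hg
    have hold := Fintype.linearIndependent_iff.mp he.indep
      (Sum.elim (fun a => g (Sum.inl a) * xs a + g (Sum.inr a) * (ys a * ν))
        (fun a => g (Sum.inl a) * ys a + g (Sum.inr a) * xs a))
    have hsum : ∑ s, (Sum.elim (fun a => g (Sum.inl a) * xs a + g (Sum.inr a) * (ys a * ν))
        (fun a => g (Sum.inl a) * ys a + g (Sum.inr a) * xs a)) s •
          (Sum.elim e (fun a => J.mulVec (e a))) s = 0 := by
      rw [← hg, Fintype.sum_sum_type, Fintype.sum_sum_type, ← Finset.sum_add_distrib,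
        ← Finset.sum_add_distrib]
      apply Finset.sum_congr rfl
      intro a _
      simp only [Sum.elim_inl, Sum.elim_inr]
      rw [hJe]
      module
    have h0 := hold hsum
    have hl : ∀ a, g (Sum.inl a) * xs a + g (Sum.inr a) * (ys a * ν) = 0 := fun a => h0 (Sum.inl a)
    have hr : ∀ a, g (Sum.inl a) * ys a + g (Sum.inr a) * xs a = 0 := fun a => h0 (Sum.inr a)
    intro s
    rcases s with a | a
    · have : g (Sum.inl a) * (xs a ^ 2 - ν * ys a ^ 2) = 0 := by
        linear_combination xs a * hl a - ν * ys a * hr a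
      rcases mul_eq_zero.mp this with h | h
      · exact h
      · exact absurd h (hxy a)
    · have : g (Sum.inr a) * (xs a ^ 2 - ν * ys a ^ 2) = 0 := by
        linear_combination xs a * hr a - ys a * hl a
      rcases mul_eq_zero.mp this with h | h
      · exact h
      · exact absurd h (hxy a)

end FRAMESCALE

/-- FRAMESCALE (with the additional hypothesis `h2`, see the note at the top of the file) -/
theorem frame_scale_last {F : Type*} [Field F] {ι : Type} [Fintype ι] [DecidableEq ι]
    (h2 : (2 : F) ≠ 0) (Q : QuadraticForm F (ι → F)) (ν : F)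
    (J : Matrix ι ι F) (hsq : J * J = ν • (1 : Matrix ι ι F))
    (hadj : ∀ u v : ι → F, QuadraticMap.polar ⇑Q (J.mulVec u) v =
      QuadraticMap.polar ⇑Q u (J.mulVec v))
    (d : ℕ) (e : Fin d → (ι → F)) (δ0 δ1 : F) (he : IsNormFrameS ⇑Q ν J d e δ0 δ1)
    (x y : F) (hxy : x ^ 2 - ν * y ^ 2 ≠ 0) :
    IsNormFrameS ⇑Q ν J d
      (fun a => if a.val + 1 = d then x • e a + y • J.mulVec (e a) else e a)
      (δ0 * (x ^ 2 + ν * y ^ 2) + 2 * ν * δ1 * x * y)
      (δ1 * (x ^ 2 + ν * y ^ 2) + 2 * δ0 * x * y) := by
  classical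
  unfold IsNormFrameS at he ⊢
  have key := FRAMESCALE.frame_scale_gen h2 Q ν J hsq hadj d e _ _ he
    (fun a => if a.val + 1 = d then x else 1) (fun a => if a.val + 1 = d then y else 0)
    (by
      intro a
      show (if a.val + 1 = d then x else 1) ^ 2 - ν * (if a.val + 1 = d then y else 0) ^ 2 ≠ 0
      split_ifs with h
      · exact hxy
      · simp)
  have h1 : (fun a : Fin d => (if a.val + 1 = d then x else 1) • e a +
      (if a.val + 1 = d then y else 0) • J.mulVec (e a)) =
      (fun a => if a.val + 1 = d then x • e a + y • J.mulVec (e a) else e a) := by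
    funext a
    split_ifs with h
    · rfl
    · rw [one_smul, zero_smul, add_zero]
  have h2' : (fun a : Fin d => (if a.val + 1 = d then δ0 else 1) *
      ((if a.val + 1 = d then x else 1) ^ 2 + ν * (if a.val + 1 = d then y else 0) ^ 2) +
      2 * ν * (if a.val + 1 = d then δ1 else 0) * (if a.val + 1 = d then x else 1) *
        (if a.val + 1 = d then y else 0)) =
      (fun a => if a.val + 1 = d then δ0 * (x ^ 2 + ν * y ^ 2) + 2 * ν * δ1 * x * y else 1) := by
    funext a
    split_ifs with h
    · rfl
    · ring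
  have h3 : (fun a : Fin d => (if a.val + 1 = d then δ1 else 0) *
      ((if a.val + 1 = d then x else 1) ^ 2 + ν * (if a.val + 1 = d then y else 0) ^ 2) +
      2 * (if a.val + 1 = d then δ0 else 1) * (if a.val + 1 = d then x else 1) *
        (if a.val + 1 = d then y else 0)) =
      (fun a => if a.val + 1 = d then δ1 * (x ^ 2 + ν * y ^ 2) + 2 * δ0 * x * y else 0) := by
    funext a
    split_ifs with h
    · rfl
    · ring
  rw [h1, h2', h3] at key
  exact key

end Cfsg.Agent.S5977P
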