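import Mathlib
import Cfsg.Prelude.Def_GeometricClasses
import Cfsg.Prelude.Def_ClassicalGeometry
import Cfsg.Agent.Helper29.S5977Defs
import Cfsg.Agent.Helper28.Spin6
import Cfsg.Agent.Helper28.OrthSum
import Cfsg.Agent.Helper7.OrthUni3
import Cfsg.Agent.Helper14.S5977DISCS

set_option autoImplicit false
open scoped MatrixGroups

/-! # S5977 / S5978 piece STDMODEL (helper14): the standard model of a `K`-orthogonal frame -/

namespace Cfsg.Agent.S5977P

open Polynomial Matrix
open Cfsg.Agent.Helper7.OrthUni (gram qf)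
open Cfsg.Agent.Helper28.OrthSum (Qs)
open Cfsg.Agent.Helper28.Spin (QfPlus)

namespace STDMODEL

variable {F : Type*} [Field F] {ι : Type} [Fintype ι] [DecidableEq ι]

theorem Jstd_mulVec_inl (ν : F) (d : ℕ) (v : Fin d ⊕ Fin d → F) (a : Fin d) :
    (Jstd ν d).mulVec v (Sum.inl a) = ν * v (Sum.inr a) := by
  rw [Jstd, Matrix.fromBlocks_mulVec]
  simp [Matrix.smul_mulVec]

theorem Jstd_mulVec_inr (ν : F) (d : ℕ) (v : Fin d ⊕ Fin d → F) (a : Fin d) :
    (Jstd ν d).mulVec v (Sum.inr a) = v (Sum.inl a) := by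
  rw [Jstd, Matrix.fromBlocks_mulVec]
  simp

end STDMODEL

open DISCS STDMODEL in
/-- STDMODEL -/
theorem exists_std_equiv {F : Type*} [Field F] {ι : Type} [Fintype ι] [DecidableEq ι]
    (h2 : (2 : F) ≠ 0) (Q : QuadraticForm F (ι → F)) (ν : F)
    (J : Matrix ι ι F) (hsq : J * J = ν • (1 : Matrix ι ι F))
    (hadj : ∀ u v : ι → F, QuadraticMap.polar ⇑Q (J.mulVec u) v =
      QuadraticMap.polar ⇑Q u (J.mulVec v))
    (d : ℕ) (e : Fin d → (ι → F)) (c0 c1 : Fin d → F) (he : IsFrameS ⇑Q ν J d e c0 c1) :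
    ∃ φ : ((Fin d ⊕ Fin d) → F) ≃ₗ[F] (ι → F), (∀ v, Q (φ v) = Qstd ν d c0 c1 v) ∧
      (∀ v, J.mulVec (φ v) = φ ((Jstd ν d).mulVec v)) ∧
      (∀ a, φ (Pi.single (Sum.inl a) 1) = e a) := by
  classical
  have hφ : ∀ v : Fin d ⊕ Fin d → F,
      (bas (⇑Q) ν J d e c0 c1 he).equivFun.symm v = ∑ s, v s • fam J e s := by
    intro v
    rw [Module.Basis.equivFun_symm_apply]
    apply Finset.sum_congr rfl
    intro s _
    rw [bas_apply]
  refine ⟨(bas (⇑Q) ν J d e c0 c1 he).equivFun.symm, ?_, ?_, ?_⟩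
  · intro v
    have hQ : ∀ w : ι → F, Q w = (2 : F)⁻¹ * QuadraticMap.polar ⇑Q w w := by
      intro w
      rw [QuadraticMap.polar_self, two_nsmul]
      field_simp
      ring
    rw [hQ, hφ, Qstd, Cfsg.Agent.Helper7.OrthUni.qf_apply]
    congr 1
    have hexp : QuadraticMap.polar ⇑Q (∑ s, v s • fam J e s) (∑ s, v s • fam J e s) =
        ∑ s, ∑ t, v s * (Gstd ν d c0 c1 s t * v t) := by
      rw [← QuadraticMap.polarBilin_apply_apply]
      simp only [map_sum, LinearMap.sum_apply, map_smul, LinearMap.smul_apply, smul_eq_mul,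
        QuadraticMap.polarBilin_apply_apply, polar_fam Q ν J hsq hadj d e c0 c1 he]
      rw [Finset.sum_comm]
      apply Finset.sum_congr rfl
      intro s _
      rw [Finset.mul_sum]
      apply Finset.sum_congr rfl
      intro t _
      ring
    rw [hexp, dotProduct]
    apply Finset.sum_congr rfl
    intro s _
    rw [Matrix.mulVec, dotProduct, Finset.mul_sum]
  · intro v
    rw [hφ, hφ, Matrix.mulVec_sum, Fintype.sum_sum_type, Fintype.sum_sum_type]
    simp only [Matrix.mulVec_smul, fam_inl, fam_inr, Jstd_mulVec_inl, Jstd_mulVec_inr,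
      mulVec_mulVec_J hsq]
    rw [add_comm]
    congr 1
    apply Finset.sum_congr rfl
    intro a _
    rw [smul_smul, mul_comm]
  · intro a
    rw [Basis.equivFun_symm_single, bas_apply, fam_inl]

end Cfsg.Agent.S5977P
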