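import Mathlib
import Cfsg.Prelude.Def_GeometricClasses
import Cfsg.Agent.Helper20.S6000Defs

set_option autoImplicit false
open scoped MatrixGroups Matrix

/-! # S6000 piece NONCENT (helper14): a nonscalar element of `R` anticommutes with some element of `R` -/

namespace Cfsg.Agent.S6000P

/-- NONCENT -/
theorem exists_anticomm {F : Type*} [Field F] {R : Subgroup (GL (Fin 4) F)} {ι : F} (h : Hyp64 R ι)
    (a : GL (Fin 4) F) (ha : a ∈ R) (hns : ∀ z : F, (a : M4 F) ≠ z • (1 : M4 F)) :
    ∃ b ∈ R, a * b = -(b * a) := by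
  by_contra hcon
  push Not at hcon
  have hall : ∀ b ∈ R, (a : M4 F) * (b : M4 F) = (b : M4 F) * (a : M4 F) := by
    intro b hb
    rcases h.comm a ha b hb with h1 | h1
    · have := congrArg (fun u : GL (Fin 4) F => (u : M4 F)) h1
      simpa using this
    · exact absurd h1 (hcon b hb)
  obtain ⟨c, hc⟩ := h.scalar_of_commute (a : M4 F) hall
  exact hns c hc

end Cfsg.Agent.S6000P
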