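import Mathlib
import Cfsg.Prelude.Def_GeometricClasses
import Cfsg.Agent.Helper20.S6000Defs
import Cfsg.Agent.Helper14.S6000NONCENT

set_option autoImplicit false
open scoped MatrixGroups Matrix

/-! # S6000 piece CENT2 (helper14): the centralizer in `R` of a nonscalar element has order `32` -/

namespace Cfsg.Agent.S6000P

namespace CENT2

/-- abstract version: in a group `G` with a central element `z ≠ 1`, `z * z = 1`, if `H` is a subgroup
all of whose elements commute or `z`-commute with `a`, and some `b0 ∈ H` really `z`-commutes with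
`a`, then the centralizer of `a` in `H` has index `2` in `H`. -/
theorem index_centralizer {G : Type*} [Group G] (H : Subgroup G) (a z : G) (hz1 : z ≠ 1)
    (hzz : z * z = 1) (hzc : ∀ g : G, z * g = g * z)
    (hcomm : ∀ b ∈ H, a * b = b * a ∨ a * b = z * (b * a))
    (b0 : G) (hb0 : b0 ∈ H) (hab0 : a * b0 = z * (b0 * a)) :
    ((Subgroup.centralizer {a}).subgroupOf H).index = 2 := by
  have hmemC : ∀ b : ↥H, b ∈ (Subgroup.centralizer {a}).subgroupOf H ↔
      (b : G) * a = a * (b : G) := by
    intro b
    rw [Subgroup.mem_subgroupOf, Subgroup.mem_centralizer_singleton_iff]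
  rw [Subgroup.index_eq_two_iff]
  refine ⟨⟨b0, hb0⟩, fun b => ?_⟩
  have hcoe : ((b * ⟨b0, hb0⟩ : ↥H) : G) = (b : G) * b0 := rfl
  by_cases hbC : (b : G) * a = a * (b : G)
  · right
    refine ⟨(hmemC b).mpr hbC, ?_⟩
    intro hmem
    have h1 : ((b : G) * b0) * a = a * ((b : G) * b0) := by
      have := (hmemC (b * ⟨b0, hb0⟩)).mp hmem
      rwa [hcoe] at this
    have h2 : a * ((b : G) * b0) = z * (((b : G) * b0) * a) := by
      calc a * ((b : G) * b0) = (a * (b : G)) * b0 := by rw [mul_assoc]
        _ = ((b : G) * a) * b0 := by rw [hbC]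
        _ = (b : G) * (a * b0) := by rw [mul_assoc]
        _ = (b : G) * (z * (b0 * a)) := by rw [hab0]
        _ = ((b : G) * z) * (b0 * a) := by rw [mul_assoc]
        _ = (z * (b : G)) * (b0 * a) := by rw [← hzc (b : G)]
        _ = z * (((b : G) * b0) * a) := by simp only [mul_assoc]
    rw [← h1] at h2
    apply hz1
    have h3 : (1 : G) * (((b : G) * b0) * a) = z * (((b : G) * b0) * a) := by
      rw [one_mul]; exact h2
    exact (mul_right_cancel h3).symm
  · left
    have hanti : a * (b : G) = z * ((b : G) * a) := by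
      rcases hcomm b b.2 with h1 | h1
      · exact absurd h1.symm hbC
      · exact h1
    refine ⟨(hmemC (b * ⟨b0, hb0⟩)).mpr ?_, fun hb => hbC ((hmemC b).mp hb)⟩
    rw [hcoe]
    symm
    calc a * ((b : G) * b0) = (a * (b : G)) * b0 := by rw [mul_assoc]
      _ = (z * ((b : G) * a)) * b0 := by rw [hanti]
      _ = z * ((b : G) * (a * b0)) := by simp only [mul_assoc]
      _ = z * ((b : G) * (z * (b0 * a))) := by rw [hab0]
      _ = z * (((b : G) * z) * (b0 * a)) := by simp only [mul_assoc]
      _ = z * ((z * (b : G)) * (b0 * a)) := by rw [← hzc (b : G)]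
      _ = (z * z) * (((b : G) * b0) * a) := by simp only [mul_assoc]
      _ = ((b : G) * b0) * a := by rw [hzz, one_mul]

end CENT2

/-- CENT2 -/
theorem card_centralizer {F : Type*} [Field F] {R : Subgroup (GL (Fin 4) F)} {ι : F} (h : Hyp64 R ι)
    (a : GL (Fin 4) F) (ha : a ∈ R) (hns : ∀ z : F, (a : M4 F) ≠ z • (1 : M4 F)) :
    Nat.card {b : GL (Fin 4) F // b ∈ R ∧ b * a = a * b} = 32 := by
  classical
  obtain ⟨b0, hb0, hab0⟩ := exists_anticomm h a ha hns
  have hidx : ((Subgroup.centralizer {a}).subgroupOf R).index = 2 := by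
    apply CENT2.index_centralizer R a (-1) (neg_one_ne_one h.two_ne) (by rw [neg_mul_neg, one_mul])
      (fun g => by rw [neg_one_mul, mul_neg_one]) _ b0 hb0 (by rw [neg_one_mul]; exact hab0)
    intro b hb
    rcases h.comm a ha b hb with h1 | h1
    · exact Or.inl h1
    · exact Or.inr (by rw [neg_one_mul]; exact h1)
  have hcard := Subgroup.card_mul_index ((Subgroup.centralizer {a}).subgroupOf R)
  rw [hidx, h.card] at hcard
  have hC : Nat.card ((Subgroup.centralizer {a}).subgroupOf R) = 32 := by omega
  rw [← hC]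
  apply Nat.card_congr
  exact
    { toFun := fun b => ⟨⟨b.1, b.2.1⟩, by
        rw [Subgroup.mem_subgroupOf, Subgroup.mem_centralizer_singleton_iff]; exact b.2.2⟩
      invFun := fun c => ⟨c.1.1, c.1.2, by
        have := c.2
        rw [Subgroup.mem_subgroupOf, Subgroup.mem_centralizer_singleton_iff] at this
        exact this⟩
      left_inv := fun _ => rfl
      right_inv := fun _ => rfl }

end Cfsg.Agent.S6000P
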