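import Mathlib
import Cfsg.Prelude.Def_GeometricClasses
import Cfsg.Agent.Helper20.S6000Defs
import Cfsg.Agent.Helper14.S6000NONCENT

set_option autoImplicit false
open scoped MatrixGroups Matrix

/-! # S6000 piece TR0 (helper14): a nonscalar element of `R` has trace `0` -/

namespace Cfsg.Agent.S6000P

/-- TR0 -/
theorem trace_eq_zero {F : Type*} [Field F] {R : Subgroup (GL (Fin 4) F)} {ι : F} (h : Hyp64 R ι)
    (a : GL (Fin 4) F) (ha : a ∈ R) (hns : ∀ z : F, (a : M4 F) ≠ z • (1 : M4 F)) :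
    Matrix.trace (a : M4 F) = 0 := by
  obtain ⟨b, _, hab⟩ := exists_anticomm h a ha hns
  have h1 : (a : M4 F) * (b : M4 F) = -((b : M4 F) * (a : M4 F)) := by
    have := congrArg (fun u : GL (Fin 4) F => (u : M4 F)) hab
    simpa [coe_neg] using this
  have hbinv : (b : M4 F) * ((b⁻¹ : GL (Fin 4) F) : M4 F) = 1 := by
    rw [← Units.val_mul, mul_inv_cancel]; rfl
  have hinvb : ((b⁻¹ : GL (Fin 4) F) : M4 F) * (b : M4 F) = 1 := by
    rw [← Units.val_mul, inv_mul_cancel]; rfl
  have h3 : Matrix.trace (a : M4 F) = - Matrix.trace (a : M4 F) := by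
    calc Matrix.trace (a : M4 F)
        = Matrix.trace ((a : M4 F) * ((b : M4 F) * ((b⁻¹ : GL (Fin 4) F) : M4 F))) := by
          rw [hbinv, mul_one]
      _ = Matrix.trace (((a : M4 F) * (b : M4 F)) * ((b⁻¹ : GL (Fin 4) F) : M4 F)) := by
          rw [mul_assoc]
      _ = Matrix.trace ((-((b : M4 F) * (a : M4 F))) * ((b⁻¹ : GL (Fin 4) F) : M4 F)) := by
          rw [h1]
      _ = - Matrix.trace (((b : M4 F) * (a : M4 F)) * ((b⁻¹ : GL (Fin 4) F) : M4 F)) := by
          rw [neg_mul, Matrix.trace_neg]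
      _ = - Matrix.trace (((b⁻¹ : GL (Fin 4) F) : M4 F) * ((b : M4 F) * (a : M4 F))) := by
          rw [Matrix.trace_mul_comm]
      _ = - Matrix.trace (a : M4 F) := by rw [← mul_assoc, hinvb, one_mul]
  have h4 : (2 : F) * Matrix.trace (a : M4 F) = 0 := by linear_combination h3
  rcases mul_eq_zero.mp h4 with h5 | h5
  · exact absurd h5 h.two_ne
  · exact h5

end Cfsg.Agent.S6000P
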