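import Mathlib
import Cfsg.Prelude.Def_GeometricClasses
import Cfsg.Prelude.Def_Classical
import Cfsg.Prelude.Def_LieClassical
import Cfsg.Agent.Helper20.S6000Defs
import Cfsg.Agent.Helper28.S6001Defs

set_option autoImplicit false
open scoped MatrixGroups Matrix

/-! # S6001 piece DIAG3 (helper14): an element of order dividing `3` of `GL_4(F)` is diagonalizable
when `F` contains a primitive cube root of unity and `3 ≠ 0` -/

namespace Cfsg.Agent.S6001P

open Cfsg.Agent.S6000P

namespace DIAG3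

/-- a basis of eigenvectors for an endomorphism with `f³ = 1` -/
theorem exists_eigenbasis {F : Type*} [Field F] (ω : F) (hω : ω * ω + ω + 1 = 0)
    (h3 : (3 : F) ≠ 0) (f : (Fin 4 → F) →ₗ[F] (Fin 4 → F)) (hf3 : ∀ v, f (f (f v)) = v) :
    ∃ (b : Module.Basis (Fin 4) F (Fin 4 → F)) (d : Fin 4 → F),
      (∀ i, d i = 1 ∨ d i = ω ∨ d i = ω * ω) ∧ ∀ i, f (b i) = d i • b i := by
  classical
  obtain ⟨S, hS⟩ : ∃ S : Set (Fin 4 → F),
      S = {v | f v = v ∨ f v = ω • v ∨ f v = (ω * ω) • v} := ⟨_, rfl⟩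
  have hω3 : ω * ω * ω = 1 := by linear_combination (ω - 1) * hω
  have hspanS : Submodule.span F S = ⊤ := by
    rw [eq_top_iff]
    intro v _
    have h1 : (3 : F)⁻¹ • (v + f v + f (f v)) ∈ S := by
      rw [hS]
      left
      rw [map_smul, map_add, map_add, hf3]
      congr 1
      abel
    have h2 : (3 : F)⁻¹ • (v + (ω * ω) • f v + ω • f (f v)) ∈ S := by
      rw [hS]
      right; left
      rw [map_smul, map_add, map_add, map_smul, map_smul, hf3]
      funext i
      simp only [Pi.smul_apply, Pi.add_apply, smul_eq_mul]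
      linear_combination (-(3 : F)⁻¹ * f v i) * hω3
    have h4 : (3 : F)⁻¹ • (v + ω • f v + (ω * ω) • f (f v)) ∈ S := by
      rw [hS]
      right; right
      rw [map_smul, map_add, map_add, map_smul, map_smul, hf3]
      funext i
      simp only [Pi.smul_apply, Pi.add_apply, smul_eq_mul]
      linear_combination (-(3 : F)⁻¹ * f v i - (3 : F)⁻¹ * ω * f (f v) i) * hω3
    have hsum : v = (3 : F)⁻¹ • (v + f v + f (f v)) + (3 : F)⁻¹ • (v + (ω * ω) • f v + ω • f (f v))
        + (3 : F)⁻¹ • (v + ω • f v + (ω * ω) • f (f v)) := by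
      funext i
      simp only [Pi.smul_apply, Pi.add_apply, smul_eq_mul]
      field_simp
      linear_combination (-(f v i) - f (f v) i) * hω
    rw [hsum]
    exact Submodule.add_mem _ (Submodule.add_mem _ (Submodule.subset_span h1)
      (Submodule.subset_span h2)) (Submodule.subset_span h4)
  obtain ⟨bs, hbS, hbspan, hbli⟩ := exists_linearIndependent F S
  have hsp : ⊤ ≤ Submodule.span F (Set.range ((↑) : bs → (Fin 4 → F))) := by
    rw [Subtype.range_coe, hbspan, hspanS]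
  obtain ⟨B0, hB0⟩ : ∃ B0 : Module.Basis bs F (Fin 4 → F), ∀ i, B0 i = (i : Fin 4 → F) :=
    ⟨Module.Basis.mk hbli hsp, fun i => Module.Basis.mk_apply hbli hsp i⟩
  have hfin : Fintype bs := FiniteDimensional.fintypeBasisIndex B0
  have hcard : Fintype.card bs = 4 := by
    rw [← Module.finrank_eq_card_basis B0, Module.finrank_fin_fun]
  obtain ⟨e⟩ : Nonempty (bs ≃ Fin 4) := ⟨Fintype.equivFinOfCardEq hcard⟩
  have hB : ∀ i, (B0.reindex e) i = ((e.symm i : bs) : Fin 4 → F) := by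
    intro i
    rw [Module.Basis.reindex_apply, hB0]
  have hmem : ∀ i : Fin 4, ∃ c : F, (c = 1 ∨ c = ω ∨ c = ω * ω) ∧
      f ((B0.reindex e) i) = c • (B0.reindex e) i := by
    intro i
    have h := hbS (e.symm i).2
    rw [hS] at h
    rw [hB]
    rcases h with h | h | h
    · exact ⟨1, Or.inl rfl, by rw [one_smul]; exact h⟩
    · exact ⟨ω, Or.inr (Or.inl rfl), h⟩
    · exact ⟨ω * ω, Or.inr (Or.inr rfl), h⟩
  choose d hd1 hd2 using hmem
  exact ⟨B0.reindex e, d, hd1, hd2⟩

end DIAG3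

/-- DIAG3 -/
theorem exists_diag_of_cube {F : Type*} [Field F] (ω : F) (hω : ω * ω + ω + 1 = 0)
    (h3 : (3 : F) ≠ 0) (x : GL (Fin 4) F) (hx : x ^ 3 = 1) :
    ∃ (g : GL (Fin 4) F) (d : Fin 4 → F), (∀ i, d i = 1 ∨ d i = ω ∨ d i = ω * ω) ∧
      (x : M4 F) * (g : M4 F) = (g : M4 F) * Matrix.diagonal d := by
  classical
  have hX3 : (x : M4 F) * ((x : M4 F) * (x : M4 F)) = 1 := by
    have h := congrArg (fun u : GL (Fin 4) F => (u : M4 F)) hx
    simp only [pow_succ, pow_zero, one_mul, Units.val_mul, Units.val_one] at h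
    rw [mul_assoc] at h
    exact h
  have hf3 : ∀ v, Matrix.mulVecLin (x : M4 F) (Matrix.mulVecLin (x : M4 F)
      (Matrix.mulVecLin (x : M4 F) v)) = v := by
    intro v
    simp only [Matrix.mulVecLin_apply, Matrix.mulVec_mulVec]
    rw [hX3, Matrix.one_mulVec]
  obtain ⟨B, d, hd1, hd2⟩ := DIAG3.exists_eigenbasis ω hω h3 (Matrix.mulVecLin (x : M4 F)) hf3
  have h1 : (Pi.basisFun F (Fin 4)).toMatrix B * B.toMatrix (Pi.basisFun F (Fin 4)) = 1 :=
    Module.Basis.toMatrix_mul_toMatrix_flip _ _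
  have h2 : B.toMatrix (Pi.basisFun F (Fin 4)) * (Pi.basisFun F (Fin 4)).toMatrix B = 1 :=
    Module.Basis.toMatrix_mul_toMatrix_flip _ _
  refine ⟨⟨(Pi.basisFun F (Fin 4)).toMatrix B, B.toMatrix (Pi.basisFun F (Fin 4)), h1, h2⟩,
    d, hd1, ?_⟩
  show (x : M4 F) * (Pi.basisFun F (Fin 4)).toMatrix B
    = (Pi.basisFun F (Fin 4)).toMatrix B * Matrix.diagonal d
  ext i j
  rw [Matrix.mul_diagonal, Module.Basis.toMatrix_apply, Pi.basisFun_repr, Matrix.mul_apply]
  have h := congrFun (hd2 j) i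
  rw [Matrix.mulVecLin_apply, Pi.smul_apply, smul_eq_mul] at h
  rw [mul_comm ((B j) i), ← h]
  simp only [Matrix.mulVec, dotProduct, Module.Basis.toMatrix_apply, Pi.basisFun_repr]

end Cfsg.Agent.S6001P
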