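import Mathlib

/-!
# The element orders of the symmetric group of degree eight
-/

set_option autoImplicit false

namespace Cfsg.Agent.Helper14.S8Spec

/-- the least common multiples of multisets of numbers at least two with sum at most `s` -/
def T : ℕ → Finset ℕ
  | 0 => {1}
  | 1 => {1}
  | 2 => {1, 2}
  | 3 => {1, 2, 3}
  | 4 => {1, 2, 3, 4}
  | 5 => {1, 2, 3, 4, 5, 6}
  | 6 => {1, 2, 3, 4, 5, 6}
  | 7 => {1, 2, 3, 4, 5, 6, 7, 10, 12}
  | _ => {1, 2, 3, 4, 5, 6, 7, 8, 10, 12, 15}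

theorem T_step : ∀ s < 9, ∀ a < 9, 2 ≤ a → a ≤ s → ∀ x ∈ T (s - a), Nat.lcm a x ∈ T s := by
  decide

theorem one_mem_T : ∀ s < 9, 1 ∈ T s := by decide

theorem lcm_mem_T (m : Multiset ℕ) : ∀ s < 9, (∀ a ∈ m, 2 ≤ a) → m.sum ≤ s → m.lcm ∈ T s := by
  induction m using Multiset.induction with
  | empty =>
    intro s hs _ _
    rw [Multiset.lcm_zero]
    exact one_mem_T s hs
  | cons a m ih =>
    intro s hs h2 hsum
    rw [Multiset.sum_cons] at hsum
    have ha : 2 ≤ a := h2 a (Multiset.mem_cons_self a m)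
    have hm := ih (s - a) (by omega) (fun b hb => h2 b (Multiset.mem_cons_of_mem hb)) (by omega)
    rw [Multiset.lcm_cons]
    exact T_step s hs a (by omega) ha (by omega) _ hm

/-- the element orders of the symmetric group of degree eight -/
theorem orderOf_mem (σ : Equiv.Perm (Fin 8)) :
    orderOf σ ∈ ({1, 2, 3, 4, 5, 6, 7, 8, 10, 12, 15} : Finset ℕ) := by
  rw [← Equiv.Perm.lcm_cycleType]
  have h := lcm_mem_T σ.cycleType 8 (by norm_num)
    (fun a ha => Equiv.Perm.two_le_of_mem_cycleType ha)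
    (by
      rw [Equiv.Perm.sum_cycleType]
      calc σ.support.card ≤ (Finset.univ : Finset (Fin 8)).card := Finset.card_le_card (Finset.subset_univ _)
        _ = 8 := by simp)
  exact h

/-- divisors of element orders are element orders -/
theorem exists_orderOf_of_dvd {M : Type*} [Monoid M] {n d : ℕ} (h : ∃ g : M, orderOf g = n)
    (hn : n ≠ 0) (hd : d ∣ n) : ∃ g : M, orderOf g = d := by
  obtain ⟨g, ho⟩ := h
  have hd0 : d ≠ 0 := by
    rintro rfl
    exact hn (Nat.eq_zero_of_zero_dvd hd)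
  have hq : n / d ≠ 0 := by
    obtain ⟨k, rfl⟩ := hd
    rw [Nat.mul_div_cancel_left k (Nat.pos_of_ne_zero hd0)]
    rintro rfl
    exact hn (Nat.mul_zero d)
  refine ⟨g ^ (n / d), ?_⟩
  rw [orderOf_pow_of_dvd hq (by rw [ho]; exact Nat.div_dvd_of_dvd hd), ho]
  exact Nat.div_div_self hd hn

theorem exists_of_cycleType (m : Multiset ℕ) (n : ℕ) (hs : m.sum ≤ 8) (h2 : ∀ a ∈ m, 2 ≤ a)
    (hn : m.lcm = n) : ∃ g : Equiv.Perm (Fin 8), orderOf g = n := by
  obtain ⟨g, hg⟩ := (Equiv.Perm.exists_with_cycleType_iff (α := Fin 8) (m := m)).mpr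
    ⟨by simpa using hs, h2⟩
  exact ⟨g, by rw [← Equiv.Perm.lcm_cycleType, hg, hn]⟩

theorem cases_of_mem : ∀ m ∈ ({1, 2, 3, 4, 5, 6, 7, 8, 10, 12, 15} : Finset ℕ),
    m ∣ 15 ∨ m ∣ 10 ∨ m ∣ 12 ∨ m ∣ 8 ∨ m ∣ 7 := by decide

/-- the set of the element orders of the symmetric group of degree eight -/
theorem range_orderOf : Set.range (orderOf : Equiv.Perm (Fin 8) → ℕ) =
    {m | m ∈ ({1, 2, 3, 4, 5, 6, 7, 8, 10, 12, 15} : Finset ℕ)} := by
  ext m
  constructor
  · rintro ⟨g, rfl⟩
    exact orderOf_mem g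
  · intro hm
    have h15 : ∃ g : Equiv.Perm (Fin 8), orderOf g = 15 :=
      exists_of_cycleType {5, 3} 15 (by decide) (by decide) (by decide)
    have h10 : ∃ g : Equiv.Perm (Fin 8), orderOf g = 10 :=
      exists_of_cycleType {5, 2} 10 (by decide) (by decide) (by decide)
    have h12 : ∃ g : Equiv.Perm (Fin 8), orderOf g = 12 :=
      exists_of_cycleType {4, 3} 12 (by decide) (by decide) (by decide)
    have h8 : ∃ g : Equiv.Perm (Fin 8), orderOf g = 8 :=
      exists_of_cycleType {8} 8 (by decide) (by decide) (by decide)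
    have h7 : ∃ g : Equiv.Perm (Fin 8), orderOf g = 7 :=
      exists_of_cycleType {7} 7 (by decide) (by decide) (by decide)
    rcases cases_of_mem m hm with h | h | h | h | h
    · exact exists_orderOf_of_dvd h15 (by norm_num) h
    · exact exists_orderOf_of_dvd h10 (by norm_num) h
    · exact exists_orderOf_of_dvd h12 (by norm_num) h
    · exact exists_orderOf_of_dvd h8 (by norm_num) h
    · exact exists_orderOf_of_dvd h7 (by norm_num) h

end Cfsg.Agent.Helper14.S8Spec
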