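import Cfsg.Agent.Helper14.Frattini

set_option autoImplicit false
set_option linter.unusedSectionVars false

namespace Cfsg.Agent.Helper14

open Matrix
open scoped commutatorElement

section

variable (F : Type*) [Field F] [Fintype F]

theorem sl34_card_units_eq (hF : Fintype.card F = 4) : Nat.card Fˣ = 3 := by
  rw [Nat.card_units, Nat.card_eq_fintype_card, hF]

theorem sl34_unit_pow_three (hF : Fintype.card F = 4) (u : Fˣ) : u ^ 3 = 1 := by
  have := pow_card_eq_one' (G := Fˣ) (x := u)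
  rwa [sl34_card_units_eq F hF] at this

theorem sl34_card_center (hF : Fintype.card F = 4) :
    Nat.card ↥(Subgroup.center (Matrix.SpecialLinearGroup (Fin 3) F)) = 3 := by
  classical
  have e := Matrix.SpecialLinearGroup.center_equiv_rootsOfUnity' (n := Fin 3) (R := F) 0
  rw [Nat.card_congr e.toEquiv]
  have htop : rootsOfUnity (Fintype.card (Fin 3)) F = ⊤ := by
    rw [eq_top_iff]
    intro u _
    rw [mem_rootsOfUnity]
    simpa using sl34_unit_pow_three F hF u
  rw [htop, Subgroup.card_top, sl34_card_units_eq F hF]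

variable {F}

/-- the diagonal matrix `diag(1, ω, ω²)` -/
def sl34D (w : F) : Matrix (Fin 3) (Fin 3) F := !![1, 0, 0; 0, w, 0; 0, 0, w ^ 2]

/-- the cyclic permutation matrix -/
def sl34P : Matrix (Fin 3) (Fin 3) F := !![0, 1, 0; 0, 0, 1; 1, 0, 0]

/-- the scalar matrix `ω I` -/
def sl34Z (w : F) : Matrix (Fin 3) (Fin 3) F := !![w, 0, 0; 0, w, 0; 0, 0, w]

theorem sl34D_det (w : F) (hw : w ^ 3 = 1) : (sl34D w).det = 1 := by
  rw [sl34D, Matrix.det_fin_three]
  simp
  rw [← hw]; ring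

theorem sl34P_det : (sl34P : Matrix (Fin 3) (Fin 3) F).det = 1 := by
  rw [sl34P, Matrix.det_fin_three]
  simp

theorem sl34Z_det (w : F) (hw : w ^ 3 = 1) : (sl34Z w).det = 1 := by
  rw [sl34Z, Matrix.det_fin_three]
  simp
  rw [← hw]; ring

theorem sl34_rel (w : F) (hw : w ^ 3 = 1) :
    (sl34P : Matrix (Fin 3) (Fin 3) F) * sl34D w = sl34Z w * sl34D w * sl34P := by
  ext i j
  fin_cases i <;> fin_cases j <;>
    simp [sl34P, sl34D, sl34Z, Matrix.mul_apply, Fin.sum_univ_three] <;>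
    first
      | (rw [← hw]; ring)
      | ring

/-- `ω I` as an element of `SL(3,F)` -/
def sl34Zs (w : F) (hw : w ^ 3 = 1) : Matrix.SpecialLinearGroup (Fin 3) F :=
  ⟨sl34Z w, sl34Z_det w hw⟩

def sl34Ds (w : F) (hw : w ^ 3 = 1) : Matrix.SpecialLinearGroup (Fin 3) F :=
  ⟨sl34D w, sl34D_det w hw⟩

def sl34Ps : Matrix.SpecialLinearGroup (Fin 3) F :=
  ⟨sl34P, sl34P_det⟩

theorem sl34Z_center (w : F) (hw : w ^ 3 = 1) :
    sl34Zs w hw ∈ Subgroup.center (Matrix.SpecialLinearGroup (Fin 3) F) := by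
  rw [Subgroup.mem_center_iff]
  intro g
  apply Subtype.ext
  show (g : Matrix (Fin 3) (Fin 3) F) * sl34Z w = sl34Z w * (g : Matrix (Fin 3) (Fin 3) F)
  have : sl34Z w = w • (1 : Matrix (Fin 3) (Fin 3) F) := by
    ext i j
    fin_cases i <;> fin_cases j <;> simp [sl34Z]
  rw [this]
  simp

end

/-- S2738 -/
theorem sl34_nonsplit (F : Type*) [Field F] [Fintype F] (hF : Fintype.card F = 4) :
    Nat.card ↥(Subgroup.center (Matrix.SpecialLinearGroup (Fin 3) F)) = 3 ∧
    ¬ ∃ K : Subgroup (Matrix.SpecialLinearGroup (Fin 3) F),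
      Subgroup.IsComplement' (Subgroup.center (Matrix.SpecialLinearGroup (Fin 3) F)) K := by
  refine ⟨sl34_card_center F hF, ?_⟩
  rintro ⟨K, hK⟩
  -- a unit ω ≠ 1
  have hcard := sl34_card_units_eq F hF
  have hnt : Nontrivial Fˣ := by
    rw [← Finite.one_lt_card_iff_nontrivial, hcard]; norm_num
  obtain ⟨u, hu⟩ := exists_ne (1 : Fˣ)
  have hu3 : (u : F) ^ 3 = 1 := by
    have := sl34_unit_pow_three F hF u
    have h2 := congrArg Units.val this
    simpa using h2
  set w : F := (u : F) with hw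
  have hw1 : w ≠ 1 := by
    intro h
    apply hu
    exact Units.ext h
  let G := Matrix.SpecialLinearGroup (Fin 3) F
  let D : G := sl34Ds w hu3
  let P : G := sl34Ps
  let Z : G := sl34Zs w hu3
  have hrel : P * D = Z * D * P := by
    apply Subtype.ext
    exact sl34_rel w hu3
  have hZc : Z ∈ Subgroup.center G := sl34Z_center w hu3
  have hcomm : ⁅P, D⁆ = Z := by
    rw [commutatorElement_def, hrel]; group
  -- every commutator lies in K
  have hdecomp : ∀ g : G, ∃ z ∈ Subgroup.center G, ∃ k ∈ K, g = z * k := by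
    intro g
    have hg : g ∈ ((Subgroup.center G ⊔ K : Subgroup G) : Set G) := by
      rw [hK.sup_eq_top]; trivial
    rw [Subgroup.normal_mul] at hg
    obtain ⟨z, hz, k, hk, rfl⟩ := hg
    exact ⟨z, hz, k, hk, rfl⟩
  have hK' : ∀ g h : G, ⁅g, h⁆ ∈ K := by
    intro g h
    obtain ⟨z₁, hz₁, k₁, hk₁, rfl⟩ := hdecomp g
    obtain ⟨z₂, hz₂, k₂, hk₂, rfl⟩ := hdecomp h
    have c : ∀ z ∈ Subgroup.center G, ∀ x : G, Commute z x := by
      intro z hz x
      exact (Subgroup.mem_center_iff.1 hz x).symm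
    rw [commutator_mul_central z₁ z₂ k₁ k₂ (c z₁ hz₁ k₁) (c z₁ hz₁ k₂) (c z₂ hz₂ k₁)
      (c z₂ hz₂ k₂) (c z₁ hz₁ z₂)]
    exact Subgroup.commutator_mem_commutator hk₁ hk₂ |> fun h => by
      have : ⁅k₁, k₂⁆ ∈ K := by
        rw [commutatorElement_def]
        exact K.mul_mem (K.mul_mem (K.mul_mem hk₁ hk₂) (K.inv_mem hk₁)) (K.inv_mem hk₂)
      exact this
  have hZK : Z ∈ K := hcomm ▸ hK' P D
  have hbot : Z ∈ Subgroup.center G ⊓ K := ⟨hZc, hZK⟩
  rw [hK.disjoint.eq_bot, Subgroup.mem_bot] at hbot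
  have h00 := congrArg (fun M : G => (M : Matrix (Fin 3) (Fin 3) F) 0 0) hbot
  simp [Z, sl34Zs, sl34Z] at h00
  exact hw1 h00

end Cfsg.Agent.Helper14
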