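import Mathlib
import Cfsg.Agent.Helper4.SU3Defs
set_option autoImplicit false
set_option linter.unusedSimpArgs false

/-! S2283 piece Q5: explicit data for `q = 5`. -/

namespace Cfsg.Agent.Helper14.SU3G
open Matrix Cfsg.Agent.S2644 Cfsg.Agent.Helper2.SUGen Cfsg.Agent.Helper4.SU3G
variable {K : Type*} [Field K] {q : ℕ}

theorem smul_e1q (B : Frame K q) (c : K) : c • B.e1 = B.vec c 0 0 := by simp [Frame.vec]

theorem five_eq_zero [Fintype K] (hK : Fintype.card K = 25) : (5 : K) = 0 := by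
  have h1 : ((Fintype.card K : ℕ) : K) = 0 := Nat.cast_card_eq_zero K
  rw [hK] at h1
  have h2 : (5 : K) ^ 2 = 0 := by
    have : ((25 : ℕ) : K) = (5 : K) ^ 2 := by norm_num
    rw [← this]; exact h1
  exact pow_eq_zero_iff (two_ne_zero) |>.mp h2

theorem exists_theta [Fintype K] (hK : Fintype.card K = 25) : ∃ θ : K, θ ^ 2 = 2 := by
  have h5 := five_eq_zero hK
  have h2 : (2 : K) ≠ 0 := by
    intro h
    have : (1 : K) = 0 := by linear_combination h5 - 2 * h
    exact one_ne_zero this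
  have hchar : ringChar K ≠ 2 := by
    intro hc
    have h1 := CharP.cast_eq_zero K (ringChar K)
    rw [hc] at h1
    apply h2
    exact_mod_cast h1
  have hsq : IsSquare (2 : K) := by
    rw [FiniteField.isSquare_iff hchar h2, hK]
    have : (2 : K) ^ (25 / 2) = 819 * 5 + 1 := by norm_num
    rw [this, h5]; ring
  obtain ⟨r, hr⟩ := hsq
  exact ⟨r, by rw [hr]; ring⟩

theorem pow_eq_25 {r k : ℕ} (h : r ^ k = 25) (hk : 2 ≤ k) : r = 5 := by
  have hr2 : 2 ≤ r := by
    by_contra hcon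
    have : r = 0 ∨ r = 1 := by omega
    rcases this with rfl | rfl
    · rw [zero_pow (by omega)] at h; omega
    · rw [one_pow] at h; omega
  have hk5 : k < 5 := by
    by_contra hcon
    have h1 : 2 ^ 5 ≤ r ^ k :=
      (Nat.pow_le_pow_left hr2 5).trans (Nat.pow_le_pow_right (by omega) (by omega))
    omega
  have hr5 : r ≤ 5 := by
    by_contra hcon
    have h1 : 6 ^ 2 ≤ r ^ k :=
      (Nat.pow_le_pow_left (by omega) 2).trans (Nat.pow_le_pow_right (by omega) hk)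
    omega
  interval_cases r <;> interval_cases k <;> simp_all

theorem q5_data_of [Fintype K] (D : Frob K 5) (hK : Fintype.card K = 25) (B : Frame K 5)
    (hNTA : ∀ x : K, (∀ r k : ℕ, r ^ k = Fintype.card K → 2 ≤ k → x ^ r ≠ x) →
      Subring.closure {x} = ⊤) :
    ∃ δ α β μ lam ν : K, δ + D.σ δ + 1 = 0 ∧ β + D.σ β + α * D.σ α = 0 ∧ α ≠ 0 ∧ μ ≠ 0 ∧
      α * μ = -(D.σ μ) ^ 2 ∧
      (B.Y 1 δ * B.Y 1 δ * B.X α β * B.Y 1 δ) *ᵥ B.e1 = lam • B.e1 ∧
      Cfsg.hermForm 3 K 5 ((B.Y 1 δ * B.Y 1 δ * B.X α β * B.Y 1 δ) *ᵥ B.e2) B.e2 = ν ∧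
      Subring.closure {D.σ lam * ν} = ⊤ := by
  have h5 := five_eq_zero hK
  obtain ⟨θ, hθ⟩ := exists_theta hK
  have hσθ : D.σ θ = -θ := by
    rw [D.pow]
    linear_combination (θ ^ 3 + 2 * θ) * hθ + θ * h5
  have h2 : (2 : K) ≠ 0 := by
    intro h
    have : (1 : K) = 0 := by linear_combination h5 - 2 * h
    exact one_ne_zero this
  have h3 : (3 : K) ≠ 0 := by
    intro h
    have : (1 : K) = 0 := by linear_combination 2 * h - h5
    exact one_ne_zero this
  have hθ0 : θ ≠ 0 := by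
    rintro rfl
    apply h2
    rw [← hθ]; ring
  have hs2 : D.σ (2 : K) = 2 := map_ofNat D.σ 2
  have hs3 : D.σ (3 : K) = 3 := map_ofNat D.σ 3
  have hs4 : D.σ (4 : K) = 4 := map_ofNat D.σ 4
  have hs1 : D.σ (1 : K) = 1 := map_one D.σ
  refine ⟨2 + 2 * θ, 3 * θ, 4 + 3 * θ, 2 * θ, 1 + 2 * θ, 3 + 2 * θ, ?_, ?_, ?_, ?_, ?_, ?_, ?_, ?_⟩
  · simp only [map_add, map_mul, hs2, hσθ]
    linear_combination (1 : K) * h5
  · simp only [map_add, map_mul, hs3, hs4, hσθ]
    linear_combination (-9 : K) * hθ + (-2 : K) * h5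
  · exact mul_ne_zero h3 hθ0
  · exact mul_ne_zero h2 hθ0
  · simp only [map_mul, hs2, hσθ]
    linear_combination (10 : K) * hθ + (4 : K) * h5
  · rw [smul_e1q, ← B.vec_e1, ← mulVec_mulVec, ← mulVec_mulVec, ← mulVec_mulVec, B.Y_vec D,
      B.X_vec D, B.Y_vec D, B.Y_vec D]
    simp only [map_add, map_mul, hs1, hs2, hs3, hs4, hσθ]
    congr 1
    · linear_combination (6 : K) * hθ + (4 + 3 * θ) * h5
    · linear_combination (18 : K) * hθ + (11 + 8 * θ) * h5
    · linear_combination (74 + 24 * θ) * hθ + (35 + 25 * θ) * h5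
  · rw [← B.vec_e2, ← mulVec_mulVec, ← mulVec_mulVec, ← mulVec_mulVec, B.Y_vec D,
      B.X_vec D, B.Y_vec D, B.Y_vec D, B.vec_e2, B.h_vec_e2 D]
    simp only [map_add, map_mul, hs1, hs2, hs3, hs4, hσθ]
    linear_combination (-2 - θ) * h5
  · have hχ : D.σ (1 + 2 * θ) * (3 + 2 * θ) = θ := by
      simp only [map_add, map_mul, hs1, hs2, hσθ]
      linear_combination (-4 : K) * hθ + (-1 - θ) * h5
    rw [hχ]
    apply hNTA
    intro r k hrk hk
    rw [hK] at hrk
    have hr := pow_eq_25 hrk hk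
    subst hr
    intro hcon
    have h1 : θ ^ 5 = -θ := by rw [← D.pow]; exact hσθ
    have h2θ : 2 * θ = 0 := by linear_combination h1 - hcon
    exact mul_ne_zero h2 hθ0 h2θ

end Cfsg.Agent.Helper14.SU3G
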