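import Mathlib
import Cfsg.Agent.Helper4.SU3Defs
import Cfsg.Agent.Helper14.SU3Q5
import Cfsg.Agent.Helper23.SU3NTA
set_option autoImplicit false

/-! S2283 piece Q5 (final form): explicit data for `q = 5`. -/

namespace Cfsg.Agent.Helper14.SU3G
open Matrix Cfsg.Agent.S2644 Cfsg.Agent.Helper2.SUGen Cfsg.Agent.Helper4.SU3G
variable {K : Type*} [Field K]

theorem q5_data [Fintype K] (D : Frob K 5) (hK : Fintype.card K = 25) (B : Frame K 5) :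
    ∃ δ α β μ lam ν : K, δ + D.σ δ + 1 = 0 ∧ β + D.σ β + α * D.σ α = 0 ∧ α ≠ 0 ∧ μ ≠ 0 ∧
      α * μ = -(D.σ μ) ^ 2 ∧
      (B.Y 1 δ * B.Y 1 δ * B.X α β * B.Y 1 δ) *ᵥ B.e1 = lam • B.e1 ∧
      Cfsg.hermForm 3 K 5 ((B.Y 1 δ * B.Y 1 δ * B.X α β * B.Y 1 δ) *ᵥ B.e2) B.e2 = ν ∧
      Subring.closure {D.σ lam * ν} = ⊤ :=
  q5_data_of D hK B (fun x hx => Cfsg.Agent.Helper23.SU3G.closure_singleton_eq_top x hx)

end Cfsg.Agent.Helper14.SU3G
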