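import Mathlib
import Cfsg.Agent.Helper4.SU3Defs
set_option autoImplicit false

/-! S2283 piece WEYL: a monomial element of `SU_3` swapping the isotropic frame vectors, as a product
`X Y X` of root elements. -/

namespace Cfsg.Agent.Helper14.SU3G
open Matrix Cfsg.Agent.S2644 Cfsg.Agent.Helper2.SUGen Cfsg.Agent.Helper4.SU3G
variable {K : Type*} [Field K] {q : ℕ}
local notation "h" => Cfsg.hermForm 3 K q

theorem triple_inv {M : Type*} [Monoid M] (A B C A' B' C' : M) (hA : A * A' = 1)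
    (hB : B * B' = 1) (hC : C * C' = 1) : (A * B * C) * (C' * B' * A') = 1 := by
  calc (A * B * C) * (C' * B' * A') = A * (B * (C * C') * B') * A' := by simp only [mul_assoc]
    _ = 1 := by rw [hC, mul_one, hB, mul_one, hA]

theorem X_mul_inv (D : Frob K q) (B : Frame K q) {α β : K}
    (hc : β + D.σ β + α * D.σ α = 0) : B.X α β * B.X (-α) (D.σ β) = 1 := by
  rw [B.X_mul D, ← B.X_zero D]
  congr 1
  · ring
  · linear_combination hc

theorem X_inv_mul (D : Frob K q) (B : Frame K q) {α β : K}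
    (hc : β + D.σ β + α * D.σ α = 0) : B.X (-α) (D.σ β) * B.X α β = 1 := by
  rw [B.X_mul D, ← B.X_zero D]
  congr 1
  · ring
  · rw [map_neg]; linear_combination hc

theorem Y_mul_inv (D : Frob K q) (B : Frame K q) {γ δ : K}
    (hc : δ + D.σ δ + γ * D.σ γ = 0) : B.Y γ δ * B.Y (-γ) (D.σ δ) = 1 := by
  rw [B.Y_mul D, ← B.Y_zero D]
  congr 1
  · ring
  · linear_combination hc

theorem Y_inv_mul (D : Frob K q) (B : Frame K q) {γ δ : K}
    (hc : δ + D.σ δ + γ * D.σ γ = 0) : B.Y (-γ) (D.σ δ) * B.Y γ δ = 1 := by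
  rw [B.Y_mul D, ← B.Y_zero D]
  congr 1
  · ring
  · rw [map_neg]; linear_combination hc

theorem smul_e1 (B : Frame K q) (c : K) : c • B.e1 = B.vec c 0 0 := by simp [Frame.vec]
theorem smul_e2 (B : Frame K q) (c : K) : c • B.e2 = B.vec 0 c 0 := by simp [Frame.vec]
theorem smul_e3 (B : Frame K q) (c : K) : c • B.e3 = B.vec 0 0 c := by simp [Frame.vec]

theorem exists_a [Finite K] (D : Frob K q) (μ : K) : ∃ a : K, a * D.σ a = -(μ + D.σ μ) := by
  by_cases h0 : μ + D.σ μ = 0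
  · exact ⟨0, by rw [h0]; simp⟩
  · apply exists_norm D _ (neg_ne_zero.mpr h0)
    rw [map_neg, map_add, D.invol]; ring

theorem exists_weyl [Finite K] (D : Frob K q) (B : Frame K q) {μ : K} (hμ : μ ≠ 0) :
    ∃ g ginv : Matrix (Fin 3) (Fin 3) K, g.det = 1 ∧ Pres (q := q) g ∧ g * ginv = 1 ∧
      ginv * g = 1 ∧ g *ᵥ B.e3 = μ • B.e1 ∧ g *ᵥ B.e2 = (-(D.σ μ / μ)) • B.e2 ∧
      g *ᵥ B.e1 = (D.σ μ)⁻¹ • B.e3 := by
  obtain ⟨a, ha⟩ := exists_a D μ
  have hσμ : D.σ μ ≠ 0 := σ_ne_zero D hμ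
  have c1 : μ + D.σ μ + a * D.σ a = 0 := by linear_combination ha
  have c2 : (D.σ μ)⁻¹ + D.σ ((D.σ μ)⁻¹) + (-a / D.σ μ) * D.σ (-a / D.σ μ) = 0 := by
    rw [map_inv₀, map_div₀, map_neg, D.invol]
    field_simp
    linear_combination ha
  have c3 : μ + D.σ μ + (a * μ / D.σ μ) * D.σ (a * μ / D.σ μ) = 0 := by
    rw [map_div₀, map_mul, D.invol]
    field_simp
    linear_combination ha
  refine ⟨B.X a μ * B.Y (-a / D.σ μ) (D.σ μ)⁻¹ * B.X (a * μ / D.σ μ) μ,
    B.X (-(a * μ / D.σ μ)) (D.σ μ) * B.Y (-(-a / D.σ μ)) (D.σ (D.σ μ)⁻¹) * B.X (-a) (D.σ μ),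
    ?_, ?_, ?_, ?_, ?_, ?_, ?_⟩
  · rw [det_mul, det_mul, B.X_det D, B.Y_det D, B.X_det D]; simp
  · exact ((B.X_pres D c1).mul (B.Y_pres D c2)).mul (B.X_pres D c3)
  · exact triple_inv _ _ _ _ _ _ (X_mul_inv D B c1) (Y_mul_inv D B c2) (X_mul_inv D B c3)
  · exact triple_inv _ _ _ _ _ _ (X_inv_mul D B c3) (Y_inv_mul D B c2) (X_inv_mul D B c1)
  · rw [smul_e1, ← B.vec_e3, ← mulVec_mulVec, ← mulVec_mulVec, B.X_vec D, B.Y_vec D, B.X_vec D]
    rw [map_div₀, map_mul, map_div₀, map_neg, D.invol]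
    congr 1
    · field_simp
      linear_combination μ ^ 2 * ha
    · field_simp
      linear_combination (μ * a) * ha
    · field_simp
      linear_combination μ * ha
  · rw [smul_e2, ← B.vec_e2, ← mulVec_mulVec, ← mulVec_mulVec, B.X_vec D, B.Y_vec D, B.X_vec D]
    rw [map_div₀, map_mul, map_div₀, map_neg, D.invol]
    congr 1
    · field_simp
      linear_combination (-(D.σ μ * D.σ a)) * ha
    · field_simp
      linear_combination D.σ μ * ha
    · field_simp
      linear_combination (0 : K) * ha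
  · rw [smul_e3, ← B.vec_e1, ← mulVec_mulVec, ← mulVec_mulVec, B.X_vec D, B.Y_vec D, B.X_vec D]
    rw [map_div₀, map_mul, map_div₀, map_neg, D.invol]
    congr 1
    · field_simp
      linear_combination μ * ha
    · field_simp
      linear_combination (0 : K) * ha
    · field_simp
      linear_combination (0 : K) * ha

end Cfsg.Agent.Helper14.SU3G
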