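import Mathlib

/-!
# Split extensions of invariant groups of functions

A group `G` acts on a type `Y` through `ρ : G →* Equiv.Perm Y`, hence on the functions from `Y` to an abelian
group `A`.  For an invariant subgroup `W` of functions we form the split extension of `W` by `G` inside the big
semidirect product, and compute powers in it.
-/

set_option autoImplicit false

namespace Cfsg.Agent.Helper14.SemiFun

open Multiplicative

variable {G : Type*} [Group G] {Y : Type*} {A : Type*} [AddCommGroup A]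

/-- the functions, multiplicatively -/
abbrev NN (Y A : Type*) [AddCommGroup A] : Type _ := Multiplicative (Y → A)

theorem nn_ext {a b : NN Y A} (h : ∀ y, toAdd a y = toAdd b y) : a = b := by
  apply Multiplicative.toAdd.injective
  funext y
  exact h y

/-- the action of a group element on the functions -/
def act (ρ : G →* Equiv.Perm Y) (g : G) : MulAut (NN Y A) where
  toFun f := ofAdd fun y => (toAdd f) ((ρ g)⁻¹ y)
  invFun f := ofAdd fun y => (toAdd f) ((ρ g) y)
  left_inv f := by
    apply nn_ext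
    intro y
    show toAdd f ((ρ g)⁻¹ ((ρ g) y)) = toAdd f y
    exact congrArg _ (Equiv.symm_apply_apply (ρ g) y)
  right_inv f := by
    apply nn_ext
    intro y
    show toAdd f ((ρ g) ((ρ g)⁻¹ y)) = toAdd f y
    exact congrArg _ (Equiv.apply_symm_apply (ρ g) y)
  map_mul' _ _ := rfl

/-- the action as a homomorphism -/
def actHom (ρ : G →* Equiv.Perm Y) : G →* MulAut (NN Y A) where
  toFun := act ρ
  map_one' := by
    apply MulEquiv.ext
    intro f
    apply nn_ext
    intro y
    show toAdd f ((ρ 1)⁻¹ y) = toAdd f y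
    rw [map_one]
    rfl
  map_mul' g h := by
    apply MulEquiv.ext
    intro f
    apply nn_ext
    intro y
    show toAdd f ((ρ (g * h))⁻¹ y) = toAdd f ((ρ h)⁻¹ ((ρ g)⁻¹ y))
    rw [map_mul, mul_inv_rev]
    rfl

theorem actHom_apply (ρ : G →* Equiv.Perm Y) (g : G) (f : NN Y A) (y : Y) :
    toAdd (actHom ρ g f) y = toAdd f ((ρ g)⁻¹ y) := rfl

/-- the big semidirect product -/
abbrev KK (ρ : G →* Equiv.Perm Y) (A : Type*) [AddCommGroup A] : Type _ := NN Y A ⋊[actHom ρ] G

variable (ρ : G →* Equiv.Perm Y)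

theorem pow_right (a : KK ρ A) (k : ℕ) : (a ^ k).right = a.right ^ k := by
  show SemidirectProduct.rightHom (a ^ k) = _
  rw [map_pow]
  rfl

theorem pow_left (a : KK ρ A) (k : ℕ) (y : Y) :
    toAdd (a ^ k).left y = ∑ i ∈ Finset.range k, toAdd a.left ((ρ (a.right ^ i))⁻¹ y) := by
  induction k with
  | zero => rfl
  | succ k ih =>
    rw [pow_succ, SemidirectProduct.mul_left, Finset.sum_range_succ, ← ih, pow_right]
    rfl

/-! ### the split extension of an invariant subgroup of functions -/

variable (W : AddSubgroup (Y → A))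

/-- invariance of a subgroup of functions -/
def Inv : Prop := ∀ g : G, ∀ w ∈ W, (fun y => w ((ρ g)⁻¹ y)) ∈ W

variable {ρ W}

/-- the split extension -/
def ext (hW : Inv ρ W) : Subgroup (KK ρ A) where
  carrier := {a | toAdd a.left ∈ W}
  one_mem' := W.zero_mem
  mul_mem' := by
    intro a b ha hb
    exact W.add_mem ha (hW a.right _ hb)
  inv_mem' := by
    intro a ha
    have h1 := hW a.right⁻¹ _ (W.neg_mem ha)
    exact h1

theorem mem_ext (hW : Inv ρ W) (a : KK ρ A) : a ∈ ext hW ↔ toAdd a.left ∈ W := Iff.rfl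

/-- the normal subgroup of functions -/
def ker (hW : Inv ρ W) : Subgroup (ext hW) where
  carrier := {a | a.1.right = 1}
  one_mem' := rfl
  mul_mem' := by
    intro a b ha hb
    show a.1.right * b.1.right = 1
    rw [ha, hb, one_mul]
  inv_mem' := by
    intro a ha
    show a.1.right⁻¹ = 1
    rw [ha, inv_one]

instance ker_normal (hW : Inv ρ W) : (ker hW).Normal := by
  constructor
  intro n hn g
  show g.1.right * n.1.right * g.1.right⁻¹ = 1
  rw [hn, mul_one, mul_inv_cancel]

theorem ker_exp (hW : Inv ρ W) (p : ℕ) (hp : ∀ w ∈ W, p • w = 0) : ∀ a : ker hW, a ^ p = 1 := by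
  rintro ⟨⟨a, ha⟩, ha1⟩
  apply Subtype.ext
  apply Subtype.ext
  show a ^ p = 1
  have ha1' : a.right = 1 := ha1
  apply SemidirectProduct.ext
  · apply nn_ext
    intro y
    rw [pow_left]
    simp only [ha1', one_pow, map_one, inv_one, Equiv.Perm.one_apply, Finset.sum_const,
      Finset.card_range]
    have := congrFun (hp _ ha) y
    exact this
  · rw [pow_right, ha1', one_pow]
    rfl

theorem ker_ne_bot (hW : Inv ρ W) (w : Y → A) (hw : w ∈ W) (hw0 : w ≠ 0) : ker hW ≠ ⊥ := by
  intro h
  have hmem : (⟨⟨ofAdd w, 1⟩, hw⟩ : ext hW) ∈ ker hW := rfl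
  rw [h, Subgroup.mem_bot] at hmem
  apply hw0
  have h1 := congrArg (fun a : ext hW => toAdd a.1.left) hmem
  exact h1

/-- the sum of the translates of a function under the powers of a group element -/
def normFun (g : G) (n : ℕ) (w : Y → A) : Y → A :=
  fun y => ∑ i ∈ Finset.range n, w ((ρ (g ^ i))⁻¹ y)

theorem normFun_mem (hW : Inv ρ W) (g : G) (n : ℕ) {w : Y → A} (hw : w ∈ W) :
    normFun (ρ := ρ) g n w ∈ W := by
  have e : normFun (ρ := ρ) g n w = ∑ i ∈ Finset.range n, fun y => w ((ρ (g ^ i))⁻¹ y) := by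
    funext y
    simp [normFun, Finset.sum_apply]
  rw [e]
  exact W.sum_mem fun i _ => hW (g ^ i) w hw

theorem normFun_fixed (g : G) (n : ℕ) (hg : g ^ n = 1) (w : Y → A) (y : Y) :
    normFun (ρ := ρ) g n w ((ρ g)⁻¹ y) = normFun (ρ := ρ) g n w y := by
  unfold normFun
  have e : ∀ i, (ρ (g ^ i))⁻¹ ((ρ g)⁻¹ y) = (ρ (g ^ (i + 1)))⁻¹ y := by
    intro i
    rw [pow_succ', map_mul, mul_inv_rev]
    rfl
  simp only [e]
  have h1 := Finset.sum_range_succ' (fun i => w ((ρ (g ^ i))⁻¹ y)) n
  have h2 := Finset.sum_range_succ (fun i => w ((ρ (g ^ i))⁻¹ y)) n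
  rw [h2] at h1
  simp only [hg, pow_zero] at h1
  exact (add_right_cancel h1).symm

/-- if `g ^ n = 1` and `g` fixes no nonzero function of `W`, every element over `g` has `n`-th power one -/
theorem pow_eq_one_of_fpf (hW : Inv ρ W) (a : KK ρ A) (ha : a ∈ ext hW) (n : ℕ)
    (hn : a.right ^ n = 1)
    (hfix : ∀ w ∈ W, (∀ y, w ((ρ a.right)⁻¹ y) = w y) → w = 0) : a ^ n = 1 := by
  apply SemidirectProduct.ext
  · apply nn_ext
    intro y
    rw [pow_left]
    have h0 := hfix (normFun (ρ := ρ) a.right n (toAdd a.left)) (normFun_mem hW _ _ ha)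
      (normFun_fixed a.right n hn _)
    exact congrFun h0 y
  · rw [pow_right, hn]
    rfl

/-- the power of an element by an exponent of its image lies in the subgroup of functions -/
theorem pow_pow_eq_one (hW : Inv ρ W) (p : ℕ) (hp : ∀ w ∈ W, p • w = 0) (a : KK ρ A) (ha : a ∈ ext hW)
    (n : ℕ) (hn : a.right ^ n = 1) : (a ^ n) ^ p = 1 := by
  have h1 : (a ^ n).right = 1 := by rw [pow_right, hn]
  have h2 : a ^ n ∈ ext hW := (ext hW).pow_mem ha n
  have := ker_exp hW p hp ⟨⟨a ^ n, h2⟩, h1⟩
  have h3 := congrArg (fun x : ker hW => (x.1.1 : KK ρ A)) this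
  exact h3

instance [Finite G] [Finite Y] [Finite A] : Finite (KK ρ A) :=
  Finite.of_equiv _ SemidirectProduct.equivProd.symm

end Cfsg.Agent.Helper14.SemiFun
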