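import Mathlib
import Cfsg.Agent.Helper28.Siegel1
import Cfsg.Agent.Helper12.OrthGenA

/-! # Additivity of Siegel elements in the first (singular) argument, and a `Rad` consequence (helper14)

`E(u₁ + u₂, w) = E(u₁, w) * E(u₂, w + Q(w) • u₁)` for orthogonal singular `u₁, u₂` and `w ⊥ u₁, u₂`
(any characteristic).  Consequence (`RadX.main`): if `x₀ ∈ Rad M v`, `h ∈ M` fixes `x₀` and maps `v` to
`v + u'` with `u'` singular, `u' ⊥ v`, then `x₀ + Q(x₀) • v ∈ Rad M u'`. -/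

set_option autoImplicit false
set_option linter.unusedSectionVars false
set_option linter.unusedVariables false

namespace Cfsg.Agent.Helper14.SiegAdd

open Matrix Cfsg.Agent.Helper28.Sg Cfsg.Agent.Helper28.Spin Cfsg.Agent.Helper12.OrthGen

variable {F : Type*} [Field F] {ι : Type} [Fintype ι] [DecidableEq ι]
  {Q : QuadraticForm F (ι → F)}

theorem Q_add_smul_singular {w u : ι → F} (hu : Q u = 0) (huw : B Q u w = 0) (c : F) :
    Q (w + c • u) = Q w := by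
  rw [Q_add, Q_smul, hu, mul_zero, add_zero]
  have : B Q w (c • u) = 0 := by
    show QuadraticMap.polar ⇑Q w (c • u) = 0
    rw [QuadraticMap.polar_smul_right, QuadraticMap.polar_comm]
    simp only [B] at huw
    rw [huw, smul_zero]
  rw [this, add_zero]

/-- `E(u₁ + u₂, w) = E(u₁, w) * E(u₂, w + Q(w) • u₁)`. -/
theorem siegO_add_left {u₁ u₂ w : ι → F} (hu₁ : Q u₁ = 0) (hu₂ : Q u₂ = 0)
    (h12 : B Q u₁ u₂ = 0) (h1w : B Q u₁ w = 0) (h2w : B Q u₂ w = 0)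
    (hs : Q (u₁ + u₂) = 0) (hsw : B Q (u₁ + u₂) w = 0)
    (h2w' : B Q u₂ (w + Q w • u₁) = 0) :
    siegO Q (u₁ + u₂) w hs hsw =
      siegO Q u₁ w hu₁ h1w * siegO Q u₂ (w + Q w • u₁) hu₂ h2w' := by
  apply O_ext
  intro x
  rw [mt_mul_mulVec, siegO_mulVec, siegO_mulVec, siegO_mulVec]
  have h11 : B Q u₁ u₁ = 0 := B_self_of_singular Q hu₁
  have h21 : B Q u₂ u₁ = 0 := by rw [B_comm]; exact h12
  have hw1 : B Q w u₁ = 0 := by rw [B_comm]; exact h1w
  have hw2 : B Q w u₂ = 0 := by rw [B_comm]; exact h2w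
  have hww : B Q w w = 2 * Q w := B_self Q w
  have hQ : Q (w + Q w • u₁) = Q w := Q_add_smul_singular hu₁ h1w _
  rw [hQ]
  simp only [B] at h11 h21 hw1 hw2 hww h12 h1w h2w
  simp only [B, QuadraticMap.polar_add_right, QuadraticMap.polar_sub_right,
    QuadraticMap.polar_smul_right, QuadraticMap.polar_add_left, QuadraticMap.polar_smul_left,
    smul_eq_mul, h11, hw1, hw2, hww, h12, h1w, mul_zero, add_zero, sub_zero]
  module

/-- **Lemma X**: if `x₀ ∈ Rad M v`, and `h ∈ M` fixes `x₀` and maps `v` to `v + u'` with `u'` singular and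
`u' ⊥ v`, then `x₀ + Q(x₀) • v ∈ Rad M u'`. -/
theorem RadX.main {M : Subgroup ↥(Cfsg.isometryGroup F ⇑Q)} {v x₀ u' : ι → F} (hv : Q v = 0)
    (hx₀ : x₀ ∈ Rad M v hv) {h : ↥(Cfsg.isometryGroup F ⇑Q)} (hh : h ∈ M)
    (hhv : mt Q h *ᵥ v = v + u') (hhx : mt Q h *ᵥ x₀ = x₀) (hu' : Q u' = 0)
    (hvu' : B Q v u' = 0) : x₀ + Q x₀ • v ∈ Rad M u' hu' := by
  have hs : Q (v + u') = 0 := by rw [← hhv, Q_isom]; exact hv
  have hx₀' : x₀ ∈ Rad M (v + u') hs := Rad_conj' hh hx₀ hs hhv hhx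
  obtain ⟨hvx, hmem⟩ := hx₀
  obtain ⟨hsx, hmem'⟩ := hx₀'
  have h2w : B Q u' x₀ = 0 := by
    have e : B Q (v + u') x₀ = B Q v x₀ + B Q u' x₀ := QuadraticMap.polar_add_left _ _ _ _
    rw [e, hvx, zero_add] at hsx
    exact hsx
  have hu'v : B Q u' v = 0 := by rw [B_comm]; exact hvu'
  have h2w' : B Q u' (x₀ + Q x₀ • v) = 0 :=
    B_add_right_zero Q h2w (B_smul_right_zero Q _ hu'v)
  refine ⟨h2w', ?_⟩
  have key := siegO_add_left hv hu' hvu' hvx h2w hs hsx h2w'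
  have e : siegO Q u' (x₀ + Q x₀ • v) hu' h2w' =
      (siegO Q v x₀ hv hvx)⁻¹ * siegO Q (v + u') x₀ hs hsx := by
    rw [key, inv_mul_cancel_left]
  rw [e]
  exact M.mul_mem (M.inv_mem hmem) hmem'

end Cfsg.Agent.Helper14.SiegAdd
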