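import Mathlib

set_option autoImplicit false

namespace Cfsg.Agent.Helper14

/-- If `U` is solvable, `H` is abelian and normalises `U`, then `U ⊔ H` is solvable. -/
theorem isSolvable_sup_of_comm_of_le_normalizer {G : Type*} [Group G] (U H : Subgroup G)
    [hU : Group.IsSolvable U]
    (hH : ∀ a ∈ H, ∀ b ∈ H, a * b = b * a) (hN : H ≤ Subgroup.normalizer (U : Set G)) :
    Group.IsSolvable ↥(U ⊔ H) := by
  have hle : U ≤ U ⊔ H := le_sup_left
  have hnorm : (U.subgroupOf (U ⊔ H)).Normal :=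
    (Subgroup.normal_subgroupOf_iff_le_normalizer hle).mpr (sup_le Subgroup.le_normalizer hN)
  have hq : Group.IsSolvable (↥(U ⊔ H) ⧸ U.subgroupOf (U ⊔ H)) := by
    apply Group.isSolvable_of_comm
    have key : ∀ a : ↥(U ⊔ H) ⧸ U.subgroupOf (U ⊔ H), ∃ h : G, ∃ hh : h ∈ H,
        a = QuotientGroup.mk ⟨h, (le_sup_right : H ≤ U ⊔ H) hh⟩ := by
      intro a
      obtain ⟨⟨x, hx⟩, rfl⟩ := QuotientGroup.mk_surjective a
      have hx' : x ∈ ((U ⊔ H : Subgroup G) : Set G) := hx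
      rw [Subgroup.coe_mul_of_right_le_normalizer_left U H hN] at hx'
      obtain ⟨u, hu, h, hh, rfl⟩ := hx'
      refine ⟨h, hh, ?_⟩
      rw [QuotientGroup.eq, Subgroup.mem_subgroupOf]
      show (u * h)⁻¹ * h ∈ U
      have : (u * h)⁻¹ * h = h⁻¹ * u⁻¹ * h := by group
      rw [this]
      exact (Subgroup.mem_normalizer_iff''.mp (hN hh) u⁻¹).mp (inv_mem hu)
    intro a b
    obtain ⟨h1, hh1, rfl⟩ := key a
    obtain ⟨h2, hh2, rfl⟩ := key b
    rw [← QuotientGroup.mk_mul, ← QuotientGroup.mk_mul]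
    congr 1
    exact Subtype.ext (hH h1 hh1 h2 hh2)
  exact Group.isSolvable_of_ker_le_range (Subgroup.inclusion hle)
    (QuotientGroup.mk' (U.subgroupOf (U ⊔ H)))
    (by rw [QuotientGroup.ker_mk', Subgroup.inclusion_range])

end Cfsg.Agent.Helper14
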