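import Mathlib
import Cfsg.Agent.Helper20.SubnCountA

set_option autoImplicit false
set_option linter.unusedSectionVars false

/-!
# Casolo's subnormalizer count: preparation (helper14)

For a subgroup `H` of `G` we work in `Xq H = N_G(H)/H`; `hat H Kb` is the full preimage in `G` of
a subgroup `Kb` of `Xq H`, `bar H R` the image of `R ∩ N_G(H)`.
-/

namespace Cfsg.Agent.Helper14

open Subgroup Cfsg.Agent.Helper20

universe u

variable {G : Type u} [Group G]

section basic

variable [Finite G] {p : ℕ} [Fact p.Prime]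

/-- normalizers grow in `p`-subgroups (ambient form) -/
theorem sc_lt_inf_normalizer {P D : Subgroup G} (hP : IsPGroup p ↥P) (hDP : D < P) :
    D < P ⊓ Subgroup.normalizer (D : Set G) := by
  have hle : D ≤ P ⊓ Subgroup.normalizer (D : Set G) := le_inf hDP.le Subgroup.le_normalizer
  refine lt_of_le_of_ne hle ?_
  intro heq
  have : Group.IsNilpotent ↥P := hP.isNilpotent
  have hnc : NormalizerCondition ↥P := Group.normalizerCondition_of_isNilpotent
  have hlt : D.subgroupOf P < ⊤ := by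
    refine lt_of_le_of_ne le_top ?_
    intro h
    rw [Subgroup.subgroupOf_eq_top] at h
    exact absurd (le_antisymm hDP.le h) hDP.ne
  have h2 := hnc _ hlt
  rw [← Subgroup.subgroupOf_normalizer_eq hDP.le] at h2
  obtain ⟨x, hx1, hx2⟩ := SetLike.exists_of_lt h2
  rw [Subgroup.mem_subgroupOf] at hx1 hx2
  apply hx2
  rw [heq]
  exact ⟨x.2, hx1⟩

theorem sc_card_normalizer_sylow (P Q : Sylow p G) :
    Nat.card (normalizer ((Q : Subgroup G) : Set G)) =
      Nat.card (normalizer ((P : Subgroup G) : Set G)) := by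
  have h1 : Nat.card (Sylow p G) = (normalizer ((P : Subgroup G) : Set G)).index :=
    Sylow.card_eq_index_normalizer P
  have h2 : Nat.card (Sylow p G) = (normalizer ((Q : Subgroup G) : Set G)).index :=
    Sylow.card_eq_index_normalizer Q
  have h3 := Subgroup.index_mul_card (normalizer ((P : Subgroup G) : Set G))
  have h4 := Subgroup.index_mul_card (normalizer ((Q : Subgroup G) : Set G))
  rw [← h1] at h3
  rw [← h2] at h4
  have hpos : 0 < Nat.card (Sylow p G) := Nat.card_pos
  exact Nat.eq_of_mul_eq_mul_left hpos (h4.trans h3.symm)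

theorem sc_card_sylow_mul (P : Sylow p G) :
    Nat.card (Sylow p G) * Nat.card (normalizer ((P : Subgroup G) : Set G)) = Nat.card G := by
  have h1 : Nat.card (Sylow p G) = (normalizer ((P : Subgroup G) : Set G)).index :=
    Sylow.card_eq_index_normalizer P
  rw [h1]
  exact Subgroup.index_mul_card _

theorem sc_Tset_bot : Tset p (⊥ : Subgroup G) = Set.univ := by
  ext g
  simp only [Set.mem_univ, iff_true]
  refine ⟨⊥, IsPGroup.of_bot, le_rfl, ?_⟩
  rw [Subgroup.mem_normalizer_iff]
  intro h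
  simp only [Subgroup.mem_bot]
  constructor
  · intro h1; rw [h1]; group
  · intro h1
    have : h = g⁻¹ * (g * h * g⁻¹) * g := by group
    rw [this, h1]; group

theorem sc_Tset_empty_of_not_pGroup (H : Subgroup G) (hH : ¬ IsPGroup p H) : Tset p H = ∅ := by
  ext g
  simp only [Set.mem_empty_iff_false, iff_false]
  rintro ⟨R, hR, hHR, _⟩
  exact hH (hR.to_le hHR)

theorem sc_sylow_empty_of_not_pGroup (H : Subgroup G) (hH : ¬ IsPGroup p H) :
    {Q : Sylow p G | H ≤ (Q : Subgroup G)} = ∅ := by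
  ext Q
  simp only [Set.mem_empty_iff_false, iff_false, Set.mem_ofPred_eq]
  intro h
  exact hH (Q.2.to_le h)

theorem sc_Tset_sylow (Q : Sylow p G) :
    Tset p (Q : Subgroup G) = (normalizer ((Q : Subgroup G) : Set G) : Set G) := by
  ext g
  constructor
  · rintro ⟨R, hR, hQR, hg⟩
    have := Q.is_maximal' hR hQR
    rw [this] at hg
    exact hg
  · intro hg
    exact ⟨Q, Q.2, le_rfl, hg⟩

theorem sc_sylow_ge_sylow (Q : Sylow p G) :
    {Q' : Sylow p G | (Q : Subgroup G) ≤ (Q' : Subgroup G)} = {Q} := by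
  ext Q'
  simp only [Set.mem_ofPred_eq, Set.mem_singleton_iff]
  constructor
  · intro h
    have := Q.is_maximal' Q'.2 h
    exact Sylow.ext this
  · intro h
    rw [h]

end basic

section hat

variable (H : Subgroup G)

/-- `N_G(H)/H` -/
abbrev Xq : Type u := ↥(normalizer (H : Set G)) ⧸ H.subgroupOf (normalizer (H : Set G))

/-- the projection `N_G(H) → N_G(H)/H` -/
abbrev piq : ↥(normalizer (H : Set G)) →* Xq H :=
  QuotientGroup.mk' (H.subgroupOf (normalizer (H : Set G)))

/-- full preimage in `G` of a subgroup of `N_G(H)/H` -/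
def hat (Kb : Subgroup (Xq H)) : Subgroup G :=
  (Kb.comap (piq H)).map (normalizer (H : Set G)).subtype

/-- image in `N_G(H)/H` of `R ∩ N_G(H)` -/
def bar (R : Subgroup G) : Subgroup (Xq H) :=
  (R.subgroupOf (normalizer (H : Set G))).map (piq H)

theorem piq_surjective : Function.Surjective (piq H) := QuotientGroup.mk'_surjective _

theorem ker_piq : (piq H).ker = H.subgroupOf (normalizer (H : Set G)) := QuotientGroup.ker_mk' _

theorem mem_hat_iff {Kb : Subgroup (Xq H)} {x : G} :
    x ∈ hat H Kb ↔ ∃ hx : x ∈ normalizer (H : Set G), piq H ⟨x, hx⟩ ∈ Kb := by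
  constructor
  · rintro ⟨y, hy, rfl⟩
    exact ⟨y.2, hy⟩
  · rintro ⟨hx, h⟩
    exact ⟨⟨x, hx⟩, h, rfl⟩

theorem hat_le_normalizer (Kb : Subgroup (Xq H)) : hat H Kb ≤ normalizer (H : Set G) := by
  intro x hx
  obtain ⟨hx', _⟩ := (mem_hat_iff H).1 hx
  exact hx'

theorem le_hat (Kb : Subgroup (Xq H)) : H ≤ hat H Kb := by
  intro x hx
  rw [mem_hat_iff]
  refine ⟨le_normalizer hx, ?_⟩
  have : piq H ⟨x, le_normalizer hx⟩ = 1 := by
    rw [← MonoidHom.mem_ker, ker_piq, mem_subgroupOf]
    exact hx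
  rw [this]
  exact Kb.one_mem

theorem hat_bot : hat H ⊥ = H := by
  apply le_antisymm _ (le_hat H ⊥)
  intro x hx
  obtain ⟨hx', h⟩ := (mem_hat_iff H).1 hx
  rw [Subgroup.mem_bot, ← MonoidHom.mem_ker, ker_piq, mem_subgroupOf] at h
  exact h

theorem hat_le_hat_iff {A B : Subgroup (Xq H)} : hat H A ≤ hat H B ↔ A ≤ B := by
  constructor
  · intro h x hx
    obtain ⟨y, rfl⟩ := piq_surjective H x
    have hy : (y : G) ∈ hat H A := (mem_hat_iff H).2 ⟨y.2, hx⟩
    obtain ⟨_, h2⟩ := (mem_hat_iff H).1 (h hy)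
    exact h2
  · intro h x hx
    obtain ⟨hx', h2⟩ := (mem_hat_iff H).1 hx
    exact (mem_hat_iff H).2 ⟨hx', h h2⟩

theorem hat_injective : Function.Injective (hat H) := by
  intro A B h
  apply le_antisymm
  · rw [← hat_le_hat_iff H, h]
  · rw [← hat_le_hat_iff H, h]

theorem hat_sup (A B : Subgroup (Xq H)) : hat H (A ⊔ B) = hat H A ⊔ hat H B := by
  unfold hat
  rw [← Subgroup.comap_sup_eq _ _ _ (piq_surjective H), Subgroup.map_sup]

theorem hat_bar {R : Subgroup G} (hHR : H ≤ R) : hat H (bar H R) = R ⊓ normalizer (H : Set G) := by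
  ext x
  rw [mem_hat_iff]
  constructor
  · rintro ⟨hx, y, hy, hxy⟩
    refine ⟨?_, hx⟩
    have hy' : y ∈ R.subgroupOf (normalizer (H : Set G)) := hy
    rw [mem_subgroupOf] at hy'
    have h1 : y⁻¹ * ⟨x, hx⟩ ∈ (piq H).ker := by
      rw [MonoidHom.mem_ker, map_mul, map_inv, hxy]; group
    rw [ker_piq, mem_subgroupOf] at h1
    have h2 : x = (y : G) * ((y⁻¹ * ⟨x, hx⟩ : ↥(normalizer (H : Set G))) : G) := by
      push_cast; group
    rw [h2]
    exact R.mul_mem hy' (hHR h1)
  · rintro ⟨hxR, hx⟩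
    exact ⟨hx, ⟨x, hx⟩, mem_subgroupOf.2 hxR, rfl⟩

theorem bar_hat (Kb : Subgroup (Xq H)) : bar H (hat H Kb) = Kb := by
  apply hat_injective H
  rw [hat_bar H (le_hat H Kb)]
  exact inf_eq_left.2 (hat_le_normalizer H Kb)

theorem bar_mono {R R' : Subgroup G} (h : R ≤ R') : bar H R ≤ bar H R' := by
  unfold bar
  apply Subgroup.map_mono
  intro x hx
  rw [mem_subgroupOf] at hx ⊢
  exact h hx

theorem le_bar_of_hat_le {Kb : Subgroup (Xq H)} {R : Subgroup G} (h : hat H Kb ≤ R) :
    Kb ≤ bar H R := by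
  rw [← bar_hat H Kb]
  exact bar_mono H h

theorem hat_le_of_le_bar {Kb : Subgroup (Xq H)} {R : Subgroup G} (hHR : H ≤ R)
    (h : Kb ≤ bar H R) : hat H Kb ≤ R := by
  have := (hat_le_hat_iff H).2 h
  rw [hat_bar H hHR] at this
  exact this.trans inf_le_left

end hat

end Cfsg.Agent.Helper14
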