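import Mathlib

set_option autoImplicit false

/-!
# A Weisner-type vanishing lemma for the Möbius function of a finite lattice (helper14)

`exists_weisner_fun` : on a finite lattice `L` with bottom there is `ν : L → ℤ` with `ν ⊥ = 1`
such that `∑ K ∈ J, ν K = 0` for every down-closed `J` which contains some `T ≠ ⊥`
and is closed under `K ↦ K ⊔ T`.

`sum_mul_ncard_eq_zero` : double counting lemma: if all "row sums" vanish then
`∑ K, ν K * |{a | r a K}| = 0`.
-/

namespace Cfsg.Agent.Helper14

open Finset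

theorem exists_weisner_fun (L : Type*) [Lattice L] [OrderBot L] [Finite L] :
    ∃ ν : L → ℤ, ν ⊥ = 1 ∧
      ∀ (J : Finset L) (T : L), (∀ K ∈ J, ∀ K', K' ≤ K → K' ∈ J) → T ∈ J → T ≠ ⊥ →
        (∀ K ∈ J, K ⊔ T ∈ J) → ∑ K ∈ J, ν K = 0 := by
  classical
  have : Fintype L := Fintype.ofFinite L
  let _ : LocallyFiniteOrder L := Fintype.toLocallyFiniteOrder
  refine ⟨fun K => IncidenceAlgebra.mu ℤ (⊥ : L) K, IncidenceAlgebra.mu_self _, ?_⟩
  intro J T hdown hTJ hT hcl
  have key : ∀ M : L, M ∈ J → T ≤ M →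
      ∑ K ∈ J.filter (fun K => K ⊔ T = M), IncidenceAlgebra.mu ℤ (⊥ : L) K = 0 := by
    intro M
    induction M using WellFoundedLT.induction with
    | ind M ih =>
      intro hMJ hTM
      have hMbot : (⊥ : L) ≠ M := by
        intro h
        apply hT
        exact le_bot_iff.1 (h ▸ hTM)
      have h1 : ∑ K ∈ Icc ⊥ M, IncidenceAlgebra.mu ℤ (⊥ : L) K = 0 := by
        rw [IncidenceAlgebra.sum_Icc_mu_right]
        simp [hMbot]
      have hIcc : Icc ⊥ M = J.filter (fun K => K ≤ M) := by
        ext K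
        simp only [mem_Icc, bot_le, true_and, mem_filter]
        constructor
        · intro h
          exact ⟨hdown M hMJ K h, h⟩
        · intro h
          exact h.2
      rw [hIcc] at h1
      have hmaps : ∀ K ∈ J.filter (fun K => K ≤ M),
          K ⊔ T ∈ J.filter (fun M' => T ≤ M' ∧ M' ≤ M) := by
        intro K hK
        rw [mem_filter] at hK ⊢
        exact ⟨hcl K hK.1, le_sup_right, sup_le hK.2 hTM⟩
      rw [← Finset.sum_fiberwise_of_maps_to hmaps] at h1
      have h2 : ∀ M' ∈ J.filter (fun M' => T ≤ M' ∧ M' ≤ M),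
          ∑ K ∈ (J.filter (fun K => K ≤ M)).filter (fun K => K ⊔ T = M'),
            IncidenceAlgebra.mu ℤ (⊥ : L) K =
          ∑ K ∈ J.filter (fun K => K ⊔ T = M'), IncidenceAlgebra.mu ℤ (⊥ : L) K := by
        intro M' hM'
        rw [mem_filter] at hM'
        apply Finset.sum_congr _ (fun _ _ => rfl)
        ext K
        simp only [mem_filter]
        constructor
        · intro h
          exact ⟨h.1.1, h.2⟩
        · intro h
          refine ⟨⟨h.1, ?_⟩, h.2⟩
          exact le_sup_left.trans (h.2 ▸ hM'.2.2)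
      rw [Finset.sum_congr rfl h2] at h1
      rw [Finset.sum_eq_single M] at h1
      · exact h1
      · intro M' hM' hne
        rw [mem_filter] at hM'
        exact ih M' (lt_of_le_of_ne hM'.2.2 hne) hM'.1 hM'.2.1
      · intro h
        exfalso
        apply h
        rw [mem_filter]
        exact ⟨hMJ, hTM, le_rfl⟩
  have hmaps : ∀ K ∈ J, K ⊔ T ∈ J.filter (fun M' => T ≤ M') := by
    intro K hK
    rw [mem_filter]
    exact ⟨hcl K hK, le_sup_right⟩
  show ∑ K ∈ J, IncidenceAlgebra.mu ℤ (⊥ : L) K = 0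
  rw [← Finset.sum_fiberwise_of_maps_to hmaps]
  apply Finset.sum_eq_zero
  intro M' hM'
  rw [mem_filter] at hM'
  exact key M' hM'.1 hM'.2

theorem sum_mul_ncard_eq_zero {A L : Type*} [Finite A] [Fintype L] (ν : L → ℤ)
    (r : A → L → Prop)
    (h : ∀ a : A, ∀ J : Finset L, (∀ K, K ∈ J ↔ r a K) → ∑ K ∈ J, ν K = 0) :
    ∑ K : L, ν K * (({a | r a K} : Set A).ncard : ℤ) = 0 := by
  classical
  have : Fintype A := Fintype.ofFinite A
  have h1 : ∀ K : L, (({a | r a K} : Set A).ncard : ℤ) = ∑ a : A, if r a K then (1 : ℤ) else 0 := by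
    intro K
    rw [Set.ncard_eq_toFinset_card']
    simp [Finset.sum_boole]
  simp_rw [h1, Finset.mul_sum]
  rw [Finset.sum_comm]
  apply Finset.sum_eq_zero
  intro a _
  have h2 := h a (Finset.univ.filter (fun K => r a K)) (by intro K; simp)
  rw [Finset.sum_filter] at h2
  have h3 : ∑ K : L, ν K * (if r a K then (1 : ℤ) else 0) =
      ∑ K : L, if r a K then ν K else 0 := by
    apply Finset.sum_congr rfl
    intro K _
    split_ifs <;> simp
  rw [h3]
  exact h2

end Cfsg.Agent.Helper14
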