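import Mathlib
import Cfsg.Agent.Helper14.Weisner
import Cfsg.Agent.Helper14.SubnCard1

set_option autoImplicit false
set_option linter.unusedSectionVars false

/-!
# Casolo's subnormalizer count: the inductive step (helper14)
-/

namespace Cfsg.Agent.Helper14

open Subgroup Cfsg.Agent.Helper20

universe u

variable {G : Type u} [Group G]

theorem mem_normalizer_sInf (S : Set (Subgroup G)) (g : G)
    (h : ∀ R ∈ S, g ∈ normalizer (R : Set G)) : g ∈ normalizer ((sInf S : Subgroup G) : Set G) := by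
  rw [mem_normalizer_iff]
  intro x
  rw [Subgroup.mem_sInf, Subgroup.mem_sInf]
  constructor
  · intro hx R hR
    exact (mem_normalizer_iff.1 (h R hR) x).1 (hx R hR)
  · intro hx R hR
    exact (mem_normalizer_iff.1 (h R hR) x).2 (hx R hR)

variable [Finite G] {p : ℕ} [Fact p.Prime] (H : Subgroup G)

theorem bar_ne_bot {R : Subgroup G} (hR : IsPGroup p R) (hHR : H < R) : bar H R ≠ ⊥ := by
  intro h
  have h1 : hat H (bar H R) = hat H ⊥ := by rw [h]
  rw [hat_bar H hHR.le, hat_bot] at h1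
  exact (sc_lt_inf_normalizer hR hHR).ne h1.symm

theorem isPGroup_bar {R : Subgroup G} (hR : IsPGroup p R) : IsPGroup p (bar H R) :=
  (hR.comap_subtype).map _

theorem isPGroup_hat (hH : IsPGroup p H) {Kb : Subgroup (Xq H)} (hK : IsPGroup p Kb) :
    IsPGroup p (hat H Kb) := by
  apply IsPGroup.map
  apply hK.comap_of_ker_isPGroup
  rw [ker_piq]
  exact hH.comap_subtype

theorem mem_Tset_hat_iff (hH : IsPGroup p H) (Kb : Subgroup (Xq H))
    (g : ↥(normalizer (H : Set G))) :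
    (g : G) ∈ Tset p (hat H Kb) ↔ piq H g ∈ Tset p Kb := by
  constructor
  · rintro ⟨R, hR, hKR, hgR⟩
    refine ⟨bar H R, isPGroup_bar H hR, le_bar_of_hat_le H hKR, ?_⟩
    apply Subgroup.le_normalizer_map
    refine ⟨g, ?_, rfl⟩
    show g ∈ normalizer ((R.subgroupOf (normalizer (H : Set G)) : Subgroup _) : Set _)
    rw [mem_normalizer_iff]
    intro h
    rw [mem_subgroupOf, mem_subgroupOf]
    exact mem_normalizer_iff.1 hgR h
  · rintro ⟨Rb, hRb, hKRb, hgRb⟩
    refine ⟨hat H Rb, isPGroup_hat H hH hRb, (hat_le_hat_iff H).2 hKRb, ?_⟩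
    apply le_normalizer_map
    exact ⟨g, le_normalizer_comap _ hgRb, rfl⟩

theorem ncard_Tset_hat_inter (hH : IsPGroup p H) (Kb : Subgroup (Xq H)) :
    (Tset p (hat H Kb) ∩ (normalizer (H : Set G) : Set G)).ncard =
      Nat.card H * (Tset p Kb).ncard := by
  have h1 : Tset p (hat H Kb) ∩ (normalizer (H : Set G) : Set G) =
      (normalizer (H : Set G)).subtype '' ((piq H) ⁻¹' Tset p Kb) := by
    ext g
    constructor
    · rintro ⟨hg, hgN⟩
      exact ⟨⟨g, hgN⟩, (mem_Tset_hat_iff H hH Kb ⟨g, hgN⟩).1 hg, rfl⟩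
    · rintro ⟨y, hy, rfl⟩
      exact ⟨(mem_Tset_hat_iff H hH Kb y).2 hy, y.2⟩
  rw [h1, Set.ncard_image_of_injective _ (Subgroup.subtype_injective _)]
  rw [← Nat.card_coe_set_eq, ← Nat.card_coe_set_eq]
  have h2 := QuotientGroup.card_preimage_mk (H.subgroupOf (normalizer (H : Set G))) (Tset p Kb)
  have h3 : Nat.card (H.subgroupOf (normalizer (H : Set G))) = Nat.card H :=
    Nat.card_congr (Subgroup.subgroupOfEquivOfLe le_normalizer).toEquiv
  rw [h3] at h2
  exact h2

theorem sylow_quot_ne_bot (hH : IsPGroup p H)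
    (hnS : ∀ Q : Sylow p G, H ≤ (Q : Subgroup G) → H < (Q : Subgroup G))
    (Qb : Sylow p (Xq H)) : (Qb : Subgroup (Xq H)) ≠ ⊥ := by
  obtain ⟨Q, hQ⟩ := hH.exists_le_sylow
  have hT : bar H (Q : Subgroup G) ≠ ⊥ := bar_ne_bot H Q.2 (hnS Q hQ)
  have hTp : IsPGroup p (bar H (Q : Subgroup G)) := isPGroup_bar H Q.2
  apply Sylow.ne_bot_of_dvd_card
  obtain ⟨n, hn⟩ := IsPGroup.iff_card.1 hTp
  have hn0 : n ≠ 0 := by
    intro h0
    rw [h0, pow_zero, Subgroup.card_eq_one] at hn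
    exact hT hn
  have h1 : p ∣ Nat.card (bar H (Q : Subgroup G)) := by
    rw [hn]
    exact dvd_pow_self p hn0
  exact h1.trans (Subgroup.card_subgroup_dvd_card _)

theorem sc_step (hH : IsPGroup p H)
    (hnS : ∀ Q : Sylow p G, H ≤ (Q : Subgroup G) → H < (Q : Subgroup G))
    (c : ℕ)
    (ih1 : ∀ K : Subgroup G, H < K →
      (Tset p K).ncard = ({Q : Sylow p G | K ≤ (Q : Subgroup G)} : Set (Sylow p G)).ncard * c)
    (cX : ℕ)
    (ih2 : ∀ Kb : Subgroup (Xq H),
      (Tset p Kb).ncard =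
        ({Qb : Sylow p (Xq H) | Kb ≤ (Qb : Subgroup (Xq H))} : Set (Sylow p (Xq H))).ncard * cX) :
    (Tset p H).ncard = ({Q : Sylow p G | H ≤ (Q : Subgroup G)} : Set (Sylow p G)).ncard * c := by
  classical
  have : Fintype (Subgroup (Xq H)) := Fintype.ofFinite _
  obtain ⟨ν, hν0, hν⟩ := exists_weisner_fun (Subgroup (Xq H))
  -- (A1)
  have A1 : ∑ Kb : Subgroup (Xq H), ν Kb *
      ((({Q : Sylow p G | hat H Kb ≤ (Q : Subgroup G)} : Set (Sylow p G)).ncard : ℕ) : ℤ) = 0 := by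
    apply sum_mul_ncard_eq_zero ν (fun (Q : Sylow p G) Kb => hat H Kb ≤ (Q : Subgroup G))
    intro Q J hJ
    by_cases hHQ : H ≤ (Q : Subgroup G)
    · apply hν J (bar H (Q : Subgroup G))
      · intro K hK K' hK'
        rw [hJ] at hK ⊢
        exact ((hat_le_hat_iff H).2 hK').trans hK
      · rw [hJ, hat_bar H hHQ]
        exact inf_le_left
      · exact bar_ne_bot H Q.2 (hnS Q hHQ)
      · intro K hK
        rw [hJ] at hK ⊢
        rw [hat_sup, hat_bar H hHQ]
        exact sup_le hK inf_le_left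
    · have hJe : J = ∅ := by
        ext K
        simp only [hJ, Finset.notMem_empty, iff_false]
        intro h
        exact hHQ ((le_hat H K).trans h)
      rw [hJe]
      simp
  -- (A2)
  have A2 : ∑ Kb : Subgroup (Xq H), ν Kb *
      ((({Qb : Sylow p (Xq H) | Kb ≤ (Qb : Subgroup (Xq H))} :
        Set (Sylow p (Xq H))).ncard : ℕ) : ℤ) = 0 := by
    apply sum_mul_ncard_eq_zero ν (fun (Qb : Sylow p (Xq H)) Kb => Kb ≤ (Qb : Subgroup (Xq H)))
    intro Qb J hJ
    apply hν J (Qb : Subgroup (Xq H))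
    · intro K hK K' hK'
      rw [hJ] at hK ⊢
      exact hK'.trans hK
    · rw [hJ]
    · exact sylow_quot_ne_bot H hH hnS Qb
    · intro K hK
      rw [hJ] at hK ⊢
      exact sup_le hK le_rfl
  -- (A3)
  have A3 : ∑ Kb : Subgroup (Xq H), ν Kb *
      ((({g : G | g ∉ normalizer (H : Set G) ∧ g ∈ Tset p (hat H Kb)} : Set G).ncard : ℕ) : ℤ) = 0 := by
    apply sum_mul_ncard_eq_zero ν
      (fun (g : G) Kb => g ∉ normalizer (H : Set G) ∧ g ∈ Tset p (hat H Kb))
    intro g J hJ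
    by_cases hJe : J = ∅
    · rw [hJe]
      simp
    · obtain ⟨K0, hK0⟩ := Finset.nonempty_iff_ne_empty.2 hJe
      rw [hJ] at hK0
      obtain ⟨hgN, R, hR, hKR, hgR⟩ := hK0
      set S : Set (Subgroup G) :=
        {R | IsPGroup p R ∧ H ≤ R ∧ g ∈ normalizer (R : Set G)} with hS
      have hRS : R ∈ S := ⟨hR, (le_hat H K0).trans hKR, hgR⟩
      set R0 : Subgroup G := sInf S with hR0
      have hR0p : IsPGroup p R0 := hR.to_le (sInf_le hRS)
      have hHR0 : H ≤ R0 := le_sInf (fun R' hR' => hR'.2.1)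
      have hgR0 : g ∈ normalizer (R0 : Set G) :=
        mem_normalizer_sInf S g (fun R' hR' => hR'.2.2)
      have hlt : H < R0 := by
        refine lt_of_le_of_ne hHR0 ?_
        intro h
        apply hgN
        rw [h]
        exact hgR0
      apply hν J (bar H R0)
      · intro K hK K' hK'
        rw [hJ] at hK ⊢
        obtain ⟨_, R', hR', hKR', hgR'⟩ := hK
        exact ⟨hgN, R', hR', ((hat_le_hat_iff H).2 hK').trans hKR', hgR'⟩
      · rw [hJ]
        refine ⟨hgN, R0, hR0p, ?_, hgR0⟩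
        rw [hat_bar H hHR0]
        exact inf_le_left
      · exact bar_ne_bot H hR0p hlt
      · intro K hK
        rw [hJ] at hK ⊢
        obtain ⟨_, R', hR', hKR', hgR'⟩ := hK
        have hR'S : R' ∈ S := ⟨hR', (le_hat H K).trans hKR', hgR'⟩
        refine ⟨hgN, R', hR', ?_, hgR'⟩
        rw [hat_sup, hat_bar H hHR0]
        exact sup_le hKR' (inf_le_left.trans (sInf_le hR'S))
  -- assembly
  have hF : ∀ Kb : Subgroup (Xq H), (((Tset p (hat H Kb)).ncard : ℕ) : ℤ) =
      (Nat.card H : ℤ) * (cX : ℤ) *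
        ((({Qb : Sylow p (Xq H) | Kb ≤ (Qb : Subgroup (Xq H))} :
          Set (Sylow p (Xq H))).ncard : ℕ) : ℤ) +
      ((({g : G | g ∉ normalizer (H : Set G) ∧ g ∈ Tset p (hat H Kb)} : Set G).ncard : ℕ) : ℤ) := by
    intro Kb
    have h1 := Set.ncard_inter_add_ncard_sdiff_eq_ncard (Tset p (hat H Kb))
      (normalizer (H : Set G) : Set G) (Set.toFinite _)
    rw [ncard_Tset_hat_inter H hH Kb, ih2 Kb] at h1
    have h2 : Tset p (hat H Kb) \ (normalizer (H : Set G) : Set G) =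
        {g : G | g ∉ normalizer (H : Set G) ∧ g ∈ Tset p (hat H Kb)} := by
      ext g
      simp only [Set.mem_sdiff, SetLike.mem_coe, Set.mem_ofPred_eq]
      tauto
    rw [h2] at h1
    rw [← h1]
    push_cast
    ring
  have hsumF : ∑ Kb : Subgroup (Xq H), ν Kb * (((Tset p (hat H Kb)).ncard : ℕ) : ℤ) = 0 := by
    simp_rw [hF, mul_add]
    rw [Finset.sum_add_distrib, A3, add_zero]
    have : ∀ Kb : Subgroup (Xq H), ν Kb * ((Nat.card H : ℤ) * (cX : ℤ) *
        ((({Qb : Sylow p (Xq H) | Kb ≤ (Qb : Subgroup (Xq H))} :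
          Set (Sylow p (Xq H))).ncard : ℕ) : ℤ)) =
        ((Nat.card H : ℤ) * (cX : ℤ)) * (ν Kb *
        ((({Qb : Sylow p (Xq H) | Kb ≤ (Qb : Subgroup (Xq H))} :
          Set (Sylow p (Xq H))).ncard : ℕ) : ℤ)) := by
      intro Kb
      ring
    simp_rw [this]
    rw [← Finset.mul_sum, A2, mul_zero]
  have hsumL : ∑ Kb : Subgroup (Xq H), ν Kb *
      ((((({Q : Sylow p G | hat H Kb ≤ (Q : Subgroup G)} : Set (Sylow p G)).ncard : ℕ) : ℤ)) *
        (c : ℤ)) = 0 := by
    have : ∀ Kb : Subgroup (Xq H), ν Kb *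
      ((((({Q : Sylow p G | hat H Kb ≤ (Q : Subgroup G)} : Set (Sylow p G)).ncard : ℕ) : ℤ)) *
        (c : ℤ)) = (c : ℤ) * (ν Kb *
      (((({Q : Sylow p G | hat H Kb ≤ (Q : Subgroup G)} : Set (Sylow p G)).ncard : ℕ) : ℤ))) := by
      intro Kb
      ring
    simp_rw [this]
    rw [← Finset.mul_sum, A1, mul_zero]
  have hdiff : ∑ Kb : Subgroup (Xq H), ν Kb * ((((Tset p (hat H Kb)).ncard : ℕ) : ℤ) -
      ((((({Q : Sylow p G | hat H Kb ≤ (Q : Subgroup G)} : Set (Sylow p G)).ncard : ℕ) : ℤ)) *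
        (c : ℤ))) = 0 := by
    simp_rw [mul_sub]
    rw [Finset.sum_sub_distrib, hsumF, hsumL, sub_zero]
  rw [Finset.sum_eq_single (⊥ : Subgroup (Xq H))] at hdiff
  · rw [hν0, one_mul, hat_bot, sub_eq_zero] at hdiff
    exact_mod_cast hdiff
  · intro Kb _ hKb
    have hlt : H < hat H Kb := by
      refine lt_of_le_of_ne (le_hat H Kb) ?_
      intro h
      apply hKb
      apply hat_injective H
      rw [hat_bot]
      exact h.symm
    rw [ih1 _ hlt]
    push_cast
    ring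
  · intro h
    exact absurd (Finset.mem_univ _) h

end Cfsg.Agent.Helper14
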