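import Mathlib
import Cfsg.Agent.Helper14.SubnCard2

set_option autoImplicit false
set_option linter.unusedSectionVars false

/-!
# Casolo's subnormalizer count (helper14)

`sc_main` : for every subgroup `H` of a finite group `G` and Sylow `p`-subgroup `P`,
`|Tset p H| = |{Q ∈ Syl_p(G) | H ≤ Q}| * |N_G(P)|`.
-/

namespace Cfsg.Agent.Helper14

open Subgroup Cfsg.Agent.Helper20

universe u

theorem sc_card_lt_of_lt {G : Type u} [Group G] [Finite G] {H K : Subgroup G} (h : H < K) :
    Nat.card H < Nat.card K := by
  have h1 : Nat.card H = (H : Set G).ncard := Nat.card_coe_set_eq _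
  have h2 : Nat.card K = (K : Set G).ncard := Nat.card_coe_set_eq _
  rw [h1, h2]
  apply Set.ncard_lt_ncard _ (Set.toFinite _)
  exact SetLike.coe_ssubset_coe.2 h

theorem sc_card_Xq_lt {G : Type u} [Group G] [Finite G] (H : Subgroup G) (hH : H ≠ ⊥) :
    Nat.card (Xq H) < Nat.card G := by
  have h1 := Subgroup.card_eq_card_quotient_mul_card_subgroup
    (H.subgroupOf (normalizer (H : Set G)))
  have h3 : Nat.card (H.subgroupOf (normalizer (H : Set G))) = Nat.card H :=
    Nat.card_congr (Subgroup.subgroupOfEquivOfLe le_normalizer).toEquiv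
  rw [h3] at h1
  have h4 : 1 < Nat.card H := (Subgroup.one_lt_card_iff_ne_bot H).2 hH
  have h5 : Nat.card (normalizer (H : Set G)) ≤ Nat.card G := Subgroup.card_le_card_group _
  have h6 : 0 < Nat.card (Xq H) := Nat.card_pos
  have h7 : Nat.card (Xq H) < Nat.card (Xq H) * Nat.card H := by
    nlinarith
  show Nat.card (Xq H) < Nat.card G
  calc Nat.card (Xq H) < Nat.card (Xq H) * Nat.card H := h7
    _ = Nat.card (normalizer (H : Set G)) := h1.symm
    _ ≤ Nat.card G := h5

theorem sc_main (p : ℕ) [Fact p.Prime] : ∀ (n : ℕ) (G : Type u) [Group G] [Finite G],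
    Nat.card G = n → ∀ (P : Sylow p G) (H : Subgroup G),
      (Tset p H).ncard =
        ({Q : Sylow p G | H ≤ (Q : Subgroup G)} : Set (Sylow p G)).ncard *
          Nat.card (normalizer ((P : Subgroup G) : Set G)) := by
  intro n
  induction n using Nat.strong_induction_on with
  | _ n IH =>
    intro G _ _ hn P H
    have inner : ∀ m : ℕ, ∀ H : Subgroup G, Nat.card G - Nat.card H = m →
        (Tset p H).ncard =
        ({Q : Sylow p G | H ≤ (Q : Subgroup G)} : Set (Sylow p G)).ncard *
          Nat.card (normalizer ((P : Subgroup G) : Set G)) := by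
      intro m
      induction m using Nat.strong_induction_on with
      | _ m IHm =>
        intro H hm
        by_cases hH : IsPGroup p H
        swap
        · rw [sc_Tset_empty_of_not_pGroup H hH, sc_sylow_empty_of_not_pGroup H hH]
          simp
        by_cases hbot : H = ⊥
        · rw [hbot, sc_Tset_bot, Set.ncard_univ]
          have h1 : ({Q : Sylow p G | (⊥ : Subgroup G) ≤ (Q : Subgroup G)} : Set (Sylow p G)) =
              Set.univ := by
            ext Q
            simp
          rw [h1, Set.ncard_univ, sc_card_sylow_mul]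
        by_cases hS : ∃ Q : Sylow p G, (Q : Subgroup G) = H
        · obtain ⟨Q, rfl⟩ := hS
          rw [sc_Tset_sylow, sc_sylow_ge_sylow, Set.ncard_singleton, one_mul,
            ← Nat.card_coe_set_eq]
          exact sc_card_normalizer_sylow P Q
        have hnS : ∀ Q : Sylow p G, H ≤ (Q : Subgroup G) → H < (Q : Subgroup G) :=
          fun Q hQ => lt_of_le_of_ne hQ (fun h => hS ⟨Q, h.symm⟩)
        have hXcard : Nat.card (Xq H) < n := hn ▸ sc_card_Xq_lt H hbot
        obtain ⟨PX⟩ : Nonempty (Sylow p (Xq H)) := inferInstance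
        apply sc_step H hH hnS _ ?_
          (Nat.card (normalizer ((PX : Subgroup (Xq H)) : Set (Xq H)))) ?_
        · intro K hK
          apply IHm (Nat.card G - Nat.card K) ?_ K rfl
          have h1 := sc_card_lt_of_lt hK
          have h2 : Nat.card K ≤ Nat.card G := Subgroup.card_le_card_group _
          omega
        · intro Kb
          exact IH (Nat.card (Xq H)) hXcard (Xq H) rfl PX Kb
    exact inner _ H rfl

end Cfsg.Agent.Helper14
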