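import Mathlib
import Cfsg.Agent.Helper14.Conj

set_option autoImplicit false
set_option linter.unusedSectionVars false

/-!
# Double counting conjugates of `H` inside a Sylow subgroup (helper14)

`sc_double_count` : `|{Q ∈ Syl_p(G) | H ≤ Q}| * |N_G(P)| = |{K ≤ P | K conjugate to H}| * |N_G(H)|`.
-/

namespace Cfsg.Agent.Helper14

open Subgroup

universe u

theorem card_eq_mul_of_fibers {Z B : Type*} [Finite Z] [Finite B] (f : Z → B) (m : ℕ)
    (h : ∀ b, Nat.card {z // f z = b} = m) : Nat.card Z = Nat.card B * m := by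
  classical
  have : Fintype B := Fintype.ofFinite B
  rw [← Nat.card_congr (Equiv.sigmaFiberEquiv f), Nat.card_sigma]
  simp [h, Nat.card_eq_fintype_card]

variable {G : Type u} [Group G] [Finite G] {p : ℕ} [Fact p.Prime]

theorem map_cj_le_sylow_iff (P : Sylow p G) (H : Subgroup G) (z : G) :
    H.map (cj z) ≤ (P : Subgroup G) ↔ H ≤ ((z⁻¹ • P : Sylow p G) : Subgroup G) := by
  constructor
  · intro h x hx
    show x ∈ (z⁻¹ • P : Sylow p G)
    rw [mem_sylow_smul]
    have h2 : z * x * z⁻¹ ∈ (P : Subgroup G) := h ⟨x, hx, rfl⟩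
    rw [inv_inv]
    exact h2
  · rintro h _ ⟨x, hx, rfl⟩
    have h1 : x ∈ (z⁻¹ • P : Sylow p G) := h hx
    rw [mem_sylow_smul, inv_inv] at h1
    exact h1

theorem sc_double_count (P : Sylow p G) (H : Subgroup G) :
    Nat.card {Q : Sylow p G // H ≤ (Q : Subgroup G)} *
        Nat.card (normalizer ((P : Subgroup G) : Set G)) =
      Nat.card {K : Subgroup G // K ≤ (P : Subgroup G) ∧
          ∃ g : G, K = H.map (MulAut.conj g).toMonoidHom} *
        Nat.card (normalizer (H : Set G)) := by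
  set Z := {g : G // H.map (cj g) ≤ (P : Subgroup G)} with hZ
  -- first count
  have c1 : Nat.card Z = Nat.card {K : Subgroup G // K ≤ (P : Subgroup G) ∧
          ∃ g : G, K = H.map (MulAut.conj g).toMonoidHom} *
        Nat.card (normalizer (H : Set G)) := by
    apply card_eq_mul_of_fibers
      (fun z : Z => (⟨H.map (cj z.1), z.2, z.1, rfl⟩ :
        {K : Subgroup G // K ≤ (P : Subgroup G) ∧
          ∃ g : G, K = H.map (MulAut.conj g).toMonoidHom}))
    rintro ⟨K, hKP, g₀, hK⟩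
    have hK' : K = H.map (cj g₀) := hK
    symm
    have hmem : ∀ n : ↥(normalizer (H : Set G)), H.map (cj (g₀ * (n : G))) = K := by
      intro n
      rw [← map_cj_mul, mem_normalizer_iff_map_cj.1 n.2, hK']
    refine Nat.card_eq_of_bijective
      (fun n : ↥(normalizer (H : Set G)) =>
        (⟨⟨g₀ * (n : G), (hmem n).le.trans hKP⟩, Subtype.ext (hmem n)⟩ :
          {z : Z // (⟨H.map (cj z.1), z.2, z.1, rfl⟩ :
            {K : Subgroup G // K ≤ (P : Subgroup G) ∧
              ∃ g : G, K = H.map (MulAut.conj g).toMonoidHom}) = ⟨K, hKP, g₀, hK⟩})) ⟨?_, ?_⟩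
    · intro n n' h
      have h1 : g₀ * (n : G) = g₀ * (n' : G) := congrArg (fun w => (w.1.1 : G)) h
      exact Subtype.ext (mul_left_cancel h1)
    · rintro ⟨⟨z, hz⟩, hfz⟩
      have hfz' : H.map (cj z) = K := congrArg Subtype.val hfz
      have hn : g₀⁻¹ * z ∈ normalizer (H : Set G) := by
        rw [mem_normalizer_iff_map_cj, ← map_cj_mul, hfz', hK', map_cj_map_cj_inv]
      refine ⟨⟨g₀⁻¹ * z, hn⟩, ?_⟩
      apply Subtype.ext
      apply Subtype.ext
      show g₀ * (g₀⁻¹ * z) = z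
      group
  -- second count
  have c2 : Nat.card Z = Nat.card {Q : Sylow p G // H ≤ (Q : Subgroup G)} *
        Nat.card (normalizer ((P : Subgroup G) : Set G)) := by
    apply card_eq_mul_of_fibers
      (fun z : Z => (⟨z.1⁻¹ • P, (map_cj_le_sylow_iff P H z.1).1 z.2⟩ :
        {Q : Sylow p G // H ≤ (Q : Subgroup G)}))
    rintro ⟨Q, hQ⟩
    obtain ⟨g, hg⟩ := MulAction.exists_smul_eq G P Q
    set g₀ := g⁻¹ with hg₀
    have hg' : g₀⁻¹ • P = Q := by rw [hg₀, inv_inv]; exact hg
    symm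
    have hmem : ∀ n : ↥(normalizer ((P : Subgroup G) : Set G)),
        ((n : G) * g₀)⁻¹ • P = Q := by
      intro n
      have hn : (n : G)⁻¹ • P = P :=
        Sylow.smul_eq_iff_mem_normalizer.2 (Subgroup.inv_mem _ n.2)
      rw [mul_inv_rev, mul_smul, hn, hg']
    refine Nat.card_eq_of_bijective
      (fun n : ↥(normalizer ((P : Subgroup G) : Set G)) =>
        (⟨⟨(n : G) * g₀, (map_cj_le_sylow_iff P H _).2 ((hmem n).symm ▸ hQ)⟩,
            Subtype.ext (hmem n)⟩ :
          {z : Z // (⟨z.1⁻¹ • P, (map_cj_le_sylow_iff P H z.1).1 z.2⟩ :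
            {Q : Sylow p G // H ≤ (Q : Subgroup G)}) = ⟨Q, hQ⟩})) ⟨?_, ?_⟩
    · intro n n' h
      have h1 : (n : G) * g₀ = (n' : G) * g₀ := congrArg (fun w => (w.1.1 : G)) h
      exact Subtype.ext (mul_right_cancel h1)
    · rintro ⟨⟨z, hz⟩, hfz⟩
      have hfz' : z⁻¹ • P = Q := congrArg Subtype.val hfz
      have hn : z * g₀⁻¹ ∈ normalizer ((P : Subgroup G) : Set G) := by
        have h1 : (z * g₀⁻¹)⁻¹ • P = P := by
          rw [mul_inv_rev, inv_inv, mul_smul, hfz', ← hg', smul_smul, mul_inv_cancel, one_smul]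
        have h2 := Sylow.smul_eq_iff_mem_normalizer.1 h1
        have h3 := Subgroup.inv_mem _ h2
        rwa [inv_inv] at h3
      refine ⟨⟨z * g₀⁻¹, hn⟩, ?_⟩
      apply Subtype.ext
      apply Subtype.ext
      show z * g₀⁻¹ * g₀ = z
      group
  rw [← c1, ← c2]

end Cfsg.Agent.Helper14
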