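import Cfsg.Agent.Helper14.WeaklyClosed2
import Cfsg.Agent.Helper14.FrattiniChain

set_option autoImplicit false
set_option linter.unusedSectionVars false

namespace Cfsg.Agent.Helper14

open Cfsg
open scoped commutatorElement Pointwise

section

variable {H : Type*} [Group H]

theorem isSubnormal_finset_inf (s : Finset (Subgroup H)) (hs : ∀ L ∈ s, L.IsSubnormal) :
    (s.inf id).IsSubnormal := by
  classical
  induction s using Finset.induction_on with
  | empty => simp
  | insert a s _ ih =>
    rw [Finset.inf_insert]
    exact (hs a (Finset.mem_insert_self a s)).inf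
      (ih (fun L hL => hs L (Finset.mem_insert_of_mem hL)))

theorem isSubnormal_sInf [Finite H] (S : Set (Subgroup H)) (hS : ∀ L ∈ S, L.IsSubnormal) :
    (sInf S).IsSubnormal := by
  have hfin : S.Finite := Set.toFinite S
  have e : sInf S = hfin.toFinset.inf id := by
    rw [Finset.inf_id_eq_sInf, Set.Finite.coe_toFinset]
  rw [e]
  apply isSubnormal_finset_inf
  intro L hL
  exact hS L (hfin.mem_toFinset.1 hL)

theorem subnormalClosure_isSubnormal [Finite H] (A : Subgroup H) :
    (subnormalClosure A).IsSubnormal :=
  isSubnormal_sInf _ (fun _ hL => hL.2)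

theorem le_subnormalClosure (A : Subgroup H) : A ≤ subnormalClosure A :=
  le_sInf (fun _ hL => hL.1)

theorem subnormalClosure_le {A L : Subgroup H} (hAL : A ≤ L) (hL : L.IsSubnormal) :
    subnormalClosure A ≤ L :=
  sInf_le ⟨hAL, hL⟩

/-- every subgroup of a finite `p`-group is subnormal -/
theorem isSubnormal_of_isPGroup [Finite H] {p : ℕ} [Fact p.Prime] (hH : IsPGroup p H)
    (B : Subgroup H) : B.IsSubnormal := by
  have key : ∀ n : ℕ, ∀ B : Subgroup H, Nat.card H - Nat.card ↥B = n → B.IsSubnormal := by
    intro n
    induction n using Nat.strong_induction_on with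
    | _ n ih =>
      intro B hB
      by_cases hBt : B = ⊤
      · rw [hBt]; exact Subgroup.IsSubnormal.top
      have : Group.IsNilpotent H := hH.isNilpotent
      have hnc : NormalizerCondition H := Group.normalizerCondition_of_isNilpotent
      have hlt : B < Subgroup.normalizer (B : Set H) := hnc B (lt_top_iff_ne_top.2 hBt)
      have hcard : Nat.card ↥B < Nat.card ↥(Subgroup.normalizer (B : Set H)) :=
        (Subgroup.card_le_of_le hlt.le).lt_of_ne
          (fun e => hlt.ne (Subgroup.eq_of_le_of_card_ge hlt.le e.ge))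
      have hle : Nat.card ↥(Subgroup.normalizer (B : Set H)) ≤ Nat.card H :=
        Subgroup.card_le_card_group _
      have hN := ih (Nat.card H - Nat.card ↥(Subgroup.normalizer (B : Set H))) (by omega) _ rfl
      exact Subgroup.IsSubnormal.step B _ hlt.le hN Subgroup.normal_in_normalizer
  exact key _ B rfl

end

section Main

variable {H : Type*} [Group H] [Finite H] {p : ℕ} [Fact p.Prime]

/-- S2814 -/
theorem subnormalClosure_structure (A : Subgroup H) (K : Subgroup H)
    (hK : K = subnormalClosure A) :
    (Subgroup.normalClosure ((A.subgroupOf K : Subgroup ↥K) : Set ↥K)).map K.subtype = K ∧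
    Subgroup.normalizer (A : Set H) ≤ Subgroup.normalizer (K : Set H) ∧
    A ⊔ (pResidual p ↥K).map K.subtype = K ∧
    (IsPGroup p ↥A → ⁅(pResidual p ↥K).map K.subtype, A⁆ = (pResidual p ↥K).map K.subtype) := by
  have hAK : A ≤ K := hK ▸ le_subnormalClosure A
  have hKsn : K.IsSubnormal := hK ▸ subnormalClosure_isSubnormal A
  have hKle : ∀ L : Subgroup H, A ≤ L → L.IsSubnormal → K ≤ L := by
    intro L hAL hL
    rw [hK]; exact subnormalClosure_le hAL hL
  -- (1)
  have h1 : (Subgroup.normalClosure ((A.subgroupOf K : Subgroup ↥K) : Set ↥K)).map K.subtype = K := by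
    apply le_antisymm (map_subtype_le _)
    apply hKle
    · intro a ha
      exact ⟨⟨a, hAK ha⟩, Subgroup.subset_normalClosure (Subgroup.mem_subgroupOf.2 ha), rfl⟩
    · exact (Subgroup.normalClosure_normal.isSubnormal).trans' hKsn
  -- (2)
  have h2 : Subgroup.normalizer (A : Set H) ≤ Subgroup.normalizer (K : Set H) := by
    apply le_normalizer_of_map_cj_le
    intro n hn
    have hn' : n⁻¹ ∈ Subgroup.normalizer (A : Set H) := Subgroup.inv_mem _ hn
    rw [map_cj_le_iff]
    apply hKle
    · have := mem_normalizer_iff_map_cj.1 hn'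
      rw [← this]
      exact Subgroup.map_mono hAK
    · exact hKsn.map (MulAut.conj n⁻¹).surjective
  -- (3)
  set R := (pResidual p ↥K).map K.subtype with hR
  have hRK : R ≤ K := map_subtype_le _
  have h3 : A ⊔ R = K := by
    apply le_antisymm (sup_le hAK hRK)
    apply hKle _ le_sup_left
    have e : A ⊔ R = ((A.subgroupOf K) ⊔ pResidual p ↥K).map K.subtype := by
      rw [Subgroup.map_sup, map_subtype_subgroupOf hAK]
    rw [e]
    refine Subgroup.IsSubnormal.trans' ?_ hKsn
    have e2 : (A.subgroupOf K) ⊔ pResidual p ↥K =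
        ((A.subgroupOf K).map (QuotientGroup.mk' (pResidual p ↥K))).comap
          (QuotientGroup.mk' (pResidual p ↥K)) := by
      rw [Subgroup.comap_map_eq, QuotientGroup.ker_mk']
    rw [e2]
    exact Subgroup.IsSubnormal.comap _
      (isSubnormal_of_isPGroup (isPGroup_quotient_pResidual (H := ↥K) (p := p)) _)
  refine ⟨h1, h2, h3, ?_⟩
  -- (4)
  intro hAp
  have hKR : K ≤ Subgroup.normalizer (R : Set H) := by
    have : ((pResidual p ↥K).map K.subtype).Normal → True := fun _ => trivial
    apply le_normalizer_of_map_cj_le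
    intro k hk
    exact (map_cj_map_subtype_of_characteristic K (pResidual p ↥K)
      (Subgroup.le_normalizer hk)).le
  set C := ⁅R, A⁆ with hC
  have hCR : C ≤ R := commutator_le_left_of_le_normalizer (hAK.trans hKR)
  apply le_antisymm hCR
  have hKC : K ≤ Subgroup.normalizer (C : Set H) := by
    rw [← h3]
    exact sup_le (le_normalizer_commutator_right R A) (le_normalizer_commutator_left R A)
  have hKAC : K ≤ Subgroup.normalizer ((A ⊔ C : Subgroup H) : Set H) := by
    rw [← h3]
    apply sup_le
    · apply le_normalizer_of_map_cj_le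
      intro a ha
      rw [Subgroup.map_sup, map_cj_eq_self_of_mem ha,
        mem_normalizer_iff_map_cj.1 (le_normalizer_commutator_right R A ha)]
    · apply le_normalizer_of_map_cj_le
      intro r hr
      rw [Subgroup.map_sup, mem_normalizer_iff_map_cj.1 (le_normalizer_commutator_left R A hr)]
      apply sup_le _ le_sup_right
      rintro _ ⟨a, ha, rfl⟩
      have : cj r a = ⁅r, a⁆ * a := by rw [cj_apply, commutatorElement_def]; group
      rw [this]
      exact Subgroup.mul_mem _
        (Subgroup.mem_sup_right (Subgroup.commutator_mem_commutator hr ha))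
        (Subgroup.mem_sup_left ha)
  have hACK : A ⊔ C ≤ K := sup_le hAK (hCR.trans hRK)
  have hKAC' : K ≤ A ⊔ C := by
    apply hKle _ le_sup_left
    have hn : ((A ⊔ C).subgroupOf K).Normal :=
      (Subgroup.normal_subgroupOf_iff_le_normalizer hACK).2 hKAC
    have := (hn.isSubnormal).trans' hKsn
    rwa [map_subtype_subgroupOf hACK] at this
  -- p'-elements of K lie in C
  have hCn : (C.subgroupOf K).Normal :=
    (Subgroup.normal_subgroupOf_iff_le_normalizer (hCR.trans hRK)).2 hKC
  have hsup : C.subgroupOf K ⊔ A.subgroupOf K = ⊤ := by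
    rw [eq_top_iff]
    intro x _
    have hx : (x : H) ∈ A ⊔ C := hKAC' x.2
    rw [← Subgroup.subgroupOf_sup (hCR.trans hRK) hAK, Subgroup.mem_subgroupOf, sup_comm]
    exact hx
  have hres : pResidual p ↥K ≤ C.subgroupOf K := by
    unfold pResidual
    rw [Subgroup.closure_le]
    intro g hg
    have hg' : Nat.Coprime (orderOf g) p := hg
    exact mem_of_coprime_of_mem_sup (C.subgroupOf K) (A.subgroupOf K)
      (hAp.comap_subtype) (hsup ▸ Subgroup.mem_top g) hg'
  have := Subgroup.map_mono (f := K.subtype) hres
  rwa [map_subtype_subgroupOf (hCR.trans hRK)] at this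

end Main

end Cfsg.Agent.Helper14
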