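import Mathlib
import Cfsg.Agent.Helper29.SylMaxDefs
import Cfsg.Agent.Helper18.Bochert
set_option autoImplicit false
set_option linter.unusedSectionVars false

/-! S2245 piece J4T: a group containing all double transpositions on a `4`-set `Γ` and an element
`g` with `|Γ ∩ gΓ| ∈ {1, 3}` contains a `3`-cycle. -/

namespace Cfsg.Agent.Helper14.SylMax
open MulAction Equiv Cfsg.Agent.Helper29.SylMax
open scoped Pointwise
universe u v
variable {𝔾 : Type u} [Group 𝔾] {α : Type v} [Fintype α] [DecidableEq α] [MulAction 𝔾 α]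

/-- an element of the Klein four-group on `Γ` moving a given point of `Γ` -/
theorem exists_moving (G : Subgroup (Perm α)) (Γ : Finset α) (hΓ : Γ.card = 4)
    (hV : ∀ a ∈ Γ, ∀ b ∈ Γ, ∀ c ∈ Γ, ∀ d ∈ Γ, a ≠ b → a ≠ c → a ≠ d → b ≠ c → b ≠ d → c ≠ d →
      swap a b * swap c d ∈ G) (p : α) (hp : p ∈ Γ) :
    ∃ x ∈ G, x p ≠ p ∧ ∀ ω, ω ∉ Γ → x ω = ω := by
  have h3 : (Γ.erase p).card = 3 := by rw [Finset.card_erase_of_mem hp, hΓ]
  obtain ⟨b, c, d, hbc, hbd, hcd, he⟩ := Finset.card_eq_three.mp h3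
  have hb : b ∈ Γ.erase p := by rw [he]; simp
  have hc : c ∈ Γ.erase p := by rw [he]; simp
  have hd : d ∈ Γ.erase p := by rw [he]; simp
  obtain ⟨hbp, hbΓ⟩ := Finset.mem_erase.mp hb
  obtain ⟨hcp, hcΓ⟩ := Finset.mem_erase.mp hc
  obtain ⟨hdp, hdΓ⟩ := Finset.mem_erase.mp hd
  refine ⟨swap p b * swap c d, hV p hp b hbΓ c hcΓ d hdΓ hbp.symm hcp.symm hdp.symm hbc hbd hcd,
    ?_, ?_⟩
  · rw [Perm.mul_apply, swap_apply_of_ne_of_ne hcp.symm hdp.symm, swap_apply_left]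
    exact hbp
  · intro ω hω
    have h1 : ω ≠ p := fun e => hω (e ▸ hp)
    have h2 : ω ≠ b := fun e => hω (e ▸ hbΓ)
    have h3 : ω ≠ c := fun e => hω (e ▸ hcΓ)
    have h4 : ω ≠ d := fun e => hω (e ▸ hdΓ)
    rw [Perm.mul_apply, swap_apply_of_ne_of_ne h3 h4, swap_apply_of_ne_of_ne h1 h2]

theorem conj_swap_mul_swap (g : Perm α) (a b c d : α) :
    g * (swap a b * swap c d) * g⁻¹ = swap (g a) (g b) * swap (g c) (g d) := by
  rw [swap_apply_apply, swap_apply_apply]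
  group

theorem exists_threeCycle_of_inter (G : Subgroup (Perm α)) (Γ : Finset α) (hΓ : Γ.card = 4)
    (hV : ∀ a ∈ Γ, ∀ b ∈ Γ, ∀ c ∈ Γ, ∀ d ∈ Γ, a ≠ b → a ≠ c → a ≠ d → b ≠ c → b ≠ d → c ≠ d →
      swap a b * swap c d ∈ G)
    (g : Perm α) (hg : g ∈ G)
    (h : (Γ ∩ Γ.image g).card = 1 ∨ (Γ ∩ Γ.image g).card = 3) :
    ∃ σ ∈ G, σ.IsThreeCycle := by
  have hpre : ∀ z ∈ Γ.image g, g⁻¹ z ∈ Γ := by
    intro z hz
    obtain ⟨s, hs, rfl⟩ := Finset.mem_image.mp hz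
    rwa [Cfsg.Agent.Helper18.perm_inv_apply_self']
  have himg : (Γ.image g).card = 4 := by
    rw [Finset.card_image_of_injective _ g.injective, hΓ]
  rcases h with h | h
  · -- one common point
    obtain ⟨p, hp⟩ := Finset.card_eq_one.mp h
    have hpS : p ∈ Γ ∩ Γ.image g := by rw [hp]; simp
    obtain ⟨hpΓ, hpI⟩ := Finset.mem_inter.mp hpS
    obtain ⟨x, hxG, hxp, hxfix⟩ := exists_moving G Γ hΓ hV p hpΓ
    obtain ⟨x', hx'G, hx'p, hx'fix⟩ := exists_moving G Γ hΓ hV (g⁻¹ p) (hpre p hpI)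
    have hyG : g * x' * g⁻¹ ∈ G := G.mul_mem (G.mul_mem hg hx'G) (G.inv_mem hg)
    have hyp : (g * x' * g⁻¹) p ≠ p := by
      rw [Perm.mul_apply, Perm.mul_apply]
      intro e
      apply hx'p
      apply g.injective
      rw [e, Cfsg.Agent.Helper18.perm_apply_inv_self']
    have hyfix : ∀ ω, ω ∉ Γ.image g → (g * x' * g⁻¹) ω = ω := by
      intro ω hω
      have h1 : g⁻¹ ω ∉ Γ := by
        intro h1
        apply hω
        have := Finset.mem_image_of_mem g h1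
        rwa [Cfsg.Agent.Helper18.perm_apply_inv_self'] at this
      rw [Perm.mul_apply, Perm.mul_apply, hx'fix _ h1, Cfsg.Agent.Helper18.perm_apply_inv_self']
    refine ⟨x⁻¹ * (g * x' * g⁻¹)⁻¹ * x * (g * x' * g⁻¹),
      G.mul_mem (G.mul_mem (G.mul_mem (G.inv_mem hxG) (G.inv_mem hyG)) hxG) hyG, ?_⟩
    apply Cfsg.Agent.Helper18.isThreeCycle_commutator_of_support_inter x _ p hxp hyp
    intro ω hω
    by_cases h1 : ω ∈ Γ
    · right
      apply hyfix
      intro h2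
      apply hω
      have : ω ∈ Γ ∩ Γ.image g := Finset.mem_inter.mpr ⟨h1, h2⟩
      rw [hp] at this
      exact Finset.mem_singleton.mp this
    · left
      exact hxfix ω h1
  · -- three common points
    obtain ⟨p, q, r, hpq, hpr, hqr, hS⟩ := Finset.card_eq_three.mp h
    have hpS : p ∈ Γ ∩ Γ.image g := by rw [hS]; simp
    have hqS : q ∈ Γ ∩ Γ.image g := by rw [hS]; simp
    have hrS : r ∈ Γ ∩ Γ.image g := by rw [hS]; simp
    obtain ⟨hpΓ, hpI⟩ := Finset.mem_inter.mp hpS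
    obtain ⟨hqΓ, hqI⟩ := Finset.mem_inter.mp hqS
    obtain ⟨hrΓ, hrI⟩ := Finset.mem_inter.mp hrS
    -- the fourth point of `Γ`
    have h1 : (Γ \ (Γ ∩ Γ.image g)).card = 1 := by
      rw [Finset.card_sdiff_of_subset Finset.inter_subset_left, hΓ, h]
    obtain ⟨u, hu⟩ := Finset.card_eq_one.mp h1
    have huS : u ∈ Γ \ (Γ ∩ Γ.image g) := by rw [hu]; simp
    obtain ⟨huΓ, hunS⟩ := Finset.mem_sdiff.mp huS
    have hunI : u ∉ Γ.image g := fun e => hunS (Finset.mem_inter.mpr ⟨huΓ, e⟩)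
    -- the fourth point of `g Γ`
    have h2 : (Γ.image g \ (Γ ∩ Γ.image g)).card = 1 := by
      rw [Finset.card_sdiff_of_subset Finset.inter_subset_right, himg, h]
    obtain ⟨t, ht⟩ := Finset.card_eq_one.mp h2
    have htS : t ∈ Γ.image g \ (Γ ∩ Γ.image g) := by rw [ht]; simp
    obtain ⟨htI, htnS⟩ := Finset.mem_sdiff.mp htS
    have htnΓ : t ∉ Γ := fun e => htnS (Finset.mem_inter.mpr ⟨e, htI⟩)
    have hpu : p ≠ u := fun e => hunI (e ▸ hpI)
    have hqu : q ≠ u := fun e => hunI (e ▸ hqI)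
    have hru : r ≠ u := fun e => hunI (e ▸ hrI)
    have hpt : p ≠ t := fun e => htnΓ (e ▸ hpΓ)
    have hqt : q ≠ t := fun e => htnΓ (e ▸ hqΓ)
    have hrt : r ≠ t := fun e => htnΓ (e ▸ hrΓ)
    have hut : u ≠ t := fun e => htnΓ (e ▸ huΓ)
    have hxG : swap p q * swap r u ∈ G := hV p hpΓ q hqΓ r hrΓ u huΓ hpq hpr hpu hqr hqu hru
    have hinj : ∀ {a b : α}, a ≠ b → g⁻¹ a ≠ g⁻¹ b := fun hab e => hab (g⁻¹.injective e)
    have hy'G : swap (g⁻¹ p) (g⁻¹ q) * swap (g⁻¹ r) (g⁻¹ t) ∈ G :=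
      hV _ (hpre p hpI) _ (hpre q hqI) _ (hpre r hrI) _ (hpre t htI) (hinj hpq) (hinj hpr)
        (hinj hpt) (hinj hqr) (hinj hqt) (hinj hrt)
    have hyG : swap p q * swap r t ∈ G := by
      have := G.mul_mem (G.mul_mem hg hy'G) (G.inv_mem hg)
      rwa [conj_swap_mul_swap, Cfsg.Agent.Helper18.perm_apply_inv_self', Cfsg.Agent.Helper18.perm_apply_inv_self', Cfsg.Agent.Helper18.perm_apply_inv_self',
        Cfsg.Agent.Helper18.perm_apply_inv_self'] at this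
    refine ⟨swap p q * swap r u * (swap p q * swap r t), G.mul_mem hxG hyG, ?_⟩
    have hcomm : swap p q * swap r u = swap r u * swap p q :=
      (Perm.disjoint_swap_swap (by simp [hpq, hpr, hpu, hqr, hqu, hru])).commute.eq
    have key : swap p q * swap r u * (swap p q * swap r t) = swap r u * swap r t := by
      rw [hcomm, mul_assoc, ← mul_assoc (swap p q), swap_mul_self, one_mul]
    rw [key]
    exact Perm.isThreeCycle_swap_mul_swap_same hru hrt hut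

end Cfsg.Agent.Helper14.SylMax
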