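import Mathlib

/-!
# Sylow `p`-subgroups of symmetric groups are generated by elements of order `p`

`GenBy p H`: the subgroup `H` is generated by elements `x` with `x ^ p = 1`.
-/

set_option autoImplicit false

namespace Cfsg.Agent.Helper14.SylSn

open Equiv

section GenBy

variable {G : Type*} [Group G]

/-- `H` is generated by elements killed by `p` -/
def GenBy (p : ℕ) (H : Subgroup G) : Prop :=
  ∃ X : Set G, (∀ x ∈ X, x ^ p = 1) ∧ H = Subgroup.closure X

theorem GenBy.map {p : ℕ} {H : Subgroup G} (h : GenBy p H) {G' : Type*} [Group G'] (f : G →* G') :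
    GenBy p (H.map f) := by
  obtain ⟨X, hX, rfl⟩ := h
  refine ⟨f '' X, ?_, ?_⟩
  · rintro _ ⟨x, hx, rfl⟩
    rw [← map_pow, hX x hx, map_one]
  · rw [MonoidHom.map_closure]

theorem GenBy.bot (p : ℕ) : GenBy p (⊥ : Subgroup G) :=
  ⟨∅, by simp, by simp⟩

/-- lifting to a subgroup -/
theorem GenBy.subgroupOf {p : ℕ} {H K : Subgroup G} (h : GenBy p H) (hHK : H ≤ K) :
    GenBy p (H.subgroupOf K) := by
  obtain ⟨X, hX, rfl⟩ := h
  refine ⟨K.subtype ⁻¹' X, ?_, ?_⟩
  · intro x hx
    apply Subtype.ext
    have := hX (x : G) hx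
    simpa using this
  · apply Subgroup.map_injective K.subtype_injective
    rw [Subgroup.map_subgroupOf_eq_of_le hHK, MonoidHom.map_closure]
    congr 1
    ext y
    constructor
    · intro hy
      have hyK : y ∈ K := hHK (Subgroup.subset_closure hy)
      exact ⟨⟨y, hyK⟩, hy, rfl⟩
    · rintro ⟨z, hz, rfl⟩
      exact hz

/-- if `H` is generated by elements killed by `p` then `H / H'` has exponent dividing `p` -/
theorem GenBy.pow_mem_commutator {p : ℕ} {H : Subgroup G} (h : GenBy p H) (x : ↥H) :
    x ^ p ∈ commutator ↥H := by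
  obtain ⟨X, hX, hH⟩ := h
  let φ : ↥H →* Abelianization ↥H := (powMonoidHom p).comp Abelianization.of
  have hker : φ.ker = ⊤ := by
    rw [eq_top_iff]
    have hle : H ≤ φ.ker.map H.subtype := by
      have hcl : Subgroup.closure X ≤ φ.ker.map H.subtype := by
        rw [Subgroup.closure_le]
        intro y hy
        have hyH : y ∈ H := by rw [hH]; exact Subgroup.subset_closure hy
        refine ⟨⟨y, hyH⟩, ?_, rfl⟩
        show φ ⟨y, hyH⟩ = 1
        show (Abelianization.of (⟨y, hyH⟩ : ↥H)) ^ p = 1
        rw [← map_pow]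
        have : (⟨y, hyH⟩ : ↥H) ^ p = 1 := by
          apply Subtype.ext
          simpa using hX y hy
        rw [this, map_one]
      intro y hy
      apply hcl
      rw [← hH]; exact hy
    intro z _
    obtain ⟨w, hw, hwz⟩ := hle z.2
    have : w = z := Subtype.ext hwz
    rw [← this]; exact hw
  have hx : φ x = 1 := by
    have : x ∈ φ.ker := by rw [hker]; trivial
    exact this
  have hx' : Abelianization.of (x ^ p) = 1 := by
    rw [map_pow]; exact hx
  rw [← Abelianization.ker_of]
  exact hx'

end GenBy

end Cfsg.Agent.Helper14.SylSn
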