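import Cfsg.Agent.Helper14.SylSn1

/-!
# The wreath product `C_p ≀ R` as a permutation group on `B × ZMod p`
-/

set_option autoImplicit false
set_option linter.unusedSectionVars false

namespace Cfsg.Agent.Helper14.SylSn

open Equiv

variable (p : ℕ) [Fact p.Prime] {B : Type*} [Fintype B] [DecidableEq B]

/-- the base group: `(b, i) ↦ (b, i + f b)` -/
def base : Multiplicative (B → ZMod p) →* Perm (B × ZMod p) where
  toFun f := prodCongrRight (fun b => Equiv.addRight (Multiplicative.toAdd f b))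
  map_one' := by
    ext ⟨b, i⟩ <;> simp
  map_mul' f g := by
    ext ⟨b, i⟩
    · simp
    · simp [add_comm, add_left_comm]

theorem base_apply (f : Multiplicative (B → ZMod p)) (b : B) (i : ZMod p) :
    base p f (b, i) = (b, i + Multiplicative.toAdd f b) := rfl

/-- the top group: `(b, i) ↦ (τ b, i)` -/
def sec : Perm B →* Perm (B × ZMod p) where
  toFun τ := prodCongrLeft (fun _ : ZMod p => τ)
  map_one' := by
    ext ⟨b, i⟩ <;> rfl
  map_mul' σ τ := by
    ext ⟨b, i⟩ <;> rfl

theorem sec_apply (τ : Perm B) (b : B) (i : ZMod p) : sec p τ (b, i) = (τ b, i) := rfl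

/-- twisting a function by a permutation -/
def twist (τ : Perm B) (f : Multiplicative (B → ZMod p)) : Multiplicative (B → ZMod p) :=
  Multiplicative.ofAdd (fun b => Multiplicative.toAdd f (τ⁻¹ b))

theorem sec_mul_base (τ : Perm B) (f : Multiplicative (B → ZMod p)) :
    sec p τ * base p f = base p (twist p τ f) * sec p τ := by
  ext ⟨b, i⟩
  · rfl
  · show i + Multiplicative.toAdd f b = i + Multiplicative.toAdd f (τ⁻¹ (τ b))
    simp

theorem base_pow_eq_one (f : Multiplicative (B → ZMod p)) : (base p f) ^ p = 1 := by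
  rw [← map_pow]
  have : f ^ p = 1 := by
    have h : Multiplicative.toAdd (f ^ p) = 0 := by
      rw [toAdd_pow]
      ext b
      simp
    exact Multiplicative.toAdd.injective h
  rw [this, map_one]

/-- the wreath product of `C_p` with `R` -/
def wr (R : Subgroup (Perm B)) : Subgroup (Perm (B × ZMod p)) where
  carrier := {g | ∃ f, ∃ τ ∈ R, g = base p f * sec p τ}
  one_mem' := ⟨1, 1, R.one_mem, by simp⟩
  mul_mem' := by
    rintro _ _ ⟨f, τ, hτ, rfl⟩ ⟨f', τ', hτ', rfl⟩
    refine ⟨f * twist p τ f', τ * τ', R.mul_mem hτ hτ', ?_⟩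
    rw [map_mul, map_mul]
    calc base p f * sec p τ * (base p f' * sec p τ')
        = base p f * (sec p τ * base p f') * sec p τ' := by group
      _ = base p f * (base p (twist p τ f') * sec p τ) * sec p τ' := by rw [sec_mul_base]
      _ = base p f * base p (twist p τ f') * (sec p τ * sec p τ') := by group
  inv_mem' := by
    rintro _ ⟨f, τ, hτ, rfl⟩
    refine ⟨twist p τ⁻¹ f⁻¹, τ⁻¹, R.inv_mem hτ, ?_⟩
    rw [← sec_mul_base, mul_inv_rev, map_inv, map_inv]

theorem mem_wr {R : Subgroup (Perm B)} {g : Perm (B × ZMod p)} :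
    g ∈ wr p R ↔ ∃ f, ∃ τ ∈ R, g = base p f * sec p τ := Iff.rfl

theorem base_mem_wr (R : Subgroup (Perm B)) (f : Multiplicative (B → ZMod p)) :
    base p f ∈ wr p R := ⟨f, 1, R.one_mem, by simp⟩

theorem sec_mem_wr {R : Subgroup (Perm B)} {τ : Perm B} (hτ : τ ∈ R) :
    sec p τ ∈ wr p R := ⟨1, τ, hτ, by simp⟩

theorem base_mul_sec_injective :
    Function.Injective (fun z : Multiplicative (B → ZMod p) × Perm B => base p z.1 * sec p z.2) := by
  rintro ⟨f, τ⟩ ⟨f', τ'⟩ h
  have key : ∀ b : B, (τ b, Multiplicative.toAdd f (τ b)) =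
      (τ' b, Multiplicative.toAdd f' (τ' b)) := by
    intro b
    have := congrArg (fun g : Perm (B × ZMod p) => g (b, 0)) h
    simpa [Perm.mul_apply, sec_apply, base_apply] using this
  have hτ : τ = τ' := by
    ext b
    exact congrArg Prod.fst (key b)
  subst hτ
  have hf : f = f' := by
    apply Multiplicative.toAdd.injective
    ext b
    have := congrArg Prod.snd (key (τ⁻¹ b))
    simpa using this
  rw [hf]

theorem card_wr (R : Subgroup (Perm B)) :
    Nat.card (wr p R) = p ^ Fintype.card B * Nat.card R := by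
  have e : (Multiplicative (B → ZMod p) × ↥R) ≃ ↥(wr p R) :=
    Equiv.ofBijective (fun z => ⟨base p z.1 * sec p z.2.1, ⟨z.1, z.2.1, z.2.2, rfl⟩⟩) (by
      constructor
      · rintro ⟨f, τ⟩ ⟨f', τ'⟩ h
        have h1 : base p f * sec p τ.1 = base p f' * sec p τ'.1 := congrArg Subtype.val h
        have h2 := base_mul_sec_injective p (B := B) (a₁ := (f, τ.1)) (a₂ := (f', τ'.1)) h1
        have h3 : f = f' := congrArg Prod.fst h2
        have h4 : τ.1 = τ'.1 := congrArg Prod.snd h2
        rw [h3, Subtype.ext h4]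
      · rintro ⟨g, f, τ, hτ, rfl⟩
        exact ⟨(f, ⟨τ, hτ⟩), rfl⟩)
  rw [← Nat.card_congr e, Nat.card_prod]
  congr 1
  rw [Nat.card_eq_fintype_card]
  rw [Fintype.card_multiplicative, Fintype.card_fun, ZMod.card]

theorem sign_sec (τ : Perm B) : Perm.sign (sec p τ) = Perm.sign τ ^ p := by
  show Perm.sign (prodCongrLeft (fun _ : ZMod p => τ)) = _
  rw [Perm.sign_prodCongrLeft, Finset.prod_const, Finset.card_univ, ZMod.card]

theorem genBy_wr {R : Subgroup (Perm B)} (h : GenBy p R) : GenBy p (wr p R) := by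
  obtain ⟨X, hX, rfl⟩ := h
  refine ⟨Set.range (base p) ∪ (sec p) '' X, ?_, ?_⟩
  · rintro x (⟨f, rfl⟩ | ⟨τ, hτ, rfl⟩)
    · exact base_pow_eq_one p f
    · rw [← map_pow, hX τ hτ, map_one]
  · apply le_antisymm
    · rintro _ ⟨f, τ, hτ, rfl⟩
      apply Subgroup.mul_mem
      · exact Subgroup.subset_closure (Or.inl ⟨f, rfl⟩)
      · have h1 : sec p τ ∈ (Subgroup.closure X).map (sec p) := ⟨τ, hτ, rfl⟩
        rw [MonoidHom.map_closure] at h1
        exact Subgroup.closure_mono Set.subset_union_right h1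
    · rw [Subgroup.closure_le]
      rintro x (⟨f, rfl⟩ | ⟨τ, hτ, rfl⟩)
      · exact base_mem_wr p _ f
      · exact sec_mem_wr p (Subgroup.subset_closure hτ)

/-- the even part of the wreath product is generated by elements killed by `p`, provided the top
group acts by even permutations -/
theorem genBy_wr_inf_alt {R : Subgroup (Perm B)} (h : GenBy p R)
    (hs : ∀ τ ∈ R, Perm.sign (sec p τ) = 1) :
    GenBy p (wr p R ⊓ alternatingGroup (B × ZMod p)) := by
  obtain ⟨X, hX, rfl⟩ := h
  refine ⟨{g | ∃ f, g = base p f ∧ Perm.sign (base p f) = 1} ∪ (sec p) '' X, ?_, ?_⟩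
  · rintro x (⟨f, rfl, _⟩ | ⟨τ, hτ, rfl⟩)
    · exact base_pow_eq_one p f
    · rw [← map_pow, hX τ hτ, map_one]
  · apply le_antisymm
    · rintro _ ⟨⟨f, τ, hτ, rfl⟩, hsign⟩
      have hsign' : Perm.sign (base p f * sec p τ) = 1 := Perm.mem_alternatingGroup.mp hsign
      rw [map_mul, hs τ hτ, mul_one] at hsign'
      apply Subgroup.mul_mem
      · exact Subgroup.subset_closure (Or.inl ⟨f, rfl, hsign'⟩)
      · have h1 : sec p τ ∈ (Subgroup.closure X).map (sec p) := ⟨τ, hτ, rfl⟩
        rw [MonoidHom.map_closure] at h1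
        exact Subgroup.closure_mono Set.subset_union_right h1
    · rw [Subgroup.closure_le]
      rintro x (⟨f, rfl, hf⟩ | ⟨τ, hτ, rfl⟩)
      · exact ⟨base_mem_wr p _ f, Perm.mem_alternatingGroup.mpr hf⟩
      · exact ⟨sec_mem_wr p (Subgroup.subset_closure hτ),
          Perm.mem_alternatingGroup.mpr (hs τ (Subgroup.subset_closure hτ))⟩

end Cfsg.Agent.Helper14.SylSn
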