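import Cfsg.Agent.Helper14.SylSn2
import Cfsg.Agent.Helper9.Frobenius

/-!
# Sylow subgroups of `S_n` and `A_n` are generated by elements of order `p`
-/

set_option autoImplicit false
set_option linter.unusedSectionVars false

namespace Cfsg.Agent.Helper14.SylSn

open Equiv
open scoped Pointwise

section Embed

variable {α β : Type*} [Fintype α] [DecidableEq α] [Fintype β] [DecidableEq β] {n : ℕ}

/-- embedding `Perm α →* Perm (Fin n)` along `e : α ⊕ β ≃ Fin n` -/
def jj (e : α ⊕ β ≃ Fin n) : Perm α →* Perm (Fin n) :=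
  (e.permCongrHom).toMonoidHom.comp
    ((Perm.sumCongrHom α β).comp (MonoidHom.inl (Perm α) (Perm β)))

theorem jj_apply (e : α ⊕ β ≃ Fin n) (g : Perm α) :
    jj e g = e.permCongr (Perm.sumCongr g 1) := rfl

theorem jj_injective (e : α ⊕ β ≃ Fin n) : Function.Injective (jj e) := by
  unfold jj
  rw [MonoidHom.coe_comp, MonoidHom.coe_comp]
  refine (e.permCongrHom).injective.comp (Perm.sumCongrHom_injective.comp ?_)
  intro a b h
  exact congrArg Prod.fst h

theorem sign_jj (e : α ⊕ β ≃ Fin n) (g : Perm α) : Perm.sign (jj e g) = Perm.sign g := by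
  rw [jj_apply, Perm.sign_permCongr, Perm.sign_sumCongr, map_one, mul_one]

end Embed

variable (p : ℕ) [Fact p.Prime]

theorem sign_eq_one_of_isPGroup {α : Type*} [Fintype α] [DecidableEq α] (hp2 : p ≠ 2)
    {R : Subgroup (Perm α)} (hR : IsPGroup p R) (τ : Perm α) (hτ : τ ∈ R) : Perm.sign τ = 1 := by
  obtain ⟨k, hk⟩ := hR ⟨τ, hτ⟩
  have hk' : τ ^ p ^ k = 1 := congrArg Subtype.val hk
  have h1 : Perm.sign τ ^ p ^ k = 1 := by rw [← map_pow, hk', map_one]
  rcases Int.units_eq_one_or (Perm.sign τ) with h | h
  · exact h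
  · exfalso
    rw [h] at h1
    have hodd : Odd (p ^ k) := by
      apply Odd.pow
      exact (Fact.out : p.Prime).odd_of_ne_two hp2
    rw [hodd.neg_one_pow] at h1
    exact absurd h1 (by decide)

theorem exists_sylow_genBy : ∀ n : ℕ, ∃ R : Subgroup (Perm (Fin n)),
    Nat.card R = p ^ padicValNat p n.factorial ∧ GenBy p R ∧
      GenBy p (R ⊓ alternatingGroup (Fin n)) := by
  intro n
  induction n using Nat.strong_induction_on with
  | _ n ih =>
    have hp := (Fact.out : p.Prime)
    by_cases hnp : n < p
    · refine ⟨⊥, ?_, GenBy.bot p, ?_⟩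
      · have : padicValNat p n.factorial = 0 := by
          apply padicValNat.eq_zero_of_not_dvd
          rw [hp.dvd_factorial]
          omega
        rw [this, pow_zero]
        exact Subgroup.card_bot
      · rw [bot_inf_eq]; exact GenBy.bot p
    · push Not at hnp
      have hp2 := hp.two_le
      have hm : n / p < n := Nat.div_lt_self (by omega) (by omega)
      obtain ⟨Rm, hRm, hgen, -⟩ := ih (n / p) hm
      have hr : n % p < p := Nat.mod_lt _ hp.pos
      -- the top group acts by even permutations
      have hRmp : IsPGroup p Rm := IsPGroup.of_card hRm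
      have hs : ∀ τ ∈ Rm, Perm.sign (sec p τ) = 1 := by
        intro τ hτ
        rw [sign_sec]
        by_cases h2 : p = 2
        · have h3 : ∀ q : ℕ, q = 2 → Perm.sign τ ^ q = 1 := by
            intro q hq
            rw [hq]
            exact Int.units_sq _
          exact h3 p h2
        · rw [sign_eq_one_of_isPGroup p h2 hRmp τ hτ, one_pow]
      have hcard : Fintype.card ((Fin (n / p) × ZMod p) ⊕ Fin (n % p)) = Fintype.card (Fin n) := by
        rw [Fintype.card_sum, Fintype.card_prod, Fintype.card_fin, Fintype.card_fin, ZMod.card,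
          Fintype.card_fin]
        exact Nat.div_add_mod' n p
      let e : (Fin (n / p) × ZMod p) ⊕ Fin (n % p) ≃ Fin n := Fintype.equivOfCardEq hcard
      refine ⟨(wr p Rm).map (jj e), ?_, (genBy_wr p hgen).map _, ?_⟩
      · rw [Subgroup.card_map_of_injective (jj_injective e), card_wr, hRm, Fintype.card_fin,
          ← pow_add]
        congr 1
        have h1 : n = p * (n / p) + n % p := (Nat.div_add_mod n p).symm
        conv_rhs => rw [h1]
        rw [padicValNat_factorial_mul_add _ hr, padicValNat_factorial_mul]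
        ring
      · have heq : (wr p Rm).map (jj e) ⊓ alternatingGroup (Fin n) =
            (wr p Rm ⊓ alternatingGroup (Fin (n / p) × ZMod p)).map (jj e) := by
          ext x
          constructor
          · rintro ⟨⟨g, hg, rfl⟩, hx⟩
            refine ⟨g, ⟨hg, ?_⟩, rfl⟩
            have := Perm.mem_alternatingGroup.mp hx
            rw [sign_jj] at this
            exact Perm.mem_alternatingGroup.mpr this
          · rintro ⟨g, ⟨hg, hg'⟩, rfl⟩
            refine ⟨⟨g, hg, rfl⟩, ?_⟩
            apply Perm.mem_alternatingGroup.mpr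
            rw [sign_jj]
            exact Perm.mem_alternatingGroup.mp hg'
        rw [heq]
        exact (genBy_wr_inf_alt p hgen hs).map _

theorem genBy_conj {G : Type*} [Group G] {H : Subgroup G} (h : GenBy p H) (g : G) :
    GenBy p (MulAut.conj g • H) := by
  rw [Subgroup.pointwise_smul_def]
  exact h.map _

theorem sylow_perm_genBy (n : ℕ) (P : Sylow p (Perm (Fin n))) :
    GenBy p (P : Subgroup (Perm (Fin n))) := by
  obtain ⟨R, hR, hgen, -⟩ := exists_sylow_genBy p n
  have hc : Nat.card R = p ^ (Nat.card (Perm (Fin n))).factorization p := by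
    rw [hR, Nat.card_perm, Nat.card_fin, Nat.factorization_def _ Fact.out]
  obtain ⟨g, hg⟩ := MulAction.exists_smul_eq (Perm (Fin n)) (Sylow.ofCard R hc) P
  have : (P : Subgroup (Perm (Fin n))) = MulAut.conj g • R := by
    rw [← hg, Sylow.coe_subgroup_smul]
    rfl
  rw [this]
  exact genBy_conj p hgen g

theorem sylow_alt_genBy (n : ℕ) (Q : Sylow p (alternatingGroup (Fin n))) :
    GenBy p (Q : Subgroup (alternatingGroup (Fin n))) := by
  obtain ⟨R, hR, -, hgen⟩ := exists_sylow_genBy p n
  have hc : Nat.card R = p ^ (Nat.card (Perm (Fin n))).factorization p := by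
    rw [hR, Nat.card_perm, Nat.card_fin, Nat.factorization_def _ Fact.out]
  obtain ⟨PK, hPK⟩ := Cfsg.Agent.Helper9.exists_sylow_of_normal (Sylow.ofCard R hc)
    (alternatingGroup (Fin n))
  have hPK' : (PK : Subgroup (alternatingGroup (Fin n))) =
      (R ⊓ alternatingGroup (Fin n)).subgroupOf (alternatingGroup (Fin n)) := hPK
  have hgenPK : GenBy p (PK : Subgroup (alternatingGroup (Fin n))) := by
    rw [hPK']
    exact hgen.subgroupOf inf_le_right
  obtain ⟨g, hg⟩ := MulAction.exists_smul_eq (alternatingGroup (Fin n)) PK Q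
  have : (Q : Subgroup (alternatingGroup (Fin n))) = MulAut.conj g • (PK : Subgroup _) := by
    rw [← hg, Sylow.coe_subgroup_smul]
  rw [this]
  exact genBy_conj p hgenPK g

end Cfsg.Agent.Helper14.SylSn
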