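import Cfsg.Agent.Helper14.SylSn5

/-!
# Derived length of Sylow subgroups of `S_n`: lower bound via the top-down wreath product
-/

set_option autoImplicit false
set_option linter.unusedSectionVars false

namespace Cfsg.Agent.Helper14.SylSn

open Equiv
open scoped Pointwise commutatorElement

variable (p : ℕ) [Fact p.Prime] {Ω : Type*} [Fintype Ω] [DecidableEq Ω]

/-- `ι q : (i, ω) ↦ (i, q i ω)` -/
def iota : (ZMod p → Perm Ω) →* Perm (ZMod p × Ω) where
  toFun q := prodCongrRight q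
  map_one' := by ext ⟨i, ω⟩ <;> rfl
  map_mul' q q' := by ext ⟨i, ω⟩ <;> rfl

theorem iota_apply (q : ZMod p → Perm Ω) (i : ZMod p) (ω : Ω) : iota p q (i, ω) = (i, q i ω) := rfl

theorem iota_injective : Function.Injective (iota p (Ω := Ω)) := by
  intro q q' h
  funext i
  ext ω
  have := congrArg (fun g : Perm (ZMod p × Ω) => (g (i, ω)).2) h
  exact this

/-- the shift `(i, ω) ↦ (i + 1, ω)` -/
def shift : Perm (ZMod p × Ω) := prodCongr (Equiv.addRight 1) (Equiv.refl Ω)

theorem shift_apply (i : ZMod p) (ω : Ω) : shift p (i, ω) = (i + 1, ω) := rfl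

theorem shift_inv_apply (i : ZMod p) (ω : Ω) : (shift p)⁻¹ (i, ω) = (i - 1, ω) := by
  rw [Perm.inv_eq_iff_eq, shift_apply, sub_add_cancel]

theorem shift_conj (q : ZMod p → Perm Ω) :
    shift p * iota p q * (shift p)⁻¹ = iota p (fun i => q (i - 1)) := by
  ext ⟨i, ω⟩
  · simp [Perm.mul_apply, shift_inv_apply, iota_apply, shift_apply]
  · simp [Perm.mul_apply, shift_inv_apply, iota_apply, shift_apply]

theorem shift_inv_conj (q : ZMod p → Perm Ω) :
    (shift p)⁻¹ * iota p q * shift p = iota p (fun i => q (i + 1)) := by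
  ext ⟨i, ω⟩
  · simp [Perm.mul_apply, shift_inv_apply, iota_apply, shift_apply]
  · simp [Perm.mul_apply, shift_inv_apply, iota_apply, shift_apply]

theorem shift_pow_apply (k : ℕ) (i : ZMod p) (ω : Ω) : ((shift p) ^ k) (i, ω) = (i + k, ω) := by
  induction k generalizing i with
  | zero => simp
  | succ k ih =>
    rw [pow_succ, Perm.mul_apply, shift_apply, ih]
    push_cast
    congr 1
    ring

theorem shift_pow_p : (shift p (Ω := Ω)) ^ p = 1 := by
  ext ⟨i, ω⟩
  · rw [shift_pow_apply]; simp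
  · rw [shift_pow_apply]; simp

/-- the top-down wreath product `T ≀ C_p` -/
def wrTop (T : Subgroup (Perm Ω)) : Subgroup (Perm (ZMod p × Ω)) :=
  (Subgroup.pi Set.univ (fun _ : ZMod p => T)).map (iota p) ⊔ Subgroup.zpowers (shift p)

theorem isPGroup_wrTop {T : Subgroup (Perm Ω)} (hT : IsPGroup p T) : IsPGroup p (wrTop p T) := by
  apply IsPGroup.to_sup_of_normal_left'
  · apply IsPGroup.map
    obtain ⟨a, ha⟩ := IsPGroup.iff_card.mp hT
    intro q
    refine ⟨a, ?_⟩
    apply Subtype.ext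
    funext i
    have hq : (q : ZMod p → Perm Ω) i ∈ T := (Subgroup.mem_pi _).mp q.2 i (Set.mem_univ i)
    have h1 : (⟨(q : ZMod p → Perm Ω) i, hq⟩ : ↥T) ^ Nat.card T = 1 := pow_card_eq_one'
    rw [ha] at h1
    have h2 := congrArg Subtype.val h1
    simpa using h2
  · intro x
    refine ⟨1, ?_⟩
    obtain ⟨x, z, rfl⟩ := x
    apply Subtype.ext
    show ((shift p (Ω := Ω)) ^ z) ^ p ^ 1 = 1
    rw [pow_one, ← zpow_natCast, ← zpow_mul, mul_comm, zpow_mul, zpow_natCast, shift_pow_p, one_zpow]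
  · rw [Subgroup.zpowers_le, Subgroup.mem_normalizer_iff]
    intro h
    constructor
    · rintro ⟨q, hq, rfl⟩
      rw [shift_conj]
      refine ⟨_, ?_, rfl⟩
      rw [SetLike.mem_coe, Subgroup.mem_pi] at hq ⊢
      intro i _
      exact hq (i - 1) (Set.mem_univ _)
    · rintro ⟨q, hq, hqh⟩
      have : h = (shift p)⁻¹ * iota p q * shift p := by
        rw [hqh]; group
      rw [this, shift_inv_conj]
      refine ⟨_, ?_, rfl⟩
      rw [SetLike.mem_coe, Subgroup.mem_pi] at hq ⊢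
      intro i _
      exact hq (i + 1) (Set.mem_univ _)

theorem shift_mem_wrTop (T : Subgroup (Perm Ω)) : shift p ∈ wrTop p T :=
  (le_sup_right : Subgroup.zpowers (shift p) ≤ wrTop p T) (Subgroup.mem_zpowers _)

theorem iota_mem_wrTop {T : Subgroup (Perm Ω)} {q : ZMod p → Perm Ω} (hq : ∀ i, q i ∈ T) :
    iota p q ∈ wrTop p T := by
  apply (le_sup_left : _ ≤ wrTop p T)
  refine ⟨q, ?_, rfl⟩
  rw [SetLike.mem_coe, Subgroup.mem_pi]
  intro i _
  exact hq i

theorem dS_wrTop_ne_bot {T : Subgroup (Perm Ω)} {j : ℕ} (h : dS T j ≠ ⊥) :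
    dS (wrTop p T) (j + 1) ≠ ⊥ := by
  intro hcon
  apply h
  have h01 : (0 : ZMod p) ≠ 1 := zero_ne_one
  -- the subgroup generated by the `κ q`
  let κ : Perm Ω → (ZMod p → Perm Ω) := fun q => Pi.mulSingle 0 q * Pi.mulSingle 1 q⁻¹
  have hκ : ∀ q ∈ T, iota p (κ q) ∈ dS (wrTop p T) 1 := by
    intro q hq
    have e : iota p (κ q) = ⁅iota p (Pi.mulSingle 0 q), shift p⁆ := by
      rw [commutatorElement_def]
      have : iota p (Pi.mulSingle 0 q) * shift p * (iota p (Pi.mulSingle 0 q))⁻¹ * (shift p)⁻¹ =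
          iota p (Pi.mulSingle 0 q) * (shift p * iota p (Pi.mulSingle 0 q)⁻¹ * (shift p)⁻¹) := by
        rw [map_inv]; group
      rw [this, shift_conj, ← map_mul]
      congr 1
      funext i
      show (Pi.mulSingle 0 q * Pi.mulSingle 1 q⁻¹ : ZMod p → Perm Ω) i = _
      rw [Pi.mul_apply, Pi.mul_apply]
      congr 1
      by_cases hi : i = 1
      · subst hi
        simp
      · have : i - 1 ≠ 0 := fun h0 => hi (sub_eq_zero.mp h0)
        rw [Pi.mulSingle_eq_of_ne hi, Pi.inv_apply, Pi.mulSingle_eq_of_ne this, inv_one]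
    rw [e]
    apply Subgroup.commutator_mem_commutator
    · apply iota_mem_wrTop
      intro i
      by_cases hi : i = 0
      · subst hi; simpa using hq
      · rw [Pi.mulSingle_eq_of_ne hi]; exact T.one_mem
    · exact shift_mem_wrTop p T
  let K : Subgroup (ZMod p → Perm Ω) := Subgroup.closure (κ '' (T : Set (Perm Ω)))
  have hK1 : K.map (iota p) ≤ dS (wrTop p T) 1 := by
    rw [MonoidHom.map_closure, Subgroup.closure_le]
    rintro _ ⟨_, ⟨q, hq, rfl⟩, rfl⟩
    exact hκ q hq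
  have hK2 : T ≤ K.map (Pi.evalMonoidHom (fun _ : ZMod p => Perm Ω) 0) := by
    intro q hq
    refine ⟨κ q, Subgroup.subset_closure ⟨q, hq, rfl⟩, ?_⟩
    show (Pi.mulSingle 0 q * Pi.mulSingle 1 q⁻¹ : ZMod p → Perm Ω) 0 = q
    rw [Pi.mul_apply, Pi.mulSingle_eq_same, Pi.mulSingle_eq_of_ne h01, mul_one]
  have h1 : dS (K.map (iota p)) j = ⊥ := by
    apply dS_bot_of_le hK1
    rw [dS_add, add_comm]; exact hcon
  have h2 : dS K j = ⊥ := (dS_map_eq_bot_iff _ (iota_injective p) K j).mp h1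
  have h3 : dS (K.map (Pi.evalMonoidHom (fun _ : ZMod p => Perm Ω) 0)) j = ⊥ := by
    rw [← dS_map, h2, Subgroup.map_bot]
  exact dS_bot_of_le hK2 h3

end Cfsg.Agent.Helper14.SylSn
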