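import Mathlib
import Cfsg.Prelude.Def_LocalEven

/-!
S2930 piece TRANSPORT: `p`-minimality is invariant under isomorphism.
-/

set_option autoImplicit false

namespace Cfsg.Agent.Helper14.ThreeMin

theorem isCoatom_comap_of_mulEquiv {X Y : Type*} [Group X] [Group Y] (e : X ≃* Y)
    (M : Subgroup Y) (hM : IsCoatom M) : IsCoatom (M.comap e.toMonoidHom) := by
  have h := (OrderIso.isCoatom_iff e.mapSubgroup (M.comap e.toMonoidHom)).1
  apply h
  have : e.mapSubgroup (M.comap e.toMonoidHom) = M := by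
    rw [MulEquiv.mapSubgroup_apply]
    exact Subgroup.map_comap_eq_self_of_surjective e.surjective M
  rw [this]
  exact hM

theorem isCoatom_map_of_mulEquiv {X Y : Type*} [Group X] [Group Y] (e : X ≃* Y)
    (M : Subgroup X) (hM : IsCoatom M) : IsCoatom (M.map e.toMonoidHom) := by
  have h := (OrderIso.isCoatom_iff e.mapSubgroup M).2 hM
  rwa [MulEquiv.mapSubgroup_apply] at h

theorem isPMinimal_of_mulEquiv {p : ℕ} [Fact p.Prime] {X Y : Type*} [Group X] [Group Y]
    (e : X ≃* Y) (h : Cfsg.IsPMinimal p X) : Cfsg.IsPMinimal p Y := by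
  intro S
  have hrange : (S : Subgroup Y) ≤ e.toMonoidHom.range := by
    rw [MonoidHom.range_eq_top.2 e.surjective]
    exact le_top
  set S' : Sylow p X := S.comapOfInjective e.toMonoidHom e.injective hrange with hS'
  have hS'coe : (S' : Subgroup X) = (S : Subgroup Y).comap e.toMonoidHom :=
    Sylow.coe_comapOfInjective _ _ _ _
  obtain ⟨hnn, M, ⟨hMco, hSM⟩, hMuniq⟩ := h S'
  refine ⟨?_, M.map e.toMonoidHom, ⟨isCoatom_map_of_mulEquiv e M hMco, ?_⟩, ?_⟩
  · intro hn
    apply hnn
    rw [hS'coe]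
    exact hn.comap e.toMonoidHom
  · -- `S ≤ M.map e`
    rw [hS'coe] at hSM
    have := Subgroup.map_mono (f := e.toMonoidHom) hSM
    rwa [Subgroup.map_comap_eq_self_of_surjective e.surjective] at this
  · intro M' ⟨hM'co, hSM'⟩
    have h1 : M'.comap e.toMonoidHom = M := by
      apply hMuniq
      refine ⟨isCoatom_comap_of_mulEquiv e M' hM'co, ?_⟩
      rw [hS'coe]
      exact Subgroup.comap_mono hSM'
    rw [← h1, Subgroup.map_comap_eq_self_of_surjective e.surjective]

end Cfsg.Agent.Helper14.ThreeMin
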