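import Mathlib
import Cfsg.Agent.Helper14.F16
import Cfsg.Agent.Helper14.SemiFun
import Cfsg.Prelude.Def_Classical

/-!
# A module for `SU₃(4)` over the field with five elements on which the elements of order 13 have no fixed points

The group `SU₃(4)` acts on the 65 isotropic points of its natural module; the functions on these points with
values in the integers modulo 5 whose sum over every block of the Hermitian unital vanishes form a module of
dimension 13 containing the constants.  We realise the quotient by the constants as the module of the differences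
`f p - f q`.
-/

set_option autoImplicit false

namespace Cfsg.Agent.Helper14.U34

open Cfsg.Agent.Helper14 Cfsg.Agent.Helper14.SemiFun Matrix

theorem perm_inv_apply {α : Type*} (e : Equiv.Perm α) (x : α) : e⁻¹ (e x) = x :=
  Equiv.symm_apply_apply e x

theorem perm_apply_inv {α : Type*} (e : Equiv.Perm α) (x : α) : e (e⁻¹ x) = x :=
  Equiv.apply_symm_apply e x

/-- the natural module -/
abbrev V : Type := Fin 3 → F16

/-- the group -/
abbrev G0 : Type := ↥(Cfsg.SU 3 F16 4)

/-- the Hermitian form -/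
abbrev h (x y : V) : F16 := Cfsg.hermForm 3 F16 4 x y

/-- the matrix of an element -/
def mat (g : G0) : Matrix (Fin 3) (Fin 3) F16 := g.1.1

theorem h_mat (g : G0) (x y : V) : h (mat g *ᵥ x) (mat g *ᵥ y) = h x y := g.2 x y

theorem mat_one : mat 1 = 1 := rfl

theorem mat_mul (g k : G0) : mat (g * k) = mat g * mat k := rfl

theorem mat_inv_mul (g : G0) : mat g⁻¹ * mat g = 1 := by
  rw [← mat_mul, inv_mul_cancel, mat_one]

theorem mat_mul_inv (g : G0) : mat g * mat g⁻¹ = 1 := by
  rw [← mat_mul, mul_inv_cancel, mat_one]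

/-- the action on the natural module -/
def rho1 : G0 →* Equiv.Perm V where
  toFun g :=
    { toFun := fun x => mat g *ᵥ x
      invFun := fun x => mat g⁻¹ *ᵥ x
      left_inv := fun x => by
        show mat g⁻¹ *ᵥ (mat g *ᵥ x) = x
        rw [Matrix.mulVec_mulVec, mat_inv_mul, Matrix.one_mulVec]
      right_inv := fun x => by
        show mat g *ᵥ (mat g⁻¹ *ᵥ x) = x
        rw [Matrix.mulVec_mulVec, mat_mul_inv, Matrix.one_mulVec] }
  map_one' := by
    apply Equiv.ext
    intro x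
    show mat 1 *ᵥ x = x
    rw [mat_one, Matrix.one_mulVec]
  map_mul' g k := by
    apply Equiv.ext
    intro x
    show mat (g * k) *ᵥ x = mat g *ᵥ (mat k *ᵥ x)
    rw [Matrix.mulVec_mulVec, mat_mul]

theorem rho1_apply (g : G0) (x : V) : rho1 g x = mat g *ᵥ x := rfl

theorem rho1_inv_apply (g : G0) (x : V) : (rho1 g)⁻¹ x = mat g⁻¹ *ᵥ x := rfl

/-- the action on the pairs -/
def rho2 : G0 →* Equiv.Perm (V × V) where
  toFun g := Equiv.prodCongr (rho1 g) (rho1 g)
  map_one' := by
    apply Equiv.ext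
    rintro ⟨p, q⟩
    simp
  map_mul' g k := by
    apply Equiv.ext
    rintro ⟨p, q⟩
    simp

theorem rho2_inv_apply (g : G0) (p q : V) :
    (rho2 g)⁻¹ (p, q) = ((rho1 g)⁻¹ p, (rho1 g)⁻¹ q) := rfl

theorem rho2_apply (g : G0) (p q : V) : rho2 g (p, q) = (rho1 g p, rho1 g q) := rfl

theorem h_smul_left (l : F16) (x y : V) : h (l • x) y = l * h x y := by
  simp only [h, Cfsg.hermForm, Pi.smul_apply, smul_eq_mul, Finset.mul_sum, mul_assoc]

theorem h_smul_right (l : F16) (x y : V) : h x (l • y) = l ^ 4 * h x y := by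
  simp only [h, Cfsg.hermForm, Pi.smul_apply, smul_eq_mul, Finset.mul_sum, mul_pow]
  apply Finset.sum_congr rfl
  intro i _
  ring

theorem h_rho1 (g : G0) (x y : V) : h (rho1 g x) (rho1 g y) = h x y := h_mat g x y

theorem h_rho1_inv (g : G0) (x y : V) : h ((rho1 g)⁻¹ x) ((rho1 g)⁻¹ y) = h x y := h_mat g⁻¹ x y

theorem rho1_smul (g : G0) (l : F16) (x : V) : rho1 g (l • x) = l • rho1 g x := by
  rw [rho1_apply, rho1_apply, Matrix.mulVec_smul]

theorem rho1_inv_smul (g : G0) (l : F16) (x : V) : (rho1 g)⁻¹ (l • x) = l • (rho1 g)⁻¹ x := by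
  rw [rho1_inv_apply, rho1_inv_apply, Matrix.mulVec_smul]

theorem rho1_zero (g : G0) : rho1 g 0 = 0 := by
  rw [rho1_apply, Matrix.mulVec_zero]

/-- the isotropic vectors -/
def IsIso (x : V) : Prop := x ≠ 0 ∧ h x x = 0

theorem isIso_map {x : V} (hx : IsIso x) (g : G0) : IsIso (rho1 g x) := by
  refine ⟨?_, ?_⟩
  · intro h0
    apply hx.1
    apply (rho1 g).injective
    rw [h0, rho1_zero]
  · rw [h_rho1]
    exact hx.2

theorem isIso_map_inv {x : V} (hx : IsIso x) (g : G0) : IsIso ((rho1 g)⁻¹ x) := by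
  have := isIso_map hx g⁻¹
  rw [map_inv] at this
  exact this

theorem isIso_smul {x : V} (hx : IsIso x) {l : F16} (hl : l ≠ 0) : IsIso (l • x) := by
  refine ⟨?_, ?_⟩
  · intro h0
    rcases smul_eq_zero.mp h0 with h1 | h1
    · exact hl h1
    · exact hx.1 h1
  · rw [h_smul_left, h_smul_right, hx.2, mul_zero, mul_zero]

/-- the functions on the isotropic points whose sums over the blocks vanish -/
def IsM (f : V → ZMod 5) : Prop :=
  (∀ (x : V) (l : F16), l ≠ 0 → f (l • x) = f x) ∧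
  (∀ (y : V) (x : Fin 5 → V), h y y ≠ 0 → (∀ i, IsIso (x i) ∧ h (x i) y = 0) →
    (∀ i j, i ≠ j → ∀ l : F16, x i ≠ l • x j) → ∑ i, f (x i) = 0)

theorem isM_zero : IsM 0 := ⟨fun _ _ _ => rfl, fun _ _ _ _ _ => by simp⟩

theorem IsM.add {f g : V → ZMod 5} (hf : IsM f) (hg : IsM g) : IsM (f + g) := by
  refine ⟨?_, ?_⟩
  · intro x l hl
    simp only [Pi.add_apply, hf.1 x l hl, hg.1 x l hl]
  · intro y x hy h1 h2
    simp only [Pi.add_apply, Finset.sum_add_distrib, hf.2 y x hy h1 h2, hg.2 y x hy h1 h2, add_zero]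

theorem IsM.neg {f : V → ZMod 5} (hf : IsM f) : IsM (-f) := by
  refine ⟨?_, ?_⟩
  · intro x l hl
    simp only [Pi.neg_apply, hf.1 x l hl]
  · intro y x hy h1 h2
    simp only [Pi.neg_apply, Finset.sum_neg_distrib, hf.2 y x hy h1 h2, neg_zero]

theorem IsM.translate {f : V → ZMod 5} (hf : IsM f) (g : G0) : IsM fun x => f ((rho1 g)⁻¹ x) := by
  refine ⟨?_, ?_⟩
  · intro x l hl
    show f ((rho1 g)⁻¹ (l • x)) = f ((rho1 g)⁻¹ x)
    rw [rho1_inv_smul]
    exact hf.1 _ l hl
  · intro y x hy h1 h2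
    apply hf.2 ((rho1 g)⁻¹ y) (fun i => (rho1 g)⁻¹ (x i))
    · rw [h_rho1_inv]
      exact hy
    · intro i
      refine ⟨isIso_map_inv (h1 i).1 g, ?_⟩
      rw [h_rho1_inv]
      exact (h1 i).2
    · intro i j hij l hl
      apply h2 i j hij l
      have := congrArg (rho1 g) hl
      rw [rho1_smul] at this
      simpa using this

/-- the module of the differences -/
def Wsub : AddSubgroup (V × V → ZMod 5) where
  carrier := {F | ∃ f, IsM f ∧ ∀ p q, (IsIso p → IsIso q → F (p, q) = f p - f q) ∧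
    (¬(IsIso p ∧ IsIso q) → F (p, q) = 0)}
  zero_mem' := ⟨0, isM_zero, fun p q => ⟨fun _ _ => by simp, fun _ => rfl⟩⟩
  add_mem' := by
    rintro F1 F2 ⟨f1, hf1, h1⟩ ⟨f2, hf2, h2⟩
    refine ⟨f1 + f2, hf1.add hf2, fun p q => ⟨fun hp hq => ?_, fun hn => ?_⟩⟩
    · simp only [Pi.add_apply, (h1 p q).1 hp hq, (h2 p q).1 hp hq]
      ring
    · simp only [Pi.add_apply, (h1 p q).2 hn, (h2 p q).2 hn, add_zero]
  neg_mem' := by
    rintro F ⟨f, hf, h1⟩
    refine ⟨-f, hf.neg, fun p q => ⟨fun hp hq => ?_, fun hn => ?_⟩⟩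
    · simp only [Pi.neg_apply, (h1 p q).1 hp hq]
      ring
    · simp only [Pi.neg_apply, (h1 p q).2 hn, neg_zero]

theorem Wsub_inv : Inv rho2 Wsub := by
  rintro g F ⟨f, hf, h1⟩
  refine ⟨fun x => f ((rho1 g)⁻¹ x), hf.translate g, fun p q => ⟨fun hp hq => ?_, fun hn => ?_⟩⟩
  · show F ((rho2 g)⁻¹ (p, q)) = _
    rw [rho2_inv_apply]
    exact (h1 _ _).1 (isIso_map_inv hp g) (isIso_map_inv hq g)
  · show F ((rho2 g)⁻¹ (p, q)) = _
    rw [rho2_inv_apply]
    apply (h1 _ _).2
    rintro ⟨hp, hq⟩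
    apply hn
    have hp' := isIso_map hp g
    have hq' := isIso_map hq g
    rw [perm_apply_inv] at hp' hq'
    exact ⟨hp', hq'⟩

theorem five_smul (w : V × V → ZMod 5) : 5 • w = 0 := by
  funext y
  simp only [Pi.smul_apply, Pi.zero_apply, nsmul_eq_mul]
  have : ((5 : ℕ) : ZMod 5) = 0 := by decide
  rw [this, zero_mul]

/-! ### the stabiliser of a function -/

/-- the stabiliser of a function on the pairs -/
def stab (F : V × V → ZMod 5) : Subgroup G0 where
  carrier := {k | ∀ y, F ((rho2 k)⁻¹ y) = F y}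
  one_mem' := by
    intro y
    rw [map_one]
    rfl
  mul_mem' := by
    intro a b ha hb y
    rw [map_mul, _root_.mul_inv_rev]
    show F ((rho2 b)⁻¹ ((rho2 a)⁻¹ y)) = F y
    rw [hb, ha]
  inv_mem' := by
    intro a ha y
    rw [map_inv, inv_inv]
    have := ha (rho2 a y)
    rw [perm_inv_apply] at this
    exact this.symm

/-- in a group whose order is divisible by `p` only once, two elements of order `p` generate conjugate subgroups -/
theorem exists_conj_zpow {G : Type*} [Group G] [Finite G] (p : ℕ) [hp : Fact p.Prime]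
    (hpG : ¬p ^ 2 ∣ Nat.card G) {u g : G} (hu : orderOf u = p) (hg : orderOf g = p) :
    ∃ c : G, ∃ m : ℤ, c⁻¹ * u * c = g ^ m := by
  have hdvd : p ∣ Nat.card G := hu ▸ orderOf_dvd_natCard u
  have hfac : (Nat.card G).factorization p = 1 := by
    have h1 : 1 ≤ (Nat.card G).factorization p :=
      (hp.out.dvd_iff_one_le_factorization Nat.card_pos.ne').mp hdvd
    have h2 : ¬2 ≤ (Nat.card G).factorization p := by
      intro h
      exact hpG ((hp.out.pow_dvd_iff_le_factorization Nat.card_pos.ne').mpr h)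
    omega
  have cg : Nat.card (Subgroup.zpowers g) = p ^ (Nat.card G).factorization p := by
    rw [hfac, Nat.card_zpowers, hg, pow_one]
  have cu : Nat.card (Subgroup.zpowers u) = p ^ (Nat.card G).factorization p := by
    rw [hfac, Nat.card_zpowers, hu, pow_one]
  set Pg : Sylow p G := Sylow.ofCard (Subgroup.zpowers g) cg with hPg
  set Pu : Sylow p G := Sylow.ofCard (Subgroup.zpowers u) cu with hPu
  obtain ⟨c, hc⟩ := MulAction.exists_smul_eq G Pg Pu
  have hx : u ∈ (Pu : Subgroup G) := by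
    rw [hPu, Sylow.coe_ofCard]; exact Subgroup.mem_zpowers u
  rw [← hc, Sylow.coe_subgroup_smul, Subgroup.mem_pointwise_smul_iff_inv_smul_mem] at hx
  rw [hPg, Sylow.coe_ofCard] at hx
  rw [MulAut.smul_def, MulAut.conj_inv_apply] at hx
  obtain ⟨m, hm⟩ := Subgroup.mem_zpowers_iff.mp hx
  exact ⟨c, m, hm.symm⟩

/-- reduction of the fixed point property to one element of order 13 -/
theorem fpf_of_one (hcard : ¬13 ^ 2 ∣ Nat.card G0) (u : G0) (hu : orderOf u = 13)
    (hfix : ∀ F ∈ Wsub, (∀ y, F ((rho2 u)⁻¹ y) = F y) → F = 0) (g : G0) (hg : orderOf g = 13) :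
    ∀ F ∈ Wsub, (∀ y, F ((rho2 g)⁻¹ y) = F y) → F = 0 := by
  intro F hF hFg
  have : Fact (Nat.Prime 13) := ⟨by norm_num⟩
  obtain ⟨c, m, hcm⟩ := exists_conj_zpow 13 hcard hu hg
  have hgm : g ^ m ∈ stab F := (stab F).zpow_mem hFg m
  have huc : u * c = c * g ^ m := by
    rw [← hcm]
    group
  have hF' := Wsub_inv c F hF
  have h0 := hfix _ hF' (by
    intro y
    show F ((rho2 c)⁻¹ ((rho2 u)⁻¹ y)) = F ((rho2 c)⁻¹ y)
    have e : (rho2 c)⁻¹ ((rho2 u)⁻¹ y) = (rho2 (g ^ m))⁻¹ ((rho2 c)⁻¹ y) := by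
      have e1 : (rho2 c)⁻¹ ((rho2 u)⁻¹ y) = (rho2 (u * c))⁻¹ y := by
        rw [map_mul, _root_.mul_inv_rev]
        rfl
      rw [e1, huc, map_mul, _root_.mul_inv_rev]
      rfl
    rw [e]
    exact hgm _)
  funext y
  have := congrFun h0 (rho2 c y)
  simp only [Pi.zero_apply] at this
  rw [perm_inv_apply] at this
  exact this

/-! ### an invariant function on the pairs comes from an invariant function on the points -/

theorem shift_const (u : G0) {F : V × V → ZMod 5} {f : V → ZMod 5}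
    (h1 : ∀ p q, (IsIso p → IsIso q → F (p, q) = f p - f q) ∧ (¬(IsIso p ∧ IsIso q) → F (p, q) = 0))
    (hfix : ∀ y, F ((rho2 u)⁻¹ y) = F y) {p q : V} (hp : IsIso p) (hq : IsIso q) :
    f ((rho1 u)⁻¹ p) - f p = f ((rho1 u)⁻¹ q) - f q := by
  have e := hfix (p, q)
  rw [rho2_inv_apply, (h1 _ _).1 (isIso_map_inv hp u) (isIso_map_inv hq u), (h1 _ _).1 hp hq] at e
  linear_combination e

theorem iterate_shift (T : Equiv.Perm V) (hT : ∀ p, IsIso p → IsIso (T p)) (f : V → ZMod 5) (c : ZMod 5)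
    (hc : ∀ p, IsIso p → f (T p) - f p = c) (k : ℕ) : ∀ p, IsIso p → f ((T ^ k) p) = f p + k • c := by
  induction k with
  | zero => intro p _; simp
  | succ k ih =>
    intro p hp
    rw [pow_succ', Equiv.Perm.mul_apply]
    have h2 := hc ((T ^ k) p) (by
      clear ih hc
      induction k with
      | zero => simpa using hp
      | succ k ih2 =>
        rw [pow_succ', Equiv.Perm.mul_apply]
        exact hT _ ih2)
    rw [succ_nsmul, ← add_assoc, ← ih p hp]
    linear_combination h2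

/-- a function on the pairs fixed by `u` comes from a function on the points fixed by `u` -/
theorem inv_of_fixed (u : G0) (hu : u ^ 13 = 1) {F : V × V → ZMod 5} {f : V → ZMod 5}
    (h1 : ∀ p q, (IsIso p → IsIso q → F (p, q) = f p - f q) ∧ (¬(IsIso p ∧ IsIso q) → F (p, q) = 0))
    (hfix : ∀ y, F ((rho2 u)⁻¹ y) = F y) (q0 : V) (hq0 : IsIso q0) :
    ∀ p, IsIso p → f (rho1 u p) = f p := by
  set c := f ((rho1 u)⁻¹ q0) - f q0 with hc
  have hsh : ∀ p, IsIso p → f ((rho1 u)⁻¹ p) - f p = c := fun p hp => shift_const u h1 hfix hp hq0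
  have h13 := iterate_shift (rho1 u)⁻¹ (fun p hp => isIso_map_inv hp u) f c hsh 13 q0 hq0
  have e : ((rho1 u)⁻¹) ^ 13 = 1 := by
    rw [inv_pow, ← map_pow, hu, map_one, inv_one]
  rw [e, Equiv.Perm.one_apply] at h13
  have hc0 : c = 0 := by
    have h2 : (13 : ℕ) • c = 0 := by
      have := h13
      linear_combination -this
    revert h2
    generalize c = c'
    revert c'
    decide
  intro p hp
  have := hsh (rho1 u p) (isIso_map hp u)
  rw [hc0, perm_inv_apply] at this
  linear_combination -this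

/-- the fixed point property for one element, from the constancy of invariant functions -/
theorem fix_of_const (u : G0) (hu : u ^ 13 = 1) (q0 : V) (hq0 : IsIso q0)
    (hconst : ∀ f, IsM f → (∀ p, IsIso p → f (rho1 u p) = f p) → ∀ p q, IsIso p → IsIso q → f p = f q) :
    ∀ F ∈ Wsub, (∀ y, F ((rho2 u)⁻¹ y) = F y) → F = 0 := by
  rintro F ⟨f, hf, h1⟩ hfix
  have hinv := inv_of_fixed u hu h1 hfix q0 hq0
  have hc := hconst f hf hinv
  funext ⟨p, q⟩
  by_cases hpq : IsIso p ∧ IsIso q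
  · rw [(h1 p q).1 hpq.1 hpq.2, hc p q hpq.1 hpq.2, sub_self]
    rfl
  · exact (h1 p q).2 hpq

end Cfsg.Agent.Helper14.U34
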