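import Mathlib
import Cfsg.Agent.Helper14.U34Mod

/-!
# The Hermitian unital of order four: data and kernel computations
-/

set_option autoImplicit false
set_option maxRecDepth 1000000

namespace Cfsg.Agent.Helper14.U34

open Cfsg.Agent.Helper14 Matrix

/-- the element with a given code -/
abbrev c (n : ℕ) : F16 := F16.ofNat n

/-- the first nonzero coordinate of a vector -/
def lead (x : V) : F16 := if x 0 ≠ 0 then x 0 else if x 1 ≠ 0 then x 1 else x 2

/-- the normalisation of a vector: the first nonzero coordinate becomes one -/
def nrm (x : V) : V := (lead x)⁻¹ • x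

/-- the code of a vector -/
def enc (x : V) : ℕ := (x 0).v.val + 16 * (x 1).v.val + 256 * (x 2).v.val

/-- an orbit of the element of order 13 on the normalised isotropic vectors -/
def O0 : List V :=
  [![c 0, c 1, c 1], ![c 1, c 5, c 3], ![c 1, c 7, c 9], ![c 1, c 0, c 12], ![c 1, c 6, c 2], ![c 1, c 7, c 6], ![c 1, c 14, c 7], ![c 1, c 11, c 6], ![c 1, c 4, c 3], ![c 1, c 0, c 10], ![c 1, c 11, c 14], ![c 1, c 9, c 2], ![c 0, c 1, c 8]]

/-- an orbit of the element of order 13 on the normalised isotropic vectors -/
def O1 : List V :=
  [![c 0, c 1, c 10], ![c 1, c 4, c 2], ![c 1, c 14, c 2], ![c 1, c 4, c 13], ![c 1, c 7, c 14], ![c 1, c 9, c 11], ![c 1, c 0, c 8], ![c 1, c 0, c 15], ![c 1, c 5, c 13], ![c 1, c 11, c 9], ![c 1, c 6, c 11], ![c 1, c 14, c 3], ![c 1, c 6, c 3]]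

/-- an orbit of the element of order 13 on the normalised isotropic vectors -/
def O2 : List V :=
  [![c 0, c 1, c 12], ![c 1, c 3, c 5], ![c 1, c 3, c 14], ![c 1, c 9, c 3], ![c 1, c 1, c 0], ![c 1, c 15, c 0], ![c 1, c 5, c 2], ![c 1, c 13, c 9], ![c 1, c 13, c 4], ![c 0, c 1, c 15], ![c 1, c 2, c 4], ![c 1, c 0, c 1], ![c 1, c 2, c 5]]

/-- an orbit of the element of order 13 on the normalised isotropic vectors -/
def O3 : List V :=
  [![c 1, c 2, c 6], ![c 1, c 10, c 0], ![c 1, c 13, c 5], ![c 1, c 6, c 7], ![c 1, c 13, c 14], ![c 1, c 9, c 13], ![c 1, c 6, c 13], ![c 1, c 4, c 11], ![c 1, c 5, c 11], ![c 1, c 3, c 9], ![c 1, c 4, c 7], ![c 1, c 3, c 4], ![c 1, c 8, c 0]]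

/-- an orbit of the element of order 13 on the normalised isotropic vectors -/
def O4 : List V :=
  [![c 1, c 2, c 9], ![c 1, c 3, c 6], ![c 1, c 11, c 5], ![c 1, c 14, c 13], ![c 1, c 12, c 0], ![c 1, c 14, c 11], ![c 1, c 7, c 4], ![c 1, c 13, c 6], ![c 1, c 2, c 14], ![c 1, c 9, c 7], ![c 1, c 7, c 5], ![c 1, c 11, c 4], ![c 1, c 5, c 7]]

/-- the orbits of the element of order 13 on the normalised isotropic vectors -/
def orbL : List (List V) := [O0, O1, O2, O3, O4]

/-- the orbits of the element of order 13 on the normalised isotropic vectors -/
def orbF : Fin 5 → List V := ![O0, O1, O2, O3, O4]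

/-- the table of the values of the function -/
def fTab : ℕ := 1058551287898366042570733947391997588940585040363791889532851899194164044046921562265757451486548894251052275135489022539732529860641370065412068726128187839293126508646544446783286490539644713199306806529263950191256278837792912562567936289074772250142725867256339183092616127637314827317218332523766098981610520904617678568512429580143969466048556557816576126346252854685277337999575016747020169304003107524932892857274708706108886174216705709171700305354912853481574426755443863422154745166546813509363679004210571269239072334817456880787781484830943798298027215908128451775266541896169167216323166913054778837290745838812118776646682710830185596328572712270660872758002662970438943112782757351874389869434632194677760029576978911238514635472698388358366880863381094251270551942088436036294205125586433606633765101706214382582739996141397279931486594738205547580795293397832524443219036046556042102585491710740660228110585171811823271588935439137511674172314107206400227187969365084919420566745426634207299659622690136723688404747137558055478536325851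123544535703785469042121781785198624367514063730017902116796504129670803052410808282142846178623965149466036489387095244986521066409420988663689495718367381799941874664860517849760431484331978038617518342861902531926893771025058389530935250203365680887945643933124126557539008574475258992974881564931120188360203883226296241459851990100914748843442455858807280556378706768805522189487063113031482660770234162221167342214807891019897148773224931939752114865401734099575389295808416225127933084769359016651700324285067448898873226379146922981799153792986978500516855965180263824075389483581343958692659797181668965894129452388520134205440365770692486474943381273617675921225517534851718244953484258709533065491980059750370343903271849037831240669024317374583034841353403894291075916633064481165371857232009373169384010412250410255933191127498071467157958015440546616054259469319869962677160690569729826997250341108024746353087342081260965124856970417076231329856584649747350939599127729556250484285027287719175165625702865849392384570354024562284755677064086820281094770326335616072004791586243207644093450120451951722177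476071246102704045095549285724896813883845919108685216814356929239163009131273699284555572911578608761717855181388040599435437650964444648763222425188498003477052394233380487762016797781636478787230017809446825843986673813122108775427419794132888734419068680691351221610061146081898974829334060064675145511296538629097297922395362171785933338929964705784771120256917819384955323596312124957719070059896419988632330191610834046647807277539387005523160315708912444691615570672295171005619744803943608943297510107941713849329246764626562639780275509399590305135606550225909146355138446145187080059440697956404701962320142744882871317562453080253261207413113716530634959688239663030312131109807110008139614163492798156771228367040948541268086715700875410325431528721291429964910998371970129715570827813019195277143214724740518258370805188555319476861847434493440834531426902727233644181565383857750842791166186380266136397986655020877085008421339116651271381215028442633431951107785217310335746626676785799772841037333452806813086387166988588633066592575587982639665950143615709839628492738072734006629911484798365091117404676938645052432287049323234897520834177107230720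

/-- a block: the nonisotropic vector -/
def by0 : V := ![c 1, c 0, c 11]

/-- a block: the isotropic vectors -/
def bx0 : Fin 5 → V := ![![c 1, c 2, c 4], ![c 1, c 3, c 4], ![c 1, c 7, c 4], ![c 1, c 11, c 4], ![c 1, c 13, c 4]]

/-- a block: the orbits of the isotropic vectors -/
def bc0 : Fin 5 → Fin 5 := ![2, 3, 4, 4, 2]

/-- a block: the nonisotropic vector -/
def by1 : V := ![c 0, c 0, c 1]

/-- a block: the isotropic vectors -/
def bx1 : Fin 5 → V := ![![c 1, c 1, c 0], ![c 1, c 8, c 0], ![c 1, c 10, c 0], ![c 1, c 12, c 0], ![c 1, c 15, c 0]]

/-- a block: the orbits of the isotropic vectors -/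
def bc1 : Fin 5 → Fin 5 := ![2, 3, 3, 4, 2]

/-- a block: the nonisotropic vector -/
def by2 : V := ![c 0, c 1, c 4]

/-- a block: the isotropic vectors -/
def bx2 : Fin 5 → V := ![![c 1, c 2, c 5], ![c 1, c 3, c 14], ![c 1, c 7, c 4], ![c 1, c 11, c 9], ![c 1, c 13, c 6]]

/-- a block: the orbits of the isotropic vectors -/
def bc2 : Fin 5 → Fin 5 := ![2, 2, 4, 1, 4]

/-- a block: the nonisotropic vector -/
def by3 : V := ![c 0, c 1, c 5]

/-- a block: the isotropic vectors -/
def bx3 : Fin 5 → V := ![![c 1, c 2, c 9], ![c 1, c 3, c 4], ![c 1, c 7, c 5], ![c 1, c 11, c 6], ![c 1, c 13, c 14]]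

/-- a block: the orbits of the isotropic vectors -/
def bc3 : Fin 5 → Fin 5 := ![4, 3, 4, 0, 3]

/-- the normalised isotropic vectors -/
def normIsoList : List V := orbL.flatten

/-- the function on the normalised vectors -/
def g0 (x : V) : ZMod 5 := (((fTab >>> (3 * enc x)) &&& 7 : ℕ) : ZMod 5)

/-- the function -/
def f0 (x : V) : ZMod 5 := g0 (nrm x)

/-- the action of the element of order 13 -/
def umul (x : V) : V :=
  ![c 10 * x 0 + c 11 * x 1 + c 3 * x 2, c 3 * x 0 + c 12 * x 1 + c 2 * x 2,
    c 3 * x 0 + c 3 * x 1 + c 8 * x 2]

/-- the normalised triples -/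
def Nrmd (a b d : F16) : Prop := a = 1 ∨ (a = 0 ∧ b = 1) ∨ (a = 0 ∧ b = 0 ∧ d = 1)

instance (a b d : F16) : Decidable (Nrmd a b d) := by unfold Nrmd; infer_instance

theorem nrm_mem_chk : ∀ a b d : F16, Nrmd a b d → a ^ 5 + b ^ 5 + d ^ 5 = 0 →
    ![a, b, d] ∈ normIsoList := by decide +kernel

theorem block_chk : ∀ a b d : F16, Nrmd a b d → a ^ 5 + b ^ 5 + d ^ 5 ≠ 0 →
    (normIsoList.filter (fun v => v 0 * a ^ 4 + v 1 * b ^ 4 + v 2 * d ^ 4 = 0)).length = 5 ∧
    ((normIsoList.filter (fun v => v 0 * a ^ 4 + v 1 * b ^ 4 + v 2 * d ^ 4 = 0)).map g0).sum = 0 := by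
  decide +kernel

theorem nodup_chk : normIsoList.Nodup := by decide +kernel

theorem iso_chk : normIsoList.all (fun v => decide (¬(v 0 = 0 ∧ v 1 = 0 ∧ v 2 = 0) ∧
    v 0 ^ 5 + v 1 ^ 5 + v 2 ^ 5 = 0)) = true := by decide +kernel

theorem chain_chk : orbL.all (fun L => (L.zip L.tail).all (fun p => decide (nrm (umul p.1) = p.2))) = true := by
  decide +kernel

theorem by_chk : (by0 0 ^ 5 + by0 1 ^ 5 + by0 2 ^ 5 ≠ 0) ∧ (by1 0 ^ 5 + by1 1 ^ 5 + by1 2 ^ 5 ≠ 0) ∧
    (by2 0 ^ 5 + by2 1 ^ 5 + by2 2 ^ 5 ≠ 0) ∧ (by3 0 ^ 5 + by3 1 ^ 5 + by3 2 ^ 5 ≠ 0) := by decide +kernel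

/-- the check of a block -/
def BlockOk (y : V) (x : Fin 5 → V) (cl : Fin 5 → Fin 5) : Prop :=
  (∀ i : Fin 5, x i ∈ orbF (cl i) ∧ x i 0 * y 0 ^ 4 + x i 1 * y 1 ^ 4 + x i 2 * y 2 ^ 4 = 0) ∧
  (∀ i j : Fin 5, i ≠ j → ∀ l : F16, x i ≠ l • x j)

instance (y : V) (x : Fin 5 → V) (cl : Fin 5 → Fin 5) : Decidable (BlockOk y x cl) := by
  unfold BlockOk; infer_instance

theorem bx_chk : BlockOk by0 bx0 bc0 ∧ BlockOk by1 bx1 bc1 ∧ BlockOk by2 bx2 bc2 ∧ BlockOk by3 bx3 bc3 := by
  decide +kernel

theorem f0_chk : f0 ![c 0, c 1, c 1] - f0 ![c 0, c 1, c 8] ≠ 0 := by decide +kernel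

theorem lin_chk : ∀ a0 a1 a2 a3 a4 : ZMod 5, a2 + a3 + a4 + a4 + a2 = 0 → a2 + a3 + a3 + a4 + a2 = 0 →
    a2 + a2 + a4 + a1 + a4 = 0 → a4 + a3 + a4 + a0 + a3 = 0 →
    a0 = a4 ∧ a1 = a4 ∧ a2 = a4 ∧ a3 = a4 := by decide +kernel

end Cfsg.Agent.Helper14.U34
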