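import Mathlib
import Cfsg.Agent.Helper14.U34Data
import Cfsg.Agent.Helper14.SU316

/-!
# The Hermitian unital of order four: the module of the differences is nonzero and the elements of order 13
have no fixed points on it
-/

set_option autoImplicit false
set_option maxRecDepth 100000

namespace Cfsg.Agent.Helper14.U34

open Cfsg.Agent.Helper14 Cfsg.Agent.Helper14.SemiFun Matrix

theorem vec_eta (x : V) : x = ![x 0, x 1, x 2] := by
  funext i
  fin_cases i <;> rfl

theorem h_eq (v y : V) : h v y = v 0 * y 0 ^ 4 + v 1 * y 1 ^ 4 + v 2 * y 2 ^ 4 := by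
  simp [h, Cfsg.hermForm, Fin.sum_univ_three]

theorem h_self (x : V) : h x x = x 0 ^ 5 + x 1 ^ 5 + x 2 ^ 5 := by
  rw [h_eq]
  ring

theorem ne_zero_iff (x : V) : x ≠ 0 ↔ ¬(x 0 = 0 ∧ x 1 = 0 ∧ x 2 = 0) := by
  constructor
  · intro hx h0
    apply hx
    funext i
    fin_cases i
    · exact h0.1
    · exact h0.2.1
    · exact h0.2.2
  · intro hx h0
    apply hx
    rw [h0]
    exact ⟨rfl, rfl, rfl⟩

theorem lead_ne {x : V} (hx : x ≠ 0) : lead x ≠ 0 := by
  unfold lead
  split_ifs with h0 h1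
  · exact h0
  · exact h1
  · intro h2
    apply (ne_zero_iff x).mp hx
    exact ⟨not_not.mp h0, not_not.mp h1, h2⟩

theorem lead_smul (x : V) {l : F16} (hl : l ≠ 0) : lead (l • x) = l * lead x := by
  unfold lead
  have e : ∀ i, (l • x) i = l * x i := fun i => rfl
  have e0 : ∀ i, (l * x i ≠ 0 ↔ x i ≠ 0) := fun i => by
    rw [Ne, mul_eq_zero, not_or]
    exact ⟨fun hh => hh.2, fun hh => ⟨hl, hh⟩⟩
  simp only [e, e0]
  split_ifs <;> rfl

theorem nrm_smul (x : V) {l : F16} (hl : l ≠ 0) : nrm (l • x) = nrm x := by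
  unfold nrm
  rw [lead_smul x hl, smul_smul, _root_.mul_inv_rev, mul_assoc, inv_mul_cancel₀ hl, mul_one]

theorem smul_nrm {x : V} (hx : x ≠ 0) : lead x • nrm x = x := by
  unfold nrm
  rw [smul_smul, mul_inv_cancel₀ (lead_ne hx), one_smul]

theorem nrm_ne {x : V} (hx : x ≠ 0) : nrm x ≠ 0 := by
  intro h0
  apply hx
  rw [← smul_nrm hx, h0, smul_zero]

theorem nrmd_nrm {x : V} (hx : x ≠ 0) : Nrmd (nrm x 0) (nrm x 1) (nrm x 2) := by
  unfold Nrmd nrm lead
  have e : ∀ (l : F16) i, (l • x) i = l * x i := fun l i => rfl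
  simp only [e]
  split_ifs with h0 h1
  · left
    exact inv_mul_cancel₀ h0
  · right; left
    rw [not_not.mp h0]
    exact ⟨mul_zero _, inv_mul_cancel₀ h1⟩
  · right; right
    rw [not_not.mp h0, not_not.mp h1]
    refine ⟨mul_zero _, mul_zero _, ?_⟩
    apply inv_mul_cancel₀
    intro h2
    apply (ne_zero_iff x).mp hx
    exact ⟨not_not.mp h0, not_not.mp h1, h2⟩

theorem isIso_nrm {x : V} (hx : IsIso x) : IsIso (nrm x) :=
  isIso_smul hx (inv_ne_zero (lead_ne hx.1))

theorem nrm_mem {x : V} (hx : IsIso x) : nrm x ∈ normIsoList := by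
  have h1 := isIso_nrm hx
  have h2 := nrmd_nrm hx.1
  have h3 := h1.2
  rw [h_self] at h3
  have := nrm_mem_chk _ _ _ h2 h3
  rw [← vec_eta] at this
  exact this

theorem isIso_of_mem {v : V} (hv : v ∈ normIsoList) : IsIso v := by
  have := List.all_eq_true.mp iso_chk v hv
  rw [decide_eq_true_eq] at this
  refine ⟨(ne_zero_iff v).mpr this.1, ?_⟩
  rw [h_self]
  exact this.2

/-! ### the function lies in the module -/

theorem f0_smul (x : V) (l : F16) (hl : l ≠ 0) : f0 (l • x) = f0 x := by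
  unfold f0
  rw [nrm_smul x hl]

theorem f0_block (y : V) (x : Fin 5 → V) (hy : h y y ≠ 0) (h1 : ∀ i, IsIso (x i) ∧ h (x i) y = 0)
    (h2 : ∀ i j, i ≠ j → ∀ l : F16, x i ≠ l • x j) : ∑ i, f0 (x i) = 0 := by
  classical
  have hy0 : y ≠ 0 := by
    intro h0
    apply hy
    rw [h0]
    simp [h, Cfsg.hermForm]
  set y' := nrm y with hy'
  have hyy' : lead y • y' = y := smul_nrm hy0
  have hl := lead_ne hy0
  have hnd := nrmd_nrm hy0
  have hy'n : y' 0 ^ 5 + y' 1 ^ 5 + y' 2 ^ 5 ≠ 0 := by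
    rw [← h_self]
    intro h0
    apply hy
    rw [← hyy', h_smul_left, h_smul_right, h0, mul_zero, mul_zero]
  obtain ⟨hlen, hsum⟩ := block_chk _ _ _ hnd hy'n
  set Ly := normIsoList.filter (fun v => v 0 * y' 0 ^ 4 + v 1 * y' 1 ^ 4 + v 2 * y' 2 ^ 4 = 0) with hLy
  have hnd' : Ly.Nodup := nodup_chk.filter _
  let n : Fin 5 → V := fun i => nrm (x i)
  have hn_mem : ∀ i, n i ∈ Ly.toFinset := by
    intro i
    rw [List.mem_toFinset, hLy, List.mem_filter]
    refine ⟨nrm_mem (h1 i).1, ?_⟩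
    rw [decide_eq_true_eq, ← h_eq]
    have e1 : h (x i) y = 0 := (h1 i).2
    rw [← hyy', h_smul_right] at e1
    have e2 : h (x i) y' = 0 := by
      rcases mul_eq_zero.mp e1 with e | e
      · exact absurd (pow_eq_zero_iff (by norm_num) |>.mp e) hl
      · exact e
    show h (nrm (x i)) y' = 0
    unfold nrm
    rw [h_smul_left, e2, mul_zero]
  have hn_inj : Function.Injective n := by
    intro i j hij
    by_contra hne
    apply h2 i j hne (lead (x i) * (lead (x j))⁻¹)
    have e1 := smul_nrm (h1 i).1.1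
    have hij' : nrm (x i) = nrm (x j) := hij
    have e3 : nrm (x j) = (lead (x j))⁻¹ • x j := rfl
    calc x i = lead (x i) • nrm (x i) := e1.symm
      _ = lead (x i) • nrm (x j) := by rw [hij']
      _ = (lead (x i) * (lead (x j))⁻¹) • x j := by rw [e3, smul_smul]
  have himg : Finset.univ.image n = Ly.toFinset := by
    apply Finset.eq_of_subset_of_card_le
    · intro v hv
      obtain ⟨i, _, rfl⟩ := Finset.mem_image.mp hv
      exact hn_mem i
    · rw [Finset.card_image_of_injective _ hn_inj, List.toFinset_card_of_nodup hnd', hlen]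
      simp
  have e3 : ∑ i, f0 (x i) = ∑ v ∈ Finset.univ.image n, g0 v := by
    rw [Finset.sum_image (fun i _ j _ hij => hn_inj hij)]
    rfl
  rw [e3, himg, List.sum_toFinset _ hnd']
  exact hsum

theorem f0_isM : IsM f0 := ⟨f0_smul, f0_block⟩

/-! ### the element of order 13 -/

theorem card_F16 : Fintype.card F16 = 4 ^ 2 := by rw [F16.card]; norm_num

/-- the element of order 13 -/
noncomputable def u : G0 :=
  SU316.mkSU card_F16 (RingHom.id F16) SU316.m13 SU316.m13_det SU316.m13_U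

theorem mat_u : mat u = SU316.m13 := by
  ext i j
  rfl

theorem orderOf_u : orderOf u = 13 := by
  rw [u, SU316.orderOf_mkSU card_F16 (RingHom.id F16) Function.injective_id, SU316.order_m13]

theorem u_pow : u ^ 13 = 1 := by
  rw [← orderOf_u]
  exact pow_orderOf_eq_one u

theorem umul_eq (x : V) : rho1 u x = umul x := by
  rw [rho1_apply, mat_u]
  funext i
  fin_cases i <;>
    simp [SU316.m13, umul, Matrix.mulVec, dotProduct, Fin.sum_univ_three, SU316.c]

/-! ### invariant functions are constant -/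

theorem chain_const (f : V → ZMod 5) : ∀ (a : V) (L : List V),
    (∀ p ∈ (a :: L).zip L, f p.2 = f p.1) → ∀ v ∈ a :: L, f v = f a
  | a, [], _, v, hv => by
    rw [List.mem_singleton] at hv
    rw [hv]
  | a, b :: L, hch, v, hv => by
    have hab : f b = f a := hch (a, b) (by simp)
    rcases List.mem_cons.mp hv with rfl | hv'
    · rfl
    · rw [chain_const f b L (fun p hp => hch p (by
        rw [List.zip_cons_cons]
        exact List.mem_cons_of_mem _ hp)) v hv', hab]

theorem mem_orbL (i : Fin 5) : orbF i ∈ orbL := by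
  fin_cases i <;> simp [orbF, orbL]

theorem exists_orbF {L : List V} (hL : L ∈ orbL) : ∃ i, L = orbF i := by
  simp only [orbL, List.mem_cons, List.mem_nil_iff, or_false] at hL
  rcases hL with rfl | rfl | rfl | rfl | rfl
  · exact ⟨0, rfl⟩
  · exact ⟨1, rfl⟩
  · exact ⟨2, rfl⟩
  · exact ⟨3, rfl⟩
  · exact ⟨4, rfl⟩

section const

variable (f : V → ZMod 5) (hf : IsM f) (hinv : ∀ p, IsIso p → f (rho1 u p) = f p)

include hf hinv

theorem step_eq {p : V} (hp : IsIso p) : f (nrm (umul p)) = f p := by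
  have h1 : IsIso (umul p) := by
    rw [← umul_eq]
    exact isIso_map hp u
  unfold nrm
  rw [hf.1 _ _ (inv_ne_zero (lead_ne h1.1)), ← umul_eq, hinv p hp]

theorem orb_const {L : List V} (hL : L ∈ orbL) : ∀ v ∈ L, f v = f (L.headD 0) := by
  have hch := List.all_eq_true.mp chain_chk L hL
  have hsub : ∀ v ∈ L, v ∈ normIsoList := fun v hv => List.mem_flatten.mpr ⟨L, hL, hv⟩
  cases L with
  | nil =>
    intro v hv
    simp at hv
  | cons a L' =>
    intro v hv
    show f v = f a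
    apply chain_const f a L' _ v hv
    intro p hp
    have h1 := List.all_eq_true.mp hch p hp
    rw [decide_eq_true_eq] at h1
    rw [← h1]
    apply step_eq f hf hinv
    have h2 : (p.1, p.2) ∈ (a :: L').zip L' := hp
    exact isIso_of_mem (hsub _ (List.of_mem_zip h2).1)

theorem block_rel (y : V) (x : Fin 5 → V) (cl : Fin 5 → Fin 5)
    (hy : y 0 ^ 5 + y 1 ^ 5 + y 2 ^ 5 ≠ 0) (hb : BlockOk y x cl) :
    ∑ k, f ((orbF (cl k)).headD 0) = 0 := by
  have h1 : ∀ i, IsIso (x i) ∧ h (x i) y = 0 := by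
    intro i
    refine ⟨isIso_of_mem (List.mem_flatten.mpr ⟨_, mem_orbL (cl i), (hb.1 i).1⟩), ?_⟩
    rw [h_eq]
    exact (hb.1 i).2
  have h2 := hf.2 y x (by rw [h_self]; exact hy) h1 hb.2
  rw [← h2]
  apply Finset.sum_congr rfl
  intro k _
  exact (orb_const f hf hinv (mem_orbL (cl k)) (x k) (hb.1 k).1).symm

theorem heads_eq : ∀ i : Fin 5, f ((orbF i).headD 0) = f ((orbF 4).headD 0) := by
  have r0 := block_rel f hf hinv by0 bx0 bc0 by_chk.1 bx_chk.1
  have r1 := block_rel f hf hinv by1 bx1 bc1 by_chk.2.1 bx_chk.2.1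
  have r2 := block_rel f hf hinv by2 bx2 bc2 by_chk.2.2.1 bx_chk.2.2.1
  have r3 := block_rel f hf hinv by3 bx3 bc3 by_chk.2.2.2 bx_chk.2.2.2
  rw [Fin.sum_univ_five] at r0 r1 r2 r3
  have key := lin_chk (f ((orbF 0).headD 0)) (f ((orbF 1).headD 0)) (f ((orbF 2).headD 0))
    (f ((orbF 3).headD 0)) (f ((orbF 4).headD 0)) r0 r1 r2 r3
  intro i
  fin_cases i
  · exact key.1
  · exact key.2.1
  · exact key.2.2.1
  · exact key.2.2.2
  · rfl

theorem const_of_inv : ∀ p q, IsIso p → IsIso q → f p = f q := by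
  have key : ∀ p, IsIso p → f p = f ((orbF 4).headD 0) := by
    intro p hp
    have e1 : f p = f (nrm p) := by
      conv_lhs => rw [← smul_nrm hp.1]
      exact hf.1 _ _ (lead_ne hp.1)
    obtain ⟨L, hL, hmem⟩ := List.mem_flatten.mp (nrm_mem hp)
    obtain ⟨i, rfl⟩ := exists_orbF hL
    rw [e1, orb_const f hf hinv hL _ hmem, heads_eq f hf hinv i]
  intro p q hp hq
  rw [key p hp, key q hq]

end const

/-! ### the main results -/

theorem mem_chk : (![c 0, c 1, c 1] : V) ∈ normIsoList ∧ (![c 0, c 1, c 8] : V) ∈ normIsoList := by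
  decide +kernel

theorem fix_u : ∀ F ∈ Wsub, (∀ y, F ((rho2 u)⁻¹ y) = F y) → F = 0 :=
  fix_of_const u u_pow _ (isIso_of_mem mem_chk.1) (fun f hf hinv => const_of_inv f hf hinv)

theorem card_G0 : Nat.card G0 = 62400 := SU316.card_SU16 F16.card

/-- the elements of order 13 fix no nonzero element of the module -/
theorem fpf (g : G0) (hg : orderOf g = 13) :
    ∀ F ∈ Wsub, (∀ y, F ((rho2 g)⁻¹ y) = F y) → F = 0 :=
  fpf_of_one (by rw [card_G0]; norm_num) u orderOf_u fix_u g hg

open Classical in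
/-- a nonzero element of the module -/
noncomputable def F0 : V × V → ZMod 5 :=
  fun pq => if IsIso pq.1 ∧ IsIso pq.2 then f0 pq.1 - f0 pq.2 else 0

theorem F0_mem : F0 ∈ Wsub :=
  ⟨f0, f0_isM, fun _ _ => ⟨fun hp hq => if_pos ⟨hp, hq⟩, fun hn => if_neg hn⟩⟩

theorem F0_ne : F0 ≠ 0 := by
  intro h0
  have h1 := congrFun h0 (![c 0, c 1, c 1], ![c 0, c 1, c 8])
  have h2 : F0 (![c 0, c 1, c 1], ![c 0, c 1, c 8]) = f0 ![c 0, c 1, c 1] - f0 ![c 0, c 1, c 8] :=
    if_pos ⟨isIso_of_mem mem_chk.1, isIso_of_mem mem_chk.2⟩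
  rw [h2] at h1
  exact f0_chk h1

end Cfsg.Agent.Helper14.U34
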