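import Mathlib
import Cfsg.Agent.Helper14.U34Fix
import Cfsg.Agent.Helper17.SolvRad

/-!
# Groups with the prime graph of `PSU₃(4)`: the split extension and the arithmetic
-/

set_option autoImplicit false

namespace Cfsg.Agent.Helper14.U34

open Cfsg.Agent.Helper14 Cfsg.Agent.Helper14.SemiFun

/-- the element orders divide 20, 50, 75 or 13, and the orders 10, 13, 15 occur -/
def Good (A : Type*) [Group A] : Prop :=
  (∀ x : A, orderOf x ∣ 20 ∨ orderOf x ∣ 50 ∨ orderOf x ∣ 75 ∨ orderOf x ∣ 13) ∧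
    (∃ x : A, orderOf x = 10) ∧ (∃ x : A, orderOf x = 13) ∧ (∃ x : A, orderOf x = 15)

theorem prime_cases {p : ℕ} (hp : p.Prime) (h : p ∣ 20 ∨ p ∣ 50 ∨ p ∣ 75 ∨ p ∣ 13) :
    p = 2 ∨ p = 3 ∨ p = 5 ∨ p = 13 := by
  have h20 : (20 : ℕ) = 2 * 2 * 5 := by norm_num
  have h50 : (50 : ℕ) = 2 * 5 * 5 := by norm_num
  have h75 : (75 : ℕ) = 3 * 5 * 5 := by norm_num
  have e : ∀ r : ℕ, r.Prime → p ∣ r → p = r := fun r hr hd => (Nat.prime_dvd_prime_iff_eq hp hr).mp hd
  have p2 := Nat.prime_two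
  have p3 := Nat.prime_three
  have p5 := Nat.prime_five
  have p13 : Nat.Prime 13 := by norm_num
  rcases h with h | h | h | h
  · rw [h20] at h
    rcases (Nat.Prime.dvd_mul hp).mp h with h | h
    · rcases (Nat.Prime.dvd_mul hp).mp h with h | h
      · exact Or.inl (e 2 p2 h)
      · exact Or.inl (e 2 p2 h)
    · exact Or.inr (Or.inr (Or.inl (e 5 p5 h)))
  · rw [h50] at h
    rcases (Nat.Prime.dvd_mul hp).mp h with h | h
    · rcases (Nat.Prime.dvd_mul hp).mp h with h | h
      · exact Or.inl (e 2 p2 h)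
      · exact Or.inr (Or.inr (Or.inl (e 5 p5 h)))
    · exact Or.inr (Or.inr (Or.inl (e 5 p5 h)))
  · rw [h75] at h
    rcases (Nat.Prime.dvd_mul hp).mp h with h | h
    · rcases (Nat.Prime.dvd_mul hp).mp h with h | h
      · exact Or.inr (Or.inl (e 3 p3 h))
      · exact Or.inr (Or.inr (Or.inl (e 5 p5 h)))
    · exact Or.inr (Or.inr (Or.inl (e 5 p5 h)))
  · exact Or.inr (Or.inr (Or.inr (e 13 p13 h)))

theorem pq_cases {p q : ℕ} (hp : p.Prime) (hq : q.Prime) (hne : p ≠ q)
    (h : p * q ∣ 20 ∨ p * q ∣ 50 ∨ p * q ∣ 75 ∨ p * q ∣ 13) : p * q = 10 ∨ p * q = 15 := by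
  have hp' : p ∣ 20 ∨ p ∣ 50 ∨ p ∣ 75 ∨ p ∣ 13 := by
    rcases h with h | h | h | h
    · exact Or.inl ((Dvd.intro _ rfl).trans h)
    · exact Or.inr (Or.inl ((Dvd.intro _ rfl).trans h))
    · exact Or.inr (Or.inr (Or.inl ((Dvd.intro _ rfl).trans h)))
    · exact Or.inr (Or.inr (Or.inr ((Dvd.intro _ rfl).trans h)))
  have hq' : q ∣ 20 ∨ q ∣ 50 ∨ q ∣ 75 ∨ q ∣ 13 := by
    rcases h with h | h | h | h
    · exact Or.inl ((Dvd.intro_left _ rfl).trans h)
    · exact Or.inr (Or.inl ((Dvd.intro_left _ rfl).trans h))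
    · exact Or.inr (Or.inr (Or.inl ((Dvd.intro_left _ rfl).trans h)))
    · exact Or.inr (Or.inr (Or.inr ((Dvd.intro_left _ rfl).trans h)))
  rcases prime_cases hp hp' with rfl | rfl | rfl | rfl <;>
    rcases prime_cases hq hq' with rfl | rfl | rfl | rfl <;>
    first
      | exact absurd rfl hne
      | (left; rfl)
      | (right; rfl)
      | (exfalso; revert h; decide)

theorem good_primes {A : Type*} [Group A] [Finite A] (hA : Good A) {p : ℕ} (hp : p.Prime) :
    p ∣ Nat.card A ↔ (p = 2 ∨ p = 3 ∨ p = 5 ∨ p = 13) := by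
  constructor
  · intro hd
    have : Fact p.Prime := ⟨hp⟩
    obtain ⟨x, hx⟩ := exists_prime_orderOf_dvd_card' p hd
    have := hA.1 x
    rw [hx] at this
    exact prime_cases hp this
  · obtain ⟨_, ⟨x10, h10⟩, ⟨x13, h13⟩, ⟨x15, h15⟩⟩ := hA
    have d10 : 10 ∣ Nat.card A := h10 ▸ orderOf_dvd_natCard x10
    have d13 : 13 ∣ Nat.card A := h13 ▸ orderOf_dvd_natCard x13
    have d15 : 15 ∣ Nat.card A := h15 ▸ orderOf_dvd_natCard x15
    rintro (rfl | rfl | rfl | rfl)
    · exact (by norm_num : 2 ∣ 10).trans d10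
    · exact (by norm_num : 3 ∣ 15).trans d15
    · exact (by norm_num : 5 ∣ 10).trans d10
    · exact d13

theorem good_pq {A : Type*} [Group A] (hA : Good A) {p q : ℕ} (hp : p.Prime) (hq : q.Prime)
    (hne : p ≠ q) : (∃ x : A, orderOf x = p * q) ↔ (p * q = 10 ∨ p * q = 15) := by
  constructor
  · rintro ⟨x, hx⟩
    have := hA.1 x
    rw [hx] at this
    exact pq_cases hp hq hne this
  · rintro (h | h)
    · rw [h]
      exact hA.2.1
    · rw [h]
      exact hA.2.2.2

theorem good_of_range {A B : Type*} [Group A] [Group B]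
    (h : Set.range (orderOf : B → ℕ) = Set.range (orderOf : A → ℕ)) (hA : Good A) : Good B := by
  have hmem : ∀ n, (∃ x : B, orderOf x = n) ↔ (∃ x : A, orderOf x = n) := by
    intro n
    have := Set.ext_iff.mp h n
    simpa [Set.mem_range] using this
  refine ⟨?_, (hmem 10).mpr hA.2.1, (hmem 13).mpr hA.2.2.1, (hmem 15).mpr hA.2.2.2⟩
  intro x
  obtain ⟨y, hy⟩ := (hmem (orderOf x)).mp ⟨x, rfl⟩
  rw [← hy]
  exact hA.1 y

theorem good_of_equiv {A B : Type*} [Group A] [Group B] (e : A ≃* B) (hA : Good A) : Good B := by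
  apply good_of_range _ hA
  ext n
  constructor
  · rintro ⟨x, rfl⟩
    exact ⟨e.symm x, e.symm.orderOf_eq x⟩
  · rintro ⟨x, rfl⟩
    exact ⟨e x, e.orderOf_eq x⟩

/-- the special unitary group is good -/
theorem good_SU {F : Type*} [Field F] [Fintype F] (hF : Fintype.card F = 16) :
    Good (Cfsg.SU 3 F 4) := by
  obtain ⟨h10, h13, h15⟩ := SU316.exists_orders hF
  refine ⟨?_, h10, h13, h15⟩
  intro x
  rcases SU316.orderOf_dvd_cases hF x with h | h | h | h
  · exact Or.inl (h.trans (by norm_num))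
  · exact Or.inr (Or.inl (h.trans (by norm_num)))
  · exact Or.inr (Or.inr (Or.inr h))
  · exact Or.inr (Or.inr (Or.inl (h.trans (by norm_num))))

/-- the projective special unitary group is good -/
theorem good_PSU {F : Type*} [Field F] [Fintype F] (hF : Fintype.card F = 16) :
    Good (Cfsg.PSU 3 F 4) :=
  good_of_equiv (SU316.eSU hF) (good_SU hF)

/-! ### the split extension -/

/-- the split extension of the module by the special unitary group -/
abbrev H1 : Type := ↥(SemiFun.ext Wsub_inv)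

theorem W_exp : ∀ w ∈ Wsub, 5 • w = 0 := fun w _ => five_smul w

/-- the embedding of the special unitary group -/
def iota : G0 →* H1 where
  toFun g := ⟨SemidirectProduct.inr g, Wsub.zero_mem⟩
  map_one' := by
    apply Subtype.ext
    exact map_one _
  map_mul' a b := by
    apply Subtype.ext
    exact map_mul _ a b

theorem iota_injective : Function.Injective iota := by
  intro a b hab
  have := congrArg (fun x : H1 => x.1.right) hab
  exact this

theorem orderOf_iota (g : G0) : orderOf (iota g) = orderOf g :=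
  orderOf_injective iota iota_injective g

theorem good_H1 : Good H1 := by
  have hG := good_SU F16.card
  refine ⟨?_, ?_, ?_, ?_⟩
  · rintro ⟨a, ha⟩
    rw [Subgroup.orderOf_mk a ha]
    have key : ∀ n : ℕ, a.right ^ n = 1 → orderOf a ∣ n * 5 := by
      intro n hn
      apply orderOf_dvd_of_pow_eq_one
      rw [pow_mul]
      exact pow_pow_eq_one Wsub_inv 5 W_exp a ha n hn
    rcases SU316.pow_cases F16.card a.right with h | h | h | h
    · exact Or.inl (key 4 h)
    · exact Or.inr (Or.inl (key 10 h))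
    · have hd : orderOf a.right ∣ 13 := orderOf_dvd_of_pow_eq_one h
      rcases (Nat.dvd_prime (by norm_num : Nat.Prime 13)).mp hd with h1 | h13
      · have h1' : a.right ^ 1 = 1 := by
          rw [pow_one]
          exact orderOf_eq_one_iff.mp h1
        exact Or.inl ((key 1 h1').trans (by norm_num))
      · refine Or.inr (Or.inr (Or.inr ?_))
        apply orderOf_dvd_of_pow_eq_one
        exact pow_eq_one_of_fpf Wsub_inv a ha 13 h (fpf a.right h13)
    · exact Or.inr (Or.inr (Or.inl (key 15 h)))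
  · obtain ⟨g, hg⟩ := hG.2.1
    exact ⟨iota g, by rw [orderOf_iota, hg]⟩
  · obtain ⟨g, hg⟩ := hG.2.2.1
    exact ⟨iota g, by rw [orderOf_iota, hg]⟩
  · obtain ⟨g, hg⟩ := hG.2.2.2
    exact ⟨iota g, by rw [orderOf_iota, hg]⟩

instance : Finite H1 := inferInstance

/-- arbitrarily large good groups -/
theorem exists_large_good (N : ℕ) :
    ∃ (H : Type) (_ : Group H) (_ : Fintype H), N < Fintype.card H ∧ Good H := by
  obtain ⟨G', hG', hF', hcard, hsp⟩ := Cfsg.Agent.Helper17.exists_large_isospectral N H1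
    (SemiFun.ker Wsub_inv) (SemiFun.ker_normal Wsub_inv) (SemiFun.ker_ne_bot Wsub_inv F0 F0_mem F0_ne) 5
    (by norm_num) (SemiFun.ker_exp Wsub_inv 5 W_exp)
  obtain ⟨H, hH, hFH, hcardH, hspH⟩ := Cfsg.Agent.Helper17.exists_small_model G'
  refine ⟨H, hH, hFH, ?_, good_of_range (hspH.trans hsp) good_H1⟩
  rw [hcardH]
  calc N < 2 ^ N := Nat.lt_two_pow_self
    _ ≤ 2 ^ N * Nat.card H1 := Nat.le_mul_of_pos_right _ Nat.card_pos
    _ ≤ Nat.card G' := hcard

end Cfsg.Agent.Helper14.U34
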