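import Cfsg.Agent.Helper14.WeaklyClosed2

set_option autoImplicit false
set_option linter.unusedSectionVars false

namespace Cfsg.Agent.Helper14

open Cfsg
open scoped commutatorElement Pointwise

section

variable {H : Type*} [Group H] [Finite H] {p : ℕ} [Fact p.Prime]

/-- `N = N_N(Q) [N,Q]` for `Q` weakly closed, `N` normal -/
theorem wcs_normal_eq_normalizer_mul_commutator {Q : Subgroup H} (hQp : IsPGroup p ↥Q)
    (hwc : IsWeaklyClosedSubgroup p Q) (N' : Subgroup H) [hN : N'.Normal] :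
    ∀ n : H, n ∈ N' → ∃ a ∈ N' ⊓ Subgroup.normalizer (Q : Set H), ∃ b ∈ ⁅N', Q⁆, n = a * b := by
  intro n hn
  set N₁ := ⁅N', Q⁆ with hN₁
  have hN₁N : N₁ ≤ N' := Subgroup.commutator_le_left N' Q
  have hQN₁ : Q ≤ Subgroup.normalizer (N₁ : Set H) := le_normalizer_commutator_right N' Q
  set K := N₁ ⊔ Q with hK
  have h1 : Q.map (cj n⁻¹) ≤ K := by
    rintro _ ⟨q, hq, rfl⟩
    have : cj n⁻¹ q = ⁅n⁻¹, q⁆ * q := by rw [cj_apply, commutatorElement_def]; group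
    rw [this]
    exact Subgroup.mul_mem _
      (Subgroup.mem_sup_left (Subgroup.commutator_mem_commutator (N'.inv_mem hn) hq))
      (Subgroup.mem_sup_right hq)
  obtain ⟨k, hkK, hk⟩ := wcs_conj_in_subgroup hQp hwc (le_sup_right : Q ≤ K) n⁻¹ h1
  have hkK' : k ∈ ((N₁ ⊔ Q : Subgroup H) : Set H) := hkK
  rw [Subgroup.coe_mul_of_right_le_normalizer_left _ _ hQN₁] at hkK'
  obtain ⟨b', hb', q, hq, rfl⟩ := hkK'
  have hq' : Q.map (cj q) = Q := map_cj_eq_self_of_mem hq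
  have h2 : Q.map (cj n⁻¹) = Q.map (cj b') := by
    rw [hk, ← map_cj_mul, hq']
  have h3 : Q.map (cj (n * b')) = Q := by
    have := congrArg (Subgroup.map (cj n)) h2
    rw [map_cj_inv_map_cj, map_cj_mul] at this
    exact this.symm
  refine ⟨n * b', ⟨N'.mul_mem hn (hN₁N hb'), mem_normalizer_iff_map_cj.2 h3⟩, b'⁻¹,
    N₁.inv_mem hb', by group⟩

/-- S2841 -/
theorem wcs_commutator_factorizations (Q : Subgroup H) (hQp : IsPGroup p ↥Q)
    (hwc : IsWeaklyClosedSubgroup p Q) (N' : Subgroup H) [hN : N'.Normal] :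
    (∀ n : H, n ∈ N' →
      ∃ a ∈ N' ⊓ Subgroup.normalizer (Q : Set H), ∃ b ∈ ⁅N', Q⁆, n = a * b) ∧
    (∀ c : H, c ∈ ⁅N', Q⁆ → ∃ a ∈ Q ⊓ ⁅N', Q⁆, ∃ b ∈ ⁅⁅N', Q⁆, Q⁆, c = a * b) := by
  have hpart1 := wcs_normal_eq_normalizer_mul_commutator hQp hwc N'
  refine ⟨hpart1, ?_⟩
  set N₁ := ⁅N', Q⁆ with hN₁
  set N₂ := ⁅N₁, Q⁆ with hN₂
  have hN₁N : N₁ ≤ N' := Subgroup.commutator_le_left N' Q
  have hNN₁ : N' ≤ Subgroup.normalizer (N₁ : Set H) := le_normalizer_commutator_left N' Q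
  have hN₁N₂ : N₁ ≤ Subgroup.normalizer (N₂ : Set H) := le_normalizer_commutator_left N₁ Q
  have hQN₂ : Q ≤ Subgroup.normalizer (N₂ : Set H) := le_normalizer_commutator_right N₁ Q
  have hle : N₁ ≤ (Q ⊓ N₁) ⊔ N₂ := by
    rw [hN₁, Subgroup.commutator_le]
    intro n hn q hq
    obtain ⟨a, ⟨haN, haQ⟩, b, hb, rfl⟩ := hpart1 n hn
    have e : ⁅a * b, q⁆ = a * ⁅b, q⁆ * a⁻¹ * ⁅a, q⁆ := by
      simp only [commutatorElement_def]; group
    rw [e]
    apply Subgroup.mul_mem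
    · apply Subgroup.mem_sup_right
      have hbq : ⁅b, q⁆ ∈ N₂ := Subgroup.commutator_mem_commutator hb hq
      have haN₂ : N₂.map (cj a) = N₂ := by
        rw [hN₂, Subgroup.map_commutator, mem_normalizer_iff_map_cj.1 (hNN₁ haN),
          mem_normalizer_iff_map_cj.1 haQ]
      rw [← haN₂]
      exact ⟨_, hbq, rfl⟩
    · apply Subgroup.mem_sup_left
      refine ⟨?_, Subgroup.commutator_mem_commutator haN hq⟩
      have h1 : a * q * a⁻¹ ∈ Q := ((Subgroup.mem_normalizer_iff.1 haQ) q).1 hq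
      have : ⁅a, q⁆ = a * q * a⁻¹ * q⁻¹ := commutatorElement_def a q
      rw [this]
      exact Q.mul_mem h1 (Q.inv_mem hq)
  intro c hc
  have hc' : c ∈ (((Q ⊓ N₁) ⊔ N₂ : Subgroup H) : Set H) := hle hc
  rw [Subgroup.coe_mul_of_left_le_normalizer_right _ _
    (le_trans inf_le_right hN₁N₂)] at hc'
  obtain ⟨a, ha, b, hb, rfl⟩ := hc'
  exact ⟨a, ha, b, hb, rfl⟩

end

end Cfsg.Agent.Helper14
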